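import Groth.Agent.Lib.Helper11.RDer1
import Groth.Agent.Lib.Helper29.KInjE
import Mathlib.Algebra.Homology.DerivedCategory.KInjective

/-!
# Functorial K-injective resolutions on `K(𝒜)`; absolute right derived functors (helper11)

Dual of `Groth.Agent.Lib.Helper3.KP1`, for a Grothendieck abelian category `𝒜`, on top of
helper29's K-injective resolutions.

* `KI.IF : K(𝒜) ⥤ K(𝒜)`, `KI.ι : 𝟭 ⟶ IF`: a (chosen) functorial K-injective resolution.
* `KI.isRightDerivedFunctor_of_isIso`: a functor `G : D(𝒜) ⥤ H` with `β : F ⟶ Qh ⋙ G` which is an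
  isomorphism on K-injective complexes is a right derived functor of `F : K(𝒜) ⥤ H`.
* `KI.hasRightDerivedFunctor`: every functor on `K(𝒜)` has a right derived functor.
* `KI.isIso_unit`: the unit of any right derived functor is an isomorphism on K-injectives.
* `KI.isRightDerivedFunctor_comp`: right derived functors on `K(𝒜)` are absolute.
-/

set_option autoImplicit false

open CategoryTheory CategoryTheory.Limits

universe w v u

namespace Groth.Agent.Helper11.KI

variable (𝒜 : Type u) [Category.{v} 𝒜] [Abelian 𝒜]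

/-- the homotopy category -/
abbrev KA := HomotopyCategory 𝒜 (ComplexShape.up ℤ)

/-- the quotient functor -/
abbrev quo := HomotopyCategory.quotient 𝒜 (ComplexShape.up ℤ)

/-- quasi-isomorphisms in `K(𝒜)` -/
abbrev WK := HomotopyCategory.quasiIso 𝒜 (ComplexShape.up ℤ)

variable {𝒜}

section

variable [HasDerivedCategory.{w} 𝒜]

theorem bijective_comp_of_W (I : CochainComplex 𝒜 ℤ) [I.IsKInjective] {Y Y' : KA 𝒜} (w : Y ⟶ Y')
    (hw : WK 𝒜 w) : Function.Bijective (fun g : Y' ⟶ (quo 𝒜).obj I => w ≫ g) := by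
  haveI : IsIso (DerivedCategory.Qh.map w) := Localization.inverts _ (WK 𝒜) w hw
  have h1 := CochainComplex.IsKInjective.Qh_map_bijective Y I
  have h2 := CochainComplex.IsKInjective.Qh_map_bijective Y' I
  constructor
  · intro g₁ g₂ h
    apply h2.1
    have := congrArg (fun t => DerivedCategory.Qh.map t) h
    simp only [Functor.map_comp] at this
    exact (cancel_epi _).mp this
  · intro g'
    obtain ⟨g, hg⟩ := h2.2 (inv (DerivedCategory.Qh.map w) ≫ DerivedCategory.Qh.map g')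
    refine ⟨g, h1.1 ?_⟩
    simp [hg]

theorem isIso_of_W {I I' : CochainComplex 𝒜 ℤ} [I.IsKInjective] [I'.IsKInjective]
    (g : (quo 𝒜).obj I ⟶ (quo 𝒜).obj I') (hg : WK 𝒜 g) : IsIso g := by
  obtain ⟨h, hh⟩ := (bijective_comp_of_W I g hg).2 (𝟙 _)
  dsimp only at hh
  refine ⟨h, hh, ?_⟩
  apply (bijective_comp_of_W I' g hg).1
  dsimp only
  rw [← Category.assoc, hh, Category.comp_id, Category.id_comp]

end

section Res

variable [IsGrothendieckAbelian.{v} 𝒜]

theorem exists_res (X : KA 𝒜) :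
    ∃ (I : CochainComplex 𝒜 ℤ) (_ : I.IsKInjective) (i : X ⟶ (quo 𝒜).obj I), WK 𝒜 i := by
  obtain ⟨I, f, hI, hf, _, _⟩ := Groth.Agent.Helper29.KInjE.exists_kInjective_resolution X.as
  exact ⟨I, hI, (quo 𝒜).map f, (HomotopyCategory.quotient_map_mem_quasiIso_iff f).2 hf⟩

/-- the chosen K-injective resolution (object) -/
noncomputable def IO (X : KA 𝒜) : CochainComplex 𝒜 ℤ := (exists_res X).choose

instance (X : KA 𝒜) : (IO X).IsKInjective := (exists_res X).choose_spec.choose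

/-- the chosen K-injective resolution (map) -/
noncomputable def im (X : KA 𝒜) : X ⟶ (quo 𝒜).obj (IO X) :=
  (exists_res X).choose_spec.choose_spec.choose

theorem im_W (X : KA 𝒜) : WK 𝒜 (im X) := (exists_res X).choose_spec.choose_spec.choose_spec

variable [HasDerivedCategory.{w} 𝒜]

/-- the lift of a morphism to the resolutions -/
noncomputable def imap {X Y : KA 𝒜} (f : X ⟶ Y) : (quo 𝒜).obj (IO X) ⟶ (quo 𝒜).obj (IO Y) :=
  ((bijective_comp_of_W.{w} (IO Y) (im X) (im_W X)).2 (f ≫ im Y)).choose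

theorem imap_fac {X Y : KA 𝒜} (f : X ⟶ Y) : im X ≫ imap.{w} f = f ≫ im Y :=
  ((bijective_comp_of_W.{w} (IO Y) (im X) (im_W X)).2 (f ≫ im Y)).choose_spec

theorem imap_uniq {X Y : KA 𝒜} (f : X ⟶ Y) (g : (quo 𝒜).obj (IO X) ⟶ (quo 𝒜).obj (IO Y))
    (h : im X ≫ g = f ≫ im Y) : g = imap.{w} f :=
  (bijective_comp_of_W.{w} (IO Y) (im X) (im_W X)).1 (h.trans (imap_fac.{w} f).symm)

/-- the functorial K-injective resolution on `K(𝒜)` -/
noncomputable def IF : KA 𝒜 ⥤ KA 𝒜 where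
  obj X := (quo 𝒜).obj (IO X)
  map f := imap.{w} f
  map_id X := (imap_uniq.{w} _ _ (by rw [Category.id_comp, Category.comp_id])).symm
  map_comp f g := (imap_uniq.{w} _ _ (by
    rw [← Category.assoc, imap_fac, Category.assoc, imap_fac, Category.assoc])).symm

/-- the resolution map -/
noncomputable def ι : 𝟭 (KA 𝒜) ⟶ IF.{w} (𝒜 := 𝒜) where
  app X := im X
  naturality _ _ f := (imap_fac.{w} f).symm

theorem hι (X : KA 𝒜) : WK 𝒜 ((ι.{w} (𝒜 := 𝒜)).app X) := im_W X

theorem isIso_IF_map {X Y : KA 𝒜} (f : X ⟶ Y) (hf : WK 𝒜 f) :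
    IsIso ((IF.{w} (𝒜 := 𝒜)).map f) := by
  apply isIso_of_W.{w}
  have h1 : WK 𝒜 (im X ≫ imap.{w} f) := by
    rw [imap_fac]
    exact (WK 𝒜).comp_mem _ _ hf (im_W Y)
  refine (HomotopyCategory.mem_quasiIso_iff _).2 (fun n => ?_)
  have h2 := (HomotopyCategory.mem_quasiIso_iff _).1 h1 n
  rw [Functor.map_comp] at h2
  haveI := (HomotopyCategory.mem_quasiIso_iff _).1 (im_W X) n
  haveI := h2
  exact IsIso.of_isIso_comp_left ((HomotopyCategory.homologyFunctor _ _ n).map (im X))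
    ((HomotopyCategory.homologyFunctor _ _ n).map (imap.{w} f))

variable {H : Type*} [Category H]

theorem hIF (F : KA 𝒜 ⥤ H) : (WK 𝒜).IsInvertedBy (IF.{w} ⋙ F) := fun X Y f hf => by
  haveI := isIso_IF_map.{w} f hf
  dsimp
  infer_instance

theorem isIso_ι_app (I : CochainComplex 𝒜 ℤ) [I.IsKInjective] :
    IsIso ((ι.{w} (𝒜 := 𝒜)).app ((quo 𝒜).obj I)) :=
  isIso_of_W.{w} (I := I) (I' := IO ((quo 𝒜).obj I)) _ (im_W _)

theorem hF' (F : KA 𝒜 ⥤ H) (Y : KA 𝒜) :
    IsIso (F.map ((ι.{w} (𝒜 := 𝒜)).app (IF.{w}.obj Y))) := by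
  haveI : IsIso ((ι.{w} (𝒜 := 𝒜)).app (IF.{w}.obj Y)) := isIso_ι_app.{w} (IO Y)
  infer_instance

/-- recognition of right derived functors on `K(𝒜)` -/
theorem isRightDerivedFunctor_of_isIso (F : KA 𝒜 ⥤ H) (G : DerivedCategory 𝒜 ⥤ H)
    (β : F ⟶ DerivedCategory.Qh ⋙ G)
    (hβ : ∀ (I : CochainComplex 𝒜 ℤ) [I.IsKInjective], IsIso (β.app ((quo 𝒜).obj I))) :
    G.IsRightDerivedFunctor β (WK 𝒜) :=
  Groth.Agent.Helper11.RDer.isRightDerivedFunctor_of_isIso DerivedCategory.Qh (WK 𝒜) F IF.{w}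
    ι.{w} hι.{w} (hIF.{w} F) (hF'.{w} F) G β (fun X => hβ (IO X))

/-- every functor on `K(𝒜)` has a right derived functor -/
theorem hasRightDerivedFunctor (F : KA 𝒜 ⥤ H) : F.HasRightDerivedFunctor (WK 𝒜) :=
  Groth.Agent.Helper11.RDer.hasRightDerivedFunctor DerivedCategory.Qh (WK 𝒜) F IF.{w} ι.{w}
    hι.{w} (hIF.{w} F) (hF'.{w} F)

/-- the unit of a right derived functor on `K(𝒜)` is an isomorphism on K-injective complexes -/
theorem isIso_unit (F : KA 𝒜 ⥤ H) (G : DerivedCategory 𝒜 ⥤ H) (β : F ⟶ DerivedCategory.Qh ⋙ G)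
    [G.IsRightDerivedFunctor β (WK 𝒜)] (I : CochainComplex 𝒜 ℤ) [I.IsKInjective] :
    IsIso (β.app ((quo 𝒜).obj I)) :=
  Groth.Agent.Helper11.RDer.isIso_unit_app DerivedCategory.Qh (WK 𝒜) F IF.{w} ι.{w} hι.{w}
    (hIF.{w} F) (hF'.{w} F) G β ((quo 𝒜).obj I) (by
      haveI := isIso_ι_app.{w} I
      infer_instance)

/-- right derived functors on `K(𝒜)` are absolute -/
theorem isRightDerivedFunctor_comp {H' : Type*} [Category H'] (F : KA 𝒜 ⥤ H)
    (G : DerivedCategory 𝒜 ⥤ H) (β : F ⟶ DerivedCategory.Qh ⋙ G)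
    [G.IsRightDerivedFunctor β (WK 𝒜)] (E : H ⥤ H') :
    (G ⋙ E).IsRightDerivedFunctor
      (Functor.whiskerRight β E ≫ (Functor.associator _ _ _).hom) (WK 𝒜) := by
  apply isRightDerivedFunctor_of_isIso.{w}
  intro I _
  haveI := isIso_unit.{w} F G β I
  simp only [NatTrans.comp_app, Functor.associator_hom_app, Functor.whiskerRight_app,
    Category.comp_id]
  infer_instance

end Res

end Groth.Agent.Helper11.KI
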