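/-
Krull dimension under surjective maps lifting specializations/generalizations (helper11).
-/
import Mathlib.Topology.KrullDimension
import Mathlib.Topology.Sober

set_option autoImplicit false

namespace Groth.Agent.Helper11

open Set TopologicalSpace Order

universe u v

variable {X : Type u} {Y : Type v} [TopologicalSpace X] [TopologicalSpace Y]

/-- The closure of a point as an irreducible closed set. -/
def clPt (x : X) : IrreducibleCloseds X :=
  ⟨closure {x}, isIrreducible_singleton.closure, isClosed_closure⟩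

theorem coe_clPt (x : X) : (clPt x : Set X) = closure {x} := rfl

theorem clPt_le_iff {x y : X} : clPt x ≤ clPt y ↔ y ⤳ x := by
  rw [specializes_iff_closure_subset]
  exact Iff.rfl

theorem exists_lt_of_add_one_le_height {α : Type*} [Preorder α] {a : α} {n : ℕ}
    (h : (n : ℕ∞) + 1 ≤ height a) : ∃ b < a, (n : ℕ∞) ≤ height b := by
  rw [ENat.add_one_le_iff (ENat.natCast_ne_top n)] at h
  by_contra hcon
  push Not at hcon
  exact absurd (height_le_coe_iff.mpr hcon) (not_le.mpr h)

theorem exists_gt_of_add_one_le_coheight {α : Type*} [Preorder α] {a : α} {n : ℕ}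
    (h : (n : ℕ∞) + 1 ≤ coheight a) : ∃ b > a, (n : ℕ∞) ≤ coheight b :=
  exists_lt_of_add_one_le_height (α := αᵒᵈ) h

theorem le_height_clPt_of_specializingMap [QuasiSober Y] {f : X → Y} (hf : Continuous f)
    (hs : SpecializingMap f) : ∀ (n : ℕ) (x : X),
      (n : ℕ∞) ≤ height (clPt (f x)) → (n : ℕ∞) ≤ height (clPt x) := by
  intro n
  induction n with
  | zero => intro x _; simp
  | succ n ih =>
    intro x hx
    rw [Nat.cast_add, Nat.cast_one] at hx ⊢
    obtain ⟨Z, hZlt, hZ⟩ := exists_lt_of_add_one_le_height hx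
    obtain ⟨η, hη⟩ := QuasiSober.sober Z.isIrreducible Z.isClosed
    have hηZ : clPt η = Z := IrreducibleCloseds.ext hη.def
    have h1 : f x ⤳ η := by
      rw [← clPt_le_iff, hηZ]
      exact hZlt.le
    obtain ⟨x', hx', rfl⟩ := hs h1
    have h2 : clPt x' < clPt x := by
      refine lt_of_le_not_ge (clPt_le_iff.mpr hx') ?_
      intro hle
      have h3 : f x' ⤳ f x := (clPt_le_iff.mp hle).map hf
      have h4 : clPt (f x) ≤ clPt (f x') := clPt_le_iff.mpr h3
      rw [hηZ] at h4
      exact absurd hZlt (not_lt_of_ge h4)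
    refine le_trans ?_ (height_add_one_le h2)
    gcongr
    exact ih x' (hηZ ▸ hZ)

theorem le_coheight_clPt_of_generalizingMap [QuasiSober Y] {f : X → Y} (hf : Continuous f)
    (hs : GeneralizingMap f) : ∀ (n : ℕ) (x : X),
      (n : ℕ∞) ≤ coheight (clPt (f x)) → (n : ℕ∞) ≤ coheight (clPt x) := by
  intro n
  induction n with
  | zero => intro x _; simp
  | succ n ih =>
    intro x hx
    rw [Nat.cast_add, Nat.cast_one] at hx ⊢
    obtain ⟨Z, hZlt, hZ⟩ := exists_gt_of_add_one_le_coheight hx
    obtain ⟨η, hη⟩ := QuasiSober.sober Z.isIrreducible Z.isClosed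
    have hηZ : clPt η = Z := IrreducibleCloseds.ext hη.def
    have h1 : η ⤳ f x := by
      rw [← clPt_le_iff, hηZ]
      exact hZlt.le
    obtain ⟨x', hx', rfl⟩ := hs h1
    have h2 : clPt x < clPt x' := by
      refine lt_of_le_not_ge (clPt_le_iff.mpr hx') ?_
      intro hle
      have h3 : f x ⤳ f x' := (clPt_le_iff.mp hle).map hf
      have h4 : clPt (f x') ≤ clPt (f x) := clPt_le_iff.mpr h3
      rw [hηZ] at h4
      exact absurd hZlt (not_lt_of_ge h4)
    refine le_trans ?_ (coheight_add_one_le h2)
    gcongr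
    exact ih x' (hηZ ▸ hZ)

theorem topologicalKrullDim_le_of_surjective_of_lift [QuasiSober Y] {f : X → Y}
    (hf : Continuous f) (hsurj : Function.Surjective f)
    (hlift : SpecializingMap f ∨ GeneralizingMap f) :
    topologicalKrullDim Y ≤ topologicalKrullDim X := by
  unfold topologicalKrullDim
  rcases hlift with hs | hg
  · rw [krullDim_eq_iSup_height]
    refine iSup_le fun Z => ?_
    obtain ⟨η, hη⟩ := QuasiSober.sober Z.isIrreducible Z.isClosed
    have hηZ : clPt η = Z := IrreducibleCloseds.ext hη.def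
    obtain ⟨x, rfl⟩ := hsurj η
    refine le_trans ?_ (height_le_krullDim (clPt x))
    rw [← hηZ]
    exact_mod_cast ENat.forall_natCast_le_iff_le.mp
      fun n => le_height_clPt_of_specializingMap hf hs n x
  · rw [krullDim_eq_iSup_coheight]
    refine iSup_le fun Z => ?_
    obtain ⟨η, hη⟩ := QuasiSober.sober Z.isIrreducible Z.isClosed
    have hηZ : clPt η = Z := IrreducibleCloseds.ext hη.def
    obtain ⟨x, rfl⟩ := hsurj η
    refine le_trans ?_ (coheight_le_krullDim (clPt x))
    rw [← hηZ]
    exact_mod_cast ENat.forall_natCast_le_iff_le.mp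
      fun n => le_coheight_clPt_of_generalizingMap hf hg n x

end Groth.Agent.Helper11
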