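import Groth.Prelude.Def_Flat
import Mathlib.AlgebraicGeometry.Morphisms.Integral
import Mathlib.AlgebraicGeometry.Morphisms.UniversallyInjective
import Mathlib.AlgebraicGeometry.Morphisms.UnderlyingMap

/-!
Universal homeomorphisms of schemes: `IsUnivHomeo = UniversallyClosed ⊓ UniversallyInjective ⊓
Surjective`, and the ring-theoretic description for morphisms of affine schemes: integral,
surjective on spectra, and radicial (at most one extension of a field-valued point).
-/

open CategoryTheory AlgebraicGeometry MorphismProperty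

universe u

namespace Groth.Agent.Helper11.UH

theorem isUnivHomeo_iff {X Y : Scheme.{u}} (f : X ⟶ Y) :
    FlatMor.IsUnivHomeo f ↔ UniversallyClosed f ∧ UniversallyInjective f ∧ Surjective f := by
  constructor
  · intro h
    refine ⟨⟨?_⟩, ⟨?_⟩, ⟨?_⟩⟩
    · intro X' Y' i₁ i₂ f' hf
      exact (h i₁ i₂ f' hf).isClosedMap
    · intro X' Y' i₁ i₂ f' hf
      exact (h i₁ i₂ f' hf).injective
    · exact (h (𝟙 _) (𝟙 _) f IsPullback.of_id_snd).surjective
  · rintro ⟨h1, h2, h3⟩
    intro X' Y' i₁ i₂ f' hf
    have h1' : UniversallyClosed f' := MorphismProperty.of_isPullback hf.flip h1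
    have h2' : UniversallyInjective f' := MorphismProperty.of_isPullback hf.flip h2
    have h3' : Surjective f' := MorphismProperty.of_isPullback hf.flip h3
    exact isHomeomorph_iff_continuous_isClosedMap_bijective.mpr
      ⟨f'.continuous, f'.isClosedMap, f'.injective, f'.surjective⟩

/-- Radicial ring maps: a field-valued point of the source has at most one lift. -/
def Radicial {A C : Type u} [CommRing A] [CommRing C] (ψ : A →+* C) : Prop :=
  ∀ (K : Type u) [Field K] (g₁ g₂ : C →+* K), g₁.comp ψ = g₂.comp ψ → g₁ = g₂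

theorem isUnivHomeo_spec_iff {A C : Type u} [CommRing A] [CommRing C] (ψ : A →+* C) :
    FlatMor.IsUnivHomeo (Spec.map (CommRingCat.ofHom ψ)) ↔
      ψ.IsIntegral ∧ Function.Surjective (PrimeSpectrum.comap ψ) ∧ Radicial ψ := by
  rw [isUnivHomeo_iff]
  have e1 : UniversallyClosed (Spec.map (CommRingCat.ofHom ψ)) ↔ ψ.IsIntegral := by
    have := IsIntegralHom.SpecMap_iff (φ := CommRingCat.ofHom ψ)
    rw [IsIntegralHom.iff_universallyClosed_and_isAffineHom] at this
    exact ⟨fun h => this.mp ⟨h, inferInstance⟩, fun h => (this.mpr h).1⟩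
  have e2 : Surjective (Spec.map (CommRingCat.ofHom ψ)) ↔
      Function.Surjective (PrimeSpectrum.comap ψ) := by
    exact ⟨fun h => h.surj, fun h => ⟨h⟩⟩
  have e3 : UniversallyInjective (Spec.map (CommRingCat.ofHom ψ)) ↔ Radicial ψ := by
    have htfae := (tfae_universallyInjective (Spec.map (CommRingCat.ofHom ψ))).out 0 1
    rw [htfae]
    constructor
    · intro h K _ g₁ g₂ hg
      have h1 := @h K _ (Spec.map (CommRingCat.ofHom g₁)) (Spec.map (CommRingCat.ofHom g₂)) (by
        simp only [← Spec.map_comp, ← CommRingCat.ofHom_comp, hg])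
      have h2 := Spec.map_injective h1
      exact congrArg CommRingCat.Hom.hom h2
    · intro h K _ g₁ g₂ hg
      rw [← Spec.map_preimage g₁, ← Spec.map_preimage g₂] at hg ⊢
      simp only [← Spec.map_comp] at hg
      have h2 := Spec.map_injective hg
      have h3 := h K (Spec.preimage g₁).hom (Spec.preimage g₂).hom (by
        have := congrArg CommRingCat.Hom.hom h2
        simpa using this)
      congr 1
      exact CommRingCat.hom_ext h3
  rw [e1, e2, e3]
  tauto

end Groth.Agent.Helper11.UH
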