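import Groth.Agent.Lib.Helper11.AWNFinal

/-!
Comparison with the absolute weak normalization.
-/

open CategoryTheory AlgebraicGeometry Polynomial

universe u

namespace Groth.Agent.Helper11.UH

open Groth.Agent.Helper11.SemiN

theorem uniq_semiPar (K : Type*) [CommRing K] [IsReduced K] : Uniq semiPar K := by
  intro a b h1 h2
  simp only [semiPar, Nat.cast_one, one_mul] at h1 h2
  exact eq_of_sq_cube a b h1 h2

theorem uniq_pPar (p : ℕ) (hp : p.Prime) (K : Type*) [CommRing K] [IsReduced K] :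
    Uniq (pPar p hp.pos) K := by
  intro a b h1 h2
  simp only [pPar, Nat.cast_one, one_mul, pow_one] at h1 h2
  exact eq_of_prime_pow p hp a b h2 h1

theorem ex_semiPar (Ω : Type*) [Field Ω] : Ex semiPar Ω := by
  intro x y hrel
  simp only [SemiN.Rel, semiPar, Nat.cast_one, one_mul] at hrel
  simp only [Sol, semiPar, Nat.cast_one, one_mul]
  by_cases hx : x = 0
  · subst hx
    have hy : y = 0 := by
      have : y ^ 2 = 0 := by rw [← hrel]; simp
      exact pow_eq_zero_iff (two_ne_zero) |>.mp this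
    exact ⟨0, by simp, by simp [hy]⟩
  · refine ⟨y / x, ?_, ?_⟩
    · rw [div_pow, ← hrel]
      field_simp
    · rw [div_pow]
      have : y ^ 3 = y * x ^ 3 := by rw [hrel]; ring
      rw [this]
      field_simp

theorem ex_pPar (p : ℕ) (hp : p.Prime) (Ω : Type*) [Field Ω] [IsAlgClosed Ω] :
    Ex (pPar p hp.pos) Ω := by
  intro x y hrel
  simp only [SemiN.Rel, pPar, Nat.cast_one, one_mul, pow_one, Nat.cast_pow] at hrel
  simp only [Sol, pPar, Nat.cast_one, one_mul, pow_one]
  by_cases hp0 : (p : Ω) = 0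
  · have hy : y = 0 := by
      have : y ^ p = 0 := by rw [← hrel, hp0, zero_pow hp.ne_zero, zero_mul]
      exact pow_eq_zero_iff hp.ne_zero |>.mp this
    obtain ⟨z, hz⟩ := IsAlgClosed.exists_pow_nat_eq x hp.pos
    exact ⟨z, hz.symm, by rw [hp0, zero_mul, hy]⟩
  · refine ⟨y / p, ?_, ?_⟩
    · rw [div_pow, ← hrel]
      field_simp
    · field_simp

theorem isAWNRing_of_isRingAWN {A W : Type u} [CommRing A] [CommRing W] (φ : A →+* W)
    (hφ : HTop.IsRingAWN φ) : HTop.IsAWNRing W := by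
  rw [awn_iff_pars]
  rintro P (rfl | ⟨p, hp, rfl⟩)
  · exact good_of_isRingAWN φ hφ semiPar rfl (fun K _ => uniq_semiPar K)
      (fun Ω _ _ => ex_semiPar Ω)
  · exact good_of_isRingAWN φ hφ (pPar p hp.pos) rfl (fun K _ => uniq_pPar p hp K)
      (fun Ω _ _ => ex_pPar p hp Ω)

theorem isReduced_of_isSeminormalRing {R : Type*} [CommRing R] (h : HTop.IsSeminormalRing R) :
    IsReduced R := by
  rw [isReduced_iff_pow_one_lt 2 (by norm_num)]
  intro x hx
  obtain ⟨a, -, ha⟩ := h 0 0 (by simp)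
  have h1 : x = a := ha x ⟨by rw [hx], by rw [pow_succ, hx, zero_mul]⟩
  have h2 : (0 : R) = a := ha 0 ⟨by simp, by simp⟩
  rw [h1, ← h2]

/-- A universal homeomorphism out of an absolutely weakly normal ring into a reduced ring is
bijective. -/
theorem bijective_of_isAWNRing {B W : Type u} [CommRing B] [CommRing W] (χ : B →+* W)
    (hχ : UHom χ) (hB : HTop.IsAWNRing B) [IsReduced W] : Function.Bijective χ := by
  have hBred : IsReduced B := isReduced_of_isSeminormalRing hB.1
  have hinj : Function.Injective χ := by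
    rw [injective_iff_map_eq_zero]
    intro b hb
    have hnil : b ∈ nilradical B := by
      rw [nilradical_eq_sInf, Ideal.mem_sInf]
      intro q hq
      obtain ⟨Q, hQ⟩ := hχ.2.1 ⟨q, hq⟩
      have : b ∈ (PrimeSpectrum.comap χ Q).asIdeal := by
        change χ b ∈ Q.asIdeal
        rw [hb]
        exact Ideal.zero_mem _
      rw [hQ] at this
      exact this
    rw [nilradical_eq_zero B] at hnil
    exact hnil
  refine ⟨hinj, ?_⟩
  by_contra hsurj
  have hne : ∃ w, w ∉ χ.range := by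
    by_contra hcon
    push Not at hcon
    exact hsurj fun w => hcon w
  obtain ⟨w, hw, hcases⟩ := KL_uh χ hχ hne
  rcases hcases with ⟨⟨x, hx⟩, ⟨y, hy⟩⟩ | ⟨ℓ, hℓ, ⟨y, hy⟩, ⟨x, hx⟩⟩
  · have hxy : x ^ 3 = y ^ 2 := by
      apply hinj
      rw [map_pow, map_pow, hx, hy]
      ring
    obtain ⟨a, ⟨ha1, ha2⟩, -⟩ := hB.1 x y hxy
    apply hw
    refine ⟨a, ?_⟩
    apply eq_of_sq_cube
    · rw [← map_pow, ← ha1, hx]
    · rw [← map_pow, ← ha2, hy]
  · have hxy : (ℓ : B) ^ ℓ * x = y ^ ℓ := by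
      apply hinj
      rw [map_mul, map_pow, map_pow, map_natCast, hx, hy]
      ring
    obtain ⟨a, ⟨ha1, ha2⟩, -⟩ := hB.2 ℓ hℓ x y hxy
    apply hw
    refine ⟨a, ?_⟩
    apply eq_of_prime_pow ℓ hℓ
    · have := congrArg χ ha2
      rw [map_mul, map_natCast] at this
      rw [← this, hy]
    · rw [← map_pow, ← ha1, hx]

theorem bijective_iff_isAWNRing {A B W : Type u} [CommRing A] [CommRing B] [CommRing W]
    (φ : A →+* W) (hφ : HTop.IsRingAWN φ) (ψ : A →+* B)
    (hψ : FlatMor.IsUnivHomeo (Spec.map (CommRingCat.ofHom ψ))) (χ : B →+* W)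
    (hχ : χ.comp ψ = φ) : Function.Bijective χ ↔ HTop.IsAWNRing B := by
  have hW : HTop.IsAWNRing W := isAWNRing_of_isRingAWN φ hφ
  have hWred : IsReduced W := isReduced_of_isSeminormalRing hW.1
  have hφU : UHom φ := (isUnivHomeo_spec_iff' φ).mp hφ.1
  have hψU : UHom ψ := (isUnivHomeo_spec_iff' ψ).mp hψ
  constructor
  · intro hbij
    let e : B ≃+* W := RingEquiv.ofBijective χ hbij
    rw [awn_iff_pars] at hW ⊢
    intro P hP
    exact good_of_ringEquiv P e.symm (hW P hP)
  · intro hB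
    have hχU : UHom χ := by
      refine ⟨?_, ?_, ?_⟩
      · intro w
        obtain ⟨P, hP, hPw⟩ := hφU.1 w
        refine ⟨P.map ψ, hP.map ψ, ?_⟩
        rw [Polynomial.eval₂_map, hχ]
        exact hPw
      · intro q
        obtain ⟨Q, hQ⟩ := hφU.2.1 (PrimeSpectrum.comap ψ q)
        refine ⟨Q, ?_⟩
        apply hψU.preUH.bij.1
        rw [← hQ, ← hχ]
        rfl
      · intro K _ g₁ g₂ hg
        apply hφU.2.2 K
        rw [← hχ, ← RingHom.comp_assoc, ← RingHom.comp_assoc, hg]
    exact bijective_of_isAWNRing χ hχU hB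

end Groth.Agent.Helper11.UH
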