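import Groth.Agent.Lib.Helper11.SemiN
import Mathlib.AlgebraicGeometry.AffineScheme

/-!
Affine communication lemma for the weighted root extraction conditions.
-/

open AlgebraicGeometry CategoryTheory TopologicalSpace

namespace Groth.Agent.Helper11.SemiN

universe u

theorem affine_local (Ps : Set Par) (X : Scheme.{u}) :
    (∀ x : X, ∃ U : X.affineOpens, x ∈ (U : X.Opens) ∧ ∀ P ∈ Ps, Good P Γ(X, U)) ↔
      ∀ U : X.affineOpens, ∀ P ∈ Ps, Good P Γ(X, U) := by
  constructor
  · intro h V
    choose U hxU hU using h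
    refine of_affine_open_cover (P := fun W => ∀ P ∈ Ps, Good P Γ(X, W)) U ?_ V ?_ ?_ hU
    · rw [eq_top_iff]
      intro x _
      exact Opens.mem_iSup.mpr ⟨x, hxU x⟩
    · intro W f hW P hP
      have := W.2.isLocalization_basicOpen f
      change Good P Γ(X, X.basicOpen f)
      exact good_loc P f _ (hW P hP)
    · intro W s hs hW P hP
      apply good_local P s hs
      intro f hf
      have := W.2.isLocalization_basicOpen f
      have hW' : Good P Γ(X, X.basicOpen f) := hW ⟨f, hf⟩ P hP
      exact good_of_ringEquiv P (IsLocalization.algEquiv (Submonoid.powers f)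
        Γ(X, X.basicOpen f) (Localization.Away f)).toRingEquiv hW'
  · intro h x
    obtain ⟨W, hW, hxW, -⟩ := exists_isAffineOpen_mem_and_subset (x := x) (U := ⊤) trivial
    exact ⟨⟨W, hW⟩, hxW, h ⟨W, hW⟩⟩

/-- The family of parameters cutting out absolute weak normality. -/
def awnPars : Set Par := {P | P = semiPar ∨ ∃ (p : ℕ) (hp : p.Prime), P = pPar p hp.pos}

theorem awn_iff_pars (A : Type*) [CommRing A] :
    HTop.IsAWNRing A ↔ ∀ P ∈ awnPars, Good P A := by
  rw [awn_iff]
  constructor
  · rintro ⟨h1, h2⟩ P (rfl | ⟨p, hp, rfl⟩)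
    · exact (seminormal_iff_good A).mp h1
    · exact (pCond_iff_good A p hp.pos).mp (h2 p hp)
  · intro h
    refine ⟨(seminormal_iff_good A).mpr (h _ (Or.inl rfl)), fun p hp => ?_⟩
    exact (pCond_iff_good A p hp.pos).mpr (h _ (Or.inr ⟨p, hp, rfl⟩))

theorem seminormal_iff_pars (A : Type*) [CommRing A] :
    HTop.IsSeminormalRing A ↔ ∀ P ∈ ({semiPar} : Set Par), Good P A := by
  rw [seminormal_iff_good]
  simp

theorem isSeminormal_iff (X : Scheme.{u}) :
    HTop.IsSeminormal X ↔ ∀ U : X.affineOpens, HTop.IsSeminormalRing Γ(X, U) := by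
  unfold HTop.IsSeminormal
  simp only [seminormal_iff_pars]
  exact affine_local _ X

theorem isAWN_iff (X : Scheme.{u}) :
    HTop.IsAWN X ↔ ∀ U : X.affineOpens, HTop.IsAWNRing Γ(X, U) := by
  unfold HTop.IsAWN
  simp only [awn_iff_pars]
  exact affine_local _ X

end Groth.Agent.Helper11.SemiN
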