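import Groth.Agent.Lib.Helper11.TowerUH
import Groth.Agent.Lib.Helper11.SemiNSch

/-!
The absolute weak normalization of a ring is absolutely weakly normal, and the comparison map from a
universal-homeomorphism algebra is bijective exactly for absolutely weakly normal algebras.
-/

open CategoryTheory AlgebraicGeometry Polynomial

universe u

namespace Groth.Agent.Helper11.UH

open Groth.Agent.Helper11.SemiN

theorem UHom.comp {A B C : Type u} [CommRing A] [CommRing B] [CommRing C]
    {ψ : A →+* B} {ω : B →+* C} (hψ : UHom ψ) (hω : UHom ω) : UHom (ω.comp ψ) := by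
  refine ⟨RingHom.IsIntegral.trans _ _ hψ.1 hω.1, ?_, ?_⟩
  · intro p
    obtain ⟨q, rfl⟩ := hψ.2.1 p
    obtain ⟨r, rfl⟩ := hω.2.1 q
    exact ⟨r, rfl⟩
  · intro K _ g₁ g₂ hg
    apply hω.2.2 K
    apply hψ.2.2 K
    rw [RingHom.comp_assoc, RingHom.comp_assoc]
    exact hg

section AdjoinRoot

variable {W : Type u} [CommRing W] (P : Par) (x y : W)

/-- First relation. -/
noncomputable def f1 : W[X] := X ^ P.d1 - C x

/-- Second relation. -/
noncomputable def f2 : W[X] := C (P.k2 : W) * X ^ P.d2 - C y

/-- The ideal of relations. -/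
noncomputable def Jid : Ideal W[X] := Ideal.span {f1 P x, f2 P y}

/-- The ring obtained by adjoining a solution. -/
abbrev Wp : Type u := W[X] ⧸ Jid P x y

/-- The structure map. -/
noncomputable def omega : W →+* Wp P x y := (Ideal.Quotient.mk _).comp C

/-- The adjoined solution. -/
noncomputable def tbar : Wp P x y := Ideal.Quotient.mk _ X

theorem tbar_rel1 : tbar P x y ^ P.d1 = omega P x y x := by
  have : Ideal.Quotient.mk (Jid P x y) (f1 P x) = 0 :=
    Ideal.Quotient.eq_zero_iff_mem.mpr (Ideal.subset_span (by simp))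
  unfold f1 at this
  rw [map_sub, map_pow, sub_eq_zero] at this
  exact this

theorem tbar_rel2 : (P.k2 : Wp P x y) * tbar P x y ^ P.d2 = omega P x y y := by
  have : Ideal.Quotient.mk (Jid P x y) (f2 P y) = 0 :=
    Ideal.Quotient.eq_zero_iff_mem.mpr (Ideal.subset_span (by simp))
  unfold f2 at this
  rw [map_sub, map_mul, map_pow, sub_eq_zero] at this
  have e : (P.k2 : Wp P x y) = Ideal.Quotient.mk (Jid P x y) (C (P.k2 : W)) := by
    change _ = (omega P x y) (P.k2 : W)
    rw [map_natCast]
  rw [e]
  exact this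

/-- Maps out of the ring with adjoined solution. -/
noncomputable def liftW {S : Type*} [CommRing S] (g : W →+* S) (τ : S)
    (h1 : τ ^ P.d1 = g x) (h2 : (P.k2 : S) * τ ^ P.d2 = g y) : Wp P x y →+* S :=
  Ideal.Quotient.lift (Jid P x y) (Polynomial.eval₂RingHom g τ) (by
    intro f hf
    have hle : Jid P x y ≤ RingHom.ker (Polynomial.eval₂RingHom g τ) := by
      unfold Jid
      rw [Ideal.span_le]
      intro f hf
      simp only [Set.mem_insert_iff, Set.mem_singleton_iff] at hf
      rcases hf with rfl | rfl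
      · simp [f1, h1]
      · simp [f2, h2]
    exact hle hf)

theorem liftW_comp {S : Type*} [CommRing S] (g : W →+* S) (τ : S)
    (h1 : τ ^ P.d1 = g x) (h2 : (P.k2 : S) * τ ^ P.d2 = g y) :
    (liftW P x y g τ h1 h2).comp (omega P x y) = g := by
  ext w
  simp [liftW, omega]

theorem liftW_tbar {S : Type*} [CommRing S] (g : W →+* S) (τ : S)
    (h1 : τ ^ P.d1 = g x) (h2 : (P.k2 : S) * τ ^ P.d2 = g y) :
    liftW P x y g τ h1 h2 (tbar P x y) = τ := by
  simp [liftW, tbar]

theorem Wp_hom_ext {S : Type*} [CommRing S] (h₁ h₂ : Wp P x y →+* S)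
    (hc : h₁.comp (omega P x y) = h₂.comp (omega P x y))
    (ht : h₁ (tbar P x y) = h₂ (tbar P x y)) : h₁ = h₂ := by
  apply Ideal.Quotient.ringHom_ext
  apply Polynomial.ringHom_ext
  · intro a
    exact congrFun (congrArg DFunLike.coe hc) a
  · exact ht

theorem omega_isIntegral : (omega P x y).IsIntegral := by
  have ht : (omega P x y).IsIntegralElem (tbar P x y) := by
    refine ⟨X ^ P.d1 - C x, Polynomial.monic_X_pow_sub_C x P.hd1.ne', ?_⟩
    rw [eval₂_sub, eval₂_pow, eval₂_X, eval₂_C, tbar_rel1, sub_self]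
  have hpow : ∀ n : ℕ, (omega P x y).IsIntegralElem (tbar P x y ^ n) := by
    intro n
    induction n with
    | zero => rw [pow_zero]; exact (omega P x y).isIntegralElem_one
    | succ n ih => rw [pow_succ]; exact RingHom.IsIntegralElem.mul _ ih ht
  intro z
  obtain ⟨f, rfl⟩ := Ideal.Quotient.mk_surjective z
  induction f using Polynomial.induction_on' with
  | add f g hf hg =>
    rw [map_add]
    exact RingHom.IsIntegralElem.add _ hf hg
  | monomial n a =>
    have : Ideal.Quotient.mk (Jid P x y) (monomial n a) =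
        omega P x y a * tbar P x y ^ n := by
      rw [← C_mul_X_pow_eq_monomial, map_mul, map_pow]
      rfl
    rw [this]
    exact RingHom.IsIntegralElem.mul _ ((omega P x y).isIntegralElem_map) (hpow n)

theorem omega_uhom (hk1 : P.k1 = 1)
    (hU : ∀ (K : Type u) [Field K], Uniq P K)
    (hE : ∀ (Ω : Type u) [Field Ω] [IsAlgClosed Ω], Ex P Ω)
    (hrel : Rel P W x y) : UHom (omega P x y) := by
  refine ⟨omega_isIntegral P x y, ?_, ?_⟩
  · intro P0
    let g : W →+* Om W P0 := algebraMap W (Om W P0)
    have hrel' : Rel P (Om W P0) (g x) (g y) := by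
      unfold SemiN.Rel at hrel ⊢
      have := congrArg g hrel
      simpa only [map_mul, map_pow, map_natCast] using this
    obtain ⟨τ, hτ1, hτ2⟩ := hE (Om W P0) _ _ hrel'
    rw [hk1, Nat.cast_one, one_mul] at hτ1
    let l := liftW P x y g τ hτ1.symm hτ2.symm
    refine ⟨⟨RingHom.ker l, RingHom.ker_isPrime l⟩, ?_⟩
    ext w
    change l (omega P x y w) = 0 ↔ w ∈ P0.asIdeal
    have : l (omega P x y w) = g w :=
      congrFun (congrArg DFunLike.coe (liftW_comp P x y g τ hτ1.symm hτ2.symm)) w
    rw [this]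
    exact ker_algebraMap_Om P0 w
  · intro K _ g₁ g₂ hg
    apply Wp_hom_ext P x y g₁ g₂ hg
    apply hU K
    · rw [hk1, Nat.cast_one, one_mul, one_mul, ← map_pow, ← map_pow, tbar_rel1]
      exact congrFun (congrArg DFunLike.coe hg) x
    · have e1 : (P.k2 : K) * g₁ (tbar P x y) ^ P.d2 = g₁ (omega P x y y) := by
        rw [← tbar_rel2, map_mul, map_pow, map_natCast]
      have e2 : (P.k2 : K) * g₂ (tbar P x y) ^ P.d2 = g₂ (omega P x y y) := by
        rw [← tbar_rel2, map_mul, map_pow, map_natCast]
      rw [e1, e2]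
      exact congrFun (congrArg DFunLike.coe hg) y

end AdjoinRoot

/-- The absolute weak normalization satisfies the root extraction conditions. -/
theorem good_of_isRingAWN {A W : Type u} [CommRing A] [CommRing W] (φ : A →+* W)
    (hφ : HTop.IsRingAWN φ) (P : Par) (hk1 : P.k1 = 1)
    (hU : ∀ (K : Type u) [Field K], Uniq P K)
    (hE : ∀ (Ω : Type u) [Field Ω] [IsAlgClosed Ω], Ex P Ω) : Good P W := by
  have hφU : UHom φ := (isUnivHomeo_spec_iff' φ).mp hφ.1
  have hid : ∀ σ : W →+* W, σ.comp φ = φ → σ = RingHom.id W := by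
    intro σ hσ
    exact (hφ.2 W φ hφ.1).unique hσ (RingHom.id_comp φ)
  rw [good_iff]
  constructor
  · intro a b h1 h2
    rw [hk1, Nat.cast_one, one_mul, one_mul] at h1
    let x := a ^ P.d1
    let y := (P.k2 : W) * a ^ P.d2
    have hrel : Rel P W x y := by
      have := rel_of_sol P W a
      rw [hk1, Nat.cast_one, one_mul] at this
      exact this
    have hω := omega_uhom P x y hk1 hU hE hrel
    let la := liftW P x y (RingHom.id W) a rfl rfl
    let lb := liftW P x y (RingHom.id W) b h1.symm h2.symm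
    have hωφ := (isUnivHomeo_spec_iff' _).mpr (hφU.comp hω)
    have e : la = lb := by
      apply (hφ.2 _ _ hωφ).unique
      · rw [← RingHom.comp_assoc, liftW_comp, RingHom.id_comp]
      · rw [← RingHom.comp_assoc, liftW_comp, RingHom.id_comp]
    have := congrArg (fun l : Wp P x y →+* W => l (tbar P x y)) e
    simpa only [la, lb, liftW_tbar] using this
  · intro x y hrel
    have hω := omega_uhom P x y hk1 hU hE hrel
    have hωφ := (isUnivHomeo_spec_iff' _).mpr (hφU.comp hω)
    obtain ⟨σ, hσ, -⟩ := hφ.2 _ _ hωφ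
    have hσω : σ.comp (omega P x y) = RingHom.id W := hid _ (by rw [RingHom.comp_assoc]; exact hσ)
    refine ⟨σ (tbar P x y), ?_, ?_⟩
    · rw [hk1, Nat.cast_one, one_mul, ← map_pow, tbar_rel1]
      exact (congrFun (congrArg DFunLike.coe hσω) x).symm
    · have : (P.k2 : W) * σ (tbar P x y) ^ P.d2 = σ (omega P x y y) := by
        rw [← tbar_rel2, map_mul, map_pow, map_natCast]
      rw [this]
      exact (congrFun (congrArg DFunLike.coe hσω) y).symm

end Groth.Agent.Helper11.UH
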