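import Groth.Agent.Lib.Helper11.AWNComp
import Mathlib.RingTheory.Localization.Ideal

/-!
The absolute weak normalization commutes with localization away from an element.
-/

open CategoryTheory AlgebraicGeometry Polynomial

universe u

namespace Groth.Agent.Helper11.UH

open Groth.Agent.Helper11.SemiN

theorem isRingAWN_toAwn (A : Type u) [CommRing A] : HTop.IsRingAWN (toAwn A) :=
  ⟨(isUnivHomeo_spec_iff' _).mpr toAwn_uhom,
    fun _ _ ψ hψ => exists_unique_toAwn ψ ((isUnivHomeo_spec_iff' _).mp hψ)⟩

/-- Ring maps from a radicial algebra into an absolute weak normalization are determined by their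
restriction to the base. -/
theorem awn_hom_ext {A C A'' : Type u} [CommRing A] [CommRing C] [CommRing A'']
    (ψ : A →+* C) (hψ : Radicial ψ) (γ₁ γ₂ : C →+* awn A'')
    (h : γ₁.comp ψ = γ₂.comp ψ) : γ₁ = γ₂ := by
  refine RingHom.ext fun c => Subtype.ext ?_
  funext p
  obtain ⟨π, hπ⟩ : ∃ π : awn A'' →+* Om A'' p, π = (Pi.evalRingHom _ p).comp (awn A'').subtype :=
    ⟨_, rfl⟩
  have e : (π.comp γ₁).comp ψ = (π.comp γ₂).comp ψ := by
    rw [RingHom.comp_assoc, RingHom.comp_assoc, h]
  have := hψ (Om A'' p) _ _ e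
  have key := congrFun (congrArg DFunLike.coe this) c
  subst hπ
  exact key

theorem uhom_localization {A C : Type u} [CommRing A] [CommRing C] (ψ : A →+* C) (h : UHom ψ)
    (f : A) (A' C' : Type u) [CommRing A'] [CommRing C'] [Algebra A A'] [Algebra C C']
    [IsLocalization.Away f A'] [IsLocalization.Away (ψ f) C'] (ψ' : A' →+* C')
    (hcomp : ψ'.comp (algebraMap A A') = (algebraMap C C').comp ψ) : UHom ψ' := by
  have hcomp' : ∀ a, ψ' (algebraMap A A' a) = algebraMap C C' (ψ a) :=
    fun a => congrFun (congrArg DFunLike.coe hcomp) a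
  have hu : IsUnit (algebraMap A A' f) := IsLocalization.Away.algebraMap_isUnit f
  refine ⟨?_, ?_, ?_⟩
  · intro z
    obtain ⟨n, c, hc⟩ := IsLocalization.Away.surj (ψ f) z
    obtain ⟨v, hv⟩ := isUnit_iff_exists_inv.mp hu
    have hz : z = algebraMap C C' c * ψ' (v ^ n) := by
      rw [← hc, ← hcomp', mul_assoc, ← map_pow, ← map_mul, ← mul_pow, hv, one_pow, map_one,
        mul_one]
    rw [hz]
    apply RingHom.IsIntegralElem.mul _ _ (ψ'.isIntegralElem_map)
    obtain ⟨P, hP, hPc⟩ := h.1 c
    refine ⟨P.map (algebraMap A A'), hP.map _, ?_⟩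
    rw [Polynomial.eval₂_map, hcomp, ← Polynomial.hom_eval₂, hPc, map_zero]
  · intro p'
    obtain ⟨q, hq⟩ := h.2.1 (PrimeSpectrum.comap (algebraMap A A') p')
    have hfq : ψ f ∉ q.asIdeal := by
      intro hmem
      have h1 : f ∈ (PrimeSpectrum.comap ψ q).asIdeal := hmem
      rw [hq] at h1
      have h2 : algebraMap A A' f ∈ p'.asIdeal := h1
      exact p'.isPrime.ne_top (Ideal.eq_top_of_isUnit_mem _ h2 hu)
    have hdisj : Disjoint (Submonoid.powers (ψ f) : Set C) (q.asIdeal : Set C) := by
      rw [Set.disjoint_left]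
      rintro x ⟨n, rfl⟩ hx
      exact hfq (q.isPrime.mem_of_pow_mem n hx)
    have hq'prime := IsLocalization.isPrime_of_isPrime_disjoint (Submonoid.powers (ψ f)) C'
      q.asIdeal q.isPrime hdisj
    have hq'comap := IsLocalization.under_map_of_isPrime_disjoint (Submonoid.powers (ψ f)) C'
      q.isPrime hdisj
    refine ⟨⟨Ideal.map (algebraMap C C') q.asIdeal, hq'prime⟩, ?_⟩
    apply PrimeSpectrum.ext
    change Ideal.comap ψ' (Ideal.map (algebraMap C C') q.asIdeal) = p'.asIdeal
    rw [← IsLocalization.map_under (Submonoid.powers f) A'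
        (Ideal.comap ψ' (Ideal.map (algebraMap C C') q.asIdeal)),
      ← IsLocalization.map_under (Submonoid.powers f) A' p'.asIdeal]
    congr 1
    change Ideal.comap (algebraMap A A') (Ideal.comap ψ' (Ideal.map (algebraMap C C') q.asIdeal)) =
      Ideal.comap (algebraMap A A') p'.asIdeal
    rw [Ideal.comap_comap, hcomp, ← Ideal.comap_comap]
    have : Ideal.comap (algebraMap C C') (Ideal.map (algebraMap C C') q.asIdeal) = q.asIdeal :=
      hq'comap
    rw [this]
    exact congrArg PrimeSpectrum.asIdeal hq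
  · intro K _ g₁ g₂ hg
    apply IsLocalization.ringHom_ext (Submonoid.powers (ψ f))
    apply h.2.2 K
    rw [RingHom.comp_assoc, RingHom.comp_assoc, ← hcomp, ← RingHom.comp_assoc,
      ← RingHom.comp_assoc, hg]

section Away

variable (A A' : Type u) [CommRing A] [CommRing A'] [Algebra A A'] (f : A)
  [IsLocalization.Away f A']

include f in
/-- The comparison between the localization of `awn A` and `awn A'`. -/
theorem exists_awnLoc_equiv :
    ∃ χ : Localization.Away (toAwn A f) →+* awn A',
      (χ.comp (algebraMap (awn A) (Localization.Away (toAwn A f)))).comp (toAwn A) =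
        (toAwn A').comp (algebraMap A A') ∧ Function.Bijective χ := by
  have hunit : IsUnit (((algebraMap (awn A) (Localization.Away (toAwn A f))).comp (toAwn A)) f) :=
    IsLocalization.Away.algebraMap_isUnit (toAwn A f)
  let lam : A' →+* Localization.Away (toAwn A f) := IsLocalization.Away.lift f hunit
  have hlam : lam.comp (algebraMap A A') =
      (algebraMap (awn A) (Localization.Away (toAwn A f))).comp (toAwn A) :=
    IsLocalization.Away.lift_comp f hunit
  have hlamU : UHom lam :=
    uhom_localization (toAwn A) toAwn_uhom f A' (Localization.Away (toAwn A f)) lam hlam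
  have hW : HTop.IsAWNRing (awn A) := isAWNRing_of_isRingAWN (toAwn A) (isRingAWN_toAwn A)
  have hL : HTop.IsAWNRing (Localization.Away (toAwn A f)) := by
    rw [awn_iff_pars] at hW ⊢
    intro P hP
    exact good_loc P (toAwn A f) _ (hW P hP)
  obtain ⟨χ, hχ, -⟩ := exists_unique_toAwn lam hlamU
  refine ⟨χ, ?_, ?_⟩
  · rw [RingHom.comp_assoc, ← hlam, ← RingHom.comp_assoc, hχ]
  · exact (bijective_iff_isAWNRing (toAwn A') (isRingAWN_toAwn A') lam
      ((isUnivHomeo_spec_iff' _).mpr hlamU) χ hχ).mpr hL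

include f in
theorem exists_awnMap_of_away :
    ∃ ρ : awn A →+* awn A', ρ.comp (toAwn A) = (toAwn A').comp (algebraMap A A') := by
  obtain ⟨χ, hχ, -⟩ := exists_awnLoc_equiv A A' f
  exact ⟨χ.comp (algebraMap (awn A) (Localization.Away (toAwn A f))), hχ⟩

theorem awnMap_unique {A A' : Type u} [CommRing A] [CommRing A'] (r : A →+* A')
    (ρ₁ ρ₂ : awn A →+* awn A') (h₁ : ρ₁.comp (toAwn A) = (toAwn A').comp r)
    (h₂ : ρ₂.comp (toAwn A) = (toAwn A').comp r) : ρ₁ = ρ₂ :=
  awn_hom_ext (toAwn A) toAwn_radicial ρ₁ ρ₂ (h₁.trans h₂.symm)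

theorem isLocalization_awnMap (ρ : awn A →+* awn A')
    (hρ : ρ.comp (toAwn A) = (toAwn A').comp (algebraMap A A')) :
    @IsLocalization.Away (awn A) _ (toAwn A f) (awn A') _ ρ.toAlgebra := by
  letI : Algebra (awn A) (awn A') := ρ.toAlgebra
  obtain ⟨χ, hχ, hbij⟩ := exists_awnLoc_equiv A A' f
  have hρχ : χ.comp (algebraMap (awn A) (Localization.Away (toAwn A f))) = ρ :=
    awnMap_unique (algebraMap A A') _ _ hχ hρ
  let χa : Localization.Away (toAwn A f) →ₐ[awn A] awn A' :=
    { χ with
      commutes' := fun w => congrFun (congrArg DFunLike.coe hρχ) w }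
  let e : Localization.Away (toAwn A f) ≃ₐ[awn A] awn A' := AlgEquiv.ofBijective χa hbij
  exact IsLocalization.isLocalization_of_algEquiv (Submonoid.powers (toAwn A f)) e

end Away

end Groth.Agent.Helper11.UH
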