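import Groth.Agent.Lib.Helper11.UnivHomeo
import Groth.Prelude.Def_HTop2
import Mathlib.FieldTheory.IsAlgClosed.AlgebraicClosure
import Mathlib.RingTheory.LocalRing.ResidueField.Ideal
import Mathlib.RingTheory.Ideal.GoingUp
import Mathlib.RingTheory.Ideal.Over
import Mathlib.RingTheory.IntegralClosure.IsIntegralClosure.Basic

/-!
Existence of the absolute weak normalization of a ring.

For a ring `A` we consider the product `P = ∏_{p ∈ Spec A} Ω_p` of algebraic closures of the residue
fields.  Every ring map `A → C` inducing a universal homeomorphism on spectra admits exactly one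
`A`-algebra map `C → P`, and the subring of `P` generated by the images of all these maps is the
absolute weak normalization of `A`.
-/

open CategoryTheory AlgebraicGeometry

universe u

namespace Groth.Agent.Helper11.UH

/-- Ring-theoretic form of "Spec is a universal homeomorphism". -/
def UHom {A C : Type u} [CommRing A] [CommRing C] (ψ : A →+* C) : Prop :=
  ψ.IsIntegral ∧ Function.Surjective (PrimeSpectrum.comap ψ) ∧ Radicial ψ

theorem isUnivHomeo_spec_iff' {A C : Type u} [CommRing A] [CommRing C] (ψ : A →+* C) :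
    FlatMor.IsUnivHomeo (Spec.map (CommRingCat.ofHom ψ)) ↔ UHom ψ :=
  isUnivHomeo_spec_iff ψ

variable (A : Type u) [CommRing A]

/-- The algebraically closed field attached to a prime. -/
abbrev Om (p : PrimeSpectrum A) : Type u := AlgebraicClosure p.asIdeal.ResidueField

/-- The big product of algebraically closed fields. -/
abbrev BigP : Type u := ∀ p : PrimeSpectrum A, Om A p

/-- The canonical map to the big product. -/
noncomputable def iota : A →+* BigP A := RingHom.pi fun p => algebraMap A (Om A p)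

theorem uhom_id : UHom (RingHom.id A) := by
  refine ⟨?_, ?_, ?_⟩
  · exact RingHom.isIntegral_of_surjective _ Function.surjective_id
  · intro p
    exact ⟨p, by ext; simp⟩
  · intro K _ g₁ g₂ h
    simpa using h

variable {A}

theorem ker_algebraMap_Om (p : PrimeSpectrum A) (a : A) :
    algebraMap A (Om A p) a = 0 ↔ a ∈ p.asIdeal := by
  rw [IsScalarTower.algebraMap_apply A p.asIdeal.ResidueField (Om A p), map_eq_zero_iff _
    (algebraMap p.asIdeal.ResidueField (Om A p)).injective]
  exact Ideal.algebraMap_residueField_eq_zero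

theorem exists_lift {C : Type u} [CommRing C] (ψ : A →+* C) (h : UHom ψ) (p : PrimeSpectrum A) :
    ∃ γ : C →+* Om A p, γ.comp ψ = algebraMap A (Om A p) := by
  obtain ⟨q, hq⟩ := h.2.1 p
  let _ : Algebra A C := ψ.toAlgebra
  have : Algebra.IsIntegral A C := ⟨h.1⟩
  have : q.asIdeal.LiesOver p.asIdeal := ⟨by rw [← hq]; rfl⟩
  have : FaithfulSMul (A ⧸ p.asIdeal) (C ⧸ q.asIdeal) := inferInstance
  have : Module.IsTorsionFree (A ⧸ p.asIdeal) (C ⧸ q.asIdeal) :=
    FaithfulSMul.to_isTorsionFree _ _
  have : FaithfulSMul (A ⧸ p.asIdeal) (Om A p) := by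
    rw [faithfulSMul_iff_algebraMap_injective]
    rw [IsScalarTower.algebraMap_eq (A ⧸ p.asIdeal) p.asIdeal.ResidueField (Om A p)]
    exact (algebraMap p.asIdeal.ResidueField (Om A p)).injective.comp
      p.asIdeal.injective_algebraMap_quotient_residueField
  have : Module.IsTorsionFree (A ⧸ p.asIdeal) (Om A p) := FaithfulSMul.to_isTorsionFree _ _
  let l : (C ⧸ q.asIdeal) →ₐ[A ⧸ p.asIdeal] Om A p := IsAlgClosed.lift
  refine ⟨l.toRingHom.comp (Ideal.Quotient.mk q.asIdeal), ?_⟩
  ext a
  have e : Ideal.Quotient.mk q.asIdeal (ψ a) =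
      algebraMap (A ⧸ p.asIdeal) (C ⧸ q.asIdeal) (Ideal.Quotient.mk p.asIdeal a) := rfl
  simp only [RingHom.comp_apply]
  rw [e]
  change l (algebraMap (A ⧸ p.asIdeal) (C ⧸ q.asIdeal) (Ideal.Quotient.mk p.asIdeal a)) = _
  rw [AlgHom.commutes]
  exact (IsScalarTower.algebraMap_apply A (A ⧸ p.asIdeal) (Om A p) a).symm

variable (A)

/-- The generating set: images of all `A`-algebra maps from universal homeomorphism algebras. -/
def genSet : Set (BigP A) :=
  {x | ∃ (C : Type u) (_ : CommRing C) (ψ : A →+* C) (g : C →+* BigP A),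
    UHom ψ ∧ g.comp ψ = iota A ∧ x ∈ g.range}

/-- The absolute weak normalization, as a subring of the big product. -/
noncomputable def awn : Subring (BigP A) := Subring.closure (genSet A)

variable {A}

theorem mem_awn_of {C : Type u} [CommRing C] (ψ : A →+* C) (g : C →+* BigP A)
    (h : UHom ψ) (hg : g.comp ψ = iota A) (c : C) : g c ∈ awn A :=
  Subring.subset_closure ⟨C, _, ψ, g, h, hg, ⟨c, rfl⟩⟩

variable (A)

/-- The structure map `A → A^awn`. -/
noncomputable def toAwn : A →+* awn A :=
  (iota A).codRestrict (awn A) fun a =>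
    mem_awn_of (RingHom.id A) (iota A) (uhom_id A) rfl a

variable {A}

/-- The induced map from a universal homeomorphism algebra. -/
noncomputable def mapToAwn {C : Type u} [CommRing C] (ψ : A →+* C) (g : C →+* BigP A)
    (h : UHom ψ) (hg : g.comp ψ = iota A) : C →+* awn A :=
  g.codRestrict (awn A) fun c => mem_awn_of ψ g h hg c

theorem mapToAwn_comp {C : Type u} [CommRing C] (ψ : A →+* C) (g : C →+* BigP A)
    (h : UHom ψ) (hg : g.comp ψ = iota A) : (mapToAwn ψ g h hg).comp ψ = toAwn A := by
  refine RingHom.ext fun a => Subtype.ext ?_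
  change g (ψ a) = iota A a
  rw [← hg]
  rfl

theorem isIntegralElem_iota_of_mem (x : BigP A) (hx : x ∈ awn A) :
    (iota A).IsIntegralElem x := by
  induction hx using Subring.closure_induction with
  | mem x hx =>
    obtain ⟨C, _, ψ, g, h, hg, c, rfl⟩ := hx
    obtain ⟨P, hP, hPc⟩ := h.1 c
    refine ⟨P, hP, ?_⟩
    rw [← hg, ← Polynomial.hom_eval₂, hPc, map_zero]
  | zero => exact (iota A).isIntegralElem_zero
  | one => exact (iota A).isIntegralElem_one
  | add x y _ _ hx hy => exact RingHom.IsIntegralElem.add _ hx hy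
  | neg x _ hx => exact RingHom.IsIntegralElem.neg _ hx
  | mul x y _ _ hx hy => exact RingHom.IsIntegralElem.mul _ hx hy

theorem toAwn_isIntegral : (toAwn A).IsIntegral := by
  intro b
  obtain ⟨P, hP, hPb⟩ := isIntegralElem_iota_of_mem b.1 b.2
  refine ⟨P, hP, ?_⟩
  apply Subtype.ext
  have := Polynomial.hom_eval₂ P (toAwn A) (awn A).subtype b
  change (awn A).subtype (Polynomial.eval₂ (toAwn A) b P) = 0
  rw [this]
  exact hPb

theorem toAwn_surjective : Function.Surjective (PrimeSpectrum.comap (toAwn A)) := by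
  intro p
  let π : awn A →+* Om A p := (Pi.evalRingHom _ p).comp (awn A).subtype
  refine ⟨⟨RingHom.ker π, RingHom.ker_isPrime π⟩, ?_⟩
  ext a
  change π (toAwn A a) = 0 ↔ a ∈ p.asIdeal
  rw [← ker_algebraMap_Om p a]
  rfl

theorem toAwn_radicial : Radicial (toAwn A) := by
  intro K _ g₁ g₂ hg
  suffices H : ∀ (x : BigP A) (hx : x ∈ awn A), g₁ ⟨x, hx⟩ = g₂ ⟨x, hx⟩ by
    ext b
    exact H b.1 b.2
  intro x hx
  induction hx using Subring.closure_induction with
  | mem x hx =>
    obtain ⟨C, _, ψ, g, h, hg', c, rfl⟩ := hx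
    have e : (g₁.comp (mapToAwn ψ g h hg')).comp ψ = (g₂.comp (mapToAwn ψ g h hg')).comp ψ := by
      rw [RingHom.comp_assoc, RingHom.comp_assoc, mapToAwn_comp, hg]
    have := h.2.2 K _ _ e
    exact congrFun (congrArg DFunLike.coe this) c
  | zero =>
    exact (map_zero g₁).trans (map_zero g₂).symm
  | one =>
    exact (map_one g₁).trans (map_one g₂).symm
  | add x y hx hy hx' hy' =>
    have : (⟨x + y, Subring.add_mem _ hx hy⟩ : awn A) = ⟨x, hx⟩ + ⟨y, hy⟩ := rfl
    rw [this, map_add, map_add, hx', hy']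
  | neg x hx hx' =>
    have : (⟨-x, Subring.neg_mem _ hx⟩ : awn A) = -⟨x, hx⟩ := rfl
    rw [this, map_neg, map_neg, hx']
  | mul x y hx hy hx' hy' =>
    have : (⟨x * y, Subring.mul_mem _ hx hy⟩ : awn A) = ⟨x, hx⟩ * ⟨y, hy⟩ := rfl
    rw [this, map_mul, map_mul, hx', hy']

theorem toAwn_uhom : UHom (toAwn A) := ⟨toAwn_isIntegral, toAwn_surjective, toAwn_radicial⟩

theorem exists_unique_toAwn {C : Type u} [CommRing C] (ψ : A →+* C) (h : UHom ψ) :
    ∃! χ : C →+* awn A, χ.comp ψ = toAwn A := by
  choose γ hγ using exists_lift ψ h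
  let g : C →+* BigP A := RingHom.pi γ
  have hg : g.comp ψ = iota A := by
    ext a p
    change γ p (ψ a) = algebraMap A (Om A p) a
    rw [← hγ p]
    rfl
  refine ⟨mapToAwn ψ g h hg, mapToAwn_comp ψ g h hg, fun χ hχ => ?_⟩
  refine RingHom.ext fun c => Subtype.ext ?_
  funext p
  obtain ⟨π, hπ⟩ : ∃ π : awn A →+* Om A p, π = (Pi.evalRingHom _ p).comp (awn A).subtype :=
    ⟨_, rfl⟩
  have e : (π.comp χ).comp ψ = (π.comp (mapToAwn ψ g h hg)).comp ψ := by
    rw [RingHom.comp_assoc, RingHom.comp_assoc, hχ, mapToAwn_comp]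
  have := h.2.2 (Om A p) _ _ e
  have key := congrFun (congrArg DFunLike.coe this) c
  subst hπ
  exact key

variable (A)

/-- Existence of the absolute weak normalization of a ring. -/
theorem exists_isRingAWN :
    ∃ (B : Type u) (_ : CommRing B) (φ : A →+* B), HTop.IsRingAWN φ := by
  refine ⟨awn A, inferInstance, toAwn A, ?_, ?_⟩
  · exact (isUnivHomeo_spec_iff' _).mpr toAwn_uhom
  · intro C _ ψ hψ
    exact exists_unique_toAwn ψ ((isUnivHomeo_spec_iff' _).mp hψ)

end Groth.Agent.Helper11.UH
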