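import Groth.Agent.Lib.Helper11.AWNLoc
import Mathlib.AlgebraicGeometry.Sites.SmallAffineZariski

/-!
The absolute weak normalization of a scheme, by relative gluing.
-/

open CategoryTheory AlgebraicGeometry Opposite Limits

universe u

namespace Groth.Agent.Helper11.UH

open Scheme AffineZariskiSite

variable (X : Scheme.{u})

theorem exists_awnRes {U V : X.AffineZariskiSite} (h : V ≤ U) :
    ∃ ρ : awn Γ(X, U.1) →+* awn Γ(X, V.1),
      ρ.comp (toAwn Γ(X, U.1)) =
        (toAwn Γ(X, V.1)).comp (X.presheaf.map (homOfLE (toOpens_mono h)).op).hom := by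
  obtain ⟨f, hf⟩ := h
  obtain ⟨V1, hV⟩ := V
  change X.basicOpen f = V1 at hf
  subst hf
  have := U.2.isLocalization_basicOpen f
  exact exists_awnMap_of_away Γ(X, U.1) Γ(X, X.basicOpen f) f

/-- The presheaf of absolute weak normalizations on the affine Zariski site. -/
noncomputable def awnF : X.AffineZariskiSiteᵒᵖ ⥤ CommRingCat.{u} where
  obj U := CommRingCat.of (awn Γ(X, U.unop.1))
  map {U V} i := CommRingCat.ofHom (Classical.choose (exists_awnRes X i.unop.le))
  map_id U := by
    apply CommRingCat.hom_ext
    apply awnMap_unique (X.presheaf.map (homOfLE (toOpens_mono (le_refl U.unop))).op).hom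
    · exact Classical.choose_spec (exists_awnRes X (le_refl U.unop))
    · have : (homOfLE (toOpens_mono (le_refl U.unop))).op = 𝟙 (op U.unop.1) :=
        Subsingleton.elim _ _
      rw [this, X.presheaf.map_id]
      rfl
  map_comp {U V W} i j := by
    apply CommRingCat.hom_ext
    apply awnMap_unique (X.presheaf.map (homOfLE (toOpens_mono (i ≫ j).unop.le)).op).hom
    · exact Classical.choose_spec (exists_awnRes X (i ≫ j).unop.le)
    · have h1 := Classical.choose_spec (exists_awnRes X i.unop.le)
      have h2 := Classical.choose_spec (exists_awnRes X j.unop.le)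
      have : (homOfLE (toOpens_mono (i ≫ j).unop.le)).op =
          (homOfLE (toOpens_mono i.unop.le)).op ≫ (homOfLE (toOpens_mono j.unop.le)).op :=
        Subsingleton.elim _ _
      rw [this, X.presheaf.map_comp]
      simp only [CommRingCat.hom_comp, CommRingCat.hom_ofHom]
      rw [RingHom.comp_assoc, h1, ← RingHom.comp_assoc, h2, RingHom.comp_assoc]

/-- The structure map of the presheaf of absolute weak normalizations. -/
noncomputable def awnα : (toOpensFunctor X).op ⋙ X.presheaf ⟶ awnF X where
  app U := CommRingCat.ofHom (toAwn Γ(X, U.unop.1))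
  naturality {U V} i := by
    apply CommRingCat.hom_ext
    have h1 := Classical.choose_spec (exists_awnRes X i.unop.le)
    simp only [CommRingCat.hom_comp, CommRingCat.hom_ofHom, awnF]
    exact h1.symm

theorem awnα_coequifibered : (awnα X).Coequifibered := by
  refine coequifibered_iff_forall_isLocalizationAway.mpr fun U f => ?_
  have := U.2.isLocalization_basicOpen f
  exact isLocalization_awnMap Γ(X, U.1) Γ(X, X.basicOpen f) f _
    (Classical.choose_spec (exists_awnRes X (U.basicOpen_le f)))

end Groth.Agent.Helper11.UH
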