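import Groth.Agent.Lib.Helper11.AWNSchemeUP
import Groth.Agent.Lib.Helper11.SemiNSch
import Groth.Agent.Lib.Helper11.AWNComp

/-!
Absolute weak normality of the glued absolute weak normalization and comparison with universal
homeomorphisms.
-/

open CategoryTheory AlgebraicGeometry Opposite Limits

universe u

namespace Groth.Agent.Helper11.UH

open Scheme AffineZariskiSite

/-- An open cover from a jointly surjective family of open immersions. -/
noncomputable def coverOfFamily {Y : Scheme.{u}} {ι : Type u} (V : ι → Scheme.{u})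
    (b : ∀ i, V i ⟶ Y) [∀ i, IsOpenImmersion (b i)]
    (hb : ∀ y : Y, ∃ i, y ∈ Set.range (b i)) : Y.OpenCover where
  I₀ := ι
  X := V
  f := b
  mem₀ := by
    rw [presieve₀_mem_precoverage_iff]
    exact ⟨hb, inferInstance⟩

theorem prop_of_isPullback_family (P : MorphismProperty Scheme.{u}) [IsZariskiLocalAtTarget P]
    {X Y : Scheme.{u}} (f : X ⟶ Y) {ι : Type u} (V W : ι → Scheme.{u}) (b : ∀ i, V i ⟶ Y)
    [∀ i, IsOpenImmersion (b i)] (hb : ∀ y : Y, ∃ i, y ∈ Set.range (b i))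
    (a : ∀ i, W i ⟶ X) (g : ∀ i, W i ⟶ V i) (hpb : ∀ i, IsPullback (a i) (g i) f (b i))
    (hP : ∀ i, P (g i)) : P f := by
  apply IsZariskiLocalAtTarget.of_openCover (coverOfFamily V b hb)
  intro i
  have e := (hpb i).isoPullback_hom_snd
  have this : pullback.snd f (b i) = (hpb i).isoPullback.inv ≫ g i := (Iso.eq_inv_comp _).mpr e
  change P (pullback.snd f (b i))
  rw [this]
  exact (MorphismProperty.cancel_left_of_respectsIso P _ _).mpr (hP i)

theorem isPullback_app {Z X : Scheme.{u}} (π : Z ⟶ X) {U : X.Opens} (hU : IsAffineOpen U)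
    (hV : IsAffineOpen (π ⁻¹ᵁ U)) :
    IsPullback (Spec.map (π.app U)) hV.fromSpec hU.fromSpec π := by
  apply IsOpenImmersion.isPullback
  · rw [Scheme.Hom.app_eq_appLE, IsAffineOpen.SpecMap_appLE_fromSpec]
  · rw [hU.opensRange_fromSpec, hV.opensRange_fromSpec]

/-- A universal homeomorphism from a reduced scheme to an absolutely weakly normal scheme is an
isomorphism. -/
theorem isIso_of_isAWN {Y X : Scheme.{u}} (π : Y ⟶ X) (hπ : FlatMor.IsUnivHomeo π)
    (hX : HTop.IsAWN X) [AlgebraicGeometry.IsReduced Y] : IsIso π := by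
  rw [SemiN.isAWN_iff] at hX
  have := isAffineHom_of_isUnivHomeo π hπ
  change MorphismProperty.isomorphisms Scheme.{u} π
  apply prop_of_isPullback_family (MorphismProperty.isomorphisms Scheme.{u}) π
    (ι := X.affineOpens) (fun U => Spec Γ(X, U.1)) (fun U => Spec Γ(Y, π ⁻¹ᵁ U.1))
    (fun U => U.2.fromSpec) ?_ (fun U => (U.2.preimage π).fromSpec)
    (fun U => Spec.map (π.app U.1)) ?_ ?_
  · intro x
    obtain ⟨U, hU, hxU, -⟩ := exists_isAffineOpen_mem_and_subset (x := x) (U := ⊤) trivial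
    refine ⟨⟨U, hU⟩, ?_⟩
    rw [hU.range_fromSpec]
    exact hxU
  · intro U
    exact (isPullback_app π U.2 (U.2.preimage π)).flip
  · intro U
    change IsIso (Spec.map (π.app U.1))
    have hb : Function.Bijective (π.app U.1).hom :=
      bijective_of_isAWNRing _ (uhom_app π hπ U.2) (hX U)
    have : IsIso (π.app U.1) := (ConcreteCategory.isIso_iff_bijective _).mpr hb
    infer_instance

theorem isAWNRing_of_ringEquiv {A B : Type u} [CommRing A] [CommRing B] (e : A ≃+* B)
    (h : HTop.IsAWNRing A) : HTop.IsAWNRing B := by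
  rw [SemiN.awn_iff_pars] at h ⊢
  exact fun P hP => SemiN.good_of_ringEquiv P e (h P hP)

theorem isAWN_of_family {Y : Scheme.{u}} {ι : Type*} (R : ι → CommRingCat.{u})
    (j : ∀ i, Spec (R i) ⟶ Y) [∀ i, IsOpenImmersion (j i)]
    (hj : ∀ y : Y, ∃ i, y ∈ Set.range (j i))
    (hR : ∀ i, HTop.IsAWNRing (R i)) : HTop.IsAWN Y := by
  intro y
  obtain ⟨i, v, rfl⟩ := hj y
  refine ⟨⟨(j i) ''ᵁ ⊤, (isAffineOpen_top (Spec (R i))).image_of_isOpenImmersion (j i)⟩,
    ⟨v, trivial, rfl⟩, ?_⟩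
  exact isAWNRing_of_ringEquiv
    ((j i).appIso ⊤ ≪≫ Scheme.ΓSpecIso (R i)).commRingCatIsoToRingEquiv.symm (hR i)

set_option backward.isDefEq.respectTransparency false in
theorem isAWN_awnSch (X : Scheme.{u}) : HTop.IsAWN (awnSch X) := by
  apply isAWN_of_family (fun U : X.AffineZariskiSite => CommRingCat.of (awn Γ(X, U.1)))
    (fun U => colimit.ι (awnData X).functor U)
  · intro y
    obtain ⟨U, t, ht⟩ := Scheme.IsLocallyDirected.ι_jointly_surjective (awnData X).functor y
    exact ⟨U, t, ht⟩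
  · intro U
    exact isAWNRing_of_isRingAWN _ (isRingAWN_toAwn _)

theorem exists_iso_awnSch {X' X : Scheme.{u}} (ν : X' ⟶ X) (hν : HTop.IsAWNormalization ν) :
    ∃ e : X' ≅ awnSch X, e.hom ≫ awnν X = ν := by
  obtain ⟨a, ha, -⟩ := hν.2 _ (awnν X) (isUnivHomeo_awnν X)
  obtain ⟨b, hb, -⟩ := (isAWNormalization_awnν X).2 _ ν hν.1
  have h1 : a ≫ b = 𝟙 _ :=
    (hν.2 _ ν hν.1).unique (by rw [Category.assoc, hb, ha]) (Category.id_comp _)
  have h2 : b ≫ a = 𝟙 _ :=
    ((isAWNormalization_awnν X).2 _ (awnν X) (isUnivHomeo_awnν X)).unique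
      (by rw [Category.assoc, ha, hb]) (Category.id_comp _)
  exact ⟨⟨a, b, h1, h2⟩, ha⟩

theorem isAWN_of_iso {Y Y' : Scheme.{u}} (e : Y ≅ Y') (h : HTop.IsAWN Y) : HTop.IsAWN Y' := by
  rw [SemiN.isAWN_iff] at h
  apply isAWN_of_family (fun U : Y.affineOpens => Γ(Y, U.1)) (fun U => U.2.fromSpec ≫ e.hom)
  · intro y'
    obtain ⟨U, hU, hxU, -⟩ :=
      exists_isAffineOpen_mem_and_subset (x := e.inv y') (U := ⊤) trivial
    refine ⟨⟨U, hU⟩, ?_⟩
    have : e.inv y' ∈ Set.range hU.fromSpec := by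
      rw [hU.range_fromSpec]
      exact hxU
    obtain ⟨t, ht⟩ := this
    refine ⟨t, ?_⟩
    rw [Scheme.Hom.comp_apply, ht, ← Scheme.Hom.comp_apply, e.inv_hom_id]
    rfl
  · intro U
    exact h U

set_option backward.isDefEq.respectTransparency false in
theorem isIso_awnDesc_iff {X Y : Scheme.{u}} (π : Y ⟶ X) (hπ : FlatMor.IsUnivHomeo π) :
    IsIso (awnDesc π hπ) ↔ HTop.IsAWN Y := by
  constructor
  · intro h
    exact isAWN_of_iso (asIso (awnDesc π hπ)) (isAWN_awnSch X)
  · intro hY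
    rw [SemiN.isAWN_iff] at hY
    change MorphismProperty.isomorphisms Scheme.{u} _
    apply prop_of_isPullback_family (MorphismProperty.isomorphisms Scheme.{u}) (awnDesc π hπ)
      (ι := X.AffineZariskiSite) (fun U => Spec Γ(Y, π ⁻¹ᵁ U.1))
      (fun U => Spec (CommRingCat.of (awn Γ(X, U.1))))
      (fun U => (affPre π hπ U).fromSpec) ?_ (fun U => colimit.ι (awnData X).functor U)
      (fun U => Spec.map (CommRingCat.ofHom (chi π hπ U))) ?_ ?_
    · intro y
      obtain ⟨U, hU, hxU, -⟩ :=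
        exists_isAffineOpen_mem_and_subset (x := π y) (U := ⊤) trivial
      refine ⟨⟨U, hU⟩, ?_⟩
      rw [(affPre π hπ ⟨U, hU⟩).range_fromSpec]
      exact hxU
    · intro U
      refine (IsOpenImmersion.isPullback (Spec.map (CommRingCat.ofHom (chi π hπ U)))
        (colimit.ι (awnData X).functor U) (affPre π hπ U).fromSpec (awnDesc π hπ) ?_ ?_).flip
      · exact ι_awnDesc π hπ U
      · rw [(affPre π hπ U).opensRange_fromSpec, ← Scheme.Hom.comp_preimage, awnDesc_comp]
        have := (awnData X).toBase_preimage_eq_opensRange_ι U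
        rw [← this]
        congr 1
        exact (Scheme.Opens.opensRange_ι _).symm
    · intro U
      change IsIso (Spec.map (CommRingCat.ofHom (chi π hπ U)))
      have hb : Function.Bijective (chi π hπ U) :=
        (bijective_iff_isAWNRing (toAwn Γ(X, U.1)) (isRingAWN_toAwn _) (π.app U.1).hom
          ((isUnivHomeo_spec_iff' _).mpr (uhom_app π hπ U.2)) (chi π hπ U)
          (chi_comp π hπ U)).mpr (hY ⟨π ⁻¹ᵁ U.1, affPre π hπ U⟩)
      have : IsIso (CommRingCat.ofHom (chi π hπ U)) :=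
        (ConcreteCategory.isIso_iff_bijective _).mpr hb
      infer_instance

theorem isIso_iff_isAWN {X X' Y : Scheme.{u}} (ν : X' ⟶ X) (hν : HTop.IsAWNormalization ν)
    (π : Y ⟶ X) (hπ : FlatMor.IsUnivHomeo π) (h : X' ⟶ Y) (hh : h ≫ π = ν) :
    IsIso h ↔ HTop.IsAWN Y := by
  obtain ⟨e, he⟩ := exists_iso_awnSch ν hν
  have hd : h = e.hom ≫ awnDesc π hπ :=
    (hν.2 _ π hπ).unique hh (by rw [Category.assoc, awnDesc_comp, he])
  rw [← isIso_awnDesc_iff π hπ, hd]
  exact isIso_comp_left_iff e.hom _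

end Groth.Agent.Helper11.UH
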