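import Groth.Agent.Lib.Helper11.AWNScheme

/-!
The glued absolute weak normalization is a universal homeomorphism over the base.
-/

open CategoryTheory AlgebraicGeometry Opposite Limits

universe u

namespace Groth.Agent.Helper11.UH

open Scheme AffineZariskiSite

variable (X : Scheme.{u})

/-- The relative gluing data for the absolute weak normalization. -/
noncomputable def awnData : (directedCover X).RelativeGluingData :=
  relativeGluingData (awnα_coequifibered X)

/-- The absolute weak normalization of a scheme. -/
noncomputable abbrev awnSch : Scheme.{u} := (awnData X).glued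

/-- The structure morphism of the absolute weak normalization. -/
noncomputable def awnν : awnSch X ⟶ X := (awnData X).toBase

theorem awnData_natTrans_app (U : X.AffineZariskiSite) :
    (awnData X).natTrans.app U =
      Spec.map (CommRingCat.ofHom (toAwn Γ(X, U.1))) ≫ U.2.isoSpec.inv := rfl

theorem prop_awnν (P : MorphismProperty Scheme.{u}) [IsZariskiLocalAtTarget P]
    (hP : ∀ U : X.AffineZariskiSite, P ((awnData X).natTrans.app U)) : P (awnν X) := by
  apply IsZariskiLocalAtTarget.of_openCover (directedCover X)
  intro U
  have hpb := ((awnData X).isPullback_natTrans_ι_toBase U).flip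
  have e := hpb.isoPullback_hom_snd
  have this : pullback.snd (awnData X).toBase ((directedCover X).f U) =
      hpb.isoPullback.inv ≫ (awnData X).natTrans.app U := (Iso.eq_inv_comp _).mpr e
  change P (pullback.snd (awnData X).toBase ((directedCover X).f U))
  rw [this]
  exact (MorphismProperty.cancel_left_of_respectsIso P _ _).mpr (hP U)

theorem isUnivHomeo_awnν : FlatMor.IsUnivHomeo (awnν X) := by
  have key : ∀ U : X.AffineZariskiSite, FlatMor.IsUnivHomeo ((awnData X).natTrans.app U) := by
    intro U
    rw [awnData_natTrans_app]
    have hri : (FlatMor.IsUnivHomeo.{u}).RespectsIso := by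
      unfold FlatMor.IsUnivHomeo; infer_instance
    exact (MorphismProperty.cancel_right_of_respectsIso _ _ _).mpr
      ((isUnivHomeo_spec_iff' _).mpr toAwn_uhom)
  rw [isUnivHomeo_iff]
  refine ⟨?_, ?_, ?_⟩
  · exact prop_awnν X @UniversallyClosed fun U => ((isUnivHomeo_iff _).mp (key U)).1
  · exact prop_awnν X @UniversallyInjective fun U => ((isUnivHomeo_iff _).mp (key U)).2.1
  · exact prop_awnν X @Surjective fun U => ((isUnivHomeo_iff _).mp (key U)).2.2

end Groth.Agent.Helper11.UH
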