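import Groth.Agent.Lib.Helper11.AWNSchemeUH
import Mathlib.AlgebraicGeometry.Morphisms.Affine

/-!
The universal property of the glued absolute weak normalization.
-/

open CategoryTheory AlgebraicGeometry Opposite Limits

universe u

namespace Groth.Agent.Helper11.UH

open Scheme AffineZariskiSite

theorem isAffineHom_of_isUnivHomeo {Z X : Scheme.{u}} (π : Z ⟶ X)
    (hπ : FlatMor.IsUnivHomeo π) : IsAffineHom π := by
  have hh : IsHomeomorph π := hπ (𝟙 _) (𝟙 _) π IsPullback.of_id_snd
  apply isAffineHom_of_isInducing π hh.isInducing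
  rw [hh.surjective.range_eq]
  exact isClosed_univ

/-- Over an affine open, a universal homeomorphism is `Spec` of a universal homeomorphism of rings. -/
theorem isUnivHomeo_specMap_app {Z X : Scheme.{u}} (π : Z ⟶ X) (hπ : FlatMor.IsUnivHomeo π)
    {U : X.Opens} (hU : IsAffineOpen U) :
    FlatMor.IsUnivHomeo (Spec.map (π.app U)) := by
  have := isAffineHom_of_isUnivHomeo π hπ
  have hV : IsAffineOpen (π ⁻¹ᵁ U) := hU.preimage π
  have hpb : IsPullback (Spec.map (π.app U)) hV.fromSpec hU.fromSpec π := by
    apply IsOpenImmersion.isPullback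
    · rw [Scheme.Hom.app_eq_appLE, IsAffineOpen.SpecMap_appLE_fromSpec]
    · rw [hU.opensRange_fromSpec, hV.opensRange_fromSpec]
  have hbc : (FlatMor.IsUnivHomeo.{u}).IsStableUnderBaseChange := by
    unfold FlatMor.IsUnivHomeo; infer_instance
  exact MorphismProperty.of_isPullback hpb.flip hπ

theorem uhom_app {Z X : Scheme.{u}} (π : Z ⟶ X) (hπ : FlatMor.IsUnivHomeo π)
    {U : X.Opens} (hU : IsAffineOpen U) : UHom (π.app U).hom :=
  (isUnivHomeo_spec_iff' (π.app U).hom).mp (isUnivHomeo_specMap_app π hπ hU)

instance (X : Scheme.{u}) : ((awnData X).functor ⋙ Scheme.forget).IsLocallyDirected :=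
  Cover.RelativeGluingData.instIsLocallyDirectedI₀CompFunctorForgetOfIsThin ..

section UP

variable {X Z : Scheme.{u}} (π : Z ⟶ X) (hπ : FlatMor.IsUnivHomeo π)

include hπ in
theorem affPre (U : X.AffineZariskiSite) : IsAffineOpen (π ⁻¹ᵁ U.1) := by
  have := isAffineHom_of_isUnivHomeo π hπ
  exact U.2.preimage π

/-- The local comparison map into the absolute weak normalization. -/
noncomputable def chi (U : X.AffineZariskiSite) : Γ(Z, π ⁻¹ᵁ U.1) →+* awn Γ(X, U.1) :=
  Classical.choose (exists_unique_toAwn (π.app U.1).hom (uhom_app π hπ U.2)).exists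

theorem chi_comp (U : X.AffineZariskiSite) :
    (chi π hπ U).comp (π.app U.1).hom = toAwn Γ(X, U.1) :=
  Classical.choose_spec (exists_unique_toAwn (π.app U.1).hom (uhom_app π hπ U.2)).exists

theorem chi_unique (U : X.AffineZariskiSite) (γ : Γ(Z, π ⁻¹ᵁ U.1) →+* awn Γ(X, U.1))
    (hγ : γ.comp (π.app U.1).hom = toAwn Γ(X, U.1)) : γ = chi π hπ U :=
  (exists_unique_toAwn (π.app U.1).hom (uhom_app π hπ U.2)).unique hγ (chi_comp π hπ U)

/-- The local morphisms to `Z`. -/
noncomputable def hLoc (U : X.AffineZariskiSite) :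
    Spec (CommRingCat.of (awn Γ(X, U.1))) ⟶ Z :=
  Spec.map (CommRingCat.ofHom (chi π hπ U)) ≫ (affPre π hπ U).fromSpec

theorem hLoc_comp (U : X.AffineZariskiSite) :
    hLoc π hπ U ≫ π = Spec.map (CommRingCat.ofHom (toAwn Γ(X, U.1))) ≫ U.2.fromSpec := by
  unfold hLoc
  rw [Category.assoc, ← IsAffineOpen.SpecMap_appLE_fromSpec π U.2 (affPre π hπ U) le_rfl,
    ← Scheme.Hom.app_eq_appLE, ← Category.assoc, ← Spec.map_comp]
  congr 2
  apply CommRingCat.hom_ext
  exact chi_comp π hπ U

theorem chi_natural {U' U : X.AffineZariskiSite} (i : U' ⟶ U) :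
    ((awnF X).map i.op).hom.comp (chi π hπ U) =
      (chi π hπ U').comp
        (Z.presheaf.map (homOfLE (π.preimage_mono (toOpens_mono i.le))).op).hom := by
  apply awn_hom_ext (π.app U.1).hom (uhom_app π hπ U.2).2.2
  have h1 := Classical.choose_spec (exists_awnRes X i.le)
  have h3 : (Z.presheaf.map (homOfLE (π.preimage_mono (toOpens_mono i.le))).op).hom.comp
      (π.app U.1).hom = (π.app U'.1).hom.comp
        (X.presheaf.map (homOfLE (toOpens_mono i.le)).op).hom := by
    have := π.naturality (homOfLE (toOpens_mono i.le)).op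
    have h4 := congrArg CommRingCat.Hom.hom this
    simp only [CommRingCat.hom_comp] at h4
    exact h4.symm
  refine RingHom.ext fun x => ?_
  have e1 : chi π hπ U ((π.app U.1).hom x) = toAwn _ x :=
    RingHom.congr_fun (chi_comp π hπ U) x
  have e2 := RingHom.congr_fun h1 x
  have e3 := RingHom.congr_fun h3 x
  have e4 := RingHom.congr_fun (chi_comp π hπ U')
    ((X.presheaf.map (homOfLE (toOpens_mono i.le)).op).hom x)
  exact ((congrArg (fun y => Classical.choose (exists_awnRes X i.le) y) e1).trans e2).trans
    ((congrArg (fun y => chi π hπ U' y) e3).trans e4).symm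

set_option backward.isDefEq.respectTransparency false in
/-- The cocone defining the comparison morphism. -/
noncomputable def awnCocone : Cocone (awnData X).functor where
  pt := Z
  ι :=
    { app := fun U => hLoc π hπ U
      naturality := by
        intro U' U i
        simp only [Functor.const_obj_obj, Functor.const_obj_map, Category.comp_id]
        change Spec.map ((awnF X).map i.op) ≫ hLoc π hπ U = hLoc π hπ U'
        unfold hLoc
        rw [← Category.assoc, ← Spec.map_comp]
        have e : CommRingCat.ofHom (chi π hπ U) ≫ (awnF X).map i.op =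
            Z.presheaf.map (homOfLE (π.preimage_mono (toOpens_mono i.le))).op ≫
              CommRingCat.ofHom (chi π hπ U') := by
          apply CommRingCat.hom_ext
          exact chi_natural π hπ i
        rw [e, Spec.map_comp, Category.assoc, IsAffineOpen.map_fromSpec] }

/-- The comparison morphism from the absolute weak normalization. -/
noncomputable def awnDesc : awnSch X ⟶ Z := colimit.desc (awnData X).functor (awnCocone π hπ)

theorem ι_awnDesc (U : X.AffineZariskiSite) :
    colimit.ι (awnData X).functor U ≫ awnDesc π hπ = hLoc π hπ U :=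
  colimit.ι_desc _ _

set_option backward.isDefEq.respectTransparency false in
theorem ι_awnν (U : X.AffineZariskiSite) :
    colimit.ι (awnData X).functor U ≫ awnν X =
      Spec.map (CommRingCat.ofHom (toAwn Γ(X, U.1))) ≫ U.2.fromSpec := by
  unfold awnν
  rw [Scheme.Cover.RelativeGluingData.ι_toBase, awnData_natTrans_app, Category.assoc]
  rfl

set_option backward.isDefEq.respectTransparency false in
theorem awnDesc_comp : awnDesc π hπ ≫ π = awnν X := by
  apply colimit.hom_ext
  intro U
  rw [← Category.assoc, ι_awnDesc, hLoc_comp, ι_awnν]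

set_option backward.isDefEq.respectTransparency false in
theorem awnDesc_unique (h' : awnSch X ⟶ Z) (hh' : h' ≫ π = awnν X) : h' = awnDesc π hπ := by
  apply colimit.hom_ext
  intro U
  rw [ι_awnDesc]
  have hV := affPre π hπ U
  have hg : (colimit.ι (awnData X).functor U ≫ h') ≫ π =
      Spec.map (CommRingCat.ofHom (toAwn Γ(X, U.1))) ≫ U.2.fromSpec := by
    rw [Category.assoc, hh', ι_awnν]
  have hrange : Set.range (colimit.ι (awnData X).functor U ≫ h') ⊆ Set.range hV.fromSpec := by
    rintro _ ⟨t, rfl⟩
    rw [hV.range_fromSpec]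
    change π ((colimit.ι (awnData X).functor U ≫ h') t) ∈ U.1
    rw [← Scheme.Hom.comp_apply, hg, Scheme.Hom.comp_apply]
    have : U.2.fromSpec ((Spec.map (CommRingCat.ofHom (toAwn Γ(X, U.1)))) t) ∈
        Set.range U.2.fromSpec := ⟨_, rfl⟩
    rw [U.2.range_fromSpec] at this
    exact this
  have hfac := IsOpenImmersion.lift_fac hV.fromSpec (colimit.ι (awnData X).functor U ≫ h') hrange
  set g' := IsOpenImmersion.lift hV.fromSpec (colimit.ι (awnData X).functor U ≫ h') hrange
    with hg'
  have hg'eq : Spec.map (Spec.preimage g') = g' := Spec.map_preimage g'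
  have key : π.app U.1 ≫ Spec.preimage g' = CommRingCat.ofHom (toAwn Γ(X, U.1)) := by
    apply Spec.map_injective
    rw [← cancel_mono U.2.fromSpec, Spec.map_comp, Category.assoc, hg'eq,
      Scheme.Hom.app_eq_appLE, IsAffineOpen.SpecMap_appLE_fromSpec π U.2 hV le_rfl,
      ← Category.assoc, hfac, hg]
  have hγ : (Spec.preimage g').hom = chi π hπ U := by
    apply chi_unique
    have := congrArg CommRingCat.Hom.hom key
    simpa only [CommRingCat.hom_comp, CommRingCat.hom_ofHom] using this
  rw [← hfac]
  unfold hLoc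
  congr 1
  rw [← hg'eq]
  congr 1
  exact CommRingCat.hom_ext hγ

theorem isAWNormalization_awnν (X : Scheme.{u}) : HTop.IsAWNormalization (awnν X) := by
  refine ⟨isUnivHomeo_awnν X, fun Z π hπ => ?_⟩
  exact ⟨awnDesc π hπ, awnDesc_comp π hπ, fun h' hh' => awnDesc_unique π hπ h' hh'⟩

end UP

end Groth.Agent.Helper11.UH
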