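/-
Absolutely flat (von Neumann regular) rings: every module is flat (helper11).
-/
import Mathlib.RingTheory.Flat.Tensor
import Mathlib.RingTheory.Ideal.Span
import Mathlib.RingTheory.Finiteness.Basic
import Mathlib.Algebra.Field.Basic
import Mathlib.Algebra.Ring.Pi

set_option autoImplicit false

namespace Groth.Agent.Helper11

open TensorProduct

universe u v

variable {A : Type u} [CommRing A]

/-- In a von Neumann regular ring every finitely generated ideal is generated by an idempotent. -/
theorem exists_idempotent_span_of_fg (hA : ∀ a : A, ∃ b : A, a * a * b = a) (I : Ideal A)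
    (hI : I.FG) : ∃ e : A, e * e = e ∧ I = Ideal.span {e} := by
  refine Submodule.fg_induction (R := A) (M := A)
    (motive := fun I _ => ∃ e : A, e * e = e ∧ I = Ideal.span {e}) ?_ ?_ I hI
  · intro a
    obtain ⟨b, hb⟩ := hA a
    refine ⟨a * b, ?_, ?_⟩
    · calc a * b * (a * b) = (a * a * b) * b := by ring
        _ = a * b := by rw [hb]
    · apply le_antisymm
      · rw [Submodule.span_singleton_le_iff_mem]
        refine Ideal.mem_span_singleton'.mpr ⟨a, ?_⟩
        rw [← mul_assoc]
        exact hb
      · rw [Ideal.span_le, Set.singleton_subset_iff]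
        exact Ideal.mul_mem_right _ _ (Submodule.mem_span_singleton_self a)
  · rintro I₁ I₂ - - ⟨e, he, rfl⟩ ⟨f, hf, rfl⟩
    refine ⟨e + f - e * f, ?_, ?_⟩
    · calc (e + f - e * f) * (e + f - e * f)
          = e * e + f * f + 2 * (e * f) - 2 * (e * e) * f - 2 * e * (f * f)
            + (e * e) * (f * f) := by ring
        _ = e + f - e * f := by rw [he, hf]; ring
    · apply le_antisymm
      · rw [sup_le_iff]
        constructor
        · rw [Ideal.span_le, Set.singleton_subset_iff]
          refine Ideal.mem_span_singleton'.mpr ⟨e, ?_⟩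
          calc e * (e + f - e * f) = e * e + e * f - (e * e) * f := by ring
            _ = e := by rw [he]; ring
        · rw [Ideal.span_le, Set.singleton_subset_iff]
          refine Ideal.mem_span_singleton'.mpr ⟨f, ?_⟩
          calc f * (e + f - e * f) = f * e + f * f - e * (f * f) := by ring
            _ = f := by rw [hf]; ring
      · rw [Ideal.span_le, Set.singleton_subset_iff]
        have h1 : e ∈ Ideal.span {e} ⊔ Ideal.span {f} :=
          Submodule.mem_sup_left (Ideal.subset_span rfl)
        have h2 : f ∈ Ideal.span {e} ⊔ Ideal.span {f} :=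
          Submodule.mem_sup_right (Ideal.subset_span rfl)
        exact Submodule.sub_mem _ (Submodule.add_mem _ h1 h2) (Ideal.mul_mem_left _ e h2)

/-- Every module over a von Neumann regular ring is flat. -/
theorem flat_of_vonNeumannRegular (hA : ∀ a : A, ∃ b : A, a * a * b = a)
    (M : Type v) [AddCommGroup M] [Module A M] : Module.Flat A M := by
  rw [Module.Flat.iff_rTensor_injective]
  intro I hI
  obtain ⟨e, he, rfl⟩ := exists_idempotent_span_of_fg hA I hI
  -- retraction of the inclusion
  let ρ : A →ₗ[A] (Ideal.span {e} : Ideal A) :=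
    { toFun := fun r => ⟨r * e, Ideal.mul_mem_left _ r (Ideal.subset_span rfl)⟩
      map_add' := fun r s => by ext; simp [add_mul]
      map_smul' := fun r s => by ext; simp [mul_assoc] }
  have hρ : ρ.comp (Ideal.span {e} : Ideal A).subtype = LinearMap.id := by
    ext ⟨x, hx⟩
    obtain ⟨y, rfl⟩ := Ideal.mem_span_singleton'.mp hx
    simp only [LinearMap.coe_comp, Function.comp_apply, Submodule.subtype_apply, LinearMap.coe_mk,
      AddHom.coe_mk, LinearMap.id_coe, id_eq, ρ]
    rw [mul_assoc, he]
  have h2 : (ρ.rTensor M).comp ((Ideal.span {e} : Ideal A).subtype.rTensor M) = LinearMap.id := by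
    rw [← LinearMap.rTensor_comp, hρ, LinearMap.rTensor_id]
  exact Function.LeftInverse.injective (g := ρ.rTensor M) fun x => by
    have := LinearMap.congr_fun h2 x
    simpa using this

/-- A product of fields is von Neumann regular. -/
theorem pi_field_vonNeumannRegular {ι : Type*} (K : ι → Type*) [∀ i, Field (K i)]
    (a : ∀ i, K i) : ∃ b : (∀ i, K i), a * a * b = a := by
  refine ⟨fun i => (a i)⁻¹, ?_⟩
  funext i
  simp only [Pi.mul_apply]
  by_cases h : a i = 0
  · simp [h]
  · field_simp

end Groth.Agent.Helper11
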