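/-
Characterizations of absolutely flat rings (helper11).
-/
import Groth.Agent.Lib.Helper11.AbsFlat
import Mathlib.LinearAlgebra.TensorProduct.Quotient
import Mathlib.RingTheory.KrullDimension.Zero
import Mathlib.RingTheory.LocalProperties.Reduced
import Mathlib.RingTheory.LocalProperties.Basic
import Mathlib.RingTheory.Localization.AtPrime.Basic

set_option autoImplicit false

namespace Groth.Agent.Helper11

open TensorProduct

universe u

variable {A : Type u} [CommRing A]

/-- If `A ⧸ (a)` is flat then `a ∈ (a²)`. -/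
theorem exists_mul_mul_eq_of_flat_quotient (a : A)
    [Module.Flat A (A ⧸ (Ideal.span {a} : Ideal A))] : ∃ b : A, a * a * b = a := by
  set I : Ideal A := Ideal.span {a} with hI
  have haI : a ∈ I := Ideal.subset_span rfl
  have hinj := Module.Flat.iff_rTensor_injective'.mp
    (inferInstance : Module.Flat A (A ⧸ I)) I
  let t : I ⊗[A] (A ⧸ I) := (⟨a, haI⟩ : I) ⊗ₜ[A] (Ideal.Quotient.mk I 1)
  have ht : (I.subtype.rTensor (A ⧸ I)) t = 0 := by
    simp only [t, LinearMap.rTensor_tmul, Submodule.subtype_apply]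
    have h1 : a ⊗ₜ[A] (Ideal.Quotient.mk I 1) = (1 : A) ⊗ₜ[A] (a • Ideal.Quotient.mk I 1) := by
      rw [← TensorProduct.smul_tmul, smul_eq_mul, mul_one]
    rw [h1]
    have h2 : a • (Ideal.Quotient.mk I 1) = 0 := by
      have h5 : a • (Ideal.Quotient.mk I 1) = Ideal.Quotient.mk I (a • 1) := rfl
      rw [h5, smul_eq_mul, mul_one]
      exact Ideal.Quotient.eq_zero_iff_mem.mpr haI
    rw [h2, TensorProduct.tmul_zero]
  have ht0 : t = 0 := hinj (by rw [ht, map_zero])
  have h3 : TensorProduct.tensorQuotEquivQuotSMul I I t = 0 := by rw [ht0, map_zero]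
  simp only [t, TensorProduct.tensorQuotEquivQuotSMul_tmul_mk, one_smul] at h3
  rw [Submodule.Quotient.mk_eq_zero] at h3
  have h4 : a ∈ Submodule.map I.subtype (I • (⊤ : Submodule A I)) := ⟨⟨a, haI⟩, h3, rfl⟩
  rw [Submodule.map_smul'', Submodule.map_top, Submodule.range_subtype, smul_eq_mul, hI,
    Ideal.span_singleton_mul_span_singleton] at h4
  obtain ⟨b, hb⟩ := Ideal.mem_span_singleton'.mp h4
  exact ⟨b, by
    calc a * a * b = b * (a * a) := by ring
      _ = a := hb⟩

theorem isReduced_of_vonNeumannRegular (hA : ∀ a : A, ∃ b : A, a * a * b = a) : IsReduced A := by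
  refine ⟨fun x hx => ?_⟩
  obtain ⟨n, hn⟩ := hx
  obtain ⟨b, hb⟩ := hA x
  have key : ∀ k : ℕ, x = x ^ (k + 1) * b ^ k := by
    intro k
    induction k with
    | zero => simp
    | succ k ih =>
      calc x = x ^ (k + 1) * b ^ k := ih
        _ = x ^ k * (x * x * b) * b ^ k := by rw [hb]; ring
        _ = x ^ (k + 1 + 1) * b ^ (k + 1) := by ring
  rw [key n, pow_succ, hn]
  ring

theorem isMaximal_of_isPrime_of_vonNeumannRegular (hA : ∀ a : A, ∃ b : A, a * a * b = a)
    (p : Ideal A) (hp : p.IsPrime) : p.IsMaximal := by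
  rw [Ideal.isMaximal_iff]
  refine ⟨fun h => hp.ne_top ((Ideal.eq_top_iff_one p).mpr h), ?_⟩
  intro J x hpJ hxp hxJ
  obtain ⟨b, hb⟩ := hA x
  have h1 : x * (1 - x * b) = 0 := by
    calc x * (1 - x * b) = x - x * x * b := by ring
      _ = 0 := by rw [hb, sub_self]
  have h2 : 1 - x * b ∈ p := by
    rcases hp.mem_or_mem (h1 ▸ p.zero_mem : x * (1 - x * b) ∈ p) with h | h
    · exact absurd h hxp
    · exact h
  have h3 : (1 : A) = (1 - x * b) + x * b := by ring
  rw [h3]
  exact J.add_mem (hpJ h2) (J.mul_mem_right _ hxJ)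

theorem isField_localization_of_reduced_of_zeroDim [IsReduced A]
    (h : ∀ p : Ideal A, p.IsPrime → p.IsMaximal) (p : Ideal A) [hp : p.IsPrime] :
    IsField (Localization.AtPrime p) := by
  have : Ring.KrullDimLE 0 A := Ring.KrullDimLE.mk₀ h
  have hpmin : p ∈ minimalPrimes A := by
    rw [Ring.KrullDimLE.minimalPrimes_eq_setOfPred_isPrime]
    exact hp
  have : Ring.KrullDimLE 0 (Localization.AtPrime p) :=
    Ring.KrullDimLE.of_isLocalization p hpmin (Localization.AtPrime p)
  exact Ring.KrullDimLE.isField_of_isReduced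

theorem vonNeumannRegular_of_isField_localization
    (h : ∀ (p : Ideal A) [p.IsPrime], IsField (Localization.AtPrime p)) (a : A) :
    ∃ b : A, a * a * b = a := by
  have hmem : a ∈ Ideal.span {a * a} := by
    refine Ideal.mem_of_localization_maximal fun P hP => ?_
    have hf := h P
    rw [Ideal.map_span, Set.image_singleton]
    by_cases h0 : algebraMap A (Localization.AtPrime P) a = 0
    · rw [h0]
      exact Ideal.zero_mem _
    · obtain ⟨c, hc⟩ := hf.mul_inv_cancel h0
      refine Ideal.mem_span_singleton'.mpr ⟨c, ?_⟩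
      rw [map_mul]
      calc c * (algebraMap A (Localization.AtPrime P) a * algebraMap A (Localization.AtPrime P) a)
          = (algebraMap A (Localization.AtPrime P) a * c) *
            algebraMap A (Localization.AtPrime P) a := by ring
        _ = algebraMap A (Localization.AtPrime P) a := by rw [hc, one_mul]
  obtain ⟨b, hb⟩ := Ideal.mem_span_singleton'.mp hmem
  exact ⟨b, by
    calc a * a * b = b * (a * a) := by ring
      _ = a := hb⟩

end Groth.Agent.Helper11
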