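import Groth.Agent.Lib.Helper11.DCSeq

/-!
Adically complete modules satisfy the sequence criterion for derived completeness.
-/

universe u

namespace Groth.Agent.Helper11.DC

variable {A : Type u} [CommRing A]

theorem Tf_bijective_of_isAdicComplete (I : Ideal A) (M : Type u) [AddCommGroup M] [Module A M]
    [IsAdicComplete I M] (f : A) (hf : f ∈ I) : Function.Bijective (Tf M f) := by
  constructor
  · rw [Tf_injective_iff]
    intro x hx
    have h1 : ∀ i, x i = f • x (i + 1) := fun i => sub_eq_zero.mp (congrFun hx i)
    have h2 : ∀ n i, x i = f ^ n • x (i + n) := by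
      intro n
      induction n with
      | zero => intro i; simp
      | succ n ih =>
        intro i
        rw [ih i, h1 (i + n), smul_smul, pow_succ, add_assoc]
    funext i
    apply IsHausdorff.haus (inferInstance : IsHausdorff I M)
    intro n
    rw [SModEq.zero, h2 n i]
    exact Submodule.smul_mem_smul (Ideal.pow_mem_pow hf n) trivial
  · intro m
    let s : ℕ → ℕ → M := fun i n => ∑ k ∈ Finset.range n, f ^ k • m (i + k)
    have hs : ∀ i n, s i (n + 1) = m i + f • s (i + 1) n := by
      intro i n
      simp only [s]
      rw [Finset.sum_range_succ', Finset.smul_sum, pow_zero, one_smul, add_zero, add_comm]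
      congr 1
      refine Finset.sum_congr rfl fun k _ => ?_
      rw [smul_smul, pow_succ', add_assoc, add_comm 1 k]
    have hstep : ∀ i n, s i (n + 1) = s i n + f ^ n • m (i + n) := fun i n =>
      Finset.sum_range_succ _ _
    have hcauchy : ∀ i {a b : ℕ}, a ≤ b →
        s i a ≡ s i b [SMOD (I ^ a • ⊤ : Submodule A M)] := by
      intro i a b hab
      induction b, hab using Nat.le_induction with
      | base => exact SModEq.refl _
      | succ b hab ih =>
        refine ih.trans ?_
        rw [SModEq.sub_mem, hstep, sub_add_cancel_left]
        refine Submodule.neg_mem _ (Submodule.smul_mem_smul ?_ trivial)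
        exact Ideal.pow_le_pow_right hab (Ideal.pow_mem_pow hf b)
    choose x hx using fun i =>
      IsPrecomplete.prec (inferInstance : IsPrecomplete I M) (fun {a b} => hcauchy i (a := a) (b := b))
    refine ⟨x, ?_⟩
    funext i
    have key : x i - f • x (i + 1) - m i = 0 := by
      apply IsHausdorff.haus (inferInstance : IsHausdorff I M)
      intro n
      rw [SModEq.zero]
      have e1 : s i (n + 1) - x i ∈ (I ^ n • ⊤ : Submodule A M) := by
        have := hx i (n + 1)
        rw [SModEq.sub_mem] at this
        exact Submodule.smul_mono_left (Ideal.pow_le_pow_right (Nat.le_succ n)) this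
      have e2 : s (i + 1) n - x (i + 1) ∈ (I ^ n • ⊤ : Submodule A M) := by
        have := hx (i + 1) n
        rwa [SModEq.sub_mem] at this
      have e3 : x i - f • x (i + 1) - m i =
          f • (s (i + 1) n - x (i + 1)) - (s i (n + 1) - x i) := by
        rw [hs i n, smul_sub]
        abel
      rw [e3]
      exact Submodule.sub_mem _ (Submodule.smul_mem _ _ e2) e1
    simp only [Tf]
    exact sub_eq_zero.mp key

end Groth.Agent.Helper11.DC
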