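import Groth.Agent.Lib.Helper11.DCHom
import Groth.Prelude.Def_DRing2

/-!
Complexes whose terms satisfy the sequence criterion have derived complete image in `D(A)`.
-/

open CategoryTheory Category Limits DerivedCategory

attribute [local instance] HasDerivedCategory.standard

universe u

namespace Groth.Agent.Helper11.DC

variable {A : Type u} [CommRing A]

theorem tf_of_linearEquiv {M N : Type u} [AddCommGroup M] [Module A M] [AddCommGroup N]
    [Module A N] (e : M ≃ₗ[A] N) (f : A) (h : Function.Bijective (Tf M f)) :
    Function.Bijective (Tf N f) := by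
  constructor
  · rw [Tf_injective_iff]
    intro x hx
    have h1 : Tf M f (fun i => e.symm (x i)) = 0 := by
      have := Tf_map f e.symm.toLinearMap x
      simp only [LinearEquiv.coe_coe] at this
      rw [this, hx]
      funext i
      simp
    have h2 := (Tf_injective_iff f).mp h.1 _ h1
    funext i
    have := congrFun h2 i
    simpa using this
  · intro y
    obtain ⟨x, hx⟩ := h.2 (fun i => e.symm (y i))
    refine ⟨fun i => e (x i), ?_⟩
    have := Tf_map f e.toLinearMap x
    simp only [LinearEquiv.coe_coe] at this
    rw [this, hx]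
    funext i
    simp

theorem tf_of_iso {X Y : ModuleCat.{u} A} (e : X ≅ Y) (f : A)
    (h : Function.Bijective (Tf X f)) : Function.Bijective (Tf Y f) :=
  tf_of_linearEquiv e.toLinearEquiv f h

theorem tf_pi (ι : Type u) (M : Type u) [AddCommGroup M] [Module A M] (f : A)
    (hM : Function.Bijective (Tf M f)) : Function.Bijective (Tf (ι → M) f) := by
  constructor
  · intro X X' h
    funext n j
    have : Tf M f (fun n => X n j) = Tf M f (fun n => X' n j) := by
      funext n
      exact congrFun (congrFun h n) j
    exact congrFun (hM.1 this) n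
  · intro Z
    choose x hx using fun j => hM.2 (fun n => Z n j)
    refine ⟨fun n j => x j n, ?_⟩
    funext n j
    exact congrFun (hx j) n

theorem tf_of_finite_free (X : Type u) [AddCommGroup X] [Module A X] [Module.Finite A X]
    [Module.Free A X] (f : A) (hA : Function.Bijective (Tf A f)) :
    Function.Bijective (Tf X f) :=
  tf_of_linearEquiv (Module.Free.chooseBasis A X).equivFun.symm f (tf_pi _ A f hA)

theorem tf_homology_of_termwise (E : DRing.Cx A) (f : A)
    (hE : ∀ i, Function.Bijective (Tf (E.X i) f)) (i : ℤ) :
    Function.Bijective (Tf (Dual.HD A (DRing.toD E) i) f) := by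
  have e1 : (homologyFunctor (ModuleCat.{u} A) i).obj (Q.obj E) ≅ E.homology i :=
    (homologyFunctorFactors (ModuleCat.{u} A) i).app E
  have e2 : E.homology i ≅ (E.sc i).moduleCatLeftHomologyData.H :=
    (E.sc i).moduleCatHomologyIso
  refine tf_of_iso (e1 ≪≫ e2).symm f ?_
  exact dc_coker f (E.sc i).moduleCatToCycles (hE _) (dc_ker f (E.sc i).g.hom (hE _) (hE _))

theorem isDerivedComplete_of_termwise (I : Ideal A) (E : DRing.Cx A)
    (hE : ∀ i, ∀ f ∈ I, Function.Bijective (Tf (E.X i) f)) (K : Dual.D A)
    (e : DRing.toD E ≅ K) : DRing.IsDerivedComplete I K := by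
  rw [isDerivedComplete_iff_homology]
  intro i f hf
  exact tf_of_iso ((homologyFunctor (ModuleCat.{u} A) i).mapIso e) f
    (tf_homology_of_termwise E f (fun j => hE j f hf) i)

end Groth.Agent.Helper11.DC
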