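import Mathlib.RingTheory.AdicCompletion.AsTensorProduct
import Mathlib.RingTheory.AdicCompletion.Completeness
import Mathlib.Algebra.Category.ModuleCat.Monoidal.Basic
import Mathlib.RingTheory.Flat.CategoryTheory
import Groth.Agent.Lib.Helper11.DCAdic
import Groth.Agent.Lib.Helper11.DCPsCoh

/-!
# Adic completion as a tensor product, at the level of `ModuleCat` (helper11)

Module-level input for the computation of the cohomology of the derived completion of an object
with finite cohomology over a Noetherian ring.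
-/

set_option autoImplicit false
set_option linter.unusedSectionVars false
set_option linter.unusedVariables false
set_option linter.style.haveILetI false

universe u

open CategoryTheory MonoidalCategory
open scoped TensorProduct

namespace Groth.Agent.Helper11.AdicDC

open Groth.Agent.Helper11.DC

variable {A : Type u} [CommRing A] (I : Ideal A)

section Killed

variable (Z : Type u) [AddCommGroup Z] [Module A Z]

theorem smul_top_eq_bot (hZ : ∀ r ∈ I, ∀ z : Z, r • z = 0) :
    (I • ⊤ : Submodule A Z) = ⊥ := by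
  rw [eq_bot_iff, Submodule.smul_le]
  intro r hr z _
  rw [hZ r hr z]
  exact Submodule.zero_mem _

/-- a module killed by `I` is `I`-adically complete -/
theorem isAdicComplete_of_smul_eq_zero (hZ : ∀ r ∈ I, ∀ z : Z, r • z = 0) :
    IsAdicComplete I Z := by
  have hb := smul_top_eq_bot I Z hZ
  refine { haus' := ?_, prec' := ?_ }
  · intro x hx
    have h1 := hx 1
    rw [pow_one, hb, SModEq.bot] at h1
    exact h1
  · intro f hf
    refine ⟨f 1, fun n => ?_⟩
    rcases Nat.eq_zero_or_pos n with rfl | hn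
    · rw [pow_zero, Ideal.one_eq_top, Submodule.top_smul]
      exact SModEq.top
    · have h1 := hf (m := 1) (n := n) hn
      rw [pow_one, hb, SModEq.bot] at h1
      rw [h1]

end Killed

section Noeth

variable [IsNoetherianRing A]

/-- `N ⊗ Â ≃ N^` for a finite module over a Noetherian ring -/
noncomputable def tensorEquiv (N : Type u) [AddCommGroup N] [Module A N] [Module.Finite A N] :
    N ⊗[A] AdicCompletion I A ≃ₗ[A] AdicCompletion I N :=
  (TensorProduct.comm A N (AdicCompletion I A)).trans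
    ((AdicCompletion.ofTensorProductEquivOfFiniteNoetherian I N).restrictScalars A)

theorem tensorEquiv_tmul_one (N : Type u) [AddCommGroup N] [Module A N] [Module.Finite A N]
    (x : N) : tensorEquiv I N (x ⊗ₜ[A] (1 : AdicCompletion I A)) = AdicCompletion.of I N x := by
  show (AdicCompletion.ofTensorProductEquivOfFiniteNoetherian I N)
    ((1 : AdicCompletion I A) ⊗ₜ[A] x) = _
  rw [AdicCompletion.ofTensorProductEquivOfFiniteNoetherian_apply,
    AdicCompletion.ofTensorProduct_tmul, one_smul]

end Noeth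

/-- `Â` as an object of `ModuleCat A` -/
noncomputable abbrev Nhat : ModuleCat.{u} A := ModuleCat.of A (AdicCompletion I A)

/-- `A ⟶ Â` -/
noncomputable def ιhat : 𝟙_ (ModuleCat.{u} A) ⟶ Nhat I :=
  ModuleCat.ofHom (Algebra.linearMap A (AdicCompletion I A))

theorem ιhat_one : (ιhat I).hom (1 : A) = (1 : AdicCompletion I A) :=
  map_one (algebraMap A (AdicCompletion I A))

/-- the natural map `X ⟶ X ⊗ Â` -/
noncomputable def υ : 𝟭 (ModuleCat.{u} A) ⟶ tensorRight (Nhat I) where
  app X := (ρ_ X).inv ≫ X ◁ ιhat I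
  naturality X Y f := by
    dsimp
    rw [← Category.assoc, rightUnitor_inv_naturality, Category.assoc, Category.assoc,
      whisker_exchange]

theorem υ_app_apply (X : ModuleCat.{u} A) (x : X) :
    ((υ I).app X).hom x = x ⊗ₜ[A] (1 : AdicCompletion I A) := by
  show (X ◁ ιhat I).hom ((ρ_ X).inv.hom x) = _
  have h1 : (ρ_ X).inv.hom x = x ⊗ₜ[A] (1 : A) := ModuleCat.MonoidalCategory.rightUnitor_inv_apply x
  rw [h1]
  show x ⊗ₜ[A] (ιhat I).hom (1 : A) = _
  rw [ιhat_one]

/-- `j : N ⟶ N'` is (isomorphic to) the canonical map of `N` to its `I`-adic completion -/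
def IsAC {N N' : ModuleCat.{u} A} (j : N ⟶ N') : Prop :=
  ∃ e : N' ≃ₗ[A] AdicCompletion I N, ∀ x : N, e (j.hom x) = AdicCompletion.of I N x

theorem isAC_of_arrow_iso {N₁ N₁' N N' : ModuleCat.{u} A} (j₁ : N₁ ⟶ N₁') (j : N ⟶ N')
    (a : N₁ ≅ N) (b : N₁' ≅ N') (h : j₁ ≫ b.hom = a.hom ≫ j) (h1 : IsAC I j₁) : IsAC I j := by
  obtain ⟨e, he⟩ := h1
  refine ⟨(b.symm.toLinearEquiv.trans e).trans
    ((AdicCompletion.congr I a.toLinearEquiv).restrictScalars A), fun x => ?_⟩
  obtain ⟨y, rfl⟩ : ∃ y : N₁, a.hom.hom y = x :=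
    ⟨a.inv.hom x, by
      rw [← ModuleCat.comp_apply]
      simp⟩
  have h2 : b.inv.hom (j.hom (a.hom.hom y)) = j₁.hom y := by
    have := congrArg (fun t => b.inv.hom (t.hom y)) h
    simp only [ModuleCat.comp_apply] at this
    rw [← this, ← ModuleCat.comp_apply]
    simp
  show AdicCompletion.map I a.toLinearEquiv.toLinearMap (e (b.inv.hom (j.hom (a.hom.hom y)))) = _
  rw [h2, he, AdicCompletion.map_of]
  rfl

section Noeth2

variable [IsNoetherianRing A]

theorem isAC_υ_app (N : ModuleCat.{u} A) [Module.Finite A N] : IsAC I ((υ I).app N) :=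
  ⟨tensorEquiv I N, fun x => by
    rw [υ_app_apply]
    exact tensorEquiv_tmul_one I N x⟩

/-- `Tf` is bijective on `X ⊗ Â` for `X` finite -/
theorem tf_tensor_Nhat (X : ModuleCat.{u} A) [Module.Finite A X] (f : A) (hf : f ∈ I) :
    Function.Bijective (Tf ((X ⊗ Nhat I : ModuleCat.{u} A)) f) := by
  haveI : IsAdicComplete I (AdicCompletion I X) :=
    AdicCompletion.isAdicComplete (I := I) (M := X)
      ((isNoetherianRing_iff_ideal_fg A).mp inferInstance I)
  exact tf_of_linearEquiv (tensorEquiv I X).symm f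
    (Tf_bijective_of_isAdicComplete I (AdicCompletion I X) f hf)

/-- `A ⊗ Z ⟶ Â ⊗ Z` is an isomorphism for `Z` finite and killed by `I` -/
theorem isIso_ιhat_whiskerRight (Z : ModuleCat.{u} A) [Module.Finite A Z]
    (hZ : ∀ r ∈ I, ∀ z : Z, r • z = 0) : IsIso (ιhat I ▷ Z) := by
  haveI : IsAdicComplete I Z := isAdicComplete_of_smul_eq_zero I Z hZ
  rw [ConcreteCategory.isIso_iff_bijective]
  let E := AdicCompletion.ofTensorProductEquivOfFiniteNoetherian I Z
  have hcomp : ∀ w : (𝟙_ (ModuleCat.{u} A) ⊗ Z : ModuleCat.{u} A),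
      E ((ιhat I ▷ Z).hom w) = AdicCompletion.of I Z ((λ_ Z).hom.hom w) := by
    intro w
    refine TensorProduct.induction_on w ?_ ?_ ?_
    · simp
    · intro a z
      have h1 : (ιhat I ▷ Z).hom (a ⊗ₜ[A] z) = (ιhat I).hom a ⊗ₜ[A] z := rfl
      have h2 : (λ_ Z).hom.hom (a ⊗ₜ[A] z) = a • z :=
        ModuleCat.MonoidalCategory.leftUnitor_hom_apply a z
      rw [h1, h2, AdicCompletion.ofTensorProductEquivOfFiniteNoetherian_apply,
        AdicCompletion.ofTensorProduct_tmul, map_smul]
      show algebraMap A (AdicCompletion I A) a • _ = _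
      rw [algebraMap_smul]
    · intro x y hx hy
      rw [map_add, map_add, hx, hy, map_add, map_add]
  have h : (⇑E) ∘ (⇑(ιhat I ▷ Z).hom) = (⇑(AdicCompletion.of I Z)) ∘ (⇑(λ_ Z).hom.hom) :=
    funext hcomp
  have hb : Function.Bijective ((⇑(AdicCompletion.of I Z)) ∘ (⇑(λ_ Z).hom.hom)) :=
    (AdicCompletion.of_bijective I Z).comp
      ((ConcreteCategory.isIso_iff_bijective (λ_ Z).hom).mp inferInstance)
  rw [← h] at hb
  exact (Function.Bijective.of_comp_iff' E.bijective _).mp hb

theorem isIso_υ_app_whiskerRight (X Z : ModuleCat.{u} A) [Module.Finite A Z]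
    (hZ : ∀ r ∈ I, ∀ z : Z, r • z = 0) : IsIso ((υ I).app X ▷ Z) := by
  haveI := isIso_ιhat_whiskerRight I Z hZ
  show IsIso (((ρ_ X).inv ≫ X ◁ ιhat I) ▷ Z)
  rw [comp_whiskerRight, whisker_assoc]
  infer_instance

instance flat_Nhat : Module.Flat A (Nhat I) :=
  inferInstanceAs (Module.Flat A (AdicCompletion I A))

theorem flat_tensor_Nhat (X : ModuleCat.{u} A) [Module.Flat A X] :
    Module.Flat A (X ⊗ Nhat I : ModuleCat.{u} A) :=
  inferInstanceAs (Module.Flat A (X ⊗[A] AdicCompletion I A))

end Noeth2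

end Groth.Agent.Helper11.AdicDC
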