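import Groth.Agent.Lib.Helper11.DCCone
import Groth.Prelude.Def_DRing2
import Mathlib.Algebra.Homology.DerivedCategory.KProjective
import Mathlib.Algebra.Category.ModuleCat.Projective

/-!
Third vertices of distinguished triangles whose first two vertices are represented by complexes,
the first of which is K-projective.
-/

open CategoryTheory Category Limits Pretriangulated DerivedCategory

attribute [local instance] HasDerivedCategory.standard

universe u

namespace Groth.Agent.Helper11.DC

variable {R : Type u} [CommRing R]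

/-- Lifting morphisms of `D(R)` out of a K-projective complex to chain maps. -/
theorem exists_lift_of_isKProjective (E₁ E₂ : DRing.Cx R) [E₁.IsKProjective]
    (g : Q.obj E₁ ⟶ Q.obj E₂) : ∃ φ : E₁ ⟶ E₂, Q.map φ = g := by
  obtain ⟨ψ, hψ⟩ := (CochainComplex.IsKProjective.Qh_map_bijective E₁
    ((HomotopyCategory.quotient _ _).obj E₂)).2 g
  obtain ⟨φ, rfl⟩ := (HomotopyCategory.quotient _ _).map_surjective ψ
  exact ⟨φ, hψ⟩

theorem third_vertex (T : Triangle (Dual.D R)) (hT : T ∈ distTriang (Dual.D R))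
    (E₁ E₂ : DRing.Cx R) [E₁.IsKProjective] (e₁ : T.obj₁ ≅ Q.obj E₁) (e₂ : T.obj₂ ≅ Q.obj E₂) :
    ∃ φ : E₁ ⟶ E₂, Nonempty (T.obj₃ ≅ Q.obj (CochainComplex.mappingCone φ)) := by
  obtain ⟨φ, hφ⟩ := exists_lift_of_isKProjective E₁ E₂ (e₁.inv ≫ T.mor₁ ≫ e₂.hom)
  refine ⟨φ, cone_rep T hT φ e₁ e₂ ?_⟩
  rw [hφ, e₁.hom_inv_id_assoc]

/-- K-projectivity of bounded above complexes of projective modules. -/
theorem isKProjective_of_vanishesAbove (E : DRing.Cx R) (b : ℤ) (hb : DRing.VanishesAbove E b)
    (hE : ∀ i, Module.Projective R (E.X i)) : E.IsKProjective := by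
  have : E.IsStrictlyLE b := by
    rw [CochainComplex.isStrictlyLE_iff]
    intro i hi
    exact hb i hi
  have : ∀ n : ℤ, Projective (E.X n) := fun n =>
    (IsProjective.iff_projective (E.X n)).mp (hE n)
  exact CochainComplex.isKProjective_of_projective E b

/-- Shifting a representative. -/
noncomputable def shiftRepIso (E : DRing.Cx R) (K : Dual.D R) (e : Q.obj E ≅ K) (n : ℤ) :
    Q.obj (E⟦n⟧) ≅ K⟦n⟧ :=
  (Q.commShiftIso n).app E ≪≫ (shiftFunctor (Dual.D R) n).mapIso e

end Groth.Agent.Helper11.DC
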