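import Groth.Agent.Lib.Helper11.DCFlatBC
import Groth.Agent.Lib.Helper11.DCCone2
import Mathlib.Algebra.Homology.DerivedCategory.HomologySequence

/-!
Exact functors, derived categories and cohomology; flat base change of `m`-pseudo-coherent modules.
-/

open CategoryTheory Category Limits DerivedCategory

attribute [local instance] HasDerivedCategory.standard

universe u

namespace Groth.Agent.Helper11.DC

section General

variable {A B : Type u} [CommRing A] [CommRing B]
  (F : ModuleCat.{u} A ⥤ ModuleCat.{u} B) [F.Additive] [PreservesFiniteLimits F]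
  [PreservesFiniteColimits F]

/-- An exact functor commutes with the cohomology of complexes. -/
noncomputable def mapHCHomologyIso (i : ℤ) :
    F.mapHomologicalComplex (ComplexShape.up ℤ) ⋙
        HomologicalComplex.homologyFunctor (ModuleCat.{u} B) _ i ≅
      HomologicalComplex.homologyFunctor (ModuleCat.{u} A) _ i ⋙ F :=
  NatIso.ofComponents (fun K => (K.sc i).mapHomologyIso F)
    (fun f => ShortComplex.mapHomologyIso_hom_naturality
      ((HomologicalComplex.shortComplexFunctor (ModuleCat.{u} A) _ i).map f) F)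

/-- An exact functor commutes with the cohomology functors of derived categories (after `Q`). -/
noncomputable def qMapDerivedHomologyIso (i : ℤ) :
    DerivedCategory.Q ⋙ F.mapDerivedCategory ⋙ homologyFunctor (ModuleCat.{u} B) i ≅
      DerivedCategory.Q ⋙ homologyFunctor (ModuleCat.{u} A) i ⋙ F :=
  (Functor.associator _ _ _).symm ≪≫ Functor.isoWhiskerRight F.mapDerivedCategoryFactors _ ≪≫
    Functor.associator _ _ _ ≪≫
    Functor.isoWhiskerLeft _ (homologyFunctorFactors (ModuleCat.{u} B) i) ≪≫
    mapHCHomologyIso F i ≪≫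
    Functor.isoWhiskerRight (homologyFunctorFactors (ModuleCat.{u} A) i).symm F ≪≫
    Functor.associator _ _ _

theorem isIso_homology_map_mapDerived {E₁ E₂ : DRing.Cx A} (φ : E₁ ⟶ E₂) (i : ℤ)
    (h : IsIso ((homologyFunctor (ModuleCat.{u} A) i).map (Q.map φ))) :
    IsIso ((homologyFunctor (ModuleCat.{u} B) i).map (F.mapDerivedCategory.map (Q.map φ))) := by
  have := (NatIso.isIso_map_iff (qMapDerivedHomologyIso F i) φ).mpr (by
    change IsIso (F.map ((homologyFunctor (ModuleCat.{u} A) i).map (Q.map φ)))
    infer_instance)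
  exact this

theorem epi_homology_map_mapDerived {E₁ E₂ : DRing.Cx A} (φ : E₁ ⟶ E₂) (i : ℤ)
    (h : Epi ((homologyFunctor (ModuleCat.{u} A) i).map (Q.map φ))) :
    Epi ((homologyFunctor (ModuleCat.{u} B) i).map (F.mapDerivedCategory.map (Q.map φ))) := by
  have h1 : Epi (F.map ((homologyFunctor (ModuleCat.{u} A) i).map (Q.map φ))) := inferInstance
  have e := Arrow.isoOfNatIso (qMapDerivedHomologyIso F i) (Arrow.mk φ)
  exact ((MorphismProperty.epimorphisms _).arrow_iso_iff e).mpr h1

end General

section FlatBC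

variable {A B : Type u} [CommRing A] [CommRing B] (f : A →+* B)

theorem isIso_map_comp_aux {X Y Z W : Dual.D B} (a : X ⟶ Y) (b : Y ⟶ Z) (c : Z ⟶ W) (_ : IsIso a)
    (_ : IsIso c) (i : ℤ) (h : IsIso ((homologyFunctor (ModuleCat.{u} B) i).map b)) :
    IsIso ((homologyFunctor (ModuleCat.{u} B) i).map (a ≫ b ≫ c)) := by
  rw [Functor.map_comp, Functor.map_comp]
  infer_instance

theorem epi_map_comp_aux {X Y Z W : Dual.D B} (a : X ⟶ Y) (b : Y ⟶ Z) (c : Z ⟶ W) (_ : IsIso a)
    (_ : IsIso c) (i : ℤ) (h : Epi ((homologyFunctor (ModuleCat.{u} B) i).map b)) :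
    Epi ((homologyFunctor (ModuleCat.{u} B) i).map (a ≫ b ≫ c)) := by
  rw [Functor.map_comp, Functor.map_comp]
  infer_instance

theorem flatBC_pcm (hf : f.Flat) (m : ℤ) (M : ModuleCat.{u} A)
    (hM : DRing.IsPseudoCoherent A m ((singleFunctor (ModuleCat.{u} A) 0).obj M)) :
    DRing.IsPseudoCoherent B m ((singleFunctor (ModuleCat.{u} B) 0).obj
      ((ModuleCat.extendScalars.{u,u,u} f).obj M)) := by
  have := ModuleCat.preservesFiniteLimits_extendScalars_of_flat hf
  obtain ⟨E, a, b, α, hab, hE, hiso, hepi⟩ := hM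
  have : E.IsKProjective := isKProjective_of_vanishesAbove E b (fun i hi => hab i (Or.inr hi))
    (fun i => by
      have := (hE i).2
      infer_instance)
  obtain ⟨φ, hφ⟩ := exists_lift_of_isKProjective E
    ((CochainComplex.singleFunctor (ModuleCat.{u} A) 0).obj M) α
  subst hφ
  let F := ModuleCat.extendScalars.{u,u,u} f
  refine ⟨(F.mapHomologicalComplex (ComplexShape.up ℤ)).obj E, a, b,
    F.mapDerivedCategoryFactors.inv.app E ≫ F.mapDerivedCategory.map (Q.map φ) ≫
      (F.mapDerivedCategorySingleFunctor 0).hom.app M, ?_, ?_, ?_, ?_⟩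
  · intro i hi
    exact F.map_isZero (hab i hi)
  · intro i
    have := (hE i).1
    have := (hE i).2
    exact ⟨es_finite f (E.X i), es_free f (E.X i)⟩
  · intro i hi
    exact isIso_map_comp_aux _ _ _ (Iso.isIso_inv (F.mapDerivedCategoryFactors.app E))
      (Iso.isIso_hom ((F.mapDerivedCategorySingleFunctor 0).app M)) i
      (isIso_homology_map_mapDerived F φ i (hiso i hi))
  · exact epi_map_comp_aux _ _ _ (Iso.isIso_inv (F.mapDerivedCategoryFactors.app E))
      (Iso.isIso_hom ((F.mapDerivedCategorySingleFunctor 0).app M)) m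
      (epi_homology_map_mapDerived F φ m hepi)

end FlatBC

end Groth.Agent.Helper11.DC
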