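import Groth.Agent.Lib.Helper11.DCP8

/-!
# Principal completions and objects left orthogonal to local objects (generic form; helper11)
-/

set_option autoImplicit false

open CategoryTheory CategoryTheory.Limits Pretriangulated

universe u v w

namespace Groth.Agent.Helper11.GM

open Groth.Agent.Helper11.DCP

section Gen

variable {C : Type v} [Category.{w} C]

theorem bijective_iso_comp {X Y : C} (e : X ⟶ Y) [IsIso e] (M : C) :
    Function.Bijective (fun ψ : Y ⟶ M => e ≫ ψ) := by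
  constructor
  · intro a b h
    exact (cancel_epi e).mp h
  · intro φ
    exact ⟨inv e ≫ φ, by simp⟩

theorem bijective_comp_iso {X Y : C} (e : X ⟶ Y) [IsIso e] (L : C) :
    Function.Bijective (fun ψ : L ⟶ X => ψ ≫ e) := by
  constructor
  · intro a b h
    exact (cancel_mono e).mp h
  · intro φ
    exact ⟨φ ≫ inv e, by simp⟩

/-- Yoneda with test objects in a class containing source and target -/
theorem isIso_of_bijective_comp (P : C → Prop) {X Y : C} (g : X ⟶ Y) (hX : P X) (hY : P Y)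
    (h : ∀ L, P L → Function.Bijective (fun φ : L ⟶ X => φ ≫ g)) : IsIso g := by
  obtain ⟨s, hs⟩ := (h Y hY).2 (𝟙 Y)
  have hs' : s ≫ g = 𝟙 Y := hs
  refine ⟨s, (h X hX).1 ?_, hs'⟩
  show (g ≫ s) ≫ g = 𝟙 X ≫ g
  rw [Category.assoc, hs', Category.comp_id, Category.id_comp]

end Gen

section Tri

variable {A : Type u} [CommRing A] {C : Type v} [Category.{w} C] [Preadditive C] [Linear A C]
  [HasShift C ℤ] [HasZeroObject C] [∀ n : ℤ, (shiftFunctor C n).Additive]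
  [∀ n : ℤ, (shiftFunctor C n).Linear A] [Pretriangulated C]

/-- left orthogonality to all `f`-local objects -/
def LOrth (f : A) (L : C) : Prop := ∀ Y : C, FLocal f Y → Subsingleton (L ⟶ Y)

omit [Linear A C] [∀ n : ℤ, (shiftFunctor C n).Linear A] in
theorem bijective_comp_mor₁_of_left (T : Triangle C) (hT : T ∈ distTriang C) (L : C)
    (h3 : Subsingleton (L ⟶ T.obj₃)) (h3' : Subsingleton (L ⟶ T.obj₃⟦(-1 : ℤ)⟧)) :
    Function.Bijective (fun φ : L ⟶ T.obj₁ => φ ≫ T.mor₁) := by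
  have hT' := inv_rot_of_distTriang _ hT
  have ex1 : ∀ (φ : L ⟶ T.obj₁), φ ≫ T.mor₁ = 0 →
      ∃ h : L ⟶ T.obj₃⟦(-1 : ℤ)⟧, φ = h ≫ T.invRotate.mor₁ :=
    fun φ hφ => Triangle.coyoneda_exact₂ _ hT' φ hφ
  have ex2 : ∀ (ψ : L ⟶ T.obj₂), ψ ≫ T.mor₂ = 0 → ∃ h : L ⟶ T.obj₁, ψ = h ≫ T.mor₁ :=
    fun ψ hψ => Triangle.coyoneda_exact₂ _ hT ψ hψ
  constructor
  · intro φ φ' h
    have h' : φ ≫ T.mor₁ = φ' ≫ T.mor₁ := h
    obtain ⟨χ, hχ⟩ := ex1 (φ - φ') (by rw [Preadditive.sub_comp, h', sub_self])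
    have hχ0 : χ = 0 := h3'.elim _ _
    have hz : φ - φ' = 0 := by
      rw [hχ, hχ0]
      exact zero_comp
    exact sub_eq_zero.mp hz
  · intro ψ
    obtain ⟨h, hh⟩ := ex2 ψ (h3.elim _ _)
    exact ⟨h, hh.symm⟩

omit [Linear A C] [∀ n : ℤ, (shiftFunctor C n).Linear A] in
theorem bijective_mor₁_comp_of_right (T : Triangle C) (hT : T ∈ distTriang C) (M : C)
    (h3 : Subsingleton (T.obj₃ ⟶ M)) (h3' : Subsingleton (T.obj₃⟦(-1 : ℤ)⟧ ⟶ M)) :
    Function.Bijective (fun ψ : T.obj₂ ⟶ M => T.mor₁ ≫ ψ) := by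
  have hT' := inv_rot_of_distTriang _ hT
  have yex2 : ∀ (ψ : T.obj₂ ⟶ M), T.mor₁ ≫ ψ = 0 → ∃ χ : T.obj₃ ⟶ M, ψ = T.mor₂ ≫ χ :=
    fun ψ hψ => Triangle.yoneda_exact₂ _ hT ψ hψ
  have yex1 : ∀ (φ : T.obj₁ ⟶ M), ∃ ψ : T.obj₂ ⟶ M, φ = T.mor₁ ≫ ψ :=
    fun φ => Triangle.yoneda_exact₂ _ hT' φ (h3'.elim _ _)
  constructor
  · intro ψ ψ' h
    have h' : T.mor₁ ≫ ψ = T.mor₁ ≫ ψ' := h
    obtain ⟨χ, hχ⟩ := yex2 (ψ - ψ') (by rw [Preadditive.comp_sub, h', sub_self])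
    have : χ = 0 := h3.elim _ _
    rw [this, comp_zero] at hχ
    exact sub_eq_zero.mp hχ
  · intro φ
    obtain ⟨ψ, hψ⟩ := yex1 φ
    exact ⟨ψ, hψ.symm⟩

/-- principal completion, with the additional property that objects left orthogonal to the
`f`-local objects do not see the difference between `K` and its completion -/
theorem exists_principal' (hpow : ∀ K : C, ∃ (P : C) (π : ℕ → (P ⟶ K)), IsPow π) (f : A) (K : C) :
    ∃ (K' : C) (η : K ⟶ K'), ROrth f K' ∧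
      (∀ E : C, ROrth f E → Function.Bijective (fun φ : K' ⟶ E => η ≫ φ)) ∧
      (∀ V : C, Subsingleton (V ⟶ K) → Subsingleton (V ⟶ K⟦(1 : ℤ)⟧) →
        Subsingleton (V ⟶ K')) ∧
      (∀ L : C, LOrth f L → Function.Bijective (fun φ : L ⟶ K => φ ≫ η)) := by
  obtain ⟨P, π, hπ⟩ := hpow K
  obtain ⟨W, β, γ, hT⟩ := distinguished_cocone_triangle (theta hπ f)
  obtain ⟨K', η, q, hT₂⟩ := distinguished_cocone_triangle₂ (γ ≫ (π 0)⟦(1 : ℤ)⟧')
  have hW : FLocal f W := fLocal_cone hπ f β γ hT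
  have hA := bijective_comp_cone hπ f β γ hT
  have z23 : q ≫ γ ≫ (π 0)⟦(1 : ℤ)⟧' = 0 := comp_distTriang_mor_zero₂₃ _ hT₂
  have z31 : (γ ≫ (π 0)⟦(1 : ℤ)⟧') ≫ η⟦(1 : ℤ)⟧' = 0 := comp_distTriang_mor_zero₃₁ _ hT₂
  have ex2 : ∀ {Y : C} (g : Y ⟶ K'), g ≫ q = 0 → ∃ h : Y ⟶ K, g = h ≫ η :=
    fun g hg => Triangle.coyoneda_exact₂ _ hT₂ g hg
  have yex2 : ∀ {E : C} (ψ : K' ⟶ E), η ≫ ψ = 0 → ∃ χ : W ⟶ E, ψ = q ≫ χ :=
    fun ψ hψ => Triangle.yoneda_exact₂ _ hT₂ ψ hψ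
  have hT₃ := inv_rot_of_distTriang _ hT₂
  have yex1 : ∀ {E : C} (φ : K ⟶ E), Subsingleton (W⟦(-1 : ℤ)⟧ ⟶ E) →
      ∃ ψ : K' ⟶ E, φ = η ≫ ψ :=
    fun φ hs => Triangle.yoneda_exact₂ _ hT₃ φ (hs.elim _ _)
  refine ⟨K', η, ?_, ?_, ?_, ?_⟩
  · intro X hX
    suffices ∀ g : X ⟶ K', g = 0 from ⟨fun a b => by rw [this a, this b]⟩
    intro g
    have h1 : g ≫ q = 0 := by
      apply (hA X hX).1
      show (g ≫ q) ≫ γ ≫ (π 0)⟦(1 : ℤ)⟧' = 0 ≫ γ ≫ (π 0)⟦(1 : ℤ)⟧'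
      rw [Category.assoc, z23, comp_zero, zero_comp]
    obtain ⟨h, rfl⟩ := ex2 g h1
    obtain ⟨w, hw⟩ := (hA (X⟦(1 : ℤ)⟧) (hX.shift 1)).2 (h⟦(1 : ℤ)⟧')
    have hw' : w ≫ γ ≫ (π 0)⟦(1 : ℤ)⟧' = h⟦(1 : ℤ)⟧' := hw
    apply (shiftFunctor C (1 : ℤ)).map_injective
    rw [Functor.map_comp, ← hw', Category.assoc, z31, comp_zero, Functor.map_zero]
  · intro E hE
    constructor
    · intro ψ ψ' h
      have h' : η ≫ ψ = η ≫ ψ' := h
      obtain ⟨χ, hχ⟩ := yex2 (ψ - ψ') (by rw [Preadditive.comp_sub, h', sub_self])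
      have : χ = 0 := (hE W hW).elim _ _
      rw [this, comp_zero] at hχ
      exact sub_eq_zero.mp hχ
    · intro φ
      obtain ⟨ψ, hψ⟩ := yex1 φ (hE _ (hW.shift (-1)))
      exact ⟨ψ, hψ.symm⟩
  · intro V h0 h1
    have hP : Subsingleton (V ⟶ P) := subsingleton_hom_pow hπ V h0
    have hP1 : Subsingleton (V ⟶ P⟦(1 : ℤ)⟧) :=
      subsingleton_hom_pow (isPow_shift hπ (1 : ℤ)) V h1
    have hVW : Subsingleton (V ⟶ W) := subsingleton_obj₃ _ hT V hP hP1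
    exact subsingleton_obj₂ _ hT₂ V h0 hVW
  · intro L hL
    exact bijective_comp_mor₁_of_left _ hT₂ L (hL W hW) (hL _ (hW.shift (-1)))

/-- completion along a list of elements, with the left-orthogonality property -/
theorem exists_completion_list' (hpow : ∀ K : C, ∃ (P : C) (π : ℕ → (P ⟶ K)), IsPow π)
    (l : List A) (K : C) :
    ∃ (K' : C) (η : K ⟶ K'), (∀ f ∈ l, ROrth f K') ∧
      (∀ E : C, (∀ f ∈ l, ROrth f E) → Function.Bijective (fun φ : K' ⟶ E => η ≫ φ)) ∧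
      (∀ L : C, (∀ f ∈ l, LOrth f L) → Function.Bijective (fun φ : L ⟶ K => φ ≫ η)) := by
  induction l with
  | nil =>
    refine ⟨K, 𝟙 K, fun f hf => absurd hf (List.not_mem_nil), fun E _ => ?_, fun L _ => ?_⟩
    · have : (fun φ : K ⟶ E => 𝟙 K ≫ φ) = id := funext (fun φ => Category.id_comp φ)
      rw [this]
      exact Function.bijective_id
    · have : (fun φ : L ⟶ K => φ ≫ 𝟙 K) = id := funext (fun φ => Category.comp_id φ)
      rw [this]
      exact Function.bijective_id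
  | cons f l ih =>
    obtain ⟨K₁, η₁, h1, h2, h3⟩ := ih
    obtain ⟨K₂, η₂, p1, p2, p3, p4⟩ := exists_principal' hpow f K₁
    refine ⟨K₂, η₁ ≫ η₂, ?_, ?_, ?_⟩
    · intro g hg
      rcases List.mem_cons.mp hg with rfl | hg'
      · exact p1
      · intro X hX
        exact p3 X (h1 g hg' X hX)
          (subsingleton_shift_of_neg X K₁ 1 (h1 g hg' _ (hX.shift (-1))))
    · intro E hE
      have hb2 := p2 E (hE f (List.mem_cons_self))
      have hb1 := h2 E (fun g hg => hE g (List.mem_cons_of_mem f hg))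
      have : (fun φ : K₂ ⟶ E => (η₁ ≫ η₂) ≫ φ) =
          (fun φ : K₁ ⟶ E => η₁ ≫ φ) ∘ (fun φ : K₂ ⟶ E => η₂ ≫ φ) :=
        funext (fun φ => Category.assoc _ _ _)
      rw [this]
      exact hb1.comp hb2
    · intro L hL
      have hb2 := p4 L (hL f (List.mem_cons_self))
      have hb1 := h3 L (fun g hg => hL g (List.mem_cons_of_mem f hg))
      have : (fun φ : L ⟶ K => φ ≫ (η₁ ≫ η₂)) =
          (fun φ : L ⟶ K₁ => φ ≫ η₂) ∘ (fun φ : L ⟶ K => φ ≫ η₁) :=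
        funext (fun φ => (Category.assoc _ _ _).symm)
      rw [this]
      exact hb2.comp hb1

end Tri

end Groth.Agent.Helper11.GM
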