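import Groth.Prelude.Def_DDual2
import Groth.Prelude.Def_DRing2
import Mathlib.Algebra.Homology.DerivedCategory.ExactFunctor
import Mathlib.Algebra.Category.ModuleCat.Descent

/-!
Flat base change of modules and representatives in `D(R)`.
-/

open CategoryTheory Category Limits DerivedCategory

attribute [local instance] HasDerivedCategory.standard

universe u

namespace Groth.Agent.Helper11.DC

variable {A B : Type u} [CommRing A] [CommRing B] (f : A →+* B)

theorem es_flat (M : ModuleCat.{u} A) [Module.Flat A M] :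
    Module.Flat B ((ModuleCat.extendScalars.{u,u,u} f).obj M) := by
  let _ := f.toAlgebra
  change Module.Flat B (TensorProduct A B M)
  infer_instance

theorem es_finite (M : ModuleCat.{u} A) [Module.Finite A M] :
    Module.Finite B ((ModuleCat.extendScalars.{u,u,u} f).obj M) := by
  let _ := f.toAlgebra
  change Module.Finite B (TensorProduct A B M)
  infer_instance

theorem es_free (M : ModuleCat.{u} A) [Module.Free A M] :
    Module.Free B ((ModuleCat.extendScalars.{u,u,u} f).obj M) := by
  let _ := f.toAlgebra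
  change Module.Free B (TensorProduct A B M)
  infer_instance

theorem es_projective (M : ModuleCat.{u} A) [Module.Projective A M] :
    Module.Projective B ((ModuleCat.extendScalars.{u,u,u} f).obj M) := by
  let _ := f.toAlgebra
  change Module.Projective B (TensorProduct A B M)
  infer_instance

/-- Transport of a representative of `M[0]` along flat base change. -/
theorem flatBC_single_rep (hf : f.Flat) (E : DRing.Cx A) (M : ModuleCat.{u} A)
    (e : Q.obj E ≅ (singleFunctor (ModuleCat.{u} A) 0).obj M) :
    Nonempty (Q.obj (((ModuleCat.extendScalars.{u,u,u} f).mapHomologicalComplex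
      (ComplexShape.up ℤ)).obj E) ≅
      (singleFunctor (ModuleCat.{u} B) 0).obj ((ModuleCat.extendScalars.{u,u,u} f).obj M)) := by
  have := ModuleCat.preservesFiniteLimits_extendScalars_of_flat hf
  exact ⟨((ModuleCat.extendScalars.{u,u,u} f).mapDerivedCategoryFactors.app E).symm ≪≫
    (ModuleCat.extendScalars.{u,u,u} f).mapDerivedCategory.mapIso e ≪≫
    ((ModuleCat.extendScalars.{u,u,u} f).mapDerivedCategorySingleFunctor 0).app M⟩

theorem flatBC_perfect (hf : f.Flat) (M : ModuleCat.{u} A)
    (hM : DRing.IsPerfect A ((singleFunctor (ModuleCat.{u} A) 0).obj M)) :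
    DRing.IsPerfect B ((singleFunctor (ModuleCat.{u} B) 0).obj
      ((ModuleCat.extendScalars.{u,u,u} f).obj M)) := by
  obtain ⟨E, a, b, hab, hE, ⟨e⟩⟩ := hM
  obtain ⟨e'⟩ := flatBC_single_rep f hf E M e
  refine ⟨_, a, b, ?_, ?_, ⟨e'⟩⟩
  · intro i hi
    exact (ModuleCat.extendScalars.{u,u,u} f).map_isZero (hab i hi)
  · intro i
    have := (hE i).1
    have := (hE i).2
    exact ⟨es_finite f (E.X i), es_projective f (E.X i)⟩

theorem flatBC_pc' (hf : f.Flat) (M : ModuleCat.{u} A)
    (hM : DRing.IsPseudoCoherent' A ((singleFunctor (ModuleCat.{u} A) 0).obj M)) :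
    DRing.IsPseudoCoherent' B ((singleFunctor (ModuleCat.{u} B) 0).obj
      ((ModuleCat.extendScalars.{u,u,u} f).obj M)) := by
  obtain ⟨E, b, hb, hE, ⟨e⟩⟩ := hM
  obtain ⟨e'⟩ := flatBC_single_rep f hf E M e
  refine ⟨_, b, ?_, ?_, ⟨e'⟩⟩
  · intro i hi
    exact (ModuleCat.extendScalars.{u,u,u} f).map_isZero (hb i hi)
  · intro i
    have := (hE i).1
    have := (hE i).2
    exact ⟨es_finite f (E.X i), es_free f (E.X i)⟩

theorem flatBC_torAmp (hf : f.Flat) (M : ModuleCat.{u} A) (a b : ℤ)
    (hM : DRing.HasTorAmplitudeIn A a b ((singleFunctor (ModuleCat.{u} A) 0).obj M)) :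
    DRing.HasTorAmplitudeIn B a b ((singleFunctor (ModuleCat.{u} B) 0).obj
      ((ModuleCat.extendScalars.{u,u,u} f).obj M)) := by
  obtain ⟨E, hab, hE, ⟨e⟩⟩ := hM
  obtain ⟨e'⟩ := flatBC_single_rep f hf E M e
  refine ⟨_, ?_, ?_, ⟨e'⟩⟩
  · intro i hi
    exact (ModuleCat.extendScalars.{u,u,u} f).map_isZero (hab i hi)
  · intro i
    have := hE i
    exact es_flat f (E.X i)

end Groth.Agent.Helper11.DC
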