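import Groth.Agent.Lib.Helper11.TorAmp8
import Groth.Agent.Lib.Helper11.DCFlatBC
import Mathlib.Algebra.Category.ModuleCat.Monoidal.Adjunction
import Mathlib.Algebra.Category.ModuleCat.Descent

/-!
# Flat descent for tor amplitude
-/

set_option autoImplicit false
universe u

open CategoryTheory Limits DerivedCategory Pretriangulated MonoidalCategory

attribute [local instance] HasDerivedCategory.standard

namespace Groth.Agent.Helper11.TA

open Groth.Agent.Helper11.DC

variable {R : Type u} [CommRing R]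

section

variable {R' : Type u} [CommRing R'] (φ : R →+* R')

/-- extension of scalars -/
noncomputable abbrev es : ModuleCat.{u} R ⥤ ModuleCat.{u} R' := ModuleCat.extendScalars.{u,u,u} φ

/-- termwise extension of scalars on complexes -/
noncomputable abbrev esC : DRing.Cx R ⥤ DRing.Cx R' :=
  (es φ).mapHomologicalComplex (ComplexShape.up ℤ)

noncomputable def esHomologyIso (hφ : φ.Flat) (C : DRing.Cx R) (j : ℤ) :
    ((esC φ).obj C).homology j ≅ (es φ).obj (C.homology j) := by
  haveI := ModuleCat.preservesFiniteLimits_extendScalars_of_flat.{u} hφ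
  exact (C.sc j).mapHomologyIso (es φ)

/-- the monoidal structure of extension of scalars, termwise on complexes -/
noncomputable def esTensIso (P : DRing.Cx R) (M : ModuleCat.{u} R) :
    (tens ((es φ).obj M)).obj ((esC φ).obj P) ≅ (esC φ).obj ((tens M).obj P) :=
  HomologicalComplex.Hom.isoOfComponents (fun j => Functor.Monoidal.μIso (es φ) (P.X j) M) (by
    intro i j _
    exact (Functor.LaxMonoidal.μ_natural_left (es φ) (P.d i j) M).symm)

theorem isIso_Q_map_esC (hφ : φ.Flat) {P K : DRing.Cx R} (ψ : P ⟶ K) (h : IsIso (Q.map ψ)) :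
    IsIso (Q.map ((esC φ).map ψ)) := by
  haveI := ModuleCat.preservesFiniteLimits_extendScalars_of_flat.{u} hφ
  rw [isIso_Q_map_iff_quasiIso] at h ⊢
  infer_instance

open scoped ZeroObject in
theorem isZero_of_es_isZero (hφ : φ.FaithfullyFlat) (H : ModuleCat.{u} R)
    (h : IsZero ((es φ).obj H)) : IsZero H := by
  haveI := ModuleCat.reflectsIsomorphisms_extendScalars_of_faithfullyFlat.{u} hφ
  let g : H ⟶ (0 : ModuleCat.{u} R) := 0
  have h0 : IsZero ((es φ).obj (0 : ModuleCat.{u} R)) := (es φ).map_isZero (isZero_zero _)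
  haveI : IsIso ((es φ).map g) :=
    ⟨⟨0, h.eq_of_src _ _, h0.eq_of_src _ _⟩⟩
  haveI : IsIso g := isIso_of_reflects_iso g (es φ)
  exact (isZero_zero _).of_iso (asIso g)

end

theorem torVan_descent {ι : Type*} (R' : ι → Type u) [∀ i, CommRing (R' i)]
    (φ : ∀ i, R →+* R' i) (hflat : ∀ i, (φ i).Flat)
    (hrefl : ∀ H : ModuleCat.{u} R, (∀ i, IsZero ((es (φ i)).obj H)) → IsZero H)
    (K : DRing.Cx R) (a b : ℤ) (hK : ∀ i, TorVan a b (Q.obj ((esC (φ i)).obj K))) :
    TorVan a b (Q.obj K) := by
  have hreflC : ∀ (C : DRing.Cx R) (j : ℤ), (∀ i, ((esC (φ i)).obj C).ExactAt j) →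
      C.ExactAt j := by
    intro C j h
    rw [HomologicalComplex.exactAt_iff_isZero_homology]
    apply hrefl
    intro i
    exact IsZero.of_iso ((HomologicalComplex.exactAt_iff_isZero_homology _ _).mp (h i))
      (esHomologyIso (φ i) (hflat i) C j).symm
  have hKex : ∀ j : ℤ, (j < a ∨ b < j) → K.ExactAt j := by
    intro j hj
    apply hreflC
    intro i
    obtain ⟨P, c, hc, hp, ⟨e⟩, hv⟩ := hK i
    exact exactAt_of_homology_isZero _ j (IsZero.of_iso (isZero_homology_of_torVanCx P hv j hj)
      ((homologyFunctor (ModuleCat.{u} (R' i)) j).mapIso e.symm))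
  obtain ⟨P, c, hc, hp, ⟨e⟩⟩ := hasProjRes_of_homology (Q.obj K) a b
    (fun j hj => (isZero_homology_Q_iff_exactAt K j).mpr (hKex j hj))
  have : P.IsKProjective := isKProjective_of_vanishesAbove P c hc hp
  obtain ⟨ψ, hψ⟩ := exists_lift_of_isKProjective P K e.hom
  have hiso : IsIso (Q.map ψ) := by rw [hψ]; infer_instance
  refine ⟨P, c, hc, hp, ⟨e⟩, ?_⟩
  intro M j hj
  rw [isZero_homology_Q_iff_exactAt]
  apply hreflC
  intro i
  refine HomologicalComplex.ExactAt.of_iso ?_ (esTensIso (φ i) P M)
  rw [← isZero_homology_Q_iff_exactAt]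
  haveI := isIso_Q_map_esC (φ i) (hflat i) ψ hiso
  have hP' : TorVanCx a b ((esC (φ i)).obj P) :=
    torVanCx_of_torVan (hK i) _ c (fun k hk => (es (φ i)).map_isZero (hc k hk))
      (fun k => by
        haveI := hp k
        haveI : Module.Flat R (P.X k) := inferInstance
        exact es_flat (φ i) (P.X k)) (asIso (Q.map ((esC (φ i)).map ψ)))
  exact hP' _ j hj

end Groth.Agent.Helper11.TA
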