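import Groth.Agent.Lib.Helper11.LDer3
import Groth.Agent.Lib.Helper11.TorAmp10
import Mathlib.Algebra.Category.ModuleCat.Monoidal.Symmetric

/-!
# Derived base change / derived tensor via bounded above flat complexes (helper11)
-/

set_option autoImplicit false

open CategoryTheory Category Limits Pretriangulated DerivedCategory MonoidalCategory

attribute [local instance] HasDerivedCategory.standard

universe u

namespace Groth.Agent.Helper11.LDer

open Groth.Agent.Helper11.DC Groth.Agent.Helper11.TA

variable {A B : Type u} [CommRing A] [CommRing B] (φ : A →+* B)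

/-- `B` as an `A`-module. -/
noncomputable abbrev Bm : ModuleCat.{u} A :=
  (ModuleCat.restrictScalars.{u} φ).obj (ModuleCat.of B B)

theorem smul_es (M : ModuleCat.{u} A) (a : A) (x : ((es φ).obj M : ModuleCat.{u} B)) :
    (show (MonoidalCategory.tensorObj (Bm φ) M : ModuleCat.{u} A) from (φ a • x)) =
      a • (show (MonoidalCategory.tensorObj (Bm φ) M : ModuleCat.{u} A) from x) := by
  refine TensorProduct.induction_on x ?_ ?_ ?_
  · have h0 : φ a • (0 : ((es φ).obj M : ModuleCat.{u} B)) = 0 := smul_zero _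
    have h0' : a • (0 : (MonoidalCategory.tensorObj (Bm φ) M : ModuleCat.{u} A)) = 0 :=
      smul_zero _
    exact h0.trans h0'.symm
  · intro b m
    rfl
  · intro (x : ((es φ).obj M : ModuleCat.{u} B)) (y : ((es φ).obj M : ModuleCat.{u} B)) hx hy
    have h1 : φ a • (x + y) = φ a • x + φ a • y := smul_add _ _ _
    have h2 : ∀ x' y' : (MonoidalCategory.tensorObj (Bm φ) M : ModuleCat.{u} A),
      a • (x' + y') = a • x' + a • y' := fun _ _ => smul_add _ _ _
    exact h1.trans ((congrArg₂ (· + ·) hx hy).trans (h2 x y).symm)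

/-- `(B ⊗_A M)` restricted to `A` is `B ⊗ M` in `ModuleCat A` (identity on elements). -/
noncomputable def esResApp (M : ModuleCat.{u} A) :
    (ModuleCat.restrictScalars.{u} φ).obj ((es φ).obj M) ≅
      (MonoidalCategory.tensorObj (Bm φ) M : ModuleCat.{u} A) where
  hom := ModuleCat.ofHom (X := (ModuleCat.restrictScalars.{u} φ).obj ((es φ).obj M))
    (Y := (MonoidalCategory.tensorObj (Bm φ) M : ModuleCat.{u} A))
    { toFun := fun x => x
      map_add' := fun _ _ => rfl
      map_smul' := fun a x => smul_es φ M a x }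
  inv := ModuleCat.ofHom (X := (MonoidalCategory.tensorObj (Bm φ) M : ModuleCat.{u} A))
    (Y := (ModuleCat.restrictScalars.{u} φ).obj ((es φ).obj M))
    { toFun := fun x => x
      map_add' := fun _ _ => rfl
      map_smul' := fun a x => (smul_es φ M a x).symm }
  hom_inv_id := by
    apply ModuleCat.hom_ext
    apply LinearMap.ext
    intro x
    rfl
  inv_hom_id := by
    apply ModuleCat.hom_ext
    apply LinearMap.ext
    intro x
    rfl

/-- the natural isomorphism `res ∘ es ≅ B ⊗ -`. -/
noncomputable def esRes : es φ ⋙ ModuleCat.restrictScalars.{u} φ ≅ tensorLeft (Bm φ) :=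
  NatIso.ofComponents (esResApp φ) (by
    intro M M' l
    apply ModuleCat.hom_ext
    apply LinearMap.ext
    intro x
    refine TensorProduct.induction_on x ?_ ?_ ?_
    · exact (map_zero _).trans (map_zero _).symm
    · intro b m
      rfl
    · intro x y hx hy
      exact (map_add _ x y).trans ((congrArg₂ (· + ·) hx hy).trans (map_add _ x y).symm))

/-- Lemma C for extension of scalars: a quasi-isomorphism between bounded above complexes of flat
modules stays a quasi-isomorphism after `B ⊗_A -`. -/
theorem isIso_Q_map_esC_of_flat (P E : DRing.Cx A) (cP cE : ℤ)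
    (hP : ∀ i : ℤ, cP < i → IsZero (P.X i)) (hE : ∀ i : ℤ, cE < i → IsZero (E.X i))
    (hPf : ∀ i, Module.Flat A (P.X i)) (hEf : ∀ i, Module.Flat A (E.X i)) (f : P ⟶ E)
    (hf : IsIso (Q.map f)) : IsIso (Q.map ((esC φ).map f)) := by
  have h1 := isIso_Q_map_tens P E cP cE hP hE hPf hEf f hf (Bm φ)
  let α : ((es φ ⋙ ModuleCat.restrictScalars.{u} φ).mapHomologicalComplex
      (ComplexShape.up ℤ)) ≅ tens (Bm φ) :=
    NatIso.mapHomologicalComplex (esRes φ ≪≫ BraidedCategory.tensorLeftIsoTensorRight (Bm φ)) (ComplexShape.up ℤ)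
  have h2 : IsIso ((((es φ ⋙ ModuleCat.restrictScalars.{u} φ).mapHomologicalComplex
      (ComplexShape.up ℤ)) ⋙ Q).map f) :=
    (NatIso.isIso_map_iff (Functor.isoWhiskerRight α Q) f).mpr h1
  have h3 : IsIso (Q.map (((ModuleCat.restrictScalars.{u} φ).mapHomologicalComplex
      (ComplexShape.up ℤ)).map ((esC φ).map f))) := h2
  rw [isIso_Q_map_iff_quasiIso] at h3 ⊢
  exact (HomologicalComplex.quasiIso_map_iff_of_preservesHomology ((esC φ).map f)
    (ModuleCat.restrictScalars.{u} φ)).mp h3

/-- Derived base change computed on a bounded above complex of flat modules. -/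
theorem nonempty_LBaseChange_iso_of_flat [DRing.HasLBaseChange φ] (E : DRing.Cx A) (cE : ℤ)
    (hE : DRing.VanishesAbove E cE) (hEf : ∀ i, Module.Flat A (E.X i))
    (hres : HasProjRes (Q.obj E)) :
    Nonempty ((DRing.LBaseChange φ).obj (Q.obj E) ≅ Q.obj ((esC φ).obj E)) := by
  obtain ⟨P, c, hc, hp, ⟨e⟩⟩ := hres
  haveI : P.IsKProjective := isKProjective_of_vanishesAbove P c hc hp
  obtain ⟨f, hf⟩ := exists_lift_of_isKProjective P E e.hom
  have hiso : IsIso (Q.map f) := by
    rw [hf]
    infer_instance
  haveI := isIso_Q_map_esC_of_flat φ P E c cE hc hE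
    (fun i => by haveI := hp i; infer_instance) hEf f hiso
  exact ⟨(DRing.LBaseChange φ).mapIso e.symm ≪≫ LBaseChangeIso φ P ≪≫
    asIso (Q.map ((esC φ).map f))⟩

/-- Derived tensor product with a module computed on a bounded above complex of flat modules. -/
theorem nonempty_LTensor_iso_of_flat (M : ModuleCat.{u} A) [DRing.HasLTensor A M]
    (E : DRing.Cx A) (cE : ℤ)
    (hE : DRing.VanishesAbove E cE) (hEf : ∀ i, Module.Flat A (E.X i))
    (hres : HasProjRes (Q.obj E)) :
    Nonempty ((DRing.LTensor A M).obj (Q.obj E) ≅ Q.obj ((tens M).obj E)) := by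
  obtain ⟨P, c, hc, hp, ⟨e⟩⟩ := hres
  haveI : P.IsKProjective := isKProjective_of_vanishesAbove P c hc hp
  obtain ⟨f, hf⟩ := exists_lift_of_isKProjective P E e.hom
  have hiso : IsIso (Q.map f) := by
    rw [hf]
    infer_instance
  haveI := isIso_Q_map_tens P E c cE hc hE
    (fun i => by haveI := hp i; infer_instance) hEf f hiso M
  exact ⟨(DRing.LTensor A M).mapIso e.symm ≪≫ LTensorIso M P ≪≫
    asIso (Q.map ((tens M).map f))⟩

/-- Derived tensor product with a module of an object with a bounded above projective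
representative. -/
theorem nonempty_LTensor_iso_of_projRes (M : ModuleCat.{u} A) [DRing.HasLTensor A M]
    (K : Dual.D A) (P : DRing.Cx A) (c : ℤ) (hc : DRing.VanishesAbove P c)
    (hp : ∀ i, Module.Projective A (P.X i)) (e : Q.obj P ≅ K) :
    Nonempty ((DRing.LTensor A M).obj K ≅ Q.obj ((tens M).obj P)) := by
  haveI : P.IsKProjective := isKProjective_of_vanishesAbove P c hc hp
  exact ⟨(DRing.LTensor A M).mapIso e.symm ≪≫ LTensorIso M P⟩

/-- Derived base change of an object with a bounded above projective representative. -/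
theorem nonempty_LBaseChange_iso_of_projRes [DRing.HasLBaseChange φ]
    (K : Dual.D A) (P : DRing.Cx A) (c : ℤ) (hc : DRing.VanishesAbove P c)
    (hp : ∀ i, Module.Projective A (P.X i)) (e : Q.obj P ≅ K) :
    Nonempty ((DRing.LBaseChange φ).obj K ≅ Q.obj ((esC φ).obj P)) := by
  haveI : P.IsKProjective := isKProjective_of_vanishesAbove P c hc hp
  exact ⟨(DRing.LBaseChange φ).mapIso e.symm ≪≫ LBaseChangeIso φ P⟩

end Groth.Agent.Helper11.LDer
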