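import Groth.Agent.Lib.Helper11.DCProj
import Mathlib.CategoryTheory.Preadditive.Projective.Basic

/-!
Objects of the derived category with cohomology in degrees `-1, 0`.
-/

open CategoryTheory Category Limits Pretriangulated DerivedCategory

universe w v u

namespace Groth.Agent.Helper11.DC

variable {C : Type u} [Category.{v} C] [Abelian C] [HasDerivedCategory.{w} C]

/-- An object `N` with `Ext¹(N, M) = 0` for all `M` is projective. -/
theorem projective_of_ext_one_vanish [EnoughProjectives C] (N : C)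
    (h : ∀ (M : C) (g : (singleFunctor C 0).obj N ⟶ ((singleFunctor C 0).obj M)⟦(1 : ℤ)⟧), g = 0) :
    Projective N := by
  let π := Projective.π N
  let S := ShortComplex.kernelSequence π
  have hS : S.ShortExact := by
    refine ShortComplex.ShortExact.mk' (ShortComplex.kernelSequence_exact π) inferInstance ?_
    change Epi π
    infer_instance
  have hT := hS.singleTriangle_distinguished
  have h3 : hS.singleTriangle.mor₃ = 0 := h _ _
  have hepi : Epi hS.singleTriangle.mor₂ := Triangle.epi₂ _ hT h3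
  have hsplit : IsSplitEpi hS.singleTriangle.mor₂ := isSplitEpi_of_epi _
  obtain ⟨⟨s, hs⟩⟩ := hsplit
  obtain ⟨σ, hσs⟩ := (singleFunctor C 0).map_surjective (X := N) (Y := Projective.over N) s
  have hs' : (singleFunctor C 0).map σ ≫ (singleFunctor C 0).map π =
      𝟙 ((singleFunctor C 0).obj N) := by
    rw [hσs]
    exact hs
  have hσ : σ ≫ π = 𝟙 N := by
    apply (singleFunctor C 0).map_injective
    rw [Functor.map_comp, CategoryTheory.Functor.map_id]
    exact hs'
  exact (Retract.mk σ π hσ).projective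

/-- `H⁰` of a single object. -/
noncomputable def homologySingleIso (N : C) :
    (homologyFunctor C 0).obj ((singleFunctor C 0).obj N) ≅ N :=
  (singleFunctorCompHomologyFunctorIso C 0).app N

section

variable (K : DerivedCategory C)
  (hK : ∀ i : ℤ, i ≠ -1 → i ≠ 0 → IsZero ((homologyFunctor C i).obj K))

include hK

/-- The canonical decomposition of a two-term object. -/
theorem exists_twoTerm_triangle :
    ∃ (N' N : C) (X Y : DerivedCategory C) (a : X ⟶ K) (b : K ⟶ Y) (c : Y ⟶ X⟦(1 : ℤ)⟧),
      Triangle.mk a b c ∈ distTriang (DerivedCategory C) ∧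
      Nonempty (X ≅ ((singleFunctor C 0).obj N')⟦(1 : ℤ)⟧) ∧
      Nonempty (Y ≅ (singleFunctor C 0).obj N) ∧
      Nonempty ((homologyFunctor C 0).obj K ≅ N) ∧
      Nonempty ((homologyFunctor C (-1)).obj K ≅ (homologyFunctor C (-1)).obj X) := by
  have hKle : K.IsLE 0 := by
    rw [isLE_iff]
    intro i hi
    exact hK i (by omega) (by omega)
  obtain ⟨X, Y, hX, hY, a, b, c, hT⟩ := TStructure.t.exists_triangle K (-1) 0 (by norm_num)
  have : X.IsLE (-1) := ⟨hX⟩
  have : Y.IsGE 0 := ⟨hY⟩
  have hYle : Y.IsLE 0 := by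
    rw [isLE_iff]
    intro i hi
    have hKi : IsZero ((homologyFunctor C i).obj K) := K.isZero_of_isLE 0 i hi
    have hXi : IsZero ((homologyFunctor C (i + 1)).obj X) :=
      X.isZero_of_isLE (-1) (i + 1) (by omega)
    have ex := HomologySequence.exact₃ (Triangle.mk a b c) hT i (i + 1) rfl
    exact ex.isZero_of_both_zeros (hKi.eq_of_src _ _) (hXi.eq_of_tgt _ _)
  have hXge : X.IsGE (-1) := by
    rw [isGE_iff]
    intro i hi
    have hKi : IsZero ((homologyFunctor C i).obj K) := hK i (by omega) (by omega)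
    have hYi : IsZero ((homologyFunctor C (i - 1)).obj Y) :=
      Y.isZero_of_isGE 0 (i - 1) (by omega)
    have ex := HomologySequence.exact₁ (Triangle.mk a b c) hT (i - 1) i (by omega)
    exact ex.isZero_of_both_zeros (hYi.eq_of_src _ _) (hKi.eq_of_tgt _ _)
  obtain ⟨N, ⟨eY⟩⟩ := exists_iso_singleFunctor_obj_of_isGE_of_isLE Y 0
  obtain ⟨N', ⟨eX⟩⟩ := exists_iso_singleFunctor_obj_of_isGE_of_isLE X (-1)
  have hX0 : IsZero ((homologyFunctor C 0).obj X) := X.isZero_of_isLE (-1) 0 (by norm_num)
  have hX1 : IsZero ((homologyFunctor C 1).obj X) := X.isZero_of_isLE (-1) 1 (by norm_num)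
  have hYm1 : IsZero ((homologyFunctor C (-1)).obj Y) := Y.isZero_of_isGE 0 (-1) (by norm_num)
  have hYm2 : IsZero ((homologyFunctor C (-2)).obj Y) := Y.isZero_of_isGE 0 (-2) (by norm_num)
  have hb : IsIso ((homologyFunctor C 0).map b) := by
    have : Mono ((homologyFunctor C 0).map b) :=
      (HomologySequence.mono_homologyMap_mor₂_iff (Triangle.mk a b c) hT 0).mpr
        (hX0.eq_of_src _ _)
    have : Epi ((homologyFunctor C 0).map b) :=
      (HomologySequence.epi_homologyMap_mor₂_iff (Triangle.mk a b c) hT 0 1 (by norm_num)).mpr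
        (hX1.eq_of_tgt _ _)
    exact isIso_of_mono_of_epi _
  have ha : IsIso ((homologyFunctor C (-1)).map a) := by
    have : Mono ((homologyFunctor C (-1)).map a) :=
      (HomologySequence.mono_homologyMap_mor₁_iff (Triangle.mk a b c) hT (-2) (-1)
        (by norm_num)).mpr (hYm2.eq_of_src _ _)
    have : Epi ((homologyFunctor C (-1)).map a) :=
      (HomologySequence.epi_homologyMap_mor₁_iff (Triangle.mk a b c) hT (-1)).mpr
        (hYm1.eq_of_tgt _ _)
    exact isIso_of_mono_of_epi _
  refine ⟨N', N, X, Y, a, b, c, hT, ⟨?_⟩, ⟨eY⟩, ⟨?_⟩, ⟨(asIso ((homologyFunctor C (-1)).map a)).symm⟩⟩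
  · exact eX ≪≫ (((singleFunctors C).shiftIso 1 (-1) 0 (by norm_num)).app N').symm
  · exact asIso ((homologyFunctor C 0).map b) ≪≫ (homologyFunctor C 0).mapIso eY ≪≫
      homologySingleIso N

end

end Groth.Agent.Helper11.DC
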