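import Groth.Agent.Lib.Helper11.DCCone
import Groth.Agent.Lib.Helper11.DCTwoTerm
import Groth.Prelude.Def_DRing2

/-!
Two-term representatives of objects of `D(R)` with cohomology in degrees `-1, 0`.
-/

open CategoryTheory Category Limits Pretriangulated DerivedCategory

attribute [local instance] HasDerivedCategory.standard

universe u

namespace Groth.Agent.Helper11.DC

variable {R : Type u} [CommRing R]

theorem single_map_eq_Q_map {M N : ModuleCat.{u} R} (d : M ⟶ N) :
    (singleFunctor (ModuleCat.{u} R) 0).map d =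
      Q.map ((CochainComplex.singleFunctor (ModuleCat.{u} R) 0).map d) := by
  rfl

theorem finite_of_exact {M₁ M₂ M₃ : ModuleCat.{u} R} (f : M₁ ⟶ M₂) (g : M₂ ⟶ M₃)
    (w : f ≫ g = 0) (ex : (ShortComplex.mk f g w).Exact) (h1 : Module.Finite R M₁)
    (h3 : IsNoetherian R M₃) : Module.Finite R M₂ := by
  have hr : LinearMap.range f.hom = LinearMap.ker g.hom :=
    (ShortComplex.moduleCat_exact_iff_range_eq_ker (ShortComplex.mk f g w)).mp ex
  have : Module.Finite R (LinearMap.range f.hom) := Module.Finite.range f.hom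
  have : Module.Finite R (M₂ ⧸ LinearMap.range f.hom) := by
    rw [hr]
    exact Module.Finite.equiv (LinearMap.quotKerEquivRange g.hom).symm
  exact Module.Finite.of_submodule_quotient (LinearMap.range f.hom)

theorem exists_twoTerm_rep (K : Dual.D R)
    (hK : ∀ i : ℤ, i ≠ -1 → i ≠ 0 → IsZero ((homologyFunctor (ModuleCat.{u} R) i).obj K))
    (P : ModuleCat.{u} R) [Projective P] (p : P ⟶ (homologyFunctor (ModuleCat.{u} R) 0).obj K)
    [Epi p] :
    ∃ (E' : ModuleCat.{u} R) (d : E' ⟶ P),
      Nonempty (K ≅ Q.obj (CochainComplex.mappingCone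
        ((CochainComplex.singleFunctor (ModuleCat.{u} R) 0).map d))) ∧
      (Module.Finite R ((homologyFunctor (ModuleCat.{u} R) (-1)).obj K) → IsNoetherian R P →
        Module.Finite R E') := by
  obtain ⟨u, hu⟩ := (psi_bijective P K).2 ((homologySingleIso P).hom ≫ p)
  simp only [Psi] at hu
  obtain ⟨C, β, γ, hT⟩ := distinguished_cocone_triangle u
  have hepi : Epi ((homologyFunctor (ModuleCat.{u} R) 0).map u) := by
    rw [hu]
    infer_instance
  have hβ0 : (homologyFunctor (ModuleCat.{u} R) 0).map β = 0 :=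
    (HomologySequence.epi_homologyMap_mor₁_iff (Triangle.mk u β γ) hT 0).mp hepi
  have hCle : C.IsLE (-1) := by
    rw [isLE_iff]
    intro i hi
    have ex := HomologySequence.exact₃ (Triangle.mk u β γ) hT i (i + 1) rfl
    have hP1 : IsZero ((homologyFunctor (ModuleCat.{u} R) (i + 1)).obj
        ((singleFunctor (ModuleCat.{u} R) 0).obj P)) :=
      isZero_of_isLE _ 0 (i + 1) (by omega)
    by_cases hi0 : i = 0
    · subst hi0
      exact ex.isZero_of_both_zeros hβ0 (hP1.eq_of_tgt _ _)
    · exact ex.isZero_of_both_zeros ((hK i (by omega) hi0).eq_of_src _ _) (hP1.eq_of_tgt _ _)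
  have hCge : C.IsGE (-1) := by
    rw [isGE_iff]
    intro i hi
    have ex := HomologySequence.exact₃ (Triangle.mk u β γ) hT i (i + 1) rfl
    have hP1 : IsZero ((homologyFunctor (ModuleCat.{u} R) (i + 1)).obj
        ((singleFunctor (ModuleCat.{u} R) 0).obj P)) :=
      isZero_of_isGE _ 0 (i + 1) (by omega)
    exact ex.isZero_of_both_zeros ((hK i (by omega) (by omega)).eq_of_src _ _)
      (hP1.eq_of_tgt _ _)
  obtain ⟨E', ⟨eC⟩⟩ := exists_iso_singleFunctor_obj_of_isGE_of_isLE C (-1)
  -- the rotated triangle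
  have hT' := inv_rot_of_distTriang _ hT
  let e₁ : C⟦(-1 : ℤ)⟧ ≅ (singleFunctor (ModuleCat.{u} R) 0).obj E' :=
    (shiftFunctor (Dual.D R) (-1 : ℤ)).mapIso eC ≪≫
      ((singleFunctors (ModuleCat.{u} R)).shiftIso (-1) 0 (-1) (by norm_num)).app E'
  let m : C⟦(-1 : ℤ)⟧ ⟶ (singleFunctor (ModuleCat.{u} R) 0).obj P :=
    (Triangle.mk u β γ).invRotate.mor₁
  obtain ⟨d, hd⟩ := (singleFunctor (ModuleCat.{u} R) 0).map_surjective (X := E') (Y := P)
    (e₁.inv ≫ m)
  have comm : m ≫ 𝟙 _ = e₁.hom ≫ (singleFunctor (ModuleCat.{u} R) 0).map d := by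
    rw [hd, e₁.hom_inv_id_assoc, comp_id]
  refine ⟨E', d, ?_, ?_⟩
  · exact cone_rep (Triangle.mk u β γ).invRotate hT'
      ((CochainComplex.singleFunctor (ModuleCat.{u} R) 0).map d) e₁ (Iso.refl _) comm
  · intro hfin hnoeth
    have ex := HomologySequence.exact₃ (Triangle.mk u β γ) hT (-1) 0 (by norm_num)
    have eH : (homologyFunctor (ModuleCat.{u} R) (-1)).obj C ≅ E' :=
      (homologyFunctor (ModuleCat.{u} R) (-1)).mapIso eC ≪≫
        (singleFunctorCompHomologyFunctorIso (ModuleCat.{u} R) (-1)).app E'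
    have hnoeth' : IsNoetherian R ((homologyFunctor (ModuleCat.{u} R) 0).obj
        ((singleFunctor (ModuleCat.{u} R) 0).obj P)) :=
      isNoetherian_of_linearEquiv (homologySingleIso P).toLinearEquiv.symm
    have hfinC : Module.Finite R ((homologyFunctor (ModuleCat.{u} R) (-1)).obj C) :=
      finite_of_exact _ _ _ ex hfin hnoeth'
    exact Module.Finite.equiv eH.toLinearEquiv

end Groth.Agent.Helper11.DC

namespace Groth.Agent.Helper11.DC

open CategoryTheory Category Limits

variable {R : Type u} [CommRing R]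

section ConeSingle

variable {E' P : ModuleCat.{u} R} (d : E' ⟶ P)

/-- The two-term complex `E' → P` in degrees `-1, 0`, as a mapping cone. -/
noncomputable abbrev twoCx : DRing.Cx R :=
  CochainComplex.mappingCone ((CochainComplex.singleFunctor (ModuleCat.{u} R) 0).map d)

theorem twoCx_vanishes : DRing.VanishesOutside (twoCx d) (-1) 0 := by
  intro i hi
  refine mappingCone_isZero _ i ?_ ?_
  · exact HomologicalComplex.isZero_single_obj_X (ComplexShape.up ℤ) 0 E' (i + 1) (by omega)
  · exact HomologicalComplex.isZero_single_obj_X (ComplexShape.up ℤ) 0 P i (by omega)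

/-- Degree `0` term. -/
noncomputable def twoCxZeroEquiv : (twoCx d).X 0 ≃ₗ[R] P := by
  have hz : IsZero (((CochainComplex.singleFunctor (ModuleCat.{u} R) 0).obj E').X (0 + 1)) :=
    HomologicalComplex.isZero_single_obj_X (ComplexShape.up ℤ) 0 E' (0 + 1) (by norm_num)
  have : Subsingleton (((CochainComplex.singleFunctor (ModuleCat.{u} R) 0).obj E').X (0 + 1)) :=
    ModuleCat.subsingleton_of_isZero hz
  letI : Unique (((CochainComplex.singleFunctor (ModuleCat.{u} R) 0).obj E').X (0 + 1)) :=
    uniqueOfSubsingleton 0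
  exact (mappingConeXEquiv _ 0).trans ((LinearEquiv.uniqueProd (R := R)).trans
    (HomologicalComplex.singleObjXSelf (ComplexShape.up ℤ) 0 P).toLinearEquiv)

/-- Degree `-1` term. -/
noncomputable def twoCxNegOneEquiv : (twoCx d).X (-1) ≃ₗ[R] E' := by
  have hz : IsZero (((CochainComplex.singleFunctor (ModuleCat.{u} R) 0).obj P).X (-1)) :=
    HomologicalComplex.isZero_single_obj_X (ComplexShape.up ℤ) 0 P (-1) (by norm_num)
  have : Subsingleton (((CochainComplex.singleFunctor (ModuleCat.{u} R) 0).obj P).X (-1)) :=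
    ModuleCat.subsingleton_of_isZero hz
  letI : Unique (((CochainComplex.singleFunctor (ModuleCat.{u} R) 0).obj P).X (-1)) :=
    uniqueOfSubsingleton 0
  exact (mappingConeXEquiv _ (-1)).trans ((LinearEquiv.prodUnique (R := R)).trans
    (HomologicalComplex.singleObjXSelf (ComplexShape.up ℤ) 0 E').toLinearEquiv)

end ConeSingle

end Groth.Agent.Helper11.DC
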