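import Groth.Agent.Lib.Helper11.DCTopHom
import Groth.Agent.Lib.Helper11.DCTwoRep

/-!
`0`- and `(-1)`-pseudo-coherent modules.
-/

open CategoryTheory Category Limits Pretriangulated DerivedCategory ZeroObject

attribute [local instance] HasDerivedCategory.standard

universe u

namespace Groth.Agent.Helper11.DC

variable {R : Type u} [CommRing R]

theorem isZero_homology_single (M : ModuleCat.{u} R) (i : ℤ) (hi : i ≠ 0) :
    IsZero ((homologyFunctor (ModuleCat.{u} R) i).obj
      ((singleFunctor (ModuleCat.{u} R) 0).obj M)) := by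
  rcases lt_or_gt_of_ne hi with h | h
  · exact isZero_of_isGE _ 0 i h
  · exact isZero_of_isLE _ 0 i h

theorem isIso_of_isZero' {X Y : ModuleCat.{u} R} (f : X ⟶ Y) (hX : IsZero X) (hY : IsZero Y) :
    IsIso f :=
  ⟨⟨0, hX.eq_of_src _ _, hY.eq_of_src _ _⟩⟩

theorem epi_of_isZero_tgt {X Y : ModuleCat.{u} R} (f : X ⟶ Y) (hY : IsZero Y) : Epi f :=
  ⟨fun _ _ _ => hY.eq_of_src _ _⟩

/-- `H⁰` of a single module. -/
noncomputable def h0Single (M : ModuleCat.{u} R) :
    (homologyFunctor (ModuleCat.{u} R) 0).obj ((singleFunctor (ModuleCat.{u} R) 0).obj M) ≅ M :=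
  (singleFunctorCompHomologyFunctorIso (ModuleCat.{u} R) 0).app M

theorem h0Single_naturality {M N : ModuleCat.{u} R} (f : M ⟶ N) :
    (homologyFunctor (ModuleCat.{u} R) 0).map ((singleFunctor (ModuleCat.{u} R) 0).map f) ≫
      (h0Single N).hom = (h0Single M).hom ≫ f :=
  (singleFunctorCompHomologyFunctorIso (ModuleCat.{u} R) 0).hom.naturality f

theorem epi_h0_single_map {M N : ModuleCat.{u} R} (f : M ⟶ N) [Epi f] :
    Epi ((homologyFunctor (ModuleCat.{u} R) 0).map ((singleFunctor (ModuleCat.{u} R) 0).map f)) := by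
  have h : (homologyFunctor (ModuleCat.{u} R) 0).map ((singleFunctor (ModuleCat.{u} R) 0).map f) =
      (h0Single M).hom ≫ f ≫ (h0Single N).inv := by
    rw [← assoc, ← h0Single_naturality, assoc, Iso.hom_inv_id, comp_id]
  rw [h]
  infer_instance

/-- The cohomology in degree `0` of the cone of a presentation. -/
theorem isIso_h0_of_presentation {E' P M : ModuleCat.{u} R} (d : E' ⟶ P) (p : P ⟶ M)
    (hex : LinearMap.range d.hom = LinearMap.ker p.hom) (hp : Function.Surjective p.hom)
    {C : Dual.D R} (β : (singleFunctor (ModuleCat.{u} R) 0).obj P ⟶ C)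
    (γ : C ⟶ ((singleFunctor (ModuleCat.{u} R) 0).obj E')⟦(1 : ℤ)⟧)
    (hT : Triangle.mk ((singleFunctor (ModuleCat.{u} R) 0).map d) β γ ∈ distTriang (Dual.D R))
    (α : C ⟶ (singleFunctor (ModuleCat.{u} R) 0).obj M)
    (hα : (singleFunctor (ModuleCat.{u} R) 0).map p = β ≫ α) :
    IsIso ((homologyFunctor (ModuleCat.{u} R) 0).map α) := by
  have : Epi p := (ModuleCat.epi_iff_surjective p).mpr hp
  have hβepi : Epi ((homologyFunctor (ModuleCat.{u} R) 0).map β) := by
    refine (HomologySequence.epi_homologyMap_mor₂_iff _ hT 0 1 rfl).mpr ?_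
    exact (isZero_homology_single E' 1 (by norm_num)).eq_of_tgt _ _
  have hcomp : (homologyFunctor (ModuleCat.{u} R) 0).map β ≫
      (homologyFunctor (ModuleCat.{u} R) 0).map α =
      (homologyFunctor (ModuleCat.{u} R) 0).map ((singleFunctor (ModuleCat.{u} R) 0).map p) := by
    rw [← Functor.map_comp, hα]
  have hepi : Epi ((homologyFunctor (ModuleCat.{u} R) 0).map α) := by
    have := epi_h0_single_map p
    rw [← hcomp] at this
    exact epi_of_epi ((homologyFunctor (ModuleCat.{u} R) 0).map β) _
  have hmono : Mono ((homologyFunctor (ModuleCat.{u} R) 0).map α) := by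
    rw [ModuleCat.mono_iff_injective]
    rw [← LinearMap.ker_eq_bot, LinearMap.ker_eq_bot']
    intro c hc
    obtain ⟨y, rfl⟩ := (ModuleCat.epi_iff_surjective _).mp hβepi c
    have h1 : ((homologyFunctor (ModuleCat.{u} R) 0).map
        ((singleFunctor (ModuleCat.{u} R) 0).map p)).hom y = 0 := by
      rw [← hcomp]
      exact hc
    have h2 : p.hom ((h0Single P).hom.hom y) = 0 := by
      have := congr($(h0Single_naturality p).hom y)
      simp only [ModuleCat.hom_comp, LinearMap.comp_apply] at this
      rw [← this, h1, map_zero]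
    have h3 : (h0Single P).hom.hom y ∈ LinearMap.range d.hom := by
      rw [hex]
      exact h2
    obtain ⟨z, hz⟩ := h3
    have h4 : y = ((homologyFunctor (ModuleCat.{u} R) 0).map
        ((singleFunctor (ModuleCat.{u} R) 0).map d)).hom ((h0Single E').inv.hom z) := by
      have hinj : Function.Injective (h0Single P).hom.hom :=
        (ModuleCat.mono_iff_injective _).mp inferInstance
      apply hinj
      have := congr($(h0Single_naturality d).hom ((h0Single E').inv.hom z))
      simp only [ModuleCat.hom_comp, LinearMap.comp_apply] at this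
      rw [this, ← hz]
      congr 1
      exact (congr($((h0Single E').inv_hom_id).hom z)).symm
    have h5 : (homologyFunctor (ModuleCat.{u} R) 0).map
        ((singleFunctor (ModuleCat.{u} R) 0).map d) ≫
        (homologyFunctor (ModuleCat.{u} R) 0).map β = 0 := by
      rw [← Functor.map_comp]
      have : (singleFunctor (ModuleCat.{u} R) 0).map d ≫ β = 0 :=
        comp_distTriang_mor_zero₁₂ _ hT
      rw [this, Functor.map_zero]
    rw [h4]
    exact congr($(h5).hom _)
  exact isIso_of_mono_of_epi _

section Module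

variable (M : Type u) [AddCommGroup M] [Module R M]

theorem finite_of_pc0 (h : DRing.IsPseudoCoherentModule R 0 M) : Module.Finite R M := by
  obtain ⟨E, a, b, α, hab, hE, hiso, hepi⟩ := h
  have hH : ∀ i : ℤ, 0 < i → IsZero ((homologyFunctor (ModuleCat.{u} R) i).obj (Q.obj E)) := by
    intro i hi
    have := hiso i hi
    exact (isZero_homology_single (ModuleCat.of R M) i (by omega)).of_iso
      (asIso ((homologyFunctor (ModuleCat.{u} R) i).map α))
  obtain ⟨E', π, hπ, hz, -⟩ := trim_to (b - 0).toNat E 0 b (by omega)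
    (fun i hi => hab i (Or.inr hi)) (fun i => by
      have := (hE i).2
      infer_instance) hH
  have h1 := topH_finite E' 0 hz (hπ.finite 0 (hE 0).1)
  obtain ⟨e⟩ := hπ.homology_iso 0
  have h2 : Module.Finite R ((homologyFunctor (ModuleCat.{u} R) 0).obj (Q.obj E)) :=
    Module.Finite.equiv e.toLinearEquiv.symm
  have h3 : Module.Finite R ((homologyFunctor (ModuleCat.{u} R) 0).obj
      ((singleFunctor (ModuleCat.{u} R) 0).obj (ModuleCat.of R M))) :=
    Module.Finite.of_surjective ((homologyFunctor (ModuleCat.{u} R) 0).map α).hom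
      ((ModuleCat.epi_iff_surjective _).mp hepi)
  exact Module.Finite.equiv (h0Single (ModuleCat.of R M)).toLinearEquiv

theorem fp_of_pcNeg1 (h : DRing.IsPseudoCoherentModule R (-1) M) :
    Module.FinitePresentation R M := by
  obtain ⟨E, a, b, α, hab, hE, hiso, hepi⟩ := h
  have hH : ∀ i : ℤ, 0 < i → IsZero ((homologyFunctor (ModuleCat.{u} R) i).obj (Q.obj E)) := by
    intro i hi
    have := hiso i (by omega)
    exact (isZero_homology_single (ModuleCat.of R M) i (by omega)).of_iso
      (asIso ((homologyFunctor (ModuleCat.{u} R) i).map α))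
  obtain ⟨E', π, hπ, hz, -⟩ := trim_to (b - 0).toNat E 0 b (by omega)
    (fun i hi => hab i (Or.inr hi)) (fun i => by
      have := (hE i).2
      infer_instance) hH
  have hfp0 : Module.FinitePresentation R (E'.X 0) := by
    have := hπ.finite 0 (hE 0).1
    have := hπ.projective 0 (by
      have := (hE 0).2
      infer_instance)
    exact Module.finitePresentation_of_projective R _
  have h1 := topH_fp E' 0 hz hfp0 (hπ.finite (0 - 1) (hE (0 - 1)).1)
  obtain ⟨e⟩ := hπ.homology_iso 0
  have h2 : Module.FinitePresentation R ((homologyFunctor (ModuleCat.{u} R) 0).obj (Q.obj E)) :=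
    Module.FinitePresentation.of_equiv e.toLinearEquiv.symm
  have := hiso 0 (by norm_num)
  have h3 : Module.FinitePresentation R ((homologyFunctor (ModuleCat.{u} R) 0).obj
      ((singleFunctor (ModuleCat.{u} R) 0).obj (ModuleCat.of R M))) :=
    Module.FinitePresentation.of_equiv
      (asIso ((homologyFunctor (ModuleCat.{u} R) 0).map α)).toLinearEquiv
  exact Module.FinitePresentation.of_equiv (h0Single (ModuleCat.of R M)).toLinearEquiv

theorem single_vanishesOutside (N : ModuleCat.{u} R) :
    DRing.VanishesOutside ((CochainComplex.singleFunctor (ModuleCat.{u} R) 0).obj N) 0 0 := by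
  intro i hi
  exact HomologicalComplex.isZero_single_obj_X _ _ _ _ (by rcases hi with hi | hi <;> omega)

theorem single_termwiseFiniteFree (N : ModuleCat.{u} R) [Module.Finite R N] [Module.Free R N] :
    DRing.TermwiseFiniteFree ((CochainComplex.singleFunctor (ModuleCat.{u} R) 0).obj N) := by
  intro i
  by_cases hi : i = 0
  · subst hi
    let e := (HomologicalComplex.singleObjXSelf (ComplexShape.up ℤ) 0 N).toLinearEquiv
    exact ⟨Module.Finite.equiv e.symm, Module.Free.of_equiv e.symm⟩
  · have hz : IsZero (((CochainComplex.singleFunctor (ModuleCat.{u} R) 0).obj N).X i) :=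
      HomologicalComplex.isZero_single_obj_X _ _ _ _ hi
    have : Subsingleton (((CochainComplex.singleFunctor (ModuleCat.{u} R) 0).obj N).X i) :=
      ModuleCat.subsingleton_of_isZero hz
    exact ⟨inferInstance, inferInstance⟩

theorem pc0_of_finite [Module.Finite R M] : DRing.IsPseudoCoherentModule R 0 M := by
  obtain ⟨n, f, hf⟩ := Module.Finite.exists_fin' R M
  have : Epi (ModuleCat.ofHom f) := (ModuleCat.epi_iff_surjective _).mpr hf
  refine ⟨(CochainComplex.singleFunctor (ModuleCat.{u} R) 0).obj (ModuleCat.of R (Fin n → R)), 0, 0,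
    (singleFunctor (ModuleCat.{u} R) 0).map (ModuleCat.ofHom f), single_vanishesOutside _,
    single_termwiseFiniteFree _, ?_, ?_⟩
  · intro i hi
    exact isIso_of_isZero' _ (isZero_homology_single _ i (by omega))
      (isZero_homology_single _ i (by omega))
  · exact epi_h0_single_map _

theorem twoCx_termwiseFiniteFree {E' P : ModuleCat.{u} R} (d : E' ⟶ P) [Module.Finite R E']
    [Module.Free R E'] [Module.Finite R P] [Module.Free R P] :
    DRing.TermwiseFiniteFree (twoCx d) := by
  intro i
  by_cases h0 : i = 0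
  · subst h0
    exact ⟨Module.Finite.equiv (twoCxZeroEquiv d).symm, Module.Free.of_equiv (twoCxZeroEquiv d).symm⟩
  · by_cases h1 : i = -1
    · subst h1
      exact ⟨Module.Finite.equiv (twoCxNegOneEquiv d).symm,
        Module.Free.of_equiv (twoCxNegOneEquiv d).symm⟩
    · have hz : IsZero ((twoCx d).X i) := twoCx_vanishes d i (by omega)
      have : Subsingleton ((twoCx d).X i) := ModuleCat.subsingleton_of_isZero hz
      exact ⟨inferInstance, inferInstance⟩

theorem pcNeg1_of_fp [Module.FinitePresentation R M] : DRing.IsPseudoCoherentModule R (-1) M := by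
  obtain ⟨n, m, f, g, hf, hex⟩ := Module.FinitePresentation.exists_fin' R M
  let d : ModuleCat.of R (Fin m → R) ⟶ ModuleCat.of R (Fin n → R) := ModuleCat.ofHom g
  let p : ModuleCat.of R (Fin n → R) ⟶ ModuleCat.of R M := ModuleCat.ofHom f
  let φ := (CochainComplex.singleFunctor (ModuleCat.{u} R) 0).map d
  have hT := mappingCone_triangle_distinguished φ
  have hdp : d ≫ p = 0 := by
    apply ModuleCat.hom_ext
    apply LinearMap.ext
    intro x
    exact (hex (g x)).mpr ⟨x, rfl⟩
  have h0 : (Q.mapTriangle.obj (CochainComplex.mappingCone.triangle φ)).mor₁ ≫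
      (singleFunctor (ModuleCat.{u} R) 0).map p = 0 := by
    change (singleFunctor (ModuleCat.{u} R) 0).map d ≫ (singleFunctor (ModuleCat.{u} R) 0).map p = 0
    rw [← Functor.map_comp, hdp, Functor.map_zero]
  obtain ⟨α, hα⟩ := Triangle.yoneda_exact₂ _ hT _ h0
  refine ⟨twoCx d, -1, 0, α, twoCx_vanishes d, twoCx_termwiseFiniteFree d, ?_, ?_⟩
  · intro i hi
    by_cases hi0 : i = 0
    · subst hi0
      refine isIso_h0_of_presentation d p ?_ hf _ _ hT α hα
      ext y
      exact (hex y).symm
    · exact isIso_of_isZero' _ (isZero_homology_of_isZero_X _ i (twoCx_vanishes d i (by omega)))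
        (isZero_homology_single _ i hi0)
  · exact epi_of_isZero_tgt _ (isZero_homology_single _ (-1) (by norm_num))

end Module

end Groth.Agent.Helper11.DC
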