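import Groth.Agent.Lib.Helper11.GenRes
import Groth.Agent.Lib.Helper11.DCPc0
import Mathlib.CategoryTheory.Abelian.Projective.Extend

/-!
Finite modules over noetherian rings are pseudo-coherent.
-/

open CategoryTheory Category Limits Pretriangulated DerivedCategory ZeroObject

attribute [local instance] HasDerivedCategory.standard

universe u

namespace Groth.Agent.Helper11.DC

variable {R : Type u} [CommRing R]

theorem exists_finite_free_cover (K : ModuleCat.{u} R) :
    ∃ (F : ModuleCat.{u} R) (p : F ⟶ K), Epi p ∧
      (Module.Finite R K → Module.Finite R F ∧ Module.Free R F) := by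
  by_cases hK : Module.Finite R K
  · obtain ⟨n, f, hf⟩ := Module.Finite.exists_fin' R K
    refine ⟨ModuleCat.of R (Fin n → R), ModuleCat.ofHom f, ?_, fun _ => ⟨?_, ?_⟩⟩
    · rw [ModuleCat.epi_iff_surjective]
      exact hf
    · change Module.Finite R (Fin n → R)
      infer_instance
    · change Module.Free R (Fin n → R)
      infer_instance
  · exact ⟨K, 𝟙 K, inferInstance, fun h => absurd h hK⟩

/-- finite modules over a noetherian ring have a resolution by finite free modules. -/
theorem exists_finite_free_resolution [IsNoetherianRing R] (M : ModuleCat.{u} R)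
    [Module.Finite R M] :
    ∃ (K : ChainComplex (ModuleCat.{u} R) ℕ) (π : K ⟶ (ChainComplex.single₀ (ModuleCat.{u} R)).obj M),
      QuasiIso π ∧ ∀ i : ℕ, Module.Finite R (K.X i) ∧ Module.Free R (K.X i) := by
  choose cov π hepi hspec using exists_finite_free_cover (R := R)
  let D : Groth.Agent.Helper11.GenRes.CoverData (ModuleCat.{u} R) := ⟨cov, π, hepi⟩
  have key := D.resCx_prop (fun X => Module.Finite R X ∧ Module.Free R X) ?_ ?_ M
    (hspec M inferInstance)
  · exact ⟨D.resCx M, D.resπ _, D.quasiIso_resπ _, key⟩
  · rintro X Y e ⟨h1, h2⟩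
    exact ⟨Module.Finite.equiv e.toLinearEquiv, Module.Free.of_equiv e.toLinearEquiv⟩
  · rintro X Y f ⟨h1, -⟩
    apply hspec
    have hinj : Function.Injective (kernel.ι f) :=
      (ModuleCat.mono_iff_injective _).mp inferInstance
    exact Module.Finite.of_injective (kernel.ι f).hom hinj

theorem isPseudoCoherentModule'_of_finite [IsNoetherianRing R] (M : Type u) [AddCommGroup M]
    [Module R M] [Module.Finite R M] : DRing.IsPseudoCoherentModule' R M := by
  obtain ⟨K, π, hπ, hK⟩ := exists_finite_free_resolution (ModuleCat.of R M)
  have hproj : ∀ n, Projective (K.X n) := fun n => by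
    haveI := (hK n).2
    haveI : Module.Projective R (K.X n) := Module.Projective.of_free
    exact (IsProjective.iff_projective (R := R) (K.X n)).mp this
  let P : ProjectiveResolution (ModuleCat.of R M) :=
    { complex := K
      projective := hproj
      π := π
      quasiIso := hπ }
  refine ⟨P.cochainComplex, 0, ?_, ?_, ⟨?_⟩⟩
  · intro i hi
    exact CochainComplex.isZero_of_isStrictlyLE _ 0 _ hi
  · intro i
    by_cases hi : i ≤ 0
    · obtain ⟨k, rfl⟩ := Int.exists_eq_neg_ofNat hi
      have e := (P.cochainComplexXIso (-k) k).symm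
      haveI := (hK k).1
      haveI := (hK k).2
      exact ⟨Module.Finite.equiv e.toLinearEquiv, Module.Free.of_equiv e.toLinearEquiv⟩
    · have hz : IsZero (P.cochainComplex.X i) :=
        CochainComplex.isZero_of_isStrictlyLE _ 0 _ (by omega)
      have : Subsingleton (P.cochainComplex.X i) := ModuleCat.subsingleton_of_isZero hz
      exact ⟨inferInstance, inferInstance⟩
  · haveI : IsIso (Q.map P.π') := by
      rw [isIso_Q_map_iff_quasiIso]
      infer_instance
    exact asIso (Q.map P.π') ≪≫
      ((DerivedCategory.singleFunctorIsoCompQ (ModuleCat.{u} R) 0).app (ModuleCat.of R M)).symm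

end Groth.Agent.Helper11.DC
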