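import Groth.Agent.Lib.Helper11.LTenTri1
import Groth.Agent.Lib.Helper11.LDer4

/-!
# `- ⊗^L M` for a module `M` and derived completion: the universal property (helper11)

* `LTenTri.dsplitMap`: additive functors applied termwise preserve degreewise split sequences.
* `LTenTri.fLocal_Q_mapHomologicalComplex`: a linear functor applied termwise to an `f`-local
  K-projective complex gives an `f`-local object.
* `LTenTri.coneHyp_LTensor`: `- ⊗^L M` satisfies `ConeHyp`.
-/

set_option autoImplicit false
set_option linter.unusedSectionVars false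
set_option linter.unusedVariables false
set_option linter.style.haveILetI false

open CategoryTheory CategoryTheory.Limits MonoidalCategory CochainComplex HomComplex
  Pretriangulated DerivedCategory
open scoped TensorProduct

universe u

attribute [local instance] HasDerivedCategory.standard

namespace Groth.Agent.Helper11.LTenTri

open Groth.Agent.Helper3.HT Groth.Agent.Helper3.KF Groth.Agent.Helper5.KF
  Groth.Agent.Helper11.RHomLoc Groth.Agent.Helper11.DCP Groth.Agent.Helper11.GM
  Groth.Agent.Helper11.RGam Groth.Agent.Helper11.RHomTri Groth.Agent.Helper3.DS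
  Groth.Agent.Helper11.TA Groth.Agent.Helper11.LDer

variable {A : Type u} [CommRing A]

section Termwise

variable (F : ModuleCat.{u} A ⥤ ModuleCat.{u} A) [F.Additive]

/-- additive functors applied termwise preserve degreewise split sequences -/
noncomputable def dsplitMap {S : ShortComplex (DRing.Cx A)} (h : DSplit S) :
    DSplit (S.map (F.mapHomologicalComplex (ComplexShape.up ℤ))) where
  r n := F.map (h.r n)
  s n := F.map (h.s n)
  f_r n := by
    change F.map (S.f.f n) ≫ F.map (h.r n) = 𝟙 _
    rw [← F.map_comp, h.f_r, F.map_id]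
  s_g n := by
    change F.map (h.s n) ≫ F.map (S.g.f n) = 𝟙 _
    rw [← F.map_comp, h.s_g, F.map_id]
  id n := by
    change F.map (h.r n) ≫ F.map (S.f.f n) + F.map (S.g.f n) ≫ F.map (h.s n) = 𝟙 _
    rw [← F.map_comp, ← F.map_comp, ← F.map_add, h.id, F.map_id]

/-- a termwise additive functor sends quasi-isomorphisms between K-projective complexes to
quasi-isomorphisms -/
theorem isIso_Q_map_mapHomologicalComplex {P : DRing.Cx A} [P.IsKProjective] (u : P ⟶ P)
    (hu : IsIso (Q.map u)) :
    IsIso (Q.map ((F.mapHomologicalComplex (ComplexShape.up ℤ)).map u)) := by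
  obtain ⟨v, hv⟩ := Groth.Agent.Helper11.DC.exists_lift_of_isKProjective P P (inv (Q.map u))
  obtain ⟨h1⟩ := Groth.Agent.Helper11.Tel.homotopy_of_Q_map_eq P P (u ≫ v) (𝟙 P) (by
    rw [Functor.map_comp, hv, IsIso.hom_inv_id, CategoryTheory.Functor.map_id])
  obtain ⟨h2⟩ := Groth.Agent.Helper11.Tel.homotopy_of_Q_map_eq P P (v ≫ u) (𝟙 P) (by
    rw [Functor.map_comp, hv, IsIso.inv_hom_id, CategoryTheory.Functor.map_id])
  refine ⟨⟨Q.map ((F.mapHomologicalComplex (ComplexShape.up ℤ)).map v), ?_, ?_⟩⟩
  · rw [← Functor.map_comp, ← Functor.map_comp,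
      DerivedCategory.Q_map_eq_of_homotopy (h := F.mapHomotopy h1),
      CategoryTheory.Functor.map_id, CategoryTheory.Functor.map_id]
  · rw [← Functor.map_comp, ← Functor.map_comp,
      DerivedCategory.Q_map_eq_of_homotopy (h := F.mapHomotopy h2),
      CategoryTheory.Functor.map_id, CategoryTheory.Functor.map_id]

/-- a termwise linear functor preserves `f`-locality of K-projective complexes -/
theorem fLocal_Q_mapHomologicalComplex [F.Linear A] (P : DRing.Cx A) [P.IsKProjective] (f : A)
    (h : FLocal f (Q.obj P)) :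
    FLocal f (Q.obj ((F.mapHomologicalComplex (ComplexShape.up ℤ)).obj P)) := by
  unfold FLocal at h ⊢
  rw [smul_id_Q] at h ⊢
  have h1 : f • 𝟙 ((F.mapHomologicalComplex (ComplexShape.up ℤ)).obj P) =
      (F.mapHomologicalComplex (ComplexShape.up ℤ)).map (f • 𝟙 P) := by
    rw [Functor.map_smul, CategoryTheory.Functor.map_id]
  rw [h1]
  exact isIso_Q_map_mapHomologicalComplex F _ h

end Termwise

/-- `- ⊗^L M` satisfies `ConeHyp` -/
theorem coneHyp_LTensor (M : ModuleCat.{u} A) [DRing.HasLTensor A M] :
    ConeHyp (DRing.LTensor A M) := by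
  intro PZ PX hPZ hPX φ f hloc E hE
  haveI := hPZ
  haveI := hPX
  haveI : (mappingCone φ).IsKProjective := isKProjective_mappingCone φ
  have hSE := (dsplitMap (tensorRight M) (dsplit_coneSC φ)).shortExact
  have hTS := DerivedCategory.triangleOfSES_distinguished hSE
  have hW : FLocal f (Q.obj ((tens M).obj (PZ⟦(1 : ℤ)⟧))) := by
    apply fLocal_Q_mapHomologicalComplex
    exact (hloc.shift 1).of_iso ((Q.commShiftIso (1 : ℤ)).app PZ).symm
  have hb : Function.Bijective (fun ψ : Q.obj ((tens M).obj (mappingCone φ)) ⟶ E =>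
      Q.map ((tens M).map (mappingCone.inr φ)) ≫ ψ) :=
    bijective_mor₁_comp_of_right _ hTS E (hE _ hW) (hE _ (hW.shift (-1)))
  let L := DRing.LTensor A M
  obtain ⟨cX, hcX, iX⟩ : ∃ cX : L.obj (Q.obj PX) ⟶ Q.obj ((tens M).obj PX),
      cX = ((DRing.tensorKh A M).totalLeftDerivedCounit Qh
        (HomotopyCategory.quasiIso (ModuleCat.{u} A) (ComplexShape.up ℤ))).app
          ((HomotopyCategory.quotient _ _).obj PX) ∧ IsIso cX :=
    ⟨_, rfl, isIso_totalLeftDerivedCounit_app (DRing.tensorKh A M) PX⟩
  obtain ⟨cC, hcC, iC⟩ : ∃ cC : L.obj (Q.obj (mappingCone φ)) ⟶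
      Q.obj ((tens M).obj (mappingCone φ)),
      cC = ((DRing.tensorKh A M).totalLeftDerivedCounit Qh
        (HomotopyCategory.quasiIso (ModuleCat.{u} A) (ComplexShape.up ℤ))).app
          ((HomotopyCategory.quotient _ _).obj (mappingCone φ)) ∧ IsIso cC :=
    ⟨_, rfl, isIso_totalLeftDerivedCounit_app (DRing.tensorKh A M) (mappingCone φ)⟩
  have nat : L.map (Q.map (mappingCone.inr φ)) ≫ cC =
      cX ≫ Q.map ((tens M).map (mappingCone.inr φ)) := by
    rw [hcX, hcC]
    exact ((DRing.tensorKh A M).totalLeftDerivedCounit Qh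
      (HomotopyCategory.quasiIso (ModuleCat.{u} A) (ComplexShape.up ℤ))).naturality
        ((HomotopyCategory.quotient _ _).map (mappingCone.inr φ))
  have hR : L.map (Q.map (mappingCone.inr φ)) =
      cX ≫ Q.map ((tens M).map (mappingCone.inr φ)) ≫ inv cC := by
    rw [← Category.assoc, ← nat, Category.assoc, IsIso.hom_inv_id, Category.comp_id]
  have b1 := bijective_iso_comp (inv cC) E
  have b3 := bijective_iso_comp cX E
  have hfun : (fun ψ : L.obj (Q.obj (mappingCone φ)) ⟶ E =>
        L.map (Q.map (mappingCone.inr φ)) ≫ ψ) =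
      (fun ψ => cX ≫ ψ) ∘ (fun ψ => Q.map ((tens M).map (mappingCone.inr φ)) ≫ ψ) ∘
        (fun ψ => inv cC ≫ ψ) := by
    funext ψ
    simp only [Function.comp, hR, Category.assoc]
  change Function.Bijective (fun ψ : L.obj (Q.obj (mappingCone φ)) ⟶ E =>
    L.map (Q.map (mappingCone.inr φ)) ≫ ψ)
  rw [hfun]
  exact b3.comp (hb.comp b1)

end Groth.Agent.Helper11.LTenTri
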