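import Groth.Agent.Lib.Helper11.LTenComp1
import Groth.Agent.Lib.Helper11.LTenTri2
import Groth.Agent.Lib.Helper11.FinRes

/-!
# Derived completion commutes with `- ⊗^L M` for a finite module `M` (helper11)

* `LTenComp.isDerivedComplete_Q_tensor`: `P ⊗ F` is derived complete for `P` a derived complete
  bounded above K-projective complex and `F` a bounded above complex of finite projectives.
* `LTenComp.tensSingleHom N P : (P ⊗ N termwise) ≅ P ⊗ N[0]`.
* `LTenComp.exists_finite_free_resolution_sg`.
* `LTenComp.isDerivedComplete_LTensor`, `LTenComp.S7095_statement`.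
-/

set_option autoImplicit false
set_option linter.unusedSectionVars false
set_option linter.unusedVariables false
set_option linter.style.haveILetI false

open CategoryTheory CategoryTheory.Limits MonoidalCategory CochainComplex HomComplex
  Pretriangulated DerivedCategory
open scoped TensorProduct

universe u

attribute [local instance] HasDerivedCategory.standard

namespace Groth.Agent.Helper11.LTenComp

open Groth.Agent.Helper3.HT Groth.Agent.Helper3.KF Groth.Agent.Helper5.KF
  Groth.Agent.Helper11.RHomLoc Groth.Agent.Helper11.DCP Groth.Agent.Helper11.GM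
  Groth.Agent.Helper11.RGam Groth.Agent.Helper11.RHomTri Groth.Agent.Helper3.DS
  Groth.Agent.Helper11.DC Groth.Agent.Helper11.LTenTri Groth.Agent.Helper11.RHomDual
  Groth.Agent.Helper3.TH Groth.Agent.Helper8.BiDual Groth.Agent.Helper11.LTen
  Groth.Agent.Helper11.TA Groth.Agent.Helper11.LDer

variable {A : Type u} [CommRing A]

/-- `P ⊗ F` is derived complete for `P` a derived complete bounded above K-projective complex and
`F` a bounded above complex of finite projective modules -/
theorem isDerivedComplete_Q_tensor (I : Ideal A) (hI : I.FG) (P : DRing.Cx A) [P.IsKProjective]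
    (c' : ℤ) (hPc : DRing.VanishesAbove P c') (hPcomp : DRing.IsDerivedComplete I (Q.obj P))
    (F : DRing.Cx A) (c : ℤ) (hFc : DRing.VanishesAbove F c)
    (hFf : DRing.TermwiseFiniteProjective F) :
    DRing.IsDerivedComplete I (Q.obj (P ⊗ F)) := by
  classical
  obtain ⟨s, hs⟩ := hI
  have hl : Ideal.span {x : A | x ∈ s.toList} = I := by
    rw [← hs]
    congr 1
    ext x
    simp
  intro f hf n
  exact subsingleton_away_hom_tensor I s.toList hl P c' hPc hPcomp f hf n
    (c + c' + 2 - n).toNat F c hFc hFf (by
      have := Int.self_le_toNat (c + c' + 2 - n)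
      omega)

/-- components of `tensSingleHom` -/
noncomputable def tsf (N : ModuleCat.{u} A) (P : DRing.Cx A) (n : ℤ) :
    (P.X n ⊗ N : ModuleCat.{u} A) ⟶ (P ⊗ RHomLoc.sg N).X n :=
  (P.X n ◁ (HomologicalComplex.singleObjXSelf (ComplexShape.up ℤ) 0 N).inv) ≫
    HomologicalComplex.ιTensorObj P (RHomLoc.sg N) n 0 n (add_zero n)

theorem tsf_comm (N : ModuleCat.{u} A) (P : DRing.Cx A) (n m : ℤ) (hnm : n + 1 = m) :
    tsf N P n ≫ (P ⊗ RHomLoc.sg N).d n m = (P.d n m ▷ N) ≫ tsf N P m := by
  have hd : (RHomLoc.sg N).d 0 1 = 0 := HomologicalComplex.single_obj_d (ComplexShape.up ℤ) 0 N 0 1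
  unfold tsf
  rw [Category.assoc, ι_d (K := P) (P := RHomLoc.sg N) n 0 n m m 1 (add_zero n) hnm hnm (zero_add 1),
    hd, MonoidalPreadditive.whiskerLeft_zero, zero_comp, smul_zero, add_zero,
    ← Category.assoc, ← Category.assoc, MonoidalCategory.whisker_exchange]

theorem isIso_tsf (N : ModuleCat.{u} A) (P : DRing.Cx A) (n : ℤ) : IsIso (tsf N P n) := by
  haveI := isIso_ι_right P (RHomLoc.sg N) 0 (fun p hp => RHomLoc.isZero_sg_X N p hp) n n (add_zero n)
  unfold tsf
  infer_instance

/-- the termwise tensor product with a module, as a total tensor product with the module placed in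
degree `0` -/
noncomputable def tensSingleHom (N : ModuleCat.{u} A) (P : DRing.Cx A) :
    (tens N).obj P ⟶ P ⊗ RHomLoc.sg N where
  f n := tsf N P n
  comm' n m hnm := tsf_comm N P n m hnm

instance isIso_tensSingleHom (N : ModuleCat.{u} A) (P : DRing.Cx A) :
    IsIso (tensSingleHom N P) := by
  haveI : ∀ n, IsIso ((tensSingleHom N P).f n) := fun n => isIso_tsf N P n
  exact HomologicalComplex.Hom.isIso_of_components _

/-- a finite module over a Noetherian ring has a resolution by a bounded above complex of finite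
free modules -/
theorem exists_finite_free_resolution_sg [IsNoetherianRing A] (M : Type u) [AddCommGroup M]
    [Module A M] [Module.Finite A M] :
    ∃ (F : DRing.Cx A) (c : ℤ) (π : F ⟶ RHomLoc.sg (ModuleCat.of A M)),
      DRing.VanishesAbove F c ∧ DRing.TermwiseFiniteFree F ∧ QuasiIso π := by
  obtain ⟨F, c, hFc, hFf, ⟨e⟩⟩ := isPseudoCoherentModule'_of_finite (R := A) M
  haveI : F.IsKProjective := isKProjective_of_vanishesAbove F c hFc
    (fun i => by haveI := (hFf i).2; infer_instance)
  let e' : Q.obj F ≅ Q.obj (RHomLoc.sg (ModuleCat.of A M)) :=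
    e ≪≫ (DerivedCategory.singleFunctorIsoCompQ (ModuleCat.{u} A) 0).app (ModuleCat.of A M)
  obtain ⟨π, hπ⟩ := Groth.Agent.Helper11.DC.exists_lift_of_isKProjective F _ e'.hom
  refine ⟨F, c, π, hFc, hFf, ?_⟩
  rw [← isIso_Q_map_iff_quasiIso, hπ]
  infer_instance

/-- `X ⊗^L M` is derived complete for `X` derived complete with bounded above cohomology and `M` a
finite module over a Noetherian ring -/
theorem isDerivedComplete_LTensor [IsNoetherianRing A] (I : Ideal A) (M : Type u)
    [AddCommGroup M] [Module A M] [Module.Finite A M] [DRing.HasLTensor A (ModuleCat.of A M)]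
    (X : Dual.D A) (hXc : DRing.IsDerivedComplete I X) (b : ℤ)
    (hXb : ∀ i : ℤ, b < i → Subsingleton (Dual.HD A X i)) :
    DRing.IsDerivedComplete I ((DRing.LTensor A (ModuleCat.of A M)).obj X) := by
  have hI : I.FG := IsNoetherian.noetherian I
  have hle : X.IsLE b := by
    rw [DerivedCategory.isLE_iff]
    intro i hi
    haveI := hXb i hi
    exact ModuleCat.isZero_of_subsingleton _
  obtain ⟨P, c', hPc, hPp, ⟨e⟩⟩ := Groth.Agent.Helper11.PRT.hasProjRes_of_isLE X b hle
  haveI : P.IsKProjective := isKProjective_of_vanishesAbove P c' hPc hPp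
  have hPcomp : DRing.IsDerivedComplete I (Q.obj P) := isDerivedComplete_of_iso I e.symm hXc
  obtain ⟨F, c, π, hFc, hFf, hπ⟩ := exists_finite_free_resolution_sg (A := A) M
  have hq : QuasiIso (P ◁ π) := quasiIso_whiskerLeft_of_flat_bddAbove P c' hPc
    (fun i => by haveI := hPp i; infer_instance) π hπ
  haveI : IsIso (Q.map (P ◁ π)) := by
    rw [isIso_Q_map_iff_quasiIso]
    exact hq
  obtain ⟨i0⟩ := nonempty_LTensor_iso_of_projRes (ModuleCat.of A M) X P c' hPc hPp e
  let i : Q.obj (P ⊗ F) ≅ (DRing.LTensor A (ModuleCat.of A M)).obj X :=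
    asIso (Q.map (P ◁ π)) ≪≫ (Q.mapIso (asIso (tensSingleHom (ModuleCat.of A M) P))).symm ≪≫
      i0.symm
  exact isDerivedComplete_of_iso I i (isDerivedComplete_Q_tensor I hI P c' hPc hPcomp F c hFc
    (fun i => ⟨(hFf i).1, by haveI := (hFf i).2; infer_instance⟩))

/-- statement S7095 -/
theorem S7095_statement [IsNoetherianRing A] (I : Ideal A)
    [DRing.HasDerivedCompletion I] (M : Type u) [AddCommGroup M] [Module A M] [Module.Finite A M]
    [DRing.HasLTensor A (ModuleCat.of A M)] (K : Dual.D A) (b : ℤ)
    (hK : ∀ i : ℤ, b < i → Subsingleton (Dual.HD A K i)) :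
    DRing.IsDerivedComplete I
        ((DRing.LTensor A (ModuleCat.of A M)).obj ((DRing.derivedCompletion I).obj K).obj) ∧
      ∀ E : Dual.D A, DRing.IsDerivedComplete I E →
        Function.Bijective
          (fun φ : (DRing.LTensor A (ModuleCat.of A M)).obj
              ((DRing.derivedCompletion I).obj K).obj ⟶ E =>
            (DRing.LTensor A (ModuleCat.of A M)).map (DRing.toDerivedCompletion I K) ≫ φ) := by
  classical
  have hI : I.FG := IsNoetherian.noetherian I
  refine ⟨?_, fun E hE =>
    bijective_map_toDerivedCompletion I hI _ (coneHyp_LTensor (ModuleCat.of A M)) K E hE⟩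
  obtain ⟨s, hs⟩ := hI
  have hl : Ideal.span {x : A | x ∈ s.toList} = I := by
    rw [← hs]
    congr 1
    ext x
    simp
  refine isDerivedComplete_LTensor I M _ ((DRing.derivedCompletion I).obj K).property b ?_
  intro i hi
  apply subsingleton_HD_completion_of_list s.toList I hl K i
  intro j _
  exact hK (i + j) (by omega)

end Groth.Agent.Helper11.LTenComp
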