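import Groth.Agent.Lib.Helper11.DCSeq

/-!
Derived Nakayama, in terms of the sequence criterion.
-/

universe u

namespace Groth.Agent.Helper11.DC

variable {A : Type u} [CommRing A]

theorem eq_zero_of_divisible {M : Type u} [AddCommGroup M] [Module A M] (f : A)
    (hM : Function.Injective (Tf M f)) (hdiv : ∀ m : M, ∃ m' : M, m = f • m') (m : M) :
    m = 0 := by
  choose φ hφ using hdiv
  have key : Tf M f (fun i => φ^[i] m) = 0 := by
    funext i
    simp only [Tf, Pi.zero_apply]
    rw [Function.iterate_succ_apply', ← hφ, sub_self]
  have := congrFun ((Tf_injective_iff f).mp hM _ key) 0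
  simpa using this

theorem nakayama_aux (s : Finset A) :
    ∀ (M : Type u) [AddCommGroup M] [Module A M], (∀ g ∈ s, Function.Bijective (Tf M g)) →
      Ideal.span (s : Set A) • (⊤ : Submodule A M) = ⊤ → Subsingleton M := by
  classical
  induction s using Finset.induction_on with
  | empty =>
    intro M _ _ _ h
    refine ⟨fun a b => ?_⟩
    have hz : ∀ m : M, m = 0 := by
      intro m
      have hm : m ∈ (⊤ : Submodule A M) := trivial
      rw [← h, Finset.coe_empty, Ideal.span_empty, Submodule.bot_smul] at hm
      exact hm
    rw [hz a, hz b]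
  | insert f s hfs ih =>
    intro M _ _ hM h
    let u : M →ₗ[A] M := f • LinearMap.id
    have hM' : ∀ g ∈ s, Function.Bijective (Tf (M ⧸ LinearMap.range u) g) := fun g hg =>
      dc_coker g u (hM g (Finset.mem_insert_of_mem hg)) (hM g (Finset.mem_insert_of_mem hg))
    have htop : Ideal.span (s : Set A) • (⊤ : Submodule A (M ⧸ LinearMap.range u)) = ⊤ := by
      rw [eq_top_iff]
      intro y _
      obtain ⟨m, rfl⟩ := Submodule.mkQ_surjective _ y
      have hm : m ∈ Ideal.span ((insert f s : Finset A) : Set A) • (⊤ : Submodule A M) := by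
        rw [h]
        trivial
      refine Submodule.smul_induction_on hm ?_ ?_
      · intro r hr n _
        rw [Finset.coe_insert, Ideal.mem_span_insert] at hr
        obtain ⟨a, r', hr', rfl⟩ := hr
        rw [add_smul, map_add]
        have h0 : (LinearMap.range u).mkQ ((a * f) • n) = 0 := by
          rw [Submodule.mkQ_apply, Submodule.Quotient.mk_eq_zero]
          exact ⟨a • n, by simp [u, mul_smul, smul_comm f a n]⟩
        rw [h0, zero_add, map_smul]
        exact Submodule.smul_mem_smul hr' trivial
      · intro x y hx hy
        rw [map_add]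
        exact Submodule.add_mem _ hx hy
    have hsub := ih (M ⧸ LinearMap.range u) hM' htop
    have hdiv : ∀ m : M, ∃ m' : M, m = f • m' := by
      intro m
      have h0 : (LinearMap.range u).mkQ m = 0 := Subsingleton.elim _ _
      rw [Submodule.mkQ_apply, Submodule.Quotient.mk_eq_zero] at h0
      obtain ⟨m', hm'⟩ := h0
      exact ⟨m', by rw [← hm']; rfl⟩
    refine ⟨fun a b => ?_⟩
    have hf := (hM f (Finset.mem_insert_self f s)).1
    rw [eq_zero_of_divisible f hf hdiv a, eq_zero_of_divisible f hf hdiv b]

end Groth.Agent.Helper11.DC
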