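import Groth.Agent.Lib.Helper11.DCHom
import Groth.Agent.Lib.Helper11.DCNak
import Mathlib.Algebra.Homology.DerivedCategory.Linear
import Mathlib.Algebra.Homology.ShortComplex.Linear

/-!
Derived completion kills complexes on which an element of the ideal acts invertibly.
-/

open CategoryTheory Category Limits DerivedCategory

attribute [local instance] HasDerivedCategory.standard

universe t w v u

namespace Groth.Agent.Helper11.DC

section Linear

variable (R : Type t) [Ring R] (C : Type u) [Category.{v} C] [Abelian C] [Linear R C]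
  [HasDerivedCategory.{w} C]

instance shortComplexFunctor_linear (n : ℤ) :
    (HomologicalComplex.shortComplexFunctor C (ComplexShape.up ℤ) n).Linear R where
  map_smul := by
    intro X Y f r
    ext <;> rfl

instance hc_homologyFunctor_linear (n : ℤ) :
    (HomologicalComplex.homologyFunctor C (ComplexShape.up ℤ) n).Linear R :=
  Functor.linear_of_iso _ (HomologicalComplex.homologyFunctorIso C (ComplexShape.up ℤ) n).symm

theorem dc_homologyFunctor_linear (n : ℤ) : (homologyFunctor C n).Linear R := by
  let _ : Localization.Lifting Q (HomologicalComplex.quasiIso C (ComplexShape.up ℤ))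
      (HomologicalComplex.homologyFunctor C (ComplexShape.up ℤ) n) (homologyFunctor C n) :=
    ⟨homologyFunctorFactors C n⟩
  exact (Localization.functor_linear_iff Q (HomologicalComplex.quasiIso C (ComplexShape.up ℤ)) R
    (HomologicalComplex.homologyFunctor C (ComplexShape.up ℤ) n) (homologyFunctor C n)).mp
    inferInstance

theorem homologyFunctor_map_smul_id (Y : DerivedCategory C) (n : ℤ) (r : R) :
    (homologyFunctor C n).map (r • 𝟙 Y) = r • 𝟙 ((homologyFunctor C n).obj Y) := by
  have := dc_homologyFunctor_linear R C n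
  rw [Functor.map_smul, CategoryTheory.Functor.map_id]

end Linear

variable {A : Type u} [CommRing A]

theorem isZero_of_homology_isZero (Y : Dual.D A)
    (h : ∀ n : ℤ, IsZero ((homologyFunctor (ModuleCat.{u} A) n).obj Y)) : IsZero Y := by
  have h1 : Y.IsLE (-1) := by
    rw [isLE_iff]
    intro i _
    exact h i
  have h2 : Y.IsGE 0 := by
    rw [isGE_iff]
    intro i _
    exact h i
  exact TStructure.t.isZero Y (-1) 0 (by norm_num)

theorem isZero_of_dc_of_isIso_smul (I : Ideal A) (Y : Dual.D A)
    (hY : DRing.IsDerivedComplete I Y) (f : A) (hf : f ∈ I) (hiso : IsIso (f • 𝟙 Y)) :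
    IsZero Y := by
  rw [isDerivedComplete_iff_homology] at hY
  apply isZero_of_homology_isZero
  intro n
  have hT := hY n f hf
  have hiso' : IsIso ((homologyFunctor (ModuleCat.{u} A) n).map (f • 𝟙 Y)) := inferInstance
  rw [homologyFunctor_map_smul_id] at hiso'
  have hbij := (ConcreteCategory.isIso_iff_bijective
    (f • 𝟙 ((homologyFunctor (ModuleCat.{u} A) n).obj Y))).mp hiso'
  have hdiv : ∀ m : Dual.HD A Y n, ∃ m' : Dual.HD A Y n, m = f • m' := by
    intro m
    obtain ⟨m', hm'⟩ := hbij.2 m
    exact ⟨m', hm'.symm⟩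
  have hz := eq_zero_of_divisible f hT.1 hdiv
  have : Subsingleton (Dual.HD A Y n) := ⟨fun a b => by rw [hz a, hz b]⟩
  exact ModuleCat.isZero_of_subsingleton _

theorem isIso_smul_completion (I : Ideal A) [DRing.HasDerivedCompletion I] (X : Dual.D A)
    (f : A) (hX : IsIso (f • 𝟙 X)) :
    IsIso (f • 𝟙 ((DRing.derivedCompletion I).obj X).obj) := by
  let adj := DRing.derivedCompletionAdj I
  let LX := (DRing.derivedCompletion I).obj X
  let η : X ⟶ LX.obj := adj.unit.app X
  have huniq : ∀ g₁ g₂ : LX.obj ⟶ LX.obj, η ≫ g₁ = η ≫ g₂ → g₁ = g₂ := by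
    intro g₁ g₂ h
    have h' : (adj.homEquiv X LX) (ObjectProperty.homMk g₁) =
        (adj.homEquiv X LX) (ObjectProperty.homMk g₂) := by
      rw [Adjunction.homEquiv_unit, Adjunction.homEquiv_unit]
      exact h
    have := (adj.homEquiv X LX).injective h'
    exact congrArg (fun g => g.hom) this
  have hex : ∀ h' : X ⟶ LX.obj, ∃ k : LX.obj ⟶ LX.obj, η ≫ k = h' := by
    intro h'
    refine ⟨((adj.homEquiv X LX).symm h').hom, ?_⟩
    have := (adj.homEquiv X LX).apply_symm_apply h'
    rw [Adjunction.homEquiv_unit] at this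
    exact this
  obtain ⟨k, hk⟩ := hex (inv (f • 𝟙 X) ≫ η)
  refine ⟨k, ?_, ?_⟩
  · apply huniq
    rw [← assoc, Linear.comp_smul, comp_id, Linear.smul_comp, hk, ← Linear.smul_comp]
    have : f • inv (f • 𝟙 X) = inv (f • 𝟙 X) ≫ (f • 𝟙 X) := by
      rw [Linear.comp_smul, comp_id]
    rw [this, IsIso.inv_hom_id, id_comp]
  · apply huniq
    rw [← assoc, hk, assoc, Linear.comp_smul, comp_id, Linear.comp_smul, ← Linear.smul_comp]
    have : f • inv (f • 𝟙 X) = inv (f • 𝟙 X) ≫ (f • 𝟙 X) := by
      rw [Linear.comp_smul, comp_id]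
    rw [this, IsIso.inv_hom_id, id_comp]

theorem isIso_smul_toD (K : DRing.Cx A) (f : A)
    (hK : ∀ i : ℤ, Function.Bijective (fun x : K.X i => f • x)) :
    IsIso (f • 𝟙 (DRing.toD K)) := by
  have h1 : ∀ i, IsIso ((f • 𝟙 K : K ⟶ K).f i) := by
    intro i
    rw [ConcreteCategory.isIso_iff_bijective]
    exact hK i
  have h2 : IsIso (f • 𝟙 K : K ⟶ K) := HomologicalComplex.Hom.isIso_of_components _
  have h3 : f • 𝟙 (DRing.toD K) = Q.map (f • 𝟙 K) := by
    rw [Functor.map_smul, CategoryTheory.Functor.map_id]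
  rw [h3]
  infer_instance

end Groth.Agent.Helper11.DC
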