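import Groth.Agent.Lib.Helper11.DCBridge2

/-!
Closure properties of the sequence criterion for derived completeness.
-/

universe u

namespace Groth.Agent.Helper11.DC

variable {A : Type u} [CommRing A]

section Closure

variable {M N : Type u} [AddCommGroup M] [Module A M] [AddCommGroup N] [Module A N]

theorem Tf_sub (f : A) (x y : ℕ → M) : Tf M f (x - y) = Tf M f x - Tf M f y := by
  funext i
  simp only [Tf, Pi.sub_apply, smul_sub]
  abel

theorem Tf_add (f : A) (x y : ℕ → M) : Tf M f (x + y) = Tf M f x + Tf M f y := by
  funext i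
  simp only [Tf, Pi.add_apply, smul_add]
  abel

theorem Tf_zero (f : A) : Tf M f 0 = 0 := by
  funext i
  simp [Tf]

theorem Tf_map (f : A) (u : M →ₗ[A] N) (x : ℕ → M) :
    Tf N f (fun i => u (x i)) = fun i => u (Tf M f x i) := by
  funext i
  simp only [Tf, map_sub, map_smul]

theorem Tf_injective_iff (f : A) :
    Function.Injective (Tf M f) ↔ ∀ x : ℕ → M, Tf M f x = 0 → x = 0 := by
  constructor
  · intro h x hx
    exact h (hx.trans (Tf_zero f).symm)
  · intro h x y hxy
    have : Tf M f (x - y) = 0 := by rw [Tf_sub, hxy, sub_self]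
    exact sub_eq_zero.mp (h _ this)

/-- Kernels. -/
theorem dc_ker (f : A) (u : M →ₗ[A] N) (hM : Function.Bijective (Tf M f))
    (hN : Function.Bijective (Tf N f)) : Function.Bijective (Tf (LinearMap.ker u) f) := by
  constructor
  · rw [Tf_injective_iff]
    intro x hx
    have h1 : Tf M f (fun i => (x i : M)) = 0 := by
      have := Tf_map f (LinearMap.ker u).subtype x
      rw [hx] at this
      funext i
      have h2 := congrFun this i
      simpa using h2
    have h2 := (Tf_injective_iff f).mp hM.1 _ h1
    funext i
    exact Subtype.ext (congrFun h2 i)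
  · intro y
    obtain ⟨x, hx⟩ := hM.2 (fun i => (y i : M))
    have hux : (fun i => u (x i)) = 0 := by
      apply (Tf_injective_iff f).mp hN.1
      rw [Tf_map, hx]
      funext i
      exact (y i).2
    refine ⟨fun i => ⟨x i, congrFun hux i⟩, ?_⟩
    funext i
    apply Subtype.ext
    have := congrFun hx i
    simpa [Tf] using this

/-- Cokernels. -/
theorem dc_coker (f : A) (u : M →ₗ[A] N) (hM : Function.Bijective (Tf M f))
    (hN : Function.Bijective (Tf N f)) :
    Function.Bijective (Tf (N ⧸ LinearMap.range u) f) := by
  set π := (LinearMap.range u).mkQ with hπ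
  constructor
  · rw [Tf_injective_iff]
    intro c hc
    choose c' hc' using fun i => Submodule.mkQ_surjective (LinearMap.range u) (c i)
    have h1 : ∀ i, Tf N f c' i ∈ LinearMap.range u := by
      intro i
      rw [← Submodule.Quotient.mk_eq_zero, ← Submodule.mkQ_apply]
      have := congrFun (Tf_map f π c') i
      rw [← this]
      have e : (fun i => π (c' i)) = c := funext hc'
      rw [e, hc]
      rfl
    choose m hm using h1
    obtain ⟨y, hy⟩ := hM.2 m
    have h2 : Tf N f (c' - fun i => u (y i)) = 0 := by
      rw [Tf_sub, Tf_map, hy]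
      funext i
      simp only [Pi.sub_apply, hm i, sub_self, Pi.zero_apply]
    have h3 := (Tf_injective_iff f).mp hN.1 _ h2
    funext i
    have h4 : c' i = u (y i) := by
      have := congrFun h3 i
      simpa [sub_eq_zero] using this
    rw [← hc' i, h4]
    change π (u (y i)) = 0
    rw [Submodule.mkQ_apply, Submodule.Quotient.mk_eq_zero]
    exact ⟨y i, rfl⟩
  · intro c
    choose c' hc' using fun i => Submodule.mkQ_surjective (LinearMap.range u) (c i)
    obtain ⟨x, hx⟩ := hN.2 c'
    refine ⟨fun i => π (x i), ?_⟩
    rw [Tf_map, hx]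
    exact funext hc'

/-- Extensions. -/
theorem dc_ext (f : A) (M₁ : Submodule A M) (h1 : Function.Bijective (Tf M₁ f))
    (h3 : Function.Bijective (Tf (M ⧸ M₁) f)) : Function.Bijective (Tf M f) := by
  constructor
  · rw [Tf_injective_iff]
    intro x hx
    have hq : (fun i => M₁.mkQ (x i)) = 0 := by
      apply (Tf_injective_iff f).mp h3.1
      rw [Tf_map, hx]
      funext i
      simp
    have hmem : ∀ i, x i ∈ M₁ := by
      intro i
      have := congrFun hq i
      rwa [Pi.zero_apply, Submodule.mkQ_apply, Submodule.Quotient.mk_eq_zero] at this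
    have h0 : (fun i => (⟨x i, hmem i⟩ : M₁)) = 0 := by
      apply (Tf_injective_iff f).mp h1.1
      funext i
      apply Subtype.ext
      have := congrFun hx i
      simpa [Tf] using this
    funext i
    have := congrFun h0 i
    exact congrArg Subtype.val this
  · intro y
    obtain ⟨z, hz⟩ := h3.2 (fun i => M₁.mkQ (y i))
    choose z' hz' using fun i => Submodule.mkQ_surjective M₁ (z i)
    have hmem : ∀ i, y i - Tf M f z' i ∈ M₁ := by
      intro i
      rw [← Submodule.Quotient.mk_eq_zero, ← Submodule.mkQ_apply, map_sub]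
      have := congrFun (Tf_map f M₁.mkQ z') i
      rw [← this]
      have e : (fun i => M₁.mkQ (z' i)) = z := funext hz'
      rw [e, hz, sub_self]
    obtain ⟨w, hw⟩ := h1.2 (fun i => ⟨y i - Tf M f z' i, hmem i⟩)
    refine ⟨z' + fun i => (w i : M), ?_⟩
    rw [Tf_add]
    funext i
    have h4 : ((Tf M₁ f w i : M₁) : M) = y i - Tf M f z' i :=
      congrArg Subtype.val (congrFun hw i)
    have h5 : Tf M f (fun i => (w i : M)) i = y i - Tf M f z' i := by
      rw [← h4]
      simp [Tf]
    rw [Pi.add_apply, h5]
    abel

end Closure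

end Groth.Agent.Helper11.DC
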