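import Groth.Agent.Lib.Helper11.DCProj
import Groth.Agent.Lib.Helper11.DCSeq

/-!
Derived completeness of an object of `D(A)` in terms of its cohomology modules.
-/

open CategoryTheory Category Limits Pretriangulated DerivedCategory Polynomial

attribute [local instance] HasDerivedCategory.standard

universe u

namespace Groth.Agent.Helper11.DC

variable {A : Type u} [CommRing A]

section

variable (K : Dual.D A) (n : ℤ)

/-- `H⁰(K⟦n⟧) ≅ Hⁿ(K)`, with clean types. -/
noncomputable def sigma : (homologyFunctor (ModuleCat.{u} A) 0).obj (K⟦n⟧) ≅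
    (homologyFunctor (ModuleCat.{u} A) n).obj K :=
  ((homologyFunctor (ModuleCat.{u} A) 0).shiftIso n 0 n (by simp)).app K

/-- `H⁰(P[0]) ≅ P`, with clean types. -/
noncomputable def iota (P : ModuleCat.{u} A) :
    (homologyFunctor (ModuleCat.{u} A) 0).obj ((singleFunctor (ModuleCat.{u} A) 0).obj P) ≅ P :=
  (singleFunctorCompHomologyFunctorIso (ModuleCat.{u} A) 0).app P

theorem iota_naturality {P P' : ModuleCat.{u} A} (u : P ⟶ P') :
    (iota P).inv ≫ (homologyFunctor (ModuleCat.{u} A) 0).map
      ((singleFunctor (ModuleCat.{u} A) 0).map u) = u ≫ (iota P').inv :=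
  ((singleFunctorCompHomologyFunctorIso (ModuleCat.{u} A) 0).inv.naturality u).symm

/-- The comparison from maps `A[X][0] ⟶ K⟦n⟧` to linear maps `A[X] → Hⁿ(K)`. -/
noncomputable def Theta
    (g : (singleFunctor (ModuleCat.{u} A) 0).obj (ModuleCat.of A A[X]) ⟶ K⟦n⟧) :
    A[X] →ₗ[A] Dual.HD A K n :=
  ((iota (ModuleCat.of A A[X])).inv ≫ (homologyFunctor (ModuleCat.{u} A) 0).map g ≫
    (sigma K n).hom).hom

theorem theta_bijective : Function.Bijective (Theta K n) := by
  have h1 := psi_bijective (ModuleCat.of A A[X]) (K⟦n⟧)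
  constructor
  · intro g₁ g₂ h
    apply h1.1
    have h' := ModuleCat.hom_ext h
    simp only [Psi]
    rw [cancel_epi] at h'
    exact (cancel_mono (sigma K n).hom).mp h'
  · intro φ
    obtain ⟨g, hg⟩ := h1.2
      ((iota (ModuleCat.of A A[X])).hom ≫ ModuleCat.ofHom φ ≫ (sigma K n).inv)
    refine ⟨g, ?_⟩
    simp only [Psi] at hg
    simp only [Theta]
    rw [hg]
    simp

theorem theta_comp (f : A)
    (g : (singleFunctor (ModuleCat.{u} A) 0).obj (ModuleCat.of A A[X]) ⟶ K⟦n⟧) :
    Theta K n ((singleFunctor (ModuleCat.{u} A) 0).map (ModuleCat.ofHom (uLin f)) ≫ g) =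
      Theta K n g ∘ₗ uLin f := by
  simp only [Theta]
  rw [Functor.map_comp, assoc, ← assoc (iota (ModuleCat.of A A[X])).inv, iota_naturality]
  simp only [assoc, ModuleCat.hom_comp, ModuleCat.hom_ofHom]

end

variable (f : A) (K : Dual.D A)

theorem away_hom_vanish_iff_all :
    (∀ n : ℤ, Subsingleton (Dual.inD A (Localization.Away f) ⟶ K⟦n⟧)) ↔
      ∀ n : ℤ, Function.Bijective (Tf (Dual.HD A K n) f) := by
  have hS := SC_shortExact f
  have hb := bridge_all hS.singleTriangle hS.singleTriangle_distinguished K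
  have e1 : (∀ n : ℤ, Subsingleton (Dual.inD A (Localization.Away f) ⟶ K⟦n⟧)) ↔
      (∀ n : ℤ, ∀ g : hS.singleTriangle.obj₃ ⟶ K⟦n⟧, g = 0) := by
    constructor
    · intro h n g
      exact (h n).elim g 0
    · intro h n
      exact ⟨fun a b => by rw [h n a, h n b]⟩
  rw [e1, hb]
  refine forall_congr' fun n => ?_
  rw [← bijective_comp_uLin_iff]
  have hcomm : (Theta K n) ∘
      (fun g : hS.singleTriangle.obj₂ ⟶ K⟦n⟧ => hS.singleTriangle.mor₁ ≫ g) =
      (fun φ : A[X] →ₗ[A] Dual.HD A K n => φ ∘ₗ uLin f) ∘ (Theta K n) := by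
    funext g
    exact theta_comp K n f g
  have hθ := theta_bijective K n
  constructor
  · intro h
    have h1 : Function.Bijective
        ((fun φ : A[X] →ₗ[A] Dual.HD A K n => φ ∘ₗ uLin f) ∘ (Theta K n)) := by
      rw [← hcomm]
      exact hθ.comp h
    exact (Function.Bijective.of_comp_iff _ hθ).mp h1
  · intro h
    have h1 : Function.Bijective ((Theta K n) ∘
        (fun g : hS.singleTriangle.obj₂ ⟶ K⟦n⟧ => hS.singleTriangle.mor₁ ≫ g)) := by
      rw [hcomm]
      exact h.comp hθ
    exact (Function.Bijective.of_comp_iff' hθ _).mp h1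

/-- Derived completeness in terms of the cohomology modules. -/
theorem isDerivedComplete_iff_homology (I : Ideal A) :
    DRing.IsDerivedComplete I K ↔
      ∀ i : ℤ, ∀ f ∈ I, Function.Bijective (Tf (Dual.HD A K i) f) := by
  constructor
  · intro h i f hf
    exact (away_hom_vanish_iff_all f K).mp (h f hf) i
  · intro h f hf
    exact (away_hom_vanish_iff_all f K).mpr (fun i => h i f hf)

end Groth.Agent.Helper11.DC
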