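import Groth.Agent.Lib.Helper11.DCP7
import Mathlib.Algebra.Homology.DerivedCategory.HomologySequence

/-!
# Derived completion and cones: preservation of cohomological connectivity (helper11)
-/

set_option autoImplicit false

open CategoryTheory CategoryTheory.Limits Pretriangulated DerivedCategory

universe u v w

attribute [local instance] HasDerivedCategory.standard

namespace Groth.Agent.Helper11.DCP

section Generic

variable {A : Type u} [CommRing A] {C : Type v} [Category.{w} C] [Preadditive C] [Linear A C]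
  [HasShift C ℤ] [HasZeroObject C] [∀ n : ℤ, (shiftFunctor C n).Additive]
  [∀ n : ℤ, (shiftFunctor C n).Linear A] [Pretriangulated C]

theorem rOrth_obj₃ (T : Triangle C) (hT : T ∈ distTriang C) (f : A) (h1 : ROrth f T.obj₁)
    (h2 : ROrth f T.obj₂) : ROrth f T.obj₃ := fun X hX =>
  subsingleton_obj₃ T hT X (h2 X hX)
    (subsingleton_shift_of_neg X T.obj₁ 1 (h1 _ (hX.shift (-1))))

omit [Preadditive C] [Linear A C] [HasZeroObject C] [∀ n : ℤ, (shiftFunctor C n).Additive]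
  [∀ n : ℤ, (shiftFunctor C n).Linear A] [Pretriangulated C] in
theorem bijective_comp_shift_one {X X' E : C} (η : X ⟶ X')
    (h : Function.Bijective (fun φ : X' ⟶ E⟦(-1 : ℤ)⟧ => η ≫ φ)) :
    Function.Bijective (fun φ : X'⟦(1 : ℤ)⟧ ⟶ E => η⟦(1 : ℤ)⟧' ≫ φ) := by
  let adj := (shiftEquiv' C (1 : ℤ) (-1) (add_neg_cancel 1)).toAdjunction
  have hc : (adj.homEquiv X E) ∘ (fun φ : X'⟦(1 : ℤ)⟧ ⟶ E => η⟦(1 : ℤ)⟧' ≫ φ) =
      (fun φ : X' ⟶ E⟦(-1 : ℤ)⟧ => η ≫ φ) ∘ (adj.homEquiv X' E) :=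
    funext (fun g => adj.homEquiv_naturality_left η g)
  have h1 : Function.Bijective
      ((fun φ : X' ⟶ E⟦(-1 : ℤ)⟧ => η ≫ φ) ∘ (adj.homEquiv X' E)) :=
    h.comp (adj.homEquiv X' E).bijective
  rw [← hc] at h1
  exact (Function.Bijective.of_comp_iff' (adj.homEquiv X E).bijective _).mp h1

omit [Linear A C] [∀ n : ℤ, (shiftFunctor C n).Linear A] in
/-- five lemma for `Hom(-, E)` and a morphism of distinguished triangles -/
theorem bijective_comp_obj₃ (T₁ T₂ : Triangle C) (hT₁ : T₁ ∈ distTriang C)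
    (hT₂ : T₂ ∈ distTriang C) (a : T₁.obj₁ ⟶ T₂.obj₁) (b : T₁.obj₂ ⟶ T₂.obj₂)
    (c : T₁.obj₃ ⟶ T₂.obj₃) (comm₁ : T₁.mor₁ ≫ b = a ≫ T₂.mor₁)
    (comm₂ : T₁.mor₂ ≫ c = b ≫ T₂.mor₂) (comm₃ : T₁.mor₃ ≫ a⟦(1 : ℤ)⟧' = c ≫ T₂.mor₃) (E : C)
    (Ha : Function.Bijective (fun ψ : T₂.obj₁ ⟶ E => a ≫ ψ))
    (Hb : Function.Bijective (fun ψ : T₂.obj₂ ⟶ E => b ≫ ψ))
    (Ha1 : Function.Bijective (fun ψ : T₂.obj₁⟦(1 : ℤ)⟧ ⟶ E => a⟦(1 : ℤ)⟧' ≫ ψ))
    (Hb1 : Function.Bijective (fun ψ : T₂.obj₂⟦(1 : ℤ)⟧ ⟶ E => b⟦(1 : ℤ)⟧' ≫ ψ)) :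
    Function.Bijective (fun ψ : T₂.obj₃ ⟶ E => c ≫ ψ) := by
  have hker : ∀ ψ' : T₂.obj₃ ⟶ E, c ≫ ψ' = 0 → ψ' = 0 := by
    intro ψ' hψ'
    have h1 : T₂.mor₂ ≫ ψ' = 0 := by
      apply Hb.1
      show b ≫ T₂.mor₂ ≫ ψ' = b ≫ 0
      rw [← Category.assoc, ← comm₂, Category.assoc, hψ', comp_zero, comp_zero]
    obtain ⟨χ', hχ'⟩ := Triangle.yoneda_exact₃ T₂ hT₂ ψ' h1
    have h2 : T₁.mor₃ ≫ a⟦(1 : ℤ)⟧' ≫ χ' = 0 := by
      rw [← Category.assoc, comm₃, Category.assoc, ← hχ', hψ']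
    obtain ⟨ω, hω⟩ := Triangle.yoneda_exact₃ T₁.rotate (rot_of_distTriang _ hT₁)
      (a⟦(1 : ℤ)⟧' ≫ χ') h2
    have hω' : a⟦(1 : ℤ)⟧' ≫ χ' = (-T₁.mor₁⟦(1 : ℤ)⟧') ≫ ω := hω
    obtain ⟨ω', hω2⟩ := Hb1.2 ω
    have hω2' : b⟦(1 : ℤ)⟧' ≫ ω' = ω := hω2
    have h3 : χ' = -(T₂.mor₁⟦(1 : ℤ)⟧' ≫ ω') := by
      apply Ha1.1
      show a⟦(1 : ℤ)⟧' ≫ χ' = a⟦(1 : ℤ)⟧' ≫ (-(T₂.mor₁⟦(1 : ℤ)⟧' ≫ ω'))
      rw [hω', ← hω2', Preadditive.comp_neg, Preadditive.neg_comp, ← Category.assoc,
        ← Category.assoc, ← Functor.map_comp, ← Functor.map_comp, comm₁]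
    rw [hχ', h3, Preadditive.comp_neg, ← Category.assoc,
      comp_distTriang_mor_zero₃₁ _ hT₂, zero_comp, neg_zero]
  constructor
  · intro ψ₁ ψ₂ h12
    have h12' : c ≫ ψ₁ = c ≫ ψ₂ := h12
    have : ψ₁ - ψ₂ = 0 := hker _ (by rw [Preadditive.comp_sub, h12', sub_self])
    exact sub_eq_zero.mp this
  · intro ψ
    obtain ⟨ψL, hψL⟩ := Hb.2 (T₁.mor₂ ≫ ψ)
    have hψL' : b ≫ ψL = T₁.mor₂ ≫ ψ := hψL
    have h1 : T₂.mor₁ ≫ ψL = 0 := by
      apply Ha.1
      show a ≫ T₂.mor₁ ≫ ψL = a ≫ 0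
      rw [← Category.assoc, ← comm₁, Category.assoc, hψL', ← Category.assoc,
        comp_distTriang_mor_zero₁₂ _ hT₁, zero_comp, comp_zero]
    obtain ⟨ψ', hψ'⟩ := Triangle.yoneda_exact₂ T₂ hT₂ ψL h1
    have h2 : T₁.mor₂ ≫ (ψ - c ≫ ψ') = 0 := by
      rw [Preadditive.comp_sub, ← Category.assoc, comm₂, Category.assoc, ← hψ', hψL', sub_self]
    obtain ⟨χ, hχ⟩ := Triangle.yoneda_exact₃ T₁ hT₁ _ h2
    obtain ⟨χ', hχ2⟩ := Ha1.2 χ
    have hχ2' : a⟦(1 : ℤ)⟧' ≫ χ' = χ := hχ2
    refine ⟨ψ' + T₂.mor₃ ≫ χ', ?_⟩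
    show c ≫ (ψ' + T₂.mor₃ ≫ χ') = ψ
    rw [Preadditive.comp_add, ← Category.assoc c, ← comm₃, Category.assoc, hχ2', ← hχ]
    abel

end Generic

variable {A : Type u} [CommRing A]

theorem isDerivedComplete_shift (I : Ideal A) (E : Dual.D A) (hE : DRing.IsDerivedComplete I E)
    (m : ℤ) : DRing.IsDerivedComplete I (E⟦m⟧) :=
  fun f hf n => subsingleton_shift_add _ E m n (m + n) rfl (hE f hf (m + n))

theorem bijective_unit_comp (I : Ideal A) [DRing.HasDerivedCompletion I] (K E : Dual.D A)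
    (hE : DRing.IsDerivedComplete I E) :
    Function.Bijective (fun ψ : ((DRing.derivedCompletion I).obj K).obj ⟶ E =>
      DRing.toDerivedCompletion I K ≫ ψ) := by
  let adj := DRing.derivedCompletionAdj I
  let LK := (DRing.derivedCompletion I).obj K
  let E' : DRing.DComp I := ⟨E, hE⟩
  constructor
  · intro g₁ g₂ h
    have h' : (adj.homEquiv K E') (ObjectProperty.homMk g₁) =
        (adj.homEquiv K E') (ObjectProperty.homMk g₂) := by
      rw [Adjunction.homEquiv_unit, Adjunction.homEquiv_unit]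
      exact h
    have := (adj.homEquiv K E').injective h'
    exact congrArg (fun g => g.hom) this
  · intro h'
    refine ⟨((adj.homEquiv K E').symm h').hom, ?_⟩
    have := (adj.homEquiv K E').apply_symm_apply h'
    rw [Adjunction.homEquiv_unit] at this
    exact this

/-- the cone of the completed map has vanishing cohomology where the cone of the map does,
shifted down by the number of generators -/
theorem exists_cone_completion (l : List A) (I : Ideal A)
    (hI : Ideal.span {x : A | x ∈ l} = I) [DRing.HasDerivedCompletion I] {K L : Dual.D A}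
    (φ : K ⟶ L) :
    ∃ (C' : Dual.D A) (p' : ((DRing.derivedCompletion I).obj L).obj ⟶ C')
      (d' : C' ⟶ (((DRing.derivedCompletion I).obj K).obj)⟦(1 : ℤ)⟧),
      Triangle.mk ((DRing.derivedCompletion I).map φ).hom p' d' ∈ distTriang (Dual.D A) ∧
      ∀ i : ℤ, (∀ j : ℕ, j ≤ l.length →
          Epi ((homologyFunctor (ModuleCat.{u} A) (i + j)).map φ) ∧
          Mono ((homologyFunctor (ModuleCat.{u} A) (i + j + 1)).map φ)) →
        Subsingleton (Dual.HD A C' i) := by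
  obtain ⟨C, p, d, hT₁⟩ := distinguished_cocone_triangle φ
  obtain ⟨C', p', d', hT₂⟩ := distinguished_cocone_triangle ((DRing.derivedCompletion I).map φ).hom
  have nat : φ ≫ DRing.toDerivedCompletion I L =
      DRing.toDerivedCompletion I K ≫ ((DRing.derivedCompletion I).map φ).hom :=
    (DRing.derivedCompletionAdj I).unit.naturality φ
  obtain ⟨γ, hγ₂, hγ₃⟩ := complete_distinguished_triangle_morphism _ _ hT₁ hT₂
    (DRing.toDerivedCompletion I K) (DRing.toDerivedCompletion I L) nat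
  have hC' : DRing.IsDerivedComplete I C' := by
    rw [isDerivedComplete_iff_list l I hI]
    intro f hf
    exact rOrth_obj₃ _ hT₂ f
      ((isDerivedComplete_iff_list l I hI _).mp ((DRing.derivedCompletion I).obj K).property f hf)
      ((isDerivedComplete_iff_list l I hI _).mp ((DRing.derivedCompletion I).obj L).property f hf)
  have hu : ∀ E : Dual.D A, DRing.IsDerivedComplete I E →
      Function.Bijective (fun ψ : C' ⟶ E => γ ≫ ψ) := by
    intro E hE
    exact bijective_comp_obj₃ _ _ hT₁ hT₂ (DRing.toDerivedCompletion I K)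
      (DRing.toDerivedCompletion I L) γ nat hγ₂ hγ₃ E
      (bijective_unit_comp I K E hE) (bijective_unit_comp I L E hE)
      (bijective_comp_shift_one _ (bijective_unit_comp I K _ (isDerivedComplete_shift I E hE (-1))))
      (bijective_comp_shift_one _ (bijective_unit_comp I L _ (isDerivedComplete_shift I E hE (-1))))
  obtain ⟨e, _⟩ := exists_iso_completion I C C' γ hC' hu
  refine ⟨C', p', d', hT₂, fun i h => ?_⟩
  have hC : ∀ j : ℕ, j ≤ l.length → Subsingleton (Dual.HD A C (i + j)) := by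
    intro j hj
    obtain ⟨hepi, hmono⟩ := h j hj
    have hp := (HomologySequence.epi_homologyMap_mor₁_iff _ hT₁ (i + j)).mp hepi
    have hδ := (HomologySequence.mono_homologyMap_mor₁_iff _ hT₁ (i + j) (i + j + 1) rfl).mp hmono
    have hex := HomologySequence.exact₃ _ hT₁ (i + j) (i + j + 1) rfl
    exact ModuleCat.subsingleton_of_isZero (hex.isZero_of_both_zeros hp hδ)
  have h1 := subsingleton_HD_completion_of_list l I hI C i hC
  exact (((homologyFunctor (ModuleCat.{u} A) i).mapIso e).toLinearEquiv.toEquiv.subsingleton_congr).mp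
    h1

theorem epi_completion_map (l : List A) (I : Ideal A)
    (hI : Ideal.span {x : A | x ∈ l} = I) [DRing.HasDerivedCompletion I] {K L : Dual.D A}
    (φ : K ⟶ L) (i : ℤ)
    (h : ∀ j : ℕ, j ≤ l.length → Epi ((homologyFunctor (ModuleCat.{u} A) (i + j)).map φ) ∧
      Mono ((homologyFunctor (ModuleCat.{u} A) (i + j + 1)).map φ)) :
    Epi ((homologyFunctor (ModuleCat.{u} A) i).map ((DRing.derivedCompletion I).map φ).hom) := by
  obtain ⟨C', p', d', hT₂, hb⟩ := exists_cone_completion l I hI φ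
  have hz : IsZero ((homologyFunctor (ModuleCat.{u} A) i).obj C') := by
    haveI := hb i h
    exact ModuleCat.isZero_of_subsingleton _
  exact (HomologySequence.epi_homologyMap_mor₁_iff _ hT₂ i).mpr (hz.eq_of_tgt _ _)

theorem mono_completion_map (l : List A) (I : Ideal A)
    (hI : Ideal.span {x : A | x ∈ l} = I) [DRing.HasDerivedCompletion I] {K L : Dual.D A}
    (φ : K ⟶ L) (i : ℤ)
    (h : ∀ j : ℕ, j ≤ l.length → Epi ((homologyFunctor (ModuleCat.{u} A) (i - 1 + j)).map φ) ∧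
      Mono ((homologyFunctor (ModuleCat.{u} A) (i - 1 + j + 1)).map φ)) :
    Mono ((homologyFunctor (ModuleCat.{u} A) i).map ((DRing.derivedCompletion I).map φ).hom) := by
  obtain ⟨C', p', d', hT₂, hb⟩ := exists_cone_completion l I hI φ
  have hz : IsZero ((homologyFunctor (ModuleCat.{u} A) (i - 1)).obj C') := by
    haveI := hb (i - 1) h
    exact ModuleCat.isZero_of_subsingleton _
  exact (HomologySequence.mono_homologyMap_mor₁_iff _ hT₂ (i - 1) i (by omega)).mpr
    (hz.eq_of_src _ _)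

/-- statement S7091 -/
theorem S7091_statement (I : Ideal A) (hI : I.FG) [DRing.HasDerivedCompletion I]
    {K L : Dual.D A} (φ : K ⟶ L)
    (hiso : ∀ i : ℤ, 1 ≤ i → IsIso ((DerivedCategory.homologyFunctor (ModuleCat.{u} A) i).map φ))
    (hepi : Epi ((DerivedCategory.homologyFunctor (ModuleCat.{u} A) 0).map φ)) :
    (∀ i : ℤ, 1 ≤ i → IsIso ((DerivedCategory.homologyFunctor (ModuleCat.{u} A) i).map
        ((DRing.derivedCompletion I).map φ).hom)) ∧
      Epi ((DerivedCategory.homologyFunctor (ModuleCat.{u} A) 0).map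
        ((DRing.derivedCompletion I).map φ).hom) := by
  obtain ⟨s, hs⟩ := hI
  have hl : Ideal.span {x : A | x ∈ s.toList} = I := by
    rw [← hs]
    congr 1
    ext x
    simp
  have hE : ∀ i : ℤ, 0 ≤ i → Epi ((homologyFunctor (ModuleCat.{u} A) i).map φ) := by
    intro i hi
    rcases hi.eq_or_lt with rfl | h
    · exact hepi
    · haveI := hiso i (by omega)
      infer_instance
  have hM : ∀ i : ℤ, 1 ≤ i → Mono ((homologyFunctor (ModuleCat.{u} A) i).map φ) := by
    intro i hi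
    haveI := hiso i hi
    infer_instance
  have hepi' : ∀ i : ℤ, 0 ≤ i → Epi ((homologyFunctor (ModuleCat.{u} A) i).map
      ((DRing.derivedCompletion I).map φ).hom) := fun i hi =>
    epi_completion_map s.toList I hl φ i
      (fun j _ => ⟨hE (i + j) (by omega), hM (i + j + 1) (by omega)⟩)
  have hmono' : ∀ i : ℤ, 1 ≤ i → Mono ((homologyFunctor (ModuleCat.{u} A) i).map
      ((DRing.derivedCompletion I).map φ).hom) := fun i hi =>
    mono_completion_map s.toList I hl φ i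
      (fun j _ => ⟨hE (i - 1 + j) (by omega), hM (i - 1 + j + 1) (by omega)⟩)
  refine ⟨fun i hi => ?_, hepi' 0 le_rfl⟩
  haveI := hepi' i (by omega)
  haveI := hmono' i hi
  exact isIso_of_mono_of_epi _

/-- statement S7092 -/
theorem S7092_statement (I : Ideal A) (s : Finset A)
    (hs : Ideal.span (s : Set A) = I) [DRing.HasDerivedCompletion I] {K L : Dual.D A} (φ : K ⟶ L)
    (hiso : ∀ i : ℤ, i ≤ -1 → IsIso ((DerivedCategory.homologyFunctor (ModuleCat.{u} A) i).map φ))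
    (hmono : Mono ((DerivedCategory.homologyFunctor (ModuleCat.{u} A) 0).map φ)) :
    (∀ i : ℤ, i ≤ -(s.card : ℤ) - 1 →
        IsIso ((DerivedCategory.homologyFunctor (ModuleCat.{u} A) i).map
        ((DRing.derivedCompletion I).map φ).hom)) ∧
      Mono ((DerivedCategory.homologyFunctor (ModuleCat.{u} A) (-(s.card : ℤ))).map
        ((DRing.derivedCompletion I).map φ).hom) := by
  have hl : Ideal.span {x : A | x ∈ s.toList} = I := by
    rw [← hs]
    congr 1
    ext x
    simp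
  have hlen : s.toList.length = s.card := Finset.length_toList s
  have hE : ∀ i : ℤ, i ≤ -1 → Epi ((homologyFunctor (ModuleCat.{u} A) i).map φ) := by
    intro i hi
    haveI := hiso i hi
    infer_instance
  have hM : ∀ i : ℤ, i ≤ 0 → Mono ((homologyFunctor (ModuleCat.{u} A) i).map φ) := by
    intro i hi
    rcases hi.eq_or_lt with rfl | h
    · exact hmono
    · haveI := hiso i (by omega)
      infer_instance
  have hepi' : ∀ i : ℤ, i + (s.card : ℤ) ≤ -1 → Epi ((homologyFunctor (ModuleCat.{u} A) i).map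
      ((DRing.derivedCompletion I).map φ).hom) := fun i hi =>
    epi_completion_map s.toList I hl φ i
      (fun j hj => ⟨hE (i + j) (by omega), hM (i + j + 1) (by omega)⟩)
  have hmono' : ∀ i : ℤ, i - 1 + (s.card : ℤ) ≤ -1 →
      Mono ((homologyFunctor (ModuleCat.{u} A) i).map
        ((DRing.derivedCompletion I).map φ).hom) := fun i hi =>
    mono_completion_map s.toList I hl φ i
      (fun j hj => ⟨hE (i - 1 + j) (by omega), hM (i - 1 + j + 1) (by omega)⟩)
  refine ⟨fun i hi => ?_, hmono' _ (by omega)⟩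
  haveI := hepi' i (by omega)
  haveI := hmono' i (by omega)
  exact isIso_of_mono_of_epi _

end Groth.Agent.Helper11.DCP
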