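import Groth.Prelude.Def_DRing2
import Mathlib.Algebra.Homology.DerivedCategory.ShortExact
import Mathlib.Algebra.Homology.DerivedCategory.TStructure
import Mathlib.Algebra.Homology.DerivedCategory.HomologySequence
import Mathlib.Algebra.Homology.HomologicalComplexLimits

/-!
Induction principles for properties of objects of `D(R)` stable under isomorphisms, shifts and
extensions: bounded complexes (via stupid truncations), and bounded cohomology (via canonical
truncations).
-/

open CategoryTheory Category Limits Pretriangulated DerivedCategory ZeroObject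

attribute [local instance] HasDerivedCategory.standard

universe u

namespace Groth.Agent.Helper11.DC

variable {R : Type u} [CommRing R]

section Stupid

variable (K : DRing.Cx R) (b : ℤ) (hb : ∀ i : ℤ, b < i → IsZero (K.X i))

/-- The inclusion of the top term. -/
noncomputable def topIncl : (HomologicalComplex.single (ModuleCat.{u} R) (ComplexShape.up ℤ) b).obj
    (K.X b) ⟶ K :=
  HomologicalComplex.mkHomFromSingle (𝟙 _) (fun k _ => (hb k (by
    have : b + 1 = k := by simpa using ‹(ComplexShape.up ℤ).Rel b k›
    omega)).eq_of_tgt _ _)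

instance : Mono (topIncl K b hb) := by
  apply (config := { allowSynthFailures := true }) HomologicalComplex.mono_of_mono_f
  intro i
  by_cases hi : i = b
  · subst hi
    rw [topIncl, HomologicalComplex.mkHomFromSingle_f]
    infer_instance
  · have hz : IsZero (((HomologicalComplex.single (ModuleCat.{u} R) (ComplexShape.up ℤ) b).obj
        (K.X b)).X i) := HomologicalComplex.isZero_single_obj_X _ _ _ _ hi
    exact ⟨fun g h _ => hz.eq_of_tgt _ _⟩

/-- The short complex `K^b[-b] → K → σ_{<b} K`. -/
noncomputable def topSC : ShortComplex (DRing.Cx R) :=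
  ShortComplex.mk (topIncl K b hb) (cokernel.π (topIncl K b hb)) (cokernel.condition _)

theorem topSC_shortExact : (topSC K b hb).ShortExact :=
  { exact := ShortComplex.exact_cokernel _
    mono_f := by dsimp [topSC]; infer_instance
    epi_g := by dsimp [topSC]; infer_instance }

theorem topSC_eval_shortExact (i : ℤ) :
    ((topSC K b hb).map (HomologicalComplex.eval _ _ i)).ShortExact :=
  (topSC_shortExact K b hb).map_of_exact _

theorem topSC_X₃_isZero : IsZero ((topSC K b hb).X₃.X b) := by
  have h := (topSC_eval_shortExact K b hb b).isIso_f_iff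
  refine h.mp ?_
  change IsIso ((topIncl K b hb).f b)
  rw [topIncl, HomologicalComplex.mkHomFromSingle_f]
  infer_instance

theorem topSC_g_isIso (i : ℤ) (hi : i ≠ b) : IsIso ((topSC K b hb).g.f i) := by
  have hz : IsZero (((HomologicalComplex.single (ModuleCat.{u} R) (ComplexShape.up ℤ) b).obj
      (K.X b)).X i) := HomologicalComplex.isZero_single_obj_X _ _ _ _ hi
  exact (topSC_eval_shortExact K b hb i).isIso_g_iff.mpr hz

end Stupid

/-- Closure properties of a class of objects of `D(R)`. -/
structure ThickLike (P : Dual.D R → Prop) : Prop where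
  iso : ∀ {K L : Dual.D R}, (K ≅ L) → P K → P L
  shift : ∀ (K : Dual.D R) (n : ℤ), P K → P (K⟦n⟧)
  ext : ∀ T : Triangle (Dual.D R), T ∈ distTriang (Dual.D R) → P T.obj₁ → P T.obj₃ → P T.obj₂
  zero : ∀ K : Dual.D R, IsZero K → P K

namespace ThickLike

variable {P : Dual.D R → Prop} (hP : ThickLike P)

include hP

theorem single (N : ModuleCat.{u} R) (b : ℤ)
    (h : P ((singleFunctor (ModuleCat.{u} R) 0).obj N)) :
    P ((singleFunctor (ModuleCat.{u} R) b).obj N) :=
  hP.iso (((singleFunctors (ModuleCat.{u} R)).shiftIso (-b) b 0 (by omega)).app N)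
    (hP.shift _ (-b) h)

theorem of_bounded_aux (n : ℕ) : ∀ (K : DRing.Cx R) (a b : ℤ), b < a + n →
    DRing.VanishesOutside K a b →
    (∀ i : ℤ, P ((singleFunctor (ModuleCat.{u} R) 0).obj (K.X i))) → P (Q.obj K) := by
  induction n with
  | zero =>
    intro K a b hab hK _
    refine hP.zero _ (Q.map_isZero ?_)
    rw [IsZero.iff_id_eq_zero]
    apply HomologicalComplex.hom_ext
    intro i
    refine (hK i ?_).eq_of_src _ _
    rcases lt_or_ge i a with h | h
    · left; exact h
    · right; omega
  | succ n ih =>
    intro K a b hab hK hPK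
    have hb' : ∀ i : ℤ, b < i → IsZero (K.X i) := fun i hi => hK i (Or.inr hi)
    have hS := topSC_shortExact K b hb'
    have h3 : P (Q.obj (topSC K b hb').X₃) := by
      refine ih _ a (b - 1) (by omega) ?_ ?_
      · intro i hi
        by_cases hib : i = b
        · subst hib
          exact topSC_X₃_isZero K i hb'
        · have := topSC_g_isIso K b hb' i hib
          refine (hK i ?_).of_iso (asIso ((topSC K b hb').g.f i)).symm
          rcases hi with hi | hi
          · left; exact hi
          · right; omega
      · intro i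
        by_cases hib : i = b
        · subst hib
          exact hP.zero _ ((singleFunctor (ModuleCat.{u} R) 0).map_isZero
            (topSC_X₃_isZero K i hb'))
        · have := topSC_g_isIso K b hb' i hib
          exact hP.iso ((singleFunctor (ModuleCat.{u} R) 0).mapIso
            (asIso ((topSC K b hb').g.f i))) (hPK i)
    have h1 : P (Q.obj (topSC K b hb').X₁) := hP.single (K.X b) b (hPK b)
    exact hP.ext _ (triangleOfSES_distinguished hS) h1 h3

/-- Bounded complexes whose terms are in `P` are in `P`. -/
theorem of_bounded (K : DRing.Cx R) (a b : ℤ) (hK : DRing.VanishesOutside K a b)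
    (hPK : ∀ i : ℤ, P ((singleFunctor (ModuleCat.{u} R) 0).obj (K.X i))) : P (Q.obj K) :=
  hP.of_bounded_aux (b - a + 1).toNat K a b (by omega) hK hPK

theorem of_single_degree (K : Dual.D R) (a : ℤ)
    (hK : ∀ i : ℤ, i ≠ a → IsZero ((homologyFunctor (ModuleCat.{u} R) i).obj K))
    (hPK : P ((singleFunctor (ModuleCat.{u} R) 0).obj
      ((homologyFunctor (ModuleCat.{u} R) a).obj K))) : P K := by
  have h1 : K.IsLE a := by
    rw [isLE_iff]
    intro i hi
    exact hK i (by omega)
  have h2 : K.IsGE a := by
    rw [isGE_iff]
    intro i hi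
    exact hK i (by omega)
  obtain ⟨N, ⟨e⟩⟩ := exists_iso_singleFunctor_obj_of_isGE_of_isLE K a
  have eN : (homologyFunctor (ModuleCat.{u} R) a).obj K ≅ N :=
    (homologyFunctor (ModuleCat.{u} R) a).mapIso e ≪≫
      (singleFunctorCompHomologyFunctorIso (ModuleCat.{u} R) a).app N
  have hN : P ((singleFunctor (ModuleCat.{u} R) 0).obj N) :=
    hP.iso ((singleFunctor (ModuleCat.{u} R) 0).mapIso eN) hPK
  exact hP.iso e.symm (hP.single N a hN)

theorem of_homology_aux (n : ℕ) : ∀ (K : Dual.D R) (a b : ℤ), b ≤ a + n →
    (∀ i : ℤ, (i < a ∨ b < i) → IsZero ((homologyFunctor (ModuleCat.{u} R) i).obj K)) →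
    (∀ i : ℤ, P ((singleFunctor (ModuleCat.{u} R) 0).obj
      ((homologyFunctor (ModuleCat.{u} R) i).obj K))) → P K := by
  induction n with
  | zero =>
    intro K a b hab hK hPK
    refine hP.of_single_degree K a (fun i hi => hK i ?_) (hPK a)
    rcases lt_or_gt_of_ne hi with hi | hi
    · left; exact hi
    · right; omega
  | succ n ih =>
    intro K a b hab hK hPK
    obtain ⟨X, Y, hX, hY, f, g, h, hT⟩ := TStructure.t.exists_triangle K (b - 1) b (by omega)
    have : X.IsLE (b - 1) := ⟨hX⟩
    have : Y.IsGE b := ⟨hY⟩
    have hXiso : ∀ i : ℤ, i ≤ b - 1 → IsIso ((homologyFunctor (ModuleCat.{u} R) i).map f) := by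
      intro i hi
      have hY1 : IsZero ((homologyFunctor (ModuleCat.{u} R) (i - 1)).obj Y) :=
        Y.isZero_of_isGE b (i - 1) (by omega)
      have hY2 : IsZero ((homologyFunctor (ModuleCat.{u} R) i).obj Y) :=
        Y.isZero_of_isGE b i (by omega)
      have : Mono ((homologyFunctor (ModuleCat.{u} R) i).map f) :=
        (HomologySequence.mono_homologyMap_mor₁_iff (Triangle.mk f g h) hT (i - 1) i
          (by omega)).mpr (hY1.eq_of_src _ _)
      have : Epi ((homologyFunctor (ModuleCat.{u} R) i).map f) :=
        (HomologySequence.epi_homologyMap_mor₁_iff (Triangle.mk f g h) hT i).mpr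
          (hY2.eq_of_tgt _ _)
      exact isIso_of_mono_of_epi _
    have hYiso : ∀ i : ℤ, b ≤ i → IsIso ((homologyFunctor (ModuleCat.{u} R) i).map g) := by
      intro i hi
      have hX1 : IsZero ((homologyFunctor (ModuleCat.{u} R) i).obj X) :=
        X.isZero_of_isLE (b - 1) i (by omega)
      have hX2 : IsZero ((homologyFunctor (ModuleCat.{u} R) (i + 1)).obj X) :=
        X.isZero_of_isLE (b - 1) (i + 1) (by omega)
      have : Mono ((homologyFunctor (ModuleCat.{u} R) i).map g) :=
        (HomologySequence.mono_homologyMap_mor₂_iff (Triangle.mk f g h) hT i).mpr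
          (hX1.eq_of_src _ _)
      have : Epi ((homologyFunctor (ModuleCat.{u} R) i).map g) :=
        (HomologySequence.epi_homologyMap_mor₂_iff (Triangle.mk f g h) hT i (i + 1) rfl).mpr
          (hX2.eq_of_tgt _ _)
      exact isIso_of_mono_of_epi _
    have hXP : P X := by
      refine ih X a (b - 1) (by omega) ?_ ?_
      · intro i hi
        by_cases hib : i ≤ b - 1
        · rcases hi with hi | hi
          · have := hXiso i hib
            exact (hK i (Or.inl hi)).of_iso (asIso ((homologyFunctor (ModuleCat.{u} R) i).map f))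
          · exact X.isZero_of_isLE (b - 1) i hi
        · exact X.isZero_of_isLE (b - 1) i (by omega)
      · intro i
        by_cases hi : i ≤ b - 1
        · have := hXiso i hi
          exact hP.iso ((singleFunctor (ModuleCat.{u} R) 0).mapIso
            (asIso ((homologyFunctor (ModuleCat.{u} R) i).map f)).symm) (hPK i)
        · exact hP.zero _ ((singleFunctor (ModuleCat.{u} R) 0).map_isZero
            (X.isZero_of_isLE (b - 1) i (by omega)))
    have hYP : P Y := by
      refine hP.of_single_degree Y b ?_ ?_
      · intro i hi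
        rcases lt_or_gt_of_ne hi with hi | hi
        · exact Y.isZero_of_isGE b i hi
        · have := hYiso i (by omega)
          exact (hK i (Or.inr hi)).of_iso
            (asIso ((homologyFunctor (ModuleCat.{u} R) i).map g)).symm
      · have := hYiso b le_rfl
        exact hP.iso ((singleFunctor (ModuleCat.{u} R) 0).mapIso
          (asIso ((homologyFunctor (ModuleCat.{u} R) b).map g))) (hPK b)
    exact hP.ext (Triangle.mk f g h) hT hXP hYP

/-- Objects with bounded cohomology all of whose cohomology modules are in `P` are in `P`. -/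
theorem of_homology (K : Dual.D R) (a b : ℤ)
    (hK : ∀ i : ℤ, (i < a ∨ b < i) → IsZero ((homologyFunctor (ModuleCat.{u} R) i).obj K))
    (hPK : ∀ i : ℤ, P ((singleFunctor (ModuleCat.{u} R) 0).obj
      ((homologyFunctor (ModuleCat.{u} R) i).obj K))) : P K :=
  hP.of_homology_aux (b - a).toNat K a b (by omega) hK hPK

end ThickLike

end Groth.Agent.Helper11.DC
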