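import Groth.Agent.Lib.Helper11.TorAmp2
import Groth.Agent.Lib.Helper11.DCCone2
import Groth.Agent.Lib.Helper11.DCStupid
import Mathlib.Algebra.Category.ModuleCat.Projective
import Mathlib.CategoryTheory.Abelian.Projective.Extend
import Mathlib.CategoryTheory.Abelian.Projective.Resolution

/-!
# Bounded above projective representatives in `D(R)`
-/

set_option autoImplicit false
universe u

open CategoryTheory Limits DerivedCategory Pretriangulated MonoidalCategory

attribute [local instance] HasDerivedCategory.standard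

namespace Groth.Agent.Helper11.TA

variable {R : Type u} [CommRing R]

open Groth.Agent.Helper11.DC
open scoped ZeroObject

/-- `K` is represented by a bounded above complex of projective modules. -/
def HasProjRes (K : Dual.D R) : Prop :=
  ∃ (P : DRing.Cx R) (c : ℤ), DRing.VanishesAbove P c ∧ (∀ i, Module.Projective R (P.X i)) ∧
    Nonempty (Q.obj P ≅ K)

theorem hasProjRes_third (T : Triangle (Dual.D R)) (hT : T ∈ distTriang (Dual.D R))
    (h₁ : HasProjRes T.obj₁) (h₂ : HasProjRes T.obj₂) : HasProjRes T.obj₃ := by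
  obtain ⟨E₁, b₁, hb₁, hf₁, ⟨e₁⟩⟩ := h₁
  obtain ⟨E₂, b₂, hb₂, hf₂, ⟨e₂⟩⟩ := h₂
  have : E₁.IsKProjective := isKProjective_of_vanishesAbove E₁ b₁ hb₁ hf₁
  obtain ⟨φ, ⟨e₃⟩⟩ := third_vertex T hT E₁ E₂ e₁.symm e₂.symm
  refine ⟨CochainComplex.mappingCone φ, max b₁ b₂, ?_, ?_, ⟨e₃.symm⟩⟩
  · intro i hi
    exact mappingCone_isZero φ i (hb₁ _ (by omega)) (hb₂ _ (by omega))
  · intro i
    have := hf₁ (i + 1)
    have := hf₂ i
    exact Module.Projective.of_equiv (mappingConeXEquiv φ i).symm

theorem hasProjRes_shift (K : Dual.D R) (n : ℤ) (h : HasProjRes K) : HasProjRes (K⟦n⟧) := by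
  obtain ⟨E, b, hb, hf, ⟨e⟩⟩ := h
  refine ⟨E⟦n⟧, b - n, ?_, ?_, ⟨shiftRepIso E K e n⟩⟩
  · intro i hi
    exact hb (i + n) (by omega)
  · intro i
    exact hf (i + n)

theorem hasProjRes_zero (K : Dual.D R) (h : IsZero K) : HasProjRes K := by
  refine ⟨0, 0, fun i _ => ?_, fun i => ?_, ⟨(Q.map_isZero (isZero_zero _)).iso h⟩⟩
  · exact (HomologicalComplex.eval _ _ i).map_isZero (isZero_zero _)
  · have hz : IsZero ((0 : DRing.Cx R).X i) :=
      (HomologicalComplex.eval _ _ i).map_isZero (isZero_zero _)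
    haveI : Subsingleton ((0 : DRing.Cx R).X i) := ModuleCat.subsingleton_of_isZero hz
    infer_instance

theorem hasProjRes_thick : ThickLike (R := R) HasProjRes where
  iso := by
    rintro K L e ⟨P, c, hc, hp, ⟨e'⟩⟩
    exact ⟨P, c, hc, hp, ⟨e' ≪≫ e⟩⟩
  shift := hasProjRes_shift
  ext := by
    intro T hT h₁ h₃
    exact hasProjRes_third T.invRotate (inv_rot_of_distTriang _ hT) (hasProjRes_shift _ (-1) h₃) h₁
  zero := hasProjRes_zero

theorem hasProjRes_single (N : ModuleCat.{u} R) :
    HasProjRes ((singleFunctor (ModuleCat.{u} R) 0).obj N) := by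
  let P : ProjectiveResolution N := projectiveResolution N
  refine ⟨P.cochainComplex, 0, ?_, ?_, ⟨?_⟩⟩
  · intro i hi
    exact CochainComplex.isZero_of_isStrictlyLE _ 0 _ hi
  · intro i
    by_cases hi : i ≤ 0
    · obtain ⟨k, rfl⟩ := Int.exists_eq_neg_ofNat hi
      have e := (P.cochainComplexXIso (-k) k).symm
      haveI : Module.Projective R (P.complex.X k) :=
        (IsProjective.iff_projective (R := R) (P.complex.X k)).mpr (P.projective k)
      exact Module.Projective.of_equiv e.toLinearEquiv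
    · have hz : IsZero (P.cochainComplex.X i) :=
        CochainComplex.isZero_of_isStrictlyLE _ 0 _ (by omega)
      have : Subsingleton (P.cochainComplex.X i) := ModuleCat.subsingleton_of_isZero hz
      infer_instance
  · haveI : IsIso (Q.map P.π') := by
      rw [isIso_Q_map_iff_quasiIso]
      infer_instance
    exact asIso (Q.map P.π') ≪≫
      ((DerivedCategory.singleFunctorIsoCompQ (ModuleCat.{u} R) 0).app N).symm

theorem hasProjRes_of_homology (K : Dual.D R) (a b : ℤ)
    (hK : ∀ i : ℤ, (i < a ∨ b < i) → IsZero ((homologyFunctor (ModuleCat.{u} R) i).obj K)) :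
    HasProjRes K :=
  hasProjRes_thick.of_homology K a b hK (fun _ => hasProjRes_single _)

theorem hasProjRes_of_bounded (E : DRing.Cx R) (a b : ℤ) (hE : DRing.VanishesOutside E a b) :
    HasProjRes (Q.obj E) :=
  hasProjRes_thick.of_bounded E a b hE (fun _ => hasProjRes_single _)

end Groth.Agent.Helper11.TA
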