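import Groth.Agent.Lib.Helper11.MPC8
import Groth.Agent.Lib.Helper11.TorAmp3

/-!
Bounded above objects of `D(R)` have bounded above free resolutions: the infinite construction,
as the colimit of a tower of mapping cones (helper11).
-/

open CategoryTheory Category Limits Pretriangulated DerivedCategory ZeroObject

attribute [local instance] HasDerivedCategory.standard

universe u

namespace Groth.Agent.Helper11.PRT

open Groth.Agent.Helper11.DC Groth.Agent.Helper11.GenRes Groth.Agent.Helper11.MPC
  Groth.Agent.Helper11.TA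

variable {R : Type u} [CommRing R]

theorem sgl_free (m : ℤ) (F : ModuleCat.{u} R) [Module.Free R F] (j : ℤ) :
    Module.Free R ((sgl m F).X j) := by
  by_cases hj : j = m
  · subst hj
    let e : (sgl j F).X j ≃ₗ[R] F :=
      (HomologicalComplex.singleObjXSelf (ComplexShape.up ℤ) j F).toLinearEquiv
    exact Module.Free.of_equiv e.symm
  · haveI : Subsingleton ((sgl m F).X j) := ModuleCat.subsingleton_of_isZero (sgl_isZero m F j hj)
    infer_instance

/-- chain-level top cover by a free module -/
theorem exists_top_cover_cx_free (C : DRing.Cx R) (m : ℤ) :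
    ∃ (F : ModuleCat.{u} R) (_ : Module.Free R F) (τ : sgl m F ⟶ C),
      Epi (HomologicalComplex.homologyMap τ m) := by
  let p : (C.homology m →₀ R) →ₗ[R] C.homology m := Finsupp.linearCombination R id
  have hp : Function.Surjective p := Finsupp.linearCombination_id_surjective R _
  let F : ModuleCat.{u} R := ModuleCat.of R (C.homology m →₀ R)
  haveI : Module.Free R F := (inferInstance : Module.Free R (C.homology m →₀ R))
  haveI : Projective F :=
    (IsProjective.iff_projective (R := R) (P := (C.homology m →₀ R))).mp inferInstance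
  let p' : F ⟶ C.homology m := ModuleCat.ofHom p
  haveI : Epi p' := (ModuleCat.epi_iff_surjective _).mpr hp
  let l : F ⟶ C.cycles m := Projective.factorThru p' (C.homologyπ m)
  have hl : l ≫ C.homologyπ m = p' := Projective.factorThru_comp _ _
  let φ : F ⟶ C.X m := l ≫ C.iCycles m
  let τ : sgl m F ⟶ C := HomologicalComplex.mkHomFromSingle φ (by
    intro j _
    simp [φ])
  refine ⟨F, inferInstance, τ, ?_⟩
  have hτ : τ.f m = (HomologicalComplex.singleObjXSelf (ComplexShape.up ℤ) m F).hom ≫ φ :=
    HomologicalComplex.mkHomFromSingle_f _ _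
  haveI : IsIso ((sgl m F).iCycles m) :=
    HomologicalComplex.isIso_iCycles _ m (m + 1) (by simp) (by simp)
  have h1 : HomologicalComplex.cyclesMap τ m =
      ((sgl m F).iCycles m ≫ (HomologicalComplex.singleObjXSelf (ComplexShape.up ℤ) m F).hom) ≫
        l := by
    rw [← cancel_mono (C.iCycles m), HomologicalComplex.cyclesMap_i, hτ]
    simp [φ]
  have h2 : (sgl m F).homologyπ m ≫ HomologicalComplex.homologyMap τ m =
      ((sgl m F).iCycles m ≫ (HomologicalComplex.singleObjXSelf (ComplexShape.up ℤ) m F).hom) ≫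
        p' := by
    rw [HomologicalComplex.homologyπ_naturality, h1, assoc, hl]
  haveI : Epi ((sgl m F).homologyπ m ≫ HomologicalComplex.homologyMap τ m) := by
    rw [h2]
    infer_instance
  exact epi_of_epi_fac (f := (sgl m F).homologyπ m) rfl

/-- the step: killing the top cohomology -/
theorem gstep_exists (C : DRing.Cx R) (m : ℤ) (hle : (Q.obj C).IsLE m) :
    ∃ (F : ModuleCat.{u} R) (_ : Module.Free R F) (τ : sgl m F ⟶ C),
      (Q.obj (CochainComplex.mappingCone τ)).IsLE (m - 1) := by
  obtain ⟨F, hF, τ, hτ⟩ := exists_top_cover_cx_free C m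
  exact ⟨F, hF, τ, cone_top_cover_isLE C m hle τ hτ⟩

section Tower

variable (K' : DRing.Cx R) (b : ℤ)

/-- a stage of the tower -/
structure GStage (n : ℕ) where
  C : DRing.Cx R
  ι : K' ⟶ C
  isLE : (Q.obj C).IsLE (b - n)
  term : ∀ i : ℤ, ∃ (G : ModuleCat.{u} R), Module.Free R G ∧
    (b ≤ i → Subsingleton G) ∧
      ∃ e : C.X i ≃ₗ[R] (K'.X i × G), ∀ x, e ((ι.f i).hom x) = (x, 0)

variable {K' b}

namespace GStage

variable {n : ℕ} (s : GStage K' b n)

noncomputable def F : ModuleCat.{u} R := (gstep_exists s.C (b - n) s.isLE).choose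

instance : Module.Free R s.F := (gstep_exists s.C (b - n) s.isLE).choose_spec.choose

noncomputable def τ : sgl (b - n) s.F ⟶ s.C :=
  (gstep_exists s.C (b - n) s.isLE).choose_spec.choose_spec.choose

theorem τ_spec : (Q.obj (CochainComplex.mappingCone s.τ)).IsLE (b - n - 1) :=
  (gstep_exists s.C (b - n) s.isLE).choose_spec.choose_spec.choose_spec

noncomputable def next : GStage K' b (n + 1) where
  C := CochainComplex.mappingCone s.τ
  ι := s.ι ≫ CochainComplex.mappingCone.inr s.τ
  isLE := by
    have h := s.τ_spec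
    have h' : b - ((n + 1 : ℕ) : ℤ) = b - n - 1 := by push_cast; ring
    rw [h']
    exact h
  term := fun i => by
    obtain ⟨G, hfree, hsub, e, he⟩ := s.term i
    haveI := sgl_free (b - n) s.F (i + 1)
    refine ⟨ModuleCat.of R ((sgl (b - n) s.F).X (i + 1) × G), inferInstance, ?_, ?_⟩
    · intro hi
      haveI := hsub hi
      haveI : Subsingleton ((sgl (b - n) s.F).X (i + 1)) :=
        ModuleCat.subsingleton_of_isZero (sgl_isZero _ _ _ (by omega))
      change Subsingleton ((sgl (b - n) s.F).X (i + 1) × G)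
      infer_instance
    · refine ⟨(coneEquiv s.τ i) ≪≫ₗ (LinearEquiv.prodCongr (LinearEquiv.refl R _) e) ≪≫ₗ
        prodSwapMid _ _ _, ?_⟩
      intro x
      have h1 : ((s.ι ≫ CochainComplex.mappingCone.inr s.τ).f i).hom x =
          ((CochainComplex.mappingCone.inr s.τ).f i).hom ((s.ι.f i).hom x) := rfl
      rw [h1]
      simp only [LinearEquiv.trans_apply, coneEquiv_inr]
      simp [prodSwapMid, he]

end GStage

/-- the initial stage -/
noncomputable def gstage0 (K' : DRing.Cx R) (b : ℤ) (hle : (Q.obj K').IsLE b) : GStage K' b 0 where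
  C := K'
  ι := 𝟙 K'
  isLE := by
    have h' : b - ((0 : ℕ) : ℤ) = b := by simp
    rw [h']
    exact hle
  term := fun i => ⟨ModuleCat.of R PUnit.{u + 1}, inferInstance,
    fun _ => inferInstance,
    ⟨{ toFun := fun x => (x, 0)
       invFun := fun y => y.1
       map_add' := fun _ _ => by simp
       map_smul' := fun _ _ => by simp
       left_inv := fun _ => rfl
       right_inv := fun y => Prod.ext rfl (Subsingleton.elim _ _) }, fun _ => rfl⟩⟩

variable (s0 : GStage K' b 0)

/-- the stages -/
noncomputable def gstage : (n : ℕ) → GStage K' b n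
  | 0 => s0
  | n + 1 => (gstage n).next

/-- the tower -/
noncomputable def gtower : ℕ ⥤ DRing.Cx R :=
  Functor.ofSequence (X := fun n => (gstage s0 n).C)
    (fun n => CochainComplex.mappingCone.inr (gstage s0 n).τ)

theorem gtower_map_succ (n : ℕ) : (gtower s0).map (homOfLE (Nat.le_succ n)) =
    CochainComplex.mappingCone.inr (gstage s0 n).τ :=
  Functor.ofSequence_map_homOfLE_succ _ n

/-- the maps from `K'` to the tower -/
noncomputable def gtowerι (n : ℕ) : K' ⟶ (gtower s0).obj n := (gstage s0 n).ι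

theorem gtowerι_succ (n : ℕ) : gtowerι s0 (n + 1) =
    gtowerι s0 n ≫ (gtower s0).map (homOfLE (Nat.le_succ n)) := by
  rw [gtower_map_succ]
  rfl

theorem gtower_term (n : ℕ) (i : ℤ) : ∃ (G : ModuleCat.{u} R),
    Module.Free R G ∧ (b ≤ i → Subsingleton G) ∧
      ∃ e : ((gtower s0).obj n).X i ≃ₗ[R] (K'.X i × G),
        ∀ x, e (((gtowerι s0 n).f i).hom x) = (x, 0) :=
  (gstage s0 n).term i

theorem gtower_isLE (n : ℕ) : (Q.obj ((gtower s0).obj n)).IsLE (b - n) := (gstage s0 n).isLE

/-- the map to the colimit -/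
noncomputable def gιinf : K' ⟶ colimit (gtower s0) := gtowerι s0 0 ≫ colimit.ι (gtower s0) 0

theorem gιinf_eq (n : ℕ) : gιinf s0 = gtowerι s0 n ≫ colimit.ι (gtower s0) n := by
  induction n with
  | zero => rfl
  | succ n ih =>
    rw [gtowerι_succ, assoc, colimit.w]
    exact ih

theorem isIso_gtower_map_succ (i : ℤ) (n : ℕ) (hn : b - i ≤ n) :
    IsIso (((gtower s0).map (homOfLE (Nat.le_succ n))).f i) := by
  rw [gtower_map_succ]
  exact isIso_inr_f _ i (sgl_isZero _ _ _ (by omega))

theorem isIso_gcolimit_ι_f (i : ℤ) (n : ℕ) (hn : b - i ≤ n) :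
    IsIso ((colimit.ι (gtower s0) n).f i) := by
  have hev : ((gtower s0) ⋙ HomologicalComplex.eval _ _ i).IsEventuallyConstantFrom
      (b - i).toNat := isEventuallyConstantFrom_of_succ _ _ (fun n hn => by
    change IsIso (((gtower s0).map (homOfLE (Nat.le_succ n))).f i)
    exact isIso_gtower_map_succ s0 i n (by omega))
  exact hev.isIso_ι_of_isColimit'
    (isColimitOfPreserves (HomologicalComplex.eval _ _ i) (colimit.isColimit (gtower s0))) n
    (homOfLE (by omega))

theorem gcolimit_exactAt (i : ℤ) : (colimit (gtower s0)).ExactAt i := by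
  let N := (b - i + 1).toNat
  have hN : b - i + 1 ≤ N := Int.self_le_toNat _
  let ι := colimit.ι (gtower s0) N
  haveI h1 : IsIso (ι.f (i - 1)) := isIso_gcolimit_ι_f s0 (i - 1) N (by omega)
  haveI h2 : IsIso (ι.f i) := isIso_gcolimit_ι_f s0 i N (by omega)
  haveI h3 : IsIso (ι.f (i + 1)) := isIso_gcolimit_ι_f s0 (i + 1) N (by omega)
  have hq : QuasiIsoAt ι i := by
    rw [quasiIsoAt_iff' ι (i - 1) i (i + 1) (by simp) (by simp)]
    haveI : IsIso ((HomologicalComplex.shortComplexFunctor' _ _ (i - 1) i (i + 1)).map ι) := by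
      apply (config := { allowSynthFailures := true }) ShortComplex.isIso_of_isIso
      · exact h1
      · exact h2
      · exact h3
    infer_instance
  have hex : ((gtower s0).obj N).ExactAt i :=
    exactAt_of_homology_isZero _ i ((isLE_iff _ _).mp (gtower_isLE s0 N) i (by omega))
  exact (quasiIsoAt_iff_exactAt ι i hex).mp hq

theorem gcolimit_Q_isZero : IsZero (Q.obj (colimit (gtower s0))) := by
  apply isZero_of_homology
  intro n
  refine IsZero.of_iso ?_ ((homologyFunctorFactors (ModuleCat.{u} R) n).app _)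
  exact (HomologicalComplex.exactAt_iff_isZero_homology _ _).mp (gcolimit_exactAt s0 n)

theorem gιinf_term (i : ℤ) : ∃ (G : ModuleCat.{u} R), Module.Free R G ∧
    (b ≤ i → Subsingleton G) ∧
      ∃ E : (colimit (gtower s0)).X i ≃ₗ[R] (K'.X i × G),
        ∀ x, E (((gιinf s0).f i).hom x) = (x, 0) := by
  let N := (b - i).toNat
  obtain ⟨G, hfree, hsub, e, he⟩ := gtower_term s0 N i
  haveI : IsIso ((colimit.ι (gtower s0) N).f i) := isIso_gcolimit_ι_f s0 i N (by omega)
  let j := (asIso ((colimit.ι (gtower s0) N).f i)).toLinearEquiv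
  refine ⟨G, hfree, hsub, j.symm ≪≫ₗ e, fun x => ?_⟩
  have h1 : ((gιinf s0).f i).hom x = j (((gtowerι s0 N).f i).hom x) := by
    rw [gιinf_eq s0 N]
    rfl
  rw [h1, LinearEquiv.trans_apply, LinearEquiv.symm_apply_apply, he]

instance : Mono (gιinf s0) := by
  apply (config := { allowSynthFailures := true }) HomologicalComplex.mono_of_mono_f
  intro i
  rw [ModuleCat.mono_iff_injective]
  obtain ⟨G, -, -, E, hE⟩ := gιinf_term s0 i
  intro x y hxy
  have := congrArg E hxy
  rw [hE, hE] at this
  exact congrArg Prod.fst this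

/-- the short complex `K' → C∞ → W` -/
noncomputable def gwSC : ShortComplex (DRing.Cx R) :=
  ShortComplex.mk (gιinf s0) (cokernel.π (gιinf s0)) (cokernel.condition _)

theorem gwSC_shortExact : (gwSC s0).ShortExact :=
  { exact := ShortComplex.exact_cokernel _
    mono_f := by dsimp [gwSC]; infer_instance
    epi_g := by dsimp [gwSC]; infer_instance }

theorem gwSC_X₃_term (i : ℤ) : Module.Free R ((gwSC s0).X₃.X i) ∧
    (b ≤ i → IsZero ((gwSC s0).X₃.X i)) := by
  have hS : ((gwSC s0).map (HomologicalComplex.eval _ _ i)).ShortExact :=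
    (gwSC_shortExact s0).map_of_exact _
  obtain ⟨G, hfree, hsub, E, hE⟩ := gιinf_term s0 i
  obtain ⟨e⟩ := X₃_equiv_of_splitting hS G E hE
  have e' : (gwSC s0).X₃.X i ≃ₗ[R] G := e
  refine ⟨Module.Free.of_equiv e'.symm, fun hi => ?_⟩
  haveI := hsub hi
  haveI : Subsingleton ((gwSC s0).X₃.X i) := e'.toEquiv.subsingleton
  exact ModuleCat.isZero_of_subsingleton _

include s0 in
theorem hasProjRes_of_gstage0 : HasProjRes (Q.obj K') := by
  have hT := triangleOfSES_distinguished (gwSC_shortExact s0)
  haveI : IsIso (triangleOfSESδ (gwSC_shortExact s0)) :=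
    (Triangle.isZero₂_iff_isIso₃ _ hT).mp (gcolimit_Q_isZero s0)
  have hW : HasProjRes (Q.obj (gwSC s0).X₃) :=
    ⟨(gwSC s0).X₃, b - 1, fun i hi => (gwSC_X₃_term s0 i).2 (by omega),
      fun i => by
        haveI := (gwSC_X₃_term s0 i).1
        infer_instance, ⟨Iso.refl _⟩⟩
  have h1 := hasProjRes_thick.shift _ (-1 : ℤ) hW
  refine hasProjRes_thick.iso ?_ h1
  exact (shiftFunctor (Dual.D R) (-1 : ℤ)).mapIso (asIso (triangleOfSESδ (gwSC_shortExact s0))) ≪≫
    shiftShiftNeg _ (1 : ℤ)

end Tower

/-- bounded above objects have bounded above projective resolutions -/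
theorem hasProjRes_of_isLE (K : Dual.D R) (b : ℤ) (hK : K.IsLE b) : HasProjRes K := by
  let K' := Q.objPreimage K
  let e : Q.obj K' ≅ K := Q.objObjPreimageIso K
  have hle : (Q.obj K').IsLE b := TStructure.t.isLE_of_iso e.symm b
  exact hasProjRes_thick.iso e (hasProjRes_of_gstage0 (gstage0 K' b hle))

end Groth.Agent.Helper11.PRT
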