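import Groth.Agent.Lib.Helper11.Dev5
import Groth.Agent.Lib.Helper11.ProjResTower

/-!
Dévissage for modules killed by a power of an ideal (helper11).
-/

set_option autoImplicit false

open CategoryTheory CategoryTheory.Limits MonoidalCategory

universe u

namespace Groth.Agent.Helper11.Dev

open Groth.Agent.Helper11.DC Groth.Agent.Helper11.TA Groth.Agent.Helper11.LDer
  Groth.Agent.Helper11.PRT

attribute [local instance] HasDerivedCategory.standard

variable {R : Type u} [CommRing R]

/-- an object with no cohomology above `m` is represented by a complex of projectives vanishing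
above `m` -/
theorem exists_projRes_vanishesAbove (K : Dual.D R) (m : ℤ)
    (h : ∀ i : ℤ, m < i → IsZero ((DerivedCategory.homologyFunctor (ModuleCat.{u} R) i).obj K)) :
    ∃ E : DRing.Cx R, DRing.VanishesAbove E m ∧ (∀ i, Module.Projective R (E.X i)) ∧
      Nonempty (DerivedCategory.Q.obj E ≅ K) := by
  haveI : K.IsLE m := (DerivedCategory.isLE_iff K m).mpr h
  obtain ⟨P, c, hc, hp, ⟨e⟩⟩ := hasProjRes_of_isLE K m inferInstance
  obtain ⟨E', π, hπ, hz, -⟩ := trim_to (c - m).toNat P m c (by omega) hc hp
    (fun i hi => (h i hi).of_iso ((DerivedCategory.homologyFunctor (ModuleCat.{u} R) i).mapIso e))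
  haveI := hπ.iso
  exact ⟨E', hz, fun i => hπ.projective i (hp i), ⟨(asIso (DerivedCategory.Q.map π)).symm ≪≫ e⟩⟩

variable (I : Ideal R)

theorem smul_top_sub_eq_bot (N : Type u) [AddCommGroup N] [Module R N] (J : Ideal R)
    (N' : Submodule R N) (h : J • N' = ⊥) : J • (⊤ : Submodule R N') = ⊥ := by
  rw [eq_bot_iff, Submodule.smul_le]
  intro r hr x _
  rw [Submodule.mem_bot]
  apply Subtype.ext
  have h1 : r • (x : N) ∈ J • N' := Submodule.smul_mem_smul hr x.2
  rw [h] at h1
  exact (Submodule.mem_bot R).mp h1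

theorem smul_top_quot_eq_bot (N : Type u) [AddCommGroup N] [Module R N] (J : Ideal R) :
    J • (⊤ : Submodule R (N ⧸ (J • (⊤ : Submodule R N)))) = ⊥ := by
  rw [eq_bot_iff, Submodule.smul_le]
  intro r hr y _
  obtain ⟨x, rfl⟩ := (J • (⊤ : Submodule R N)).mkQ_surjective y
  rw [Submodule.mem_bot, ← map_smul]
  exact (Submodule.Quotient.mk_eq_zero _).mpr (Submodule.smul_mem_smul hr Submodule.mem_top)

/-- dévissage for modules killed by a power of `I` -/
theorem isZero_homology_tens_of_pow_killed (T : DRing.Cx R) [T.IsKProjective]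
    (hTf : ∀ i, Module.Flat R (T.X i)) (b : ℤ)
    (hb : ∀ i : ℤ, b < i → IsZero (((esC (Ideal.Quotient.mk I)).obj T).homology i)) :
    ∀ (n : ℕ) (N : Type u) [AddCommGroup N] [Module R N],
      I ^ n • (⊤ : Submodule R N) = ⊥ → ∀ i : ℤ, b < i →
      IsZero (((tens (ModuleCat.of R N)).obj T).homology i) := by
  obtain ⟨E', hE'b, hE'p, ⟨e⟩⟩ := exists_projRes_vanishesAbove
    (DerivedCategory.Q.obj ((esC (Ideal.Quotient.mk I)).obj T)) b (fun i hi => by
      rw [isZero_homology_Q_iff_exactAt, HomologicalComplex.exactAt_iff_isZero_homology]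
      exact hb i hi)
  intro n
  induction n with
  | zero =>
    intro N _ _ hN i _
    haveI : Subsingleton N := by
      rw [pow_zero, Ideal.one_eq_top, Submodule.top_smul] at hN
      exact (Submodule.subsingleton_iff R).mp (subsingleton_of_bot_eq_top hN.symm)
    exact isZero_homology_tens_of_subsingleton T (ModuleCat.of R N) i
  | succ n ih =>
    intro N _ _ hN i hi
    let N' : Submodule R N := I ^ n • (⊤ : Submodule R N)
    have hkill : I • N' = ⊥ := by
      show I • (I ^ n • (⊤ : Submodule R N)) = ⊥
      rw [← Submodule.mul_smul, ← pow_succ']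
      exact hN
    have h1 : IsZero (((tens (ModuleCat.of R N')).obj T).homology i) :=
      isZero_homology_tens_of_killed I T E' b hE'b hE'p e.symm (ModuleCat.of R N')
        (smul_top_sub_eq_bot N I N' hkill) i hi
    have h3 : IsZero (((tens (ModuleCat.of R (N ⧸ N'))).obj T).homology i) :=
      ih (N ⧸ N') (smul_top_quot_eq_bot N (I ^ n)) i hi
    exact isZero_homology_tens_of_ses T hTf (ModuleCat.ofHom N'.subtype)
      (ModuleCat.ofHom N'.mkQ) N'.injective_subtype N'.mkQ_surjective
      (LinearMap.exact_subtype_mkQ N') i h1 h3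

end Groth.Agent.Helper11.Dev
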