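import Groth.Agent.Lib.Helper11.Dev3

/-!
Base change preserves K-projective complexes; derived isomorphisms between K-projective
complexes are homotopy equivalences (helper11).
-/

set_option autoImplicit false

open CategoryTheory CategoryTheory.Limits MonoidalCategory

universe u

namespace Groth.Agent.Helper11.Dev

open Groth.Agent.Helper11.DC Groth.Agent.Helper11.TA Groth.Agent.Helper11.LDer

attribute [local instance] HasDerivedCategory.standard

variable {A B : Type u} [CommRing A] [CommRing B] (φ : A →+* B)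

/-- the adjoint of a morphism of complexes `T ⊗_A B ⟶ L` -/
noncomputable def adjHom (T : DRing.Cx A) (L : DRing.Cx B) (f : (esC φ).obj T ⟶ L) :
    T ⟶ (rsC φ).obj L where
  f i := (ModuleCat.extendRestrictScalarsAdj.{u} φ).homEquiv _ _ (f.f i)
  comm' i j _ := by
    have h1 := (ModuleCat.extendRestrictScalarsAdj.{u} φ).homEquiv_naturality_left
      (T.d i j) (f.f j)
    have h2 := (ModuleCat.extendRestrictScalarsAdj.{u} φ).homEquiv_naturality_right
      (f.f i) (L.d i j)
    have h3 : (es φ).map (T.d i j) ≫ f.f j = f.f i ≫ L.d i j := (f.comm i j).symm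
    exact (h2.symm.trans ((congrArg _ h3.symm).trans h1))

/-- the counit of the adjunction on complexes -/
noncomputable def counitC (L : DRing.Cx B) : (esC φ).obj ((rsC φ).obj L) ⟶ L where
  f i := (ModuleCat.extendRestrictScalarsAdj.{u} φ).counit.app (L.X i)
  comm' i j _ := ((ModuleCat.extendRestrictScalarsAdj.{u} φ).counit.naturality (L.d i j)).symm

theorem adjHom_counit (T : DRing.Cx A) (L : DRing.Cx B) (f : (esC φ).obj T ⟶ L) :
    (esC φ).map (adjHom φ T L f) ≫ counitC φ L = f := by
  ext i : 1
  have h := (ModuleCat.extendRestrictScalarsAdj.{u} φ).homEquiv_counit (X := T.X i)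
    (Y := L.X i) (g := (ModuleCat.extendRestrictScalarsAdj.{u} φ).homEquiv _ _ (f.f i))
  exact h.symm.trans (Equiv.symm_apply_apply _ _)

theorem acyclic_rsC (L : DRing.Cx B) (hL : L.Acyclic) : ((rsC φ).obj L).Acyclic := by
  intro i
  rw [HomologicalComplex.exactAt_iff_isZero_homology, isZero_homology_rsC_iff]
  exact (HomologicalComplex.exactAt_iff_isZero_homology _ _).mp (hL i)

/-- (T1) base change preserves K-projective complexes -/
theorem isKProjective_esC (T : DRing.Cx A) [T.IsKProjective] :
    ((esC φ).obj T).IsKProjective where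
  nonempty_homotopy_zero {L} f hL := by
    have h := CochainComplex.IsKProjective.homotopyZero (adjHom φ T L f)
      (acyclic_rsC φ L hL)
    have h1 := ((es φ).mapHomotopy h).compRight (counitC φ L)
    rw [adjHom_counit] at h1
    refine ⟨h1.trans (Homotopy.ofEq ?_)⟩
    rw [Functor.map_zero, zero_comp]

/-- (T2) an isomorphism in the derived category between K-projective complexes comes from a
homotopy equivalence -/
theorem nonempty_homotopyEquiv_of_Q_iso (T₁ T₂ : DRing.Cx A) [T₁.IsKProjective]
    [T₂.IsKProjective] (e : DerivedCategory.Q.obj T₁ ≅ DerivedCategory.Q.obj T₂) :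
    Nonempty (HomotopyEquiv T₁ T₂) := by
  obtain ⟨f, hf⟩ := exists_lift_of_isKProjective T₁ T₂ e.hom
  obtain ⟨g, hg⟩ := exists_lift_of_isKProjective T₂ T₁ e.inv
  obtain ⟨h1⟩ := Groth.Agent.Helper11.Tel.homotopy_of_Q_map_eq T₁ T₁ (f ≫ g) (𝟙 T₁) (by
    rw [Functor.map_comp, hf, hg, e.hom_inv_id, CategoryTheory.Functor.map_id])
  obtain ⟨h2⟩ := Groth.Agent.Helper11.Tel.homotopy_of_Q_map_eq T₂ T₂ (g ≫ f) (𝟙 T₂) (by
    rw [Functor.map_comp, hf, hg, e.inv_hom_id, CategoryTheory.Functor.map_id])
  exact ⟨{ hom := f, inv := g, homotopyHomInvId := h1, homotopyInvHomId := h2 }⟩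

end Groth.Agent.Helper11.Dev
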