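import Groth.Agent.Lib.Helper11.KPF1
import Groth.Agent.Lib.Helper11.Dev4
import Groth.Prelude.Def_KFlatSite

/-!
# K-projective complexes of modules are K-flat (helper11)

* `KPF.kfl_of_vanishesAbove`: bounded above complexes of flat modules are K-flat (`KF.KFl`).
* `KPF.exists_kprojective_kflat_resolution`: every complex has a K-projective, K-flat resolution
  with projective terms.
* `KPF.kfl_of_isKProjective`: K-projective complexes are K-flat.
* `KPF.isKFlat_of_isKProjective`: the same for the prelude's `DRing.IsKFlat`.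
-/

set_option autoImplicit false

open CategoryTheory CategoryTheory.Limits MonoidalCategory HomologicalComplex DirectSum

universe u

namespace Groth.Agent.Helper11.KPF

open Groth.Agent.Helper11.Tel Groth.Agent.Helper5.KF Groth.Agent.Helper11.DC
  Groth.Agent.Helper11.TA Groth.Agent.Helper11.PRT

attribute [local instance] HasDerivedCategory.standard

variable {A : Type u} [CommRing A]

theorem kfl_of_vanishesAbove (P : DRing.Cx A) (b : ℤ) (hb : DRing.VanishesAbove P b)
    (hP : ∀ i, Module.Flat A (P.X i)) : KFl P := fun L hL i =>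
  (HomologicalComplex.exactAt_iff_isZero_homology _ _).mp
    (exactAt_tensor_of_flat_bddAbove L P b hb hP
      (fun j => (HomologicalComplex.exactAt_iff_isZero_homology _ _).mpr (hL j)) i)

theorem kfl_iff_isKFlat (K : DRing.Cx A) : KFl K ↔ DRing.IsKFlat A K := Iff.rfl

/-- every complex of modules admits a K-projective and K-flat resolution with projective terms -/
theorem exists_kprojective_kflat_resolution (C : DRing.Cx A) :
    ∃ (T : DRing.Cx A) (F : T ⟶ C), T.IsKProjective ∧ (∀ i, Module.Projective A (T.X i)) ∧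
      KFl T ∧ QuasiIso F := by
  have hres : ∀ n : ℕ, ∃ (P : DRing.Cx A) (p : P ⟶ C.truncLE (n : ℤ)),
      P.IsKProjective ∧ (∀ i, Module.Projective A (P.X i)) ∧ KFl P ∧ QuasiIso p := fun n => by
    obtain ⟨P, c, hc, hp, ⟨e⟩⟩ := hasProjRes_of_isLE
      (DerivedCategory.Q.obj (C.truncLE (n : ℤ))) (n : ℤ) inferInstance
    haveI : P.IsKProjective := isKProjective_of_vanishesAbove P c hc hp
    obtain ⟨p, hpe⟩ := exists_lift_of_isKProjective P (C.truncLE (n : ℤ)) e.hom
    refine ⟨P, p, inferInstance, hp,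
      kfl_of_vanishesAbove P c hc (fun i => by haveI := hp i; infer_instance), ?_⟩
    rw [← DerivedCategory.isIso_Q_map_iff_quasiIso, hpe]
    infer_instance
  choose P p hPk hPp hPf hpq using hres
  let f : ∀ n : ℕ, P n ⟶ C := fun n => p n ≫ C.ιTruncLE (n : ℤ)
  have hf : ∀ (n : ℕ) (j : ℤ), j ≤ n → QuasiIsoAt (f n) j := fun n j hj => by
    haveI := hpq n
    haveI := C.quasiIsoAt_ιTruncLE (n : ℤ) j hj
    exact inferInstanceAs (QuasiIsoAt (p n ≫ C.ιTruncLE (n : ℤ)) j)
  have hg : ∀ n : ℕ, ∃ g : P n ⟶ P (n + 1), Nonempty (Homotopy (f n) (g ≫ f (n + 1))) := fun n => by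
    haveI := hPk n
    haveI := hpq (n + 1)
    haveI : IsIso (DerivedCategory.Q.map (p (n + 1))) :=
      (DerivedCategory.isIso_Q_map_iff_quasiIso (φ := p (n + 1))).mpr inferInstance
    let t : C.truncLE (n : ℤ) ⟶ C.truncLE ((n + 1 : ℕ) : ℤ) :=
      truncStep C (n : ℤ) ≫ eqToHom (by push_cast; rfl)
    have ht : t ≫ C.ιTruncLE ((n + 1 : ℕ) : ℤ) = C.ιTruncLE (n : ℤ) := by
      have h1 : ∀ (a b : ℤ) (hab : a = b),
          eqToHom (by rw [hab] : C.truncLE a = C.truncLE b) ≫ C.ιTruncLE b = C.ιTruncLE a := by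
        intro a b hab
        subst hab
        simp
      show (truncStep C (n : ℤ) ≫ eqToHom _) ≫ C.ιTruncLE ((n + 1 : ℕ) : ℤ) = _
      rw [Category.assoc, h1 ((n : ℤ) + 1) ((n + 1 : ℕ) : ℤ) (by push_cast; rfl), truncStep_ι]
    obtain ⟨g, hgq⟩ := exists_lift_of_isKProjective (P n) (P (n + 1))
      (DerivedCategory.Q.map (p n ≫ t) ≫ inv (DerivedCategory.Q.map (p (n + 1))))
    refine ⟨g, homotopy_of_Q_map_eq _ _ _ _ ?_⟩
    show DerivedCategory.Q.map (p n ≫ C.ιTruncLE (n : ℤ)) =
      DerivedCategory.Q.map (g ≫ p (n + 1) ≫ C.ιTruncLE ((n + 1 : ℕ) : ℤ))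
    rw [Functor.map_comp, Functor.map_comp, Functor.map_comp, hgq, Category.assoc,
      IsIso.inv_hom_id_assoc, ← Functor.map_comp, ← Functor.map_comp, Category.assoc, ht]
  choose g hgh using hg
  exact ⟨Tcx g, Fmap g f (fun n => (hgh n).some), isKProjective_Tcx g hPk,
    projective_Tcx g hPp, kfl_Tcx P g hPf, quasiIso_Fmap g f _ hf⟩

/-- K-projective complexes of modules are K-flat. -/
theorem kfl_of_isKProjective (P : DRing.Cx A) [P.IsKProjective] : KFl P := by
  obtain ⟨T, F, hT, _, hTf, hF⟩ := exists_kprojective_kflat_resolution P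
  haveI := hT
  haveI : IsIso (DerivedCategory.Q.map F) :=
    (DerivedCategory.isIso_Q_map_iff_quasiIso (φ := F)).mpr hF
  obtain ⟨e⟩ := Groth.Agent.Helper11.Dev.nonempty_homotopyEquiv_of_Q_iso T P
    (asIso (DerivedCategory.Q.map F))
  exact KFl.of_homotopyEquiv e hTf

theorem isKFlat_of_isKProjective (P : DRing.Cx A) [P.IsKProjective] : DRing.IsKFlat A P :=
  kfl_of_isKProjective P

end Groth.Agent.Helper11.KPF
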