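import Groth.Agent.Lib.Helper5.KFlat1

/-!
# Terms of the tensor product of two bounded above complexes (helper11)

For `K L : DRing.Cx A` and a finite set `S` of indices `p` outside of which `K.X p ⊗ L.X (n - p)`
vanishes, `(K ⊗ L).X n` is the finite product of the `K.X p ⊗ L.X (n - p)`, `p ∈ S`.  Consequences:
finiteness, freeness, projectivity and vanishing of the terms of `K ⊗ L`.
-/

set_option autoImplicit false

open CategoryTheory CategoryTheory.Limits MonoidalCategory HomologicalComplex

universe u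

namespace Groth.Agent.Helper11.LTen

open Groth.Agent.Helper5.KF

variable {A : Type u} [CommRing A]

theorem isZero_tensorObj_left {M : ModuleCat.{u} A} (N : ModuleCat.{u} A) (h : IsZero M) :
    IsZero (M ⊗ N : ModuleCat.{u} A) := by
  rw [ModuleCat.isZero_iff_subsingleton] at h ⊢
  change Subsingleton (TensorProduct A M N)
  infer_instance

theorem isZero_tensorObj_right (M : ModuleCat.{u} A) {N : ModuleCat.{u} A} (h : IsZero N) :
    IsZero (M ⊗ N : ModuleCat.{u} A) := by
  rw [ModuleCat.isZero_iff_subsingleton] at h ⊢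
  change Subsingleton (TensorProduct A M N)
  infer_instance

variable (K L : DRing.Cx A)

theorem isZero_tensor_X (n : ℤ)
    (h : ∀ p q : ℤ, p + q = n → IsZero (K.X p) ∨ IsZero (L.X q)) : IsZero ((K ⊗ L).X n) := by
  rw [IsZero.iff_id_eq_zero]
  apply hom_ext'
  intro p q hpq
  have : IsZero (K.X p ⊗ L.X q : ModuleCat.{u} A) := by
    rcases h p q hpq with h1 | h1
    · exact isZero_tensorObj_left _ h1
    · exact isZero_tensorObj_right _ h1
  exact this.eq_of_src _ _

section Fin

variable (n : ℤ) (S : Finset ℤ)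

/-- projection onto the finitely many relevant summands -/
noncomputable def toPi :
    (K ⊗ L).X n →ₗ[A] (∀ p : S, (K.X p ⊗ L.X (n - p) : ModuleCat.{u} A)) :=
  LinearMap.pi (fun p => (pr K L p (n - p) n).hom)

/-- sum of the inclusions of the finitely many relevant summands -/
noncomputable def ofPi :
    (∀ p : S, (K.X p ⊗ L.X (n - p) : ModuleCat.{u} A)) →ₗ[A] (K ⊗ L).X n :=
  ∑ p : S, (ι K L p (n - p) n (by omega)).hom ∘ₗ LinearMap.proj p

theorem toPi_apply (z : (K ⊗ L).X n) (p : S) : toPi K L n S z p = pr K L p (n - p) n z := rfl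

theorem ofPi_apply (x : ∀ p : S, (K.X p ⊗ L.X (n - p) : ModuleCat.{u} A)) :
    ofPi K L n S x = ∑ p : S, ι K L p (n - p) n (by omega) (x p) := by
  simp [ofPi, LinearMap.sum_apply]

theorem toPi_ofPi (x : ∀ p : S, (K.X p ⊗ L.X (n - p) : ModuleCat.{u} A)) :
    toPi K L n S (ofPi K L n S x) = x := by
  classical
  funext p
  rw [toPi_apply, ofPi_apply, map_sum, Finset.sum_eq_single p]
  · exact pr_ι_apply K L _ _ n _ _
  · intro p' _ hne
    apply pr_ι_ne_apply
    intro hh
    exact hne (Subtype.ext hh.1)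
  · intro hp
    exact absurd (Finset.mem_univ p) hp

theorem ofPi_toPi (hS : ∀ p q : ℤ, p + q = n → p ∉ S → IsZero (K.X p) ∨ IsZero (L.X q))
    (z : (K ⊗ L).X n) : ofPi K L n S (toPi K L n S z) = z := by
  classical
  rw [← sub_eq_zero]
  apply eq_zero_of_components
  intro p q hpq
  obtain rfl : q = n - p := by omega
  by_cases hp : p ∈ S
  · rw [map_sub, ofPi_apply, map_sum, Finset.sum_eq_single (⟨p, hp⟩ : S)]
    · rw [pr_ι_apply, toPi_apply, sub_self]
    · intro p' _ hne
      apply pr_ι_ne_apply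
      intro hh
      exact hne (Subtype.ext hh.1)
    · intro hp'
      exact absurd (Finset.mem_univ _) hp'
  · have : IsZero (K.X p ⊗ L.X (n - p) : ModuleCat.{u} A) := by
      rcases hS p (n - p) (by omega) hp with h1 | h1
      · exact isZero_tensorObj_left _ h1
      · exact isZero_tensorObj_right _ h1
    haveI := (ModuleCat.isZero_iff_subsingleton).mp this
    exact Subsingleton.elim _ _

/-- `(K ⊗ L).X n` as a finite product. -/
noncomputable def piEquiv
    (hS : ∀ p q : ℤ, p + q = n → p ∉ S → IsZero (K.X p) ∨ IsZero (L.X q)) :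
    (K ⊗ L).X n ≃ₗ[A] (∀ p : S, (K.X p ⊗ L.X (n - p) : ModuleCat.{u} A)) :=
  { toPi K L n S with
    invFun := ofPi K L n S
    left_inv := ofPi_toPi K L n S hS
    right_inv := toPi_ofPi K L n S }

end Fin

section BddAbove

variable (b d : ℤ) (hK : ∀ i : ℤ, b < i → IsZero (K.X i)) (hL : ∀ i : ℤ, d < i → IsZero (L.X i))

include hK hL

theorem hS_Icc (n : ℤ) : ∀ p q : ℤ, p + q = n → p ∉ Finset.Icc (n - d) b →
    IsZero (K.X p) ∨ IsZero (L.X q) := by
  intro p q hpq hp
  rw [Finset.mem_Icc, not_and_or] at hp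
  rcases hp with hp | hp
  · exact Or.inr (hL q (by omega))
  · exact Or.inl (hK p (by omega))

theorem isZero_tensor_X_of_bddAbove (n : ℤ) (hn : b + d < n) : IsZero ((K ⊗ L).X n) := by
  apply isZero_tensor_X
  intro p q hpq
  by_cases hp : b < p
  · exact Or.inl (hK p hp)
  · exact Or.inr (hL q (by omega))

theorem finite_tensor_X_of_bddAbove (hKf : ∀ i, Module.Finite A (K.X i))
    (hLf : ∀ i, Module.Finite A (L.X i)) (n : ℤ) : Module.Finite A ((K ⊗ L).X n) := by
  haveI : ∀ p : Finset.Icc (n - d) b,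
      Module.Finite A (K.X p ⊗ L.X (n - p) : ModuleCat.{u} A) := fun p => by
    haveI := hKf p; haveI := hLf (n - p)
    change Module.Finite A (TensorProduct A (K.X p) (L.X (n - p)))
    infer_instance
  exact Module.Finite.equiv (piEquiv K L n _ (hS_Icc K L b d hK hL n)).symm

theorem free_tensor_X_of_bddAbove (hKf : ∀ i, Module.Free A (K.X i))
    (hLf : ∀ i, Module.Free A (L.X i)) (n : ℤ) : Module.Free A ((K ⊗ L).X n) := by
  haveI : ∀ p : Finset.Icc (n - d) b,
      Module.Free A (K.X p ⊗ L.X (n - p) : ModuleCat.{u} A) := fun p => by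
    haveI := hKf p; haveI := hLf (n - p)
    change Module.Free A (TensorProduct A (K.X p) (L.X (n - p)))
    infer_instance
  exact Module.Free.of_equiv (piEquiv K L n _ (hS_Icc K L b d hK hL n)).symm

theorem projective_tensor_X_of_bddAbove (hKf : ∀ i, Module.Projective A (K.X i))
    (hLf : ∀ i, Module.Projective A (L.X i)) (n : ℤ) : Module.Projective A ((K ⊗ L).X n) := by
  haveI : ∀ p : Finset.Icc (n - d) b,
      Module.Projective A (K.X p ⊗ L.X (n - p) : ModuleCat.{u} A) := fun p => by
    haveI := hKf p; haveI := hLf (n - p)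
    change Module.Projective A (TensorProduct A (K.X p) (L.X (n - p)))
    infer_instance
  classical
  haveI : Module.Projective A (∀ p : Finset.Icc (n - d) b,
      (K.X p ⊗ L.X (n - p) : ModuleCat.{u} A)) :=
    Module.Projective.of_equiv (DirectSum.linearEquivFunOnFintype A (Finset.Icc (n - d) b)
      (fun p => (K.X p ⊗ L.X (n - p) : ModuleCat.{u} A)))
  exact Module.Projective.of_equiv (piEquiv K L n _ (hS_Icc K L b d hK hL n)).symm

theorem flat_tensor_X_of_bddAbove (hKf : ∀ i, Module.Flat A (K.X i))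
    (hLf : ∀ i, Module.Flat A (L.X i)) (n : ℤ) : Module.Flat A ((K ⊗ L).X n) := by
  haveI : ∀ p : Finset.Icc (n - d) b,
      Module.Flat A (K.X p ⊗ L.X (n - p) : ModuleCat.{u} A) := fun p => by
    haveI := hKf p; haveI := hLf (n - p)
    change Module.Flat A (TensorProduct A (K.X p) (L.X (n - p)))
    infer_instance
  classical
  haveI : Module.Flat A (∀ p : Finset.Icc (n - d) b,
      (K.X p ⊗ L.X (n - p) : ModuleCat.{u} A)) :=
    Module.Flat.of_linearEquiv (DirectSum.linearEquivFunOnFintype A (Finset.Icc (n - d) b)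
      (fun p => (K.X p ⊗ L.X (n - p) : ModuleCat.{u} A))).symm
  exact Module.Flat.of_linearEquiv (piEquiv K L n _ (hS_Icc K L b d hK hL n))

end BddAbove

/-- vanishing below for complexes bounded below -/
theorem isZero_tensor_X_of_bddBelow (a c : ℤ) (hK : ∀ i : ℤ, i < a → IsZero (K.X i))
    (hL : ∀ i : ℤ, i < c → IsZero (L.X i)) (n : ℤ) (hn : n < a + c) : IsZero ((K ⊗ L).X n) := by
  apply isZero_tensor_X
  intro p q hpq
  by_cases hp : p < a
  · exact Or.inl (hK p hp)
  · exact Or.inr (hL q (by omega))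

end Groth.Agent.Helper11.LTen
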