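import Groth.Agent.Lib.Helper11.LTen1
import Groth.Agent.Lib.Helper11.LTen2

/-!
# Derived tensor products of perfect / pseudo-coherent complexes (helper11)
-/

set_option autoImplicit false

open CategoryTheory CategoryTheory.Limits MonoidalCategory HomologicalComplex

universe u

attribute [local instance] HasDerivedCategory.standard

namespace Groth.Agent.Helper11.LTen

open Groth.Agent.Helper11.DC

variable {R : Type u} [CommRing R]

/-- Representative of `K ⊗^L L` when `K ≅ Q P`, `Q L' ≅ Q L` with `P`, `L'` bounded above complexes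
of projective modules. -/
theorem nonempty_LTensorCx_iso (K : Dual.D R) (L : DRing.Cx R) [DRing.HasLTensorCx R L]
    (P L' : DRing.Cx R) (b d : ℤ) (hPb : DRing.VanishesAbove P b) (hLb : DRing.VanishesAbove L' d)
    (hPp : ∀ i, Module.Projective R (P.X i)) (hLp : ∀ i, Module.Projective R (L'.X i))
    (eP : DRing.toD P ≅ K) (eL : DRing.toD L' ≅ DRing.toD L) :
    Nonempty (DRing.toD (P ⊗ L') ≅ (DRing.LTensorCx R L).obj K) := by
  haveI : P.IsKProjective := isKProjective_of_vanishesAbove P b hPb hPp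
  haveI : L'.IsKProjective := isKProjective_of_vanishesAbove L' d hLb hLp
  obtain ⟨f, hf⟩ := exists_lift_of_isKProjective L' L eL.hom
  have hfq : QuasiIso f := by
    rw [← DerivedCategory.isIso_Q_map_iff_quasiIso, hf]
    infer_instance
  have hPf : QuasiIso (P ◁ f) :=
    quasiIso_whiskerLeft_of_flat_bddAbove P b hPb
      (fun i => by haveI := hPp i; infer_instance) f hfq
  haveI : IsIso (DerivedCategory.Q.map (P ◁ f) :
      (DerivedCategory.Q.obj (P ⊗ L') : Dual.D R) ⟶ _) := by
    rw [DerivedCategory.isIso_Q_map_iff_quasiIso]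
    exact hPf
  exact ⟨asIso (DerivedCategory.Q.map (P ◁ f)) ≪≫
      (LTensorCxIso L P).symm ≪≫ (DRing.LTensorCx R L).mapIso eP⟩

theorem isPerfect_LTensorCx (K : Dual.D R) (hK : DRing.IsPerfect R K)
    (L : DRing.Cx R) (hL : DRing.IsPerfect R (DRing.toD L)) [DRing.HasLTensorCx R L] :
    DRing.IsPerfect R ((DRing.LTensorCx R L).obj K) := by
  obtain ⟨P, a, b, hPb, hPp, ⟨eP⟩⟩ := hK
  obtain ⟨L', c, d, hLb, hLp, ⟨eL⟩⟩ := hL
  obtain ⟨e⟩ := nonempty_LTensorCx_iso K L P L' b d (fun i hi => hPb i (Or.inr hi))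
    (fun i hi => hLb i (Or.inr hi)) (fun i => (hPp i).2) (fun i => (hLp i).2) eP eL
  refine ⟨P ⊗ L', a + c, b + d, ?_, ?_, ⟨e⟩⟩
  · intro i hi
    rcases hi with hi | hi
    · exact isZero_tensor_X_of_bddBelow P L' a c
        (fun i hi => hPb i (Or.inl hi)) (fun i hi => hLb i (Or.inl hi)) i hi
    · exact isZero_tensor_X_of_bddAbove P L' b d
        (fun i hi => hPb i (Or.inr hi)) (fun i hi => hLb i (Or.inr hi)) i hi
  · intro i
    exact ⟨finite_tensor_X_of_bddAbove P L' b d
        (fun i hi => hPb i (Or.inr hi)) (fun i hi => hLb i (Or.inr hi))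
        (fun i => (hPp i).1) (fun i => (hLp i).1) i,
      projective_tensor_X_of_bddAbove P L' b d
        (fun i hi => hPb i (Or.inr hi)) (fun i hi => hLb i (Or.inr hi))
        (fun i => (hPp i).2) (fun i => (hLp i).2) i⟩

theorem isPseudoCoherent'_LTensorCx (K : Dual.D R) (hK : DRing.IsPseudoCoherent' R K)
    (L : DRing.Cx R) (hL : DRing.IsPseudoCoherent' R (DRing.toD L)) [DRing.HasLTensorCx R L] :
    DRing.IsPseudoCoherent' R ((DRing.LTensorCx R L).obj K) := by
  obtain ⟨P, b, hPb, hPp, ⟨eP⟩⟩ := hK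
  obtain ⟨L', d, hLb, hLp, ⟨eL⟩⟩ := hL
  obtain ⟨e⟩ := nonempty_LTensorCx_iso K L P L' b d hPb hLb
    (fun i => by haveI := (hPp i).2; infer_instance)
    (fun i => by haveI := (hLp i).2; infer_instance) eP eL
  refine ⟨P ⊗ L', b + d, ?_, ?_, ⟨e⟩⟩
  · intro i hi
    exact isZero_tensor_X_of_bddAbove P L' b d hPb hLb i hi
  · intro i
    exact ⟨finite_tensor_X_of_bddAbove P L' b d hPb hLb
        (fun i => (hPp i).1) (fun i => (hLp i).1) i,
      free_tensor_X_of_bddAbove P L' b d hPb hLb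
        (fun i => (hPp i).2) (fun i => (hLp i).2) i⟩

end Groth.Agent.Helper11.LTen
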