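import Groth.Agent.Lib.Helper11.LTenTri1
import Groth.Agent.Lib.Helper11.DCP8
import Groth.Agent.Lib.Helper11.LTen3
import Groth.Agent.Lib.Helper11.ProjResTower
import Groth.Agent.Lib.Helper3.TH4

/-!
# Derived completion commutes with `- ⊗^L F` for pseudo-coherent `F` (helper11)

* `LTenComp.subsingleton_away_hom`: `Hom(A_f, K[n]) = 0` if `Hⁿ(K) = 0 = Hⁿ⁻¹(K)`.
* `LTenComp.rOrth_Q_homCx`: `Hom•(K, J)` is right orthogonal to `f`-local objects if `J` is
  (K-injective `J`).
* `LTenComp.rOrth_Q_tensor_perfect`: `P ⊗ E` is right orthogonal to `f`-local objects if `P` is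
  (`P` K-projective, `E` bounded finite projective).
* `LTenComp.isDerivedComplete_LTensorCx`: `X ⊗^L F` is derived complete for `X` derived complete
  with bounded above cohomology and `F` a bounded above complex of finite projective modules.
* `LTenComp.S7103_statement`.
-/

set_option autoImplicit false
set_option linter.unusedSectionVars false
set_option linter.unusedVariables false
set_option linter.style.haveILetI false

open CategoryTheory CategoryTheory.Limits MonoidalCategory CochainComplex HomComplex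
  Pretriangulated DerivedCategory
open scoped TensorProduct

universe u

attribute [local instance] HasDerivedCategory.standard

namespace Groth.Agent.Helper11.LTenComp

open Groth.Agent.Helper3.HT Groth.Agent.Helper3.KF Groth.Agent.Helper5.KF
  Groth.Agent.Helper11.RHomLoc Groth.Agent.Helper11.DCP Groth.Agent.Helper11.GM
  Groth.Agent.Helper11.RGam Groth.Agent.Helper11.RHomTri Groth.Agent.Helper3.DS
  Groth.Agent.Helper11.DC Groth.Agent.Helper11.LTenTri Groth.Agent.Helper11.RHomDual
  Groth.Agent.Helper3.TH Groth.Agent.Helper8.BiDual Groth.Agent.Helper11.LTen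

variable {A : Type u} [CommRing A]

theorem isDerivedComplete_of_iso (I : Ideal A) {K L : Dual.D A} (e : K ≅ L)
    (h : DRing.IsDerivedComplete I K) : DRing.IsDerivedComplete I L := by
  intro f hf n
  have := h f hf n
  refine ⟨fun a b => ?_⟩
  have h1 : a ≫ (CategoryTheory.shiftFunctor (Dual.D A) n).map e.inv =
      b ≫ (CategoryTheory.shiftFunctor (Dual.D A) n).map e.inv :=
    Subsingleton.elim _ _
  exact (cancel_mono ((CategoryTheory.shiftFunctor (Dual.D A) n).map e.inv)).mp h1

theorem rOrth_of_iso {f : A} {K L : Dual.D A} (e : K ≅ L) (h : ROrth f K) : ROrth f L :=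
  fun X hX => ⟨fun a b => by
    rw [← cancel_mono e.inv]
    exact (h X hX).elim _ _⟩

/-- `Hom(A_f, K[n]) = 0` as soon as `Hⁿ(K) = 0 = Hⁿ⁻¹(K)` -/
theorem subsingleton_away_hom (f : A) (K : Dual.D A) (n : ℤ)
    (h0 : Subsingleton (Dual.HD A K n)) (h1 : Subsingleton (Dual.HD A K (n - 1))) :
    Subsingleton (Dual.inD A (Localization.Away f) ⟶ K⟦n⟧) := by
  have hS := SC_shortExact f
  have hT := hS.singleTriangle_distinguished
  have hsub : ∀ m : ℤ, Subsingleton (Dual.HD A K m) →
      Subsingleton ((DerivedCategory.singleFunctor (ModuleCat.{u} A) 0).obj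
        (ModuleCat.of A (Polynomial A)) ⟶ K⟦m⟧) :=
    fun m hm => ⟨fun a b => (theta_bijective K m).1
      (LinearMap.ext fun x => Subsingleton.elim _ _)⟩
  have key : ∀ g : hS.singleTriangle.obj₃ ⟶ K⟦n⟧, g = 0 := by
    intro g
    let e : (K⟦n - 1⟧)⟦(1 : ℤ)⟧ ≅ K⟦n⟧ :=
      ((CategoryTheory.shiftFunctorAdd' (Dual.D A) (n - 1) 1 n (by omega)).app K).symm
    have hs2 : Subsingleton (hS.singleTriangle.obj₂ ⟶ (K⟦n - 1⟧)⟦(1 : ℤ)⟧) := by
      have hs2' : Subsingleton (hS.singleTriangle.obj₂ ⟶ K⟦n⟧) := hsub n h0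
      exact ⟨fun a b => by
        rw [← cancel_mono e.hom]
        exact hs2'.elim _ _⟩
    have hs1 : Subsingleton (hS.singleTriangle.obj₁ ⟶ K⟦n - 1⟧) := hsub (n - 1) h1
    have := bridge_mpr hS.singleTriangle hT (K⟦n - 1⟧)
      (fun a b _ => Subsingleton.elim _ _) (fun k => ⟨0, Subsingleton.elim _ _⟩) (g ≫ e.inv)
    rw [← cancel_mono e.inv, this, zero_comp]
  exact ⟨fun a b => (key a).trans (key b).symm⟩

theorem subsingleton_HD_Q_of_isZero (Y : DRing.Cx A) (i : ℤ) (h : IsZero (Y.X i)) :
    Subsingleton (Dual.HD A (Q.obj Y) i) := by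
  have h1 : IsZero (Y.homology i) :=
    (HomologicalComplex.exactAt_iff_isZero_homology _ _).mp (HomologicalComplex.ExactAt.of_isZero h)
  have h2 : IsZero ((homologyFunctor (ModuleCat.{u} A) i).obj (Q.obj Y)) :=
    h1.of_iso ((homologyFunctorFactors (ModuleCat.{u} A) i).app Y)
  exact ModuleCat.subsingleton_of_isZero h2

/-- `Hom•(K, J)` is right orthogonal to the `f`-local objects as soon as the K-injective complex
`J` is -/
theorem rOrth_Q_homCx (K J : DRing.Cx A) [J.IsKInjective] (f : A) (hM : ROrth f (Q.obj J)) :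
    ROrth f (Q.obj (DRing.homCx K J)) := by
  intro X hX
  obtain ⟨S, p, hSk, _, hSf, hp⟩ :=
    Groth.Agent.Helper11.KPF.exists_kprojective_kflat_resolution (Q.objPreimage X)
  haveI := hSk
  haveI : IsIso (Q.map p) := by
    rw [isIso_Q_map_iff_quasiIso]
    exact hp
  let eX : Q.obj S ≅ X := asIso (Q.map p) ≪≫ Q.objObjPreimageIso X
  have key : ∀ g : Q.obj S ⟶ Q.obj (DRing.homCx K J), g = 0 := by
    intro g
    obtain ⟨ψ, rfl⟩ := Groth.Agent.Helper11.DC.exists_lift_of_isKProjective S (DRing.homCx K J) g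
    have hloc : FLocal f (Q.obj (S ⊗ K)) := fLocal_Q_tensor S K hSf f (hX.of_iso eX.symm)
    have h1 : Q.map (uncH ψ) = Q.map (0 : S ⊗ K ⟶ J) := by
      rw [Functor.map_zero]
      exact (hM _ hloc).elim _ _
    obtain ⟨H⟩ := homotopy_of_Q_map_eq_of_isKInjective (S ⊗ K) J _ _ h1
    have H' : Homotopy ψ 0 := (Homotopy.ofEq (curH_uncH ψ).symm).trans
      ((curHomotopy H).trans (Homotopy.ofEq (curH_zero S K J)))
    rw [DerivedCategory.Q_map_eq_of_homotopy (h := H'), Functor.map_zero]
  have hz : ∀ g : X ⟶ Q.obj (DRing.homCx K J), g = 0 := fun g => by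
    have h := key (eX.hom ≫ g)
    rw [← cancel_epi eX.hom, h, comp_zero]
  exact ⟨fun a b => by rw [hz a, hz b]⟩

/-- `P ⊗ E` is right orthogonal to the `f`-local objects if `P` is, for `E` a bounded complex of
finite projective modules -/
theorem rOrth_Q_tensor_perfect (P E : DRing.Cx A) [P.IsKProjective] (a b : ℤ)
    (hE : DRing.VanishesOutside E a b) (hfp : DRing.TermwiseFiniteProjective E) (f : A)
    (hP : ROrth f (Q.obj P)) : ROrth f (Q.obj (P ⊗ E)) := by
  obtain ⟨J, e, hJ, _⟩ := exists_kInj_iso (Q.obj P)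
  haveI := hJ
  obtain ⟨φ, hφ⟩ := Groth.Agent.Helper11.DC.exists_lift_of_isKProjective P J e.hom
  haveI hφq : QuasiIso φ := by
    rw [← isIso_Q_map_iff_quasiIso, hφ]
    infer_instance
  have hD1 := vanishesOutside_dual E a b hE
  have hD2 := termwiseFiniteProjective_dual E hfp
  haveI : (DRing.homCx E (𝟙_ (DRing.Cx A))).IsKProjective :=
    isKProjective_of_bounded _ (-b) (-a) hD1 hD2
  haveI hq : QuasiIso (DRing.homCxMap (DRing.homCx E (𝟙_ (DRing.Cx A))) φ) :=
    Groth.Agent.Helper11.RHomK.quasiIso_homCxMap _ φ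
  haveI : IsIso (ψ E (𝟙_ (DRing.Cx A)) P) := by
    haveI : ∀ m, IsIso ((ψ E (𝟙_ (DRing.Cx A)) P).f m) := fun m =>
      isIso_ψ_f_of_perfect E a b hE hfp _ _ m
    exact HomologicalComplex.Hom.isIso_of_components _
  let i1 : P ⊗ E ≅ DRing.homCx (𝟙_ (DRing.Cx A)) P ⊗ E := whiskerRightIso (unitIso P).symm E
  let i2 : DRing.homCx (𝟙_ (DRing.Cx A)) P ⊗ E ≅
      DRing.homCx (DRing.homCx E (𝟙_ (DRing.Cx A))) P := asIso (ψ E (𝟙_ (DRing.Cx A)) P)
  haveI : IsIso (Q.map (DRing.homCxMap (DRing.homCx E (𝟙_ (DRing.Cx A))) φ)) := by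
    rw [isIso_Q_map_iff_quasiIso]
    exact hq
  let i : Q.obj (P ⊗ E) ≅ Q.obj (DRing.homCx (DRing.homCx E (𝟙_ (DRing.Cx A))) J) :=
    Q.mapIso (i1 ≪≫ i2) ≪≫ asIso (Q.map (DRing.homCxMap (DRing.homCx E (𝟙_ (DRing.Cx A))) φ))
  have hJ' : ROrth f (Q.obj J) := rOrth_of_iso e hP
  exact rOrth_of_iso i.symm (rOrth_Q_homCx _ J f hJ')

theorem topSC_X₃_vanishesAbove (E : DRing.Cx A) (t : ℤ) (hE : ∀ i : ℤ, t < i → IsZero (E.X i)) :
    DRing.VanishesAbove (topSC E t hE).X₃ (t - 1) := by
  intro i hi
  by_cases hit : i = t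
  · subst hit
    exact topSC_X₃_isZero E i hE
  · haveI := topSC_g_isIso E t hE i hit
    exact (hE i (by omega)).of_iso (asIso ((topSC E t hE).g.f i)).symm

theorem topSC_X₃_fp (E : DRing.Cx A) (t : ℤ) (hE : ∀ i : ℤ, t < i → IsZero (E.X i))
    (hfp : DRing.TermwiseFiniteProjective E) :
    DRing.TermwiseFiniteProjective (topSC E t hE).X₃ := by
  intro i
  by_cases hib : i = t
  · subst hib
    have hz := topSC_X₃_isZero E i hE
    haveI : Subsingleton ((topSC E i hE).X₃.X i) := ModuleCat.subsingleton_of_isZero hz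
    exact ⟨inferInstance, inferInstance⟩
  · haveI := topSC_g_isIso E t hE i hib
    let e : E.X i ≃ₗ[A] (topSC E t hE).X₃.X i := (asIso ((topSC E t hE).g.f i)).toLinearEquiv
    haveI : Module.Finite A (E.X i) := (hfp i).1
    haveI : Module.Projective A (E.X i) := (hfp i).2
    exact ⟨Module.Finite.equiv e, Module.Projective.of_equiv e⟩

theorem single_vanishesOutside (N : ModuleCat.{u} A) (t : ℤ) :
    DRing.VanishesOutside
      ((HomologicalComplex.single (ModuleCat.{u} A) (ComplexShape.up ℤ) t).obj N) t t := by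
  intro i hi
  exact HomologicalComplex.isZero_single_obj_X _ _ _ _ (by omega)

theorem single_fp (N : ModuleCat.{u} A) (t : ℤ) [Module.Finite A N] [Module.Projective A N] :
    DRing.TermwiseFiniteProjective
      ((HomologicalComplex.single (ModuleCat.{u} A) (ComplexShape.up ℤ) t).obj N) := by
  intro i
  obtain ⟨hz, h1, h2⟩ := single_props N t
  by_cases hi : i = t
  · subst hi
    exact ⟨h1, h2⟩
  · haveI : Subsingleton (((HomologicalComplex.single (ModuleCat.{u} A)
        (ComplexShape.up ℤ) t).obj N).X i) := ModuleCat.subsingleton_of_isZero (hz i hi)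
    exact ⟨inferInstance, inferInstance⟩

/-- the key induction: vanishing of `Hom(A_f, (P ⊗ E)[n])` for `P` a bounded above derived
complete K-projective complex and `E` a bounded above complex of finite projective modules -/
theorem subsingleton_away_hom_tensor (I : Ideal A) (l : List A)
    (hl : Ideal.span {x : A | x ∈ l} = I)
    (P : DRing.Cx A) [P.IsKProjective] (bP : ℤ) (hPb : DRing.VanishesAbove P bP)
    (hP : DRing.IsDerivedComplete I (Q.obj P)) (f : A) (hf : f ∈ I) (n : ℤ) (k : ℕ) :
    ∀ (E : DRing.Cx A) (t : ℤ), DRing.VanishesAbove E t → DRing.TermwiseFiniteProjective E →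
      t + bP + 1 < n + k →
      Subsingleton (Dual.inD A (Localization.Away f) ⟶ (Q.obj (P ⊗ E))⟦n⟧) := by
  induction k with
  | zero =>
    intro E t hE _ hlt
    apply subsingleton_away_hom f _ n
    · exact subsingleton_HD_Q_of_isZero _ _
        (isZero_tensor_X_of_bddAbove P E bP t hPb hE n (by push_cast at hlt; omega))
    · exact subsingleton_HD_Q_of_isZero _ _
        (isZero_tensor_X_of_bddAbove P E bP t hPb hE (n - 1) (by push_cast at hlt; omega))
  | succ k ih =>
    intro E t hE hfp hlt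
    have hds := dsplit_topSC E t hE
    have hSE := (hds.whiskerLeft P).shortExact
    have hTS := DerivedCategory.triangleOfSES_distinguished hSE
    have h3 : Subsingleton (Dual.inD A (Localization.Away f) ⟶
        (Q.obj (P ⊗ (topSC E t hE).X₃))⟦n⟧) :=
      ih _ (t - 1) (topSC_X₃_vanishesAbove E t hE) (topSC_X₃_fp E t hE hfp)
        (by push_cast at hlt ⊢; omega)
    haveI : Module.Finite A (E.X t) := (hfp t).1
    haveI : Module.Projective A (E.X t) := (hfp t).2
    have h1c : DRing.IsDerivedComplete I (Q.obj (P ⊗ (topSC E t hE).X₁)) := by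
      rw [isDerivedComplete_iff_list l I hl]
      intro g hg
      exact rOrth_Q_tensor_perfect P _ t t (single_vanishesOutside _ t) (single_fp _ t) g
        ((isDerivedComplete_iff_list l I hl _).mp hP g hg)
    have h1 := h1c f hf n
    apply subsingleton_shift_of_neg
    exact subsingleton_obj₂ _ hTS _ (subsingleton_neg_of_shift _ _ n h1)
      (subsingleton_neg_of_shift _ _ n h3)

/-- `X ⊗^L F` is derived complete for `X` derived complete with bounded above cohomology and `F`
a bounded above complex of finite projective modules -/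
theorem isDerivedComplete_LTensorCx (I : Ideal A) (hI : I.FG) (F : DRing.Cx A) (c : ℤ)
    (hFc : DRing.VanishesAbove F c) (hFf : DRing.TermwiseFiniteProjective F)
    [DRing.HasLTensorCx A F] (X : Dual.D A) (hXc : DRing.IsDerivedComplete I X) (b : ℤ)
    (hXb : ∀ i : ℤ, b < i → Subsingleton (Dual.HD A X i)) :
    DRing.IsDerivedComplete I ((DRing.LTensorCx A F).obj X) := by
  classical
  obtain ⟨s, hs⟩ := hI
  have hl : Ideal.span {x : A | x ∈ s.toList} = I := by
    rw [← hs]
    congr 1
    ext x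
    simp
  have hle : X.IsLE b := by
    rw [DerivedCategory.isLE_iff]
    intro i hi
    haveI := hXb i hi
    exact ModuleCat.isZero_of_subsingleton _
  obtain ⟨P, c', hPc, hPp, ⟨e⟩⟩ := Groth.Agent.Helper11.PRT.hasProjRes_of_isLE X b hle
  haveI : P.IsKProjective := isKProjective_of_vanishesAbove P c' hPc hPp
  have hPcomp : DRing.IsDerivedComplete I (Q.obj P) := isDerivedComplete_of_iso I e.symm hXc
  let i : Q.obj (P ⊗ F) ≅ (DRing.LTensorCx A F).obj X :=
    (LTensorCxIso F P).symm ≪≫ (DRing.LTensorCx A F).mapIso e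
  refine isDerivedComplete_of_iso I i ?_
  intro f hf n
  exact subsingleton_away_hom_tensor I s.toList hl P c' hPc hPcomp f hf n
    (c + c' + 2 - n).toNat F c hFc hFf (by
      have := Int.self_le_toNat (c + c' + 2 - n)
      omega)

/-- statement S7103 -/
theorem S7103_statement [IsNoetherianRing A] (I : Ideal A)
    [DRing.HasDerivedCompletion I] (F : DRing.Cx A) (c : ℤ) (hFc : DRing.VanishesAbove F c)
    (hFf : DRing.TermwiseFiniteFree F) [DRing.HasLTensorCx A F]
    (K : Dual.D A) (b : ℤ) (hK : ∀ i : ℤ, b < i → Subsingleton (Dual.HD A K i)) :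
    DRing.IsDerivedComplete I
        ((DRing.LTensorCx A F).obj ((DRing.derivedCompletion I).obj K).obj) ∧
      ∀ E : Dual.D A, DRing.IsDerivedComplete I E →
        Function.Bijective
          (fun φ : (DRing.LTensorCx A F).obj ((DRing.derivedCompletion I).obj K).obj ⟶ E =>
            (DRing.LTensorCx A F).map (DRing.toDerivedCompletion I K) ≫ φ) := by
  classical
  have hI : I.FG := IsNoetherian.noetherian I
  refine ⟨?_, fun E hE =>
    bijective_map_toDerivedCompletion I hI _ (coneHyp_LTensorCx F) K E hE⟩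
  obtain ⟨s, hs⟩ := hI
  have hl : Ideal.span {x : A | x ∈ s.toList} = I := by
    rw [← hs]
    congr 1
    ext x
    simp
  refine isDerivedComplete_LTensorCx I ⟨s, hs⟩ F c hFc
    (fun i => ⟨(hFf i).1, by haveI := (hFf i).2; infer_instance⟩) _
    ((DRing.derivedCompletion I).obj K).property b ?_
  intro i hi
  apply subsingleton_HD_completion_of_list s.toList I hl K i
  intro j _
  exact hK (i + j) (by omega)

end Groth.Agent.Helper11.LTenComp
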