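import Groth.Agent.Lib.Helper11.Dev11
import Groth.Agent.Lib.Helper11.Dev6
import Groth.Agent.Lib.Helper11.DCP8
import Groth.Agent.Lib.Helper11.DCNak
import Groth.Agent.Lib.Helper11.DCHom
import Groth.Agent.Lib.Helper11.DCCompl
import Groth.Agent.Lib.Helper11.KPF2
import Groth.Agent.Lib.Helper11.LTenComp1
import Mathlib.Algebra.Homology.DerivedCategory.HomologySequence

/-!
# Derived Nakayama (helper11)

For a finitely generated ideal `I` and a derived `I`-complete object `K` of `D(A)`:
if `H^i(K ⊗^L A/I) = 0` for all `i > b` then `H^i(K) = 0` for all `i > b`.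

* `Nak.isZero_homology_mappingCone`, `Nak.epi_homologyMap_of_isZero_mappingCone`: the long exact
  sequence of a mapping cone, degree by degree.
* `Nak.shortExact_tens`: `T ⊗ -` of a short exact sequence of modules, `T` termwise flat.
* `Nak.smul_homology_tens`: the action of `f` on `H^i(T ⊗ N)`.
* `Nak.isZero_homology_tens_of_killed_of_quot`: from `A/I` to all modules killed by `I`.
* `Nak.isZero_homology_of_list`: induction on the generators.
* `Nak.subsingleton_HD_of_LTensor_quotient`: the main statement.
-/

set_option autoImplicit false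
set_option linter.unusedSectionVars false
set_option linter.unusedVariables false
set_option linter.style.haveILetI false

open CategoryTheory CategoryTheory.Limits MonoidalCategory CochainComplex Pretriangulated
  DerivedCategory

universe u

attribute [local instance] HasDerivedCategory.standard

namespace Groth.Agent.Helper11.Nak

open Groth.Agent.Helper11.DC Groth.Agent.Helper11.TA Groth.Agent.Helper11.LDer
  Groth.Agent.Helper11.Dev Groth.Agent.Helper11.DCP Groth.Agent.Helper11.KPF
  Groth.Agent.Helper11.LTenComp Groth.Agent.Helper11.PRT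

variable {A : Type u} [CommRing A]

section Cone

variable {X Y : DRing.Cx A} (φ : X ⟶ Y)

/-- the cone of `φ` has no cohomology in degree `n` if `H^n(φ)` is epi and `H^{n+1}(φ)` is mono -/
theorem isZero_homology_mappingCone (n : ℤ)
    (h1 : Epi (HomologicalComplex.homologyMap φ n))
    (h2 : Mono (HomologicalComplex.homologyMap φ (n + 1))) :
    IsZero ((mappingCone φ).homology n) := by
  have hT := DerivedCategory.mappingCone_triangle_distinguished φ
  have e3 := CochainComplex.homologyMap_exact₃_of_distTriang (mappingCone.triangle φ) hT n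
    (n + 1) rfl
  have w2 := CochainComplex.homologyMap_comp_eq_zero_of_distTriang (mappingCone.triangle φ) hT n
  have w1 := CochainComplex.homologyδOfTriangle_homologyMap (mappingCone.triangle φ) hT n
    (n + 1) rfl
  have z2 : HomologicalComplex.homologyMap (mappingCone.triangle φ).mor₂ n = 0 := by
    haveI := h1
    have h : HomologicalComplex.homologyMap φ n ≫
        HomologicalComplex.homologyMap (mappingCone.triangle φ).mor₂ n =
        HomologicalComplex.homologyMap φ n ≫ 0 := by
      rw [comp_zero]
      exact w2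
    exact h1.left_cancellation _ _ h
  have z1 : CochainComplex.homologyδOfTriangle (mappingCone.triangle φ) n (n + 1) rfl = 0 := by
    haveI := h2
    have h : CochainComplex.homologyδOfTriangle (mappingCone.triangle φ) n (n + 1) rfl ≫
        HomologicalComplex.homologyMap φ (n + 1) =
        0 ≫ HomologicalComplex.homologyMap φ (n + 1) := by
      rw [zero_comp]
      exact w1
    exact h2.right_cancellation _ _ h
  exact e3.isZero_X₂ z2 z1

/-- if the cone of `φ` has no cohomology in degree `n` then `H^n(φ)` is epi -/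
theorem epi_homologyMap_of_isZero_mappingCone (n : ℤ)
    (h : IsZero ((mappingCone φ).homology n)) : Epi (HomologicalComplex.homologyMap φ n) := by
  have hT := DerivedCategory.mappingCone_triangle_distinguished φ
  have e2 := CochainComplex.homologyMap_exact₂_of_distTriang (mappingCone.triangle φ) hT n
  exact e2.epi_f (h.eq_of_tgt _ _)

end Cone

section SES

variable {S : ShortComplex (DRing.Cx A)} (hS : S.ShortExact)

include hS

theorem mono_homologyMap_g (n : ℤ) (h : IsZero (S.X₁.homology n)) :
    Mono (HomologicalComplex.homologyMap S.g n) :=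
  (hS.homology_exact₂ n).mono_g (h.eq_of_src _ _)

theorem epi_homologyMap_g (n : ℤ) (h : IsZero (S.X₁.homology (n + 1))) :
    Epi (HomologicalComplex.homologyMap S.g n) :=
  (hS.homology_exact₃ n (n + 1) (by simp)).epi_f (h.eq_of_tgt _ _)

theorem epi_homologyMap_f (n : ℤ) (h : IsZero (S.X₃.homology n)) :
    Epi (HomologicalComplex.homologyMap S.f n) :=
  (hS.homology_exact₂ n).epi_f (h.eq_of_tgt _ _)

theorem mono_homologyMap_f (n : ℤ) (h : IsZero (S.X₃.homology (n - 1))) :
    Mono (HomologicalComplex.homologyMap S.f n) :=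
  (hS.homology_exact₁ (n - 1) n (by simp)).mono_g (h.eq_of_src _ _)

end SES

section Tens

variable (T : DRing.Cx A)

theorem tens_comp_zero {M₁ M₂ M₃ : ModuleCat.{u} A} (f : M₁ ⟶ M₂) (g : M₂ ⟶ M₃)
    (hg : Function.Surjective g.hom) (hfg : Function.Exact f.hom g.hom) :
    (tensMap f).app T ≫ (tensMap g).app T = 0 := by
  ext j : 1
  rw [HomologicalComplex.comp_f, tensMap_app_f, tensMap_app_f, HomologicalComplex.zero_f]
  apply ModuleCat.hom_ext
  apply LinearMap.ext
  intro x
  have h : (LinearMap.lTensor (T.X j) g.hom ∘ₗ LinearMap.lTensor (T.X j) f.hom) x = 0 := by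
    have := (lTensor_exact (T.X j) hfg hg).linearMap_comp_eq_zero
    rw [this]
    rfl
  exact h

/-- `T ⊗ -` of a short exact sequence of modules is a short exact sequence of complexes when `T`
is termwise flat -/
theorem shortExact_tens (hT : ∀ i, Module.Flat A (T.X i))
    {M₁ M₂ M₃ : ModuleCat.{u} A} (f : M₁ ⟶ M₂) (g : M₂ ⟶ M₃)
    (hf : Function.Injective f.hom) (hg : Function.Surjective g.hom)
    (hfg : Function.Exact f.hom g.hom) :
    (ShortComplex.mk ((tensMap f).app T) ((tensMap g).app T)
      (tens_comp_zero T f g hg hfg)).ShortExact := by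
  set S : ShortComplex (DRing.Cx A) := ShortComplex.mk ((tensMap f).app T) ((tensMap g).app T)
    (tens_comp_zero T f g hg hfg) with hSdef
  apply HomologicalComplex.shortExact_of_degreewise_shortExact
  intro j
  haveI := hT j
  have hmono : Mono (S.map (HomologicalComplex.eval _ _ j)).f := by
    rw [ModuleCat.mono_iff_injective]
    exact Module.Flat.lTensor_preserves_injective_linearMap (M := T.X j) f.hom hf
  have hepi : Epi (S.map (HomologicalComplex.eval _ _ j)).g := by
    rw [ModuleCat.epi_iff_surjective]
    exact LinearMap.lTensor_surjective (T.X j) hg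
  have hex : (S.map (HomologicalComplex.eval _ _ j)).Exact := by
    rw [ShortComplex.ShortExact.moduleCat_exact_iff_function_exact]
    exact lTensor_exact (T.X j) hfg hg
  exact { exact := hex, mono_f := hmono, epi_g := hepi }

/-- the action of `f` on `H^i(T ⊗ N)` is epi for `i > b` and mono for `i > b + 1` as soon as
`T ⊗ N[f]` and `T ⊗ N/fN` have no cohomology above `b` -/
theorem smul_homology_tens (hT : ∀ i, Module.Flat A (T.X i)) (f : A) (b : ℤ)
    (N : Type u) [AddCommGroup N] [Module A N]
    (h1 : ∀ i, b < i → IsZero (((tens (ModuleCat.of A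
      (LinearMap.ker (f • (LinearMap.id : N →ₗ[A] N))))).obj T).homology i))
    (h3 : ∀ i, b < i → IsZero (((tens (ModuleCat.of A
      (N ⧸ LinearMap.range (f • (LinearMap.id : N →ₗ[A] N))))).obj T).homology i))
    (i : ℤ) (hi : b < i) :
    Epi (HomologicalComplex.homologyMap (f • 𝟙 ((tens (ModuleCat.of A N)).obj T)) i) ∧
      (b + 1 < i →
        Mono (HomologicalComplex.homologyMap (f • 𝟙 ((tens (ModuleCat.of A N)).obj T)) i)) := by
  set u : N →ₗ[A] N := f • (LinearMap.id : N →ₗ[A] N) with hu
  let i₁ : ModuleCat.of A (LinearMap.ker u) ⟶ ModuleCat.of A N :=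
    ModuleCat.ofHom (LinearMap.ker u).subtype
  let r : ModuleCat.of A N ⟶ ModuleCat.of A (LinearMap.range u) :=
    ModuleCat.ofHom u.rangeRestrict
  let i₂ : ModuleCat.of A (LinearMap.range u) ⟶ ModuleCat.of A N :=
    ModuleCat.ofHom (LinearMap.range u).subtype
  let q : ModuleCat.of A N ⟶ ModuleCat.of A (N ⧸ LinearMap.range u) :=
    ModuleCat.ofHom (LinearMap.range u).mkQ
  have hexa : Function.Exact i₁.hom r.hom := by
    intro y
    constructor
    · intro hy
      exact ⟨⟨y, LinearMap.mem_ker.mpr (congrArg Subtype.val hy)⟩, rfl⟩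
    · rintro ⟨⟨y', hy'⟩, rfl⟩
      exact Subtype.ext (LinearMap.mem_ker.mp hy')
  have hSa := shortExact_tens T hT i₁ r (LinearMap.ker u).injective_subtype
    (LinearMap.surjective_rangeRestrict u) hexa
  have hSb := shortExact_tens T hT i₂ q (LinearMap.range u).injective_subtype
    (LinearMap.range u).mkQ_surjective (LinearMap.exact_subtype_mkQ (LinearMap.range u))
  have hcomp : (tensMap r).app T ≫ (tensMap i₂).app T =
      f • 𝟙 ((tens (ModuleCat.of A N)).obj T) := by
    ext j : 1
    rw [HomologicalComplex.comp_f, tensMap_app_f, tensMap_app_f,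
      HomologicalComplex.smul_f_apply, HomologicalComplex.id_f]
    apply ModuleCat.hom_ext
    apply TensorProduct.ext'
    intro x y
    exact TensorProduct.tmul_smul f x y
  rw [← hcomp, HomologicalComplex.homologyMap_comp]
  constructor
  · haveI := epi_homologyMap_g hSa i (h1 (i + 1) (by omega))
    haveI := epi_homologyMap_f hSb i (h3 i hi)
    exact epi_comp _ _
  · intro hi'
    haveI := mono_homologyMap_g hSa i (h1 i hi)
    haveI := mono_homologyMap_f hSb i (h3 (i - 1) (by omega))
    exact mono_comp _ _

/-- `T ⊗ N` of the cone of `f` on `T` is the cone of `f` on `T ⊗ N` -/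
theorem isZero_homology_tens_cone (N : ModuleCat.{u} A) (f : A) (i : ℤ)
    (h : IsZero ((mappingCone (f • 𝟙 ((tens N).obj T))).homology i)) :
    IsZero (((tens N).obj (mappingCone (f • 𝟙 T))).homology i) := by
  have hmap : (tens N).map (f • 𝟙 T) = f • 𝟙 ((tens N).obj T) := by
    rw [Functor.map_smul, CategoryTheory.Functor.map_id]
  obtain ⟨ψ, hψ, ⟨e⟩⟩ : ∃ ψ : (tens N).obj T ⟶ (tens N).obj T, ψ = f • 𝟙 ((tens N).obj T) ∧
      Nonempty ((tens N).obj (mappingCone (f • 𝟙 T)) ≅ mappingCone ψ) :=
    ⟨_, hmap, ⟨mappingCone.mapHomologicalComplexIso (f • 𝟙 T) (tensorRight N)⟩⟩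
  subst hψ
  exact h.of_iso ((HomologicalComplex.homologyFunctor _ _ i).mapIso e)

/-- `T ⊗ A ≅ T` -/
noncomputable def tensUnitIso : (tens (ModuleCat.of A A)).obj T ≅ T :=
  HomologicalComplex.Hom.isoOfComponents (fun i => ρ_ (T.X i))
    (fun i j _ => (rightUnitor_naturality (T.d i j)).symm)

end Tens

/-- from `A/I` to all modules killed by `I` (via Lemma BC) -/
theorem isZero_homology_tens_of_killed_of_quot (I : Ideal A) (T : DRing.Cx A) [T.IsKProjective]
    (b : ℤ)
    (h : ∀ i, b < i → IsZero (((tens (ModuleCat.of A (A ⧸ I))).obj T).homology i))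
    (N : ModuleCat.{u} A) (hN : I • (⊤ : Submodule A N) = ⊥) (i : ℤ) (hi : b < i) :
    IsZero (((tens N).obj T).homology i) := by
  have h' : ∀ i, b < i → IsZero ((DerivedCategory.homologyFunctor (ModuleCat.{u} (A ⧸ I)) i).obj
      (Q.obj ((esC (Ideal.Quotient.mk I)).obj T))) := fun i hi =>
    ((isZero_homology_tens_quot_iff I T i).mp (h i hi)).of_iso
      ((DerivedCategory.homologyFunctorFactors (ModuleCat.{u} (A ⧸ I)) i).app _)
  obtain ⟨E', hE'b, hE'p, ⟨e⟩⟩ := exists_projRes_vanishesAbove
    (Q.obj ((esC (Ideal.Quotient.mk I)).obj T)) b h'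
  exact isZero_homology_tens_of_killed I T E' b hE'b hE'p e.symm N hN i hi

/-- induction on the generators -/
theorem isZero_homology_of_list (l₀ : List A) (b : ℤ) : ∀ (l : List A), (∀ g ∈ l, g ∈ l₀) →
    ∀ (T : DRing.Cx A), (∀ i, Module.Projective A (T.X i)) → (∀ g ∈ l₀, ROrth g (Q.obj T)) →
    (∀ (N : Type u) [AddCommGroup N] [Module A N], (∀ g ∈ l, ∀ x : N, g • x = 0) →
      ∀ i, b < i → IsZero (((tens (ModuleCat.of A N)).obj T).homology i)) →
    ∀ i, b < i → IsZero (T.homology i) := by
  intro l
  induction l with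
  | nil =>
    intro _ T hTp hTc hN i hi
    have h := hN A (fun g hg => absurd hg (List.not_mem_nil)) i hi
    exact h.of_iso ((HomologicalComplex.homologyFunctor _ _ i).mapIso (tensUnitIso T).symm)
  | cons f l ih =>
    intro hl T hTp hTc hN i hi
    have hTf : ∀ i, Module.Flat A (T.X i) := fun i => by
      haveI := hTp i
      infer_instance
    have hT'p : ∀ i, Module.Projective A ((mappingCone (f • 𝟙 T)).X i) := fun i => by
      haveI := hTp (i + 1)
      haveI := hTp i
      exact Module.Projective.of_equiv (mappingConeXEquiv (f • 𝟙 T) i).symm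
    have hT'c : ∀ g ∈ l₀, ROrth g (Q.obj (mappingCone (f • 𝟙 T))) := fun g hg =>
      rOrth_obj₃ _ (DerivedCategory.mappingCone_triangle_distinguished (f • 𝟙 T)) g
        (hTc g hg) (hTc g hg)
    have hT'N : ∀ (N : Type u) [AddCommGroup N] [Module A N], (∀ g ∈ l, ∀ x : N, g • x = 0) →
        ∀ i, b < i →
          IsZero (((tens (ModuleCat.of A N)).obj (mappingCone (f • 𝟙 T))).homology i) := by
      intro N _ _ hNl i hi
      apply isZero_homology_tens_cone
      have h1 : ∀ i, b < i → IsZero (((tens (ModuleCat.of A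
          (LinearMap.ker (f • (LinearMap.id : N →ₗ[A] N))))).obj T).homology i) := by
        apply hN
        intro g hg x
        rcases List.mem_cons.mp hg with rfl | hg
        · exact Subtype.ext (LinearMap.mem_ker.mp x.2)
        · exact Subtype.ext (hNl g hg x.1)
      have h3 : ∀ i, b < i → IsZero (((tens (ModuleCat.of A
          (N ⧸ LinearMap.range (f • (LinearMap.id : N →ₗ[A] N))))).obj T).homology i) := by
        apply hN
        intro g hg y
        obtain ⟨x, rfl⟩ := Submodule.mkQ_surjective _ y
        rcases List.mem_cons.mp hg with rfl | hg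
        · rw [← map_smul, Submodule.mkQ_apply, Submodule.Quotient.mk_eq_zero]
          exact ⟨x, rfl⟩
        · rw [← map_smul, hNl g hg x, map_zero]
      have key := smul_homology_tens T hTf f b N h1 h3
      exact isZero_homology_mappingCone _ i (key i hi).1
        ((key (i + 1) (by omega)).2 (by omega))
    have hT' := ih (fun g hg => hl g (List.mem_cons_of_mem _ hg)) (mappingCone (f • 𝟙 T))
      hT'p hT'c hT'N
    have hepi := epi_homologyMap_of_isZero_mappingCone (f • 𝟙 T) i (hT' i hi)
    have hm : HomologicalComplex.homologyMap (f • 𝟙 T) i = f • 𝟙 (T.homology i) := by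
      show (HomologicalComplex.homologyFunctor _ _ i).map (f • 𝟙 T) = _
      rw [Functor.map_smul, CategoryTheory.Functor.map_id]
      rfl
    rw [hm, ModuleCat.epi_iff_surjective] at hepi
    have hf : f ∈ l₀ := hl f (List.mem_cons_self ..)
    have hTf' := (away_hom_vanish_iff_all f (Q.obj T)).mp
      (fComplete_of_rOrth f _ (hTc f hf)) i
    let E : Dual.HD A (Q.obj T) i ≃ₗ[A] T.homology i :=
      ((DerivedCategory.homologyFunctorFactors (ModuleCat.{u} A) i).app T).toLinearEquiv
    have hdiv : ∀ m : Dual.HD A (Q.obj T) i, ∃ m' : Dual.HD A (Q.obj T) i, m = f • m' := by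
      intro m
      obtain ⟨y, hy⟩ := hepi (E m)
      refine ⟨E.symm y, ?_⟩
      have hy' : f • y = E m := hy
      rw [← map_smul, hy', E.symm_apply_apply]
    have hz : ∀ m : Dual.HD A (Q.obj T) i, m = 0 := eq_zero_of_divisible f hTf'.1 hdiv
    haveI : Subsingleton (Dual.HD A (Q.obj T) i) := ⟨fun a b => by rw [hz a, hz b]⟩
    have hz0 : IsZero ((DerivedCategory.homologyFunctor (ModuleCat.{u} A) i).obj (Q.obj T)) :=
      ModuleCat.isZero_of_subsingleton _
    exact hz0.of_iso ((DerivedCategory.homologyFunctorFactors (ModuleCat.{u} A) i).app T).symm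

/-- **Derived Nakayama.** If `K` is derived complete with respect to the finitely generated ideal
`I` and `K ⊗^L A/I` has no cohomology above `b`, then `K` has no cohomology above `b`. -/
theorem subsingleton_HD_of_LTensor_quotient (I : Ideal A) (hI : I.FG)
    [DRing.HasLTensor A (ModuleCat.of A (A ⧸ I))] (K : Dual.D A)
    (hc : DRing.IsDerivedComplete I K) (b : ℤ)
    (h : ∀ i : ℤ, b < i → Subsingleton
      (Dual.HD A ((DRing.LTensor A (ModuleCat.of A (A ⧸ I))).obj K) i)) :
    ∀ i : ℤ, b < i → Subsingleton (Dual.HD A K i) := by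
  classical
  obtain ⟨s, hs⟩ := hI
  have hl : Ideal.span {x : A | x ∈ s.toList} = I := by
    rw [← hs]
    congr 1
    ext x
    simp
  obtain ⟨T, F, hTk, hTp, hTf, hF⟩ := exists_kprojective_kflat_resolution (Q.objPreimage K)
  haveI := hTk
  haveI : IsIso (Q.map F) := (DerivedCategory.isIso_Q_map_iff_quasiIso (φ := F)).mpr hF
  let e : Q.obj T ≅ K := asIso (Q.map F) ≪≫ Q.objObjPreimageIso K
  have h0 : ∀ i, b < i → IsZero (((tens (ModuleCat.of A (A ⧸ I))).obj T).homology i) :=
    fun i hi => (subsingleton_HD_LTensor_iff _ T K e i).mp (h i hi)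
  have hcT : ∀ g ∈ s.toList, ROrth g (Q.obj T) :=
    (isDerivedComplete_iff_list s.toList I hl (Q.obj T)).mp (isDerivedComplete_of_iso I e.symm hc)
  have hN : ∀ (N : Type u) [AddCommGroup N] [Module A N],
      (∀ g ∈ s.toList, ∀ x : N, g • x = 0) →
      ∀ i, b < i → IsZero (((tens (ModuleCat.of A N)).obj T).homology i) := by
    intro N _ _ hNl i hi
    have hkill : I • (⊤ : Submodule A (ModuleCat.of A N)) = ⊥ := by
      rw [eq_bot_iff, Submodule.smul_le]
      intro r hr n _
      rw [Submodule.mem_bot]
      have hle : Ideal.span {x : A | x ∈ s.toList} ≤ Module.annihilator A N :=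
        Ideal.span_le.mpr (fun g hg => Module.mem_annihilator.mpr (hNl g hg))
      exact Module.mem_annihilator.mp (hle (hl ▸ hr)) n
    exact isZero_homology_tens_of_killed_of_quot I T b h0 (ModuleCat.of A N) hkill i hi
  have hT := isZero_homology_of_list s.toList b s.toList (fun g hg => hg) T hTp hcT hN
  intro i hi
  rw [← ModuleCat.isZero_iff_subsingleton]
  exact (hT i hi).of_iso ((DerivedCategory.homologyFunctor (ModuleCat.{u} A) i).mapIso e.symm ≪≫
    (DerivedCategory.homologyFunctorFactors (ModuleCat.{u} A) i).app T)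

end Groth.Agent.Helper11.Nak
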