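import Groth.Agent.Lib.Helper11.DCPerfHom
import Groth.Agent.Lib.Helper11.DCStupid
import Mathlib.Algebra.Homology.Double

/-!
Trimming the top term of a complex whose top differential is a split epimorphism.
-/

open CategoryTheory Category Limits Pretriangulated DerivedCategory ZeroObject

attribute [local instance] HasDerivedCategory.standard

universe u

namespace Groth.Agent.Helper11.DC

variable {R : Type u} [CommRing R]

section Trim

theorem trim_rel (b : ℤ) : (ComplexShape.up ℤ).Rel (b - 1) b := by simp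

theorem trim_ne (b : ℤ) : b - 1 ≠ b := by omega

variable (C : DRing.Cx R) (b : ℤ) (hb : ∀ i : ℤ, b < i → IsZero (C.X i))
  (s : C.X b ⟶ C.X (b - 1)) (hs : s ≫ C.d (b - 1) b = 𝟙 (C.X b))

/-- The contractible complex `C^b = C^b` in degrees `b-1, b`. -/
noncomputable abbrev trimD : DRing.Cx R := HomologicalComplex.double (𝟙 (C.X b)) (trim_rel b)

/-- The inclusion of `trimD` in `C` given by a section of the top differential. -/
noncomputable def trimIncl : trimD C b ⟶ C :=
  HomologicalComplex.mkHomFromDouble (trim_rel b) (trim_ne b) s (𝟙 _) (by rw [hs]; simp)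
    (fun k hk => (hb k (by
      have : b + 1 = k := hk
      omega)).eq_of_tgt _ _)

theorem trimIncl_f₀ : (trimIncl C b hb s hs).f (b - 1) =
    (HomologicalComplex.doubleXIso₀ (𝟙 (C.X b)) (trim_rel b)).hom ≫ s :=
  HomologicalComplex.mkHomFromDouble_f₀ _ _ _ _ _ _

theorem trimIncl_f₁ : (trimIncl C b hb s hs).f b =
    (HomologicalComplex.doubleXIso₁ (𝟙 (C.X b)) (trim_rel b) (trim_ne b)).hom := by
  rw [trimIncl, HomologicalComplex.mkHomFromDouble_f₁, comp_id]

theorem trimD_isZero (i : ℤ) (h₀ : i ≠ b - 1) (h₁ : i ≠ b) : IsZero ((trimD C b).X i) :=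
  HomologicalComplex.isZero_double_X _ _ i h₀ h₁

/-- Degreewise retractions of `trimIncl`. -/
theorem trimIncl_retraction (i : ℤ) :
    ∃ r : C.X i ⟶ (trimD C b).X i, (trimIncl C b hb s hs).f i ≫ r = 𝟙 _ := by
  by_cases h₀ : i = b - 1
  · subst h₀
    refine ⟨C.d (b - 1) b ≫ (HomologicalComplex.doubleXIso₀ (𝟙 (C.X b)) (trim_rel b)).inv, ?_⟩
    rw [trimIncl_f₀, assoc, reassoc_of% hs, Iso.hom_inv_id]
  · by_cases h₁ : i = b
    · subst h₁
      refine ⟨(HomologicalComplex.doubleXIso₁ (𝟙 (C.X i)) (trim_rel i) (trim_ne i)).inv, ?_⟩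
      rw [trimIncl_f₁, Iso.hom_inv_id]
    · exact ⟨0, (trimD_isZero C b i h₀ h₁).eq_of_src _ _⟩

instance : Mono (trimIncl C b hb s hs) := by
  apply (config := { allowSynthFailures := true }) HomologicalComplex.mono_of_mono_f
  intro i
  obtain ⟨r, hr⟩ := trimIncl_retraction C b hb s hs i
  exact mono_of_mono_fac hr

/-- The short complex `trimD → C → C'`. -/
noncomputable def trimSC : ShortComplex (DRing.Cx R) :=
  ShortComplex.mk (trimIncl C b hb s hs) (cokernel.π (trimIncl C b hb s hs))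
    (cokernel.condition _)

theorem trimSC_shortExact : (trimSC C b hb s hs).ShortExact :=
  { exact := ShortComplex.exact_cokernel _
    mono_f := by dsimp [trimSC]; infer_instance
    epi_g := by dsimp [trimSC]; infer_instance }

theorem trimSC_eval_shortExact (i : ℤ) :
    ((trimSC C b hb s hs).map (HomologicalComplex.eval _ _ i)).ShortExact :=
  (trimSC_shortExact C b hb s hs).map_of_exact _

theorem trimSC_X₃_isZero : IsZero ((trimSC C b hb s hs).X₃.X b) := by
  have h := (trimSC_eval_shortExact C b hb s hs b).isIso_f_iff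
  refine h.mp ?_
  change IsIso ((trimIncl C b hb s hs).f b)
  rw [trimIncl_f₁]
  infer_instance

theorem trimSC_g_isIso (i : ℤ) (h₀ : i ≠ b - 1) (h₁ : i ≠ b) :
    IsIso ((trimSC C b hb s hs).g.f i) :=
  (trimSC_eval_shortExact C b hb s hs i).isIso_g_iff.mpr (trimD_isZero C b i h₀ h₁)

theorem trimSC_section (i : ℤ) :
    ∃ σ : (trimSC C b hb s hs).X₃.X i ⟶ C.X i, σ ≫ (trimSC C b hb s hs).g.f i = 𝟙 _ := by
  obtain ⟨r, hr⟩ := trimIncl_retraction C b hb s hs i
  have hS := trimSC_eval_shortExact C b hb s hs i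
  have := hS.epi_g
  let spl := ShortComplex.Splitting.ofExactOfRetraction _ hS.exact r hr this
  exact ⟨spl.s, spl.s_g⟩

theorem trimD_exactAt (k : ℤ) : (trimD C b).ExactAt k := by
  by_cases h₁ : k = b
  · subst h₁
    rw [HomologicalComplex.exactAt_iff' _ (k - 1) k (k + 1) (by simp) (by simp)]
    rw [ShortComplex.exact_iff_epi _ (by
      change (trimD C k).d k (k + 1) = 0
      exact HomologicalComplex.double_d_eq_zero₀ (𝟙 (C.X k)) (trim_rel k) k (k + 1) (by omega))]
    change Epi ((trimD C k).d (k - 1) k)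
    rw [HomologicalComplex.double_d _ _ (trim_ne k)]
    infer_instance
  · by_cases h₀ : k = b - 1
    · subst h₀
      rw [HomologicalComplex.exactAt_iff' _ (b - 1 - 1) (b - 1) b (by simp) (by simp)]
      rw [ShortComplex.exact_iff_mono _ (by
        change (trimD C b).d (b - 1 - 1) (b - 1) = 0
        exact HomologicalComplex.double_d_eq_zero₁ (𝟙 (C.X b)) (trim_rel b) (b - 1 - 1) (b - 1)
          (by omega))]
      change Mono ((trimD C b).d (b - 1) b)
      rw [HomologicalComplex.double_d _ _ (trim_ne b)]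
      infer_instance
    · exact ShortComplex.exact_of_isZero_X₂ _ (trimD_isZero C b k h₀ h₁)

theorem trimD_Q_isZero : IsZero (Q.obj (trimD C b)) := by
  apply isZero_of_homology
  intro n
  refine IsZero.of_iso ?_ ((homologyFunctorFactors (ModuleCat.{u} R) n).app (trimD C b))
  exact (HomologicalComplex.exactAt_iff_isZero_homology _ _).mp (trimD_exactAt C b n)

theorem trimSC_Q_g_isIso : IsIso (Q.map (trimSC C b hb s hs).g) := by
  have hT := triangleOfSES_distinguished (trimSC_shortExact C b hb s hs)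
  exact (Triangle.isZero₁_iff_isIso₂ _ hT).mp (trimD_Q_isZero C b)

end Trim

/-- `π : E ⟶ E'` is an isomorphism in `D(R)` and each term of `E'` is a retract of the
corresponding term of `E`. -/
structure IsTrim {E E' : DRing.Cx R} (π : E ⟶ E') : Prop where
  iso : IsIso (Q.map π)
  sec : ∀ i : ℤ, ∃ σ : E'.X i ⟶ E.X i, σ ≫ π.f i = 𝟙 _

theorem IsTrim.id (E : DRing.Cx R) : IsTrim (𝟙 E) where
  iso := by
    rw [CategoryTheory.Functor.map_id]
    infer_instance
  sec i := ⟨𝟙 _, by simp⟩

theorem IsTrim.comp {E E' E'' : DRing.Cx R} {π : E ⟶ E'} {π' : E' ⟶ E''} (h : IsTrim π)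
    (h' : IsTrim π') : IsTrim (π ≫ π') where
  iso := by
    have := h.iso
    have := h'.iso
    rw [Functor.map_comp]
    infer_instance
  sec i := by
    obtain ⟨σ, hσ⟩ := h.sec i
    obtain ⟨σ', hσ'⟩ := h'.sec i
    refine ⟨σ' ≫ σ, ?_⟩
    rw [HomologicalComplex.comp_f, assoc, reassoc_of% hσ, hσ']

theorem IsTrim.isZero {E E' : DRing.Cx R} {π : E ⟶ E'} (h : IsTrim π) (i : ℤ)
    (hi : IsZero (E.X i)) : IsZero (E'.X i) := by
  obtain ⟨σ, hσ⟩ := h.sec i
  rw [IsZero.iff_id_eq_zero, ← hσ, hi.eq_of_tgt σ 0, zero_comp]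

theorem IsTrim.projective {E E' : DRing.Cx R} {π : E ⟶ E'} (h : IsTrim π) (i : ℤ)
    (hi : Module.Projective R (E.X i)) : Module.Projective R (E'.X i) := by
  obtain ⟨σ, hσ⟩ := h.sec i
  refine Module.Projective.of_split σ.hom (π.f i).hom ?_
  ext x
  exact congr($(hσ).hom x)

theorem IsTrim.finite {E E' : DRing.Cx R} {π : E ⟶ E'} (h : IsTrim π) (i : ℤ)
    (hi : Module.Finite R (E.X i)) : Module.Finite R (E'.X i) := by
  obtain ⟨σ, hσ⟩ := h.sec i
  refine Module.Finite.of_surjective (π.f i).hom (fun x => ⟨σ.hom x, ?_⟩)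
  exact congr($(hσ).hom x)

theorem IsTrim.homology_iso {E E' : DRing.Cx R} {π : E ⟶ E'} (h : IsTrim π) (n : ℤ) :
    Nonempty ((homologyFunctor (ModuleCat.{u} R) n).obj (Q.obj E) ≅
      (homologyFunctor (ModuleCat.{u} R) n).obj (Q.obj E')) := by
  have := h.iso
  exact ⟨(homologyFunctor (ModuleCat.{u} R) n).mapIso (asIso (Q.map π))⟩

/-- Trimming the top term. -/
theorem trim_top (C : DRing.Cx R) (b : ℤ) (hb : ∀ i : ℤ, b < i → IsZero (C.X i))
    (hsurj : Function.Surjective (C.d (b - 1) b).hom) (hproj : Module.Projective R (C.X b)) :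
    ∃ (C' : DRing.Cx R) (π : C ⟶ C'), IsTrim π ∧ IsZero (C'.X b) ∧
      ∀ i : ℤ, i ≠ b - 1 → i ≠ b → IsIso (π.f i) := by
  obtain ⟨s', hs'⟩ := Module.projective_lifting_property (C.d (b - 1) b).hom LinearMap.id hsurj
  have hs : ModuleCat.ofHom s' ≫ C.d (b - 1) b = 𝟙 (C.X b) := by
    ext x
    exact congr($hs' x)
  exact ⟨_, (trimSC C b hb _ hs).g, ⟨trimSC_Q_g_isIso C b hb _ hs, trimSC_section C b hb _ hs⟩,
    trimSC_X₃_isZero C b hb _ hs, trimSC_g_isIso C b hb _ hs⟩

theorem exactAt_of_homology_isZero (E : DRing.Cx R) (b : ℤ)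
    (h : IsZero ((homologyFunctor (ModuleCat.{u} R) b).obj (Q.obj E))) : E.ExactAt b := by
  rw [HomologicalComplex.exactAt_iff_isZero_homology]
  exact IsZero.of_iso h ((homologyFunctorFactors (ModuleCat.{u} R) b).app E).symm

theorem range_eq_ker_of_homology_isZero (E : DRing.Cx R) (b : ℤ)
    (h : IsZero ((homologyFunctor (ModuleCat.{u} R) b).obj (Q.obj E))) :
    LinearMap.range (E.d (b - 1) b).hom = LinearMap.ker (E.d b (b + 1)).hom := by
  have h1 := exactAt_of_homology_isZero E b h
  rw [HomologicalComplex.exactAt_iff' _ (b - 1) b (b + 1) (by simp) (by simp)] at h1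
  exact (ShortComplex.moduleCat_exact_iff_range_eq_ker _).mp h1

theorem surjective_of_homology_isZero (E : DRing.Cx R) (b : ℤ)
    (hb : ∀ i : ℤ, b < i → IsZero (E.X i))
    (h : IsZero ((homologyFunctor (ModuleCat.{u} R) b).obj (Q.obj E))) :
    Function.Surjective (E.d (b - 1) b).hom := by
  have h1 := range_eq_ker_of_homology_isZero E b h
  have h2 : (E.d b (b + 1)) = 0 := (hb (b + 1) (by omega)).eq_of_tgt _ _
  rw [h2] at h1
  rw [← LinearMap.range_eq_top, h1]
  ext x
  simp

/-- Trimming a bounded above complex of projectives with no cohomology above `m`. -/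
theorem trim_to (n : ℕ) : ∀ (E : DRing.Cx R) (m b : ℤ), b ≤ m + n →
    (∀ i : ℤ, b < i → IsZero (E.X i)) → (∀ i : ℤ, Module.Projective R (E.X i)) →
    (∀ i : ℤ, m < i → IsZero ((homologyFunctor (ModuleCat.{u} R) i).obj (Q.obj E))) →
    ∃ (E' : DRing.Cx R) (π : E ⟶ E'), IsTrim π ∧ (∀ i : ℤ, m < i → IsZero (E'.X i)) ∧
      ∀ i : ℤ, i < m → IsIso (π.f i) := by
  induction n with
  | zero =>
    intro E m b hbm hb _ _
    exact ⟨E, 𝟙 E, IsTrim.id E, fun i hi => hb i (by omega), fun i _ => by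
      rw [HomologicalComplex.id_f]
      infer_instance⟩
  | succ n ih =>
    intro E m b hbm hb hproj hH
    by_cases hbm' : b ≤ m
    · exact ⟨E, 𝟙 E, IsTrim.id E, fun i hi => hb i (by omega), fun i _ => by
        rw [HomologicalComplex.id_f]
        infer_instance⟩
    · obtain ⟨E₁, π₁, hπ₁, hz₁, hiso₁⟩ := trim_top E b hb
        (surjective_of_homology_isZero E b hb (hH b (by omega))) (hproj b)
      obtain ⟨E₂, π₂, hπ₂, hz₂, hiso₂⟩ := ih E₁ m (b - 1) (by omega)
        (fun i hi => by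
          by_cases hib : i = b
          · subst hib
            exact hz₁
          · exact hπ₁.isZero i (hb i (by omega)))
        (fun i => hπ₁.projective i (hproj i))
        (fun i hi => by
          obtain ⟨e⟩ := hπ₁.homology_iso i
          exact (hH i hi).of_iso e.symm)
      refine ⟨E₂, π₁ ≫ π₂, hπ₁.comp hπ₂, hz₂, fun i hi => ?_⟩
      have := hiso₁ i (by omega) (by omega)
      have := hiso₂ i hi
      rw [HomologicalComplex.comp_f]
      infer_instance

end Groth.Agent.Helper11.DC
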