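import Groth.Agent.Lib.Helper11.ProjResTower
import Groth.Agent.Lib.Helper11.LDer4
import Groth.Agent.Lib.Helper11.DCFlatBC
import Groth.Agent.Lib.Helper11.DCTrim

/-!
Derived base change preserves `m`-pseudo-coherence (helper11).
-/

set_option autoImplicit false

open CategoryTheory Category Limits Pretriangulated DerivedCategory ZeroObject

attribute [local instance] HasDerivedCategory.standard

universe u

namespace Groth.Agent.Helper11.PcBC

open Groth.Agent.Helper11.DC Groth.Agent.Helper11.MPC Groth.Agent.Helper11.TA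
  Groth.Agent.Helper11.LDer Groth.Agent.Helper11.PRT

variable {R : Type u} [CommRing R]

/-- converse of `cone_isLE'` -/
theorem approx_of_cone_isLE {m : ℤ} (T : Triangle (Dual.D R)) (hT : T ∈ distTriang (Dual.D R))
    (h : T.obj₃.IsLE (m - 1)) :
    (∀ i : ℤ, m < i → IsIso ((Hf R i).map T.mor₁)) ∧ Epi ((Hf R m).map T.mor₁) := by
  rw [isLE_iff] at h
  have hepi : ∀ i : ℤ, m ≤ i → Epi ((Hf R i).map T.mor₁) := by
    intro i hi
    refine (HomologySequence.epi_homologyMap_mor₁_iff _ hT i).mpr ?_
    exact (h i (by omega)).eq_of_tgt _ _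
  refine ⟨fun i hi => ?_, hepi m le_rfl⟩
  haveI := hepi i hi.le
  haveI : Mono ((Hf R i).map T.mor₁) := by
    refine (HomologySequence.mono_homologyMap_mor₁_iff _ hT (i - 1) i (by omega)).mpr ?_
    exact (h (i - 1) (by omega)).eq_of_src _ _
  exact isIso_of_mono_of_epi _

theorem isLE_of_vanishesAbove (C : DRing.Cx R) (n : ℤ) (h : ∀ i : ℤ, n < i → IsZero (C.X i)) :
    (Q.obj C).IsLE n := by
  rw [isLE_iff]
  intro i hi
  exact isZero_homology_of_isZero_X C i (h i hi)

variable {A B : Type u} [CommRing A] [CommRing B] (φ : A →+* B)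

theorem mpc_esC_of_lift (E P : DRing.Cx A) (a b c m : ℤ) (ψ : E ⟶ P)
    (hvo : DRing.VanishesOutside E a b) (hff : DRing.TermwiseFiniteFree E)
    (hc : DRing.VanishesAbove P c) (hp : ∀ i, Module.Projective A (P.X i))
    (hiso : ∀ i : ℤ, m < i → IsIso ((Hf A i).map (Q.map ψ)))
    (hepi : Epi ((Hf A m).map (Q.map ψ))) :
    DRing.IsPseudoCoherent B m (Q.obj ((esC φ).obj P)) := by
  have hEproj : ∀ i, Module.Projective A (E.X i) := fun i => by
    haveI := (hff i).2
    infer_instance
  have hT := mappingCone_triangle_distinguished ψ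
  have hCle : (Q.obj (CochainComplex.mappingCone ψ)).IsLE (m - 1) :=
    cone_isLE' _ hT hiso hepi
  -- the cone is bounded above with projective terms
  have hCvan : ∀ i : ℤ, max b c < i → IsZero ((CochainComplex.mappingCone ψ).X i) := by
    intro i hi
    exact mappingCone_isZero ψ i (hvo _ (Or.inr (by omega))) (hc i (by omega))
  have hCproj : ∀ i : ℤ, Module.Projective A ((CochainComplex.mappingCone ψ).X i) := by
    intro i
    haveI := hEproj (i + 1)
    haveI := hp i
    exact Module.Projective.of_equiv (mappingConeXEquiv ψ i).symm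
  obtain ⟨C', π, hπ, hz, -⟩ := trim_to (max b c - (m - 1)).toNat (CochainComplex.mappingCone ψ)
    (m - 1) (max b c) (by omega) hCvan hCproj (by
      rw [isLE_iff] at hCle
      exact hCle)
  have hC'proj : ∀ i : ℤ, Module.Projective A (C'.X i) := fun i => hπ.projective i (hCproj i)
  haveI : IsIso (Q.map ((esC φ).map π)) :=
    isIso_Q_map_esC_of_flat φ _ C' (max b c) (m - 1) hCvan hz
      (fun i => by haveI := hCproj i; infer_instance)
      (fun i => by haveI := hC'proj i; infer_instance) π hπ.iso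
  have hle' : (Q.obj ((esC φ).obj C')).IsLE (m - 1) :=
    isLE_of_vanishesAbove _ _ (fun i hi => (es φ).map_isZero (hz i hi))
  have hle : (Q.obj (CochainComplex.mappingCone ((esC φ).map ψ))).IsLE (m - 1) := by
    refine TStructure.t.isLE_of_iso (?_ : Q.obj ((esC φ).obj C') ≅ _) (m - 1)
    exact (asIso (Q.map ((esC φ).map π))).symm ≪≫
      Q.mapIso (CochainComplex.mappingCone.mapHomologicalComplexIso ψ (es φ))
  obtain ⟨hiso', hepi'⟩ := approx_of_cone_isLE _
    (mappingCone_triangle_distinguished ((esC φ).map ψ)) hle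
  refine ⟨(esC φ).obj E, a, b, Q.map ((esC φ).map ψ), ?_, ?_, hiso', hepi'⟩
  · intro i hi
    exact (es φ).map_isZero (hvo i hi)
  · intro i
    haveI := (hff i).1
    haveI := (hff i).2
    exact ⟨es_finite φ (E.X i), es_free φ (E.X i)⟩

/-- derived base change preserves `m`-pseudo-coherence -/
theorem mpc_LBaseChange [DRing.HasLBaseChange φ]
    (K : Dual.D A) (m : ℤ) (hK : DRing.IsPseudoCoherent A m K) :
    DRing.IsPseudoCoherent B m ((DRing.LBaseChange φ).obj K) := by
  obtain ⟨c, hc⟩ := exists_isLE_of_mpc hK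
  obtain ⟨P, c', hc', hp, ⟨e⟩⟩ := hasProjRes_of_isLE K c hc
  obtain ⟨E, a, b, α, hvo, hff, hiso, hepi⟩ := hK
  have hEproj : ∀ i, Module.Projective A (E.X i) := fun i => by
    haveI := (hff i).2
    infer_instance
  haveI : E.IsKProjective :=
    isKProjective_of_vanishesAbove E b (fun i hi => hvo i (Or.inr hi)) hEproj
  obtain ⟨ψ, hψ⟩ := exists_lift_of_isKProjective E P (α ≫ e.inv)
  obtain ⟨eL⟩ := nonempty_LBaseChange_iso_of_projRes φ K P c' hc' hp e
  refine mpc_of_iso eL.symm ?_
  refine mpc_esC_of_lift φ E P a b c' m ψ hvo hff hc' hp ?_ ?_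
  · intro i hi
    rw [hψ, Functor.map_comp]
    haveI := hiso i hi
    infer_instance
  · rw [hψ, Functor.map_comp]
    haveI := hepi
    infer_instance

end Groth.Agent.Helper11.PcBC
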