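import Groth.Agent.Lib.Helper11.AdicDC1
import Groth.Agent.Lib.Helper11.LTenComp2
import Groth.Agent.Lib.Helper11.LDer4
import Groth.Agent.Lib.Helper11.DCExactH
import Groth.Agent.Lib.Helper11.Nak1
import Groth.Agent.Lib.Helper3.KP1
import Groth.Agent.Lib.Helper11.ProjResTower
import Groth.Agent.Lib.Helper11.GM1
import Groth.Agent.Lib.Helper11.PcBC

/-!
# Derived completion of a bounded above complex of finite flat modules over a Noetherian ring
(helper11)

For `F` a bounded above complex of finite flat `A`-modules, `F ⟶ F ⊗ Â` (termwise) is the derived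
completion of `F`, and it induces the adic completion on cohomology.
-/

set_option autoImplicit false
set_option linter.unusedSectionVars false
set_option linter.unusedVariables false
set_option linter.style.haveILetI false

universe u

open CategoryTheory CategoryTheory.Limits MonoidalCategory CochainComplex Pretriangulated
  DerivedCategory
open scoped TensorProduct

attribute [local instance] HasDerivedCategory.standard

namespace Groth.Agent.Helper11.AdicDC

open Groth.Agent.Helper11.DC Groth.Agent.Helper11.TA Groth.Agent.Helper11.LDer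
  Groth.Agent.Helper11.DCP Groth.Agent.Helper11.GM Groth.Agent.Helper11.PRT
  Groth.Agent.Helper11.LTenComp

variable {A : Type u} [CommRing A] (I : Ideal A)

/-- the termwise map `F ⟶ F ⊗ Â` -/
noncomputable def uCx (F : DRing.Cx A) : F ⟶ (tens (Nhat I)).obj F where
  f i := (υ I).app (F.X i)
  comm' i j _ := ((υ I).naturality (F.d i j)).symm

/-- derived Nakayama -/
theorem isZero_of_isZero_LTensor_quotient (hI : I.FG)
    [DRing.HasLTensor A (ModuleCat.of A (A ⧸ I))]
    (K : Dual.D A) (hc : DRing.IsDerivedComplete I K)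
    (h0 : IsZero ((DRing.LTensor A (ModuleCat.of A (A ⧸ I))).obj K)) : IsZero K := by
  apply Groth.Agent.Helper11.DC.isZero_of_homology_isZero
  intro n
  rw [ModuleCat.isZero_iff_subsingleton]
  refine Groth.Agent.Helper11.Nak.subsingleton_HD_of_LTensor_quotient I hI K hc (n - 1)
    (fun i _ => ?_) n (by omega)
  rw [← ModuleCat.isZero_iff_subsingleton]
  exact (DerivedCategory.homologyFunctor (ModuleCat.{u} A) i).map_isZero h0

section Noeth

variable [IsNoetherianRing A]

theorem isDerivedComplete_Q_tens_Nhat (F : DRing.Cx A) (hF : ∀ i, Module.Finite A (F.X i)) :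
    DRing.IsDerivedComplete I (Q.obj ((tens (Nhat I)).obj F)) :=
  isDerivedComplete_of_termwise I ((tens (Nhat I)).obj F)
    (fun i f hf => by
      haveI := hF i
      exact tf_tensor_Nhat I (F.X i) f hf) _ (Iso.refl _)

theorem isIso_tens_map_uCx (F : DRing.Cx A) (Z : ModuleCat.{u} A) [Module.Finite A Z]
    (hZ : ∀ r ∈ I, ∀ z : Z, r • z = 0) : IsIso ((tens Z).map (uCx I F)) := by
  haveI : ∀ i, IsIso (((tens Z).map (uCx I F)).f i) :=
    fun i => isIso_υ_app_whiskerRight I (F.X i) Z hZ
  exact HomologicalComplex.Hom.isIso_of_components _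

theorem isZero_LTensor_cone (F : DRing.Cx A) (b : ℤ) (hb : DRing.VanishesAbove F b)
    (hfl : ∀ i, Module.Flat A (F.X i)) (Z : ModuleCat.{u} A) [Module.Finite A Z]
    (hZ : ∀ r ∈ I, ∀ z : Z, r • z = 0) [DRing.HasLTensor A Z] :
    IsZero ((DRing.LTensor A Z).obj (Q.obj (mappingCone (uCx I F)))) := by
  have hCb : DRing.VanishesAbove (mappingCone (uCx I F)) b := by
    intro i hi
    exact mappingCone_isZero (uCx I F) i (hb _ (by omega)) (tens_isZero _ F i (hb i hi))
  have hCf : ∀ i, Module.Flat A ((mappingCone (uCx I F)).X i) := by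
    intro i
    haveI := hfl (i + 1)
    haveI := hfl i
    haveI : Module.Flat A (((tens (Nhat I)).obj F).X i) := flat_tensor_Nhat I (F.X i)
    haveI := flat_prod (R := A) (F.X (i + 1)) (((tens (Nhat I)).obj F).X i)
    exact Module.Flat.of_linearEquiv (mappingConeXEquiv (uCx I F) i)
  have hres : HasProjRes (Q.obj (mappingCone (uCx I F))) :=
    hasProjRes_of_isLE _ b (Groth.Agent.Helper11.PcBC.isLE_of_vanishesAbove _ b hCb)
  obtain ⟨e⟩ := nonempty_LTensor_iso_of_flat Z (mappingCone (uCx I F)) b hCb hCf hres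
  refine IsZero.of_iso ?_ e
  have e2 := mappingCone.mapHomologicalComplexIso (uCx I F) (tensorRight Z)
  refine IsZero.of_iso ?_ (Q.mapIso e2)
  haveI := isIso_tens_map_uCx I F Z hZ
  have hT := DerivedCategory.mappingCone_triangle_distinguished ((tens Z).map (uCx I F))
  have hiso : IsIso (Q.map ((tens Z).map (uCx I F))) := Functor.map_isIso Q _
  exact (Triangle.isZero₃_iff_isIso₁ _ hT).mpr hiso

theorem isZero_completion_of_isZero_LTensor [DRing.HasDerivedCompletion I] (X : Dual.D A) (b : ℤ)
    (hX : ∀ i : ℤ, b < i → Subsingleton (Dual.HD A X i))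
    [DRing.HasLTensor A (ModuleCat.of A (A ⧸ I))]
    (h0 : IsZero ((DRing.LTensor A (ModuleCat.of A (A ⧸ I))).obj X)) :
    IsZero ((DRing.derivedCompletion I).obj X).obj := by
  have hI : I.FG := IsNoetherian.noetherian I
  obtain ⟨hdc, hu⟩ := S7095_statement I (A ⧸ I) X b hX
  have hz : IsZero ((DRing.LTensor A (ModuleCat.of A (A ⧸ I))).obj
      ((DRing.derivedCompletion I).obj X).obj) := by
    rw [IsZero.iff_id_eq_zero]
    apply (hu _ hdc).1
    exact h0.eq_of_src _ _
  exact isZero_of_isZero_LTensor_quotient I hI _ ((DRing.derivedCompletion I).obj X).property hz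

/-- `F ⟶ F ⊗ Â` is the derived completion of `F` -/
theorem exists_completion_iso [DRing.HasDerivedCompletion I] (F : DRing.Cx A) (b : ℤ)
    (hb : DRing.VanishesAbove F b) (hff : ∀ i, Module.Finite A (F.X i))
    (hfl : ∀ i, Module.Flat A (F.X i)) :
    ∃ i : ((DRing.derivedCompletion I).obj (Q.obj F)).obj ≅ Q.obj ((tens (Nhat I)).obj F),
      DRing.toDerivedCompletion I (Q.obj F) ≫ i.hom = Q.map (uCx I F) := by
  haveI : DRing.HasLTensor A (ModuleCat.of A (A ⧸ I)) :=
    Groth.Agent.Helper3.KP.hasLeftDerivedFunctor _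
  apply exists_iso_completion I (Q.obj F) _ (Q.map (uCx I F))
    (isDerivedComplete_Q_tens_Nhat I F hff)
  intro E hE
  have hT := DerivedCategory.mappingCone_triangle_distinguished (uCx I F)
  have hCb : ∀ i : ℤ, b < i → Subsingleton (Dual.HD A (Q.obj (mappingCone (uCx I F))) i) := by
    intro i hi
    have hz : IsZero ((mappingCone (uCx I F)).X i) :=
      mappingCone_isZero (uCx I F) i (hb _ (by omega)) (tens_isZero _ F i (hb i hi))
    exact ModuleCat.subsingleton_of_isZero (isZero_homology_of_isZero_X _ i hz)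
  have hZ : ∀ r ∈ I, ∀ z : (ModuleCat.of A (A ⧸ I) : ModuleCat.{u} A), r • z = 0 := by
    intro r hr z
    obtain ⟨a, rfl⟩ := Ideal.Quotient.mk_surjective z
    show r • (Ideal.Quotient.mk I a) = 0
    rw [← Ideal.Quotient.mk_eq_mk, ← Submodule.Quotient.mk_smul]
    exact (Submodule.Quotient.mk_eq_zero _).mpr (I.mul_mem_right a hr)
  have hz : IsZero ((DRing.derivedCompletion I).obj (Q.obj (mappingCone (uCx I F)))).obj :=
    isZero_completion_of_isZero_LTensor I _ b hCb
      (isZero_LTensor_cone I F b hb hfl (ModuleCat.of A (A ⧸ I)) hZ)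
  have key : ∀ E' : Dual.D A, DRing.IsDerivedComplete I E' →
      Subsingleton (Q.obj (mappingCone (uCx I F)) ⟶ E') := by
    intro E' hE'
    have hbij := bijective_unit_comp I (Q.obj (mappingCone (uCx I F))) E' hE'
    refine ⟨fun a c => ?_⟩
    obtain ⟨a', rfl⟩ := hbij.2 a
    obtain ⟨c', rfl⟩ := hbij.2 c
    rw [hz.eq_of_src a' c']
  exact bijective_mor₁_comp_of_right _ hT E (key E hE)
    (subsingleton_neg_of_shift _ _ 1 (key _ (isDerivedComplete_shift I E hE 1)))

end Noeth

end Groth.Agent.Helper11.AdicDC
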