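import Groth.Agent.Lib.Helper11.DCStupid

/-!
Graded variants of the induction principles of `DCStupid` (no shift-stability needed):
the hypotheses are on the terms / cohomology modules placed in their own degree.
-/

open CategoryTheory Category Limits Pretriangulated DerivedCategory ZeroObject

attribute [local instance] HasDerivedCategory.standard

universe u

namespace Groth.Agent.Helper11.DC

variable {R : Type u} [CommRing R]

structure ExtClosed (P : Dual.D R → Prop) : Prop where
  iso : ∀ {K L : Dual.D R}, (K ≅ L) → P K → P L
  ext : ∀ T : Triangle (Dual.D R), T ∈ distTriang (Dual.D R) → P T.obj₁ → P T.obj₃ → P T.obj₂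
  zero : ∀ K : Dual.D R, IsZero K → P K

namespace ExtClosed

variable {P : Dual.D R → Prop} (hP : ExtClosed P)

include hP

theorem of_bounded_aux (n : ℕ) : ∀ (K : DRing.Cx R) (a b : ℤ), b < a + n →
    DRing.VanishesOutside K a b →
    (∀ i : ℤ, P ((singleFunctor (ModuleCat.{u} R) i).obj (K.X i))) → P (Q.obj K) := by
  induction n with
  | zero =>
    intro K a b hab hK _
    refine hP.zero _ (Q.map_isZero ?_)
    rw [IsZero.iff_id_eq_zero]
    apply HomologicalComplex.hom_ext
    intro i
    refine (hK i ?_).eq_of_src _ _
    rcases lt_or_ge i a with h | h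
    · left; exact h
    · right; omega
  | succ n ih =>
    intro K a b hab hK hPK
    have hb' : ∀ i : ℤ, b < i → IsZero (K.X i) := fun i hi => hK i (Or.inr hi)
    have hS := topSC_shortExact K b hb'
    have h3 : P (Q.obj (topSC K b hb').X₃) := by
      refine ih _ a (b - 1) (by omega) ?_ ?_
      · intro i hi
        by_cases hib : i = b
        · subst hib
          exact topSC_X₃_isZero K i hb'
        · have := topSC_g_isIso K b hb' i hib
          refine (hK i ?_).of_iso (asIso ((topSC K b hb').g.f i)).symm
          rcases hi with hi | hi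
          · left; exact hi
          · right; omega
      · intro i
        by_cases hib : i = b
        · subst hib
          exact hP.zero _ ((singleFunctor (ModuleCat.{u} R) i).map_isZero
            (topSC_X₃_isZero K i hb'))
        · have := topSC_g_isIso K b hb' i hib
          exact hP.iso ((singleFunctor (ModuleCat.{u} R) i).mapIso
            (asIso ((topSC K b hb').g.f i))) (hPK i)
    have h1 : P (Q.obj (topSC K b hb').X₁) := hPK b
    exact hP.ext _ (triangleOfSES_distinguished hS) h1 h3

/-- Bounded complexes whose terms are in `P` are in `P`. -/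
theorem of_bounded (K : DRing.Cx R) (a b : ℤ) (hK : DRing.VanishesOutside K a b)
    (hPK : ∀ i : ℤ, P ((singleFunctor (ModuleCat.{u} R) i).obj (K.X i))) : P (Q.obj K) :=
  hP.of_bounded_aux (b - a + 1).toNat K a b (by omega) hK hPK

theorem of_single_degree (K : Dual.D R) (a : ℤ)
    (hK : ∀ i : ℤ, i ≠ a → IsZero ((homologyFunctor (ModuleCat.{u} R) i).obj K))
    (hPK : P ((singleFunctor (ModuleCat.{u} R) a).obj
      ((homologyFunctor (ModuleCat.{u} R) a).obj K))) : P K := by
  have h1 : K.IsLE a := by
    rw [isLE_iff]
    intro i hi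
    exact hK i (by omega)
  have h2 : K.IsGE a := by
    rw [isGE_iff]
    intro i hi
    exact hK i (by omega)
  obtain ⟨N, ⟨e⟩⟩ := exists_iso_singleFunctor_obj_of_isGE_of_isLE K a
  have eN : (homologyFunctor (ModuleCat.{u} R) a).obj K ≅ N :=
    (homologyFunctor (ModuleCat.{u} R) a).mapIso e ≪≫
      (singleFunctorCompHomologyFunctorIso (ModuleCat.{u} R) a).app N
  have hN : P ((singleFunctor (ModuleCat.{u} R) a).obj N) :=
    hP.iso ((singleFunctor (ModuleCat.{u} R) a).mapIso eN) hPK
  exact hP.iso e.symm hN

theorem of_homology_aux (n : ℕ) : ∀ (K : Dual.D R) (a b : ℤ), b ≤ a + n →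
    (∀ i : ℤ, (i < a ∨ b < i) → IsZero ((homologyFunctor (ModuleCat.{u} R) i).obj K)) →
    (∀ i : ℤ, P ((singleFunctor (ModuleCat.{u} R) i).obj
      ((homologyFunctor (ModuleCat.{u} R) i).obj K))) → P K := by
  induction n with
  | zero =>
    intro K a b hab hK hPK
    refine hP.of_single_degree K a (fun i hi => hK i ?_) (hPK a)
    rcases lt_or_gt_of_ne hi with hi | hi
    · left; exact hi
    · right; omega
  | succ n ih =>
    intro K a b hab hK hPK
    obtain ⟨X, Y, hX, hY, f, g, h, hT⟩ := TStructure.t.exists_triangle K (b - 1) b (by omega)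
    have : X.IsLE (b - 1) := ⟨hX⟩
    have : Y.IsGE b := ⟨hY⟩
    have hXiso : ∀ i : ℤ, i ≤ b - 1 → IsIso ((homologyFunctor (ModuleCat.{u} R) i).map f) := by
      intro i hi
      have hY1 : IsZero ((homologyFunctor (ModuleCat.{u} R) (i - 1)).obj Y) :=
        Y.isZero_of_isGE b (i - 1) (by omega)
      have hY2 : IsZero ((homologyFunctor (ModuleCat.{u} R) i).obj Y) :=
        Y.isZero_of_isGE b i (by omega)
      have : Mono ((homologyFunctor (ModuleCat.{u} R) i).map f) :=
        (HomologySequence.mono_homologyMap_mor₁_iff (Triangle.mk f g h) hT (i - 1) i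
          (by omega)).mpr (hY1.eq_of_src _ _)
      have : Epi ((homologyFunctor (ModuleCat.{u} R) i).map f) :=
        (HomologySequence.epi_homologyMap_mor₁_iff (Triangle.mk f g h) hT i).mpr
          (hY2.eq_of_tgt _ _)
      exact isIso_of_mono_of_epi _
    have hYiso : ∀ i : ℤ, b ≤ i → IsIso ((homologyFunctor (ModuleCat.{u} R) i).map g) := by
      intro i hi
      have hX1 : IsZero ((homologyFunctor (ModuleCat.{u} R) i).obj X) :=
        X.isZero_of_isLE (b - 1) i (by omega)
      have hX2 : IsZero ((homologyFunctor (ModuleCat.{u} R) (i + 1)).obj X) :=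
        X.isZero_of_isLE (b - 1) (i + 1) (by omega)
      have : Mono ((homologyFunctor (ModuleCat.{u} R) i).map g) :=
        (HomologySequence.mono_homologyMap_mor₂_iff (Triangle.mk f g h) hT i).mpr
          (hX1.eq_of_src _ _)
      have : Epi ((homologyFunctor (ModuleCat.{u} R) i).map g) :=
        (HomologySequence.epi_homologyMap_mor₂_iff (Triangle.mk f g h) hT i (i + 1) rfl).mpr
          (hX2.eq_of_tgt _ _)
      exact isIso_of_mono_of_epi _
    have hXP : P X := by
      refine ih X a (b - 1) (by omega) ?_ ?_
      · intro i hi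
        by_cases hib : i ≤ b - 1
        · rcases hi with hi | hi
          · have := hXiso i hib
            exact (hK i (Or.inl hi)).of_iso (asIso ((homologyFunctor (ModuleCat.{u} R) i).map f))
          · exact X.isZero_of_isLE (b - 1) i hi
        · exact X.isZero_of_isLE (b - 1) i (by omega)
      · intro i
        by_cases hi : i ≤ b - 1
        · have := hXiso i hi
          exact hP.iso ((singleFunctor (ModuleCat.{u} R) i).mapIso
            (asIso ((homologyFunctor (ModuleCat.{u} R) i).map f)).symm) (hPK i)
        · exact hP.zero _ ((singleFunctor (ModuleCat.{u} R) i).map_isZero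
            (X.isZero_of_isLE (b - 1) i (by omega)))
    have hYP : P Y := by
      refine hP.of_single_degree Y b ?_ ?_
      · intro i hi
        rcases lt_or_gt_of_ne hi with hi | hi
        · exact Y.isZero_of_isGE b i hi
        · have := hYiso i (by omega)
          exact (hK i (Or.inr hi)).of_iso
            (asIso ((homologyFunctor (ModuleCat.{u} R) i).map g)).symm
      · have := hYiso b le_rfl
        exact hP.iso ((singleFunctor (ModuleCat.{u} R) b).mapIso
          (asIso ((homologyFunctor (ModuleCat.{u} R) b).map g))) (hPK b)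
    exact hP.ext (Triangle.mk f g h) hT hXP hYP

/-- Objects with bounded cohomology all of whose cohomology modules are in `P` are in `P`. -/
theorem of_homology (K : Dual.D R) (a b : ℤ)
    (hK : ∀ i : ℤ, (i < a ∨ b < i) → IsZero ((homologyFunctor (ModuleCat.{u} R) i).obj K))
    (hPK : ∀ i : ℤ, P ((singleFunctor (ModuleCat.{u} R) i).obj
      ((homologyFunctor (ModuleCat.{u} R) i).obj K))) : P K :=
  hP.of_homology_aux (b - a).toNat K a b (by omega) hK hPK

end ExtClosed

end Groth.Agent.Helper11.DC
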