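import Groth.Agent.Lib.Helper11.MPC2
import Groth.Agent.Lib.Helper11.DCExtClosed

/-!
# `m`-pseudo-coherence: dévissage by cohomology modules and by terms
-/

set_option autoImplicit false

open CategoryTheory Category Limits Pretriangulated DerivedCategory ZeroObject

attribute [local instance] HasDerivedCategory.standard

universe u

namespace Groth.Agent.Helper11.MPC

open Groth.Agent.Helper11.DC

variable {R : Type u} [CommRing R]

theorem mpc_zero (m : ℤ) (K : Dual.D R) (hK : IsZero K) : DRing.IsPseudoCoherent R m K :=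
  mpc_of_isZero_homology K (fun _ _ => Functor.map_isZero _ hK)

theorem mpc_extClosed (m : ℤ) : ExtClosed (R := R) (DRing.IsPseudoCoherent R m) where
  iso := fun e h => mpc_of_iso e h
  ext := fun T hT h₁ h₃ => (mpc_two_of_three T hT m).2.1 h₁ h₃
  zero := mpc_zero m

theorem mpc_single_of_module {m i : ℤ} (N : ModuleCat.{u} R)
    (h : DRing.IsPseudoCoherent R (m - i) ((singleFunctor (ModuleCat.{u} R) 0).obj N)) :
    DRing.IsPseudoCoherent R m ((singleFunctor (ModuleCat.{u} R) i).obj N) := by
  have h' := mpc_shift (-i) h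
  have e1 : m - i - -i = m := by ring
  rw [e1] at h'
  exact mpc_of_iso (((singleFunctors (ModuleCat.{u} R)).shiftIso (-i) i 0 (by omega)).app N) h'

theorem mpc_of_homology {m : ℤ} (K : Dual.D R) (b : ℤ)
    (hK : ∀ i : ℤ, b < i → IsZero ((homologyFunctor (ModuleCat.{u} R) i).obj K))
    (h : ∀ i : ℤ, m ≤ i → DRing.IsPseudoCoherent R m
      ((singleFunctor (ModuleCat.{u} R) i).obj ((homologyFunctor (ModuleCat.{u} R) i).obj K))) :
    DRing.IsPseudoCoherent R m K := by
  obtain ⟨X, Y, hX, hY, f, g, δ, hT⟩ := TStructure.t.exists_triangle K (m - 1) m (by omega)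
  have : X.IsLE (m - 1) := ⟨hX⟩
  have : Y.IsGE m := ⟨hY⟩
  have hYiso : ∀ i : ℤ, m ≤ i → IsIso ((homologyFunctor (ModuleCat.{u} R) i).map g) := by
    intro i hi
    have hX1 : IsZero ((homologyFunctor (ModuleCat.{u} R) i).obj X) :=
      X.isZero_of_isLE (m - 1) i (by omega)
    have hX2 : IsZero ((homologyFunctor (ModuleCat.{u} R) (i + 1)).obj X) :=
      X.isZero_of_isLE (m - 1) (i + 1) (by omega)
    have : Mono ((homologyFunctor (ModuleCat.{u} R) i).map g) :=
      (HomologySequence.mono_homologyMap_mor₂_iff (Triangle.mk f g δ) hT i).mpr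
        (hX1.eq_of_src _ _)
    have : Epi ((homologyFunctor (ModuleCat.{u} R) i).map g) :=
      (HomologySequence.epi_homologyMap_mor₂_iff (Triangle.mk f g δ) hT i (i + 1) rfl).mpr
        (hX2.eq_of_tgt _ _)
    exact isIso_of_mono_of_epi _
  have hXP : DRing.IsPseudoCoherent R m X :=
    mpc_of_isZero_homology X (fun i hi => X.isZero_of_isLE (m - 1) i (by omega))
  have hYP : DRing.IsPseudoCoherent R m Y := by
    refine (mpc_extClosed m).of_homology Y m (max b m) ?_ ?_
    · intro i hi
      rcases hi with hi | hi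
      · exact Y.isZero_of_isGE m i hi
      · have := hYiso i (by omega)
        exact (hK i (by omega)).of_iso
          (asIso ((homologyFunctor (ModuleCat.{u} R) i).map g)).symm
    · intro i
      by_cases hi : m ≤ i
      · have := hYiso i hi
        exact mpc_of_iso ((singleFunctor (ModuleCat.{u} R) i).mapIso
          (asIso ((homologyFunctor (ModuleCat.{u} R) i).map g))) (h i hi)
      · exact mpc_zero m _ ((singleFunctor (ModuleCat.{u} R) i).map_isZero
          (Y.isZero_of_isGE m i (by omega)))
  exact (mpc_two_of_three (Triangle.mk f g δ) hT m).2.1 hXP hYP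

theorem mpc_of_terms_aux {m : ℤ} (n : ℕ) : ∀ (E : DRing.Cx R) (b : ℤ), b < m + n →
    DRing.VanishesAbove E b →
    (∀ i : ℤ, DRing.IsPseudoCoherent R m ((singleFunctor (ModuleCat.{u} R) i).obj (E.X i))) →
    DRing.IsPseudoCoherent R m (Q.obj E) := by
  induction n with
  | zero =>
    intro E b hbm hb _
    exact mpc_of_isZero_homology _ (fun i hi => isZero_homology_of_isZero_X _ i (hb i (by omega)))
  | succ n ih =>
    intro E b hbm hb hE
    have hS := topSC_shortExact E b hb
    have hT := triangleOfSES_distinguished hS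
    have h3 : DRing.IsPseudoCoherent R m (Q.obj (topSC E b hb).X₃) := by
      refine ih _ (b - 1) (by omega) ?_ ?_
      · intro i hi
        by_cases hib : i = b
        · subst hib
          exact topSC_X₃_isZero E i hb
        · haveI := topSC_g_isIso E b hb i hib
          exact (hb i (by omega)).of_iso (asIso ((topSC E b hb).g.f i)).symm
      · intro i
        by_cases hib : i = b
        · subst hib
          exact mpc_zero m _ ((singleFunctor (ModuleCat.{u} R) i).map_isZero
            (topSC_X₃_isZero E i hb))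
        · haveI := topSC_g_isIso E b hb i hib
          exact mpc_of_iso ((singleFunctor (ModuleCat.{u} R) i).mapIso
            (asIso ((topSC E b hb).g.f i))) (hE i)
    have h1 : DRing.IsPseudoCoherent R m (Q.obj (topSC E b hb).X₁) := hE b
    exact (mpc_two_of_three _ hT m).2.1 h1 h3

theorem mpc_of_terms {m : ℤ} (E : DRing.Cx R) (b : ℤ) (hb : DRing.VanishesAbove E b)
    (hE : ∀ i : ℤ, DRing.IsPseudoCoherent R m
      ((singleFunctor (ModuleCat.{u} R) i).obj (E.X i))) :
    DRing.IsPseudoCoherent R m (Q.obj E) :=
  mpc_of_terms_aux (b - m + 1).toNat E b (by omega) hb hE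

end Groth.Agent.Helper11.MPC
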