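import Groth.Agent.Lib.Helper11.DCCone2
import Mathlib.RingTheory.Finiteness.Prod

/-!
Two-out-of-three for pseudo-coherent and perfect objects of `D(R)`.
-/

open CategoryTheory Category Limits Pretriangulated DerivedCategory

attribute [local instance] HasDerivedCategory.standard

universe u

namespace Groth.Agent.Helper11.DC

variable {R : Type u} [CommRing R]

theorem pc_third (T : Triangle (Dual.D R)) (hT : T ∈ distTriang (Dual.D R))
    (h₁ : DRing.IsPseudoCoherent' R T.obj₁) (h₂ : DRing.IsPseudoCoherent' R T.obj₂) :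
    DRing.IsPseudoCoherent' R T.obj₃ := by
  obtain ⟨E₁, b₁, hb₁, hf₁, ⟨e₁⟩⟩ := h₁
  obtain ⟨E₂, b₂, hb₂, hf₂, ⟨e₂⟩⟩ := h₂
  have : E₁.IsKProjective := isKProjective_of_vanishesAbove E₁ b₁ hb₁ (fun i => by
    have := (hf₁ i).2
    infer_instance)
  obtain ⟨φ, ⟨e₃⟩⟩ := third_vertex T hT E₁ E₂ e₁.symm e₂.symm
  refine ⟨CochainComplex.mappingCone φ, max b₁ b₂, ?_, ?_, ⟨e₃.symm⟩⟩
  · intro i hi
    exact mappingCone_isZero φ i (hb₁ _ (by omega)) (hb₂ _ (by omega))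
  · intro i
    have := (hf₁ (i + 1)).1
    have := (hf₁ (i + 1)).2
    have := (hf₂ i).1
    have := (hf₂ i).2
    exact ⟨Module.Finite.equiv (mappingConeXEquiv φ i).symm,
      Module.Free.of_equiv (mappingConeXEquiv φ i).symm⟩

theorem pc_shift (K : Dual.D R) (n : ℤ) (h : DRing.IsPseudoCoherent' R K) :
    DRing.IsPseudoCoherent' R (K⟦n⟧) := by
  obtain ⟨E, b, hb, hf, ⟨e⟩⟩ := h
  refine ⟨E⟦n⟧, b - n, ?_, ?_, ⟨shiftRepIso E K e n⟩⟩
  · intro i hi
    exact hb (i + n) (by omega)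
  · intro i
    exact hf (i + n)

theorem pc_two_of_three (T : Triangle (Dual.D R)) (hT : T ∈ distTriang (Dual.D R)) :
    (DRing.IsPseudoCoherent' R T.obj₁ → DRing.IsPseudoCoherent' R T.obj₂ →
      DRing.IsPseudoCoherent' R T.obj₃) ∧
    (DRing.IsPseudoCoherent' R T.obj₁ → DRing.IsPseudoCoherent' R T.obj₃ →
      DRing.IsPseudoCoherent' R T.obj₂) ∧
    (DRing.IsPseudoCoherent' R T.obj₂ → DRing.IsPseudoCoherent' R T.obj₃ →
      DRing.IsPseudoCoherent' R T.obj₁) := by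
  refine ⟨pc_third T hT, ?_, ?_⟩
  · intro h₁ h₃
    exact pc_third T.invRotate (inv_rot_of_distTriang _ hT) (pc_shift _ (-1) h₃) h₁
  · intro h₂ h₃
    exact pc_third T.invRotate.invRotate
      (inv_rot_of_distTriang _ (inv_rot_of_distTriang _ hT)) (pc_shift _ (-1) h₂)
      (pc_shift _ (-1) h₃)

theorem perf_third (T : Triangle (Dual.D R)) (hT : T ∈ distTriang (Dual.D R))
    (h₁ : DRing.IsPerfect R T.obj₁) (h₂ : DRing.IsPerfect R T.obj₂) :
    DRing.IsPerfect R T.obj₃ := by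
  obtain ⟨E₁, a₁, b₁, hb₁, hf₁, ⟨e₁⟩⟩ := h₁
  obtain ⟨E₂, a₂, b₂, hb₂, hf₂, ⟨e₂⟩⟩ := h₂
  have : E₁.IsKProjective := isKProjective_of_vanishesAbove E₁ b₁
    (fun i hi => hb₁ i (Or.inr hi)) (fun i => (hf₁ i).2)
  obtain ⟨φ, ⟨e₃⟩⟩ := third_vertex T hT E₁ E₂ e₁.symm e₂.symm
  refine ⟨CochainComplex.mappingCone φ, min (a₁ - 1) a₂, max b₁ b₂, ?_, ?_, ⟨e₃.symm⟩⟩
  · intro i hi
    refine mappingCone_isZero φ i (hb₁ _ ?_) (hb₂ _ ?_)
    · rcases hi with hi | hi
      · left; omega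
      · right; omega
    · rcases hi with hi | hi
      · left; omega
      · right; omega
  · intro i
    have := (hf₁ (i + 1)).1
    have := (hf₁ (i + 1)).2
    have := (hf₂ i).1
    have := (hf₂ i).2
    exact ⟨Module.Finite.equiv (mappingConeXEquiv φ i).symm,
      Module.Projective.of_equiv (mappingConeXEquiv φ i).symm⟩

theorem perf_shift (K : Dual.D R) (n : ℤ) (h : DRing.IsPerfect R K) :
    DRing.IsPerfect R (K⟦n⟧) := by
  obtain ⟨E, a, b, hb, hf, ⟨e⟩⟩ := h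
  refine ⟨E⟦n⟧, a - n, b - n, ?_, ?_, ⟨shiftRepIso E K e n⟩⟩
  · intro i hi
    refine hb (i + n) ?_
    rcases hi with hi | hi
    · left; omega
    · right; omega
  · intro i
    exact hf (i + n)

theorem perf_two_of_three (T : Triangle (Dual.D R)) (hT : T ∈ distTriang (Dual.D R)) :
    (DRing.IsPerfect R T.obj₁ → DRing.IsPerfect R T.obj₂ → DRing.IsPerfect R T.obj₃) ∧
    (DRing.IsPerfect R T.obj₁ → DRing.IsPerfect R T.obj₃ → DRing.IsPerfect R T.obj₂) ∧
    (DRing.IsPerfect R T.obj₂ → DRing.IsPerfect R T.obj₃ → DRing.IsPerfect R T.obj₁) := by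
  refine ⟨perf_third T hT, ?_, ?_⟩
  · intro h₁ h₃
    exact perf_third T.invRotate (inv_rot_of_distTriang _ hT) (perf_shift _ (-1) h₃) h₁
  · intro h₂ h₃
    exact perf_third T.invRotate.invRotate
      (inv_rot_of_distTriang _ (inv_rot_of_distTriang _ hT)) (perf_shift _ (-1) h₂)
      (perf_shift _ (-1) h₃)

end Groth.Agent.Helper11.DC
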