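import Groth.Agent.Lib.Helper11.FinRes
import Groth.Agent.Lib.Helper11.DCTwoOfThree
import Groth.Agent.Lib.Helper11.DCStupid
import Mathlib.Algebra.Category.ModuleCat.Kernels

/-!
Finite projective modules are pseudo-coherent; perfect complexes are pseudo-coherent.
-/

open CategoryTheory Category Limits Pretriangulated DerivedCategory ZeroObject

attribute [local instance] HasDerivedCategory.standard

universe v u' u

namespace Groth.Agent.Helper11.GenRes

namespace CoverData

variable {C : Type u'} [Category.{v} C] [Abelian C] (D : CoverData C)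

theorem resCx_d_succ (M : C) (n : ℕ) : (D.resCx M).d (n + 2) (n + 1) =
    (D.resCxXIso M n).hom ≫ D.dd ((D.resCx M).d (n + 1) n) :=
  ChainComplex.mk'_d _ _ _ _ n

/-- propagation of a property of the differentials along the resolution. -/
theorem resCx_d_prop (Pm : ∀ ⦃X Y : C⦄, (X ⟶ Y) → Prop)
    (hiso : ∀ ⦃X' X Y : C⦄ (e : X' ≅ X) (f : X ⟶ Y), Pm f → Pm (e.hom ≫ f))
    (hstep : ∀ ⦃X Y : C⦄ (f : X ⟶ Y), Pm f → Pm (D.dd f)) (M : C)
    (h0 : Pm (D.dd (D.π M))) : ∀ n : ℕ, Pm ((D.resCx M).d (n + 1) n) := by
  intro n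
  induction n with
  | zero =>
    rw [resCx_d_1_0]
    exact h0
  | succ n ih =>
    rw [resCx_d_succ]
    exact hiso _ _ (hstep _ ih)

end CoverData

end Groth.Agent.Helper11.GenRes

namespace Groth.Agent.Helper11.DC

variable {R : Type u} [CommRing R]

/-- the kernel of a surjection from a finite module onto a projective module is a finite
projective... (here: finite, and projective if the source is). -/
theorem ker_finite_projective {F N : Type u} [AddCommGroup F] [AddCommGroup N] [Module R F]
    [Module R N] [Module.Finite R F] [Module.Projective R F] [Module.Projective R N]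
    (g : F →ₗ[R] N) (hg : Function.Surjective g) :
    Module.Finite R (LinearMap.ker g) ∧ Module.Projective R (LinearMap.ker g) := by
  obtain ⟨s, hs⟩ := Module.projective_lifting_property g LinearMap.id hg
  have hs' : ∀ x, g (s x) = x := fun x => congr($hs x)
  let p : F →ₗ[R] LinearMap.ker g :=
    (LinearMap.id - s ∘ₗ g).codRestrict (LinearMap.ker g) (fun x => by
      rw [LinearMap.mem_ker]
      simp [hs'])
  have hp : p ∘ₗ (LinearMap.ker g).subtype = LinearMap.id := by
    ext ⟨x, hx⟩
    rw [LinearMap.mem_ker] at hx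
    simp [p, hx]
  have hp' : ∀ x, p ((LinearMap.ker g).subtype x) = x := fun x => congr($hp x)
  refine ⟨Module.Finite.of_surjective p (fun x => ⟨_, hp' x⟩), ?_⟩
  exact Module.Projective.of_split (LinearMap.ker g).subtype p hp

/-- the property of morphisms propagated along the resolution -/
def FPKer ⦃X Y : ModuleCat.{u} R⦄ (f : X ⟶ Y) : Prop :=
  Module.Finite R X ∧ Module.Free R X ∧ Module.Finite R (LinearMap.ker f.hom) ∧
    Module.Projective R (LinearMap.ker f.hom)

theorem exists_finite_free_resolution_of_projective (M : ModuleCat.{u} R)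
    [Module.Finite R M] [Module.Projective R M] :
    ∃ (K : ChainComplex (ModuleCat.{u} R) ℕ)
      (π : K ⟶ (ChainComplex.single₀ (ModuleCat.{u} R)).obj M),
      QuasiIso π ∧ ∀ i : ℕ, Module.Finite R (K.X i) ∧ Module.Free R (K.X i) := by
  choose cov π hepi hspec using exists_finite_free_cover (R := R)
  let D : Groth.Agent.Helper11.GenRes.CoverData (ModuleCat.{u} R) := ⟨cov, π, hepi⟩
  have hstep : ∀ ⦃X Y : ModuleCat.{u} R⦄ (f : X ⟶ Y), FPKer f → FPKer (D.dd f) := by
    rintro X Y f ⟨h1, h2, h3, h4⟩
    let Kf : ModuleCat.{u} R := kernel f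
    have e : Kf ≅ ModuleCat.of R (LinearMap.ker f.hom) := ModuleCat.kernelIsoKer f
    haveI : Module.Finite R Kf := Module.Finite.equiv e.toLinearEquiv.symm
    haveI : Module.Projective R Kf := Module.Projective.of_equiv e.toLinearEquiv.symm
    obtain ⟨k1, k2⟩ := hspec Kf inferInstance
    haveI := k1
    haveI := k2
    haveI : Module.Projective R (cov Kf) := Module.Projective.of_free
    have hsurj : Function.Surjective (π Kf).hom :=
      (ModuleCat.epi_iff_surjective _).mp (hepi _)
    have hinj : Function.Injective (kernel.ι f).hom :=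
      (ModuleCat.mono_iff_injective _).mp inferInstance
    have hker : LinearMap.ker (D.dd f).hom = LinearMap.ker (π Kf).hom := by
      change LinearMap.ker ((kernel.ι f).hom ∘ₗ (π Kf).hom) = _
      exact LinearMap.ker_comp_of_ker_eq_bot _ (LinearMap.ker_eq_bot.mpr hinj)
    obtain ⟨r1, r2⟩ := ker_finite_projective (π Kf).hom hsurj
    refine ⟨k1, k2, ?_, ?_⟩
    · rw [hker]; exact r1
    · rw [hker]; exact r2
  have h00 : FPKer (D.π M) := by
    obtain ⟨k1, k2⟩ := hspec M inferInstance
    haveI := k1
    haveI := k2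
    haveI : Module.Projective R (cov M) := Module.Projective.of_free
    have hsurj : Function.Surjective (π M).hom := (ModuleCat.epi_iff_surjective _).mp (hepi _)
    obtain ⟨r1, r2⟩ := ker_finite_projective (π M).hom hsurj
    exact ⟨k1, k2, r1, r2⟩
  have key := D.resCx_d_prop (fun X Y f => FPKer f) ?_ hstep M (hstep _ h00)
  · refine ⟨D.resCx M, D.resπ _, D.quasiIso_resπ _, ?_⟩
    intro i
    cases i with
    | zero => exact hspec M inferInstance
    | succ n => exact ⟨(key n).1, (key n).2.1⟩
  · rintro X' X Y e f ⟨h1, h2, h3, h4⟩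
    let eq : X' ≃ₗ[R] X := e.toLinearEquiv
    have hker : LinearMap.ker (e.hom ≫ f).hom =
        (LinearMap.ker f.hom).comap eq.toLinearMap := by
      ext x
      simp only [LinearMap.mem_ker, Submodule.mem_comap]
      rfl
    have eqk : LinearMap.ker (e.hom ≫ f).hom ≃ₗ[R] LinearMap.ker f.hom := by
      rw [hker]
      exact eq.ofSubmodule' _
    exact ⟨Module.Finite.equiv eq.symm, Module.Free.of_equiv eq.symm,
      Module.Finite.equiv eqk.symm, Module.Projective.of_equiv eqk.symm⟩

theorem pc_of_finite_projective (N : ModuleCat.{u} R) [Module.Finite R N]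
    [Module.Projective R N] :
    DRing.IsPseudoCoherent' R ((singleFunctor (ModuleCat.{u} R) 0).obj N) := by
  obtain ⟨K, π, hπ, hK⟩ := exists_finite_free_resolution_of_projective N
  have hproj : ∀ n, Projective (K.X n) := fun n => by
    haveI := (hK n).2
    haveI : Module.Projective R (K.X n) := Module.Projective.of_free
    exact (IsProjective.iff_projective (R := R) (K.X n)).mp this
  let P : ProjectiveResolution N :=
    { complex := K
      projective := hproj
      π := π
      quasiIso := hπ }
  refine ⟨P.cochainComplex, 0, ?_, ?_, ⟨?_⟩⟩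
  · intro i hi
    exact CochainComplex.isZero_of_isStrictlyLE _ 0 _ hi
  · intro i
    by_cases hi : i ≤ 0
    · obtain ⟨k, rfl⟩ := Int.exists_eq_neg_ofNat hi
      have e := (P.cochainComplexXIso (-k) k).symm
      haveI := (hK k).1
      haveI := (hK k).2
      exact ⟨Module.Finite.equiv e.toLinearEquiv, Module.Free.of_equiv e.toLinearEquiv⟩
    · have hz : IsZero (P.cochainComplex.X i) :=
        CochainComplex.isZero_of_isStrictlyLE _ 0 _ (by omega)
      have : Subsingleton (P.cochainComplex.X i) := ModuleCat.subsingleton_of_isZero hz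
      exact ⟨inferInstance, inferInstance⟩
  · haveI : IsIso (Q.map P.π') := by
      rw [isIso_Q_map_iff_quasiIso]
      infer_instance
    exact asIso (Q.map P.π') ≪≫
      ((DerivedCategory.singleFunctorIsoCompQ (ModuleCat.{u} R) 0).app N).symm

theorem thickLike_pc : ThickLike (DRing.IsPseudoCoherent' R) where
  iso := by
    rintro K L e ⟨E, b, hb, hf, ⟨e'⟩⟩
    exact ⟨E, b, hb, hf, ⟨e' ≪≫ e⟩⟩
  shift K n h := pc_shift K n h
  ext T hT h₁ h₃ := (pc_two_of_three T hT).2.1 h₁ h₃
  zero := by
    intro K hK
    have hz : IsZero (0 : DRing.Cx R) := isZero_zero _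
    refine ⟨0, 0, fun i _ => (HomologicalComplex.eval _ _ i).map_isZero hz, fun i => ?_,
      ⟨(Q.map_isZero hz).iso hK⟩⟩
    have hz' : IsZero ((0 : DRing.Cx R).X i) := (HomologicalComplex.eval _ _ i).map_isZero hz
    haveI : Subsingleton ((0 : DRing.Cx R).X i) := ModuleCat.subsingleton_of_isZero hz'
    exact ⟨inferInstance, inferInstance⟩

theorem pc_of_perfect {K : Dual.D R} (h : DRing.IsPerfect R K) :
    DRing.IsPseudoCoherent' R K := by
  obtain ⟨E, a, b, hE, hfp, ⟨e⟩⟩ := h
  refine thickLike_pc.iso e (thickLike_pc.of_bounded E a b hE (fun i => ?_))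
  haveI := (hfp i).1
  haveI := (hfp i).2
  exact pc_of_finite_projective (E.X i)

end Groth.Agent.Helper11.DC
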