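import Groth.Agent.Lib.Helper11.MPC5
import Groth.Agent.Lib.Helper11.FinProjRes
import Mathlib.CategoryTheory.Limits.Constructions.EventuallyConstant
import Mathlib.CategoryTheory.Functor.OfSequence
import Mathlib.Algebra.Homology.HomologicalComplexLimits

/-!
`K` is `m`-pseudo-coherent for every `m` ⟹ `K` is pseudo-coherent: the infinite construction,
as the colimit of a tower of mapping cones.
-/

open CategoryTheory Category Limits Pretriangulated DerivedCategory ZeroObject

attribute [local instance] HasDerivedCategory.standard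

universe u

namespace Groth.Agent.Helper11.MPC

open Groth.Agent.Helper11.DC Groth.Agent.Helper11.GenRes

variable {R : Type u} [CommRing R]

/-- `A × (B × C) ≃ B × (A × C)` -/
def prodSwapMid (A B C : Type*) [AddCommGroup A] [AddCommGroup B] [AddCommGroup C]
    [Module R A] [Module R B] [Module R C] : (A × (B × C)) ≃ₗ[R] (B × (A × C)) where
  toFun x := (x.2.1, (x.1, x.2.2))
  invFun y := (y.2.1, (y.1, y.2.2))
  map_add' _ _ := rfl
  map_smul' _ _ := rfl
  left_inv _ := rfl
  right_inv _ := rfl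

theorem isEventuallyConstantFrom_of_succ {C : Type*} [Category C] (F : ℕ ⥤ C) (N : ℕ)
    (h : ∀ n, N ≤ n → IsIso (F.map (homOfLE (Nat.le_succ n)))) :
    F.IsEventuallyConstantFrom N := by
  have key : ∀ (k : ℕ) (f : N ⟶ N + k), IsIso (F.map f) := by
    intro k
    induction k with
    | zero =>
      intro f
      have : f = 𝟙 _ := Subsingleton.elim _ _
      rw [this, F.map_id]
      infer_instance
    | succ k ih =>
      intro f
      have : f = homOfLE (Nat.le_add_right N k) ≫ homOfLE (Nat.le_succ (N + k)) :=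
        Subsingleton.elim _ _
      rw [this, F.map_comp]
      haveI := ih (homOfLE (Nat.le_add_right N k))
      haveI := h (N + k) (Nat.le_add_right N k)
      infer_instance
  intro j f
  have hj : N ≤ j := leOfHom f
  obtain ⟨k, rfl⟩ := Nat.exists_eq_add_of_le hj
  exact key k f

/-- the third term of a short exact sequence with a compatible splitting of the middle term -/
theorem X₃_equiv_of_splitting {S : ShortComplex (ModuleCat.{u} R)} (hS : S.ShortExact)
    (G : Type u) [AddCommGroup G] [Module R G] (E : S.X₂ ≃ₗ[R] (S.X₁ × G))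
    (hE : ∀ x, E (S.f.hom x) = (x, 0)) : Nonempty (S.X₃ ≃ₗ[R] G) := by
  let q : S.X₂ →ₗ[R] G := (LinearMap.snd R S.X₁ G).comp E.toLinearMap
  have hq : Function.Surjective q := fun g => ⟨E.symm (0, g), by simp [q]⟩
  have hg : Function.Surjective S.g.hom := by
    haveI := hS.epi_g
    exact (ModuleCat.epi_iff_surjective _).mp inferInstance
  have hker : LinearMap.ker S.g.hom = LinearMap.ker q := by
    have hex := (ShortComplex.moduleCat_exact_iff_range_eq_ker S).mp hS.exact
    rw [← hex]
    ext y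
    constructor
    · rintro ⟨x, rfl⟩
      simp [q, hE]
    · intro hy
      refine ⟨(E y).1, ?_⟩
      apply E.injective
      rw [hE]
      have : (E y).2 = 0 := hy
      exact Prod.ext rfl this.symm
  exact ⟨(LinearMap.quotKerEquivOfSurjective S.g.hom hg).symm ≪≫ₗ
    Submodule.quotEquivOfEq _ _ hker ≪≫ₗ LinearMap.quotKerEquivOfSurjective q hq⟩

section Tower

variable (K' : DRing.Cx R) (b : ℤ)

/-- a stage of the tower -/
structure Stage (n : ℕ) where
  C : DRing.Cx R
  ι : K' ⟶ C
  isLE : (Q.obj C).IsLE (b - n)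
  mpc : ∀ j : ℤ, DRing.IsPseudoCoherent R j (Q.obj C)
  term : ∀ i : ℤ, ∃ (G : ModuleCat.{u} R), Module.Finite R G ∧ Module.Free R G ∧
    (b ≤ i → Subsingleton G) ∧
      ∃ e : C.X i ≃ₗ[R] (K'.X i × G), ∀ x, e ((ι.f i).hom x) = (x, 0)

variable {K' b}

namespace Stage

variable {n : ℕ} (s : Stage K' b n)

noncomputable def rk : ℕ := (step_exists s.C (b - n) s.isLE s.mpc).choose

noncomputable def τ : sgl (b - n) (ModuleCat.of R (Fin s.rk → R)) ⟶ s.C :=
  (step_exists s.C (b - n) s.isLE s.mpc).choose_spec.choose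

theorem τ_spec : (Q.obj (CochainComplex.mappingCone s.τ)).IsLE (b - n - 1) ∧
    ∀ j : ℤ, DRing.IsPseudoCoherent R j (Q.obj (CochainComplex.mappingCone s.τ)) :=
  (step_exists s.C (b - n) s.isLE s.mpc).choose_spec.choose_spec

noncomputable def next : Stage K' b (n + 1) where
  C := CochainComplex.mappingCone s.τ
  ι := s.ι ≫ CochainComplex.mappingCone.inr s.τ
  isLE := by
    have h := s.τ_spec.1
    have h' : b - ((n + 1 : ℕ) : ℤ) = b - n - 1 := by push_cast; ring
    rw [h']
    exact h
  mpc := s.τ_spec.2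
  term := fun i => by
    obtain ⟨G, hfin, hfree, hsub, e, he⟩ := s.term i
    obtain ⟨hSfin, hSfree⟩ :=
      sgl_finite_free (b - n) (ModuleCat.of R (Fin s.rk → R)) (i + 1)
    refine ⟨ModuleCat.of R ((sgl (b - n) (ModuleCat.of R (Fin s.rk → R))).X (i + 1) × G),
      inferInstance, inferInstance, ?_, ?_⟩
    · intro hi
      haveI := hsub hi
      haveI : Subsingleton ((sgl (b - n) (ModuleCat.of R (Fin s.rk → R))).X (i + 1)) :=
        ModuleCat.subsingleton_of_isZero (sgl_isZero _ _ _ (by omega))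
      change Subsingleton ((sgl (b - n) (ModuleCat.of R (Fin s.rk → R))).X (i + 1) × G)
      infer_instance
    · refine ⟨(coneEquiv s.τ i) ≪≫ₗ (LinearEquiv.prodCongr (LinearEquiv.refl R _) e) ≪≫ₗ
        prodSwapMid _ _ _, ?_⟩
      intro x
      have h1 : ((s.ι ≫ CochainComplex.mappingCone.inr s.τ).f i).hom x =
          ((CochainComplex.mappingCone.inr s.τ).f i).hom ((s.ι.f i).hom x) := rfl
      rw [h1]
      simp only [LinearEquiv.trans_apply, coneEquiv_inr]
      simp [prodSwapMid, he]

end Stage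

/-- the initial stage -/
noncomputable def stage0 (K' : DRing.Cx R) (b : ℤ) (hle : (Q.obj K').IsLE b)
    (hpc : ∀ j : ℤ, DRing.IsPseudoCoherent R j (Q.obj K')) : Stage K' b 0 where
  C := K'
  ι := 𝟙 K'
  isLE := by
    have h' : b - ((0 : ℕ) : ℤ) = b := by simp
    rw [h']
    exact hle
  mpc := hpc
  term := fun i => ⟨ModuleCat.of R PUnit.{u + 1}, inferInstance, inferInstance,
    fun _ => inferInstance,
    ⟨{ toFun := fun x => (x, 0)
       invFun := fun y => y.1
       map_add' := fun _ _ => by simp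
       map_smul' := fun _ _ => by simp
       left_inv := fun _ => rfl
       right_inv := fun y => Prod.ext rfl (Subsingleton.elim _ _) }, fun _ => rfl⟩⟩

variable (s0 : Stage K' b 0)

/-- the stages -/
noncomputable def stage : (n : ℕ) → Stage K' b n
  | 0 => s0
  | n + 1 => (stage n).next

/-- the tower -/
noncomputable def tower : ℕ ⥤ DRing.Cx R :=
  Functor.ofSequence (X := fun n => (stage s0 n).C)
    (fun n => CochainComplex.mappingCone.inr (stage s0 n).τ)

theorem tower_map_succ (n : ℕ) : (tower s0).map (homOfLE (Nat.le_succ n)) =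
    CochainComplex.mappingCone.inr (stage s0 n).τ :=
  Functor.ofSequence_map_homOfLE_succ _ n

/-- the maps from `K'` to the tower -/
noncomputable def towerι (n : ℕ) : K' ⟶ (tower s0).obj n := (stage s0 n).ι

theorem towerι_succ (n : ℕ) : towerι s0 (n + 1) =
    towerι s0 n ≫ (tower s0).map (homOfLE (Nat.le_succ n)) := by
  rw [tower_map_succ]
  rfl

theorem tower_term (n : ℕ) (i : ℤ) : ∃ (G : ModuleCat.{u} R), Module.Finite R G ∧
    Module.Free R G ∧ (b ≤ i → Subsingleton G) ∧
      ∃ e : ((tower s0).obj n).X i ≃ₗ[R] (K'.X i × G),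
        ∀ x, e (((towerι s0 n).f i).hom x) = (x, 0) :=
  (stage s0 n).term i

theorem tower_isLE (n : ℕ) : (Q.obj ((tower s0).obj n)).IsLE (b - n) := (stage s0 n).isLE

/-- the map to the colimit -/
noncomputable def ιinf : K' ⟶ colimit (tower s0) := towerι s0 0 ≫ colimit.ι (tower s0) 0

theorem ιinf_eq (n : ℕ) : ιinf s0 = towerι s0 n ≫ colimit.ι (tower s0) n := by
  induction n with
  | zero => rfl
  | succ n ih =>
    rw [towerι_succ, assoc, colimit.w]
    exact ih

theorem isIso_tower_map_succ (i : ℤ) (n : ℕ) (hn : b - i ≤ n) :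
    IsIso (((tower s0).map (homOfLE (Nat.le_succ n))).f i) := by
  rw [tower_map_succ]
  exact isIso_inr_f _ i (sgl_isZero _ _ _ (by omega))

theorem isIso_colimit_ι_f (i : ℤ) (n : ℕ) (hn : b - i ≤ n) :
    IsIso ((colimit.ι (tower s0) n).f i) := by
  have hev : ((tower s0) ⋙ HomologicalComplex.eval _ _ i).IsEventuallyConstantFrom
      (b - i).toNat := isEventuallyConstantFrom_of_succ _ _ (fun n hn => by
    change IsIso (((tower s0).map (homOfLE (Nat.le_succ n))).f i)
    exact isIso_tower_map_succ s0 i n (by omega))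
  exact hev.isIso_ι_of_isColimit'
    (isColimitOfPreserves (HomologicalComplex.eval _ _ i) (colimit.isColimit (tower s0))) n
    (homOfLE (by omega))

theorem colimit_exactAt (i : ℤ) : (colimit (tower s0)).ExactAt i := by
  let N := (b - i + 1).toNat
  have hN : b - i + 1 ≤ N := Int.self_le_toNat _
  let ι := colimit.ι (tower s0) N
  haveI h1 : IsIso (ι.f (i - 1)) := isIso_colimit_ι_f s0 (i - 1) N (by omega)
  haveI h2 : IsIso (ι.f i) := isIso_colimit_ι_f s0 i N (by omega)
  haveI h3 : IsIso (ι.f (i + 1)) := isIso_colimit_ι_f s0 (i + 1) N (by omega)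
  have hq : QuasiIsoAt ι i := by
    rw [quasiIsoAt_iff' ι (i - 1) i (i + 1) (by simp) (by simp)]
    haveI : IsIso ((HomologicalComplex.shortComplexFunctor' _ _ (i - 1) i (i + 1)).map ι) := by
      apply (config := { allowSynthFailures := true }) ShortComplex.isIso_of_isIso
      · exact h1
      · exact h2
      · exact h3
    infer_instance
  have hex : ((tower s0).obj N).ExactAt i :=
    exactAt_of_homology_isZero _ i ((isLE_iff _ _).mp (tower_isLE s0 N) i (by omega))
  exact (quasiIsoAt_iff_exactAt ι i hex).mp hq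

theorem colimit_Q_isZero : IsZero (Q.obj (colimit (tower s0))) := by
  apply isZero_of_homology
  intro n
  refine IsZero.of_iso ?_ ((homologyFunctorFactors (ModuleCat.{u} R) n).app _)
  exact (HomologicalComplex.exactAt_iff_isZero_homology _ _).mp (colimit_exactAt s0 n)

theorem ιinf_term (i : ℤ) : ∃ (G : ModuleCat.{u} R), Module.Finite R G ∧ Module.Free R G ∧
    (b ≤ i → Subsingleton G) ∧
      ∃ E : (colimit (tower s0)).X i ≃ₗ[R] (K'.X i × G),
        ∀ x, E (((ιinf s0).f i).hom x) = (x, 0) := by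
  let N := (b - i).toNat
  obtain ⟨G, hfin, hfree, hsub, e, he⟩ := tower_term s0 N i
  haveI : IsIso ((colimit.ι (tower s0) N).f i) := isIso_colimit_ι_f s0 i N (by omega)
  let j := (asIso ((colimit.ι (tower s0) N).f i)).toLinearEquiv
  refine ⟨G, hfin, hfree, hsub, j.symm ≪≫ₗ e, fun x => ?_⟩
  have h1 : ((ιinf s0).f i).hom x = j (((towerι s0 N).f i).hom x) := by
    rw [ιinf_eq s0 N]
    rfl
  rw [h1, LinearEquiv.trans_apply, LinearEquiv.symm_apply_apply, he]

instance : Mono (ιinf s0) := by
  apply (config := { allowSynthFailures := true }) HomologicalComplex.mono_of_mono_f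
  intro i
  rw [ModuleCat.mono_iff_injective]
  obtain ⟨G, -, -, -, E, hE⟩ := ιinf_term s0 i
  intro x y hxy
  have := congrArg E hxy
  rw [hE, hE] at this
  exact congrArg Prod.fst this

/-- the short complex `K' → C∞ → W` -/
noncomputable def wSC : ShortComplex (DRing.Cx R) :=
  ShortComplex.mk (ιinf s0) (cokernel.π (ιinf s0)) (cokernel.condition _)

theorem wSC_shortExact : (wSC s0).ShortExact :=
  { exact := ShortComplex.exact_cokernel _
    mono_f := by dsimp [wSC]; infer_instance
    epi_g := by dsimp [wSC]; infer_instance }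

theorem wSC_X₃_term (i : ℤ) : Module.Finite R ((wSC s0).X₃.X i) ∧ Module.Free R ((wSC s0).X₃.X i) ∧
    (b ≤ i → IsZero ((wSC s0).X₃.X i)) := by
  have hS : ((wSC s0).map (HomologicalComplex.eval _ _ i)).ShortExact :=
    (wSC_shortExact s0).map_of_exact _
  obtain ⟨G, hfin, hfree, hsub, E, hE⟩ := ιinf_term s0 i
  obtain ⟨e⟩ := X₃_equiv_of_splitting hS G E hE
  have e' : (wSC s0).X₃.X i ≃ₗ[R] G := e
  refine ⟨Module.Finite.equiv e'.symm, Module.Free.of_equiv e'.symm, fun hi => ?_⟩
  haveI := hsub hi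
  haveI : Subsingleton ((wSC s0).X₃.X i) := e'.toEquiv.subsingleton
  exact ModuleCat.isZero_of_subsingleton _

include s0 in
theorem pc'_of_stage0 : DRing.IsPseudoCoherent' R (Q.obj K') := by
  have hT := triangleOfSES_distinguished (wSC_shortExact s0)
  haveI : IsIso (triangleOfSESδ (wSC_shortExact s0)) :=
    (Triangle.isZero₂_iff_isIso₃ _ hT).mp (colimit_Q_isZero s0)
  have hW : DRing.IsPseudoCoherent' R (Q.obj (wSC s0).X₃) :=
    ⟨(wSC s0).X₃, b - 1, fun i hi => (wSC_X₃_term s0 i).2.2 (by omega),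
      fun i => ⟨(wSC_X₃_term s0 i).1, (wSC_X₃_term s0 i).2.1⟩, ⟨Iso.refl _⟩⟩
  have h1 := thickLike_pc.shift _ (-1 : ℤ) hW
  refine thickLike_pc.iso ?_ h1
  exact (shiftFunctor (Dual.D R) (-1 : ℤ)).mapIso (asIso (triangleOfSESδ (wSC_shortExact s0))) ≪≫
    shiftShiftNeg _ (1 : ℤ)

end Tower

/-- an `m`-pseudo-coherent object is cohomologically bounded above -/
theorem exists_isLE_of_mpc {m : ℤ} {K : Dual.D R} (h : DRing.IsPseudoCoherent R m K) :
    ∃ b : ℤ, K.IsLE b := by
  obtain ⟨E, a, b, α, hE, hff, hiso, hepi⟩ := h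
  refine ⟨max m b, ?_⟩
  rw [isLE_iff]
  intro i hi
  haveI := hiso i (by omega)
  refine IsZero.of_iso ?_ (asIso ((Hf R i).map α)).symm
  exact isZero_homology_of_isZero_X _ i (hE i (Or.inr (by omega)))

/-- **Main theorem**: `m`-pseudo-coherent for all `m` implies pseudo-coherent. -/
theorem pc'_of_forall_mpc {K : Dual.D R} (h : ∀ m : ℤ, DRing.IsPseudoCoherent R m K) :
    DRing.IsPseudoCoherent' R K := by
  let K' := Q.objPreimage K
  let e : Q.obj K' ≅ K := Q.objObjPreimageIso K
  obtain ⟨b, hb⟩ := exists_isLE_of_mpc (h 0)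
  have hle : (Q.obj K').IsLE b := TStructure.t.isLE_of_iso e.symm b
  have hpc : ∀ j : ℤ, DRing.IsPseudoCoherent R j (Q.obj K') := fun j => mpc_of_iso e.symm (h j)
  exact thickLike_pc.iso e (pc'_of_stage0 (stage0 K' b hle hpc))

theorem pc'_iff_forall_mpc {K : Dual.D R} :
    DRing.IsPseudoCoherent' R K ↔ ∀ m : ℤ, DRing.IsPseudoCoherent R m K :=
  ⟨fun h m => mpc_of_pc' h m, pc'_of_forall_mpc⟩

end Groth.Agent.Helper11.MPC
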