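import Groth.Agent.Lib.Helper11.AdicDC2
import Groth.Agent.Lib.Helper11.MPC6
import Groth.Agent.Lib.Helper11.MPC3
import Groth.Agent.Lib.Helper11.FinRes
import Groth.Agent.Lib.Helper11.DCP8
import Mathlib.Algebra.Homology.Embedding.CochainComplex

/-!
# Cohomology of the derived completion of an object with finite cohomology (helper11)

Over a Noetherian ring, `H^n(K^∧) = H^n(K)^∧` for `K` with finite cohomology modules, compatibly
with the canonical maps.
-/

set_option autoImplicit false
set_option linter.unusedSectionVars false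
set_option linter.unusedVariables false
set_option linter.style.haveILetI false

universe u

open CategoryTheory CategoryTheory.Limits MonoidalCategory CochainComplex Pretriangulated
  DerivedCategory
open scoped TensorProduct

attribute [local instance] HasDerivedCategory.standard

namespace Groth.Agent.Helper11.AdicDC

open Groth.Agent.Helper11.DC Groth.Agent.Helper11.TA Groth.Agent.Helper11.LDer
  Groth.Agent.Helper11.DCP Groth.Agent.Helper11.GM Groth.Agent.Helper11.PRT
  Groth.Agent.Helper11.LTenComp Groth.Agent.Helper11.MPC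

variable {A : Type u} [CommRing A] (I : Ideal A)

instance preservesFiniteColimits_tensorRight_Nhat :
    PreservesFiniteColimits (tensorRight (Nhat I)) :=
  preservesFiniteColimits_of_natIso (BraidedCategory.tensorLeftIsoTensorRight (Nhat I))

section Noeth

variable [IsNoetherianRing A]

theorem isAC_homologyMap_uCx (F : DRing.Cx A) (n : ℤ) [Module.Finite A (F.homology n)] :
    IsAC I (HomologicalComplex.homologyMap (uCx I F) n) := by
  have key := ShortComplex.homologyMap_mapNatTrans (F.sc n) (υ I)
  have h1 : IsAC I ((υ I).app (F.sc n).homology) := isAC_υ_app I (F.homology n)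
  refine isAC_of_arrow_iso I _ _ ((F.sc n).mapHomologyIso (𝟭 _)).symm
    ((F.sc n).mapHomologyIso (tensorRight (Nhat I))).symm ?_ h1
  show (υ I).app (F.sc n).homology ≫ ((F.sc n).mapHomologyIso (tensorRight (Nhat I))).inv =
    ((F.sc n).mapHomologyIso (𝟭 _)).inv ≫ ShortComplex.homologyMap ((F.sc n).mapNatTrans (υ I))
  rw [key, Iso.inv_hom_id_assoc]

/-- `H^n(K) ⟶ H^n(K^∧)` is the `I`-adic completion of `H^n(K)` -/
def CompletionH [DRing.HasDerivedCompletion I] (K : Dual.D A) (n : ℤ) : Prop :=
  IsAC I ((homologyFunctor (ModuleCat.{u} A) n).map (DRing.toDerivedCompletion I K))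

theorem completionH_of_map [DRing.HasDerivedCompletion I] {K₁ K : Dual.D A} (φ : K₁ ⟶ K) (n : ℤ)
    (h1 : IsIso ((homologyFunctor (ModuleCat.{u} A) n).map φ))
    (h2 : IsIso ((homologyFunctor (ModuleCat.{u} A) n).map
      ((DRing.derivedCompletion I).map φ).hom))
    (hK₁ : CompletionH I K₁ n) : CompletionH I K n := by
  have nat : φ ≫ DRing.toDerivedCompletion I K =
      DRing.toDerivedCompletion I K₁ ≫ ((DRing.derivedCompletion I).map φ).hom :=
    (DRing.derivedCompletionAdj I).unit.naturality φ
  refine isAC_of_arrow_iso I _ _ (asIso ((homologyFunctor (ModuleCat.{u} A) n).map φ))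
    (asIso ((homologyFunctor (ModuleCat.{u} A) n).map
      ((DRing.derivedCompletion I).map φ).hom)) ?_ hK₁
  show (homologyFunctor (ModuleCat.{u} A) n).map (DRing.toDerivedCompletion I K₁) ≫
      (homologyFunctor (ModuleCat.{u} A) n).map ((DRing.derivedCompletion I).map φ).hom =
    (homologyFunctor (ModuleCat.{u} A) n).map φ ≫
      (homologyFunctor (ModuleCat.{u} A) n).map (DRing.toDerivedCompletion I K)
  rw [← Functor.map_comp, ← Functor.map_comp, nat]

theorem completionH_Q [DRing.HasDerivedCompletion I] (F : DRing.Cx A) (b : ℤ)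
    (hb : DRing.VanishesAbove F b) (hff : ∀ i, Module.Finite A (F.X i))
    (hfl : ∀ i, Module.Flat A (F.X i)) (n : ℤ)
    (hfin : Module.Finite A (Dual.HD A (Q.obj F) n)) : CompletionH I (Q.obj F) n := by
  obtain ⟨i, hi⟩ := exists_completion_iso I F b hb hff hfl
  haveI : Module.Finite A ↑((Q ⋙ homologyFunctor (ModuleCat.{u} A) n).obj F) := hfin
  haveI : Module.Finite A (F.homology n) :=
    Module.Finite.equiv ((homologyFunctorFactors (ModuleCat.{u} A) n).app F).toLinearEquiv
  have h1 := isAC_homologyMap_uCx I F n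
  refine isAC_of_arrow_iso I _ _ ((homologyFunctorFactors (ModuleCat.{u} A) n).app F).symm
    (((homologyFunctorFactors (ModuleCat.{u} A) n).app ((tens (Nhat I)).obj F)).symm ≪≫
      (homologyFunctor (ModuleCat.{u} A) n).mapIso i.symm) ?_ h1
  show HomologicalComplex.homologyMap (uCx I F) n ≫
      ((homologyFunctorFactors (ModuleCat.{u} A) n).inv.app ((tens (Nhat I)).obj F) ≫
        (homologyFunctor (ModuleCat.{u} A) n).map i.inv) =
    (homologyFunctorFactors (ModuleCat.{u} A) n).inv.app F ≫
      (homologyFunctor (ModuleCat.{u} A) n).map (DRing.toDerivedCompletion I (Q.obj F))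
  have nat : HomologicalComplex.homologyMap (uCx I F) n ≫
      (homologyFunctorFactors (ModuleCat.{u} A) n).inv.app ((tens (Nhat I)).obj F) =
      (homologyFunctorFactors (ModuleCat.{u} A) n).inv.app F ≫
        (homologyFunctor (ModuleCat.{u} A) n).map (Q.map (uCx I F)) :=
    (homologyFunctorFactors (ModuleCat.{u} A) n).inv.naturality (uCx I F)
  have h3 : (homologyFunctor (ModuleCat.{u} A) n).map (Q.map (uCx I F)) ≫
      (homologyFunctor (ModuleCat.{u} A) n).map i.inv =
      (homologyFunctor (ModuleCat.{u} A) n).map (DRing.toDerivedCompletion I (Q.obj F)) := by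
    rw [← Functor.map_comp, ← hi, Category.assoc, Iso.hom_inv_id, Category.comp_id]
  exact (Category.assoc _ _ _).symm.trans
    ((congrArg (· ≫ (homologyFunctor (ModuleCat.{u} A) n).map i.inv) nat).trans
      ((Category.assoc _ _ _).trans
        (congrArg ((homologyFunctorFactors (ModuleCat.{u} A) n).inv.app F ≫ ·) h3)))

/-- over a Noetherian ring, `H^n(K^∧)` is the adic completion of `H^n(K)` when `K` has finite
cohomology modules -/
theorem completionH_of_finite [DRing.HasDerivedCompletion I] (K : Dual.D A)
    (hK : ∀ n : ℤ, Module.Finite A (Dual.HD A K n)) (n : ℤ) : CompletionH I K n := by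
  classical
  have hI : I.FG := IsNoetherian.noetherian I
  obtain ⟨s, hs⟩ := hI
  have hl : Ideal.span {x : A | x ∈ s.toList} = I := by
    rw [← hs]
    congr 1
    ext x
    simp
  obtain ⟨m, hm⟩ : ∃ m : ℤ, m = n + (s.toList.length : ℤ) := ⟨_, rfl⟩
  let C := Q.objPreimage K
  let e : Q.obj C ≅ K := Q.objObjPreimageIso K
  let φ : Q.obj (C.truncLE m) ⟶ K := Q.map (C.ιTruncLE m) ≫ e.hom
  have hφiso : ∀ j : ℤ, j ≤ m → IsIso ((homologyFunctor (ModuleCat.{u} A) j).map φ) := by
    intro j hj
    haveI : QuasiIsoAt (C.ιTruncLE m) j := C.quasiIsoAt_ιTruncLE m j hj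
    haveI : IsIso ((homologyFunctor (ModuleCat.{u} A) j).map (Q.map (C.ιTruncLE m))) := by
      have h0 : IsIso ((HomologicalComplex.homologyFunctor (ModuleCat.{u} A)
          (ComplexShape.up ℤ) j).map (C.ιTruncLE m)) :=
        (quasiIsoAt_iff_isIso_homologyMap (C.ιTruncLE m) j).mp inferInstance
      exact (NatIso.isIso_map_iff (homologyFunctorFactors (ModuleCat.{u} A) j)
        (C.ιTruncLE m)).mpr h0
    show IsIso ((homologyFunctor (ModuleCat.{u} A) j).map (Q.map (C.ιTruncLE m) ≫ e.hom))
    rw [Functor.map_comp]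
    infer_instance
  have hz : ∀ j : ℤ, m < j →
      IsZero ((homologyFunctor (ModuleCat.{u} A) j).obj (Q.obj (C.truncLE m))) :=
    fun j hj => isZero_homology_of_isZero_X (C.truncLE m) j
      (CochainComplex.isZero_of_isStrictlyLE (C.truncLE m) m j hj)
  have hfin : ∀ j : ℤ, Module.Finite A (Dual.HD A (Q.obj (C.truncLE m)) j) := by
    intro j
    by_cases hj : j ≤ m
    · haveI := hφiso j hj
      haveI := hK j
      exact Module.Finite.equiv
        (asIso ((homologyFunctor (ModuleCat.{u} A) j).map φ)).toLinearEquiv.symm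
    · haveI : Subsingleton (Dual.HD A (Q.obj (C.truncLE m)) j) :=
        ModuleCat.subsingleton_of_isZero (hz j (by omega))
      infer_instance
  have hpc : DRing.IsPseudoCoherent' A (Q.obj (C.truncLE m)) := by
    refine pc'_of_forall_mpc (fun m' => ?_)
    refine mpc_of_homology (Q.obj (C.truncLE m)) m hz (fun i _ => ?_)
    refine mpc_single_of_module _ ?_
    haveI := hfin i
    exact mpc_of_pc' (isPseudoCoherentModule'_of_finite (Dual.HD A (Q.obj (C.truncLE m)) i))
      (m' - i)
  obtain ⟨F, b, hb, hff, ⟨eF⟩⟩ := hpc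
  have h0 : CompletionH I (Q.obj F) n :=
    completionH_Q I F b hb (fun i => (hff i).1)
      (fun i => by haveI := (hff i).2; infer_instance) n (by
        haveI := hfin n
        exact Module.Finite.equiv
          ((homologyFunctor (ModuleCat.{u} A) n).mapIso eF).toLinearEquiv.symm)
  have h1 : CompletionH I (Q.obj (C.truncLE m)) n :=
    completionH_of_map I eF.hom n inferInstance
      (Functor.map_isIso (DRing.derivedCompletion I ⋙ ObjectProperty.ι _ ⋙
        homologyFunctor (ModuleCat.{u} A) n) eF.hom) h0
  have hE : ∀ j : ℤ, j ≤ m → Epi ((homologyFunctor (ModuleCat.{u} A) j).map φ) := fun j hj => by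
    haveI := hφiso j hj
    infer_instance
  have hM : ∀ j : ℤ, Mono ((homologyFunctor (ModuleCat.{u} A) j).map φ) := by
    intro j
    by_cases hj : j ≤ m
    · haveI := hφiso j hj
      infer_instance
    · exact ⟨fun a c _ => (hz j (by omega)).eq_of_tgt a c⟩
  refine completionH_of_map I φ n (hφiso n (by omega)) ?_ h1
  haveI := epi_completion_map s.toList I hl φ n
    (fun j hj => ⟨hE (n + j) (by omega), hM (n + j + 1)⟩)
  haveI := mono_completion_map s.toList I hl φ n
    (fun j hj => ⟨hE (n - 1 + j) (by omega), hM (n - 1 + j + 1)⟩)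
  exact isIso_of_mono_of_epi _

/-- statement S7060 -/
theorem S7060_statement [DRing.HasDerivedCompletion I] (K : Dual.D A)
    (hK : ∀ n : ℤ, Module.Finite A (Dual.HD A K n)) (n : ℤ) :
    ∃ e : Dual.HD A ((DRing.derivedCompletion I).obj K).obj n ≃ₗ[A]
        AdicCompletion I (Dual.HD A K n),
      ∀ x : Dual.HD A K n,
        e (((DerivedCategory.homologyFunctor (ModuleCat.{u} A) n).map
          (DRing.toDerivedCompletion I K)).hom x) = AdicCompletion.of I (Dual.HD A K n) x :=
  completionH_of_finite I K hK n

end Noeth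

end Groth.Agent.Helper11.AdicDC
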