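import Groth.Agent.Lib.Helper11.AdicDC3
import Groth.Agent.Lib.Helper11.DCNak
import Groth.Agent.Lib.Helper1.AdicNoeth

/-!
# Derived complete modules with finite reduction are adically complete (helper11)
-/

set_option autoImplicit false
set_option linter.unusedSectionVars false
set_option linter.unusedVariables false
set_option linter.style.haveILetI false

universe u

open CategoryTheory CategoryTheory.Limits MonoidalCategory CochainComplex Pretriangulated
  DerivedCategory
open scoped TensorProduct

attribute [local instance] HasDerivedCategory.standard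

namespace Groth.Agent.Helper11.AdicDC

open Groth.Agent.Helper11.DC Groth.Agent.Helper11.TA Groth.Agent.Helper11.LDer
  Groth.Agent.Helper11.DCP Groth.Agent.Helper11.GM Groth.Agent.Helper11.PRT
  Groth.Agent.Helper11.LTenComp Groth.Agent.Helper11.MPC

section Alg

/-- adic completeness is invariant under linear equivalences -/
theorem isAdicComplete_of_linearEquiv {R : Type u} [CommRing R] (J : Ideal R) {N M : Type u}
    [AddCommGroup N] [Module R N] [AddCommGroup M] [Module R M] (e : N ≃ₗ[R] M)
    [IsAdicComplete J N] : IsAdicComplete J M := by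
  rw [← AdicCompletion.of_bijective_iff]
  have h : ⇑(AdicCompletion.of J M) =
      ⇑(AdicCompletion.congr J e) ∘ ⇑(AdicCompletion.of J N) ∘ ⇑e.symm := by
    funext x
    show _ = AdicCompletion.map J e.toLinearMap (AdicCompletion.of J N (e.symm x))
    rw [AdicCompletion.map_of]
    simp
  rw [h]
  exact (AdicCompletion.congr J e).bijective.comp
    ((AdicCompletion.of_bijective J N).comp e.symm.bijective)

/-- finite modules over a Noetherian adically complete ring are adically complete -/
theorem isAdicComplete_of_finite (R : Type u) [CommRing R] [IsNoetherianRing R] (J : Ideal R)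
    [IsAdicComplete J R] (N : Type u) [AddCommGroup N] [Module R N] [Module.Finite R N] :
    IsAdicComplete J N := by
  rw [← AdicCompletion.of_bijective_iff]
  have h1 := AdicCompletion.ofTensorProduct_bijective_of_finite_of_isNoetherian J N
  let eR : R ≃ₗ[R] AdicCompletion J R := AdicCompletion.ofLinearEquiv J R
  let e : N ≃ₗ[R] AdicCompletion J R ⊗[R] N :=
    (TensorProduct.lid R N).symm.trans (TensorProduct.congr eR (LinearEquiv.refl R N))
  have h : ⇑(AdicCompletion.of J N) = ⇑(AdicCompletion.ofTensorProduct J N) ∘ ⇑e := by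
    funext x
    show _ = AdicCompletion.ofTensorProduct J N (AdicCompletion.of J R (1 : R) ⊗ₜ[R] x)
    rw [AdicCompletion.ofTensorProduct_tmul]
    have h1 : AdicCompletion.of J R (1 : R) = 1 := map_one (algebraMap R (AdicCompletion J R))
    rw [h1, one_smul]
  rw [h]
  exact h1.comp e.bijective

end Alg

variable {A : Type u} [CommRing A] (I : Ideal A) [IsNoetherianRing A]

theorem bijective_Q_uCx_comp [DRing.HasDerivedCompletion I] (F : DRing.Cx A) (b : ℤ)
    (hb : DRing.VanishesAbove F b) (hff : ∀ i, Module.Finite A (F.X i))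
    (hfl : ∀ i, Module.Flat A (F.X i)) (E : Dual.D A) (hE : DRing.IsDerivedComplete I E) :
    Function.Bijective (fun ψ : Q.obj ((tens (Nhat I)).obj F) ⟶ E => Q.map (uCx I F) ≫ ψ) := by
  obtain ⟨i, hi⟩ := exists_completion_iso I F b hb hff hfl
  have h1 := bijective_unit_comp I (Q.obj F) E hE
  have h2 : Function.Bijective (fun ψ : Q.obj ((tens (Nhat I)).obj F) ⟶ E => i.hom ≫ ψ) :=
    ⟨fun a c h => (cancel_epi i.hom).mp h, fun c => ⟨i.inv ≫ c, by simp⟩⟩
  have h3 : (fun ψ : Q.obj ((tens (Nhat I)).obj F) ⟶ E => Q.map (uCx I F) ≫ ψ) =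
      (fun ψ => DRing.toDerivedCompletion I (Q.obj F) ≫ ψ) ∘ (fun ψ => i.hom ≫ ψ) := by
    funext ψ
    show _ = DRing.toDerivedCompletion I (Q.obj F) ≫ i.hom ≫ ψ
    rw [← Category.assoc, hi]
  rw [h3]
  exact h1.comp h2

/-- maps from a finite flat module `P` to a derived complete module extend uniquely to
`P ⊗ Â` -/
theorem bijective_υ_comp [DRing.HasDerivedCompletion I] (M : ModuleCat.{u} A)
    (hc : DRing.IsDerivedComplete I ((DerivedCategory.singleFunctor (ModuleCat.{u} A) 0).obj M))
    (P : ModuleCat.{u} A) [Module.Finite A P] [Module.Flat A P] :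
    Function.Bijective (fun g : (P ⊗ Nhat I : ModuleCat.{u} A) ⟶ M => (υ I).app P ≫ g) := by
  obtain ⟨F, hF⟩ : ∃ F : DRing.Cx A,
      F = (CochainComplex.singleFunctor (ModuleCat.{u} A) 0).obj P := ⟨_, rfl⟩
  have hb : DRing.VanishesAbove F 0 := by
    intro i hi
    rw [hF]
    exact HomologicalComplex.isZero_single_obj_X (ComplexShape.up ℤ) 0 P i (by omega)
  have hff : ∀ i, Module.Finite A (F.X i) := by
    intro i
    rw [hF]
    by_cases h0 : i = 0
    · subst h0
      exact Module.Finite.equiv
        (HomologicalComplex.singleObjXSelf (ComplexShape.up ℤ) 0 P).toLinearEquiv.symm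
    · haveI : Subsingleton (((CochainComplex.singleFunctor (ModuleCat.{u} A) 0).obj P).X i) :=
        ModuleCat.subsingleton_of_isZero
          (HomologicalComplex.isZero_single_obj_X (ComplexShape.up ℤ) 0 P i h0)
      infer_instance
  have hfl : ∀ i, Module.Flat A (F.X i) := by
    intro i
    rw [hF]
    by_cases h0 : i = 0
    · subst h0
      exact Module.Flat.of_linearEquiv
        (HomologicalComplex.singleObjXSelf (ComplexShape.up ℤ) 0 P).toLinearEquiv
    · haveI : Subsingleton (((CochainComplex.singleFunctor (ModuleCat.{u} A) 0).obj P).X i) :=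
        ModuleCat.subsingleton_of_isZero
          (HomologicalComplex.isZero_single_obj_X (ComplexShape.up ℤ) 0 P i h0)
      infer_instance
  let G : ModuleCat.{u} A ⥤ Dual.D A := CochainComplex.singleFunctor (ModuleCat.{u} A) 0 ⋙ Q
  haveI : G.Full := Functor.Full.of_iso (singleFunctorIsoCompQ (ModuleCat.{u} A) 0)
  haveI : G.Faithful := Functor.Faithful.of_iso (singleFunctorIsoCompQ (ModuleCat.{u} A) 0)
  have hc' : DRing.IsDerivedComplete I (G.obj M) := hc
  have hbij := bijective_Q_uCx_comp I F 0 hb hff hfl _ hc'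
  subst hF
  let e2 : (tens (Nhat I)).obj ((CochainComplex.singleFunctor (ModuleCat.{u} A) 0).obj P) ≅
      (CochainComplex.singleFunctor (ModuleCat.{u} A) 0).obj (P ⊗ Nhat I) :=
    (HomologicalComplex.singleMapHomologicalComplex (tensorRight (Nhat I))
      (ComplexShape.up ℤ) 0).app P
  have hsq : (CochainComplex.singleFunctor (ModuleCat.{u} A) 0).map ((υ I).app P) =
      uCx I ((CochainComplex.singleFunctor (ModuleCat.{u} A) 0).obj P) ≫ e2.hom := by
    apply HomologicalComplex.from_single_hom_ext
    have nat := (υ I).naturality (HomologicalComplex.singleObjXSelf (ComplexShape.up ℤ) 0 P).hom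
    have h1 : ((CochainComplex.singleFunctor (ModuleCat.{u} A) 0).map ((υ I).app P)).f 0 =
        (HomologicalComplex.singleObjXSelf (ComplexShape.up ℤ) 0 P).hom ≫ (υ I).app P ≫
          (HomologicalComplex.singleObjXSelf (ComplexShape.up ℤ) 0
            (P ⊗ Nhat I : ModuleCat.{u} A)).inv :=
      HomologicalComplex.single_map_f_self _ _ _
    have h2 : e2.hom.f 0 = (tensorRight (Nhat I)).map
        (HomologicalComplex.singleObjXSelf (ComplexShape.up ℤ) 0 P).hom ≫
        (HomologicalComplex.singleObjXSelf (ComplexShape.up ℤ) 0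
          ((tensorRight (Nhat I)).obj P)).inv :=
      HomologicalComplex.singleMapHomologicalComplex_hom_app_self _ _ _ _
    refine h1.trans ?_
    refine Eq.trans ?_ (congrArg (fun t =>
      (uCx I ((CochainComplex.singleFunctor (ModuleCat.{u} A) 0).obj P)).f 0 ≫ t) h2.symm)
    exact (Category.assoc _ _ _).symm.trans
      ((congrArg (· ≫ (HomologicalComplex.singleObjXSelf (ComplexShape.up ℤ) 0
        (P ⊗ Nhat I : ModuleCat.{u} A)).inv) nat).trans (Category.assoc _ _ _))
  -- the comparison with the derived category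
  have key : ∀ g : (P ⊗ Nhat I : ModuleCat.{u} A) ⟶ M,
      Q.map (uCx I ((CochainComplex.singleFunctor (ModuleCat.{u} A) 0).obj P)) ≫
        (Q.map e2.hom ≫ G.map g) = G.map ((υ I).app P ≫ g) := by
    intro g
    show Q.map _ ≫ Q.map _ ≫ Q.map ((CochainComplex.singleFunctor (ModuleCat.{u} A) 0).map g) =
      Q.map ((CochainComplex.singleFunctor (ModuleCat.{u} A) 0).map ((υ I).app P ≫ g))
    rw [Functor.map_comp, hsq, Functor.map_comp, Functor.map_comp, Category.assoc]
  haveI : IsIso (Q.map e2.hom) := Functor.map_isIso Q e2.hom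
  constructor
  · intro g₁ g₂ h
    have h' : (υ I).app P ≫ g₁ = (υ I).app P ≫ g₂ := h
    apply G.map_injective
    have := hbij.1 (a₁ := Q.map e2.hom ≫ G.map g₁) (a₂ := Q.map e2.hom ≫ G.map g₂) (by
        show Q.map _ ≫ _ = Q.map _ ≫ _
        rw [key g₁, key g₂, h'])
    exact (cancel_epi (Q.map e2.hom)).mp this
  · intro g'
    obtain ⟨ψ, hψ⟩ := hbij.2 (G.map g')
    have hψ' : Q.map (uCx I ((CochainComplex.singleFunctor (ModuleCat.{u} A) 0).obj P)) ≫ ψ =
        G.map g' := hψ
    obtain ⟨g, hg⟩ := G.map_surjective (Q.map e2.inv ≫ ψ)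
    refine ⟨g, G.map_injective ?_⟩
    have k := key g
    rw [hg] at k
    have hsimp : Q.map e2.hom ≫ Q.map e2.inv ≫ ψ = ψ := by
      rw [← Category.assoc, ← Functor.map_comp, Iso.hom_inv_id]
      rw [CategoryTheory.Functor.map_id, Category.id_comp]
    rw [hsimp, hψ'] at k
    exact k.symm

/-- maps from a finite flat module `P` to a derived complete module extend uniquely to the adic
completion of `P` -/
theorem bijective_comp_of [DRing.HasDerivedCompletion I] (M : Type u) [AddCommGroup M]
    [Module A M] (hc : DRing.IsDerivedComplete I (Dual.inD A M)) (P : Type u) [AddCommGroup P]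
    [Module A P] [Module.Finite A P] [Module.Flat A P] :
    Function.Bijective (fun g : AdicCompletion I P →ₗ[A] M => g ∘ₗ (AdicCompletion.of I P)) := by
  have h := bijective_υ_comp I (ModuleCat.of A M) hc (ModuleCat.of A P)
  let e : (P ⊗[A] AdicCompletion I A) ≃ₗ[A] AdicCompletion I P := tensorEquiv I P
  constructor
  · intro g₁ g₂ hg
    have hg' : ∀ x : P, g₁ (AdicCompletion.of I P x) = g₂ (AdicCompletion.of I P x) :=
      fun x => LinearMap.congr_fun hg x
    have := h.1 (a₁ := ModuleCat.ofHom (g₁ ∘ₗ e.toLinearMap))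
      (a₂ := ModuleCat.ofHom (g₂ ∘ₗ e.toLinearMap)) (by
        apply ModuleCat.hom_ext
        apply LinearMap.ext
        intro x
        show g₁ (e (((υ I).app (ModuleCat.of A P)).hom x)) =
          g₂ (e (((υ I).app (ModuleCat.of A P)).hom x))
        rw [υ_app_apply]
        show g₁ (tensorEquiv I P _) = g₂ (tensorEquiv I P _)
        rw [tensorEquiv_tmul_one]
        exact hg' x)
    apply LinearMap.ext
    intro y
    obtain ⟨z, rfl⟩ := e.surjective y
    exact LinearMap.congr_fun (congrArg ModuleCat.Hom.hom this) z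
  · intro g'
    obtain ⟨g, hg⟩ := h.2 (ModuleCat.ofHom g')
    refine ⟨g.hom ∘ₗ e.symm.toLinearMap, ?_⟩
    apply LinearMap.ext
    intro x
    show g.hom (e.symm (AdicCompletion.of I P x)) = g' x
    have h1 : e.symm (AdicCompletion.of I P x) = ((υ I).app (ModuleCat.of A P)).hom x := by
      rw [LinearEquiv.symm_apply_eq, υ_app_apply]
      exact (tensorEquiv_tmul_one I P x).symm
    rw [h1]
    exact LinearMap.congr_fun (congrArg ModuleCat.Hom.hom hg) x

end Groth.Agent.Helper11.AdicDC
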