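import Groth.Agent.Lib.Helper11.AdicDC4

/-!
# Derived complete modules with finite reduction are adically complete: the statement (helper11)
-/

set_option autoImplicit false
set_option linter.unusedSectionVars false
set_option linter.unusedVariables false
set_option linter.style.haveILetI false

universe u

open CategoryTheory CategoryTheory.Limits
open scoped TensorProduct

attribute [local instance] HasDerivedCategory.standard

namespace Groth.Agent.Helper11.AdicDC

open Groth.Agent.Helper11.DC Groth.Agent.Helper11.DCP

variable {A : Type u} [CommRing A] [IsNoetherianRing A] (I : Ideal A)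

/-- statement S7059 -/
theorem S7059_statement (M : Type u) [AddCommGroup M] [Module A M]
    (hc : DRing.IsDerivedComplete I (Dual.inD A M))
    (hf : Module.Finite A (M ⧸ I • (⊤ : Submodule A M))) :
    IsAdicComplete I M ∧ Module.Finite (AdicCompletion I A) (AdicCompletion I M) := by
  classical
  have hI : I.FG := IsNoetherian.noetherian I
  haveI : DRing.HasDerivedCompletion I := hasDerivedCompletion_of_fg I hI
  obtain ⟨n, f, hfs⟩ := Module.Finite.exists_fin' A (M ⧸ I • (⊤ : Submodule A M))
  obtain ⟨φ, hφ⟩ := Module.projective_lifting_property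
    (Submodule.mkQ (I • (⊤ : Submodule A M))) f (Submodule.mkQ_surjective _)
  have hφs : Function.Surjective ((Submodule.mkQ (I • (⊤ : Submodule A M))) ∘ₗ φ) := by
    rw [hφ]
    exact hfs
  have hfinP : Module.Finite (AdicCompletion I A) (AdicCompletion I (Fin n → A)) :=
    Module.Finite.equiv (AdicCompletion.piEquivFin I n).symm
  have part2 : Module.Finite (AdicCompletion I A) (AdicCompletion I M) :=
    Module.Finite.of_surjective (AdicCompletion.map I φ)
      (AdicCompletion.map_surjective_of_mkQ_comp_surjective hφs)
  refine ⟨?_, part2⟩
  obtain ⟨φh, hφh⟩ := (bijective_comp_of I M hc (Fin n → A)).2 φ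
  have hφh' : ∀ p, φh (AdicCompletion.of I _ p) = φ p := fun p => LinearMap.congr_fun hφh p
  have hTM : ∀ g ∈ I, Function.Bijective (Tf M g) := (isDerivedComplete_iff M I).mp hc
  haveI : IsAdicComplete I (AdicCompletion I (Fin n → A)) := AdicCompletion.isAdicComplete hI
  have hTP : ∀ g ∈ I, Function.Bijective (Tf (AdicCompletion I (Fin n → A)) g) :=
    fun g hg => Tf_bijective_of_isAdicComplete I _ g hg
  have hsurj : Function.Surjective φh := by
    obtain ⟨s, hs⟩ := hI
    have hsub : Subsingleton (M ⧸ LinearMap.range φh) := by
      apply nakayama_aux s (M ⧸ LinearMap.range φh)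
      · intro g hg
        exact dc_coker g φh (hTP g (hs ▸ Ideal.subset_span hg))
          (hTM g (hs ▸ Ideal.subset_span hg))
      · rw [hs, eq_top_iff]
        intro c _
        obtain ⟨m, rfl⟩ := Submodule.mkQ_surjective _ c
        obtain ⟨p, hp⟩ := hφs (Submodule.mkQ _ m)
        have h1 : m - φ p ∈ I • (⊤ : Submodule A M) := by
          rw [← Submodule.Quotient.mk_eq_zero, Submodule.Quotient.mk_sub]
          have : (Submodule.Quotient.mk (φ p) : M ⧸ I • (⊤ : Submodule A M)) =
              Submodule.Quotient.mk m := hp
          rw [this, sub_self]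
        have h2 : (Submodule.mkQ (LinearMap.range φh)) m =
            (Submodule.mkQ (LinearMap.range φh)) (m - φ p) := by
          rw [map_sub]
          have : (Submodule.mkQ (LinearMap.range φh)) (φ p) = 0 := by
            rw [Submodule.mkQ_apply, Submodule.Quotient.mk_eq_zero]
            exact ⟨AdicCompletion.of I _ p, hφh' p⟩
          rw [this, sub_zero]
        rw [h2]
        have h3 : Submodule.map (Submodule.mkQ (LinearMap.range φh)) (I • ⊤) ≤
            I • (⊤ : Submodule A (M ⧸ LinearMap.range φh)) := by
          rw [Submodule.map_smul'']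
          exact Submodule.smul_mono le_rfl le_top
        exact h3 (Submodule.mem_map_of_mem h1)
    rw [← LinearMap.range_eq_top]
    exact Submodule.Quotient.subsingleton_iff.mp hsub
  have hstab : ∀ (a : AdicCompletion I A) (k : AdicCompletion I (Fin n → A)),
      φh k = 0 → φh (a • k) = 0 := by
    intro a k hk
    let ψ : AdicCompletion I A →ₗ[A] M := φh ∘ₗ
      ((LinearMap.toSpanSingleton (AdicCompletion I A) (AdicCompletion I (Fin n → A))
        k).restrictScalars A)
    have hψ : ψ = 0 := by
      refine (bijective_comp_of I M hc A).1 ?_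
      show ψ ∘ₗ AdicCompletion.of I A = (0 : AdicCompletion I A →ₗ[A] M) ∘ₗ AdicCompletion.of I A
      apply LinearMap.ext
      intro x
      show φh (AdicCompletion.of I A x • k) = 0
      have : AdicCompletion.of I A x • k = x • k := by
        rw [← algebraMap_smul (AdicCompletion I A) x k]
        rfl
      rw [this, map_smul, hk, smul_zero]
    exact LinearMap.congr_fun hψ a
  let K' : Submodule (AdicCompletion I A) (AdicCompletion I (Fin n → A)) :=
    { carrier := {k | φh k = 0}
      add_mem' := fun {a b} ha hb => by
        show φh (a + b) = 0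
        rw [map_add, ha, hb, add_zero]
      zero_mem' := map_zero φh
      smul_mem' := fun a k hk => hstab a k hk }
  haveI : IsNoetherianRing (AdicCompletion I A) :=
    Groth.Agent.Helper1.isNoetherianRing_adicCompletion_of_fg A I hI
  haveI : IsAdicComplete (I.map (algebraMap A (AdicCompletion I A))) (AdicCompletion I A) :=
    AdicCompletion.isAdicComplete_self I hI
  haveI : Module.Finite (AdicCompletion I A) (AdicCompletion I (Fin n → A) ⧸ K') := inferInstance
  have hQ : IsAdicComplete (I.map (algebraMap A (AdicCompletion I A)))
      (AdicCompletion I (Fin n → A) ⧸ K') := isAdicComplete_of_finite _ _ _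
  haveI hQ' : IsAdicComplete I (AdicCompletion I (Fin n → A) ⧸ K') :=
    (IsAdicComplete.map_algebraMap_iff I _).mp hQ
  have hK : K'.restrictScalars A = LinearMap.ker φh := by
    ext k
    rfl
  let e : (AdicCompletion I (Fin n → A) ⧸ K') ≃ₗ[A] M :=
    ((Submodule.Quotient.restrictScalarsEquiv A K').symm.trans
      (Submodule.quotEquivOfEq _ _ hK)).trans (φh.quotKerEquivOfSurjective hsurj)
  exact isAdicComplete_of_linearEquiv I e

end Groth.Agent.Helper11.AdicDC
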