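import Mathlib.RingTheory.AdicCompletion.AsTensorProduct
import Mathlib.RingTheory.AdicCompletion.Completeness
import Mathlib.RingTheory.Flat.Basic
import Mathlib.RingTheory.Flat.Tensor
import Mathlib.RingTheory.Filtration

/-!
# Adic completion with flat coefficients: exactness (helper11)

`M ↦ (M ⊗ N)^` is exact on finite modules over a Noetherian ring when `N` is flat
(Artin–Rees with flat coefficients).
-/

set_option autoImplicit false
set_option linter.unusedSectionVars false
set_option linter.unusedVariables false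

universe u

open TensorProduct LinearMap

namespace Groth.Agent.Helper11.AdicFl

variable {A : Type u} [CommRing A] (I : Ideal A)

section WAR

variable {M N P : Type u} [AddCommGroup M] [Module A M] [AddCommGroup N] [Module A N]
  [AddCommGroup P] [Module A P]

/-- weak Artin–Rees property for the range of `f` -/
def WAR (f : M →ₗ[A] N) : Prop :=
  ∃ k : ℕ, ∀ n ≥ k,
    (I ^ n • ⊤ : Submodule A N) ⊓ LinearMap.range f ≤ I ^ (n - k) • LinearMap.range f

theorem war_of_finite [IsNoetherianRing A] [Module.Finite A N] (f : M →ₗ[A] N) : WAR I f := by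
  obtain ⟨k, hk⟩ := Ideal.exists_pow_inf_eq_pow_smul I (LinearMap.range f)
  exact ⟨k, fun n hn => (hk n hn).le.trans (smul_mono_right _ inf_le_right)⟩

theorem map_injective_of_war {f : M →ₗ[A] N} (hf : Function.Injective f) (h : WAR I f) :
    Function.Injective (AdicCompletion.map I f) := by
  obtain ⟨k, hk⟩ := h
  rw [← LinearMap.ker_eq_bot, LinearMap.ker_eq_bot']
  intro x
  apply AdicCompletion.induction_on I M x (fun a ↦ ?_)
  intro hx
  refine AdicCompletion.mk_zero_of _ _ _ ⟨42, fun n _ ↦ ⟨n + k, by lia, n, by lia, ?_⟩⟩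
  rw [← Submodule.comap_map_eq_of_injective hf (I ^ n • ⊤ : Submodule A M),
    Submodule.map_smul'', Submodule.map_top]
  have h1 := hk (n + k) (by lia)
  rw [Nat.add_sub_cancel] at h1
  apply h1
  exact ⟨by simpa using congrArg (fun x ↦ x.val (n + k)) hx, ⟨a (n + k), rfl⟩⟩

section

variable {f : M →ₗ[A] N} {g : N →ₗ[A] P} (hf : Function.Injective f)
  (hfg : Function.Exact f g) (hg : Function.Surjective g)

section

variable {k : ℕ}
  (hkn : ∀ n ≥ k,
    (I ^ n • ⊤ : Submodule A N) ⊓ LinearMap.range f ≤ I ^ (n - k) • LinearMap.range f)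
  (x : AdicCompletion.AdicCauchySequence I N) (hker : ∀ (n : ℕ), g (x n) ∈ (I ^ n • ⊤ : Submodule A P))

/-- In each step, a preimage is constructed from the preimage of the previous step by
adding this delta. -/
noncomputable def mapExactAuxDelta {n : ℕ} {d : N}
    (hdmem : d ∈ (I ^ (k + n + 1) • ⊤ : Submodule A N)) {y yₙ : M}
    (hd : f y = x (k + n + 1) - d) (hyₙ : f yₙ - x (k + n) ∈ (I ^ (k + n) • ⊤ : Submodule A N)) :
    { d : (I ^ n • ⊤ : Submodule A M)
      | f (yₙ + d) - x (k + n + 1) ∈ (I ^ (k + n + 1) • ⊤ : Submodule A N) } :=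
  have h : f (y - yₙ) ∈ (I ^ (k + n) • ⊤ : Submodule A N) := by
    simp only [map_sub, hd]
    convert_to x (k + n + 1) - x (k + n) - d - (f yₙ - x (k + n)) ∈ I ^ (k + n) • ⊤
    · abel
    · refine Submodule.sub_mem _ (Submodule.sub_mem _ ?_ ?_) hyₙ
      · rw [← Submodule.Quotient.eq]
        exact AdicCompletion.AdicCauchySequence.mk_eq_mk (by lia) _
      · exact (Submodule.smul_mono_left (Ideal.pow_le_pow_right (by lia))) hdmem
  have hyyₙ : y - yₙ ∈ (I ^ n • ⊤ : Submodule A M) := by
    convert_to y - yₙ ∈ (I ^ (k + n - k) • ⊤ : Submodule A M)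
    · simp
    · rw [← Submodule.comap_map_eq_of_injective hf (I ^ (k + n - k) • ⊤ : Submodule A M),
        Submodule.map_smul'', Submodule.map_top]
      apply hkn (k + n) (by lia)
      exact ⟨h, ⟨y - yₙ, rfl⟩⟩
  ⟨⟨y - yₙ, hyyₙ⟩, by simpa [hd, Nat.succ_eq_add_one, Nat.add_assoc]⟩

open Submodule

include hfg in
/-- Inductively construct preimage of Cauchy sequence in kernel of `g.adicCompletion I`. -/
noncomputable def mapExactAux :
    (n : ℕ) → { a : M | f a - x (k + n) ∈ (I ^ (k + n) • ⊤ : Submodule A N) }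
  | .zero =>
    let d := (h2 0).choose
    let y := (h2 0).choose_spec.choose
    have hdy : f y = x (k + 0) - d := (h2 0).choose_spec.choose_spec.right
    have hdmem := (h2 0).choose_spec.choose_spec.left
    ⟨y, by simpa [hdy]⟩
  | .succ n =>
    let d := (h2 <| n + 1).choose
    let y := (h2 <| n + 1).choose_spec.choose
    have hdy : f y = x (k + (n + 1)) - d := (h2 <| n + 1).choose_spec.choose_spec.right
    have hdmem := (h2 <| n + 1).choose_spec.choose_spec.left
    let ⟨yₙ, (hyₙ : f yₙ - x (k + n) ∈ (I ^ (k + n) • ⊤ : Submodule A N))⟩ :=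
      mapExactAux n
    let ⟨d, hd⟩ := mapExactAuxDelta I hf hkn x hdmem hdy hyₙ
    ⟨yₙ + d, hd⟩
where
  h1 (n : ℕ) : g (x (k + n)) ∈ Submodule.map g (I ^ (k + n) • ⊤ : Submodule A N) := by
    rw [map_smul'', Submodule.map_top, range_eq_top.mpr hg]
    exact hker (k + n)
  h2 (n : ℕ) : ∃ (d : N) (y : M),
      d ∈ (I ^ (k + n) • ⊤ : Submodule A N) ∧ f y = x (k + n) - d := by
    obtain ⟨d, hdmem, hd⟩ := h1 n
    obtain ⟨y, hdy⟩ := (hfg (x (k + n) - d)).mp (by simp [hd])
    exact ⟨d, y, hdmem, hdy⟩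

end

include hf hfg hg in
/-- `AdicCompletion` is exact on short exact sequences whose first map has the weak
Artin–Rees property. -/
theorem map_exact_of_war (h : WAR I f) :
    Function.Exact (AdicCompletion.map I f) (AdicCompletion.map I g) := by
  refine LinearMap.exact_of_comp_eq_zero_of_ker_le_range ?_ (fun y ↦ ?_)
  · rw [AdicCompletion.map_comp, hfg.linearMap_comp_eq_zero, AdicCompletion.map_zero]
  · apply AdicCompletion.induction_on I N y (fun b ↦ ?_)
    intro hz
    obtain ⟨k, hk⟩ := h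
    have hb (n : ℕ) : g (b n) ∈ (I ^ n • ⊤ : Submodule A P) := by
      simpa using congrArg (fun x ↦ x.val n) hz
    let a := mapExactAux I hf hfg hg hk b hb
    refine ⟨AdicCompletion.mk I M (AdicCompletion.AdicCauchySequence.mk I M (fun n ↦ (a n : M)) ?_), ?_⟩
    · refine fun n ↦ SModEq.symm ?_
      simp [a, mapExactAux, SModEq]
    · ext n
      suffices h : Submodule.Quotient.mk (p := (I ^ n • ⊤ : Submodule A N)) (f (a n)) =
            Submodule.Quotient.mk (p := (I ^ n • ⊤ : Submodule A N)) (b (k + n)) by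
        simp [h, AdicCompletion.AdicCauchySequence.mk_eq_mk (show n ≤ k + n by lia)]
      rw [Submodule.Quotient.eq]
      have hle : (I ^ (k + n) • ⊤ : Submodule A N) ≤ (I ^ n • ⊤ : Submodule A N) :=
        Submodule.smul_mono_left (Ideal.pow_le_pow_right (by lia))
      exact hle (a n).property

end

end WAR

section FlatCoeff

variable {M₂ : Type u} [AddCommGroup M₂] [Module A M₂] (N : Type u) [AddCommGroup N] [Module A N]

/-- the image of `P ⊗ N` in `M₂ ⊗ N` -/
def tsub (P : Submodule A M₂) : Submodule A (M₂ ⊗[A] N) := LinearMap.range (P.subtype.rTensor N)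

theorem tmul_mem_tsub {P : Submodule A M₂} (p : M₂) (hp : p ∈ P) (n : N) :
    p ⊗ₜ[A] n ∈ tsub N P := ⟨(⟨p, hp⟩ : P) ⊗ₜ[A] n, rfl⟩

theorem tsub_le_iff {P : Submodule A M₂} {S : Submodule A (M₂ ⊗[A] N)} :
    tsub N P ≤ S ↔ ∀ p ∈ P, ∀ n : N, p ⊗ₜ[A] n ∈ S := by
  constructor
  · intro h p hp n
    exact h (tmul_mem_tsub N p hp n)
  · rintro h _ ⟨s, rfl⟩
    induction s using TensorProduct.induction_on with
    | zero => simp
    | tmul p n => exact h p.1 p.2 n
    | add a b ha hb =>
      rw [map_add]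
      exact S.add_mem ha hb

theorem tsub_mono {P Q : Submodule A M₂} (h : P ≤ Q) : tsub N P ≤ tsub N Q := by
  rw [tsub_le_iff]
  intro p hp n
  exact tmul_mem_tsub N p (h hp) n

theorem tsub_top : tsub N (⊤ : Submodule A M₂) = ⊤ := by
  rw [eq_top_iff]
  rintro t -
  induction t using TensorProduct.induction_on with
  | zero => exact zero_mem _
  | tmul m n => exact tmul_mem_tsub N (P := ⊤) m Submodule.mem_top n
  | add a b ha hb => exact add_mem ha hb

theorem tsub_smul (J : Ideal A) (P : Submodule A M₂) : tsub N (J • P) = J • tsub N P := by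
  apply le_antisymm
  · rw [tsub_le_iff]
    intro p hp n
    refine Submodule.smul_induction_on hp ?_ ?_
    · intro r hr m hm
      rw [← TensorProduct.smul_tmul']
      exact Submodule.smul_mem_smul hr (tmul_mem_tsub N m hm n)
    · intro a b ha hb
      rw [TensorProduct.add_tmul]
      exact add_mem ha hb
  · rw [Submodule.smul_le]
    intro r hr t ht
    obtain ⟨s, rfl⟩ := ht
    induction s using TensorProduct.induction_on with
    | zero => simp
    | tmul p n =>
      show r • ((p : M₂) ⊗ₜ[A] n) ∈ _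
      rw [TensorProduct.smul_tmul']
      exact tmul_mem_tsub N _ (Submodule.smul_mem_smul hr p.2) n
    | add a b ha hb =>
      rw [map_add, smul_add]
      exact add_mem ha hb

theorem range_rTensor_eq_tsub {M₁ : Type u} [AddCommGroup M₁] [Module A M₁] (f : M₁ →ₗ[A] M₂) :
    LinearMap.range (f.rTensor N) = tsub N (LinearMap.range f) := by
  apply le_antisymm
  · rintro _ ⟨s, rfl⟩
    induction s using TensorProduct.induction_on with
    | zero => simp
    | tmul m n => exact tmul_mem_tsub N (P := LinearMap.range f) (f m) ⟨m, rfl⟩ n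
    | add a b ha hb =>
      rw [map_add]
      exact add_mem ha hb
  · rw [tsub_le_iff]
    rintro _ ⟨m, rfl⟩ n
    exact ⟨m ⊗ₜ[A] n, rfl⟩

/-- for flat `N`, `- ⊗ N` commutes with finite intersections of submodules -/
theorem tsub_inf_le [Module.Flat A N] (P Q : Submodule A M₂) :
    tsub N P ⊓ tsub N Q ≤ tsub N (P ⊓ Q) := by
  rintro t ⟨⟨s, rfl⟩, htQ⟩
  let g : P →ₗ[A] M₂ ⧸ Q := Q.mkQ ∘ₗ P.subtype
  have hex : Function.Exact (LinearMap.ker g).subtype g := LinearMap.exact_subtype_ker_map g
  have hex' : Function.Exact ((LinearMap.ker g).subtype.rTensor N) (g.rTensor N) :=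
    Module.Flat.rTensor_exact N hex
  have hs : g.rTensor N s = 0 := by
    have h1 : g.rTensor N = Q.mkQ.rTensor N ∘ₗ P.subtype.rTensor N := LinearMap.rTensor_comp N _ _
    obtain ⟨s', hs'⟩ := htQ
    have h2 : Q.mkQ ∘ₗ Q.subtype = 0 := by
      ext q
      simp
    rw [h1, LinearMap.comp_apply, ← hs', ← LinearMap.comp_apply, ← LinearMap.rTensor_comp, h2,
      LinearMap.rTensor_zero]
    rfl
  obtain ⟨s'', rfl⟩ := (hex' s).mp hs
  let j : LinearMap.ker g →ₗ[A] (P ⊓ Q : Submodule A M₂) :=
    LinearMap.codRestrict _ (P.subtype ∘ₗ (LinearMap.ker g).subtype) (fun c => ⟨c.1.2, by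
      have h3 : g c.1 = 0 := c.2
      exact (Submodule.Quotient.mk_eq_zero Q).mp h3⟩)
  refine ⟨j.rTensor N s'', ?_⟩
  rw [← LinearMap.comp_apply, ← LinearMap.rTensor_comp, ← LinearMap.comp_apply,
    ← LinearMap.rTensor_comp]
  rfl

theorem war_rTensor [IsNoetherianRing A] [Module.Finite A M₂] [Module.Flat A N]
    {M₁ : Type u} [AddCommGroup M₁] [Module A M₁] (f : M₁ →ₗ[A] M₂) :
    WAR I (f.rTensor N) := by
  obtain ⟨k, hk⟩ := war_of_finite I f
  refine ⟨k, fun n hn => ?_⟩
  rw [range_rTensor_eq_tsub, ← tsub_top (M₂ := M₂) N, ← tsub_smul, ← tsub_smul]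
  exact (tsub_inf_le N _ _).trans (tsub_mono N (hk n hn))

end FlatCoeff

end Groth.Agent.Helper11.AdicFl
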