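import Groth.Agent.Lib.Helper11.AdicFl1
import Mathlib.Algebra.FiveLemma

/-!
# Adic completion with flat coefficients: `M ⊗ N^ ≃ (M ⊗ N)^` and flatness of `N^` (helper11)
-/

set_option autoImplicit false
set_option linter.unusedSectionVars false
set_option linter.unusedVariables false

universe u

open TensorProduct LinearMap

namespace Groth.Agent.Helper11.AdicFl

variable {A : Type u} [CommRing A] (I : Ideal A)

section MapAdd

variable {M N : Type u} [AddCommGroup M] [Module A M] [AddCommGroup N] [Module A N]

theorem map_add' (f g : M →ₗ[A] N) :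
    AdicCompletion.map I (f + g) = AdicCompletion.map I f + AdicCompletion.map I g := by
  ext a n
  simp

theorem map_smul'' (r : A) (f : M →ₗ[A] N) (x : AdicCompletion I M) :
    AdicCompletion.map I (r • f) x = r • AdicCompletion.map I f x := by
  induction x using AdicCompletion.induction_on with
  | _ a =>
    ext n
    simp [AdicCompletion.val_smul_apply]

theorem map_sum' {ι : Type*} (s : Finset ι) (f : ι → (M →ₗ[A] N)) :
    AdicCompletion.map I (∑ i ∈ s, f i) = ∑ i ∈ s, AdicCompletion.map I (f i) := by
  classical
  induction s using Finset.induction_on with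
  | empty => simp
  | insert a s ha ih => rw [Finset.sum_insert ha, Finset.sum_insert ha, map_add', ih]

end MapAdd

section Theta

variable (M N : Type u) [AddCommGroup M] [Module A M] [AddCommGroup N] [Module A N]

/-- the comparison map `M ⊗ N^ ⟶ (M ⊗ N)^` -/
noncomputable def theta : M ⊗[A] AdicCompletion I N →ₗ[A] AdicCompletion I (M ⊗[A] N) :=
  TensorProduct.lift
    { toFun := fun m => (AdicCompletion.map I (TensorProduct.mk A M N m)).restrictScalars A
      map_add' := fun m m' => by
        rw [map_add (TensorProduct.mk A M N), map_add']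
        rfl
      map_smul' := fun r m => by
        refine LinearMap.ext (fun x => ?_)
        rw [map_smul (TensorProduct.mk A M N)]
        exact map_smul'' I r _ x }

theorem theta_tmul (m : M) (x : AdicCompletion I N) :
    theta I M N (m ⊗ₜ[A] x) = AdicCompletion.map I (TensorProduct.mk A M N m) x := rfl

theorem theta_tmul_of (m : M) (n : N) :
    theta I M N (m ⊗ₜ[A] AdicCompletion.of I N n) = AdicCompletion.of I (M ⊗[A] N) (m ⊗ₜ[A] n) := by
  rw [theta_tmul, AdicCompletion.map_of]
  rfl

variable {M} in
theorem theta_naturality {M' : Type u} [AddCommGroup M'] [Module A M'] (f : M →ₗ[A] M')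
    (t : M ⊗[A] AdicCompletion I N) :
    AdicCompletion.map I (f.rTensor N) (theta I M N t) =
      theta I M' N (f.rTensor (AdicCompletion I N) t) := by
  induction t using TensorProduct.induction_on with
  | zero => simp
  | tmul m x =>
    rw [theta_tmul, AdicCompletion.map_comp_apply]
    show _ = theta I M' N (f m ⊗ₜ[A] x)
    rw [theta_tmul]
    rfl
  | add a b ha hb => rw [map_add, map_add, ha, hb, map_add, map_add]

theorem theta_self_bijective : Function.Bijective (theta I A N) := by
  have h : ⇑(theta I A N) =
      (fun x => (AdicCompletion.congr I (TensorProduct.lid A N)).symm x) ∘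
        (TensorProduct.lid A (AdicCompletion I N)) := by
    funext t
    show theta I A N t = (AdicCompletion.congr I (TensorProduct.lid A N)).symm
      (TensorProduct.lid A (AdicCompletion I N) t)
    conv_lhs => rw [← (TensorProduct.lid A (AdicCompletion I N)).symm_apply_apply t]
    rw [TensorProduct.lid_symm_apply, theta_tmul, AdicCompletion.congr_symm_apply]
    rfl
  rw [h]
  exact (AdicCompletion.congr I (TensorProduct.lid A N)).symm.bijective.comp
    (TensorProduct.lid A (AdicCompletion I N)).bijective

variable {M} in
/-- `theta` is bijective for a module with finitely many coordinates -/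
theorem theta_bijective_of_coords {ι : Type} [Fintype ι] (p : ι → (M →ₗ[A] A))
    (s : ι → (A →ₗ[A] M)) (h : ∑ i, (s i) ∘ₗ (p i) = LinearMap.id) :
    Function.Bijective (theta I M N) := by
  have hT : ∀ x : M ⊗[A] AdicCompletion I N,
      ∑ i, (s i).rTensor (AdicCompletion I N) ((p i).rTensor (AdicCompletion I N) x) = x := by
    intro x
    have h1 : LinearMap.rTensor (AdicCompletion I N) (∑ i, (s i) ∘ₗ (p i)) x = x := by
      rw [h, LinearMap.rTensor_id]
      rfl
    rw [← LinearMap.coe_rTensorHom, map_sum, LinearMap.sum_apply] at h1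
    refine Eq.trans (Finset.sum_congr rfl (fun i _ => ?_)) h1
    rw [LinearMap.coe_rTensorHom, LinearMap.rTensor_comp]
    rfl
  have hF : ∀ y : AdicCompletion I (M ⊗[A] N),
      ∑ i, AdicCompletion.map I ((s i).rTensor N) (AdicCompletion.map I ((p i).rTensor N) y) =
        y := by
    intro y
    have h1 : AdicCompletion.map I (LinearMap.rTensor N (∑ i, (s i) ∘ₗ (p i))) y = y := by
      rw [h, LinearMap.rTensor_id, AdicCompletion.map_id]
      rfl
    rw [← LinearMap.coe_rTensorHom, map_sum, map_sum', LinearMap.sum_apply] at h1
    refine Eq.trans (Finset.sum_congr rfl (fun i _ => ?_)) h1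
    rw [LinearMap.coe_rTensorHom, LinearMap.rTensor_comp, ← AdicCompletion.map_comp_apply]
  constructor
  · rw [injective_iff_map_eq_zero]
    intro x hx
    rw [← hT x]
    refine Finset.sum_eq_zero (fun i _ => ?_)
    have h2 : theta I A N ((p i).rTensor (AdicCompletion I N) x) = 0 := by
      rw [← theta_naturality, hx, map_zero]
    rw [(injective_iff_map_eq_zero _).mp (theta_self_bijective I N).1 _ h2, map_zero]
  · intro y
    choose x hx using fun i => (theta_self_bijective I N).2
      (AdicCompletion.map I ((p i).rTensor N) y)
    refine ⟨∑ i, (s i).rTensor (AdicCompletion I N) (x i), ?_⟩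
    rw [map_sum]
    conv_rhs => rw [← hF y]
    refine Finset.sum_congr rfl (fun i _ => ?_)
    rw [← theta_naturality, hx]

theorem theta_bijective_pi (n : ℕ) : Function.Bijective (theta I (Fin n → A) N) := by
  refine theta_bijective_of_coords I N (fun i => LinearMap.proj i)
    (fun i => LinearMap.single A (fun _ : Fin n => A) i) ?_
  ext j k
  simp [Finset.sum_apply, Pi.single_apply]

theorem theta_surjective_of_finite [Module.Finite A M] : Function.Surjective (theta I M N) := by
  obtain ⟨n, p, hp⟩ := Module.Finite.exists_fin' A M
  intro y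
  obtain ⟨z, hz⟩ := AdicCompletion.map_surjective I (LinearMap.rTensor_surjective N hp) y
  obtain ⟨t, ht⟩ := (theta_bijective_pi I N n).2 z
  exact ⟨p.rTensor _ t, by rw [← theta_naturality, ht, hz]⟩

end Theta

section Noeth

variable [IsNoetherianRing A] (M N : Type u) [AddCommGroup M] [Module A M]
  [AddCommGroup N] [Module A N] [Module.Flat A N]

variable {M} in
theorem map_rTensor_injective {M' : Type u} [AddCommGroup M'] [Module A M'] [Module.Finite A M']
    (f : M →ₗ[A] M') (hf : Function.Injective f) :
    Function.Injective (AdicCompletion.map (M := M ⊗[A] N) (N := M' ⊗[A] N) I (f.rTensor N)) :=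
  map_injective_of_war (M := M ⊗[A] N) (N := M' ⊗[A] N) I
    (Module.Flat.rTensor_preserves_injective_linearMap f hf) (war_rTensor I N f)

theorem theta_bijective_of_finite [Module.Finite A M] : Function.Bijective (theta I M N) := by
  refine ⟨?_, theta_surjective_of_finite I M N⟩
  obtain ⟨n, f, hf⟩ := Module.Finite.exists_fin' A M
  have hinj : Function.Injective ((LinearMap.ker f).subtype.rTensor N) :=
    Module.Flat.rTensor_preserves_injective_linearMap _ (Submodule.injective_subtype _)
  have hexN : Function.Exact ((LinearMap.ker f).subtype.rTensor N) (f.rTensor N) :=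
    _root_.rTensor_exact N (f.exact_subtype_ker_map) hf
  have hsurjN : Function.Surjective (f.rTensor N) := LinearMap.rTensor_surjective N hf
  have hw := war_rTensor I N (LinearMap.ker f).subtype
  have adic_exact :=
    map_exact_of_war (M := LinearMap.ker f ⊗[A] N) (N := (Fin n → A) ⊗[A] N) (P := M ⊗[A] N) I
      (f := (LinearMap.ker f).subtype.rTensor N) (g := f.rTensor N) hinj hexN hsurjN hw
  rw [injective_iff_map_eq_zero]
  intro x hx
  obtain ⟨y, rfl⟩ := LinearMap.rTensor_surjective (AdicCompletion I N) hf x
  have h1 : AdicCompletion.map (M := (Fin n → A) ⊗[A] N) (N := M ⊗[A] N) I (f.rTensor N)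
      (theta I (Fin n → A) N y) = 0 := by
    rw [theta_naturality, hx]
  obtain ⟨z, hz⟩ := (adic_exact _).mp h1
  obtain ⟨w, rfl⟩ := theta_surjective_of_finite I (LinearMap.ker f) N z
  rw [theta_naturality] at hz
  have h2 := (theta_bijective_pi I N n).1 hz
  rw [← h2, ← LinearMap.comp_apply, ← LinearMap.rTensor_comp]
  have h3 : f ∘ₗ (LinearMap.ker f).subtype = 0 := by
    ext k
    exact k.2
  rw [h3, LinearMap.rTensor_zero]
  rfl

/-- `M ⊗ N^ ≃ (M ⊗ N)^` for `M` finite and `N` flat over a Noetherian ring -/
noncomputable def thetaEquiv [Module.Finite A M] :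
    M ⊗[A] AdicCompletion I N ≃ₗ[A] AdicCompletion I (M ⊗[A] N) :=
  LinearEquiv.ofBijective (theta I M N) (theta_bijective_of_finite I M N)

theorem thetaEquiv_tmul_of [Module.Finite A M] (m : M) (n : N) :
    thetaEquiv I M N (m ⊗ₜ[A] AdicCompletion.of I N n) =
      AdicCompletion.of I (M ⊗[A] N) (m ⊗ₜ[A] n) := by
  show theta I M N (m ⊗ₜ[A] AdicCompletion.of I N n) = _
  exact theta_tmul_of I M N m n

/-- the adic completion of a flat module over a Noetherian ring is flat -/
theorem flat_adicCompletion : Module.Flat A (AdicCompletion I N) := by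
  rw [Module.Flat.iff_rTensor_injective']
  intro J
  have h1 : Function.Injective (fun t => AdicCompletion.map (M := J ⊗[A] N) (N := A ⊗[A] N) I
      (J.subtype.rTensor N) (theta I J N t)) :=
    (map_rTensor_injective I N J.subtype (Submodule.injective_subtype _)).comp
      (theta_bijective_of_finite I J N).1
  have h2 : (fun t => AdicCompletion.map (M := J ⊗[A] N) (N := A ⊗[A] N) I
      (J.subtype.rTensor N) (theta I J N t)) =
      (theta I A N) ∘ (J.subtype.rTensor (AdicCompletion I N)) :=
    funext (fun t => theta_naturality I N J.subtype t)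
  rw [h2] at h1
  exact Function.Injective.of_comp h1

end Noeth

end Groth.Agent.Helper11.AdicFl
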