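import Groth.Agent.Lib.Helper11.AdicFl2
import Groth.Agent.Lib.Helper11.AdicDC3

/-!
# Derived completion of `F ⊗ N` for `F` a bounded above complex of finite flat modules and `N` flat
(helper11)
-/

set_option autoImplicit false
set_option linter.unusedSectionVars false
set_option linter.unusedVariables false
set_option linter.style.haveILetI false

universe u

open CategoryTheory CategoryTheory.Limits MonoidalCategory CochainComplex Pretriangulated
  DerivedCategory
open scoped TensorProduct

attribute [local instance] HasDerivedCategory.standard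

namespace Groth.Agent.Helper11.AdicFl

open Groth.Agent.Helper11.DC Groth.Agent.Helper11.TA Groth.Agent.Helper11.LDer
  Groth.Agent.Helper11.DCP Groth.Agent.Helper11.GM Groth.Agent.Helper11.PRT
  Groth.Agent.Helper11.LTenComp Groth.Agent.Helper11.MPC Groth.Agent.Helper11.AdicDC

variable {A : Type u} [CommRing A] (I : Ideal A)

section General

theorem isZero_LTensor_cone_of_map {F' F'' : DRing.Cx A} (u : F' ⟶ F'') (b : ℤ)
    (hb' : DRing.VanishesAbove F' b) (hb'' : DRing.VanishesAbove F'' b)
    (hfl' : ∀ i, Module.Flat A (F'.X i)) (hfl'' : ∀ i, Module.Flat A (F''.X i))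
    (Z : ModuleCat.{u} A) [DRing.HasLTensor A Z] (hiso : IsIso ((tens Z).map u)) :
    IsZero ((DRing.LTensor A Z).obj (Q.obj (mappingCone u))) := by
  have hCb : DRing.VanishesAbove (mappingCone u) b := by
    intro i hi
    exact mappingCone_isZero u i (hb' _ (by omega)) (hb'' i hi)
  have hCf : ∀ i, Module.Flat A ((mappingCone u).X i) := by
    intro i
    haveI := hfl' (i + 1)
    haveI := hfl'' i
    haveI := flat_prod (R := A) (F'.X (i + 1)) (F''.X i)
    exact Module.Flat.of_linearEquiv (mappingConeXEquiv u i)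
  have hres : HasProjRes (Q.obj (mappingCone u)) :=
    hasProjRes_of_isLE _ b (Groth.Agent.Helper11.PcBC.isLE_of_vanishesAbove _ b hCb)
  obtain ⟨e⟩ := nonempty_LTensor_iso_of_flat Z (mappingCone u) b hCb hCf hres
  refine IsZero.of_iso ?_ e
  have e2 := mappingCone.mapHomologicalComplexIso u (tensorRight Z)
  refine IsZero.of_iso ?_ (Q.mapIso e2)
  have hT := DerivedCategory.mappingCone_triangle_distinguished ((tens Z).map u)
  have hiso' : IsIso (Q.map ((tens Z).map u)) := Functor.map_isIso Q _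
  exact (Triangle.isZero₃_iff_isIso₁ _ hT).mpr hiso'

/-- a map `u : F' ⟶ F''` of bounded above complexes of flat modules, with `F''` derived complete and
`u ⊗ A/I` an isomorphism, is the derived completion of `F'` -/
theorem exists_completion_iso_of_map [IsNoetherianRing A] [DRing.HasDerivedCompletion I]
    {F' F'' : DRing.Cx A} (u : F' ⟶ F'') (b : ℤ)
    (hb' : DRing.VanishesAbove F' b) (hb'' : DRing.VanishesAbove F'' b)
    (hfl' : ∀ i, Module.Flat A (F'.X i)) (hfl'' : ∀ i, Module.Flat A (F''.X i))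
    (hdc : DRing.IsDerivedComplete I (Q.obj F''))
    (hiso : IsIso ((tens (ModuleCat.of A (A ⧸ I))).map u)) :
    ∃ i : ((DRing.derivedCompletion I).obj (Q.obj F')).obj ≅ Q.obj F'',
      DRing.toDerivedCompletion I (Q.obj F') ≫ i.hom = Q.map u := by
  haveI : DRing.HasLTensor A (ModuleCat.of A (A ⧸ I)) :=
    Groth.Agent.Helper3.KP.hasLeftDerivedFunctor _
  apply exists_iso_completion I (Q.obj F') _ (Q.map u) hdc
  intro E hE
  have hT := DerivedCategory.mappingCone_triangle_distinguished u
  have hCb : ∀ i : ℤ, b < i → Subsingleton (Dual.HD A (Q.obj (mappingCone u)) i) := by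
    intro i hi
    have hz : IsZero ((mappingCone u).X i) :=
      mappingCone_isZero u i (hb' _ (by omega)) (hb'' i hi)
    exact ModuleCat.subsingleton_of_isZero (isZero_homology_of_isZero_X _ i hz)
  have hz : IsZero ((DRing.derivedCompletion I).obj (Q.obj (mappingCone u))).obj :=
    isZero_completion_of_isZero_LTensor I _ b hCb
      (isZero_LTensor_cone_of_map u b hb' hb'' hfl' hfl'' (ModuleCat.of A (A ⧸ I)) hiso)
  have key : ∀ E' : Dual.D A, DRing.IsDerivedComplete I E' →
      Subsingleton (Q.obj (mappingCone u) ⟶ E') := by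
    intro E' hE'
    have hbij := bijective_unit_comp I (Q.obj (mappingCone u)) E' hE'
    refine ⟨fun a c => ?_⟩
    obtain ⟨a', rfl⟩ := hbij.2 a
    obtain ⟨c', rfl⟩ := hbij.2 c
    rw [hz.eq_of_src a' c']
  exact bijective_mor₁_comp_of_right _ hT E (key E hE)
    (subsingleton_neg_of_shift _ _ 1 (key _ (isDerivedComplete_shift I E hE 1)))

end General

/-- `N^` as an object of `ModuleCat A` -/
noncomputable abbrev Nh (N : ModuleCat.{u} A) : ModuleCat.{u} A :=
  ModuleCat.of A (AdicCompletion I N)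

/-- `N ⟶ N^` -/
noncomputable def ιN (N : ModuleCat.{u} A) : N ⟶ Nh I N :=
  ModuleCat.ofHom (AdicCompletion.of I N)

/-- the natural map `X ⊗ N ⟶ X ⊗ N^` -/
noncomputable def τN (N : ModuleCat.{u} A) : tensorRight N ⟶ tensorRight (Nh I N) where
  app X := X ◁ ιN I N
  naturality X Y f := by
    dsimp
    exact (whisker_exchange f (ιN I N)).symm

/-- the termwise map `F ⊗ N ⟶ F ⊗ N^` -/
noncomputable def uN (N : ModuleCat.{u} A) (F : DRing.Cx A) :
    (tens N).obj F ⟶ (tens (Nh I N)).obj F where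
  f i := (τN I N).app (F.X i)
  comm' i j _ := ((τN I N).naturality (F.d i j)).symm

section Noeth

variable [IsNoetherianRing A] (N : ModuleCat.{u} A) [Module.Flat A N]

instance flat_Nh : Module.Flat A (Nh I N) := flat_adicCompletion I N

theorem thetaEquiv_whiskerLeft_ιN (X : ModuleCat.{u} A) [Module.Finite A X]
    (w : (X ⊗ N : ModuleCat.{u} A)) :
    thetaEquiv I X N ((X ◁ ιN I N).hom w) = AdicCompletion.of I (X ⊗[A] N) w := by
  refine TensorProduct.induction_on w ?_ ?_ ?_
  · simp
  · intro z n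
    show thetaEquiv I X N (z ⊗ₜ[A] AdicCompletion.of I N n) = _
    exact thetaEquiv_tmul_of I X N z n
  · intro x y hx hy
    rw [map_add, map_add, hx, hy, map_add]

theorem isAC_whiskerLeft_ιN (X : ModuleCat.{u} A) [Module.Finite A X] :
    IsAC I (X ◁ ιN I N) :=
  ⟨thetaEquiv I X N, fun w => thetaEquiv_whiskerLeft_ιN I N X w⟩

theorem tf_tensor_Nh (X : ModuleCat.{u} A) [Module.Finite A X] (f : A) (hf : f ∈ I) :
    Function.Bijective (Tf ((X ⊗ Nh I N : ModuleCat.{u} A)) f) := by
  haveI : IsAdicComplete I (AdicCompletion I (X ⊗[A] N)) :=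
    AdicCompletion.isAdicComplete (I := I) (M := X ⊗[A] N)
      ((isNoetherianRing_iff_ideal_fg A).mp inferInstance I)
  exact tf_of_linearEquiv (thetaEquiv I X N).symm f
    (Tf_bijective_of_isAdicComplete I (AdicCompletion I (X ⊗[A] N)) f hf)

theorem isDerivedComplete_Q_tens_Nh (F : DRing.Cx A) (hF : ∀ i, Module.Finite A (F.X i)) :
    DRing.IsDerivedComplete I (Q.obj ((tens (Nh I N)).obj F)) :=
  isDerivedComplete_of_termwise I ((tens (Nh I N)).obj F)
    (fun i f hf => by
      haveI := hF i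
      exact tf_tensor_Nh I N (F.X i) f hf) _ (Iso.refl _)

theorem isIso_whiskerLeft_ιN (Z : ModuleCat.{u} A) [Module.Finite A Z]
    (hZ : ∀ r ∈ I, ∀ z : Z, r • z = 0) : IsIso (Z ◁ ιN I N) := by
  have hZN : ∀ r ∈ I, ∀ t : Z ⊗[A] N, r • t = 0 := by
    intro r hr t
    induction t using TensorProduct.induction_on with
    | zero => simp
    | tmul z n => rw [TensorProduct.smul_tmul', hZ r hr z, TensorProduct.zero_tmul]
    | add a b ha hb => rw [smul_add, ha, hb, add_zero]
  haveI : IsAdicComplete I (Z ⊗[A] N) := isAdicComplete_of_smul_eq_zero I _ hZN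
  rw [ConcreteCategory.isIso_iff_bijective]
  have h : (⇑(thetaEquiv I Z N)) ∘ (⇑(Z ◁ ιN I N).hom) =
      ⇑(AdicCompletion.of I (Z ⊗[A] N)) := funext (thetaEquiv_whiskerLeft_ιN I N Z)
  have hb : Function.Bijective ((⇑(thetaEquiv I Z N)) ∘ (⇑(Z ◁ ιN I N).hom)) := by
    rw [h]
    exact AdicCompletion.of_bijective I _
  exact (Function.Bijective.of_comp_iff' (thetaEquiv I Z N).bijective _).mp hb

theorem isIso_ιN_whiskerRight (Z : ModuleCat.{u} A) [Module.Finite A Z]
    (hZ : ∀ r ∈ I, ∀ z : Z, r • z = 0) : IsIso (ιN I N ▷ Z) := by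
  haveI := isIso_whiskerLeft_ιN I N Z hZ
  have h : ιN I N ▷ Z = (β_ N Z).hom ≫ (Z ◁ ιN I N) ≫ (β_ (Nh I N) Z).inv := by
    rw [← Category.assoc, ← BraidedCategory.braiding_naturality_left, Category.assoc,
      Iso.hom_inv_id, Category.comp_id]
  rw [h]
  infer_instance

theorem isIso_τN_app_whiskerRight (X Z : ModuleCat.{u} A) [Module.Finite A Z]
    (hZ : ∀ r ∈ I, ∀ z : Z, r • z = 0) : IsIso ((τN I N).app X ▷ Z) := by
  haveI := isIso_ιN_whiskerRight I N Z hZ
  show IsIso ((X ◁ ιN I N) ▷ Z)
  rw [whisker_assoc]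
  infer_instance

theorem isIso_tens_map_uN (F : DRing.Cx A) (Z : ModuleCat.{u} A) [Module.Finite A Z]
    (hZ : ∀ r ∈ I, ∀ z : Z, r • z = 0) : IsIso ((tens Z).map (uN I N F)) := by
  haveI : ∀ i, IsIso (((tens Z).map (uN I N F)).f i) :=
    fun i => isIso_τN_app_whiskerRight I N (F.X i) Z hZ
  exact HomologicalComplex.Hom.isIso_of_components _

/-- `F ⊗ N ⟶ F ⊗ N^` is the derived completion of `F ⊗ N` -/
theorem exists_completion_iso_tens [DRing.HasDerivedCompletion I] (F : DRing.Cx A) (b : ℤ)
    (hb : DRing.VanishesAbove F b) (hff : ∀ i, Module.Finite A (F.X i))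
    (hfl : ∀ i, Module.Flat A (F.X i)) :
    ∃ i : ((DRing.derivedCompletion I).obj (Q.obj ((tens N).obj F))).obj ≅
        Q.obj ((tens (Nh I N)).obj F),
      DRing.toDerivedCompletion I (Q.obj ((tens N).obj F)) ≫ i.hom = Q.map (uN I N F) := by
  have hZ : ∀ r ∈ I, ∀ z : (ModuleCat.of A (A ⧸ I) : ModuleCat.{u} A), r • z = 0 := by
    intro r hr z
    obtain ⟨a, rfl⟩ := Ideal.Quotient.mk_surjective z
    show r • (Ideal.Quotient.mk I a) = 0
    rw [← Ideal.Quotient.mk_eq_mk, ← Submodule.Quotient.mk_smul]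
    exact (Submodule.Quotient.mk_eq_zero _).mpr (I.mul_mem_right a hr)
  exact exists_completion_iso_of_map I (uN I N F) b
    (fun i hi => tens_isZero _ F i (hb i hi)) (fun i hi => tens_isZero _ F i (hb i hi))
    (fun i => by
      haveI := hfl i
      exact inferInstanceAs (Module.Flat A (F.X i ⊗[A] N)))
    (fun i => by
      haveI := hfl i
      exact inferInstanceAs (Module.Flat A (F.X i ⊗[A] AdicCompletion I N)))
    (isDerivedComplete_Q_tens_Nh I N F hff)
    (isIso_tens_map_uN I N F _ hZ)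

end Noeth

end Groth.Agent.Helper11.AdicFl
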