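import Groth.Agent.Lib.Helper11.AdicFl3
import Groth.Agent.Lib.Helper8.RMod7

/-!
# The derived completion of `M ⊗ N`, `M` finite and `N` flat over a Noetherian ring (helper11)
-/

set_option autoImplicit false
set_option linter.unusedSectionVars false
set_option linter.unusedVariables false
set_option linter.style.haveILetI false

universe u

open CategoryTheory CategoryTheory.Limits MonoidalCategory CochainComplex Pretriangulated
  DerivedCategory
open scoped TensorProduct

attribute [local instance] HasDerivedCategory.standard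

namespace Groth.Agent.Helper11.AdicFl

open Groth.Agent.Helper11.DC Groth.Agent.Helper11.TA Groth.Agent.Helper11.LDer
  Groth.Agent.Helper11.DCP Groth.Agent.Helper11.GM Groth.Agent.Helper11.PRT
  Groth.Agent.Helper11.LTenComp Groth.Agent.Helper11.MPC Groth.Agent.Helper11.AdicDC

variable {A : Type u} [CommRing A] (I : Ideal A)

instance preservesFiniteColimits_tensorRight_gen (M : ModuleCat.{u} A) :
    PreservesFiniteColimits (tensorRight M) :=
  preservesFiniteColimits_of_natIso (BraidedCategory.tensorLeftIsoTensorRight M)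

section Noeth

variable [IsNoetherianRing A] (N : ModuleCat.{u} A) [Module.Flat A N]

theorem isAC_homologyMap_uN (F : DRing.Cx A) (n : ℤ) [Module.Finite A (F.homology n)] :
    IsAC I (HomologicalComplex.homologyMap (uN I N F) n) := by
  have key := ShortComplex.homologyMap_mapNatTrans (F.sc n) (τN I N)
  have h1 : IsAC I ((τN I N).app (F.sc n).homology) := isAC_whiskerLeft_ιN I N (F.homology n)
  refine isAC_of_arrow_iso I _ _ ((F.sc n).mapHomologyIso (tensorRight N)).symm
    ((F.sc n).mapHomologyIso (tensorRight (Nh I N))).symm ?_ h1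
  show (τN I N).app (F.sc n).homology ≫ ((F.sc n).mapHomologyIso (tensorRight (Nh I N))).inv =
    ((F.sc n).mapHomologyIso (tensorRight N)).inv ≫
      ShortComplex.homologyMap ((F.sc n).mapNatTrans (τN I N))
  rw [key, Iso.inv_hom_id_assoc]

theorem isZero_homology_tens (M : ModuleCat.{u} A) [Module.Flat A M] (F : DRing.Cx A) (n : ℤ)
    (hz : IsZero (F.homology n)) : IsZero (((tens M).obj F).homology n) :=
  IsZero.of_iso ((tensorRight M).map_isZero hz) ((F.sc n).mapHomologyIso (tensorRight M))

theorem completionH_Q_tens [DRing.HasDerivedCompletion I] (F : DRing.Cx A) (b : ℤ)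
    (hb : DRing.VanishesAbove F b) (hff : ∀ i, Module.Finite A (F.X i))
    (hfl : ∀ i, Module.Flat A (F.X i)) (n : ℤ)
    (hfin : Module.Finite A (F.homology n)) : CompletionH I (Q.obj ((tens N).obj F)) n := by
  obtain ⟨i, hi⟩ := exists_completion_iso_tens I N F b hb hff hfl
  haveI := hfin
  have h1 := isAC_homologyMap_uN I N F n
  refine isAC_of_arrow_iso I _ _
    ((homologyFunctorFactors (ModuleCat.{u} A) n).app ((tens N).obj F)).symm
    (((homologyFunctorFactors (ModuleCat.{u} A) n).app ((tens (Nh I N)).obj F)).symm ≪≫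
      (homologyFunctor (ModuleCat.{u} A) n).mapIso i.symm) ?_ h1
  show HomologicalComplex.homologyMap (uN I N F) n ≫
      ((homologyFunctorFactors (ModuleCat.{u} A) n).inv.app ((tens (Nh I N)).obj F) ≫
        (homologyFunctor (ModuleCat.{u} A) n).map i.inv) =
    (homologyFunctorFactors (ModuleCat.{u} A) n).inv.app ((tens N).obj F) ≫
      (homologyFunctor (ModuleCat.{u} A) n).map
        (DRing.toDerivedCompletion I (Q.obj ((tens N).obj F)))
  have nat : HomologicalComplex.homologyMap (uN I N F) n ≫
      (homologyFunctorFactors (ModuleCat.{u} A) n).inv.app ((tens (Nh I N)).obj F) =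
      (homologyFunctorFactors (ModuleCat.{u} A) n).inv.app ((tens N).obj F) ≫
        (homologyFunctor (ModuleCat.{u} A) n).map (Q.map (uN I N F)) :=
    (homologyFunctorFactors (ModuleCat.{u} A) n).inv.naturality (uN I N F)
  have h3 : (homologyFunctor (ModuleCat.{u} A) n).map (Q.map (uN I N F)) ≫
      (homologyFunctor (ModuleCat.{u} A) n).map i.inv =
      (homologyFunctor (ModuleCat.{u} A) n).map
        (DRing.toDerivedCompletion I (Q.obj ((tens N).obj F))) := by
    rw [← Functor.map_comp, ← hi, Category.assoc, Iso.hom_inv_id, Category.comp_id]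
  exact (Category.assoc _ _ _).symm.trans
    ((congrArg (· ≫ (homologyFunctor (ModuleCat.{u} A) n).map i.inv) nat).trans
      ((Category.assoc _ _ _).trans
        (congrArg ((homologyFunctorFactors (ModuleCat.{u} A) n).inv.app ((tens N).obj F) ≫ ·)
          h3)))

theorem isZero_homology_completion_tens [DRing.HasDerivedCompletion I] (F : DRing.Cx A) (b : ℤ)
    (hb : DRing.VanishesAbove F b) (hff : ∀ i, Module.Finite A (F.X i))
    (hfl : ∀ i, Module.Flat A (F.X i)) (n : ℤ) (hz : IsZero (F.homology n)) :
    IsZero ((homologyFunctor (ModuleCat.{u} A) n).obj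
      ((DRing.derivedCompletion I).obj (Q.obj ((tens N).obj F))).obj) := by
  obtain ⟨i, hi⟩ := exists_completion_iso_tens I N F b hb hff hfl
  refine IsZero.of_iso ?_ ((homologyFunctor (ModuleCat.{u} A) n).mapIso i)
  refine IsZero.of_iso ?_ ((homologyFunctorFactors (ModuleCat.{u} A) n).app
    ((tens (Nh I N)).obj F))
  exact isZero_homology_tens (Nh I N) F n hz

end Noeth

theorem isZero_homology_inD (M : Type u) [AddCommGroup M] [Module A M] (n : ℤ) (hn : n ≠ 0) :
    IsZero ((homologyFunctor (ModuleCat.{u} A) n).obj (Dual.inD A M)) := by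
  rcases lt_or_gt_of_ne hn with h | h
  · exact (Dual.inD A M).isZero_of_isGE 0 n h
  · exact (Dual.inD A M).isZero_of_isLE 0 n h

/-- statement S7061 -/
theorem S7061_statement [IsNoetherianRing A] [DRing.HasDerivedCompletion I]
    (M N : Type u) [AddCommGroup M] [Module A M] [Module.Finite A M] [AddCommGroup N]
    [Module A N] [Module.Flat A N] :
    (∀ i : ℤ, i ≠ 0 → Subsingleton
      (Dual.HD A ((DRing.derivedCompletion I).obj (Dual.inD A (M ⊗[A] N))).obj i)) ∧
      ∃ e : Dual.HD A ((DRing.derivedCompletion I).obj (Dual.inD A (M ⊗[A] N))).obj 0 ≃ₗ[A]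
          AdicCompletion I (M ⊗[A] N),
        ∀ x : M ⊗[A] N,
          e ((((DerivedCategory.singleFunctorCompHomologyFunctorIso (ModuleCat.{u} A) 0).inv.app
                (ModuleCat.of A (M ⊗[A] N))) ≫
              (DerivedCategory.homologyFunctor (ModuleCat.{u} A) 0).map
                (DRing.toDerivedCompletion I (Dual.inD A (M ⊗[A] N)))).hom x) =
            AdicCompletion.of I (M ⊗[A] N) x := by
  obtain ⟨F, b, hb, hff, ⟨eF⟩⟩ := isPseudoCoherentModule'_of_finite (R := A) M
  let Nc : ModuleCat.{u} A := ModuleCat.of A N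
  haveI : Module.Flat A Nc := inferInstanceAs (Module.Flat A N)
  have hfin : ∀ i, Module.Finite A (F.X i) := fun i => (hff i).1
  have hfl : ∀ i, Module.Flat A (F.X i) := fun i => by
    haveI := (hff i).2
    infer_instance
  let eH : ∀ n : ℤ, F.homology n ≅ (homologyFunctor (ModuleCat.{u} A) n).obj (Dual.inD A M) :=
    fun n => ((homologyFunctorFactors (ModuleCat.{u} A) n).app F).symm ≪≫
      (homologyFunctor (ModuleCat.{u} A) n).mapIso eF
  have hz : ∀ n : ℤ, n ≠ 0 → IsZero (F.homology n) :=
    fun n hn => IsZero.of_iso (isZero_homology_inD M n hn) (eH n)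
  let e0 : F.homology 0 ≃ₗ[A] M :=
    (eH 0 ≪≫ (singleFunctorCompHomologyFunctorIso (ModuleCat.{u} A) 0).app
      (ModuleCat.of A M)).toLinearEquiv
  have hfin0 : Module.Finite A (F.homology 0) := Module.Finite.equiv e0.symm
  -- the homology of `F ⊗ N`
  have hF'z : ∀ i : ℤ, i ≠ 0 →
      IsZero ((homologyFunctor (ModuleCat.{u} A) i).obj (Q.obj ((tens Nc).obj F))) :=
    fun i hi => IsZero.of_iso (isZero_homology_tens Nc F i (hz i hi))
      ((homologyFunctorFactors (ModuleCat.{u} A) i).app ((tens Nc).obj F))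
  let e0' : (homologyFunctor (ModuleCat.{u} A) 0).obj (Q.obj ((tens Nc).obj F)) ≃ₗ[A]
      M ⊗[A] N :=
    (((homologyFunctorFactors (ModuleCat.{u} A) 0).app ((tens Nc).obj F)) ≪≫
      ((F.sc 0).mapHomologyIso (tensorRight Nc))).toLinearEquiv.trans
        (TensorProduct.congr e0 (LinearEquiv.refl A N))
  obtain ⟨φ⟩ := Groth.Agent.Helper8.RMod.nonempty_iso_inD_of_homology
    (Q.obj ((tens Nc).obj F)) (M ⊗[A] N) hF'z e0'
  refine ⟨fun i hi => ?_, ?_⟩
  · have h1 := isZero_homology_completion_tens I Nc F b hb hfin hfl i (hz i hi)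
    have e1 := (DRing.derivedCompletion I ⋙ ObjectProperty.ι _ ⋙
      homologyFunctor (ModuleCat.{u} A) i).mapIso φ
    exact ModuleCat.subsingleton_of_isZero (IsZero.of_iso h1 e1.symm)
  · have h0 : CompletionH I (Q.obj ((tens Nc).obj F)) 0 :=
      completionH_Q_tens I Nc F b hb hfin hfl 0 hfin0
    have h1 : CompletionH I (Dual.inD A (M ⊗[A] N)) 0 :=
      completionH_of_map I φ.hom 0 inferInstance
        (Functor.map_isIso (DRing.derivedCompletion I ⋙ ObjectProperty.ι _ ⋙
          homologyFunctor (ModuleCat.{u} A) 0) φ.hom) h0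
    obtain ⟨e, he⟩ := h1
    let σ : (homologyFunctor (ModuleCat.{u} A) 0).obj (Dual.inD A (M ⊗[A] N)) ≃ₗ[A] M ⊗[A] N :=
      ((singleFunctorCompHomologyFunctorIso (ModuleCat.{u} A) 0).app
        (ModuleCat.of A (M ⊗[A] N))).toLinearEquiv
    refine ⟨e.trans ((AdicCompletion.congr I σ).restrictScalars A), fun x => ?_⟩
    show AdicCompletion.map I σ.toLinearMap
      (e (((homologyFunctor (ModuleCat.{u} A) 0).map
        (DRing.toDerivedCompletion I (Dual.inD A (M ⊗[A] N)))).hom (σ.symm x))) = _
    rw [he, AdicCompletion.map_of]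
    congr 1
    exact σ.apply_symm_apply x

end Groth.Agent.Helper11.AdicFl
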