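import Groth.Agent.Lib.Helper11.RlimTw2
import Groth.Agent.Lib.Helper11.AdicFl2

/-!
# Termwise adic completion of complexes as a derived limit of the termwise reductions (helper11)
-/

set_option autoImplicit false
set_option linter.unusedSectionVars false
set_option linter.unusedVariables false

open CategoryTheory Category Limits

universe u

namespace Groth.Agent.Helper11.AdicTw

variable {A : Type u} [CommRing A] (I : Ideal A)

section Mod

variable {N N' N'' : Type u} [AddCommGroup N] [Module A N] [AddCommGroup N'] [Module A N']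
  [AddCommGroup N''] [Module A N'']

theorem smul_top_le_comap (n : ℕ) (f : N →ₗ[A] N') :
    (I ^ n • ⊤ : Submodule A N) ≤ (I ^ n • ⊤ : Submodule A N').comap f := by
  rw [← Submodule.map_le_iff_le_comap, Submodule.map_smul'']
  exact Submodule.smul_mono le_rfl le_top

/-- reduction of a linear map modulo `I ^ n` -/
noncomputable def quotMap (n : ℕ) (f : N →ₗ[A] N') :
    N ⧸ (I ^ n • ⊤ : Submodule A N) →ₗ[A] N' ⧸ (I ^ n • ⊤ : Submodule A N') :=
  Submodule.mapQ _ _ f (smul_top_le_comap I n f)

theorem quotMap_mk (n : ℕ) (f : N →ₗ[A] N') (x : N) :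
    quotMap I n f (Submodule.Quotient.mk x) = Submodule.Quotient.mk (f x) := rfl

theorem quotMap_id (n : ℕ) : quotMap I n (LinearMap.id : N →ₗ[A] N) = LinearMap.id := by
  apply LinearMap.ext
  intro x
  obtain ⟨x, rfl⟩ := Submodule.mkQ_surjective _ x
  rfl

theorem quotMap_comp (n : ℕ) (f : N →ₗ[A] N') (g : N' →ₗ[A] N'') :
    quotMap I n (g ∘ₗ f) = quotMap I n g ∘ₗ quotMap I n f := by
  apply LinearMap.ext
  intro x
  obtain ⟨x, rfl⟩ := Submodule.mkQ_surjective _ x
  rfl

theorem quotMap_add (n : ℕ) (f g : N →ₗ[A] N') :
    quotMap I n (f + g) = quotMap I n f + quotMap I n g := by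
  apply LinearMap.ext
  intro x
  obtain ⟨x, rfl⟩ := Submodule.mkQ_surjective _ x
  rfl

/-- the completion of a linear map, as an `A`-linear map -/
noncomputable def complMap (f : N →ₗ[A] N') : AdicCompletion I N →ₗ[A] AdicCompletion I N' :=
  (AdicCompletion.map I f).restrictScalars A

theorem complMap_apply (f : N →ₗ[A] N') (x : AdicCompletion I N) :
    complMap I f x = AdicCompletion.map I f x := rfl

theorem complMap_val (f : N →ₗ[A] N') (x : AdicCompletion I N) (n : ℕ) :
    (complMap I f x).val n = quotMap I n f (x.val n) := rfl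

end Mod

/-- the reduction modulo `I ^ n` functor -/
noncomputable def quotF (n : ℕ) : ModuleCat.{u} A ⥤ ModuleCat.{u} A where
  obj N := ModuleCat.of A (N ⧸ (I ^ n • ⊤ : Submodule A N))
  map f := ModuleCat.ofHom (quotMap I n f.hom)
  map_id N := by
    apply ModuleCat.hom_ext
    exact quotMap_id I n
  map_comp f g := by
    apply ModuleCat.hom_ext
    exact quotMap_comp I n f.hom g.hom

instance (n : ℕ) : (quotF I n).Additive where
  map_add {X Y f g} := by
    apply ModuleCat.hom_ext
    exact quotMap_add I n f.hom g.hom

/-- the adic completion functor -/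
noncomputable def complF : ModuleCat.{u} A ⥤ ModuleCat.{u} A where
  obj N := ModuleCat.of A (AdicCompletion I N)
  map f := ModuleCat.ofHom (complMap I f.hom)
  map_id N := by
    apply ModuleCat.hom_ext
    apply LinearMap.ext
    intro x
    apply AdicCompletion.ext
    intro n
    change quotMap I n LinearMap.id (x.val n) = x.val n
    rw [quotMap_id]
    rfl
  map_comp f g := by
    apply ModuleCat.hom_ext
    apply LinearMap.ext
    intro x
    apply AdicCompletion.ext
    intro n
    change quotMap I n (g.hom ∘ₗ f.hom) (x.val n) = quotMap I n g.hom (quotMap I n f.hom (x.val n))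
    rw [quotMap_comp]
    rfl

instance : (complF I).Additive where
  map_add {X Y f g} := by
    apply ModuleCat.hom_ext
    apply LinearMap.ext
    intro x
    apply AdicCompletion.ext
    intro n
    change quotMap I n (f.hom + g.hom) (x.val n) =
      quotMap I n f.hom (x.val n) + quotMap I n g.hom (x.val n)
    rw [quotMap_add]
    rfl

/-- the canonical map to the completion -/
noncomputable def ιF : 𝟭 (ModuleCat.{u} A) ⟶ complF I where
  app N := ModuleCat.ofHom (AdicCompletion.of I N)
  naturality {N N'} f := by
    apply ModuleCat.hom_ext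
    apply LinearMap.ext
    intro x
    apply AdicCompletion.ext
    intro n
    rfl

/-- the evaluation maps of the completion -/
noncomputable def evF (n : ℕ) : complF I ⟶ quotF I n where
  app N := ModuleCat.ofHom (AdicCompletion.eval I N n)
  naturality {N N'} f := by
    apply ModuleCat.hom_ext
    apply LinearMap.ext
    intro x
    rfl

/-- the transition maps of the reductions -/
noncomputable def trF (n : ℕ) : quotF I (n + 1) ⟶ quotF I n where
  app N := ModuleCat.ofHom (AdicCompletion.transitionMap I N (Nat.le_succ n))
  naturality {N N'} f := by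
    apply ModuleCat.hom_ext
    apply LinearMap.ext
    intro x
    obtain ⟨x, rfl⟩ := Submodule.mkQ_surjective _ x
    rfl

theorem evF_trF (n : ℕ) : evF I (n + 1) ≫ trF I n = evF I n := by
  ext N x
  exact AdicCompletion.transitionMap_comp_eval_apply I N (Nat.le_succ n) x

section Tower

variable (G : CochainComplex (ModuleCat.{u} A) ℤ)

/-- the tower of termwise reductions of a complex -/
noncomputable def quotCx (n : ℕ) : CochainComplex (ModuleCat.{u} A) ℤ :=
  ((quotF I n).mapHomologicalComplex (ComplexShape.up ℤ)).obj G

/-- the termwise completion of a complex -/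
noncomputable def complCx : CochainComplex (ModuleCat.{u} A) ℤ :=
  ((complF I).mapHomologicalComplex (ComplexShape.up ℤ)).obj G

noncomputable def trCx (n : ℕ) : quotCx I G (n + 1) ⟶ quotCx I G n :=
  (NatTrans.mapHomologicalComplex (trF I n) (ComplexShape.up ℤ)).app G

noncomputable def evCx (n : ℕ) : complCx I G ⟶ quotCx I G n :=
  (NatTrans.mapHomologicalComplex (evF I n) (ComplexShape.up ℤ)).app G

noncomputable def ιCx : G ⟶ complCx I G :=
  (NatTrans.mapHomologicalComplex (ιF I) (ComplexShape.up ℤ)).app G

theorem evCx_trCx (n : ℕ) : evCx I G (n + 1) ≫ trCx I G n = evCx I G n := by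
  apply HomologicalComplex.hom_ext
  intro q
  exact congrArg (fun t => t.app (G.X q)) (evF_trF I n)

theorem transitionMap_of_succ {N : Type u} [AddCommGroup N] [Module A N]
    (y : ∀ n : ℕ, N ⧸ (I ^ n • ⊤ : Submodule A N))
    (hy : ∀ n, AdicCompletion.transitionMap I N (Nat.le_succ n) (y (n + 1)) = y n) :
    ∀ {m n : ℕ} (hmn : m ≤ n), AdicCompletion.transitionMap I N hmn (y n) = y m := by
  intro m n hmn
  induction n, hmn using Nat.le_induction with
  | base =>
    obtain ⟨x, hx⟩ := Submodule.mkQ_surjective _ (y m)
    rw [← hx]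
    rfl
  | succ n hmn ih =>
    rw [← ih, ← hy n]
    obtain ⟨x, hx⟩ := Submodule.mkQ_surjective _ (y (n + 1))
    rw [← hx]
    rfl

variable [HasDerivedCategory.{u + 1} (ModuleCat.{u} A)]

open DerivedCategory in
/-- the termwise completion of a complex is the derived limit of its termwise reductions -/
theorem isRlim_complCx [HasProduct fun n => Q.obj (quotCx I G n)] :
    DCoh.IsRlim (fun n => Q.obj (quotCx I G n)) (fun n => Q.map (trCx I G n))
      (Q.obj (complCx I G)) := by
  refine Groth.Agent.Helper11.RlimTw.isRlim_of_tower (quotCx I G) (trCx I G) ?_ (complCx I G)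
    (evCx I G) (evCx_trCx I G) ?_ ?_
  · intro n q y
    change ↑(G.X q) ⧸ (I ^ n • ⊤ : Submodule A (G.X q)) at y
    obtain ⟨x, rfl⟩ := Submodule.mkQ_surjective _ y
    exact ⟨Submodule.Quotient.mk x, rfl⟩
  · intro q x hx
    change AdicCompletion I (G.X q) at x
    apply AdicCompletion.ext
    intro n
    exact hx n
  · intro q y hy
    refine ⟨(⟨y, transitionMap_of_succ I y hy⟩ : AdicCompletion I (G.X q)), fun n => rfl⟩

end Tower

end Groth.Agent.Helper11.AdicTw
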