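import Groth.Agent.Lib.Helper3.HT4

/-!
The tensor product `N[0] ⊗ Y` of a module placed in degree `0` with a complex is the termwise
tensor product `N ⊗ Yᵠ`, naturally in `N` (helper11).
-/

set_option autoImplicit false

open CategoryTheory Category Limits MonoidalCategory

universe u

namespace Groth.Agent.Helper11.SgTens

open Groth.Agent.Helper3.HT

variable {A : Type u} [CommRing A]

/-- a module placed in degree `0` -/
noncomputable abbrev sg (N : ModuleCat.{u} A) : DRing.Cx A :=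
  (HomologicalComplex.single (ModuleCat.{u} A) (ComplexShape.up ℤ) 0).obj N

/-- the termwise tensor product `N ⊗ Y` -/
noncomputable abbrev tens (N : ModuleCat.{u} A) (Y : DRing.Cx A) : DRing.Cx A :=
  (((curriedTensor (ModuleCat.{u} A)).obj N).mapHomologicalComplex (ComplexShape.up ℤ)).obj Y

/-- the map `N ⊗ Y ⟶ N' ⊗ Y` induced by `f : N ⟶ N'` -/
noncomputable abbrev tensMap {N N' : ModuleCat.{u} A} (f : N ⟶ N') (Y : DRing.Cx A) :
    tens N Y ⟶ tens N' Y :=
  (NatTrans.mapHomologicalComplex ((curriedTensor (ModuleCat.{u} A)).map f)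
    (ComplexShape.up ℤ)).app Y

theorem isZero_sg_X (N : ModuleCat.{u} A) (p : ℤ) (hp : p ≠ 0) : IsZero ((sg N).X p) :=
  HomologicalComplex.isZero_single_obj_X _ _ _ _ hp

/-- the components of `N ⊗ Y ⟶ N[0] ⊗ Y` -/
noncomputable def sgTensorHomX (N : ModuleCat.{u} A) (Y : DRing.Cx A) (q : ℤ) :
    N ⊗ Y.X q ⟶ (sg N ⊗ Y).X q :=
  ((HomologicalComplex.singleObjXSelf (ComplexShape.up ℤ) 0 N).inv ▷ Y.X q) ≫
    HomologicalComplex.ιTensorObj (sg N) Y 0 q q (zero_add q)

instance isIso_sgTensorHomX (N : ModuleCat.{u} A) (Y : DRing.Cx A) (q : ℤ) :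
    IsIso (sgTensorHomX N Y q) := by
  haveI := isIso_ι_left (sg N) Y 0 (fun p hp => isZero_sg_X N p hp) q q (zero_add q)
  unfold sgTensorHomX
  infer_instance

theorem sgTensorHomX_d (N : ModuleCat.{u} A) (Y : DRing.Cx A) (q q' : ℤ) (h : q + 1 = q') :
    sgTensorHomX N Y q ≫ (sg N ⊗ Y).d q q' = (N ◁ Y.d q q') ≫ sgTensorHomX N Y q' := by
  unfold sgTensorHomX
  rw [assoc, ι_d (K := sg N) (P := Y) 0 q q q' 1 q' (zero_add q) h (zero_add 1) h,
    HomologicalComplex.single_obj_d, MonoidalPreadditive.zero_whiskerRight, zero_comp, zero_add,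
    Int.negOnePow_zero, one_smul, ← assoc, ← whisker_exchange, assoc]

/-- the isomorphism of complexes `N ⊗ Y ≅ N[0] ⊗ Y` (as a morphism) -/
noncomputable def sgTensorHom (N : ModuleCat.{u} A) (Y : DRing.Cx A) : tens N Y ⟶ sg N ⊗ Y where
  f q := sgTensorHomX N Y q
  comm' q q' h := by
    have h' : q + 1 = q' := h
    exact (sgTensorHomX_d N Y q q' h').symm ▸ rfl

instance isIso_sgTensorHom (N : ModuleCat.{u} A) (Y : DRing.Cx A) : IsIso (sgTensorHom N Y) := by
  haveI : ∀ q, IsIso ((sgTensorHom N Y).f q) := fun q => isIso_sgTensorHomX N Y q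
  exact HomologicalComplex.Hom.isIso_of_components _

/-- naturality in the module -/
theorem tensMap_sgTensorHom {N N' : ModuleCat.{u} A} (f : N ⟶ N') (Y : DRing.Cx A) :
    tensMap f Y ≫ sgTensorHom N' Y =
      sgTensorHom N Y ≫
        ((HomologicalComplex.single (ModuleCat.{u} A) (ComplexShape.up ℤ) 0).map f ▷ Y) := by
  ext q : 1
  rw [HomologicalComplex.comp_f, HomologicalComplex.comp_f]
  change (f ▷ Y.X q) ≫ sgTensorHomX N' Y q = sgTensorHomX N Y q ≫ _
  unfold sgTensorHomX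
  rw [assoc, ι_whiskerRight, ← assoc, ← assoc, ← comp_whiskerRight, ← comp_whiskerRight]
  rw [HomologicalComplex.single_map_f_self, Iso.inv_hom_id_assoc]

end Groth.Agent.Helper11.SgTens
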