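import Groth.Agent.Lib.Helper11.AdicTw1
import Groth.Agent.Lib.Helper11.SgTens

/-!
# Reduction modulo `I ^ n` of `M ⊗ Y` is `(M / I ^ n M) ⊗ Y` (helper11)
-/

set_option autoImplicit false
set_option linter.unusedSectionVars false
set_option linter.unusedVariables false

open CategoryTheory Category Limits MonoidalCategory
open scoped TensorProduct

universe u

namespace Groth.Agent.Helper11.AdicTw

open Groth.Agent.Helper11.SgTens

variable {A : Type u} [CommRing A] (I : Ideal A)

section Lin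

variable (n : ℕ) (M P P' : Type u) [AddCommGroup M] [Module A M] [AddCommGroup P] [Module A P]
  [AddCommGroup P'] [Module A P']

theorem smul_eq_zero_quot_tensor (r : A) (hr : r ∈ I ^ n)
    (t : (M ⧸ (I ^ n • ⊤ : Submodule A M)) ⊗[A] P) : r • t = 0 := by
  induction t using TensorProduct.induction_on with
  | zero => exact smul_zero r
  | tmul x p =>
    obtain ⟨m, rfl⟩ := Submodule.mkQ_surjective _ x
    rw [TensorProduct.smul_tmul', ← map_smul]
    have : (Submodule.mkQ (I ^ n • ⊤ : Submodule A M)) (r • m) = 0 := by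
      rw [Submodule.mkQ_apply, Submodule.Quotient.mk_eq_zero]
      exact Submodule.smul_mem_smul hr Submodule.mem_top
    rw [this, TensorProduct.zero_tmul]
  | add a b ha hb => rw [smul_add, ha, hb, add_zero]

theorem smul_top_le_ker_rTensor_mkQ :
    (I ^ n • ⊤ : Submodule A (M ⊗[A] P)) ≤
      LinearMap.ker ((Submodule.mkQ (I ^ n • ⊤ : Submodule A M)).rTensor P) := by
  rw [Submodule.smul_le]
  intro r hr t _
  rw [LinearMap.mem_ker, map_smul]
  exact smul_eq_zero_quot_tensor I n M P r hr _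

/-- the comparison map `(M ⊗ P) / I ^ n ⟶ (M / I ^ n) ⊗ P` -/
noncomputable def bridgeLin :
    ((M ⊗[A] P) ⧸ (I ^ n • ⊤ : Submodule A (M ⊗[A] P))) →ₗ[A]
      (M ⧸ (I ^ n • ⊤ : Submodule A M)) ⊗[A] P :=
  Submodule.liftQ _ ((Submodule.mkQ (I ^ n • ⊤ : Submodule A M)).rTensor P)
    (smul_top_le_ker_rTensor_mkQ I n M P)

theorem bridgeLin_mk (t : M ⊗[A] P) :
    bridgeLin I n M P (Submodule.Quotient.mk t) =
      (Submodule.mkQ (I ^ n • ⊤ : Submodule A M)).rTensor P t := rfl

theorem ker_rTensor_mkQ :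
    LinearMap.ker ((Submodule.mkQ (I ^ n • ⊤ : Submodule A M)).rTensor P) =
      (I ^ n • ⊤ : Submodule A (M ⊗[A] P)) := by
  have hex : Function.Exact ((I ^ n • ⊤ : Submodule A M).subtype.rTensor P)
      ((Submodule.mkQ (I ^ n • ⊤ : Submodule A M)).rTensor P) :=
    rTensor_exact P (LinearMap.exact_subtype_mkQ _) (Submodule.mkQ_surjective _)
  rw [LinearMap.exact_iff.mp hex]
  change Groth.Agent.Helper11.AdicFl.tsub P (I ^ n • ⊤ : Submodule A M) = _
  rw [Groth.Agent.Helper11.AdicFl.tsub_smul, Groth.Agent.Helper11.AdicFl.tsub_top]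

theorem bridgeLin_bijective : Function.Bijective (bridgeLin I n M P) := by
  constructor
  · rw [← LinearMap.ker_eq_bot]
    exact Submodule.ker_liftQ_eq_bot' _ _ (ker_rTensor_mkQ I n M P).symm
  · intro y
    obtain ⟨t, rfl⟩ := LinearMap.rTensor_surjective P
      (Submodule.mkQ_surjective (I ^ n • ⊤ : Submodule A M)) y
    exact ⟨Submodule.Quotient.mk t, rfl⟩

variable {P P'} in
theorem bridgeLin_naturality (g : P →ₗ[A] P') :
    bridgeLin I n M P' ∘ₗ quotMap I n (g.lTensor M) =
      (g.lTensor (M ⧸ (I ^ n • ⊤ : Submodule A M))) ∘ₗ bridgeLin I n M P := by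
  apply Submodule.linearMap_qext
  apply TensorProduct.ext'
  intro m p
  rfl

theorem bridgeLin_transition :
    ((Submodule.mapQ (I ^ (n + 1) • ⊤ : Submodule A M) (I ^ n • ⊤ : Submodule A M) LinearMap.id
      (Submodule.smul_mono (Ideal.pow_le_pow_right (Nat.le_succ n)) le_rfl)).rTensor P) ∘ₗ
        bridgeLin I (n + 1) M P =
      bridgeLin I n M P ∘ₗ AdicCompletion.transitionMap I (M ⊗[A] P) (Nat.le_succ n) := by
  apply Submodule.linearMap_qext
  apply TensorProduct.ext'
  intro m p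
  rfl

end Lin

section Cx

variable (M : Type u) [AddCommGroup M] [Module A M]

/-- the quotients `M / I ^ n M` as objects -/
noncomputable abbrev Mq (n : ℕ) : ModuleCat.{u} A :=
  ModuleCat.of A (M ⧸ (I ^ n • ⊤ : Submodule A M))

/-- the transition maps `M / I ^ (n + 1) M ⟶ M / I ^ n M` -/
noncomputable abbrev mqMap (n : ℕ) : Mq I M (n + 1) ⟶ Mq I M n :=
  ModuleCat.ofHom (Submodule.mapQ (I ^ (n + 1) • ⊤ : Submodule A M) (I ^ n • ⊤ : Submodule A M)
    LinearMap.id (Submodule.smul_mono (Ideal.pow_le_pow_right (Nat.le_succ n)) le_rfl))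

variable (Y : DRing.Cx A)

/-- the comparison of complexes `(M ⊗ Y) / I ^ n ⟶ (M / I ^ n) ⊗ Y` -/
noncomputable def bridgeCx (n : ℕ) :
    quotCx I (tens (ModuleCat.of A M) Y) n ⟶ tens (Mq I M n) Y where
  f q := ModuleCat.ofHom (bridgeLin I n M (Y.X q))
  comm' q q' h := by
    apply ModuleCat.hom_ext
    exact (bridgeLin_naturality I n M (Y.d q q').hom).symm

instance isIso_bridgeCx (n : ℕ) : IsIso (bridgeCx I M Y n) := by
  haveI : ∀ q, IsIso ((bridgeCx I M Y n).f q) := fun q => by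
    let e : ((M ⊗[A] (Y.X q)) ⧸ (I ^ n • ⊤ : Submodule A (M ⊗[A] (Y.X q)))) ≃ₗ[A]
        (M ⧸ (I ^ n • ⊤ : Submodule A M)) ⊗[A] (Y.X q) :=
      LinearEquiv.ofBijective _ (bridgeLin_bijective I n M (Y.X q))
    exact (inferInstance : IsIso e.toModuleIso.hom)
  exact HomologicalComplex.Hom.isIso_of_components _

theorem bridgeCx_transition (n : ℕ) :
    bridgeCx I M Y (n + 1) ≫ tensMap (mqMap I M n) Y =
      trCx I (tens (ModuleCat.of A M) Y) n ≫ bridgeCx I M Y n := by
  apply HomologicalComplex.hom_ext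
  intro q
  apply ModuleCat.hom_ext
  exact bridgeLin_transition I n M (Y.X q)

end Cx

end Groth.Agent.Helper11.AdicTw
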