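import Groth.Agent.Lib.Helper11.DCP8

/-!
# Morphisms which are universal towards a class of objects, in a pretriangulated category (helper11)
-/

set_option autoImplicit false
set_option linter.unusedSectionVars false
set_option linter.unusedVariables false

open CategoryTheory Category Limits Pretriangulated

universe v w

namespace Groth.Agent.Helper11.AdicTw

section Generic

variable {C : Type v} [Category.{w} C]

/-- `η` is universal towards the objects of the class `S` -/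
def Univ (S : C → Prop) {X X' : C} (η : X ⟶ X') : Prop :=
  ∀ E : C, S E → Function.Bijective (fun φ : X' ⟶ E => η ≫ φ)

theorem Univ.of_arrow_iso {S : C → Prop} {X X' Y Y' : C} {η : X ⟶ X'} {θ : Y ⟶ Y'}
    (e : X ≅ Y) (e' : X' ≅ Y') (h : η ≫ e'.hom = e.hom ≫ θ) (hη : Univ S η) : Univ S θ := by
  intro E hE
  have h1 : Function.Bijective (fun φ : Y' ⟶ E => e'.hom ≫ φ) :=
    ⟨fun a b hab => (cancel_epi e'.hom).mp hab, fun c => ⟨e'.inv ≫ c, by simp⟩⟩
  have h2 : Function.Bijective (fun φ : X ⟶ E => e.inv ≫ φ) :=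
    ⟨fun a b hab => (cancel_epi e.inv).mp hab, fun c => ⟨e.hom ≫ c, by simp⟩⟩
  have h3 : (fun φ : Y' ⟶ E => θ ≫ φ) =
      (fun φ : X ⟶ E => e.inv ≫ φ) ∘ (fun φ : X' ⟶ E => η ≫ φ) ∘
        (fun φ : Y' ⟶ E => e'.hom ≫ φ) := by
    funext φ
    change θ ≫ φ = e.inv ≫ η ≫ e'.hom ≫ φ
    rw [← assoc η, h, assoc, Iso.inv_hom_id_assoc]
  rw [h3]
  exact h2.comp ((hη E hE).comp h1)

variable [HasZeroMorphisms C]

theorem Univ.zero {S : C → Prop} {X X' : C} (η : X ⟶ X') (hX : IsZero X) (hX' : IsZero X') :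
    Univ S η := fun E _ =>
  ⟨fun a b _ => hX'.eq_of_src a b, fun c => ⟨0, hX.eq_of_src _ _⟩⟩

end Generic

section Tri

variable {C : Type v} [Category.{w} C] [Preadditive C] [HasShift C ℤ] [HasZeroObject C]
  [∀ n : ℤ, (shiftFunctor C n).Additive] [Pretriangulated C]

omit [Preadditive C] [HasZeroObject C] [∀ n : ℤ, (shiftFunctor C n).Additive]
  [Pretriangulated C] in
theorem Univ.shift {S : C → Prop} (hS : ∀ (E : C) (n : ℤ), S E → S (E⟦n⟧)) {X X' : C}
    {η : X ⟶ X'} (hη : Univ S η) (n : ℤ) : Univ S (η⟦n⟧') := by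
  intro E hE
  have h := hη (E⟦-n⟧) (hS E (-n) hE)
  let adj := (shiftEquiv' C n (-n) (add_neg_cancel n)).toAdjunction
  have hc : (adj.homEquiv X E) ∘ (fun φ : X'⟦n⟧ ⟶ E => η⟦n⟧' ≫ φ) =
      (fun φ : X' ⟶ E⟦-n⟧ => η ≫ φ) ∘ (adj.homEquiv X' E) :=
    funext (fun g => adj.homEquiv_naturality_left η g)
  have h1 : Function.Bijective
      ((fun φ : X' ⟶ E⟦-n⟧ => η ≫ φ) ∘ (adj.homEquiv X' E)) :=
    h.comp (adj.homEquiv X' E).bijective
  rw [← hc] at h1
  exact (Function.Bijective.of_comp_iff' (adj.homEquiv X E).bijective _).mp h1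

/-- five lemma: the middle morphism of a morphism of distinguished triangles is universal if the
two others are -/
theorem Univ.hom₂ {S : C → Prop} (hS : ∀ (E : C) (n : ℤ), S E → S (E⟦n⟧))
    {T₁ T₂ : Triangle C} (hT₁ : T₁ ∈ distTriang C) (hT₂ : T₂ ∈ distTriang C) (φ : T₁ ⟶ T₂)
    (h1 : Univ S φ.hom₁) (h3 : Univ S φ.hom₃) : Univ S φ.hom₂ := by
  intro E hE
  let ψ := (invRotate C).map φ
  exact Groth.Agent.Helper11.DCP.bijective_comp_obj₃ T₁.invRotate T₂.invRotate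
    (inv_rot_of_distTriang _ hT₁) (inv_rot_of_distTriang _ hT₂)
    ψ.hom₁ ψ.hom₂ ψ.hom₃ ψ.comm₁ ψ.comm₂ ψ.comm₃ E
    ((h3.shift hS (-1)) E hE) (h1 E hE) (((h3.shift hS (-1)).shift hS 1) E hE)
    ((h1.shift hS 1) E hE)

end Tri

end Groth.Agent.Helper11.AdicTw
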