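import Groth.Agent.Lib.Helper11.AdicTw3
import Groth.Agent.Lib.Helper11.DCStupid

/-!
# Dévissage for universal arrows `K ⟶ F(K)` (termwise functor) on bounded complexes (helper11)
-/

set_option autoImplicit false
set_option linter.unusedSectionVars false
set_option linter.unusedVariables false
set_option linter.style.haveILetI false

open CategoryTheory Category Limits Pretriangulated DerivedCategory

universe u

attribute [local instance] HasDerivedCategory.standard

namespace Groth.Agent.Helper11.AdicTw

open Groth.Agent.Helper11.DC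

variable {A : Type u} [CommRing A] (F : ModuleCat.{u} A ⥤ ModuleCat.{u} A) [F.Additive]
  (ι : 𝟭 (ModuleCat.{u} A) ⟶ F) (S : Dual.D A → Prop)

/-- the termwise extension of `F` to complexes -/
noncomputable abbrev Fc : DRing.Cx A ⥤ DRing.Cx A := F.mapHomologicalComplex (ComplexShape.up ℤ)

/-- the termwise extension of `ι` -/
noncomputable abbrev ιc (K : DRing.Cx A) : K ⟶ (Fc F).obj K :=
  (NatTrans.mapHomologicalComplex ι (ComplexShape.up ℤ)).app K

theorem ιc_naturality {K L : DRing.Cx A} (f : K ⟶ L) :
    f ≫ ιc F ι L = ιc F ι K ≫ (Fc F).map f :=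
  (NatTrans.mapHomologicalComplex ι (ComplexShape.up ℤ)).naturality f

/-- the property of a module that `N[-i] ⟶ F(N)[-i]` is universal for all `i` -/
def TermUniv (N : ModuleCat.{u} A) : Prop :=
  ∀ i : ℤ, Univ S (Q.map (ιc F ι
    ((HomologicalComplex.single (ModuleCat.{u} A) (ComplexShape.up ℤ) i).obj N)))

variable {F ι S}

theorem TermUniv.of_iso {N N' : ModuleCat.{u} A} (e : N ≅ N') (h : TermUniv F ι S N) :
    TermUniv F ι S N' := by
  intro i
  let e1 := (HomologicalComplex.single (ModuleCat.{u} A) (ComplexShape.up ℤ) i).mapIso e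
  refine (h i).of_arrow_iso (Q.mapIso e1) (Q.mapIso ((Fc F).mapIso e1)) ?_
  change Q.map _ ≫ Q.map _ = Q.map _ ≫ Q.map _
  rw [← Q.map_comp, ← Q.map_comp]
  congr 1
  exact (ιc_naturality F ι e1.hom).symm

theorem TermUniv.zero {N : ModuleCat.{u} A} (hN : IsZero N) : TermUniv F ι S N := by
  intro i
  have h1 : IsZero ((HomologicalComplex.single (ModuleCat.{u} A) (ComplexShape.up ℤ) i).obj N) :=
    Functor.map_isZero _ hN
  exact Univ.zero _ (Q.map_isZero h1) (Q.map_isZero (Functor.map_isZero (Fc F) h1))

variable (F) in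
theorem shortExact_map_topSC (K : DRing.Cx A) (b : ℤ) (hb : ∀ i : ℤ, b < i → IsZero (K.X i)) :
    ((topSC K b hb).map (Fc F)).ShortExact := by
  apply HomologicalComplex.shortExact_of_degreewise_shortExact
  intro i
  have hse := topSC_eval_shortExact K b hb i
  by_cases hi : i = b
  · subst hi
    have h3 : IsZero ((topSC K i hb).X₃.X i) := topSC_X₃_isZero K i hb
    have hf : IsIso (((topSC K i hb).map (HomologicalComplex.eval _ _ i)).f) :=
      hse.isIso_f_iff.mpr h3
    exact ((ShortComplex.Splitting.ofIsIsoOfIsZero _ hf h3).map F).shortExact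
  · have hg : IsIso (((topSC K b hb).map (HomologicalComplex.eval _ _ i)).g) :=
      topSC_g_isIso K b hb i hi
    have h1 : IsZero (((topSC K b hb).map (HomologicalComplex.eval _ _ i)).X₁) :=
      hse.isIso_g_iff.mp hg
    exact ((ShortComplex.Splitting.ofIsZeroOfIsIso _ h1 hg).map F).shortExact

theorem univ_of_bounded_aux (hS : ∀ (E : Dual.D A) (n : ℤ), S E → S (E⟦n⟧)) (n : ℕ) :
    ∀ (K : DRing.Cx A) (a b : ℤ), b < a + n → DRing.VanishesOutside K a b →
      (∀ i : ℤ, TermUniv F ι S (K.X i)) → Univ S (Q.map (ιc F ι K)) := by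
  induction n with
  | zero =>
    intro K a b hab hK _
    have hz : IsZero K := by
      rw [IsZero.iff_id_eq_zero]
      apply HomologicalComplex.hom_ext
      intro i
      refine (hK i ?_).eq_of_src _ _
      rcases lt_or_ge i a with h | h
      · left; exact h
      · right; omega
    exact Univ.zero _ (Q.map_isZero hz) (Q.map_isZero (Functor.map_isZero (Fc F) hz))
  | succ n ih =>
    intro K a b hab hK hPK
    have hb' : ∀ i : ℤ, b < i → IsZero (K.X i) := fun i hi => hK i (Or.inr hi)
    have hS₁ := topSC_shortExact K b hb'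
    have hS₂ := shortExact_map_topSC F K b hb'
    let f : topSC K b hb' ⟶ (topSC K b hb').map (Fc F) :=
      { τ₁ := ιc F ι _
        τ₂ := ιc F ι _
        τ₃ := ιc F ι _
        comm₁₂ := (ιc_naturality F ι _).symm
        comm₂₃ := (ιc_naturality F ι _).symm }
    have h3 : Univ S (Q.map (ιc F ι (topSC K b hb').X₃)) := by
      refine ih _ a (b - 1) (by omega) ?_ ?_
      · intro i hi
        by_cases hib : i = b
        · subst hib
          exact topSC_X₃_isZero K i hb'
        · have := topSC_g_isIso K b hb' i hib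
          refine (hK i ?_).of_iso (asIso ((topSC K b hb').g.f i)).symm
          rcases hi with hi | hi
          · left; exact hi
          · right; omega
      · intro i
        by_cases hib : i = b
        · subst hib
          exact TermUniv.zero (topSC_X₃_isZero K i hb')
        · have := topSC_g_isIso K b hb' i hib
          exact (hPK i).of_iso (asIso ((topSC K b hb').g.f i))
    have h1 : Univ S (Q.map (ιc F ι (topSC K b hb').X₁)) := hPK b b
    exact Univ.hom₂ hS (triangleOfSES_distinguished hS₁) (triangleOfSES_distinguished hS₂)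
      (triangleOfSES.map hS₁ hS₂ f) h1 h3

/-- if `N[-i] ⟶ F(N)[-i]` is universal for all terms of a bounded complex `K`, then
`K ⟶ F(K)` is universal -/
theorem univ_of_bounded (hS : ∀ (E : Dual.D A) (n : ℤ), S E → S (E⟦n⟧)) (K : DRing.Cx A)
    (a b : ℤ) (hK : DRing.VanishesOutside K a b) (hPK : ∀ i : ℤ, TermUniv F ι S (K.X i)) :
    Univ S (Q.map (ιc F ι K)) :=
  univ_of_bounded_aux hS (b - a + 1).toNat K a b (by omega) hK hPK

end Groth.Agent.Helper11.AdicTw
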