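import Groth.Agent.Lib.Helper11.AdicTw2
import Groth.Agent.Lib.Helper11.AdicTw4
import Groth.Agent.Lib.Helper11.AdicFl4
import Groth.Agent.Lib.Helper11.DCPsCoh
import Groth.Agent.Lib.Helper11.DCAdic

/-!
# The derived completion of `M ⊗ Y` (`M` finite, `Y` bounded flat) is the termwise completion
(helper11)
-/

set_option autoImplicit false
set_option linter.unusedSectionVars false
set_option linter.unusedVariables false
set_option linter.style.haveILetI false

open CategoryTheory Category Limits Pretriangulated DerivedCategory MonoidalCategory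
open scoped TensorProduct

universe u

attribute [local instance] HasDerivedCategory.standard

namespace Groth.Agent.Helper11.AdicTw

open Groth.Agent.Helper11.DC Groth.Agent.Helper11.DCP Groth.Agent.Helper11.SgTens

variable {A : Type u} [CommRing A]

section GenericBase

variable (F : ModuleCat.{u} A ⥤ ModuleCat.{u} A) [F.Additive]
  (ι : 𝟭 (ModuleCat.{u} A) ⟶ F) (S : Dual.D A → Prop)

variable {F ι S} in
/-- it suffices to check universality in degree `0` -/
theorem termUniv_of_univ (hS : ∀ (E : Dual.D A) (n : ℤ), S E → S (E⟦n⟧)) (N : ModuleCat.{u} A)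
    (h : Univ S ((singleFunctor (ModuleCat.{u} A) 0).map (ι.app N))) : TermUniv F ι S N := by
  intro i
  -- shift
  have h1 : Univ S (((singleFunctor (ModuleCat.{u} A) 0).map (ι.app N))⟦-i⟧') := h.shift hS (-i)
  let sh := (singleFunctors (ModuleCat.{u} A)).shiftIso (-i) i 0 (by omega)
  have h2 : Univ S ((singleFunctor (ModuleCat.{u} A) i).map (ι.app N)) :=
    h1.of_arrow_iso (sh.app N) (sh.app (F.obj N)) (sh.hom.naturality (ι.app N))
  have h3 : Univ S (Q.map ((HomologicalComplex.single (ModuleCat.{u} A) (ComplexShape.up ℤ) i).map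
      (ι.app N))) := h2
  let e2 : (Fc F).obj ((HomologicalComplex.single (ModuleCat.{u} A) (ComplexShape.up ℤ) i).obj N) ≅
      (HomologicalComplex.single (ModuleCat.{u} A) (ComplexShape.up ℤ) i).obj (F.obj N) :=
    (HomologicalComplex.singleMapHomologicalComplex F (ComplexShape.up ℤ) i).app N
  have hsq : (HomologicalComplex.single (ModuleCat.{u} A) (ComplexShape.up ℤ) i).map (ι.app N) =
      ιc F ι ((HomologicalComplex.single (ModuleCat.{u} A) (ComplexShape.up ℤ) i).obj N) ≫
        e2.hom := by
    apply HomologicalComplex.from_single_hom_ext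
    have nat := ι.naturality (HomologicalComplex.singleObjXSelf (ComplexShape.up ℤ) i N).hom
    have k1 : ((HomologicalComplex.single (ModuleCat.{u} A) (ComplexShape.up ℤ) i).map
        (ι.app N)).f i =
        (HomologicalComplex.singleObjXSelf (ComplexShape.up ℤ) i N).hom ≫ ι.app N ≫
          (HomologicalComplex.singleObjXSelf (ComplexShape.up ℤ) i (F.obj N)).inv :=
      HomologicalComplex.single_map_f_self _ _ _
    have k2 : e2.hom.f i = F.map
        (HomologicalComplex.singleObjXSelf (ComplexShape.up ℤ) i N).hom ≫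
        (HomologicalComplex.singleObjXSelf (ComplexShape.up ℤ) i (F.obj N)).inv :=
      HomologicalComplex.singleMapHomologicalComplex_hom_app_self _ _ _ _
    refine k1.trans ?_
    refine Eq.trans ?_ (congrArg (fun t =>
      (ιc F ι ((HomologicalComplex.single (ModuleCat.{u} A) (ComplexShape.up ℤ) i).obj N)).f i ≫
        t) k2.symm)
    exact (Category.assoc _ _ _).symm.trans
      ((congrArg (· ≫ (HomologicalComplex.singleObjXSelf (ComplexShape.up ℤ) i
        (F.obj N)).inv) nat).trans (Category.assoc _ _ _))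
  refine h3.of_arrow_iso (Iso.refl _) (Q.mapIso e2.symm) ?_
  change Q.map _ ≫ Q.map e2.inv = 𝟙 _ ≫ Q.map _
  rw [id_comp, ← Q.map_comp]
  congr 1
  rw [hsq, assoc, Iso.hom_inv_id, comp_id]

end GenericBase

variable (I : Ideal A)

theorem isDerivedComplete_shift' (E : Dual.D A) (n : ℤ) (hE : DRing.IsDerivedComplete I E) :
    DRing.IsDerivedComplete I (E⟦n⟧) := isDerivedComplete_shift I E hE n

/-- the termwise completion of a complex is derived complete -/
theorem isDerivedComplete_complCx (hI : I.FG) (G : DRing.Cx A) :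
    DRing.IsDerivedComplete I (Q.obj (complCx I G)) := by
  refine isDerivedComplete_of_termwise I (complCx I G) ?_ _ (Iso.refl _)
  intro i f hf
  haveI : IsAdicComplete I (AdicCompletion I (G.X i)) := AdicCompletion.isAdicComplete hI
  exact Tf_bijective_of_isAdicComplete I (AdicCompletion I (G.X i)) f hf

section Noeth

variable [IsNoetherianRing A] [DRing.HasDerivedCompletion I]

/-- the derived completion of `M ⊗ P` (`M` finite, `P` flat) is the adic completion, compatibly
with the canonical maps -/
theorem exists_iso_completion_single (M P : Type u) [AddCommGroup M] [Module A M]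
    [Module.Finite A M] [AddCommGroup P] [Module A P] [Module.Flat A P] :
    ∃ ε : ((DRing.derivedCompletion I).obj (Dual.inD A (M ⊗[A] P))).obj ≅
        Dual.inD A (AdicCompletion I (M ⊗[A] P)),
      DRing.toDerivedCompletion I (Dual.inD A (M ⊗[A] P)) ≫ ε.hom =
        (singleFunctor (ModuleCat.{u} A) 0).map ((ιF I).app (ModuleCat.of A (M ⊗[A] P))) := by
  obtain ⟨h0, e, he⟩ := Groth.Agent.Helper11.AdicFl.S7061_statement I M P
  have hz : ∀ i : ℤ, i ≠ 0 → IsZero ((homologyFunctor (ModuleCat.{u} A) i).obj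
      ((DRing.derivedCompletion I).obj (Dual.inD A (M ⊗[A] P))).obj) := fun i hi => by
    haveI := h0 i hi
    exact ModuleCat.isZero_of_subsingleton _
  haveI hge : (((DRing.derivedCompletion I).obj (Dual.inD A (M ⊗[A] P))).obj).IsGE 0 :=
    (isGE_iff _ 0).mpr (fun i hi => hz i (by omega))
  haveI hle : (((DRing.derivedCompletion I).obj (Dual.inD A (M ⊗[A] P))).obj).IsLE 0 :=
    (isLE_iff _ 0).mpr (fun i hi => hz i (by omega))
  obtain ⟨X, ⟨α⟩⟩ := exists_iso_singleFunctor_obj_of_isGE_of_isLE
    (((DRing.derivedCompletion I).obj (Dual.inD A (M ⊗[A] P))).obj) 0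
  let σ := singleFunctorCompHomologyFunctorIso (ModuleCat.{u} A) 0
  let H := homologyFunctor (ModuleCat.{u} A) 0
  let sF := singleFunctor (ModuleCat.{u} A) 0
  let β : X ≅ ModuleCat.of A (AdicCompletion I (M ⊗[A] P)) :=
    (σ.app X).symm ≪≫ H.mapIso α.symm ≪≫ e.toModuleIso
  refine ⟨α ≪≫ sF.mapIso β, ?_⟩
  obtain ⟨g, hg⟩ := sF.map_surjective
    (DRing.toDerivedCompletion I (Dual.inD A (M ⊗[A] P)) ≫ (α ≪≫ sF.mapIso β).hom)
  rw [← hg]
  congr 1
  have n1 : H.map (sF.map g) ≫ σ.hom.app _ = σ.hom.app _ ≫ g := σ.hom.naturality g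
  have n2 : H.map (sF.map β.hom) ≫ σ.hom.app _ = σ.hom.app X ≫ β.hom := σ.hom.naturality β.hom
  have h1 : g = σ.inv.app _ ≫
      H.map (DRing.toDerivedCompletion I (Dual.inD A (M ⊗[A] P))) ≫ e.toModuleIso.hom := by
    have h2 : g = σ.inv.app _ ≫ H.map (sF.map g) ≫ σ.hom.app _ := by
      rw [n1, Iso.inv_hom_id_app_assoc]
    rw [h2, hg]
    change _ ≫ H.map (_ ≫ α.hom ≫ sF.map β.hom) ≫ _ = _
    rw [H.map_comp, H.map_comp, assoc, assoc, n2]
    change _ ≫ _ ≫ H.map α.hom ≫ σ.hom.app X ≫
      (σ.inv.app X ≫ H.map α.inv ≫ e.toModuleIso.hom) = _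
    have hαα : H.map α.hom ≫ H.map α.inv ≫ e.toModuleIso.hom = e.toModuleIso.hom := by
      rw [← H.map_comp_assoc, α.hom_inv_id, H.map_id, id_comp]
    rw [Iso.hom_inv_id_app_assoc, hαα]
  rw [h1]
  apply ModuleCat.hom_ext
  apply LinearMap.ext
  intro x
  exact he x

theorem termUniv_tensor (M P : Type u) [AddCommGroup M] [Module A M]
    [Module.Finite A M] [AddCommGroup P] [Module A P] [Module.Flat A P] :
    TermUniv (complF I) (ιF I) (DRing.IsDerivedComplete I) (ModuleCat.of A (M ⊗[A] P)) := by
  apply termUniv_of_univ (isDerivedComplete_shift' I)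
  obtain ⟨ε, hε⟩ := exists_iso_completion_single I M P
  have h1 : Univ (DRing.IsDerivedComplete I)
      (DRing.toDerivedCompletion I (Dual.inD A (M ⊗[A] P))) :=
    fun E hE => bijective_unit_comp I _ E hE
  exact h1.of_arrow_iso (Iso.refl _) ε (hε.trans (id_comp _).symm)

/-- **the termwise completion of `M ⊗ Y` is its derived completion** -/
theorem exists_iso_completion_tens (M : Type u) [AddCommGroup M] [Module A M]
    [Module.Finite A M] (Y : DRing.Cx A) (a b : ℤ) (hY : DRing.VanishesOutside Y a b)
    (hfl : ∀ q, Module.Flat A (Y.X q)) :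
    ∃ e : ((DRing.derivedCompletion I).obj (Q.obj (tens (ModuleCat.of A M) Y))).obj ≅
        Q.obj (complCx I (tens (ModuleCat.of A M) Y)),
      DRing.toDerivedCompletion I (Q.obj (tens (ModuleCat.of A M) Y)) ≫ e.hom =
        Q.map (ιCx I (tens (ModuleCat.of A M) Y)) := by
  have hI : I.FG := IsNoetherian.noetherian I
  refine exists_iso_completion I _ _ _ (isDerivedComplete_complCx I hI _) ?_
  have hv : DRing.VanishesOutside (tens (ModuleCat.of A M) Y) a b := fun i hi =>
    Functor.map_isZero ((curriedTensor (ModuleCat.{u} A)).obj (ModuleCat.of A M)) (hY i hi)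
  have hu : Univ (DRing.IsDerivedComplete I)
      (Q.map (ιc (complF I) (ιF I) (tens (ModuleCat.of A M) Y))) := by
    refine univ_of_bounded (isDerivedComplete_shift' I) _ a b hv ?_
    intro q
    haveI := hfl q
    exact termUniv_tensor I M (Y.X q)
  exact hu

end Noeth

end Groth.Agent.Helper11.AdicTw
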