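import Mathlib
import Groth.Prelude.Def_DerCA
import Groth.Agent.Lib.Helper26.CechAcyc3

/-!
# The cohomology of the extended Čech complex is power torsion (helper11)
-/

set_option autoImplicit false
universe u

open CategoryTheory Limits

attribute [local instance] HasDerivedCategory.standard

namespace Groth.Agent.Helper11.CechTors

open DerCA

variable {R : Type u} [CommRing R]

theorem locFunctor_map_exact (S : Submonoid R) (T : ShortComplex (ModuleCat.{u} R))
    (hT : T.Exact) : (T.map (locFunctor S)).Exact := by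
  rw [ShortComplex.ShortExact.moduleCat_exact_iff_function_exact] at hT ⊢
  exact IsLocalizedModule.map_exact S (LocalizedModule.mkLinearMap S T.X₁)
    (LocalizedModule.mkLinearMap S T.X₂) (LocalizedModule.mkLinearMap S T.X₃) T.f.hom T.g.hom hT

instance (S : Submonoid R) : (locFunctor S).PreservesHomology :=
  Functor.preservesHomology_of_map_exact _ (locFunctor_map_exact S)

/-- the map induced on cohomology by `K ⟶ K_S` is the localisation map, up to isomorphisms. -/
theorem homologyMap_locCxUnit (S : Submonoid R) (K : DRing.Cx R) (n : ℤ) :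
    ∃ (a : K.homology n ≅ K.homology n)
      (b : ((locCx S).obj K).homology n ≅ (locFunctor S).obj (K.homology n)),
      HomologicalComplex.homologyMap (locCxUnit S K) n =
        a.hom ≫ (locUnit S).app (K.homology n) ≫ b.inv :=
  ⟨(K.sc n).mapHomologyIso (𝟭 _), (K.sc n).mapHomologyIso (locFunctor S),
    ShortComplex.homologyMap_mapNatTrans (K.sc n) (locUnit S)⟩

theorem iso_hom_injective {N N' : ModuleCat.{u} R} (e : N ≅ N') : Function.Injective e.hom.hom :=
  ((ConcreteCategory.isIso_iff_bijective e.hom).1 inferInstance).1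

theorem iso_inv_injective {N N' : ModuleCat.{u} R} (e : N ≅ N') : Function.Injective e.inv.hom :=
  ((ConcreteCategory.isIso_iff_bijective e.inv).1 inferInstance).1

theorem iso_hom_inv_apply {N N' : ModuleCat.{u} R} (e : N ≅ N') (x : N') :
    e.hom.hom (e.inv.hom x) = x := by
  simp

theorem iso_inv_hom_apply {N N' : ModuleCat.{u} R} (e : N ≅ N') (x : N) :
    e.inv.hom (e.hom.hom x) = x := by
  simp

/-- `g`-power torsion modules. -/
def PT (g : R) (N : ModuleCat.{u} R) : Prop := ∀ x : N, ∃ n : ℕ, g ^ n • x = 0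

theorem PT.of_iso {g : R} {N N' : ModuleCat.{u} R} (e : N ≅ N') (h : PT g N) : PT g N' := by
  intro x
  obtain ⟨n, hn⟩ := h (e.inv.hom x)
  refine ⟨n, ?_⟩
  have h1 : e.hom.hom (g ^ n • e.inv.hom x) = g ^ n • x := by
    rw [map_smul, iso_hom_inv_apply]
  rw [← h1, hn, map_zero]

theorem PT.loc {g : R} {N : ModuleCat.{u} R} (h : PT g N) (S : Submonoid R) :
    PT g ((locFunctor S).obj N) := by
  intro x
  induction x using LocalizedModule.induction_on with
  | h m s =>
    obtain ⟨n, hn⟩ := h m
    refine ⟨n, ?_⟩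
    change g ^ n • LocalizedModule.mk m s = 0
    rw [LocalizedModule.smul'_mk, hn, LocalizedModule.zero_mk]

theorem PT.of_exact {g : R} (T : ShortComplex (ModuleCat.{u} R)) (hT : T.Exact)
    (h₁ : PT g T.X₁) (h₃ : PT g T.X₃) : PT g T.X₂ := by
  intro m
  obtain ⟨n, hn⟩ := h₃ (T.g m)
  have h1 : T.g (g ^ n • m) = 0 := by
    rw [map_smul]
    exact hn
  obtain ⟨x₁, hx₁⟩ := (ShortComplex.moduleCat_exact_iff T).mp hT _ h1
  obtain ⟨k, hk⟩ := h₁ x₁
  refine ⟨k + n, ?_⟩
  rw [pow_add, mul_smul, ← hx₁, ← map_smul, hk, map_zero]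

theorem PT.cocone {g : R} {K L : DRing.Cx R} (φ : K ⟶ L) (hK : ∀ n, PT g (K.homology n))
    (hL : ∀ n, PT g (L.homology n)) (n : ℤ) :
    PT g ((CochainComplex.mappingCocone φ).homology n) := by
  have hT := DerivedCategory.mappingCocone_triangle_distinguished φ
  have hex := CochainComplex.homologyMap_exact₁_of_distTriang
    (CochainComplex.mappingCocone.triangle φ) hT (n - 1) n (by omega)
  exact PT.of_exact _ hex (hL (n - 1)) (hK n)

theorem exists_pow_smul_eq_zero_of_homologyMap_eq_zero (f : R) (K : DRing.Cx R) (n : ℤ)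
    (y : K.homology n)
    (hy : (HomologicalComplex.homologyMap (locCxUnit (Submonoid.powers f) K) n).hom y = 0) :
    ∃ k : ℕ, f ^ k • y = 0 := by
  obtain ⟨a, b, hab⟩ := homologyMap_locCxUnit (Submonoid.powers f) K n
  rw [hab] at hy
  have h1 : b.inv.hom (LocalizedModule.mkLinearMap (Submonoid.powers f) (K.homology n)
      (a.hom.hom y)) = 0 := hy
  have h2 : LocalizedModule.mkLinearMap (Submonoid.powers f) (K.homology n) (a.hom.hom y) = 0 :=
    iso_inv_injective b (h1.trans (map_zero b.inv.hom).symm)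
  obtain ⟨⟨_, k, rfl⟩, hs⟩ := (IsLocalizedModule.eq_zero_iff (Submonoid.powers f)
    (LocalizedModule.mkLinearMap (Submonoid.powers f) (K.homology n))).mp h2
  refine ⟨k, iso_hom_injective a ?_⟩
  rw [map_smul, map_zero]
  exact hs

theorem homologyMap_eq_zero_of_pow_smul_eq_zero (f : R) (K : DRing.Cx R) (n : ℤ)
    (y : K.homology n) (k : ℕ) (hk : f ^ k • y = 0) :
    (HomologicalComplex.homologyMap (locCxUnit (Submonoid.powers f) K) n).hom y = 0 := by
  obtain ⟨a, b, hab⟩ := homologyMap_locCxUnit (Submonoid.powers f) K n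
  rw [hab]
  change b.inv.hom (LocalizedModule.mkLinearMap (Submonoid.powers f) (K.homology n)
      (a.hom.hom y)) = 0
  have h2 : LocalizedModule.mkLinearMap (Submonoid.powers f) (K.homology n) (a.hom.hom y) = 0 := by
    rw [IsLocalizedModule.eq_zero_iff (Submonoid.powers f)]
    refine ⟨⟨f ^ k, k, rfl⟩, ?_⟩
    change f ^ k • a.hom.hom y = 0
    rw [← map_smul, hk, map_zero]
  rw [h2]
  exact map_zero b.inv.hom

theorem exists_pow_smul_mem_range (f : R) (K : DRing.Cx R) (n : ℤ)
    (z : ((locCx (Submonoid.powers f)).obj K).homology n) :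
    ∃ (k : ℕ) (w : K.homology n),
      f ^ k • z = (HomologicalComplex.homologyMap (locCxUnit (Submonoid.powers f) K) n).hom w := by
  obtain ⟨a, b, hab⟩ := homologyMap_locCxUnit (Submonoid.powers f) K n
  obtain ⟨⟨m, ⟨_, k, rfl⟩⟩, hm⟩ := IsLocalizedModule.surj (Submonoid.powers f)
    (LocalizedModule.mkLinearMap (Submonoid.powers f) (K.homology n)) (b.hom.hom z)
  refine ⟨k, a.inv.hom m, ?_⟩
  rw [hab]
  change f ^ k • z = b.inv.hom (LocalizedModule.mkLinearMap (Submonoid.powers f) (K.homology n)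
      (a.hom.hom (a.inv.hom m)))
  rw [iso_hom_inv_apply, ← hm]
  change f ^ k • z = b.inv.hom (f ^ k • b.hom.hom z)
  rw [map_smul, iso_inv_hom_apply]

theorem PT.chase {g : R} {A₀ A₁ X B B' : ModuleCat.{u} R} (φ₀ : A₀ ⟶ A₁) (δ : A₁ ⟶ X)
    (p : X ⟶ B) (ψ : B ⟶ B') (h2 : φ₀ ≫ δ = 0)
    (hex : ∀ x : X, p.hom x = 0 → ∃ z, δ.hom z = x)
    (h0 : p ≫ ψ = 0)
    (hker : ∀ y : B, ψ.hom y = 0 → ∃ k : ℕ, g ^ k • y = 0)
    (hcoker : ∀ z : A₁, ∃ (k : ℕ) (w : A₀), g ^ k • z = φ₀.hom w) : PT g X := by
  intro x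
  have hy : ψ.hom (p.hom x) = 0 := congr($h0 x)
  obtain ⟨a, ha⟩ := hker _ hy
  have h1 : p.hom (g ^ a • x) = 0 := by
    rw [map_smul]
    exact ha
  obtain ⟨z, hz⟩ := hex _ h1
  obtain ⟨k, w, hw⟩ := hcoker z
  refine ⟨k + a, ?_⟩
  rw [pow_add, mul_smul, ← hz, ← map_smul, hw]
  exact congr($h2 w)

theorem PT.cocone_self (f : R) (K : DRing.Cx R) (n : ℤ) :
    PT f ((CochainComplex.mappingCocone (locCxUnit (Submonoid.powers f) K)).homology n) := by
  have hT := DerivedCategory.mappingCocone_triangle_distinguished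
    (locCxUnit (Submonoid.powers f) K)
  have h0 := CochainComplex.homologyMap_comp_eq_zero_of_distTriang
    (CochainComplex.mappingCocone.triangle (locCxUnit (Submonoid.powers f) K)) hT n
  have hex := CochainComplex.homologyMap_exact₁_of_distTriang
    (CochainComplex.mappingCocone.triangle (locCxUnit (Submonoid.powers f) K)) hT (n - 1) n
    (by omega)
  have h2 := CochainComplex.homologyMap_homologyδOfTriangle
    (CochainComplex.mappingCocone.triangle (locCxUnit (Submonoid.powers f) K)) hT (n - 1) n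
    (by omega)
  exact PT.chase _ _ _ _ h2 ((ShortComplex.moduleCat_exact_iff _).mp hex) h0
    (exists_pow_smul_eq_zero_of_homologyMap_eq_zero f K n)
    (exists_pow_smul_mem_range f K (n - 1))

theorem pt_extCech (M : ModuleCat.{u} R) :
    ∀ (fs : List R) (g : R), g ∈ fs → ∀ n : ℤ, PT g ((extCech M fs).homology n)
  | [], g, hg, n => by simp at hg
  | f :: fs, g, hg, n => by
    change PT g ((CochainComplex.mappingCocone
      (locCxUnit (Submonoid.powers f) (extCech M fs))).homology n)
    by_cases hgf : g = f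
    · subst hgf
      exact PT.cocone_self g _ n
    · have hg' : g ∈ fs := by
        rcases List.mem_cons.mp hg with rfl | h'
        · exact absurd rfl hgf
        · exact h'
      have ih := pt_extCech M fs g hg'
      refine PT.cocone _ ih (fun k => ?_) n
      exact PT.of_iso (((extCech M fs).sc k).mapHomologyIso
        (locFunctor (Submonoid.powers f))).symm ((ih k).loc _)

theorem exists_uniform {N : Type*} [AddCommGroup N] [Module R N] (x : N) :
    ∀ (l : List R), (∀ f ∈ l, ∃ n : ℕ, f ^ n • x = 0) →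
      ∃ n : ℕ, 1 ≤ n ∧ ∀ f ∈ l, f ^ n • x = 0
  | [], _ => ⟨1, le_rfl, by simp⟩
  | f :: l, h => by
    obtain ⟨n₁, hn₁⟩ := h f List.mem_cons_self
    obtain ⟨n₂, h1, hn₂⟩ := exists_uniform x l (fun g hg => h g (List.mem_cons_of_mem _ hg))
    refine ⟨n₁ + n₂, by omega, ?_⟩
    intro g hg
    rcases List.mem_cons.mp hg with rfl | hg'
    · rw [pow_add, mul_comm, mul_smul, hn₁, smul_zero]
    · rw [pow_add, mul_smul, hn₂ g hg', smul_zero]

/-- S9265 -/
theorem exists_pow_smul_eq_zero (fs : List R) (M : ModuleCat.{u} R) (q : ℤ)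
    (x : extCechH fs M q) : ∃ n : ℕ, 1 ≤ n ∧ ∀ f ∈ fs, (f ^ n) • x = 0 :=
  exists_uniform x fs (fun f hf => pt_extCech M fs f hf q x)

/-- S9266 -/
theorem isZero_of_mem_span_bijective (fs : List R) (M : ModuleCat.{u} R) (f : R)
    (hf : f ∈ Ideal.span {a : R | a ∈ fs})
    (hbij : Function.Bijective (fun m : M => f • m)) (q : ℤ) :
    IsZero (extCechH fs M q) := by
  have hiso : IsIso (locCxUnit (Submonoid.powers f) (extCech M fs)) :=
    Groth.Agent.Helper26.CechAcyc2.isIso_locCxUnit (f := f) (extCech M fs)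
      (Groth.Agent.Helper26.CechAcyc3.bijOn_extCech M hbij fs)
  have hiso' : IsIso (HomologicalComplex.homologyMap
      (locCxUnit (Submonoid.powers f) (extCech M fs)) q) := inferInstance
  have hinj : Function.Injective (HomologicalComplex.homologyMap
      (locCxUnit (Submonoid.powers f) (extCech M fs)) q).hom :=
    ((ConcreteCategory.isIso_iff_bijective _).1 hiso').1
  have hall : ∀ x : extCechH fs M q, x = 0 := by
    intro x
    obtain ⟨n, -, hn⟩ := exists_pow_smul_eq_zero fs M q x
    -- a power of `f` kills `x`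
    have hle : Ideal.span {a : R | a ∈ fs} ≤ ((R ∙ x).annihilator).radical := by
      rw [Ideal.span_le]
      intro a ha
      exact ⟨n, (Submodule.mem_annihilator_span_singleton _ _).mpr (hn a ha)⟩
    have hfg : (Ideal.span {a : R | a ∈ fs}).FG := by
      classical
      refine ⟨fs.toFinset, ?_⟩
      congr 1
      ext a
      simp
    obtain ⟨N, hN⟩ := Ideal.exists_pow_le_of_le_radical_of_fg hle hfg
    have hfN : f ^ N • x = 0 :=
      (Submodule.mem_annihilator_span_singleton _ _).mp (hN (Ideal.pow_mem_pow hf N))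
    apply hinj
    rw [map_zero]
    exact homologyMap_eq_zero_of_pow_smul_eq_zero f _ q x N hfN
  haveI : Subsingleton (extCechH fs M q) := ⟨fun x y => by rw [hall x, hall y]⟩
  exact ModuleCat.isZero_of_subsingleton _

end Groth.Agent.Helper11.CechTors
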