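import Groth.Agent.Lib.Helper11.RGam4

/-!
# `RΓ_I` over a Noetherian ring: composition and the adjunction with torsion objects (helper11)
-/

set_option autoImplicit false

open CategoryTheory CategoryTheory.Limits DerivedCategory

universe u

attribute [local instance] HasDerivedCategory.standard

namespace Groth.Agent.Helper11.RGam

open Groth.Agent.Helper11.DCP Groth.Agent.Helper11.DC

variable {A : Type u} [CommRing A] [IsNoetherianRing A]

/-- **S1816** -/
theorem nonempty_RgammaI_comp_iso (I J : Ideal A) [DRing.HasRgammaI I] [DRing.HasRgammaI J]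
    [DRing.HasRgammaI (I ⊔ J)] (K : Dual.D A) :
    Nonempty ((DRing.RgammaI J).obj ((DRing.RgammaI I).obj K) ≅
      (DRing.RgammaI (I ⊔ J)).obj K) := by
  obtain ⟨J₀, e, hJ₀, hinj⟩ := exists_kInj_iso K
  haveI := hJ₀
  let e1 : (DRing.RgammaI I).obj K ≅ Q.obj (gamCx I J₀) :=
    (DRing.RgammaI I).mapIso e ≪≫ RgammaIIso I J₀
  let e2 := RgammaIIsoOfInjective J (gamCx I J₀) (injective_gamCx_X I J₀ hinj)
  let e3 : Q.obj (gamCx (I ⊔ J) J₀) ≅ Q.obj (gamCx J (gamCx I J₀)) :=
    Q.mapIso (gamSupIso I J J₀)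
  let e4 : (DRing.RgammaI (I ⊔ J)).obj K ≅ Q.obj (gamCx (I ⊔ J) J₀) :=
    (DRing.RgammaI (I ⊔ J)).mapIso e ≪≫ RgammaIIso (I ⊔ J) J₀
  exact ⟨(DRing.RgammaI J).mapIso e1 ≪≫ e2 ≪≫ e3.symm ≪≫ e4.symm⟩

variable (I : Ideal A)

omit [IsNoetherianRing A] in
theorem gammaI_map_apply {M N : ModuleCat.{u} A} (g : M ⟶ N) (x : DRing.torsionSub I M) :
    (((DRing.gammaI I).map g).hom x).1 = g.hom x.1 := rfl

omit [IsNoetherianRing A] in
theorem bijective_gammaI_map_subtype (M : Type u) [AddCommGroup M] [Module A M] :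
    Function.Bijective
      ((DRing.gammaI I).map (ModuleCat.ofHom (DRing.torsionSub I M).subtype)).hom := by
  constructor
  · intro x y h
    apply Subtype.ext
    apply Subtype.ext
    exact congrArg Subtype.val h
  · intro y
    have hy : (show DRing.torsionSub I M from y) ∈
        DRing.torsionSub I (DRing.torsionSub I M) := by
      obtain ⟨m, hm⟩ := (show DRing.torsionSub I M from y).2
      exact ⟨m, fun a ha => Subtype.ext (hm a ha)⟩
    exact ⟨⟨y, hy⟩, Subtype.ext rfl⟩

omit [IsNoetherianRing A] in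
/-- `Γ_I` applied to the inclusion `Γ_I C → C` is an isomorphism of complexes -/
theorem isIso_map_gamι (C : DRing.Cx A) :
    IsIso (((DRing.gammaI I).mapHomologicalComplex (ComplexShape.up ℤ)).map (gamι I C)) := by
  haveI : ∀ n, IsIso ((((DRing.gammaI I).mapHomologicalComplex (ComplexShape.up ℤ)).map
      (gamι I C)).f n) := fun n => by
    show IsIso ((DRing.gammaI I).map ((gamι I C).f n))
    rw [gamι_f]
    exact (ConcreteCategory.isIso_iff_bijective _).mpr
      (bijective_gammaI_map_subtype I (C.X n))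
  exact HomologicalComplex.Hom.isIso_of_components _

theorem isIso_RgammaI_map_Q_gamι [DRing.HasRgammaI I] (J : DRing.Cx A) [J.IsKInjective]
    (hinj : ∀ n, Injective (J.X n)) :
    IsIso ((DRing.RgammaI I).map (Qh.map
      ((HomotopyCategory.quotient (ModuleCat.{u} A) (ComplexShape.up ℤ)).map (gamι I J)))) := by
  have nat := (unitα I).naturality
    ((HomotopyCategory.quotient (ModuleCat.{u} A) (ComplexShape.up ℤ)).map (gamι I J))
  haveI i1 : IsIso ((unitα I).app
      ((HomotopyCategory.quotient (ModuleCat.{u} A) (ComplexShape.up ℤ)).obj J)) :=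
    Groth.Agent.Helper11.KI.isIso_unit (DRing.gammaIKh I) (DRing.RgammaI I) (unitα I) J
  haveI i2 : IsIso ((unitα I).app
      ((HomotopyCategory.quotient (ModuleCat.{u} A) (ComplexShape.up ℤ)).obj (gamCx I J))) :=
    isIso_unit_of_injective I (gamCx I J) (injective_gamCx_X I J hinj)
  haveI i3 : IsIso ((DRing.gammaIKh I).map
      ((HomotopyCategory.quotient (ModuleCat.{u} A) (ComplexShape.up ℤ)).map (gamι I J))) := by
    haveI := isIso_map_gamι I J
    exact isIso_gammaIKh_map I (gamι I J) inferInstance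
  have h4 : (Qh ⋙ DRing.RgammaI I).map
      ((HomotopyCategory.quotient (ModuleCat.{u} A) (ComplexShape.up ℤ)).map (gamι I J)) =
      inv ((unitα I).app
        ((HomotopyCategory.quotient (ModuleCat.{u} A) (ComplexShape.up ℤ)).obj (gamCx I J))) ≫
      (DRing.gammaIKh I).map
        ((HomotopyCategory.quotient (ModuleCat.{u} A) (ComplexShape.up ℤ)).map (gamι I J)) ≫
      (unitα I).app ((HomotopyCategory.quotient (ModuleCat.{u} A) (ComplexShape.up ℤ)).obj J) := by
    rw [IsIso.eq_inv_comp]
    exact nat.symm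
  show IsIso ((Qh ⋙ DRing.RgammaI I).map
      ((HomotopyCategory.quotient (ModuleCat.{u} A) (ComplexShape.up ℤ)).map (gamι I J)))
  rw [h4]
  infer_instance

omit [IsNoetherianRing A] in
theorem isIso_map_of_fac {C D : Type*} [Category C] [Category D] (F : C ⥤ D) {X Y Z : C}
    (a : X ⟶ Y) (g : Y ⟶ Z) (b : X ⟶ Z) (h : a ≫ g = b) (ha : IsIso a)
    (hb : IsIso (F.map b)) : IsIso (F.map g) := by
  have h2 : g = inv a ≫ b := by rw [IsIso.eq_inv_comp, h]
  rw [h2, Functor.map_comp]
  infer_instance

theorem isIso_RgammaI_map_ε [DRing.HasRgammaI I] (K : Dual.D A) :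
    IsIso ((DRing.RgammaI I).map ((DRing.RgammaIε I).app K)) := by
  obtain ⟨J, e, hJ, hinj⟩ := exists_kInj_iso K
  haveI := hJ
  have nat := (DRing.RgammaIε I).naturality e.hom
  have h1 : (DRing.RgammaIε I).app K =
      (DRing.RgammaI I).map e.hom ≫ (DRing.RgammaIε I).app (Q.obj J) ≫ e.inv := by
    rw [← Category.assoc, nat, Category.assoc]
    simp
  have h := unit_comp_ε I
    ((HomotopyCategory.quotient (ModuleCat.{u} A) (ComplexShape.up ℤ)).obj J)
  rw [gammaIτ_app_quo] at h
  have i1 : IsIso ((unitα I).app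
      ((HomotopyCategory.quotient (ModuleCat.{u} A) (ComplexShape.up ℤ)).obj J)) :=
    Groth.Agent.Helper11.KI.isIso_unit (DRing.gammaIKh I) (DRing.RgammaI I) (unitα I) J
  haveI i2 := isIso_RgammaI_map_Q_gamι I J hinj
  have i3 : IsIso ((DRing.RgammaI I).map (Qh.map ((gamFac I).hom.app J) ≫ Qh.map
      ((HomotopyCategory.quotient (ModuleCat.{u} A) (ComplexShape.up ℤ)).map (gamι I J)))) := by
    rw [Functor.map_comp]
    infer_instance
  haveI i4 : IsIso ((DRing.RgammaI I).map ((DRing.RgammaIε I).app (Q.obj J))) :=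
    isIso_map_of_fac (DRing.RgammaI I) _ _ _ h i1 i3
  rw [h1]
  simp only [Functor.map_comp]
  infer_instance

theorem bijective_comp_ε [DRing.HasRgammaI I] (L K : Dual.D A)
    (hL : ∀ i : ℤ, LocCoh.IsPowerTorsion I (Dual.HD A L i)) :
    Function.Bijective
      (fun g : L ⟶ (DRing.RgammaI I).obj K => g ≫ (DRing.RgammaIε I).app K) := by
  haveI hεL := isIso_ε_of_isPowerTorsion I L hL
  haveI hRε := isIso_RgammaI_map_ε I K
  constructor
  · intro g₁ g₂ h
    dsimp only at h
    have key : ∀ g : L ⟶ (DRing.RgammaI I).obj K,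
        g = inv ((DRing.RgammaIε I).app L) ≫ (DRing.RgammaI I).map g ≫
          (DRing.RgammaIε I).app ((DRing.RgammaI I).obj K) := by
      intro g
      rw [IsIso.eq_inv_comp]
      exact ((DRing.RgammaIε I).naturality g).symm
    have h2 : (DRing.RgammaI I).map g₁ = (DRing.RgammaI I).map g₂ := by
      rw [← cancel_mono ((DRing.RgammaI I).map ((DRing.RgammaIε I).app K)),
        ← Functor.map_comp, ← Functor.map_comp, h]
    rw [key g₁, key g₂, h2]
  · intro φ
    refine ⟨inv ((DRing.RgammaIε I).app L) ≫ (DRing.RgammaI I).map φ, ?_⟩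
    dsimp only
    rw [Category.assoc, IsIso.inv_comp_eq]
    exact (DRing.RgammaIε I).naturality φ

/-- **S1817** -/
theorem S1817_statement [DRing.HasRgammaI I] :
    ∃ h : ∀ K : Dual.D A, (fun L : Dual.D A => ∀ i : ℤ, LocCoh.IsPowerTorsion I (Dual.HD A L i))
        ((DRing.RgammaI I).obj K),
      Nonempty (ObjectProperty.ι
          (fun L : Dual.D A => ∀ i : ℤ, LocCoh.IsPowerTorsion I (Dual.HD A L i)) ⊣
        ObjectProperty.lift
          (fun L : Dual.D A => ∀ i : ℤ, LocCoh.IsPowerTorsion I (Dual.HD A L i))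
          (DRing.RgammaI I) h) := by
  refine ⟨fun K i => isPowerTorsion_HD_RgammaI I K i, ⟨?_⟩⟩
  have hbij : ∀ (L : ObjectProperty.FullSubcategory
      (fun L : Dual.D A => ∀ i : ℤ, LocCoh.IsPowerTorsion I (Dual.HD A L i))) (K : Dual.D A),
      Function.Bijective (fun g : L ⟶ (ObjectProperty.lift
        (fun L : Dual.D A => ∀ i : ℤ, LocCoh.IsPowerTorsion I (Dual.HD A L i))
        (DRing.RgammaI I) (fun K i => isPowerTorsion_HD_RgammaI I K i)).obj K =>
        g.hom ≫ (DRing.RgammaIε I).app K) := by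
    intro L K
    refine (bijective_comp_ε I L.obj K L.property).comp ⟨?_, ?_⟩
    · intro g₁ g₂ h
      exact ObjectProperty.hom_ext _ h
    · intro f
      exact ⟨ObjectProperty.homMk f, rfl⟩
  exact Adjunction.mkOfHomEquiv
    { homEquiv := fun L K => (Equiv.ofBijective _ (hbij L K)).symm
      homEquiv_naturality_left_symm := by
        intro L' L K f g
        simp only [Equiv.symm_symm]
        exact Category.assoc f.hom g.hom ((DRing.RgammaIε I).app K)
      homEquiv_naturality_right := by
        intro L K K' f g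
        apply (Equiv.ofBijective _ (hbij L K')).injective
        rw [Equiv.apply_symm_apply]
        have h2 : ((Equiv.ofBijective _ (hbij L K)).symm f).hom ≫ (DRing.RgammaIε I).app K = f :=
          (Equiv.ofBijective _ (hbij L K)).apply_symm_apply f
        have h1 : (DRing.RgammaI I).map g ≫ (DRing.RgammaIε I).app K' =
            (DRing.RgammaIε I).app K ≫ g := (DRing.RgammaIε I).naturality g
        have h3 : (Equiv.ofBijective _ (hbij L K'))
            ((Equiv.ofBijective _ (hbij L K)).symm f ≫ (ObjectProperty.lift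
              (fun L : Dual.D A => ∀ i : ℤ, LocCoh.IsPowerTorsion I (Dual.HD A L i))
              (DRing.RgammaI I) (fun K i => isPowerTorsion_HD_RgammaI I K i)).map g) =
            ((Equiv.ofBijective _ (hbij L K)).symm f).hom ≫
              ((DRing.RgammaI I).map g ≫ (DRing.RgammaIε I).app K') :=
          Category.assoc ((Equiv.ofBijective _ (hbij L K)).symm f).hom
            ((DRing.RgammaI I).map g) ((DRing.RgammaIε I).app K')
        rw [h3, h1, ← Category.assoc, h2] }

end Groth.Agent.Helper11.RGam
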