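import Groth.Agent.Lib.Helper11.GM1
import Groth.Agent.Lib.Helper11.RGam5
import Mathlib.Algebra.Homology.DerivedCategory.ShortExact

/-!
# Greenlees–May duality over a Noetherian ring (helper11)
-/

set_option autoImplicit false

open CategoryTheory CategoryTheory.Limits Pretriangulated DerivedCategory

universe u

attribute [local instance] HasDerivedCategory.standard

namespace Groth.Agent.Helper11.GM

open Groth.Agent.Helper11.DCP Groth.Agent.Helper11.DC Groth.Agent.Helper11.RGam

variable {A : Type u} [CommRing A]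

/-- derived completion along the ideal generated by a list, with universal property and
invisibility for objects left orthogonal to the local objects -/
theorem exists_completion_of_list' (l : List A) (I : Ideal A)
    (hI : Ideal.span {x : A | x ∈ l} = I) (K : Dual.D A) :
    ∃ (K' : Dual.D A) (η : K ⟶ K'), DRing.IsDerivedComplete I K' ∧
      (∀ E : Dual.D A, DRing.IsDerivedComplete I E →
        Function.Bijective (fun φ : K' ⟶ E => η ≫ φ)) ∧
      (∀ L : Dual.D A, (∀ f ∈ l, LOrth f L) →
        Function.Bijective (fun φ : L ⟶ K => φ ≫ η)) := by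
  obtain ⟨K', η, h1, h2, h3⟩ := exists_completion_list' (A := A) hasPow l K
  refine ⟨K', η, (isDerivedComplete_iff_list l I hI K').mpr h1, fun E hE => ?_, h3⟩
  exact h2 E ((isDerivedComplete_iff_list l I hI E).mp hE)

theorem bijective_comp_toDerivedCompletion (l : List A) (I : Ideal A)
    (hI : Ideal.span {x : A | x ∈ l} = I) [DRing.HasDerivedCompletion I] (K L : Dual.D A)
    (hL : ∀ f ∈ l, LOrth f L) :
    Function.Bijective (fun φ : L ⟶ K => φ ≫ DRing.toDerivedCompletion I K) := by
  obtain ⟨K', η, hc, hu, hl⟩ := exists_completion_of_list' l I hI K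
  obtain ⟨e, he⟩ := exists_iso_completion I K K' η hc hu
  have h1 : DRing.toDerivedCompletion I K = η ≫ e.inv := by
    rw [← he, Category.assoc, e.hom_inv_id, Category.comp_id]
  have h2 : (fun φ : L ⟶ K => φ ≫ DRing.toDerivedCompletion I K) =
      (fun ψ : L ⟶ K' => ψ ≫ e.inv) ∘ (fun φ : L ⟶ K => φ ≫ η) := by
    funext φ
    show φ ≫ DRing.toDerivedCompletion I K = (φ ≫ η) ≫ e.inv
    rw [h1, Category.assoc]
  rw [h2]
  exact (bijective_comp_iso e.inv L).comp (hl L hL)

/-- `RΓ_I` kills `f`-local objects for `f ∈ I` -/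
theorem isZero_RgammaI_of_fLocal (I : Ideal A) [DRing.HasRgammaI I] (f : A) (hf : f ∈ I)
    (Y : Dual.D A) (hY : FLocal f Y) : IsZero ((DRing.RgammaI I).obj Y) := by
  obtain ⟨J, e, hJ, _⟩ := exists_kInj_iso Y
  haveI := hJ
  have hJ' : IsIso (f • 𝟙 (Q.obj J)) := hY.of_iso e
  exact IsZero.of_iso (isZero_Q_gamCx_of_smul I J f hf hJ')
    ((DRing.RgammaI I).mapIso e ≪≫ RgammaIIso I J)

section Noeth

variable [IsNoetherianRing A] (I : Ideal A)

theorem lOrth_of_isPowerTorsion [DRing.HasRgammaI I] (f : A) (hf : f ∈ I) (L : Dual.D A)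
    (hL : ∀ i : ℤ, LocCoh.IsPowerTorsion I (Dual.HD A L i)) : LOrth f L := by
  intro Y hY
  have hb := bijective_comp_ε I L Y hL
  have hz := isZero_RgammaI_of_fLocal I f hf Y hY
  refine ⟨fun a b => ?_⟩
  obtain ⟨a', rfl⟩ := hb.2 a
  obtain ⟨b', rfl⟩ := hb.2 b
  rw [hz.eq_of_tgt a' b']

theorem exists_list_span : ∃ l : List A, Ideal.span {x : A | x ∈ l} = I := by
  obtain ⟨s, hs⟩ := (IsNoetherian.noetherian I : I.FG)
  refine ⟨s.toList, ?_⟩
  rw [← hs]
  congr 1
  ext x
  simp

/-- Greenlees–May, first half -/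
theorem isIso_RgammaI_map_toDerivedCompletion [DRing.HasRgammaI I]
    [DRing.HasDerivedCompletion I] (K : Dual.D A) :
    IsIso ((DRing.RgammaI I).map (DRing.toDerivedCompletion I K)) := by
  obtain ⟨l, hl⟩ := exists_list_span I
  refine isIso_of_bijective_comp
    (fun L : Dual.D A => ∀ i : ℤ, LocCoh.IsPowerTorsion I (Dual.HD A L i)) _
    (fun i => isPowerTorsion_HD_RgammaI I K i)
    (fun i => isPowerTorsion_HD_RgammaI I _ i) ?_
  intro L hL
  have b1 := bijective_comp_ε I L K hL
  have b2 := bijective_comp_ε I L ((DRing.derivedCompletion I).obj K).obj hL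
  have b3 := bijective_comp_toDerivedCompletion l I hl K L
    (fun f hf => lOrth_of_isPowerTorsion I f (hl ▸ Ideal.subset_span hf) L hL)
  have hsq : (fun g : L ⟶ (DRing.RgammaI I).obj ((DRing.derivedCompletion I).obj K).obj =>
        g ≫ (DRing.RgammaIε I).app ((DRing.derivedCompletion I).obj K).obj) ∘
      (fun φ : L ⟶ (DRing.RgammaI I).obj K =>
        φ ≫ (DRing.RgammaI I).map (DRing.toDerivedCompletion I K)) =
      (fun φ : L ⟶ K => φ ≫ DRing.toDerivedCompletion I K) ∘
      (fun g : L ⟶ (DRing.RgammaI I).obj K => g ≫ (DRing.RgammaIε I).app K) := by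
    funext φ
    have nat := (DRing.RgammaIε I).naturality (DRing.toDerivedCompletion I K)
    show (φ ≫ (DRing.RgammaI I).map (DRing.toDerivedCompletion I K)) ≫
        (DRing.RgammaIε I).app ((DRing.derivedCompletion I).obj K).obj =
      (φ ≫ (DRing.RgammaIε I).app K) ≫ DRing.toDerivedCompletion I K
    rw [Category.assoc, nat, Category.assoc]
    rfl
  have h4 : Function.Bijective
      ((fun g : L ⟶ (DRing.RgammaI I).obj ((DRing.derivedCompletion I).obj K).obj =>
        g ≫ (DRing.RgammaIε I).app ((DRing.derivedCompletion I).obj K).obj) ∘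
      (fun φ : L ⟶ (DRing.RgammaI I).obj K =>
        φ ≫ (DRing.RgammaI I).map (DRing.toDerivedCompletion I K))) := by
    rw [hsq]
    exact b3.comp b1
  exact (Function.Bijective.of_comp_iff' b2 _).mp h4

/-- principal case of the second half, on complexes of injectives -/
theorem bijective_Q_gamι_comp_principal (f : A) (J : DRing.Cx A)
    (hinj : ∀ n, Injective (J.X n)) (M : Dual.D A) (hM : ROrth f M) :
    Function.Bijective
      (fun ψ : Q.obj J ⟶ M => Q.map (gamι (Ideal.span {f}) J) ≫ ψ) := by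
  have hS := gamS_shortExact (Ideal.span {f}) J
  have hT := DerivedCategory.triangleOfSES_distinguished hS
  have hW : FLocal f (Q.obj (cokernel (gamι (Ideal.span {f}) J))) :=
    isIso_smul_toD _ f (smul_bijective_coker f J hinj)
  exact bijective_mor₁_comp_of_right _ hT M (hM _ hW) (hM _ (hW.shift (-1)))

theorem bijective_Q_gamι_comp (l : List A) :
    ∀ (I : Ideal A), Ideal.span {x : A | x ∈ l} = I → ∀ (J : DRing.Cx A),
      (∀ n, Injective (J.X n)) → ∀ (M : Dual.D A), (∀ f ∈ l, ROrth f M) →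
      Function.Bijective (fun ψ : Q.obj J ⟶ M => Q.map (gamι I J) ≫ ψ) := by
  induction l with
  | nil =>
    intro I hI J hinj M _
    haveI : QuasiIso (gamι I J) := quasiIso_gamι I J hinj (fun n x => ⟨1, fun a ha => by
      have h0 : a = 0 := by
        rw [← hI] at ha
        simpa using ha
      rw [h0, zero_smul]⟩)
    exact bijective_iso_comp (Q.map (gamι I J)) M
  | cons f l ih =>
    intro I hI J hinj M hM
    have hI' : I = Ideal.span {x : A | x ∈ l} ⊔ Ideal.span {f} := by
      rw [← hI, ← Ideal.span_union]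
      congr 1
      ext x
      simp
    subst hI'
    have b1 := ih _ rfl J hinj M (fun g hg => hM g (List.mem_cons_of_mem f hg))
    have b2 := bijective_Q_gamι_comp_principal f (gamCx (Ideal.span {x : A | x ∈ l}) J)
      (injective_gamCx_X _ J hinj) M (hM f (List.mem_cons_self))
    have h := gamSupIso_hom_comp (Ideal.span {x : A | x ∈ l}) (Ideal.span {f}) J
    have h2 : (fun ψ : Q.obj J ⟶ M =>
        Q.map (gamι (Ideal.span {x : A | x ∈ l} ⊔ Ideal.span {f}) J) ≫ ψ) =
        (fun χ => Q.map (gamSupIso (Ideal.span {x : A | x ∈ l}) (Ideal.span {f}) J).hom ≫ χ) ∘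
        (fun χ => Q.map (gamι (Ideal.span {f}) (gamCx (Ideal.span {x : A | x ∈ l}) J)) ≫ χ) ∘
        (fun ψ : Q.obj J ⟶ M => Q.map (gamι (Ideal.span {x : A | x ∈ l}) J) ≫ ψ) := by
      funext ψ
      show _ = Q.map (gamSupIso (Ideal.span {x : A | x ∈ l}) (Ideal.span {f}) J).hom ≫
        Q.map (gamι (Ideal.span {f}) (gamCx (Ideal.span {x : A | x ∈ l}) J)) ≫
        Q.map (gamι (Ideal.span {x : A | x ∈ l}) J) ≫ ψ
      rw [← h, Functor.map_comp, Functor.map_comp, Category.assoc, Category.assoc]
    rw [h2]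
    exact (bijective_iso_comp _ M).comp (b2.comp b1)

theorem bijective_ε_comp [DRing.HasRgammaI I] (K M : Dual.D A)
    (hM : DRing.IsDerivedComplete I M) :
    Function.Bijective (fun ψ : K ⟶ M => (DRing.RgammaIε I).app K ≫ ψ) := by
  obtain ⟨l, hl⟩ := exists_list_span I
  have hM' : ∀ f ∈ l, ROrth f M := (isDerivedComplete_iff_list l I hl M).mp hM
  obtain ⟨J, e, hJ, hinj⟩ := exists_kInj_iso K
  haveI := hJ
  have nat := (DRing.RgammaIε I).naturality e.hom
  have h1 : (DRing.RgammaIε I).app K =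
      (DRing.RgammaI I).map e.hom ≫ (DRing.RgammaIε I).app (Q.obj J) ≫ e.inv := by
    rw [← Category.assoc, nat, Category.assoc]
    simp
  have h := unit_comp_ε I
    ((HomotopyCategory.quotient (ModuleCat.{u} A) (ComplexShape.up ℤ)).obj J)
  rw [gammaIτ_app_quo] at h
  haveI i1 : IsIso ((unitα I).app
      ((HomotopyCategory.quotient (ModuleCat.{u} A) (ComplexShape.up ℤ)).obj J)) :=
    Groth.Agent.Helper11.KI.isIso_unit (DRing.gammaIKh I) (DRing.RgammaI I) (unitα I) J
  -- bijectivity for `Q J`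
  have b0 := bijective_Q_gamι_comp l I hl J hinj M hM'
  have b1 : Function.Bijective (fun ψ : Q.obj J ⟶ M =>
      (Qh.map ((gamFac I).hom.app J) ≫ Qh.map
        ((HomotopyCategory.quotient (ModuleCat.{u} A) (ComplexShape.up ℤ)).map (gamι I J))) ≫
        ψ) := by
    have h3 : (fun ψ : Q.obj J ⟶ M =>
        (Qh.map ((gamFac I).hom.app J) ≫ Qh.map
          ((HomotopyCategory.quotient (ModuleCat.{u} A) (ComplexShape.up ℤ)).map (gamι I J))) ≫
          ψ) =
        (fun χ => Qh.map ((gamFac I).hom.app J) ≫ χ) ∘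
        (fun ψ : Q.obj J ⟶ M => Q.map (gamι I J) ≫ ψ) := by
      funext ψ
      exact Category.assoc _ _ _
    rw [h3]
    exact (bijective_iso_comp _ M).comp b0
  have b2 : Function.Bijective (fun ψ : Q.obj J ⟶ M =>
      (DRing.RgammaIε I).app (Q.obj J) ≫ ψ) := by
    have h3 : (fun ψ : Q.obj J ⟶ M =>
        (Qh.map ((gamFac I).hom.app J) ≫ Qh.map
          ((HomotopyCategory.quotient (ModuleCat.{u} A) (ComplexShape.up ℤ)).map (gamι I J))) ≫
          ψ) =
        (fun χ => (unitα I).app
          ((HomotopyCategory.quotient (ModuleCat.{u} A) (ComplexShape.up ℤ)).obj J) ≫ χ) ∘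
        (fun ψ : Q.obj J ⟶ M => (DRing.RgammaIε I).app (Q.obj J) ≫ ψ) := by
      funext ψ
      rw [← h]
      exact Category.assoc _ _ _
    rw [h3] at b1
    exact (Function.Bijective.of_comp_iff'
      (@bijective_iso_comp _ _ _ _ ((unitα I).app
        ((HomotopyCategory.quotient (ModuleCat.{u} A) (ComplexShape.up ℤ)).obj J)) i1 M) _).mp b1
  have h4 : (fun ψ : K ⟶ M => (DRing.RgammaIε I).app K ≫ ψ) =
      (fun χ => (DRing.RgammaI I).map e.hom ≫ χ) ∘
      (fun ψ : Q.obj J ⟶ M => (DRing.RgammaIε I).app (Q.obj J) ≫ ψ) ∘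
      (fun ψ : K ⟶ M => e.inv ≫ ψ) := by
    funext ψ
    show (DRing.RgammaIε I).app K ≫ ψ = (DRing.RgammaI I).map e.hom ≫
      (DRing.RgammaIε I).app (Q.obj J) ≫ e.inv ≫ ψ
    rw [h1, Category.assoc, Category.assoc]
  rw [h4]
  exact (bijective_iso_comp _ M).comp (b2.comp (bijective_iso_comp e.inv M))

/-- Greenlees–May, second half -/
theorem isIso_derivedCompletion_map_ε [DRing.HasRgammaI I] [DRing.HasDerivedCompletion I]
    (K : Dual.D A) :
    IsIso ((DRing.derivedCompletion I).map ((DRing.RgammaIε I).app K)) := by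
  apply isIso_of_coyoneda_map_bijective
  intro T
  let adj := DRing.derivedCompletionAdj I
  have b := bijective_ε_comp I K T.obj T.property
  have hsq : (adj.homEquiv ((DRing.RgammaI I).obj K) T) ∘
      (fun x : (DRing.derivedCompletion I).obj K ⟶ T =>
        (DRing.derivedCompletion I).map ((DRing.RgammaIε I).app K) ≫ x) =
      (fun ψ : K ⟶ T.obj => (DRing.RgammaIε I).app K ≫ ψ) ∘ (adj.homEquiv K T) := by
    funext x
    exact adj.homEquiv_naturality_left ((DRing.RgammaIε I).app K) x
  have h4 : Function.Bijective ((adj.homEquiv ((DRing.RgammaI I).obj K) T) ∘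
      (fun x : (DRing.derivedCompletion I).obj K ⟶ T =>
        (DRing.derivedCompletion I).map ((DRing.RgammaIε I).app K) ≫ x)) := by
    rw [hsq]
    exact b.comp (adj.homEquiv K T).bijective
  exact (Function.Bijective.of_comp_iff' (adj.homEquiv _ T).bijective _).mp h4

/-- **S1814** -/
theorem S1814_statement [DRing.HasRgammaI I] [DRing.HasDerivedCompletion I] (K : Dual.D A) :
    Nonempty ((DRing.RgammaI I).obj ((DRing.derivedCompletion I).obj K).obj ≅
      (DRing.RgammaI I).obj K) ∧
    Nonempty ((DRing.derivedCompletion I).obj ((DRing.RgammaI I).obj K) ≅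
      (DRing.derivedCompletion I).obj K) := by
  haveI := isIso_RgammaI_map_toDerivedCompletion I K
  haveI := isIso_derivedCompletion_map_ε I K
  exact ⟨⟨(asIso ((DRing.RgammaI I).map (DRing.toDerivedCompletion I K))).symm⟩,
    ⟨asIso ((DRing.derivedCompletion I).map ((DRing.RgammaIε I).app K))⟩⟩

end Noeth

end Groth.Agent.Helper11.GM
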