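import Groth.Agent.Lib.Helper11.CechG1
import Groth.Agent.Lib.Helper11.CechTors
import Groth.Agent.Lib.Helper11.GM2

/-!
# `RΓ_I` as the tensor product with the extended Čech complex, part 2 (helper11)

`CechG.cech_formula`: `Q (X ⊗ Č) ≅ RΓ_I (Q X)` over a Noetherian ring, `X` K-projective.
-/

set_option autoImplicit false
set_option linter.unusedSectionVars false
set_option linter.unusedVariables false
set_option linter.style.haveILetI false

open CategoryTheory CategoryTheory.Limits MonoidalCategory CochainComplex HomComplex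
  Pretriangulated DerivedCategory
open scoped TensorProduct

universe u

attribute [local instance] HasDerivedCategory.standard

namespace Groth.Agent.Helper11.CechG

open DerCA Groth.Agent.Helper26.CechAcyc2 Groth.Agent.Helper5.KF Groth.Agent.Helper3.DS
  Groth.Agent.Helper3.HT Groth.Agent.Helper3.KF Groth.Agent.Helper11.RHomLoc
  Groth.Agent.Helper11.DCP Groth.Agent.Helper11.GM Groth.Agent.Helper11.RGam
  Groth.Agent.Helper11.RHomTri Groth.Agent.Helper11.LTenComp Groth.Agent.Helper3.TH
  Groth.Agent.Helper8.BiDual Groth.Agent.Helper11.TA Groth.Agent.Helper11.CechComp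
  Groth.Agent.Helper11.CechTors

variable {A : Type u} [CommRing A]

/-- elements killed by a power of each generator are killed by a power of the ideal -/
theorem exists_pow_smul_eq_zero_of_list (fs : List A) {N : Type*} [AddCommGroup N] [Module A N]
    (x : N) (h : ∀ g ∈ fs, ∃ n : ℕ, g ^ n • x = 0) :
    ∃ n : ℕ, ∀ a ∈ (Ideal.span {a : A | a ∈ fs}) ^ n, a • x = 0 := by
  obtain ⟨n, -, hn⟩ := exists_uniform x fs h
  have hle : Ideal.span {a : A | a ∈ fs} ≤ ((A ∙ x).annihilator).radical := by
    rw [Ideal.span_le]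
    intro a ha
    exact ⟨n, (Submodule.mem_annihilator_span_singleton _ _).mpr (hn a ha)⟩
  have hfg : (Ideal.span {a : A | a ∈ fs}).FG := by
    classical
    refine ⟨fs.toFinset, ?_⟩
    congr 1
    ext a
    simp
  obtain ⟨k, hk⟩ := Ideal.exists_pow_le_of_le_radical_of_fg hle hfg
  exact ⟨k, fun a ha => (Submodule.mem_annihilator_span_singleton _ _).mp (hk ha)⟩

/-- objects left orthogonal to the `g`-local objects, `g ∈ fs`, have `I`-power torsion
cohomology -/
theorem isPowerTorsion_of_lOrth (fs : List A) (I : Ideal A)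
    (hI : Ideal.span {x : A | x ∈ fs} = I) (L : Dual.D A) (hL : ∀ g ∈ fs, LOrth g L) (i : ℤ) :
    LocCoh.IsPowerTorsion I (Dual.HD A L i) := by
  have e : L ≅ Q.obj (Q.objPreimage L) := (Q.objObjPreimageIso L).symm
  generalize Q.objPreimage L = L' at e
  have key : ∀ g ∈ fs, ∀ y : L'.homology i, ∃ k : ℕ, g ^ k • y = 0 := by
    intro g hg y
    apply exists_pow_smul_eq_zero_of_homologyMap_eq_zero
    have hloc : FLocal g (Q.obj ((locCx (Submonoid.powers g)).obj L')) := by
      unfold FLocal
      rw [smul_id_Q]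
      haveI := isIso_smul_id_of_bijOn g ((locCx (Submonoid.powers g)).obj L')
        (fun j => bijOn_loc g (L'.X j))
      infer_instance
    have h0 : Q.map (locCxUnit (Submonoid.powers g) L') = 0 := by
      have h1 : e.hom ≫ Q.map (locCxUnit (Submonoid.powers g) L') = e.hom ≫ 0 :=
        @Subsingleton.elim _ (hL g hg _ hloc) _ _
      exact (cancel_epi e.hom).mp h1
    have h2 : HomologicalComplex.homologyMap (locCxUnit (Submonoid.powers g) L') i = 0 := by
      have nat := (homologyFunctorFactors (ModuleCat.{u} A) i).hom.naturality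
        (locCxUnit (Submonoid.powers g) L')
      have h3 : (Q ⋙ homologyFunctor (ModuleCat.{u} A) i).map
          (locCxUnit (Submonoid.powers g) L') = 0 := by
        show (homologyFunctor (ModuleCat.{u} A) i).map (Q.map _) = 0
        rw [h0, Functor.map_zero]
      rw [h3, zero_comp] at nat
      have h4 : (homologyFunctorFactors (ModuleCat.{u} A) i).hom.app L' ≫
          HomologicalComplex.homologyMap (locCxUnit (Submonoid.powers g) L') i = 0 := nat.symm
      exact (cancel_epi ((homologyFunctorFactors (ModuleCat.{u} A) i).hom.app L')).mp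
        (h4.trans comp_zero.symm)
    rw [h2]
    rfl
  have hL' : LocCoh.IsPowerTorsion I (L'.homology i) := by
    intro y
    rw [← hI]
    exact exists_pow_smul_eq_zero_of_list fs y (fun g hg => key g hg y)
  exact isPowerTorsion_of_iso I
    ((homologyFunctor (ModuleCat.{u} A) i).mapIso e ≪≫
      (homologyFunctorFactors (ModuleCat.{u} A) i).app L') hL'

/-- `Hom•(Č, J)` is acyclic when `J` is K-injective and `g`-local, `g ∈ fs` -/
theorem acyclic_homCx_extCech (fs : List A) (g : A) (hg : g ∈ fs) (J : DRing.Cx A)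
    [J.IsKInjective] (hJ : FLocal g (Q.obj J)) :
    (DRing.homCx (extCech (ModuleCat.of A A) fs) J).Acyclic := by
  apply acyclic_of_isZero_Q_obj
  have h1 : FLocal g (Q.obj (DRing.homCx (extCech (ModuleCat.of A A) fs) J)) :=
    fLocal_Q_homCx _ J g hJ
  have h2 : ROrth g (Q.obj (DRing.homCx (extCech (ModuleCat.of A A) fs) J)) :=
    rOrth_Q_homCx_of_acyclic _ J g (fun S hS hq => acyclic_tensor_extCech fs g hg S hS hq)
  rw [IsZero.iff_id_eq_zero]
  exact @Subsingleton.elim _ (h2 _ h1) _ _

/-- `Q (X ⊗ Č)` is left orthogonal to the `g`-local objects, `g ∈ fs` -/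
theorem lOrth_Q_tensor_extCech (fs : List A) (g : A) (hg : g ∈ fs) (X : DRing.Cx A)
    [X.IsKProjective] : LOrth g (Q.obj (X ⊗ extCech (ModuleCat.of A A) fs)) := by
  intro Y hY
  obtain ⟨J, e, hJ, _⟩ := exists_kInj_iso Y
  haveI := hJ
  have hJloc : FLocal g (Q.obj J) := hY.of_iso e
  have hW := acyclic_homCx_extCech fs g hg J hJloc
  have key : ∀ φ : Q.obj (X ⊗ extCech (ModuleCat.of A A) fs) ⟶ Q.obj J, φ = 0 := by
    intro φ
    obtain ⟨ψ, rfl⟩ := exists_lift_of_isKInjective (X ⊗ extCech (ModuleCat.of A A) fs) J φ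
    have hc : δ 0 1 (Cochain.ofHom (curH ψ)) = 0 := δ_ofHom _
    obtain ⟨b, hb⟩ := exists_δ_eq X _ hW (-1) 0 1 (by omega) (by omega) _ hc
    have H' : Homotopy (curH ψ) 0 :=
      (Cochain.equivHomotopy _ _).symm ⟨b, by rw [Cochain.ofHom_zero, add_zero, hb]⟩
    have H : Homotopy ψ 0 := (Homotopy.ofEq (uncH_curH ψ).symm).trans
      ((uncHomotopy H').trans (Homotopy.ofEq (uncH_zero X _ J)))
    rw [DerivedCategory.Q_map_eq_of_homotopy _ H, Functor.map_zero]
  refine ⟨fun a b => ?_⟩
  have ha := key (a ≫ e.hom)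
  have hb := key (b ≫ e.hom)
  rw [← cancel_mono e.hom, ha, hb]

section Noeth

variable [IsNoetherianRing A]

/-- **the Čech formula for `RΓ_I`** -/
theorem cech_formula (fs : List A) (I : Ideal A) (hI : Ideal.span {x : A | x ∈ fs} = I)
    [DRing.HasRgammaI I] (X : DRing.Cx A) [X.IsKProjective] :
    Nonempty (Q.obj (X ⊗ extCech (ModuleCat.of A A) fs) ≅ (DRing.RgammaI I).obj (Q.obj X)) := by
  obtain ⟨εT, hεT⟩ := exists_counit_extCech fs X
  have hT : ∀ g ∈ fs, LOrth g (Q.obj (X ⊗ extCech (ModuleCat.of A A) fs)) :=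
    fun g hg => lOrth_Q_tensor_extCech fs g hg X
  have hTt := isPowerTorsion_of_lOrth fs I hI _ hT
  have hRt := isPowerTorsion_HD_RgammaI I (Q.obj X)
  obtain ⟨g, hg⟩ := (bijective_comp_ε I _ (Q.obj X) hTt).2 εT
  have hg' : g ≫ (DRing.RgammaIε I).app (Q.obj X) = εT := hg
  haveI : IsIso g := by
    refine isIso_of_bijective_comp
      (fun L : Dual.D A => ∀ i : ℤ, LocCoh.IsPowerTorsion I (Dual.HD A L i)) g hTt hRt ?_
    intro L hL
    have b1 := hεT L (fun f hf => lOrth_of_isPowerTorsion I f (hI ▸ Ideal.subset_span hf) L hL)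
    have b2 := bijective_comp_ε I L (Q.obj X) hL
    have hsq : (fun φ : L ⟶ (DRing.RgammaI I).obj (Q.obj X) =>
          φ ≫ (DRing.RgammaIε I).app (Q.obj X)) ∘
        (fun φ : L ⟶ Q.obj (X ⊗ extCech (ModuleCat.of A A) fs) => φ ≫ g) =
        (fun φ : L ⟶ Q.obj (X ⊗ extCech (ModuleCat.of A A) fs) => φ ≫ εT) := by
      funext φ
      show (φ ≫ g) ≫ (DRing.RgammaIε I).app (Q.obj X) = φ ≫ εT
      rw [Category.assoc, hg']
    have h4 : Function.Bijective ((fun φ : L ⟶ (DRing.RgammaI I).obj (Q.obj X) =>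
          φ ≫ (DRing.RgammaIε I).app (Q.obj X)) ∘
        (fun φ : L ⟶ Q.obj (X ⊗ extCech (ModuleCat.of A A) fs) => φ ≫ g)) := by
      rw [hsq]
      exact b1
    exact (Function.Bijective.of_comp_iff' b2 _).mp h4
  exact ⟨asIso g⟩

end Noeth

end Groth.Agent.Helper11.CechG
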