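import Groth.Agent.Lib.Helper11.LDCx1
import Groth.Agent.Lib.Helper11.CechG2
import Groth.Agent.Lib.Helper11.ProjResTower
import Groth.Agent.Lib.Helper11.LTen2
import Groth.Agent.Lib.Helper11.KI1

/-!
# Cohomological amplitude of `RΓ_I` (helper11)

Over a Noetherian ring, `RΓ_I` of an object of `D^{≤ b}` lies in `D^{≤ b + r}` when `I` is generated
by `r` elements; hence `𝓗_I(V) = colim Hom(A/I^n, V)` vanishes for `V ∈ D^{≤ e}`, `e + r < 0`.
-/

set_option autoImplicit false
set_option linter.unusedSectionVars false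
set_option linter.unusedVariables false
set_option linter.style.haveILetI false

open CategoryTheory CategoryTheory.Limits MonoidalCategory Pretriangulated DerivedCategory

universe u

attribute [local instance] HasDerivedCategory.standard

namespace Groth.Agent.Helper11.LDCx

open DerCA Groth.Agent.Helper11.PRT Groth.Agent.Helper11.TA Groth.Agent.Helper11.DC
  Groth.Agent.Helper8.LD

section Res

variable {R : Type u} [CommRing R]

/-- bounded above objects have free resolutions with the same bound -/
theorem exists_free_res_le (K : Dual.D R) (b : ℤ) (hK : K.IsLE b) :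
    ∃ P : DRing.Cx R, (∀ i : ℤ, b < i → IsZero (P.X i)) ∧ (∀ i : ℤ, Module.Free R (P.X i)) ∧
      Nonempty (Q.obj P ≅ K) := by
  let K' := Q.objPreimage K
  let e : Q.obj K' ≅ K := Q.objObjPreimageIso K
  have hle : (Q.obj K').IsLE b := TStructure.t.isLE_of_iso e.symm b
  let s0 := gstage0 K' b hle
  have hT := triangleOfSES_distinguished (gwSC_shortExact s0)
  haveI : IsIso (triangleOfSESδ (gwSC_shortExact s0)) :=
    (Triangle.isZero₂_iff_isIso₃ _ hT).mp (gcolimit_Q_isZero s0)
  refine ⟨(gwSC s0).X₃⟦(-1 : ℤ)⟧, ?_, ?_, ⟨?_⟩⟩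
  · intro i hi
    exact (gwSC_X₃_term s0 (i + -1)).2 (by omega)
  · intro i
    exact (gwSC_X₃_term s0 (i + -1)).1
  · exact shiftRepIso (gwSC s0).X₃ (Q.obj (gwSC s0).X₃) (Iso.refl _) (-1) ≪≫
      (shiftFunctor (Dual.D R) (-1 : ℤ)).mapIso (asIso (triangleOfSESδ (gwSC_shortExact s0))) ≪≫
      shiftShiftNeg _ (1 : ℤ) ≪≫ e

theorem isZero_extCech_X (M : ModuleCat.{u} R) :
    ∀ (fs : List R) (q : ℤ), (q < 0 ∨ (fs.length : ℤ) < q) → IsZero ((extCech M fs).X q) := by
  intro fs
  induction fs with
  | nil =>
    intro q hq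
    have hq0 : q ≠ 0 := by
      rcases hq with h | h
      · omega
      · simp at h; omega
    exact HomologicalComplex.isZero_single_obj_X (ComplexShape.up ℤ) 0 M q hq0
  | cons f fs ih =>
    intro q hq
    have h1 : IsZero ((extCech M fs).X q) := by
      apply ih
      rcases hq with h | h
      · left; exact h
      · right; simp at h; omega
    have h2 : IsZero ((extCech M fs).X (q - 1)) := by
      apply ih
      rcases hq with h | h
      · left; omega
      · right; simp at h; omega
    have h3 : IsZero (((locCx (Submonoid.powers f)).obj (extCech M fs)).X (q - 1)) :=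
      Functor.map_isZero (locFunctor (Submonoid.powers f)) h2
    refine IsZero.of_iso ?_ (mappingCoconeXIso (locCxUnit (Submonoid.powers f) (extCech M fs)) q)
    rw [IsZero.iff_id_eq_zero]
    apply biprod.hom_ext
    · exact h1.eq_of_tgt _ _
    · exact h3.eq_of_tgt _ _

end Res

section Amp

variable {A : Type u} [CommRing A] [IsNoetherianRing A]

/-- `RΓ_I` has cohomological dimension at most the number of generators of `I` -/
theorem isLE_RgammaI (fs : List A) (I : Ideal A) (hI : Ideal.span {x : A | x ∈ fs} = I)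
    [DRing.HasRgammaI I] (K : Dual.D A) (b : ℤ) (hK : K.IsLE b) :
    ((DRing.RgammaI I).obj K).IsLE (b + fs.length) := by
  obtain ⟨P, hP, hfree, ⟨e⟩⟩ := exists_free_res_le K b hK
  haveI : P.IsKProjective := isKProjective_of_vanishesAbove P b hP (fun i => by
    haveI := hfree i
    infer_instance)
  obtain ⟨φ⟩ := Groth.Agent.Helper11.CechG.cech_formula fs I hI P
  have hz : ∀ n : ℤ, b + fs.length < n →
      IsZero ((P ⊗ extCech (ModuleCat.of A A) fs).X n) := fun n hn =>
    Groth.Agent.Helper11.LTen.isZero_tensor_X_of_bddAbove P _ b fs.length hP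
      (fun i hi => isZero_extCech_X _ fs i (Or.inr hi)) n hn
  haveI : (P ⊗ extCech (ModuleCat.of A A) fs).IsStrictlyLE (b + fs.length) := by
    rw [CochainComplex.isStrictlyLE_iff]
    exact hz
  have h4 : (Q.obj (P ⊗ extCech (ModuleCat.of A A) fs)).IsLE (b + fs.length) := inferInstance
  exact TStructure.t.isLE_of_iso (φ ≪≫ (DRing.RgammaI I).mapIso e) _

/-- `𝓗_I` vanishes on sufficiently negative objects -/
theorem subsingleton_HH_of_isLE (fs : List A) (I : Ideal A)
    (hI : Ideal.span {x : A | x ∈ fs} = I) (V : Dual.D A) (e : ℤ) (hV : V.IsLE e)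
    (he : e + fs.length < 0) : Subsingleton (HH I V) := by
  haveI : DRing.HasRgammaI I := Groth.Agent.Helper11.KI.hasRightDerivedFunctor (DRing.gammaIKh I)
  have h1 := isLE_RgammaI fs I hI V e hV
  have h2 : IsZero ((homologyFunctor (ModuleCat.{u} A) 0).obj ((DRing.RgammaI I).obj V)) :=
    ((DRing.RgammaI I).obj V).isZero_of_isLE (e + fs.length) 0 he
  haveI : Subsingleton (Dual.HD A ((DRing.RgammaI I).obj V) 0) :=
    ModuleCat.subsingleton_of_isZero h2
  obtain ⟨e1⟩ := Groth.Agent.Helper11.HDIeq.nonempty_equiv I V 0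
  haveI : Subsingleton (HH I (V⟦(0 : ℤ)⟧)) := e1.symm.toEquiv.subsingleton
  exact (LinearEquiv.ofBijective _
    (HHmap_bijective_of_isIso I ((shiftFunctorZero (Dual.D A) ℤ).hom.app V))).symm.toEquiv.subsingleton

end Amp

end Groth.Agent.Helper11.LDCx
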