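import Groth.Agent.Lib.Helper11.CechN1
import Groth.Agent.Lib.Helper11.LDCx2
import Groth.Agent.Lib.Helper5.LTen2

/-!
# The Čech formula for `RΓ_I` for arbitrary complexes, with naturality (helper11)
-/

set_option autoImplicit false
set_option linter.unusedSectionVars false
set_option linter.unusedVariables false
set_option linter.style.haveILetI false

open CategoryTheory CategoryTheory.Limits MonoidalCategory CochainComplex HomComplex
  Pretriangulated DerivedCategory
open scoped TensorProduct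

universe u

attribute [local instance] HasDerivedCategory.standard

namespace Groth.Agent.Helper11.CechN

open DerCA Groth.Agent.Helper26.CechAcyc2 Groth.Agent.Helper5.KF Groth.Agent.Helper3.DS
  Groth.Agent.Helper3.HT Groth.Agent.Helper3.KF Groth.Agent.Helper11.RHomLoc
  Groth.Agent.Helper11.DCP Groth.Agent.Helper11.GM Groth.Agent.Helper11.RGam
  Groth.Agent.Helper11.RHomTri Groth.Agent.Helper11.LTenComp Groth.Agent.Helper3.TH
  Groth.Agent.Helper8.BiDual Groth.Agent.Helper11.TA Groth.Agent.Helper11.CechComp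
  Groth.Agent.Helper11.CechG

variable {A : Type u} [CommRing A]

/-- the terms of the extended Čech complex of `A` are flat -/
theorem flat_extCech_X : ∀ (fs : List A) (q : ℤ),
    Module.Flat A ((extCech (ModuleCat.of A A) fs).X q)
  | [], q => by
    change Module.Flat A (((HomologicalComplex.single (ModuleCat.{u} A) (ComplexShape.up ℤ) 0).obj
      (ModuleCat.of A A)).X q)
    by_cases hq : q = 0
    · subst hq
      exact Module.Flat.of_linearEquiv
        (HomologicalComplex.singleObjXSelf (ComplexShape.up ℤ) 0 (ModuleCat.of A A)).toLinearEquiv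
    · haveI := ModuleCat.subsingleton_of_isZero (HomologicalComplex.isZero_single_obj_X
        (ComplexShape.up ℤ) 0 (ModuleCat.of A A) q hq)
      infer_instance
  | f :: fs, q => by
    have ih := flat_extCech_X fs
    change Module.Flat A ((CochainComplex.mappingCocone (locCxUnit (Submonoid.powers f)
      (extCech (ModuleCat.of A A) fs))).X q)
    haveI h1 : Module.Flat A ((extCech (ModuleCat.of A A) fs).X q) := ih q
    haveI h2 : Module.Flat A (((locCx (Submonoid.powers f)).obj
        (extCech (ModuleCat.of A A) fs)).X (q - 1)) := by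
      haveI := ih (q - 1)
      change Module.Flat A (LocalizedModule (Submonoid.powers f)
        ((extCech (ModuleCat.of A A) fs).X (q - 1)))
      haveI : Module.Flat A (Localization (Submonoid.powers f)) :=
        IsLocalization.flat _ (Submonoid.powers f)
      exact Module.Flat.trans A (Localization (Submonoid.powers f)) _
    haveI := flat_prod (R := A) ((extCech (ModuleCat.of A A) fs).X q)
      (((locCx (Submonoid.powers f)).obj (extCech (ModuleCat.of A A) fs)).X (q - 1))
    exact Module.Flat.of_linearEquiv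
      ((mappingCoconeXIso (locCxUnit (Submonoid.powers f) (extCech (ModuleCat.of A A) fs)) q ≪≫
        ModuleCat.biprodIsoProd _ _).toLinearEquiv)

/-- the extended Čech complex of `A` is K-flat -/
theorem kfl_extCech (fs : List A) : KFl (extCech (ModuleCat.of A A) fs) :=
  KFl.of_flat_bddAbove _ (fs.length : ℤ)
    (fun i hi => Groth.Agent.Helper11.LDCx.isZero_extCech_X _ fs i (Or.inr hi))
    (flat_extCech_X fs)

theorem lOrth_of_iso {g : A} {L L' : Dual.D A} (e : L ≅ L') (h : LOrth g L') : LOrth g L := by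
  intro Y hY
  haveI := h Y hY
  exact ⟨fun a b => by
    have : e.inv ≫ a = e.inv ≫ b := Subsingleton.elim _ _
    exact (cancel_epi e.inv).mp this⟩

section Noeth

variable [IsNoetherianRing A]

/-- **the Čech formula for `RΓ_I`**, for an arbitrary complex, compatibly with the counits -/
theorem exists_cech_iso (fs : List A) (I : Ideal A) (hI : Ideal.span {x : A | x ∈ fs} = I)
    [DRing.HasRgammaI I] (α : extCech (ModuleCat.of A A) fs ⟶ 𝟙_ (DRing.Cx A))
    (hα : ∀ (X : DRing.Cx A) (L : Dual.D A), (∀ g ∈ fs, LOrth g L) → Function.Bijective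
      (fun φ : L ⟶ Q.obj (X ⊗ extCech (ModuleCat.of A A) fs) => φ ≫ Q.map (X ◁ α ≫ (ρ_ X).hom)))
    (X : DRing.Cx A) :
    ∃ e : Q.obj (X ⊗ extCech (ModuleCat.of A A) fs) ≅ (DRing.RgammaI I).obj (Q.obj X),
      e.hom ≫ (DRing.RgammaIε I).app (Q.obj X) = Q.map (X ◁ α ≫ (ρ_ X).hom) := by
  obtain ⟨P, π, hP, _, _, hπ⟩ :=
    Groth.Agent.Helper11.KPF.exists_kprojective_kflat_resolution X
  haveI := hP
  haveI hq : QuasiIso (π ▷ extCech (ModuleCat.of A A) fs) :=
    KFl.quasiIso_whiskerRight (kfl_extCech fs) π hπ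
  haveI : IsIso (Q.map (π ▷ extCech (ModuleCat.of A A) fs)) := by
    rw [DerivedCategory.isIso_Q_map_iff_quasiIso]
    exact hq
  have hT : ∀ g ∈ fs, LOrth g (Q.obj (X ⊗ extCech (ModuleCat.of A A) fs)) := fun g hg =>
    lOrth_of_iso (asIso (Q.map (π ▷ extCech (ModuleCat.of A A) fs))).symm
      (lOrth_Q_tensor_extCech fs g hg P)
  have hTt := isPowerTorsion_of_lOrth fs I hI _ hT
  have hRt := isPowerTorsion_HD_RgammaI I (Q.obj X)
  obtain ⟨g, hg⟩ := (bijective_comp_ε I _ (Q.obj X) hTt).2 (Q.map (X ◁ α ≫ (ρ_ X).hom))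
  have hg' : g ≫ (DRing.RgammaIε I).app (Q.obj X) = Q.map (X ◁ α ≫ (ρ_ X).hom) := hg
  haveI : IsIso g := by
    refine isIso_of_bijective_comp
      (fun L : Dual.D A => ∀ i : ℤ, LocCoh.IsPowerTorsion I (Dual.HD A L i)) g hTt hRt ?_
    intro L hL
    have b1 := hα X L (fun f hf => lOrth_of_isPowerTorsion I f (hI ▸ Ideal.subset_span hf) L hL)
    have b2 := bijective_comp_ε I L (Q.obj X) hL
    have hsq : (fun φ : L ⟶ (DRing.RgammaI I).obj (Q.obj X) =>
          φ ≫ (DRing.RgammaIε I).app (Q.obj X)) ∘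
        (fun φ : L ⟶ Q.obj (X ⊗ extCech (ModuleCat.of A A) fs) => φ ≫ g) =
        (fun φ : L ⟶ Q.obj (X ⊗ extCech (ModuleCat.of A A) fs) =>
          φ ≫ Q.map (X ◁ α ≫ (ρ_ X).hom)) := by
      funext φ
      show (φ ≫ g) ≫ (DRing.RgammaIε I).app (Q.obj X) = φ ≫ Q.map (X ◁ α ≫ (ρ_ X).hom)
      rw [Category.assoc, hg']
    have h4 : Function.Bijective ((fun φ : L ⟶ (DRing.RgammaI I).obj (Q.obj X) =>
          φ ≫ (DRing.RgammaIε I).app (Q.obj X)) ∘
        (fun φ : L ⟶ Q.obj (X ⊗ extCech (ModuleCat.of A A) fs) => φ ≫ g)) := by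
      rw [hsq]
      exact b1
    exact (Function.Bijective.of_comp_iff' b2 _).mp h4
  exact ⟨asIso g, hg'⟩

/-- naturality of the Čech isomorphisms -/
theorem cech_iso_naturality (fs : List A) (I : Ideal A) (hI : Ideal.span {x : A | x ∈ fs} = I)
    [DRing.HasRgammaI I] (α : extCech (ModuleCat.of A A) fs ⟶ 𝟙_ (DRing.Cx A))
    {X Y : DRing.Cx A} (u : X ⟶ Y)
    (eX : Q.obj (X ⊗ extCech (ModuleCat.of A A) fs) ≅ (DRing.RgammaI I).obj (Q.obj X))
    (heX : eX.hom ≫ (DRing.RgammaIε I).app (Q.obj X) = Q.map (X ◁ α ≫ (ρ_ X).hom))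
    (eY : Q.obj (Y ⊗ extCech (ModuleCat.of A A) fs) ≅ (DRing.RgammaI I).obj (Q.obj Y))
    (heY : eY.hom ≫ (DRing.RgammaIε I).app (Q.obj Y) = Q.map (Y ◁ α ≫ (ρ_ Y).hom)) :
    Q.map (u ▷ extCech (ModuleCat.of A A) fs) ≫ eY.hom =
      eX.hom ≫ (DRing.RgammaI I).map (Q.map u) := by
  have hTt : ∀ i : ℤ, LocCoh.IsPowerTorsion I
      (Dual.HD A (Q.obj (X ⊗ extCech (ModuleCat.of A A) fs)) i) := fun i =>
    isPowerTorsion_of_iso I ((homologyFunctor (ModuleCat.{u} A) i).mapIso eX)
      (isPowerTorsion_HD_RgammaI I (Q.obj X) i)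
  apply (bijective_comp_ε I _ (Q.obj Y) hTt).1
  show (Q.map (u ▷ extCech (ModuleCat.of A A) fs) ≫ eY.hom) ≫ (DRing.RgammaIε I).app (Q.obj Y) =
    (eX.hom ≫ (DRing.RgammaI I).map (Q.map u)) ≫ (DRing.RgammaIε I).app (Q.obj Y)
  have hnat := (DRing.RgammaIε I).naturality (Q.map u)
  simp only [Functor.id_map] at hnat
  rw [Category.assoc, heY, Category.assoc, hnat, ← Category.assoc, heX, ← Functor.map_comp,
    ← Functor.map_comp]
  congr 1
  rw [← Category.assoc, ← whisker_exchange, Category.assoc, Category.assoc,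
    MonoidalCategory.rightUnitor_naturality]

end Noeth

end Groth.Agent.Helper11.CechN
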