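import Groth.Agent.Lib.Helper11.AdicTw5
import Groth.Agent.Lib.Helper11.CechN2

/-!
# The derived completion of `RΓ_J(M)` as a derived limit of `RΓ_J(M / I ^ n M)` (helper11)
-/

set_option autoImplicit false
set_option linter.unusedSectionVars false
set_option linter.unusedVariables false
set_option linter.style.haveILetI false

open CategoryTheory CategoryTheory.Limits MonoidalCategory CochainComplex HomComplex
  Pretriangulated DerivedCategory
open scoped TensorProduct

universe u

attribute [local instance] HasDerivedCategory.standard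

namespace Groth.Agent.Helper11.AdicTw

open DerCA Groth.Agent.Helper26.CechAcyc2 Groth.Agent.Helper5.KF Groth.Agent.Helper3.DS
  Groth.Agent.Helper3.HT Groth.Agent.Helper3.KF Groth.Agent.Helper11.RHomLoc
  Groth.Agent.Helper11.DCP Groth.Agent.Helper11.GM Groth.Agent.Helper11.RGam
  Groth.Agent.Helper11.RHomTri Groth.Agent.Helper11.LTenComp Groth.Agent.Helper3.TH
  Groth.Agent.Helper8.BiDual Groth.Agent.Helper11.TA Groth.Agent.Helper11.CechComp
  Groth.Agent.Helper11.CechG Groth.Agent.Helper11.CechN Groth.Agent.Helper11.SgTens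
  Groth.Agent.Helper11.RlimTw

variable {A : Type u} [CommRing A] [IsNoetherianRing A]

/-- the Čech formula `Q (N ⊗ Č) ≅ RΓ_J(N[0])` for modules, naturally in the module -/
theorem exists_cech_iso_module (fs : List A) (J : Ideal A)
    (hJ : Ideal.span {x : A | x ∈ fs} = J) [DRing.HasRgammaI J] :
    ∃ E : ∀ N : ModuleCat.{u} A, Q.obj (tens N (extCech (ModuleCat.of A A) fs)) ≅
        (DRing.RgammaI J).obj ((DerivedCategory.singleFunctor (ModuleCat.{u} A) 0).obj N),
      ∀ {N N' : ModuleCat.{u} A} (f : N ⟶ N'),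
        Q.map (tensMap f (extCech (ModuleCat.of A A) fs)) ≫ (E N').hom =
          (E N).hom ≫ (DRing.RgammaI J).map ((DerivedCategory.singleFunctor (ModuleCat.{u} A) 0).map f) := by
  obtain ⟨α, hα⟩ := exists_counit fs
  choose e he using fun N : ModuleCat.{u} A => exists_cech_iso fs J hJ α hα (SgTens.sg N)
  refine ⟨fun N => asIso (Q.map (sgTensorHom N (extCech (ModuleCat.of A A) fs))) ≪≫ e N, ?_⟩
  intro N N' f
  have h1 := cech_iso_naturality fs J hJ α
    ((HomologicalComplex.single (ModuleCat.{u} A) (ComplexShape.up ℤ) 0).map f)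
    (e N) (he N) (e N') (he N')
  have h2 := tensMap_sgTensorHom f (extCech (ModuleCat.of A A) fs)
  change Q.map _ ≫ Q.map _ ≫ (e N').hom = (Q.map _ ≫ (e N).hom) ≫ _
  rw [← Category.assoc, ← Q.map_comp, h2, Q.map_comp, Category.assoc, h1]
  exact (Category.assoc _ _ _).symm

theorem isZero_homology_of_isZero_X (K : DRing.Cx A) (i : ℤ) (h : IsZero (K.X i)) :
    IsZero (K.homology i) :=
  ShortComplex.isZero_homology_of_isZero_X₂ _ h

/-- **statement S1815** -/
theorem S1815_statement (I J : Ideal A) [DRing.HasRgammaI J]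
    [DRing.HasDerivedCompletion I] [∀ K : ℕ → Dual.D A, HasProduct K] (M : Type u)
    [AddCommGroup M] [Module A M] [Module.Finite A M] :
    DCoh.IsRlim
      (fun n : ℕ => (DRing.RgammaI J).obj (Dual.inD A (M ⧸ (I ^ n • ⊤ : Submodule A M))))
      (fun n : ℕ => (DRing.RgammaI J).map ((DerivedCategory.singleFunctor (ModuleCat.{u} A) 0).map
        (ModuleCat.ofHom (Submodule.mapQ (I ^ (n + 1) • ⊤ : Submodule A M)
          (I ^ n • ⊤ : Submodule A M) LinearMap.id
          (Submodule.smul_mono (Ideal.pow_le_pow_right (Nat.le_succ n)) le_rfl)))))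
      ((DRing.derivedCompletion I).obj ((DRing.RgammaI J).obj (Dual.inD A M))).obj ∧
    ∀ i : ℤ, i < 0 → Subsingleton (Dual.HD A
      ((DRing.derivedCompletion I).obj ((DRing.RgammaI J).obj (Dual.inD A M))).obj i) := by
  obtain ⟨gs, hgs⟩ := Groth.Agent.Helper11.GM.exists_list_span (I := J)
  obtain ⟨E, hE⟩ := exists_cech_iso_module gs J hgs
  let Č := extCech (ModuleCat.of A A) gs
  let G := tens (ModuleCat.of A M) Č
  have hfl : ∀ q, Module.Flat A (Č.X q) := flat_extCech_X gs
  have hČ : DRing.VanishesOutside Č 0 (gs.length : ℤ) := fun i hi =>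
    Groth.Agent.Helper11.LDCx.isZero_extCech_X _ gs i hi
  -- the limit object
  obtain ⟨ec, -⟩ := exists_iso_completion_tens I M Č 0 (gs.length : ℤ) hČ hfl
  let eL : ((DRing.derivedCompletion I).obj ((DRing.RgammaI J).obj (Dual.inD A M))).obj ≅
      Q.obj (complCx I G) :=
    (ObjectProperty.ι _).mapIso ((DRing.derivedCompletion I).mapIso (E (ModuleCat.of A M)).symm) ≪≫
      ec
  constructor
  · -- the tower
    have h1 := isRlim_complCx I G
    let Φ : ∀ n : ℕ, Q.obj (quotCx I G n) ≅
        (DRing.RgammaI J).obj (Dual.inD A (M ⧸ (I ^ n • ⊤ : Submodule A M))) := fun n =>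
      asIso (Q.map (bridgeCx I M Č n)) ≪≫ E (Mq I M n)
    have hΦ : ∀ n : ℕ, Q.map (trCx I G n) ≫ (Φ n).hom = (Φ (n + 1)).hom ≫
        (DRing.RgammaI J).map ((DerivedCategory.singleFunctor (ModuleCat.{u} A) 0).map
          (mqMap I M n)) := by
      intro n
      change Q.map _ ≫ Q.map _ ≫ (E (Mq I M n)).hom =
        (Q.map _ ≫ (E (Mq I M (n + 1))).hom) ≫ _
      rw [← Category.assoc, ← Q.map_comp, ← bridgeCx_transition, Q.map_comp, Category.assoc,
        hE (mqMap I M n)]
      exact (Category.assoc _ _ _).symm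
    exact isRlim_of_iso_obj eL.symm (isRlim_of_iso_tower Φ hΦ h1)
  · intro i hi
    have hz : IsZero ((complCx I G).X i) := by
      have h1 : IsZero (Č.X i) := hČ i (Or.inl hi)
      have h2 : IsZero (G.X i) :=
        Functor.map_isZero ((curriedTensor (ModuleCat.{u} A)).obj (ModuleCat.of A M)) h1
      exact Functor.map_isZero (complF I) h2
    have h3 : IsZero ((homologyFunctor (ModuleCat.{u} A) i).obj (Q.obj (complCx I G))) :=
      (isZero_homology_of_isZero_X _ i hz).of_iso
        ((homologyFunctorFactors (ModuleCat.{u} A) i).app (complCx I G))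
    have h4 : IsZero ((homologyFunctor (ModuleCat.{u} A) i).obj
        ((DRing.derivedCompletion I).obj ((DRing.RgammaI J).obj (Dual.inD A M))).obj) :=
      h3.of_iso ((homologyFunctor (ModuleCat.{u} A) i).mapIso eL)
    exact ModuleCat.subsingleton_of_isZero h4

end Groth.Agent.Helper11.AdicTw
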