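import Groth.Prelude.Def_DRing3
import Mathlib.RingTheory.Filtration
import Mathlib.RingTheory.Finiteness.Ideal

/-!
# Elements whose reductions modulo `I ^ n` are all `J`-power torsion (helper11)
-/

set_option autoImplicit false
set_option linter.unusedSectionVars false
set_option linter.unusedVariables false

universe u

namespace Groth.Agent.Helper11.AdicTw

variable {A : Type u} [CommRing A] [IsNoetherianRing A] (I J : Ideal A)
  (M : Type u) [AddCommGroup M] [Module A M] [Module.Finite A M]

/-- an element of a finite module over a Noetherian ring has all its reductions modulo `I ^ n`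
`J`-power torsion iff it is `J'`-power torsion for some `J' ≤ J` with `J ≤ √(J' + I)` -/
theorem forall_mk_mem_torsionSub_iff (s : M) :
    (∀ n : ℕ, (Submodule.Quotient.mk s : M ⧸ (I ^ n • ⊤ : Submodule A M)) ∈
      DRing.torsionSub J (M ⧸ (I ^ n • ⊤ : Submodule A M))) ↔
    ∃ J' : Ideal A, J' ≤ J ∧ J ≤ (J' ⊔ I).radical ∧ s ∈ DRing.torsionSub J' M := by
  constructor
  · intro h
    obtain ⟨c, hc⟩ := Ideal.exists_pow_inf_eq_pow_smul I (Submodule.span A {s})
    obtain ⟨k, hk⟩ := h (c + 1)
    have key : ∀ a ∈ J ^ k, ∃ i ∈ I, i • s = a • s := by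
      intro a ha
      have h1 : a • s ∈ (I ^ (c + 1) • ⊤ : Submodule A M) := by
        have := hk a ha
        rw [← Submodule.Quotient.mk_smul, Submodule.Quotient.mk_eq_zero] at this
        exact this
      have h2 : a • s ∈ Submodule.span A {s} :=
        Submodule.smul_mem _ _ (Submodule.mem_span_singleton_self s)
      have h3 : a • s ∈ (I ^ (c + 1) • ⊤ ⊓ Submodule.span A {s} : Submodule A M) := ⟨h1, h2⟩
      rw [hc (c + 1) (Nat.le_succ c), Nat.add_sub_cancel_left, pow_one] at h3
      have h4 : a • s ∈ I • Submodule.span A {s} :=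
        Submodule.smul_mono le_rfl inf_le_right h3
      exact Submodule.mem_smul_span_singleton.mp h4
    let Ann : Ideal A := LinearMap.ker (LinearMap.toSpanSingleton A M s)
    have hAnn : ∀ r : A, r ∈ Ann ↔ r • s = 0 := fun r => by
      change LinearMap.toSpanSingleton A M s r = 0 ↔ _
      rw [LinearMap.toSpanSingleton_apply]
    refine ⟨J ⊓ Ann, inf_le_left, ?_, ?_⟩
    · intro b hb
      refine ⟨k + 1, ?_⟩
      obtain ⟨i, hi, his⟩ := key (b ^ k) (Ideal.pow_mem_pow hb k)
      have h5 : b ^ k - i ∈ Ann := by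
        rw [hAnn, sub_smul, his, sub_self]
      have h6 : b ^ (k + 1) = b * (b ^ k - i) + b * i := by ring
      rw [h6]
      refine Submodule.add_mem_sup ?_ (Ideal.mul_mem_left I b hi)
      exact ⟨Ideal.mul_mem_right _ J hb, Ideal.mul_mem_left Ann b h5⟩
    · refine ⟨1, fun a ha => ?_⟩
      rw [pow_one] at ha
      exact (hAnn a).mp ha.2
  · rintro ⟨J', hJ'J, hrad, k, hk⟩ n
    obtain ⟨N, hN⟩ := Ideal.exists_pow_le_of_le_radical_of_fg hrad (IsNoetherian.noetherian J)
    refine ⟨N * (k + n), fun a ha => ?_⟩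
    have h1 : a ∈ J' ^ k ⊔ I ^ n := by
      apply Ideal.sup_pow_add_le_pow_sup_pow
      rw [pow_mul] at ha
      exact Ideal.pow_right_mono hN (k + n) ha
    obtain ⟨b, hb, c, hc, rfl⟩ := Submodule.mem_sup.mp h1
    rw [← Submodule.Quotient.mk_smul, Submodule.Quotient.mk_eq_zero, add_smul, hk b hb, zero_add]
    exact Submodule.smul_mem_smul hc Submodule.mem_top

end Groth.Agent.Helper11.AdicTw
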