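import Groth.Agent.Lib.Helper11.DCBridge3
import Mathlib.Algebra.Homology.DerivedCategory.SingleTriangle
import Mathlib.Algebra.Homology.DerivedCategory.Ext.EnoughProjectives
import Mathlib.Algebra.Homology.DerivedCategory.TStructure
import Mathlib.Algebra.Homology.DerivedCategory.FullyFaithful
import Mathlib.Algebra.Homology.DerivedCategory.HomologySequence

/-!
For a projective object `P` of an abelian category, morphisms `P[0] ⟶ K` in the derived category
are the same as morphisms `H⁰(P[0]) ⟶ H⁰(K)`.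
-/

open CategoryTheory Category Limits Pretriangulated DerivedCategory

universe w v u

namespace Groth.Agent.Helper11.DC

variable {C : Type u} [Category.{v} C] [Abelian C] [HasDerivedCategory.{w} C]

/-- Maps from `P[0]` to an object in `D^{≥ 1}` vanish. -/
theorem single_to_isGE_eq_zero (P : C) (Y : DerivedCategory C) (n : ℤ) (hn : 0 < n) [Y.IsGE n]
    (g : (singleFunctor C 0).obj P ⟶ Y) : g = 0 :=
  TStructure.t.zero g 0 n hn

/-- Maps from `P[0]`, `P` projective, to an object in `D^{≤ -1}` vanish. -/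
theorem single_proj_to_isLE_eq_zero (P : C) [Projective P] (X : DerivedCategory C) (n : ℤ)
    (hn : n < 0) [X.IsLE n] (g : (singleFunctor C 0).obj P ⟶ X) : g = 0 := by
  obtain ⟨L, hL, ⟨e⟩⟩ := exists_iso_Q_obj_of_isLE X n
  have h : g ≫ e.hom = 0 :=
    from_singleFunctor_obj_eq_zero_of_projective (L := L) (n := n) (g ≫ e.hom) hn
  rw [← cancel_mono e.hom, h, zero_comp]

/-- The comparison map. -/
noncomputable def Psi (P : C) (K : DerivedCategory C) (φ : (singleFunctor C 0).obj P ⟶ K) :
    (homologyFunctor C 0).obj ((singleFunctor C 0).obj P) ⟶ (homologyFunctor C 0).obj K :=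
  (homologyFunctor C 0).map φ

theorem psi_reduce {P : C} {K K' : DerivedCategory C} (α : K ⟶ K')
    (ha : Function.Bijective (fun φ : (singleFunctor C 0).obj P ⟶ K => φ ≫ α))
    (hb : IsIso ((homologyFunctor C 0).map α)) :
    Function.Bijective (Psi P K) ↔ Function.Bijective (Psi P K') := by
  have h : (fun ψ : (homologyFunctor C 0).obj ((singleFunctor C 0).obj P) ⟶
        (homologyFunctor C 0).obj K => ψ ≫ (homologyFunctor C 0).map α) ∘ (Psi P K) =
      (Psi P K') ∘ (fun φ : (singleFunctor C 0).obj P ⟶ K => φ ≫ α) := by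
    funext φ
    simp [Psi]
  have := hb
  have b1 : Function.Bijective
      (fun ψ : (homologyFunctor C 0).obj ((singleFunctor C 0).obj P) ⟶
        (homologyFunctor C 0).obj K => ψ ≫ (homologyFunctor C 0).map α) :=
    ⟨fun a b hab => (cancel_mono ((homologyFunctor C 0).map α)).mp hab,
      fun a => ⟨a ≫ inv ((homologyFunctor C 0).map α), by simp⟩⟩
  constructor
  · intro hK
    have h1 : Function.Bijective
        ((Psi P K') ∘ (fun φ : (singleFunctor C 0).obj P ⟶ K => φ ≫ α)) := by
      rw [← h]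
      exact b1.comp hK
    exact (Function.Bijective.of_comp_iff _ ha).mp h1
  · intro hK'
    have h1 : Function.Bijective
        ((fun ψ : (homologyFunctor C 0).obj ((singleFunctor C 0).obj P) ⟶
          (homologyFunctor C 0).obj K => ψ ≫ (homologyFunctor C 0).map α) ∘ (Psi P K)) := by
      rw [h]
      exact hK'.comp ha
    exact (Function.Bijective.of_comp_iff' b1 _).mp h1

theorem psi_reduce_iso {P : C} {K K' : DerivedCategory C} (e : K ≅ K') :
    Function.Bijective (Psi P K) ↔ Function.Bijective (Psi P K') := by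
  refine psi_reduce e.hom ?_ inferInstance
  exact ⟨fun a b hab => by simpa using hab, fun a => ⟨a ≫ e.inv, by simp⟩⟩

/-- Step 3: the case of a single object. -/
theorem psi_single (P M : C) : Function.Bijective (Psi P ((singleFunctor C 0).obj M)) := by
  let ι := singleFunctorCompHomologyFunctorIso C 0
  have hnat : ∀ g : P ⟶ M, (homologyFunctor C 0).map ((singleFunctor C 0).map g) =
      ι.hom.app P ≫ g ≫ ι.inv.app M := by
    intro g
    have := ι.hom.naturality g
    simp only [Functor.comp_map, Functor.id_map] at this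
    rw [← assoc, ← this, assoc, Iso.hom_inv_id_app]
    simp
  constructor
  · intro φ₁ φ₂ h
    obtain ⟨g₁, rfl⟩ := (singleFunctor C 0).map_surjective φ₁
    obtain ⟨g₂, rfl⟩ := (singleFunctor C 0).map_surjective φ₂
    simp only [Psi] at h
    rw [hnat, hnat] at h
    have : g₁ = g₂ := by
      have h' := congrArg (fun x => ι.inv.app P ≫ x ≫ ι.hom.app M) h
      simpa using h'
    rw [this]
  · intro ψ
    refine ⟨(singleFunctor C 0).map (ι.inv.app P ≫ ψ ≫ ι.hom.app M), ?_⟩
    simp only [Psi]
    rw [hnat]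
    simp

/-- Step 2: the case `K ∈ D^{≤ 0}`. -/
theorem psi_isLE (P : C) [Projective P] (K : DerivedCategory C) [K.IsLE 0] :
    Function.Bijective (Psi P K) := by
  obtain ⟨X', Y', hX', hY', a, b, c, hT⟩ := TStructure.t.exists_triangle K (-1) 0 (by norm_num)
  have : X'.IsLE (-1) := ⟨hX'⟩
  have : Y'.IsGE 0 := ⟨hY'⟩
  -- vanishing of the relevant homology of `X'`
  have hX0 : IsZero ((homologyFunctor C 0).obj X') := X'.isZero_of_isLE (-1) 0 (by norm_num)
  have hX1 : IsZero ((homologyFunctor C 1).obj X') := X'.isZero_of_isLE (-1) 1 (by norm_num)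
  have : Y'.IsLE 0 := by
    rw [isLE_iff]
    intro i hi
    have hK : IsZero ((homologyFunctor C i).obj K) := K.isZero_of_isLE 0 i hi
    have hXi : IsZero ((homologyFunctor C (i + 1)).obj X') :=
      X'.isZero_of_isLE (-1) (i + 1) (by omega)
    have ex := HomologySequence.exact₃ (Triangle.mk a b c) hT i (i + 1) rfl
    exact ex.isZero_of_both_zeros (hK.eq_of_src _ _) (hXi.eq_of_tgt _ _)
  -- `b` induces a bijection on maps from `P[0]`
  have ha : Function.Bijective (fun φ : (singleFunctor C 0).obj P ⟶ K => φ ≫ b) := by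
    constructor
    · intro φ₁ φ₂ h
      have h0 : (φ₁ - φ₂) ≫ b = 0 := by
        rw [Preadditive.sub_comp]
        exact sub_eq_zero.mpr h
      obtain ⟨g, hg⟩ := Triangle.coyoneda_exact₂ (Triangle.mk a b c) hT (φ₁ - φ₂) h0
      have hg0 : g = 0 := single_proj_to_isLE_eq_zero P X' (-1) (by norm_num) g
      rw [hg0, zero_comp] at hg
      exact sub_eq_zero.mp hg
    · intro φ
      have h0 : φ ≫ c = 0 := by
        have : (X'⟦(1 : ℤ)⟧).IsLE (-2) := TStructure.t.isLE_shift X' (-1) 1 (-2) (by norm_num)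
        exact single_proj_to_isLE_eq_zero P (X'⟦(1 : ℤ)⟧) (-2) (by norm_num) _
      obtain ⟨g, hg⟩ := Triangle.coyoneda_exact₃ (Triangle.mk a b c) hT φ h0
      exact ⟨g, hg.symm⟩
  have hb : IsIso ((homologyFunctor C 0).map b) := by
    have : Mono ((homologyFunctor C 0).map b) :=
      (HomologySequence.mono_homologyMap_mor₂_iff (Triangle.mk a b c) hT 0).mpr
        (hX0.eq_of_src _ _)
    have : Epi ((homologyFunctor C 0).map b) :=
      (HomologySequence.epi_homologyMap_mor₂_iff (Triangle.mk a b c) hT 0 1 (by norm_num)).mpr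
        (hX1.eq_of_tgt _ _)
    exact isIso_of_mono_of_epi _
  rw [psi_reduce b ha hb]
  obtain ⟨M, ⟨e⟩⟩ := exists_iso_singleFunctor_obj_of_isGE_of_isLE Y' 0
  rw [psi_reduce_iso e]
  exact psi_single P M

/-- Main lemma: for projective `P`, maps `P[0] ⟶ K` are maps `H⁰(P[0]) ⟶ H⁰(K)`. -/
theorem psi_bijective (P : C) [Projective P] (K : DerivedCategory C) :
    Function.Bijective (Psi P K) := by
  obtain ⟨X, Y, hX, hY, a, b, c, hT⟩ := TStructure.t.exists_triangle K 0 1 (by norm_num)
  have : X.IsLE 0 := ⟨hX⟩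
  have : Y.IsGE 1 := ⟨hY⟩
  have hYm : IsZero ((homologyFunctor C (-1)).obj Y) := Y.isZero_of_isGE 1 (-1) (by norm_num)
  have hY0 : IsZero ((homologyFunctor C 0).obj Y) := Y.isZero_of_isGE 1 0 (by norm_num)
  have ha : Function.Bijective (fun φ : (singleFunctor C 0).obj P ⟶ X => φ ≫ a) := by
    constructor
    · intro φ₁ φ₂ h
      have h0 : (φ₁ - φ₂) ≫ a = 0 := by
        rw [Preadditive.sub_comp]
        exact sub_eq_zero.mpr h
      obtain ⟨g, hg⟩ := Triangle.coyoneda_exact₂ (Triangle.mk a b c).invRotate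
        (inv_rot_of_distTriang _ hT) (φ₁ - φ₂) h0
      have : (Y⟦(-1 : ℤ)⟧).IsGE 2 := TStructure.t.isGE_shift Y 1 (-1) 2 (by norm_num)
      have hg0 : g = 0 := single_to_isGE_eq_zero P (Y⟦(-1 : ℤ)⟧) 2 (by norm_num) g
      rw [hg0, zero_comp] at hg
      exact sub_eq_zero.mp hg
    · intro φ
      have h0 : φ ≫ b = 0 := single_to_isGE_eq_zero P Y 1 (by norm_num) _
      obtain ⟨g, hg⟩ := Triangle.coyoneda_exact₂ (Triangle.mk a b c) hT φ h0
      exact ⟨g, hg.symm⟩
  have hb : IsIso ((homologyFunctor C 0).map a) := by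
    have : Mono ((homologyFunctor C 0).map a) :=
      (HomologySequence.mono_homologyMap_mor₁_iff (Triangle.mk a b c) hT (-1) 0 (by norm_num)).mpr
        (hYm.eq_of_src _ _)
    have : Epi ((homologyFunctor C 0).map a) :=
      (HomologySequence.epi_homologyMap_mor₁_iff (Triangle.mk a b c) hT 0).mpr
        (hY0.eq_of_tgt _ _)
    exact isIso_of_mono_of_epi _
  rw [← psi_reduce a ha hb]
  exact psi_isLE P X

end Groth.Agent.Helper11.DC
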