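import Mathlib.Algebra.Homology.DerivedCategory.FullyFaithful
import Mathlib.Algebra.Homology.DerivedCategory.HomologySequence
import Mathlib.Algebra.Homology.SingleHomology
import Mathlib.Algebra.Category.ModuleCat.Abelian
import Mathlib.Algebra.Homology.ShortComplex.ModuleCat

/-!
# Elements of `H⁰` of a complex of modules, in the derived category (helper11)
-/

set_option autoImplicit false
set_option linter.unusedSectionVars false
set_option linter.unusedVariables false

open CategoryTheory Category Limits DerivedCategory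

universe u

attribute [local instance] HasDerivedCategory.standard

namespace Groth.Agent.Helper11.H0Cx

variable {A : Type u} [CommRing A]

section Cx

variable (K L : CochainComplex (ModuleCat.{u} A) ℤ)

theorem toSpan_comp_d (z : K.X 0) (hz : (K.d 0 1).hom z = 0) :
    ModuleCat.ofHom (LinearMap.toSpanSingleton A (K.X 0) z) ≫ K.d 0 1 = 0 := by
  ext
  simp [hz]

/-- the cycle defined by a cocycle -/
noncomputable def cyc (z : K.X 0) (hz : (K.d 0 1).hom z = 0) : K.cycles 0 :=
  (K.liftCycles (ModuleCat.ofHom (LinearMap.toSpanSingleton A (K.X 0) z)) 1 (by simp)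
    (toSpan_comp_d K z hz)).hom (1 : A)

theorem iCycles_cyc (z : K.X 0) (hz : (K.d 0 1).hom z = 0) :
    (K.iCycles 0).hom (cyc K z hz) = z := by
  change (K.iCycles 0).hom ((K.liftCycles _ 1 (by simp) (toSpan_comp_d K z hz)).hom (1 : A)) = z
  rw [← ModuleCat.comp_apply, K.liftCycles_i]
  simp

theorem iCycles_injective : Function.Injective (K.iCycles 0).hom :=
  (ModuleCat.mono_iff_injective (K.iCycles 0)).mp inferInstance

theorem d_iCycles (z' : K.cycles 0) : (K.d 0 1).hom ((K.iCycles 0).hom z') = 0 := by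
  rw [← ModuleCat.comp_apply, K.iCycles_d]
  rfl

theorem cyc_iCycles (z' : K.cycles 0) :
    cyc K ((K.iCycles 0).hom z') (d_iCycles K z') = z' :=
  iCycles_injective K (iCycles_cyc K _ _)

/-- the cohomology class of a cocycle -/
noncomputable def cl (z : K.X 0) (hz : (K.d 0 1).hom z = 0) : K.homology 0 :=
  (K.homologyπ 0).hom (cyc K z hz)

theorem cl_congr (z z' : K.X 0) (h : z = z') (hz : (K.d 0 1).hom z = 0) :
    cl K z hz = cl K z' (h ▸ hz) := by
  subst h
  rfl

theorem cl_surjective (c : K.homology 0) :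
    ∃ (z : K.X 0) (hz : (K.d 0 1).hom z = 0), cl K z hz = c := by
  obtain ⟨z', rfl⟩ := (ModuleCat.epi_iff_surjective (K.homologyπ 0)).mp inferInstance c
  refine ⟨(K.iCycles 0).hom z', d_iCycles K z', ?_⟩
  unfold cl
  rw [cyc_iCycles]

theorem cl_eq_zero_iff (z : K.X 0) (hz : (K.d 0 1).hom z = 0) :
    cl K z hz = 0 ↔ ∃ w : K.X (-1), (K.d (-1) 0).hom w = z := by
  have hex : (ShortComplex.mk (K.toCycles (-1) 0) (K.homologyπ 0)
      (K.toCycles_comp_homologyπ _ _)).Exact :=
    ShortComplex.exact_of_g_is_cokernel _ (K.homologyIsCokernel (-1) 0 (by simp))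
  constructor
  · intro h
    obtain ⟨w, hw⟩ := (ShortComplex.moduleCat_exact_iff _).mp hex _ h
    refine ⟨w, ?_⟩
    have h2 := congrArg (K.iCycles 0).hom hw
    change (K.iCycles 0).hom ((K.toCycles (-1) 0).hom w) = (K.iCycles 0).hom (cyc K z hz) at h2
    rw [← ModuleCat.comp_apply, K.toCycles_i, iCycles_cyc] at h2
    exact h2
  · rintro ⟨w, hw⟩
    have h1 : cyc K z hz = (K.toCycles (-1) 0).hom w := by
      apply iCycles_injective K
      rw [iCycles_cyc, ← ModuleCat.comp_apply, K.toCycles_i, hw]
    unfold cl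
    rw [h1, ← ModuleCat.comp_apply, K.toCycles_comp_homologyπ]
    rfl

variable {K L}

theorem d_map (φ : K ⟶ L) (z : K.X 0) (hz : (K.d 0 1).hom z = 0) :
    (L.d 0 1).hom ((φ.f 0).hom z) = 0 := by
  rw [← ModuleCat.comp_apply, φ.comm, ModuleCat.comp_apply, hz, map_zero]

theorem cl_map (φ : K ⟶ L) (z : K.X 0) (hz : (K.d 0 1).hom z = 0) :
    (HomologicalComplex.homologyMap φ 0).hom (cl K z hz) =
      cl L ((φ.f 0).hom z) (d_map φ z hz) := by
  unfold cl
  rw [← ModuleCat.comp_apply, HomologicalComplex.homologyπ_naturality, ModuleCat.comp_apply]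
  congr 1
  apply iCycles_injective L
  rw [iCycles_cyc, ← ModuleCat.comp_apply, HomologicalComplex.cyclesMap_i, ModuleCat.comp_apply,
    iCycles_cyc]

end Cx

section Der

variable (K L : CochainComplex (ModuleCat.{u} A) ℤ)

/-- `H⁰(Q K) ≅ H⁰(K)` -/
noncomputable def fac : (homologyFunctor (ModuleCat.{u} A) 0).obj (Q.obj K) ≅ K.homology 0 :=
  (homologyFunctorFactors (ModuleCat.{u} A) 0).app K

variable {K L} in
theorem fac_naturality (φ : K ⟶ L) :
    (homologyFunctor (ModuleCat.{u} A) 0).map (Q.map φ) ≫ (fac L).hom =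
      (fac K).hom ≫ HomologicalComplex.homologyMap φ 0 :=
  (homologyFunctorFactors (ModuleCat.{u} A) 0).hom.naturality φ

/-- the cohomology class of a cocycle, in the derived category -/
noncomputable def clD (z : K.X 0) (hz : (K.d 0 1).hom z = 0) :
    (homologyFunctor (ModuleCat.{u} A) 0).obj (Q.obj K) :=
  (fac K).inv.hom (cl K z hz)

theorem clD_congr (z z' : K.X 0) (h : z = z') (hz : (K.d 0 1).hom z = 0) :
    clD K z hz = clD K z' (h ▸ hz) := by
  subst h
  rfl

theorem fac_hom_clD (z : K.X 0) (hz : (K.d 0 1).hom z = 0) :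
    (fac K).hom.hom (clD K z hz) = cl K z hz := by
  unfold clD
  rw [← ModuleCat.comp_apply, Iso.inv_hom_id]
  rfl

theorem fac_hom_injective : Function.Injective (fac K).hom.hom :=
  (ModuleCat.mono_iff_injective _).mp inferInstance

theorem clD_surjective (c : (homologyFunctor (ModuleCat.{u} A) 0).obj (Q.obj K)) :
    ∃ (z : K.X 0) (hz : (K.d 0 1).hom z = 0), clD K z hz = c := by
  obtain ⟨z, hz, h⟩ := cl_surjective K ((fac K).hom.hom c)
  refine ⟨z, hz, ?_⟩
  apply fac_hom_injective K
  rw [fac_hom_clD, h]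

theorem clD_eq_zero_iff (z : K.X 0) (hz : (K.d 0 1).hom z = 0) :
    clD K z hz = 0 ↔ ∃ w : K.X (-1), (K.d (-1) 0).hom w = z := by
  rw [← cl_eq_zero_iff K z hz]
  constructor
  · intro h
    rw [← fac_hom_clD, h]
    exact map_zero _
  · intro h
    apply fac_hom_injective K
    rw [fac_hom_clD, h]
    exact (map_zero _).symm

variable {K L}

theorem clD_map (φ : K ⟶ L) (z : K.X 0) (hz : (K.d 0 1).hom z = 0) :
    ((homologyFunctor (ModuleCat.{u} A) 0).map (Q.map φ)).hom (clD K z hz) =
      clD L ((φ.f 0).hom z) (d_map φ z hz) := by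
  apply fac_hom_injective L
  rw [fac_hom_clD, ← cl_map φ z hz, ← fac_hom_clD K z hz, ← ModuleCat.comp_apply,
    ← ModuleCat.comp_apply, fac_naturality]

end Der

section Single

variable (M : ModuleCat.{u} A)

theorem sigma_hom_app :
    (singleFunctorCompHomologyFunctorIso (ModuleCat.{u} A) 0).hom.app M =
      (homologyFunctorFactors (ModuleCat.{u} A) 0).hom.app
        ((HomologicalComplex.single (ModuleCat.{u} A) (ComplexShape.up ℤ) 0).obj M) ≫
        (HomologicalComplex.singleObjHomologySelfIso (ComplexShape.up ℤ) 0 M).hom := by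
  have h : (singleFunctorCompHomologyFunctorIso (ModuleCat.{u} A) 0).hom.app M =
      (homologyFunctor (ModuleCat.{u} A) 0).map
        (((singleFunctorsPostcompQIso (ModuleCat.{u} A)).hom.hom 0).app M) ≫ 𝟙 _ ≫
        (homologyFunctorFactors (ModuleCat.{u} A) 0).hom.app
          ((HomologicalComplex.single (ModuleCat.{u} A) (ComplexShape.up ℤ) 0).obj M) ≫
        (HomologicalComplex.homologyFunctorSingleIso (ModuleCat.{u} A)
          (ComplexShape.up ℤ) 0).hom.app M := rfl
  rw [h, singleFunctorsPostcompQIso_hom_hom, NatTrans.id_app]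
  erw [CategoryTheory.Functor.map_id, Category.id_comp, Category.id_comp]

theorem sigma_hom_app' :
    (singleFunctorCompHomologyFunctorIso (ModuleCat.{u} A) 0).hom.app M =
      (fac ((HomologicalComplex.single (ModuleCat.{u} A) (ComplexShape.up ℤ) 0).obj M)).hom ≫
        (HomologicalComplex.singleObjHomologySelfIso (ComplexShape.up ℤ) 0 M).hom :=
  sigma_hom_app M

theorem d_single (z : ((HomologicalComplex.single (ModuleCat.{u} A) (ComplexShape.up ℤ) 0).obj M).X 0) :
    (((HomologicalComplex.single (ModuleCat.{u} A) (ComplexShape.up ℤ) 0).obj M).d 0 1).hom z = 0 := by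
  rw [HomologicalComplex.single_obj_d]
  rfl

/-- the class of `z ∈ M[0]⁰` corresponds to the image of `z` in `M` -/
theorem sigma_hom_clD
    (z : ((HomologicalComplex.single (ModuleCat.{u} A) (ComplexShape.up ℤ) 0).obj M).X 0) :
    ((singleFunctorCompHomologyFunctorIso (ModuleCat.{u} A) 0).hom.app M).hom
      (clD ((HomologicalComplex.single (ModuleCat.{u} A) (ComplexShape.up ℤ) 0).obj M) z
        (d_single M z)) =
      (HomologicalComplex.singleObjXSelf (ComplexShape.up ℤ) 0 M).hom.hom z := by
  have h : ((fac ((HomologicalComplex.single (ModuleCat.{u} A) (ComplexShape.up ℤ) 0).obj M)).hom ≫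
      (HomologicalComplex.singleObjHomologySelfIso (ComplexShape.up ℤ) 0 M).hom).hom
        (clD ((HomologicalComplex.single (ModuleCat.{u} A) (ComplexShape.up ℤ) 0).obj M) z
          (d_single M z)) =
      (HomologicalComplex.singleObjXSelf (ComplexShape.up ℤ) 0 M).hom.hom z := by
    rw [ModuleCat.comp_apply, fac_hom_clD]
    unfold cl
    rw [← ModuleCat.comp_apply, HomologicalComplex.homologyπ_singleObjHomologySelfIso_hom,
      HomologicalComplex.singleObjCyclesSelfIso_hom, ModuleCat.comp_apply, iCycles_cyc]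
  exact (congrArg (fun (t : (homologyFunctor (ModuleCat.{u} A) 0).obj (Q.obj
    ((HomologicalComplex.single (ModuleCat.{u} A) (ComplexShape.up ℤ) 0).obj M)) ⟶ M) => t.hom
      (clD ((HomologicalComplex.single (ModuleCat.{u} A) (ComplexShape.up ℤ) 0).obj M) z
        (d_single M z))) (sigma_hom_app' M)).trans h

theorem sigma_inv_apply (s : M) :
    ((singleFunctorCompHomologyFunctorIso (ModuleCat.{u} A) 0).inv.app M).hom s =
      clD ((HomologicalComplex.single (ModuleCat.{u} A) (ComplexShape.up ℤ) 0).obj M)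
        ((HomologicalComplex.singleObjXSelf (ComplexShape.up ℤ) 0 M).inv.hom s)
        (d_single M _) := by
  have hinj : Function.Injective
      ((singleFunctorCompHomologyFunctorIso (ModuleCat.{u} A) 0).hom.app M).hom :=
    (ModuleCat.mono_iff_injective _).mp inferInstance
  apply hinj
  rw [sigma_hom_clD, ← ModuleCat.comp_apply, ← ModuleCat.comp_apply, Iso.inv_hom_id_app,
    Iso.inv_hom_id]
  rfl

end Single

end Groth.Agent.Helper11.H0Cx
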