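import Groth.Agent.Lib.Helper11.AdicTw6
import Groth.Agent.Lib.Helper11.H0Cx
import Groth.Agent.Lib.Helper11.DCProj
import Groth.Agent.Lib.Helper11.RGam5

/-!
# `H⁰(RΓ_J(N)) ⟶ N` is injective with image the `J`-power torsion submodule (helper11)
-/

set_option autoImplicit false
set_option linter.unusedSectionVars false
set_option linter.unusedVariables false
set_option linter.style.haveILetI false

open CategoryTheory Category Limits Pretriangulated DerivedCategory

universe w v u

namespace Groth.Agent.Helper11.RGamH0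

section Generic

open Groth.Agent.Helper11.DC

variable {C : Type u} [Category.{v} C] [Abelian C] [HasDerivedCategory.{w} C]

/-- maps `P[0] ⟶ K` are maps `P ⟶ H⁰(K)` when `K ∈ D^{≥ 0}` -/
theorem psi_isGE (P : C) (K : DerivedCategory C) [K.IsGE 0] : Function.Bijective (Psi P K) := by
  obtain ⟨X, Y, hX, hY, a, b, c, hT⟩ := TStructure.t.exists_triangle K 0 1 (by norm_num)
  have : X.IsLE 0 := ⟨hX⟩
  have : Y.IsGE 1 := ⟨hY⟩
  have hYm : IsZero ((homologyFunctor C (-1)).obj Y) := Y.isZero_of_isGE 1 (-1) (by norm_num)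
  have hY0 : IsZero ((homologyFunctor C 0).obj Y) := Y.isZero_of_isGE 1 0 (by norm_num)
  have ha : Function.Bijective (fun φ : (singleFunctor C 0).obj P ⟶ X => φ ≫ a) := by
    constructor
    · intro φ₁ φ₂ h
      have h0 : (φ₁ - φ₂) ≫ a = 0 := by
        rw [Preadditive.sub_comp]
        exact sub_eq_zero.mpr h
      obtain ⟨g, hg⟩ := Triangle.coyoneda_exact₂ (Triangle.mk a b c).invRotate
        (inv_rot_of_distTriang _ hT) (φ₁ - φ₂) h0
      have : (Y⟦(-1 : ℤ)⟧).IsGE 2 := TStructure.t.isGE_shift Y 1 (-1) 2 (by norm_num)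
      have hg0 : g = 0 := single_to_isGE_eq_zero P (Y⟦(-1 : ℤ)⟧) 2 (by norm_num) g
      rw [hg0, zero_comp] at hg
      exact sub_eq_zero.mp hg
    · intro φ
      have h0 : φ ≫ b = 0 := single_to_isGE_eq_zero P Y 1 (by norm_num) _
      obtain ⟨g, hg⟩ := Triangle.coyoneda_exact₂ (Triangle.mk a b c) hT φ h0
      exact ⟨g, hg.symm⟩
  have hb : IsIso ((homologyFunctor C 0).map a) := by
    have : Mono ((homologyFunctor C 0).map a) :=
      (HomologySequence.mono_homologyMap_mor₁_iff (Triangle.mk a b c) hT (-1) 0 (by norm_num)).mpr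
        (hYm.eq_of_src _ _)
    have : Epi ((homologyFunctor C 0).map a) :=
      (HomologySequence.epi_homologyMap_mor₁_iff (Triangle.mk a b c) hT 0).mpr
        (hY0.eq_of_tgt _ _)
    exact isIso_of_mono_of_epi _
  rw [← psi_reduce a ha hb]
  have : X.IsGE 0 := by
    rw [isGE_iff]
    intro i hi
    have hK : IsZero ((homologyFunctor C i).obj K) := K.isZero_of_isGE 0 i hi
    have hYi : IsZero ((homologyFunctor C (i - 1)).obj Y) :=
      Y.isZero_of_isGE 1 (i - 1) (by omega)
    have ex := HomologySequence.exact₁ (Triangle.mk a b c) hT (i - 1) i (by omega)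
    exact ex.isZero_of_both_zeros (hYi.eq_of_src _ _) (hK.eq_of_tgt _ _)
  obtain ⟨M', ⟨e⟩⟩ := exists_iso_singleFunctor_obj_of_isGE_of_isLE X 0
  rw [psi_reduce_iso e]
  exact psi_single P M'

end Generic

attribute [local instance] HasDerivedCategory.standard

open Groth.Agent.Helper11.DC Groth.Agent.Helper11.DCP Groth.Agent.Helper11.RGam
  Groth.Agent.Helper11.AdicTw Groth.Agent.Helper11.SgTens DerCA

variable {A : Type u} [CommRing A] [IsNoetherianRing A] (J : Ideal A) [DRing.HasRgammaI J]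
  (N : ModuleCat.{u} A)

theorem isGE_RgammaI_single :
    ((DRing.RgammaI J).obj ((singleFunctor (ModuleCat.{u} A) 0).obj N)).IsGE 0 := by
  obtain ⟨gs, hgs⟩ := Groth.Agent.Helper11.GM.exists_list_span (I := J)
  obtain ⟨E, -⟩ := exists_cech_iso_module gs J hgs
  rw [isGE_iff]
  intro i hi
  have h1 : IsZero ((extCech (ModuleCat.of A A) gs).X i) :=
    Groth.Agent.Helper11.LDCx.isZero_extCech_X _ gs i (Or.inl hi)
  have h2 : IsZero ((tens N (extCech (ModuleCat.of A A) gs)).X i) :=
    Functor.map_isZero ((MonoidalCategory.curriedTensor (ModuleCat.{u} A)).obj N) h1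
  have h3 : IsZero ((homologyFunctor (ModuleCat.{u} A) i).obj
      (Q.obj (tens N (extCech (ModuleCat.of A A) gs)))) :=
    Groth.Agent.Helper11.DC.isZero_homology_of_isZero_X _ i h2
  exact h3.of_iso ((homologyFunctor (ModuleCat.{u} A) i).mapIso (E N).symm)

omit [IsNoetherianRing A] [DRing.HasRgammaI J] in
theorem isPowerTorsion_single (hN : LocCoh.IsPowerTorsion J N) (i : ℤ) :
    LocCoh.IsPowerTorsion J (Dual.HD A ((singleFunctor (ModuleCat.{u} A) 0).obj N) i) := by
  by_cases hi : i = 0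
  · subst hi
    exact isPowerTorsion_of_iso J
      ((singleFunctorCompHomologyFunctorIso (ModuleCat.{u} A) 0).app N) hN
  · have hz : IsZero ((homologyFunctor (ModuleCat.{u} A) i).obj
        ((singleFunctor (ModuleCat.{u} A) 0).obj N)) :=
      Groth.Agent.Helper11.AdicFl.isZero_homology_inD (A := A) N i hi
    haveI := ModuleCat.subsingleton_of_isZero hz
    intro m
    exact ⟨0, fun a _ => Subsingleton.elim _ _⟩

/-- the image of `H⁰(RΓ_J(N)) ⟶ N` consists of `J`-power torsion elements -/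
theorem mem_torsionSub_of_H0 (x : (homologyFunctor (ModuleCat.{u} A) 0).obj
    ((DRing.RgammaI J).obj ((singleFunctor (ModuleCat.{u} A) 0).obj N))) :
    ((singleFunctorCompHomologyFunctorIso (ModuleCat.{u} A) 0).hom.app N).hom
      (((homologyFunctor (ModuleCat.{u} A) 0).map ((DRing.RgammaIε J).app
        ((singleFunctor (ModuleCat.{u} A) 0).obj N))).hom x) ∈ DRing.torsionSub J N := by
  obtain ⟨n, hn⟩ := isPowerTorsion_HD_RgammaI J ((singleFunctor (ModuleCat.{u} A) 0).obj N) 0 x
  refine ⟨n, fun a ha => ?_⟩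
  rw [← map_smul, ← map_smul, hn a ha, map_zero, map_zero]

/-- every `J`-power torsion element is in the image of `H⁰(RΓ_J(N)) ⟶ N` -/
theorem exists_H0_of_mem_torsionSub (t : N) (ht : t ∈ DRing.torsionSub J N) :
    ∃ x : (homologyFunctor (ModuleCat.{u} A) 0).obj
      ((DRing.RgammaI J).obj ((singleFunctor (ModuleCat.{u} A) 0).obj N)),
      ((singleFunctorCompHomologyFunctorIso (ModuleCat.{u} A) 0).hom.app N).hom
        (((homologyFunctor (ModuleCat.{u} A) 0).map ((DRing.RgammaIε J).app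
          ((singleFunctor (ModuleCat.{u} A) 0).obj N))).hom x) = t := by
  let T : ModuleCat.{u} A := ModuleCat.of A (DRing.torsionSub J N)
  let i : T ⟶ N := ModuleCat.ofHom (DRing.torsionSub J N).subtype
  have hT : LocCoh.IsPowerTorsion J T := by
    rintro ⟨m, n, hn⟩
    exact ⟨n, fun a ha => Subtype.ext (hn a ha)⟩
  obtain ⟨g, hg⟩ := (bijective_comp_ε J ((singleFunctor (ModuleCat.{u} A) 0).obj T)
    ((singleFunctor (ModuleCat.{u} A) 0).obj N) (isPowerTorsion_single J T hT)).2
    ((singleFunctor (ModuleCat.{u} A) 0).map i)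
  have hg' : g ≫ (DRing.RgammaIε J).app ((singleFunctor (ModuleCat.{u} A) 0).obj N) =
      (singleFunctor (ModuleCat.{u} A) 0).map i := hg
  let σ := singleFunctorCompHomologyFunctorIso (ModuleCat.{u} A) 0
  refine ⟨((homologyFunctor (ModuleCat.{u} A) 0).map g).hom ((σ.inv.app T).hom ⟨t, ht⟩), ?_⟩
  have nat : (homologyFunctor (ModuleCat.{u} A) 0).map ((singleFunctor (ModuleCat.{u} A) 0).map i) ≫
      σ.hom.app N = σ.hom.app T ≫ i := σ.hom.naturality i
  have h1 : (σ.inv.app T ≫ (homologyFunctor (ModuleCat.{u} A) 0).map g ≫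
      (homologyFunctor (ModuleCat.{u} A) 0).map ((DRing.RgammaIε J).app
        ((singleFunctor (ModuleCat.{u} A) 0).obj N)) ≫ σ.hom.app N) = i := by
    rw [← Functor.map_comp_assoc, hg', nat, Iso.inv_hom_id_app_assoc]
  exact congrArg (fun f => f.hom (⟨t, ht⟩ : DRing.torsionSub J N)) h1

/-- `H⁰(RΓ_J(N)) ⟶ N` is injective -/
theorem eq_zero_of_H0_map_eq_zero (x : (homologyFunctor (ModuleCat.{u} A) 0).obj
    ((DRing.RgammaI J).obj ((singleFunctor (ModuleCat.{u} A) 0).obj N)))
    (hx : ((homologyFunctor (ModuleCat.{u} A) 0).map ((DRing.RgammaIε J).app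
        ((singleFunctor (ModuleCat.{u} A) 0).obj N))).hom x = 0) : x = 0 := by
  let σ := singleFunctorCompHomologyFunctorIso (ModuleCat.{u} A) 0
  let H := homologyFunctor (ModuleCat.{u} A) 0
  let sF := singleFunctor (ModuleCat.{u} A) 0
  let R := (DRing.RgammaI J).obj (sF.obj N)
  let ε := (DRing.RgammaIε J).app (sF.obj N)
  let L : ModuleCat.{u} A := ModuleCat.of A (LinearMap.ker (H.map ε).hom)
  let k : L ⟶ H.obj R := ModuleCat.ofHom (LinearMap.ker (H.map ε).hom).subtype
  have hk : k ≫ H.map ε = 0 := by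
    apply ModuleCat.hom_ext
    apply LinearMap.ext
    rintro ⟨y, hy⟩
    exact hy
  have hL : LocCoh.IsPowerTorsion J L := by
    rintro ⟨y, hy⟩
    obtain ⟨n, hn⟩ := isPowerTorsion_HD_RgammaI J (sF.obj N) 0 y
    exact ⟨n, fun a ha => Subtype.ext (hn a ha)⟩
  haveI : R.IsGE 0 := isGE_RgammaI_single J N
  obtain ⟨φ, hφ⟩ := (psi_isGE L R).2 (σ.hom.app L ≫ k)
  have hφ' : H.map φ = σ.hom.app L ≫ k := hφ
  have h1 : φ ≫ ε = 0 := by
    apply (psi_single L N).1
    change H.map (φ ≫ ε) = H.map 0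
    rw [H.map_comp, hφ', assoc, hk, comp_zero, H.map_zero]
  have h2 : φ = 0 := by
    apply (bijective_comp_ε J (sF.obj L) (sF.obj N) (isPowerTorsion_single J L hL)).1
    change φ ≫ ε = 0 ≫ ε
    rw [h1, zero_comp]
  have h3 : k = 0 := by
    have h4 : σ.hom.app L ≫ k = 0 := by rw [← hφ', h2, H.map_zero]
    rw [← cancel_epi (σ.hom.app L), h4, comp_zero]
  have h5 : k.hom ⟨x, hx⟩ = 0 := by rw [h3]; rfl
  exact h5

end Groth.Agent.Helper11.RGamH0
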