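import Groth.Agent.Lib.Helper11.CechN3
import Groth.Agent.Lib.Helper11.RGamH0

/-!
# Cocycles of degree `0` of `N ⊗ Č` and of the termwise completion of `M ⊗ Č` (helper11)
-/

set_option autoImplicit false
set_option linter.unusedSectionVars false
set_option linter.unusedVariables false
set_option linter.style.haveILetI false

open CategoryTheory CategoryTheory.Limits MonoidalCategory DerivedCategory
open scoped TensorProduct

universe u

attribute [local instance] HasDerivedCategory.standard

namespace Groth.Agent.Helper11.AdicTw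

open DerCA Groth.Agent.Helper11.SgTens Groth.Agent.Helper11.H0Cx Groth.Agent.Helper11.RGamH0

variable {A : Type u} [CommRing A] [IsNoetherianRing A]

section Cech

variable (fs : List A) (J : Ideal A) [DRing.HasRgammaI J]
  (a : ∀ N : ModuleCat.{u} A, tens N (extCech (ModuleCat.of A A) fs) ⟶ SgTens.sg N)
  (E : ∀ N : ModuleCat.{u} A, Q.obj (tens N (extCech (ModuleCat.of A A) fs)) ≅
    (DRing.RgammaI J).obj ((DerivedCategory.singleFunctor (ModuleCat.{u} A) 0).obj N))
  (hE : ∀ N : ModuleCat.{u} A, (E N).hom ≫ (DRing.RgammaIε J).app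
    ((DerivedCategory.singleFunctor (ModuleCat.{u} A) 0).obj N) = Q.map (a N))

/-- the identification `N[0]⁰ ≃ N` -/
noncomputable abbrev chi (N : ModuleCat.{u} A) : (SgTens.sg N).X 0 →ₗ[A] N :=
  (HomologicalComplex.singleObjXSelf (ComplexShape.up ℤ) 0 N).hom.hom

theorem chi_injective (N : ModuleCat.{u} A) : Function.Injective (chi N) :=
  (ModuleCat.mono_iff_injective _).mp inferInstance

include hE in
theorem H0_key (N : ModuleCat.{u} A) (y : (tens N (extCech (ModuleCat.of A A) fs)).X 0)
    (hy : ((tens N (extCech (ModuleCat.of A A) fs)).d 0 1).hom y = 0) :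
    ((homologyFunctor (ModuleCat.{u} A) 0).map ((DRing.RgammaIε J).app
      ((DerivedCategory.singleFunctor (ModuleCat.{u} A) 0).obj N))).hom
        (((homologyFunctor (ModuleCat.{u} A) 0).map (E N).hom).hom (clD _ y hy)) =
      clD (SgTens.sg N) (((a N).f 0).hom y) (d_map (a N) y hy) := by
  have h1 : (homologyFunctor (ModuleCat.{u} A) 0).map (E N).hom ≫
      (homologyFunctor (ModuleCat.{u} A) 0).map ((DRing.RgammaIε J).app
        ((DerivedCategory.singleFunctor (ModuleCat.{u} A) 0).obj N)) =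
      (homologyFunctor (ModuleCat.{u} A) 0).map (Q.map (a N)) :=
    ((homologyFunctor (ModuleCat.{u} A) 0).map_comp _ _).symm.trans
      (congrArg (fun (t : Q.obj (tens N (extCech (ModuleCat.of A A) fs)) ⟶ Q.obj (SgTens.sg N)) =>
        (homologyFunctor (ModuleCat.{u} A) 0).map t) (hE N))
  exact (congrArg (fun t => t.hom (clD _ y hy)) h1).trans (clD_map (a N) y hy)

theorem clD_zero (K : CochainComplex (ModuleCat.{u} A) ℤ) (h : (K.d 0 1).hom 0 = 0) :
    clD K 0 h = 0 :=
  (clD_eq_zero_iff K 0 h).mpr ⟨0, map_zero _⟩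

include hE in
/-- a cocycle of `N ⊗ Č` of degree `0` is determined by its image in `N` -/
theorem eq_zero_of_a_eq_zero (N : ModuleCat.{u} A)
    (y : (tens N (extCech (ModuleCat.of A A) fs)).X 0)
    (hy : ((tens N (extCech (ModuleCat.of A A) fs)).d 0 1).hom y = 0)
    (hay : ((a N).f 0).hom y = 0) : y = 0 := by
  have h1 := H0_key fs J a E hE N y hy
  rw [clD_congr _ _ _ hay, clD_zero] at h1
  have h2 := eq_zero_of_H0_map_eq_zero J N _ h1
  have hinj : Function.Injective ((homologyFunctor (ModuleCat.{u} A) 0).map (E N).hom).hom :=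
    (ModuleCat.mono_iff_injective _).mp inferInstance
  have h3 : clD _ y hy = 0 := hinj (h2.trans (map_zero _).symm)
  obtain ⟨w, hw⟩ := (clD_eq_zero_iff _ y hy).mp h3
  have hz : IsZero ((tens N (extCech (ModuleCat.of A A) fs)).X (-1)) :=
    Functor.map_isZero ((curriedTensor (ModuleCat.{u} A)).obj N)
      (Groth.Agent.Helper11.LDCx.isZero_extCech_X _ fs (-1) (Or.inl (by norm_num)))
  haveI := ModuleCat.subsingleton_of_isZero hz
  rw [← hw, Subsingleton.elim w 0, map_zero]

include hE in
/-- the image in `N` of a cocycle of `N ⊗ Č` of degree `0` is `J`-power torsion -/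
theorem chi_a_mem_torsionSub (N : ModuleCat.{u} A)
    (y : (tens N (extCech (ModuleCat.of A A) fs)).X 0)
    (hy : ((tens N (extCech (ModuleCat.of A A) fs)).d 0 1).hom y = 0) :
    chi N (((a N).f 0).hom y) ∈ DRing.torsionSub J N := by
  have h1 := H0_key fs J a E hE N y hy
  have h2 := mem_torsionSub_of_H0 J N
    (((homologyFunctor (ModuleCat.{u} A) 0).map (E N).hom).hom (clD _ y hy))
  rw [h1] at h2
  rw [← sigma_hom_clD]
  exact h2

include hE in
/-- every `J`-power torsion element of `N` comes from a cocycle of `N ⊗ Č` of degree `0` -/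
theorem exists_cocycle_of_mem_torsionSub (N : ModuleCat.{u} A) (t : N)
    (ht : t ∈ DRing.torsionSub J N) :
    ∃ y : (tens N (extCech (ModuleCat.of A A) fs)).X 0,
      ((tens N (extCech (ModuleCat.of A A) fs)).d 0 1).hom y = 0 ∧
        chi N (((a N).f 0).hom y) = t := by
  obtain ⟨x, hx⟩ := exists_H0_of_mem_torsionSub J N t ht
  obtain ⟨y, hy, hc⟩ := clD_surjective _
    (((homologyFunctor (ModuleCat.{u} A) 0).map (E N).inv).hom x)
  refine ⟨y, hy, ?_⟩
  have h1 := H0_key fs J a E hE N y hy
  have h2 : ((homologyFunctor (ModuleCat.{u} A) 0).map (E N).hom).hom (clD _ y hy) = x := by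
    rw [hc, ← ModuleCat.comp_apply, ← Functor.map_comp, Iso.inv_hom_id,
      CategoryTheory.Functor.map_id]
    rfl
  rw [h2] at h1
  rw [← hx, h1]
  exact (sigma_hom_clD N _).symm

/-- the map `N ⊗ Č⁰ ⟶ N` -/
noncomputable def abarN (N : ModuleCat.{u} A) :
    (N ⊗[A] ((extCech (ModuleCat.of A A) fs).X 0)) →ₗ[A] N :=
  chi N ∘ₗ ((a N).f 0).hom

theorem abarN_apply (N : ModuleCat.{u} A) (y : N ⊗[A] ((extCech (ModuleCat.of A A) fs).X 0)) :
    abarN fs a N y = chi N (((a N).f 0).hom y) := rfl

variable (hnat : ∀ {N N' : ModuleCat.{u} A} (f : N ⟶ N'),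
  tensMap f (extCech (ModuleCat.of A A) fs) ≫ a N' =
    a N ≫ (HomologicalComplex.single (ModuleCat.{u} A) (ComplexShape.up ℤ) 0).map f)

include hnat in
theorem abarN_natural {N N' : ModuleCat.{u} A} (f : N ⟶ N')
    (y : N ⊗[A] ((extCech (ModuleCat.of A A) fs).X 0)) :
    abarN fs a N' (f.hom.rTensor _ y) = f.hom (abarN fs a N y) := by
  have h := congrArg (fun φ => (φ.f 0).hom y) (hnat f)
  have h1 : ((a N').f 0).hom (f.hom.rTensor _ y) =
      (((HomologicalComplex.single (ModuleCat.{u} A) (ComplexShape.up ℤ) 0).map f).f 0).hom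
        (((a N).f 0).hom y) := h
  have hs : ((HomologicalComplex.single (ModuleCat.{u} A) (ComplexShape.up ℤ) 0).map f).f 0 =
      (HomologicalComplex.singleObjXSelf (ComplexShape.up ℤ) 0 N).hom ≫ f ≫
        (HomologicalComplex.singleObjXSelf (ComplexShape.up ℤ) 0 N').inv :=
    HomologicalComplex.single_map_f_self _ _ _
  rw [abarN_apply, h1, hs]
  change ((HomologicalComplex.singleObjXSelf (ComplexShape.up ℤ) 0 N').inv ≫
    (HomologicalComplex.singleObjXSelf (ComplexShape.up ℤ) 0 N').hom).hom _ = _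
  rw [Iso.inv_hom_id]
  rfl

section Compl

variable (I : Ideal A) (M : Type u) [AddCommGroup M] [Module A M]

/-- the differential `Č⁰ ⟶ Č¹` -/
noncomputable abbrev dC : ((extCech (ModuleCat.of A A) fs).X 0) →ₗ[A]
    ((extCech (ModuleCat.of A A) fs).X 1) :=
  ((extCech (ModuleCat.of A A) fs).d 0 1).hom

/-- the map `M ⊗ Č⁰ ⟶ M` -/
noncomputable abbrev abar : (M ⊗[A] ((extCech (ModuleCat.of A A) fs).X 0)) →ₗ[A] M :=
  abarN fs a (ModuleCat.of A M)

omit [IsNoetherianRing A] in
theorem bridge_d (n : ℕ) (q : (M ⊗[A] ((extCech (ModuleCat.of A A) fs).X 0)) ⧸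
    (I ^ n • ⊤ : Submodule A (M ⊗[A] ((extCech (ModuleCat.of A A) fs).X 0)))) :
    ((dC fs).lTensor (M ⧸ (I ^ n • ⊤ : Submodule A M)))
        (bridgeLin I n M ((extCech (ModuleCat.of A A) fs).X 0) q) =
      bridgeLin I n M ((extCech (ModuleCat.of A A) fs).X 1)
        (quotMap I n ((dC fs).lTensor M) q) :=
  (LinearMap.congr_fun (bridgeLin_naturality I n M (dC fs)) q).symm

include hnat in
theorem bridge_abar (n : ℕ) (q : (M ⊗[A] ((extCech (ModuleCat.of A A) fs).X 0)) ⧸
    (I ^ n • ⊤ : Submodule A (M ⊗[A] ((extCech (ModuleCat.of A A) fs).X 0)))) :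
    abarN fs a (Mq I M n) (bridgeLin I n M ((extCech (ModuleCat.of A A) fs).X 0) q) =
      quotMap I n (abar fs a M) q := by
  obtain ⟨t, rfl⟩ := Submodule.mkQ_surjective _ q
  exact abarN_natural fs a hnat
    (ModuleCat.ofHom (Submodule.mkQ (I ^ n • ⊤ : Submodule A M)) :
      ModuleCat.of A M ⟶ Mq I M n) t

include hE hnat in
theorem completion_cocycle_eq_zero
    (x : AdicCompletion I (M ⊗[A] ((extCech (ModuleCat.of A A) fs).X 0)))
    (hx : complMap I ((dC fs).lTensor M) x = 0) (h0 : complMap I (abar fs a M) x = 0) :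
    x = 0 := by
  apply AdicCompletion.ext
  intro n
  refine (bridgeLin_bijective I n M ((extCech (ModuleCat.of A A) fs).X 0)).1
    (?_ : bridgeLin I n M _ (x.val n) = bridgeLin I n M _ 0)
  rw [map_zero]
  apply eq_zero_of_a_eq_zero fs J a E hE (Mq I M n)
    (bridgeLin I n M ((extCech (ModuleCat.of A A) fs).X 0) (x.val n))
  · change ((dC fs).lTensor (M ⧸ (I ^ n • ⊤ : Submodule A M))) _ = 0
    rw [bridge_d]
    have h1 : quotMap I n ((dC fs).lTensor M) (x.val n) =
      (complMap I ((dC fs).lTensor M) x).val n := rfl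
    rw [h1, hx]
    exact map_zero _
  · apply chi_injective
    rw [map_zero]
    change abarN fs a (Mq I M n) _ = 0
    rw [bridge_abar fs a hnat]
    have h1 : quotMap I n (abar fs a M) (x.val n) = (complMap I (abar fs a M) x).val n := rfl
    rw [h1, h0]
    rfl

include hE hnat in
theorem completion_cocycle_mem
    (x : AdicCompletion I (M ⊗[A] ((extCech (ModuleCat.of A A) fs).X 0)))
    (hx : complMap I ((dC fs).lTensor M) x = 0) (n : ℕ) :
    (complMap I (abar fs a M) x).val n ∈
      DRing.torsionSub J (M ⧸ (I ^ n • ⊤ : Submodule A M)) := by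
  have h := chi_a_mem_torsionSub fs J a E hE (Mq I M n)
    (bridgeLin I n M ((extCech (ModuleCat.of A A) fs).X 0) (x.val n)) (by
      change ((dC fs).lTensor (M ⧸ (I ^ n • ⊤ : Submodule A M))) _ = 0
      rw [bridge_d]
      have h1 : quotMap I n ((dC fs).lTensor M) (x.val n) =
        (complMap I ((dC fs).lTensor M) x).val n := rfl
      rw [h1, hx]
      exact map_zero _)
  have h2 : chi (Mq I M n) (((a (Mq I M n)).f 0).hom
      (bridgeLin I n M ((extCech (ModuleCat.of A A) fs).X 0) (x.val n))) =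
      (complMap I (abar fs a M) x).val n := bridge_abar fs a hnat I M n (x.val n)
  rw [h2] at h
  exact h

include hE hnat in
theorem exists_completion_cocycle (v : AdicCompletion I M)
    (hv : ∀ n, v.val n ∈ DRing.torsionSub J (M ⧸ (I ^ n • ⊤ : Submodule A M))) :
    ∃ x : AdicCompletion I (M ⊗[A] ((extCech (ModuleCat.of A A) fs).X 0)),
      complMap I ((dC fs).lTensor M) x = 0 ∧ complMap I (abar fs a M) x = v := by
  choose y₀ hy hay using fun n =>
    exists_cocycle_of_mem_torsionSub fs J a E hE (Mq I M n) (v.val n) (hv n)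
  obtain ⟨y, hyy₀⟩ : ∃ y : ∀ n : ℕ, (M ⧸ (I ^ n • ⊤ : Submodule A M)) ⊗[A]
      ((extCech (ModuleCat.of A A) fs).X 0), ∀ n, y n = y₀ n := ⟨y₀, fun n => rfl⟩
  choose xq hxq using fun n =>
    (bridgeLin_bijective I n M ((extCech (ModuleCat.of A A) fs).X 0)).2 (y n)
  have hy' : ∀ n, ((dC fs).lTensor (M ⧸ (I ^ n • ⊤ : Submodule A M))) (y n) = 0 := fun n => by
    rw [hyy₀ n]
    exact hy n
  have hay' : ∀ n, abarN fs a (Mq I M n) (y n) = v.val n := fun n => by
    rw [hyy₀ n]
    exact hay n
  -- compatibility of the `y n`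
  have hyy : ∀ n, ((mqMap I M n).hom.rTensor ((extCech (ModuleCat.of A A) fs).X 0)) (y (n + 1)) =
      y n := by
    intro n
    have hdiff : ((mqMap I M n).hom.rTensor ((extCech (ModuleCat.of A A) fs).X 0)) (y (n + 1)) -
        y n = 0 := by
      apply eq_zero_of_a_eq_zero fs J a E hE (Mq I M n)
      · change ((dC fs).lTensor (M ⧸ (I ^ n • ⊤ : Submodule A M))) _ = 0
        rw [map_sub, hy' n, sub_zero, ← LinearMap.comp_apply, LinearMap.lTensor_comp_rTensor,
          ← LinearMap.rTensor_comp_lTensor, LinearMap.comp_apply, hy' (n + 1), map_zero]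
      · apply chi_injective
        rw [map_zero]
        change abarN fs a (Mq I M n) _ = 0
        rw [map_sub, abarN_natural fs a hnat (mqMap I M n), hay' n, hay' (n + 1), sub_eq_zero]
        have h1 := v.2 (Nat.le_succ n)
        rw [← h1]
        obtain ⟨m, hm⟩ := Submodule.mkQ_surjective _ (v.val (n + 1))
        rw [← hm]
        rfl
    exact sub_eq_zero.mp hdiff
  have hcompat : ∀ n, AdicCompletion.transitionMap I
      (M ⊗[A] ((extCech (ModuleCat.of A A) fs).X 0)) (Nat.le_succ n) (xq (n + 1)) = xq n := by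
    intro n
    apply (bridgeLin_bijective I n M ((extCech (ModuleCat.of A A) fs).X 0)).1
    have h1 := LinearMap.congr_fun
      (bridgeLin_transition I n M ((extCech (ModuleCat.of A A) fs).X 0)) (xq (n + 1))
    rw [LinearMap.comp_apply, LinearMap.comp_apply, hxq (n + 1)] at h1
    rw [← h1, hxq n]
    exact hyy n
  refine ⟨⟨xq, transitionMap_of_succ I xq hcompat⟩, ?_, ?_⟩
  · apply AdicCompletion.ext
    intro n
    refine (bridgeLin_bijective I n M ((extCech (ModuleCat.of A A) fs).X 1)).1
      (?_ : bridgeLin I n M _ (quotMap I n ((dC fs).lTensor M) (xq n)) = bridgeLin I n M _ 0)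
    rw [map_zero, ← bridge_d, hxq n, hy' n]
  · apply AdicCompletion.ext
    intro n
    change quotMap I n (abar fs a M) (xq n) = v.val n
    rw [← bridge_abar fs a hnat, hxq n, hay' n]

end Compl

end Cech

end Groth.Agent.Helper11.AdicTw
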