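import Groth.Agent.Lib.Helper11.AdicTw8
import Groth.Agent.Lib.Helper11.AdicTw7
import Groth.Agent.Lib.Helper11.AdicDC4

/-!
# `H⁰` of the derived completion of `RΓ_J(M)` over an adically complete ring (helper11)
-/

set_option autoImplicit false
set_option linter.unusedSectionVars false
set_option linter.unusedVariables false
set_option linter.style.haveILetI false

open CategoryTheory CategoryTheory.Limits MonoidalCategory DerivedCategory
open scoped TensorProduct

universe u

attribute [local instance] HasDerivedCategory.standard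

namespace Groth.Agent.Helper11.AdicTw

open DerCA Groth.Agent.Helper11.SgTens Groth.Agent.Helper11.H0Cx Groth.Agent.Helper11.RGamH0
  Groth.Agent.Helper11.DCP Groth.Agent.Helper11.CechN

variable {A : Type u} [CommRing A] [IsNoetherianRing A] (I : Ideal A)

/-- the derived completion of a finite module placed in degree `0` is its termwise completion -/
theorem exists_iso_completion_sg [DRing.HasDerivedCompletion I] (M : Type u) [AddCommGroup M]
    [Module A M] [Module.Finite A M] :
    ∃ e : ((DRing.derivedCompletion I).obj (Q.obj (SgTens.sg (ModuleCat.of A M)))).obj ≅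
        Q.obj (complCx I (SgTens.sg (ModuleCat.of A M))),
      DRing.toDerivedCompletion I (Q.obj (SgTens.sg (ModuleCat.of A M))) ≫ e.hom =
        Q.map (ιCx I (SgTens.sg (ModuleCat.of A M))) := by
  have hI : I.FG := IsNoetherian.noetherian I
  refine exists_iso_completion I _ _ _ (isDerivedComplete_complCx I hI _) ?_
  haveI : Module.Flat A A := inferInstance
  have h1 : TermUniv (complF I) (ιF I) (DRing.IsDerivedComplete I)
      (ModuleCat.of A (M ⊗[A] A)) := termUniv_tensor I M A
  have h2 : TermUniv (complF I) (ιF I) (DRing.IsDerivedComplete I) (ModuleCat.of A M) :=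
    h1.of_iso (TensorProduct.rid A M).toModuleIso
  exact h2 0

omit [IsNoetherianRing A] in
/-- the termwise completion of a morphism of complexes -/
noncomputable def complMapCx {G G' : DRing.Cx A} (φ : G ⟶ G') : complCx I G ⟶ complCx I G' :=
  ((complF I).mapHomologicalComplex (ComplexShape.up ℤ)).map φ

omit [IsNoetherianRing A] in
theorem complMapCx_f {G G' : DRing.Cx A} (φ : G ⟶ G') (q : ℤ) :
    (complMapCx I φ).f q = (complF I).map (φ.f q) := rfl

omit [IsNoetherianRing A] in
theorem ιCx_naturality {G G' : DRing.Cx A} (φ : G ⟶ G') :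
    φ ≫ ιCx I G' = ιCx I G ≫ complMapCx I φ :=
  ιc_naturality (complF I) (ιF I) φ

section Cech

variable (fs : List A) (J : Ideal A) [DRing.HasRgammaI J]
  (a : ∀ N : ModuleCat.{u} A, tens N (extCech (ModuleCat.of A A) fs) ⟶ SgTens.sg N)
  (E : ∀ N : ModuleCat.{u} A, Q.obj (tens N (extCech (ModuleCat.of A A) fs)) ≅
    (DRing.RgammaI J).obj ((DerivedCategory.singleFunctor (ModuleCat.{u} A) 0).obj N))
  (hE : ∀ N : ModuleCat.{u} A, (E N).hom ≫ (DRing.RgammaIε J).app
    ((DerivedCategory.singleFunctor (ModuleCat.{u} A) 0).obj N) = Q.map (a N))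
  (hnat : ∀ {N N' : ModuleCat.{u} A} (f : N ⟶ N'),
    tensMap f (extCech (ModuleCat.of A A) fs) ≫ a N' =
      a N ≫ (HomologicalComplex.single (ModuleCat.{u} A) (ComplexShape.up ℤ) 0).map f)
  (M : Type u) [AddCommGroup M] [Module A M]

omit [IsNoetherianRing A] in
theorem complMap_a_eq_of (x : AdicCompletion I (M ⊗[A] ((extCech (ModuleCat.of A A) fs).X 0)))
    (s : M) (h : complMap I (abar fs a M) x = AdicCompletion.of I M s) :
    complMap I ((a (ModuleCat.of A M)).f 0).hom x =
      AdicCompletion.of I _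
        ((HomologicalComplex.singleObjXSelf (ComplexShape.up ℤ) 0 (ModuleCat.of A M)).inv.hom s) := by
  let χi : M →ₗ[A] (SgTens.sg (ModuleCat.of A M)).X 0 :=
    (HomologicalComplex.singleObjXSelf (ComplexShape.up ℤ) 0 (ModuleCat.of A M)).inv.hom
  have hc : χi ∘ₗ abar fs a M = ((a (ModuleCat.of A M)).f 0).hom := by
    apply LinearMap.ext
    intro t
    change ((HomologicalComplex.singleObjXSelf (ComplexShape.up ℤ) 0 (ModuleCat.of A M)).hom ≫
      (HomologicalComplex.singleObjXSelf (ComplexShape.up ℤ) 0 (ModuleCat.of A M)).inv).hom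
        (((a (ModuleCat.of A M)).f 0).hom t) = _
    rw [Iso.hom_inv_id]
    rfl
  have h1 := congrArg (complMap I χi) h
  have h2 : complMap I χi (complMap I (abar fs a M) x) =
      complMap I (χi ∘ₗ abar fs a M) x := AdicCompletion.map_comp_apply I _ _ x
  have h3 : complMap I χi (AdicCompletion.of I M s) = AdicCompletion.of I _ (χi s) :=
    AdicCompletion.map_of I χi s
  rw [h2, h3, hc] at h1
  exact h1

omit [IsNoetherianRing A] in
theorem complMap_abar_eq (x : AdicCompletion I (M ⊗[A] ((extCech (ModuleCat.of A A) fs).X 0))) :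
    complMap I (abar fs a M) x =
      complMap I (chi (ModuleCat.of A M)) (complMap I ((a (ModuleCat.of A M)).f 0).hom x) :=
  (AdicCompletion.map_comp_apply I _ _ x).symm

omit [IsNoetherianRing A] in
theorem d_hat_a (x : AdicCompletion I (M ⊗[A] ((extCech (ModuleCat.of A A) fs).X 0)))
    (hx : complMap I ((dC fs).lTensor M) x = 0) :
    ((complCx I (SgTens.sg (ModuleCat.of A M))).d 0 1).hom
      (complMap I ((a (ModuleCat.of A M)).f 0).hom x) = 0 :=
  d_map (complMapCx I (a (ModuleCat.of A M)))
    (K := complCx I (tens (ModuleCat.of A M) (extCech (ModuleCat.of A A) fs))) x hx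

omit [IsNoetherianRing A] in
theorem clD_hat_a (x : AdicCompletion I (M ⊗[A] ((extCech (ModuleCat.of A A) fs).X 0)))
    (hx : complMap I ((dC fs).lTensor M) x = 0) :
    ((homologyFunctor (ModuleCat.{u} A) 0).map
      (Q.map (complMapCx I (a (ModuleCat.of A M))))).hom
        (clD (complCx I (tens (ModuleCat.of A M) (extCech (ModuleCat.of A A) fs))) x hx) =
      clD (complCx I (SgTens.sg (ModuleCat.of A M)))
        (complMap I ((a (ModuleCat.of A M)).f 0).hom x) (d_hat_a I fs a M x hx) :=
  clD_map (complMapCx I (a (ModuleCat.of A M)))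
    (K := complCx I (tens (ModuleCat.of A M) (extCech (ModuleCat.of A A) fs))) x hx

omit [IsNoetherianRing A] in
theorem d_of_sg (s : M) :
    ((complCx I (SgTens.sg (ModuleCat.of A M))).d 0 1).hom
      (AdicCompletion.of I ((SgTens.sg (ModuleCat.of A M)).X 0)
        ((HomologicalComplex.singleObjXSelf (ComplexShape.up ℤ) 0
          (ModuleCat.of A M)).inv.hom s)) = 0 :=
  d_map (ιCx I (SgTens.sg (ModuleCat.of A M))) _ (d_single (ModuleCat.of A M) _)

omit [IsNoetherianRing A] in
theorem H0_ιS (s : M) :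
    ((homologyFunctor (ModuleCat.{u} A) 0).map
      (Q.map (ιCx I (SgTens.sg (ModuleCat.of A M))))).hom
        (((singleFunctorCompHomologyFunctorIso (ModuleCat.{u} A) 0).inv.app
          (ModuleCat.of A M)).hom s) =
      clD (complCx I (SgTens.sg (ModuleCat.of A M)))
        (AdicCompletion.of I ((SgTens.sg (ModuleCat.of A M)).X 0)
          ((HomologicalComplex.singleObjXSelf (ComplexShape.up ℤ) 0
            (ModuleCat.of A M)).inv.hom s)) (d_of_sg I M s) := by
  rw [sigma_inv_apply]
  exact clD_map (ιCx I (SgTens.sg (ModuleCat.of A M))) _ (d_single (ModuleCat.of A M) _)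

variable [IsAdicComplete I A] [Module.Finite A M]

set_option maxHeartbeats 1000000 in
include hE hnat in
/-- the map induced on `H⁰` by the termwise completion of `M ⊗ Č ⟶ M[0]` -/
theorem H0_hat_a :
    (∀ c : (homologyFunctor (ModuleCat.{u} A) 0).obj
        (Q.obj (complCx I (tens (ModuleCat.of A M) (extCech (ModuleCat.of A A) fs)))),
      ((homologyFunctor (ModuleCat.{u} A) 0).map
        (Q.map (complMapCx I (a (ModuleCat.of A M))))).hom c = 0 → c = 0) ∧
    ∀ c' : (homologyFunctor (ModuleCat.{u} A) 0).obj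
        (Q.obj (complCx I (SgTens.sg (ModuleCat.of A M)))),
      (∃ c, ((homologyFunctor (ModuleCat.{u} A) 0).map
        (Q.map (complMapCx I (a (ModuleCat.of A M))))).hom c = c') ↔
      ∃ s : M, (∃ J' : Ideal A, J' ≤ J ∧ J ≤ (J' ⊔ I).radical ∧ s ∈ DRing.torsionSub J' M) ∧
        c' = ((homologyFunctor (ModuleCat.{u} A) 0).map
          (Q.map (ιCx I (SgTens.sg (ModuleCat.of A M))))).hom
            (((singleFunctorCompHomologyFunctorIso (ModuleCat.{u} A) 0).inv.app
              (ModuleCat.of A M)).hom s) := by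
  haveI : IsAdicComplete I M := Groth.Agent.Helper11.AdicDC.isAdicComplete_of_finite A I M
  constructor
  · intro c hc
    obtain ⟨x₀, hx₀, rfl⟩ := clD_surjective _ c
    obtain ⟨x, hxx⟩ : ∃ x : AdicCompletion I (M ⊗[A] ((extCech (ModuleCat.of A A) fs).X 0)),
      x = x₀ := ⟨x₀, rfl⟩
    subst hxx
    have hx : complMap I ((dC fs).lTensor M) x = 0 := hx₀
    have hc' := (clD_hat_a I fs a M x hx).symm.trans hc
    obtain ⟨w, hw⟩ := (clD_eq_zero_iff _ _ _).mp hc'
    have hz : IsZero ((complCx I (SgTens.sg (ModuleCat.of A M))).X (-1)) :=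
      Functor.map_isZero (complF I) (isZero_sg_X (ModuleCat.of A M) (-1) (by norm_num))
    haveI := ModuleCat.subsingleton_of_isZero hz
    have h0 : complMap I ((a (ModuleCat.of A M)).f 0).hom x = 0 := by
      rw [Subsingleton.elim w 0, map_zero] at hw
      exact hw.symm
    have h1 : complMap I (abar fs a M) x = 0 :=
      (complMap_abar_eq I fs a M x).trans
        ((congrArg (complMap I (chi (ModuleCat.of A M))) h0).trans (map_zero _))
    have hx0 : x = 0 := completion_cocycle_eq_zero fs J a E hE hnat I M x hx h1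
    exact (clD_eq_zero_iff
      (complCx I (tens (ModuleCat.of A M) (extCech (ModuleCat.of A A) fs))) x hx).mpr
        ⟨0, (map_zero _).trans hx0.symm⟩
  · intro c'
    constructor
    · rintro ⟨c, rfl⟩
      obtain ⟨x₀, hx₀, rfl⟩ := clD_surjective _ c
      obtain ⟨x, hxx⟩ : ∃ x : AdicCompletion I (M ⊗[A] ((extCech (ModuleCat.of A A) fs).X 0)),
        x = x₀ := ⟨x₀, rfl⟩
      subst hxx
      have hx : complMap I ((dC fs).lTensor M) x = 0 := hx₀
      have hmem := completion_cocycle_mem fs J a E hE hnat I M x hx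
      obtain ⟨s, hs⟩ := AdicCompletion.of_surjective I M (complMap I (abar fs a M) x)
      have hsT : ∀ n : ℕ, (Submodule.Quotient.mk s : M ⧸ (I ^ n • ⊤ : Submodule A M)) ∈
          DRing.torsionSub J (M ⧸ (I ^ n • ⊤ : Submodule A M)) := fun n => by
        have h := hmem n
        rw [← hs] at h
        exact h
      refine ⟨s, (forall_mk_mem_torsionSub_iff I J M s).mp hsT, ?_⟩
      exact (clD_hat_a I fs a M x hx).trans
        ((clD_congr _ _ _ (complMap_a_eq_of I fs a M x s hs.symm) _).trans (H0_ιS I M s).symm)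
    · rintro ⟨s, hsT, rfl⟩
      have hsT' := (forall_mk_mem_torsionSub_iff I J M s).mpr hsT
      obtain ⟨x, hx, hxs⟩ := exists_completion_cocycle fs J a E hE hnat I M
        (AdicCompletion.of I M s) hsT'
      refine ⟨clD (complCx I (tens (ModuleCat.of A M) (extCech (ModuleCat.of A A) fs))) x hx, ?_⟩
      exact (clD_hat_a I fs a M x hx).trans
        ((clD_congr _ _ _ (complMap_a_eq_of I fs a M x s hxs) _).trans (H0_ιS I M s).symm)

omit [IsNoetherianRing A] in
theorem unit_hatF_map [DRing.HasDerivedCompletion I] {K K' : Dual.D A} (f : K ⟶ K') :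
    DRing.toDerivedCompletion I K ≫
      (DRing.derivedCompletion I ⋙ ObjectProperty.ι (DRing.IsDerivedComplete I)).map f =
        f ≫ DRing.toDerivedCompletion I K' :=
  ((DRing.derivedCompletionAdj I).unit.naturality f).symm

set_option maxHeartbeats 1000000 in
include hE hnat in
/-- the core of statement S13497, for a morphism `ε'` with the universal property of the counit -/
theorem S13497_core [DRing.HasDerivedCompletion I]
    (hfs : Ideal.span {x : A | x ∈ fs} = J)
    (ε' : (DRing.RgammaI J).obj ((DerivedCategory.singleFunctor (ModuleCat.{u} A) 0).obj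
      (ModuleCat.of A M)) ⟶ Q.obj (SgTens.sg (ModuleCat.of A M)))
    (hε' : (E (ModuleCat.of A M)).hom ≫ ε' = Q.map (a (ModuleCat.of A M))) :
    Function.Injective ((homologyFunctor (ModuleCat.{u} A) 0).map
      ((DRing.derivedCompletion I ⋙ ObjectProperty.ι (DRing.IsDerivedComplete I)).map ε')).hom ∧
    Set.range ((homologyFunctor (ModuleCat.{u} A) 0).map
      ((DRing.derivedCompletion I ⋙ ObjectProperty.ι (DRing.IsDerivedComplete I)).map ε')).hom =
      (fun s : M => ((homologyFunctor (ModuleCat.{u} A) 0).map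
        (DRing.toDerivedCompletion I (Q.obj (SgTens.sg (ModuleCat.of A M))))).hom
          (((singleFunctorCompHomologyFunctorIso (ModuleCat.{u} A) 0).inv.app
            (ModuleCat.of A M)).hom s)) ''
        {s : M | ∃ J' : Ideal A, J' ≤ J ∧ J ≤ (J' ⊔ I).radical ∧
          s ∈ DRing.torsionSub J' M} := by
  have hfl : ∀ q, Module.Flat A ((extCech (ModuleCat.of A A) fs).X q) := flat_extCech_X fs
  have hČ : DRing.VanishesOutside (extCech (ModuleCat.of A A) fs) 0 (fs.length : ℤ) :=
    fun i hi => Groth.Agent.Helper11.LDCx.isZero_extCech_X _ fs i hi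
  obtain ⟨ecG, hecG⟩ := exists_iso_completion_tens I M (extCech (ModuleCat.of A A) fs) 0
    (fs.length : ℤ) hČ hfl
  obtain ⟨ecS, hecS⟩ := exists_iso_completion_sg I M
  obtain ⟨hCinj, hCrange⟩ := H0_hat_a I fs J a E hE hnat M
  have hI : I.FG := IsNoetherian.noetherian I
  let H := homologyFunctor (ModuleCat.{u} A) 0
  let hatF := DRing.derivedCompletion I ⋙ ObjectProperty.ι (DRing.IsDerivedComplete I)
  -- the square
  have hSQ : hatF.map (Q.map (a (ModuleCat.of A M))) ≫ ecS.hom =
      ecG.hom ≫ Q.map (complMapCx I (a (ModuleCat.of A M))) := by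
    apply (bijective_unit_comp I _ _ (isDerivedComplete_complCx I hI
      (SgTens.sg (ModuleCat.of A M)))).1
    change DRing.toDerivedCompletion I _ ≫ hatF.map (Q.map (a (ModuleCat.of A M))) ≫ ecS.hom =
      DRing.toDerivedCompletion I _ ≫ ecG.hom ≫ Q.map (complMapCx I (a (ModuleCat.of A M)))
    rw [← Category.assoc, unit_hatF_map, Category.assoc, hecS, ← Category.assoc, hecG,
      ← Q.map_comp, ← Q.map_comp, ιCx_naturality]
  -- factorization of the counit
  have hε : ε' = (E (ModuleCat.of A M)).inv ≫ Q.map (a (ModuleCat.of A M)) := by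
    rw [← hε', Iso.inv_hom_id_assoc]
  have hhat : hatF.map ε' =
      hatF.map (E (ModuleCat.of A M)).inv ≫ ecG.hom ≫
        Q.map (complMapCx I (a (ModuleCat.of A M))) ≫ ecS.inv := by
    rw [hε, Functor.map_comp, ← Category.assoc ecG.hom, ← hSQ, Category.assoc, Iso.hom_inv_id,
      Category.comp_id]
  let Θ₁ := H.mapIso (hatF.mapIso (E (ModuleCat.of A M)).symm) ≪≫ H.mapIso ecG
  let Θ₂ := H.mapIso ecS.symm
  have hΦ : H.map (hatF.map ε') =
      Θ₁.hom ≫ H.map (Q.map (complMapCx I (a (ModuleCat.of A M)))) ≫ Θ₂.hom := by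
    rw [hhat, H.map_comp, H.map_comp, H.map_comp]
    rfl
  have hunit : H.map (DRing.toDerivedCompletion I (Q.obj (SgTens.sg (ModuleCat.of A M)))) =
      H.map (Q.map (ιCx I (SgTens.sg (ModuleCat.of A M)))) ≫ Θ₂.hom := by
    have h1 : DRing.toDerivedCompletion I (Q.obj (SgTens.sg (ModuleCat.of A M))) =
        Q.map (ιCx I (SgTens.sg (ModuleCat.of A M))) ≫ ecS.inv := by
      rw [← hecS, Category.assoc, Iso.hom_inv_id, Category.comp_id]
    rw [h1, H.map_comp]
    rfl
  have hΘ₁inj : Function.Injective Θ₁.hom.hom := (ModuleCat.mono_iff_injective _).mp inferInstance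
  have hΘ₂inj : Function.Injective Θ₂.hom.hom := (ModuleCat.mono_iff_injective _).mp inferInstance
  have hΘ₁surj : Function.Surjective Θ₁.hom.hom :=
    (ModuleCat.epi_iff_surjective _).mp inferInstance
  have hΦapp : ∀ w, (H.map (hatF.map ε')).hom w =
      Θ₂.hom.hom ((H.map (Q.map (complMapCx I (a (ModuleCat.of A M))))).hom (Θ₁.hom.hom w)) :=
    fun w => congrArg (fun t => t.hom w) hΦ
  have huapp : ∀ s : M,
      (H.map (DRing.toDerivedCompletion I (Q.obj (SgTens.sg (ModuleCat.of A M))))).hom
        (((singleFunctorCompHomologyFunctorIso (ModuleCat.{u} A) 0).inv.app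
          (ModuleCat.of A M)).hom s) =
      Θ₂.hom.hom ((H.map (Q.map (ιCx I (SgTens.sg (ModuleCat.of A M))))).hom
        (((singleFunctorCompHomologyFunctorIso (ModuleCat.{u} A) 0).inv.app
          (ModuleCat.of A M)).hom s)) :=
    fun s => congrArg (fun t => t.hom
      (((singleFunctorCompHomologyFunctorIso (ModuleCat.{u} A) 0).inv.app
        (ModuleCat.of A M)).hom s)) hunit
  constructor
  · rw [injective_iff_map_eq_zero]
    intro w hw
    have hw' : (H.map (hatF.map ε')).hom w = 0 := hw
    rw [hΦapp] at hw'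
    have h1 := hΘ₂inj (hw'.trans (map_zero _).symm)
    have h2 := hCinj _ h1
    exact hΘ₁inj (h2.trans (map_zero _).symm)
  · ext w
    constructor
    · rintro ⟨w0, rfl⟩
      obtain ⟨s, hsT, hs⟩ := (hCrange _).mp ⟨Θ₁.hom.hom w0, rfl⟩
      refine ⟨s, hsT, ?_⟩
      change (H.map (DRing.toDerivedCompletion I (Q.obj (SgTens.sg (ModuleCat.of A M))))).hom _ =
        (H.map (hatF.map ε')).hom w0
      rw [huapp, hΦapp, hs]
    · rintro ⟨s, hsT, rfl⟩
      obtain ⟨c, hc⟩ := (hCrange _).mpr ⟨s, hsT, rfl⟩
      obtain ⟨w0, rfl⟩ := hΘ₁surj c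
      refine ⟨w0, ?_⟩
      change (H.map (hatF.map ε')).hom w0 =
        (H.map (DRing.toDerivedCompletion I (Q.obj (SgTens.sg (ModuleCat.of A M))))).hom _
      rw [huapp, hΦapp, hc]

end Cech

section Final

variable (J : Ideal A) [IsAdicComplete I A] [DRing.HasRgammaI J] [DRing.HasDerivedCompletion I]
  (M : Type u) [AddCommGroup M] [Module A M] [Module.Finite A M]

/-- **statement S13497** -/
theorem S13497_statement :
    Function.Injective ((DerivedCategory.homologyFunctor (ModuleCat.{u} A) 0).map
      ((ObjectProperty.ι (DRing.IsDerivedComplete I)).map ((DRing.derivedCompletion I).map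
        ((DRing.RgammaIε J).app (Dual.inD A M))))).hom ∧
    Set.range ((DerivedCategory.homologyFunctor (ModuleCat.{u} A) 0).map
      ((ObjectProperty.ι (DRing.IsDerivedComplete I)).map ((DRing.derivedCompletion I).map
        ((DRing.RgammaIε J).app (Dual.inD A M))))).hom =
      (fun s : M => ((DerivedCategory.homologyFunctor (ModuleCat.{u} A) 0).map
        (DRing.toDerivedCompletion I (Dual.inD A M))).hom
          (((DerivedCategory.singleFunctorCompHomologyFunctorIso (ModuleCat.{u} A) 0).inv.app
            (ModuleCat.of A M)).hom s)) ''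
        {s : M | ∃ J' : Ideal A, J' ≤ J ∧ J ≤ (J' ⊔ I).radical ∧
          s ∈ DRing.torsionSub J' M} := by
  obtain ⟨gs, hgs⟩ := Groth.Agent.Helper11.GM.exists_list_span (I := J)
  obtain ⟨a, E, hE, hnat, -⟩ := exists_cech_iso_module' gs J hgs
  exact S13497_core I gs J a E hE hnat M hgs ((DRing.RgammaIε J).app (Dual.inD A M))
    (hE (ModuleCat.of A M))

end Final

end Groth.Agent.Helper11.AdicTw
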