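import Mathlib

/-!
# Algebraic independence of `x₁, …, xₙ, Σ γᵢ xᵢ, γ₀` in `K[x₁, …, xₙ]`

If `γ i₁, γ i₀ ∈ K` are algebraically independent over a subfield `k`, then the variables
`x_i`, the linear form `Σ γ_i x_i` and the constant `γ i₀` are algebraically independent over `k`
inside `K[x]`.
-/

set_option autoImplicit false

namespace Groth.Agent.Helper11.AlgIndA

open MvPolynomial

section pair

variable {k A : Type*} [Field k] [CommRing A] [Algebra k A]

/-- A pair `(t, s)` is algebraically independent iff `s` is transcendental and `t` is transcendental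
over the algebra generated by `s`. -/
theorem pair_iff (t s : A) :
    AlgebraicIndependent k ![t, s] ↔
      Transcendental k s ∧ Transcendental (Algebra.adjoin k {s}) t := by
  have h1 : (fun o : Option (Fin 1) => o.elim t (fun _ : Fin 1 => s)) ∘ (finSuccEquiv 1) =
      ![t, s] := by
    funext i
    fin_cases i
    · simp
    · show (Option.elim ((finSuccEquiv 1) (Fin.succ 0)) t fun _ => s) = s
      rw [finSuccEquiv_succ]
      rfl
  rw [algebraicIndependent_equiv' (finSuccEquiv 1) h1, AlgebraicIndependent.option_iff]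
  have h2 : Set.range (fun _ : Fin 1 => s) = {s} := Set.range_const
  rw [h2]
  have h3 : AlgebraicIndependent k (fun _ : Fin 1 => s) ↔ Transcendental k s :=
    algebraicIndependent_unique_type_iff
  rw [h3]

end pair

section core

variable {k K : Type*} [Field k] [Field K] [Algebra k K] {σ : Type*} [Fintype σ] [DecidableEq σ]

/-- The family `x_i, Σ γ_i x_i, γ i₀`. -/
noncomputable def fam (γ : σ → K) (i₀ : σ) : σ ⊕ Fin 2 → MvPolynomial σ K :=
  Sum.elim (fun i => X i) ![∑ i, C (γ i) * X i, C (γ i₀)]

theorem eval_aeval_fam (γ : σ → K) (i₀ : σ) (a : σ → K) (F : MvPolynomial (σ ⊕ Fin 2) k) :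
    eval a (aeval (fam γ i₀) F) = aeval (Sum.elim a ![∑ i, γ i * a i, γ i₀]) F := by
  have h : ((eval a : MvPolynomial σ K →+* K).comp (aeval (R := k) (fam γ i₀)).toRingHom) =
      (aeval (R := k) (Sum.elim a ![∑ i, γ i * a i, γ i₀])).toRingHom := by
    apply MvPolynomial.ringHom_ext
    · intro r
      simp [MvPolynomial.algebraMap_apply]
    · intro j
      rcases j with i | j
      · simp [fam]
      · fin_cases j
        · simp [fam, map_sum]
        · simp [fam]
  exact RingHom.congr_fun h F

theorem eval₂_sumAlgEquiv (u : Fin 2 → K) (a : σ → K) (F : MvPolynomial (σ ⊕ Fin 2) k) :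
    eval₂ (aeval (R := k) u).toRingHom a (sumAlgEquiv k σ (Fin 2) F) =
      aeval (Sum.elim a u) F := by
  have h : ((eval₂Hom (aeval (R := k) u).toRingHom a).comp
      (sumAlgEquiv k σ (Fin 2)).toAlgHom.toRingHom) =
      (aeval (R := k) (Sum.elim a u)).toRingHom := by
    apply MvPolynomial.ringHom_ext
    · intro r
      simp
    · intro j
      rcases j with i | j
      · simp
      · simp
  exact RingHom.congr_fun h F

variable (γ : σ → K) (i₀ i₁ : σ)

/-- The linear form evaluated at the point given by polynomials in `γ i₀`. -/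
noncomputable def xi (q : σ → Polynomial k) : K := ∑ i, γ i * Polynomial.aeval (γ i₀) (q i)

/-- Shift the `i₁`-th coordinate by `l`. -/
noncomputable def shift (q : σ → Polynomial k) (i₁ : σ) (l : Polynomial k) : σ → Polynomial k :=
  q + Pi.single i₁ l

theorem shift_apply_self (q : σ → Polynomial k) (i₁ : σ) (l : Polynomial k) :
    shift q i₁ l i₁ = q i₁ + l := by
  simp [shift]

theorem shift_apply_ne (q : σ → Polynomial k) (i₁ : σ) (l : Polynomial k) {i : σ} (hi : i ≠ i₁) :
    shift q i₁ l i = q i := by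
  simp [shift, hi]

theorem shift_zero (q : σ → Polynomial k) (i₁ : σ) : shift q i₁ 0 = q := by
  simp [shift]

theorem xi_add_single (q : σ → Polynomial k) (l : Polynomial k) :
    xi γ i₀ (shift q i₁ l) = xi γ i₀ q + γ i₁ * Polynomial.aeval (γ i₀) l := by
  unfold xi shift
  have h : ∀ i, γ i * Polynomial.aeval (γ i₀) ((Pi.single i₁ l : σ → Polynomial k) i) =
      if i = i₁ then γ i₁ * Polynomial.aeval (γ i₀) l else 0 := by
    intro i
    by_cases hi : i = i₁
    · subst hi; simp
    · simp [hi]
  simp only [Pi.add_apply, map_add, mul_add, Finset.sum_add_distrib]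
  congr 1
  simp_rw [h]
  simp

theorem good_eval {F : MvPolynomial (σ ⊕ Fin 2) k} (hF : aeval (fam γ i₀) F = 0)
    (q : σ → Polynomial k) (hq : AlgebraicIndependent k ![xi γ i₀ q, γ i₀]) :
    eval (fun i => Polynomial.aeval (X 1 : MvPolynomial (Fin 2) k) (q i))
      (sumAlgEquiv k σ (Fin 2) F) = 0 := by
  set φ : MvPolynomial (Fin 2) k →ₐ[k] K := aeval (R := k) ![xi γ i₀ q, γ i₀] with hφdef
  have hφ : Function.Injective φ := (algebraicIndependent_iff_injective_aeval).mp hq
  apply hφ
  rw [map_zero]
  set x : σ → MvPolynomial (Fin 2) k :=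
    fun i => Polynomial.aeval (X 1 : MvPolynomial (Fin 2) k) (q i) with hx
  set F' := sumAlgEquiv k σ (Fin 2) F with hF'
  have h1 : φ.toRingHom (eval x F') = eval₂ φ.toRingHom (fun i => φ (x i)) F' := by
    have h := MvPolynomial.eval₂_comp_left φ.toRingHom (RingHom.id _) x F'
    rw [MvPolynomial.eval₂_id, RingHom.comp_id] at h
    exact h
  have h2 : (fun i => φ (x i)) = fun i => Polynomial.aeval (γ i₀) (q i) := by
    funext i
    rw [hx]
    show φ (Polynomial.aeval (X 1 : MvPolynomial (Fin 2) k) (q i)) = _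
    rw [← Polynomial.aeval_algHom_apply]
    congr 1
    rw [hφdef, aeval_X]
    simp
  show φ.toRingHom (eval x F') = 0
  rw [h1, h2, hφdef, eval₂_sumAlgEquiv]
  have h3 := eval_aeval_fam (k := k) γ i₀ (fun i => Polynomial.aeval (γ i₀) (q i)) F
  rw [hF, map_zero] at h3
  rw [h3]
  rfl

theorem bad_subsingleton (hγ : AlgebraicIndependent k ![γ i₁, γ i₀]) (q : σ → Polynomial k)
    (l l' : Polynomial k)
    (hl : ¬ AlgebraicIndependent k ![xi γ i₀ (shift q i₁ l), γ i₀])
    (hl' : ¬ AlgebraicIndependent k ![xi γ i₀ (shift q i₁ l'), γ i₀]) : l = l' := by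
  obtain ⟨h0, h1⟩ := (pair_iff _ _).mp hγ
  rw [pair_iff, not_and] at hl hl'
  have a1 : IsAlgebraic (Algebra.adjoin k {γ i₀}) (xi γ i₀ (shift q i₁ l)) :=
    not_not.mp (hl h0)
  have a2 : IsAlgebraic (Algebra.adjoin k {γ i₀}) (xi γ i₀ (shift q i₁ l')) :=
    not_not.mp (hl' h0)
  by_contra hne
  have hd : l - l' ≠ 0 := sub_ne_zero.mpr hne
  have hinj : Function.Injective (Polynomial.aeval (R := k) (γ i₀)) :=
    transcendental_iff_injective.mp h0
  have hb : Polynomial.aeval (γ i₀) (l - l') ≠ 0 := by
    intro h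
    exact hd (hinj (by rw [h, map_zero]))
  have hmem : Polynomial.aeval (γ i₀) (l - l') ∈ Algebra.adjoin k {γ i₀} := by
    rw [Algebra.adjoin_singleton_eq_range_aeval]
    exact ⟨l - l', rfl⟩
  have a3 : IsAlgebraic (Algebra.adjoin k {γ i₀}) (Polynomial.aeval (γ i₀) (l - l')) :=
    isAlgebraic_algebraMap (⟨_, hmem⟩ : Algebra.adjoin k {γ i₀})
  have a4 : IsAlgebraic (Algebra.adjoin k {γ i₀})
      (Polynomial.aeval (γ i₀) (l - l') * γ i₁) := by
    have := a1.sub a2
    rw [xi_add_single, xi_add_single] at this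
    have e : xi γ i₀ q + γ i₁ * Polynomial.aeval (γ i₀) l -
        (xi γ i₀ q + γ i₁ * Polynomial.aeval (γ i₀) l') =
        Polynomial.aeval (γ i₀) (l - l') * γ i₁ := by
      rw [map_sub]; ring
    rwa [e] at this
  exact h1 (IsAlgebraic.of_mul (mem_nonZeroDivisors_of_ne_zero hb) a3 a4)

theorem eval_eq_zero (hγ : AlgebraicIndependent k ![γ i₁, γ i₀])
    {F : MvPolynomial (σ ⊕ Fin 2) k} (hF : aeval (fam γ i₀) F = 0) (q : σ → Polynomial k) :
    eval (fun i => Polynomial.aeval (X 1 : MvPolynomial (Fin 2) k) (q i))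
      (sumAlgEquiv k σ (Fin 2) F) = 0 := by
  set ψ : Polynomial k →ₐ[k] MvPolynomial (Fin 2) k :=
    Polynomial.aeval (X 1 : MvPolynomial (Fin 2) k) with hψdef
  have hψ : Function.Injective ψ :=
    transcendental_iff_injective.mp
      ((MvPolynomial.algebraicIndependent_X (Fin 2) k).transcendental 1)
  set F' := sumAlgEquiv k σ (Fin 2) F with hF'
  let g : σ → Polynomial (MvPolynomial (Fin 2) k) :=
    fun i => Polynomial.C (ψ (q i)) + (Pi.single i₁ Polynomial.X : σ → _) i
  let P : Polynomial (MvPolynomial (Fin 2) k) :=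
    eval₂ (Polynomial.C : MvPolynomial (Fin 2) k →+* _) g F'
  have hP : ∀ l : Polynomial k, Polynomial.eval (ψ l) P =
      eval (fun i => ψ (shift q i₁ l i)) F' := by
    intro l
    have h := MvPolynomial.eval₂_comp_left (Polynomial.evalRingHom (ψ l))
      (Polynomial.C : MvPolynomial (Fin 2) k →+* _) g F'
    have hc : (Polynomial.evalRingHom (ψ l)).comp
        (Polynomial.C : MvPolynomial (Fin 2) k →+* _) = RingHom.id _ := by
      refine RingHom.ext fun r => ?_
      simp
    rw [hc, MvPolynomial.eval₂_id] at h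
    have hg : (⇑(Polynomial.evalRingHom (ψ l)) ∘ g) =
        fun i => ψ (shift q i₁ l i) := by
      funext i
      by_cases hi : i = i₁
      · subst hi
        simp [g, shift_apply_self]
      · simp [g, Pi.single_apply, hi, shift_apply_ne]
    rw [hg] at h
    exact h
  have hP0 : P = 0 := by
    apply Polynomial.eq_zero_of_infinite_isRoot
    let S : Set (Polynomial k) :=
      {l | AlgebraicIndependent k ![xi γ i₀ (shift q i₁ l), γ i₀]}
    have hSc : Sᶜ.Subsingleton := by
      intro l hl l' hl'
      exact bad_subsingleton γ i₀ i₁ hγ q l l' hl hl'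
    have hS : S.Infinite := by
      have := hSc.finite.infinite_compl
      rwa [compl_compl] at this
    have hroot : ∀ l ∈ S, Polynomial.eval (ψ l) P = 0 := by
      intro l hl
      have hl' : AlgebraicIndependent k ![xi γ i₀ (shift q i₁ l), γ i₀] := hl
      have h5 := good_eval γ i₀ hF (shift q i₁ l) hl'
      rw [hP l]
      exact h5
    refine (hS.image hψ.injOn).mono ?_
    rintro _ ⟨l, hl, rfl⟩
    exact hroot l hl
  have h0 := hP 0
  rw [hP0, Polynomial.eval_zero] at h0
  rw [shift_zero] at h0
  exact h0.symm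

/-- The family `x_i, Σ γ_i x_i, γ i₀` is algebraically independent over `k` as soon as
`γ i₁, γ i₀` are. -/
theorem algebraicIndependent_fam (hγ : AlgebraicIndependent k ![γ i₁, γ i₀]) :
    AlgebraicIndependent k (fam γ i₀) := by
  rw [algebraicIndependent_iff]
  intro F hF
  apply (sumAlgEquiv k σ (Fin 2)).injective
  rw [map_zero]
  set ψ : Polynomial k →ₐ[k] MvPolynomial (Fin 2) k :=
    Polynomial.aeval (X 1 : MvPolynomial (Fin 2) k) with hψdef
  have hψ : Function.Injective ψ :=
    transcendental_iff_injective.mp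
      ((MvPolynomial.algebraicIndependent_X (Fin 2) k).transcendental 1)
  apply MvPolynomial.funext_set (fun _ : σ => Set.range ψ)
    (fun _ => Set.infinite_range_of_injective hψ)
  intro x hx
  have hx' : ∀ i, ∃ l, ψ l = x i := fun i => hx i (Set.mem_univ i)
  choose q hq using hx'
  have hxq : x = fun i => ψ (q i) := funext fun i => (hq i).symm
  rw [hxq, map_zero]
  exact eval_eq_zero γ i₀ i₁ hγ hF q

end core

end Groth.Agent.Helper11.AlgIndA
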