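import Mathlib
import Groth.Agent.Lib.Helper16.Alg.RegLocA
import Groth.Agent.Lib.Helper11.AlgIndA

/-!
# Two elements cutting out a codimension two component are algebraically independent

For a finite type domain `A` over a field `k` and `g₀, g₁ ∈ A` such that some minimal prime `p`
over `(g₀, g₁)` has `dim A/p + 2 = dim A`, the elements `g₀, g₁` are algebraically independent
over `k`.  Consequence: algebraic independence of `x_i, Σ g_i x_i, g₀` in `Frac(A)(x)`.
-/

set_option autoImplicit false
universe u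

namespace Groth.Agent.Helper11.AlgIndB

open Groth.Agent.Helper11.AlgIndA

section dim

theorem height_eq_two (k : Type u) {A : Type u} [Field k] [CommRing A] [IsDomain A] [Algebra k A]
    [Algebra.FiniteType k A] (p : Ideal A) [p.IsPrime]
    (hdim : ringKrullDim (A ⧸ p) + 2 = ringKrullDim A) : p.height = 2 := by
  haveI : IsNoetherianRing A := Algebra.FiniteType.isNoetherianRing k A
  obtain ⟨n, -, hn, -⟩ := Groth.Agent.S2680.result k A
  haveI : Algebra.FiniteType k (A ⧸ p) :=
    Algebra.FiniteType.of_surjective (Ideal.Quotient.mkₐ k p) (Ideal.Quotient.mkₐ_surjective k p)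
  obtain ⟨n', -, hn', -⟩ := Groth.Agent.S2680.result k (A ⧸ p)
  have heq : ∀ P ∈ minimalPrimes A, ringKrullDim (A ⧸ P) = (n : WithBot ℕ∞) := by
    intro P hP
    rw [IsDomain.minimalPrimes_eq_singleton_bot, Set.mem_singleton_iff] at hP
    subst hP
    rw [ringKrullDim_eq_of_ringEquiv (RingEquiv.quotientBot A), hn]
  obtain ⟨r, hr1, hr2⟩ :=
    Groth.Agent.Helper16.RegLoc.height_add_trdeg_eq_of_equidim k A n heq p
  have ht := Groth.Agent.Helper16.RegLoc.trdeg_eq_of_dim k A p n' hn'
  have hrn : r = n' := by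
    rw [hr1] at ht
    exact_mod_cast ht
  subst hrn
  rw [hn, hn'] at hdim
  have hnn : r + 2 = n := by exact_mod_cast hdim
  have hfin : p.height ≠ ⊤ := Ideal.height_ne_top_of_isPrime
  obtain ⟨h, hh⟩ := ENat.ne_top_iff_exists.mp hfin
  rw [← hh] at hr2 ⊢
  have h3 : h + r = n := by exact_mod_cast hr2
  have h4 : h = 2 := by omega
  rw [h4]
  rfl

end dim

section ht

variable {k A : Type*} [Field k] [CommRing A] [IsDomain A] [Algebra k A]

theorem mem_minimalPrimes_span_singleton (g₀ g₁ : A) (p : Ideal A)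
    (hp : p ∈ (Ideal.span {g₀, g₁}).minimalPrimes) (β : Polynomial k) (hβ : β ≠ 0)
    (hmem : Polynomial.aeval g₀ β ∈ Ideal.span {g₁}) :
    p ∈ (Ideal.span {g₁}).minimalPrimes := by
  have hpp : p.IsPrime := hp.1.1
  have hle : Ideal.span {g₀, g₁} ≤ p := hp.1.2
  have hg₀ : g₀ ∈ p := hle (Ideal.subset_span (by simp))
  have hg₁ : g₁ ∈ p := hle (Ideal.subset_span (by simp))
  obtain ⟨β₂, hβ₂, hnd⟩ := Polynomial.exists_eq_pow_rootMultiplicity_mul_and_not_dvd β hβ 0
  have hc : β₂.coeff 0 ≠ 0 := by
    intro h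
    apply hnd
    rw [Polynomial.C_0, sub_zero]
    exact Polynomial.X_dvd_iff.mpr h
  have hs_eq : Polynomial.aeval g₀ β =
      g₀ ^ (β.rootMultiplicity 0) * Polynomial.aeval g₀ β₂ := by
    conv_lhs => rw [hβ₂]
    simp
  have hsp : Polynomial.aeval g₀ β₂ ∉ p := by
    intro hsp
    have h1 : Polynomial.aeval g₀ β₂ =
        Polynomial.aeval g₀ β₂.divX * g₀ + algebraMap k A (β₂.coeff 0) := by
      conv_lhs => rw [← Polynomial.divX_mul_X_add β₂]
      simp
    have h2 : algebraMap k A (β₂.coeff 0) ∈ p := by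
      have h3 : algebraMap k A (β₂.coeff 0) =
          Polynomial.aeval g₀ β₂ - Polynomial.aeval g₀ β₂.divX * g₀ := by
        rw [h1]; ring
      rw [h3]
      exact p.sub_mem hsp (p.mul_mem_left _ hg₀)
    have h3 : IsUnit (algebraMap k A (β₂.coeff 0)) := (IsUnit.mk0 _ hc).map (algebraMap k A)
    exact hpp.ne_top (Ideal.eq_top_of_isUnit_mem _ h2 h3)
  refine ⟨⟨hpp, (Ideal.span_singleton_le_iff_mem _).mpr hg₁⟩, ?_⟩
  rintro q ⟨hq, hqle⟩ hqp
  have h1 : g₀ ^ (β.rootMultiplicity 0) * Polynomial.aeval g₀ β₂ ∈ q := hqle (hs_eq ▸ hmem)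
  have hg₀q : g₀ ∈ q := by
    rcases hq.mem_or_mem h1 with h | h
    · exact hq.mem_of_pow_mem _ h
    · exact absurd (hqp h) hsp
  have hg₁q : g₁ ∈ q := hqle (Ideal.mem_span_singleton_self g₁)
  have h2 : Ideal.span {g₀, g₁} ≤ q := by
    rw [Ideal.span_le]
    intro x hx
    rcases hx with rfl | rfl
    · exact hg₀q
    · exact hg₁q
  exact hp.2 ⟨hq, h2⟩ hqp

theorem height_le_one_of_not_algInd [IsNoetherianRing A] (g₀ g₁ : A) (p : Ideal A)
    (hp : p ∈ (Ideal.span {g₀, g₁}).minimalPrimes)
    (h : ¬ AlgebraicIndependent k ![g₁, g₀]) : p.height ≤ 1 := by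
  have key : p ∈ (Ideal.span {g₁}).minimalPrimes ∨ p ∈ (Ideal.span {g₀}).minimalPrimes := by
    rw [pair_iff, not_and] at h
    by_cases h0 : Transcendental k g₀
    · have h1 : IsAlgebraic (Algebra.adjoin k {g₀}) g₁ := not_not.mp (h h0)
      by_cases hg1 : g₁ = 0
      · right
        have h2 : Ideal.span {g₀, g₁} = Ideal.span {g₀} := by
          rw [hg1, Set.pair_comm, Ideal.span_insert_zero]
        rwa [h2] at hp
      · left
        obtain ⟨Q, hQ0, hQ⟩ := h1
        obtain ⟨Q', hQ', hnd⟩ :=
          Polynomial.exists_eq_pow_rootMultiplicity_mul_and_not_dvd Q hQ0 0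
        have hc : Q'.coeff 0 ≠ 0 := by
          intro hh
          apply hnd
          rw [Polynomial.C_0, sub_zero]
          exact Polynomial.X_dvd_iff.mpr hh
        have hQ'root : Polynomial.aeval g₁ Q' = 0 := by
          rw [hQ'] at hQ
          simp only [map_mul, map_pow, Polynomial.aeval_X, map_zero, sub_zero] at hQ
          rcases mul_eq_zero.mp hQ with h | h
          · exact absurd h (pow_ne_zero _ hg1)
          · exact h
        have hbmem : ((Q'.coeff 0 : Algebra.adjoin k {g₀}) : A) ∈
            (Polynomial.aeval (R := k) g₀).range := by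
          rw [← Algebra.adjoin_singleton_eq_range_aeval]
          exact (Q'.coeff 0).2
        obtain ⟨β, hβ⟩ := hbmem
        have hβ' : Polynomial.aeval g₀ β = ((Q'.coeff 0 : Algebra.adjoin k {g₀}) : A) := hβ
        have hβ0 : β ≠ 0 := by
          rintro rfl
          apply hc
          apply Subtype.ext
          rw [map_zero] at hβ'
          exact hβ'.symm
        refine mem_minimalPrimes_span_singleton g₀ g₁ p hp β hβ0 ?_
        have h1 : Polynomial.aeval g₁ Q' = Polynomial.aeval g₁ Q'.divX * g₁ +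
            algebraMap (Algebra.adjoin k {g₀}) A (Q'.coeff 0) := by
          conv_lhs => rw [← Polynomial.divX_mul_X_add Q']
          simp
        rw [hQ'root] at h1
        have h2 : algebraMap (Algebra.adjoin k {g₀}) A (Q'.coeff 0) =
            ((Q'.coeff 0 : Algebra.adjoin k {g₀}) : A) := rfl
        have h3 : Polynomial.aeval g₀ β = -(Polynomial.aeval g₁ Q'.divX) * g₁ := by
          rw [hβ', ← h2]
          linear_combination -h1
        rw [h3]
        exact Ideal.mul_mem_left _ _ (Ideal.mem_span_singleton_self g₁)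
    · left
      have h1 : IsAlgebraic k g₀ := not_not.mp h0
      obtain ⟨β, hβ0, hβ⟩ := h1
      exact mem_minimalPrimes_span_singleton g₀ g₁ p hp β hβ0 (hβ ▸ Ideal.zero_mem _)
  rcases key with h | h
  · haveI : (Ideal.span {g₁}).IsPrincipal := ⟨⟨g₁, rfl⟩⟩
    exact Ideal.height_le_one_of_isPrincipal_of_mem_minimalPrimes _ p h
  · haveI : (Ideal.span {g₀}).IsPrincipal := ⟨⟨g₀, rfl⟩⟩
    exact Ideal.height_le_one_of_isPrincipal_of_mem_minimalPrimes _ p h

end ht

theorem algInd_of_dim {k A : Type u} [Field k] [CommRing A] [IsDomain A] [Algebra k A]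
    [Algebra.FiniteType k A] (g₀ g₁ : A) (p : Ideal A)
    (hp : p ∈ (Ideal.span {g₀, g₁}).minimalPrimes)
    (hdim : ringKrullDim (A ⧸ p) + 2 = ringKrullDim A) :
    AlgebraicIndependent k ![g₁, g₀] := by
  by_contra h
  haveI : IsNoetherianRing A := Algebra.FiniteType.isNoetherianRing k A
  haveI : p.IsPrime := hp.1.1
  have h1 := height_le_one_of_not_algInd (k := k) g₀ g₁ p hp h
  rw [height_eq_two k p hdim] at h1
  exact absurd h1 (by norm_num)

open MvPolynomial in
theorem main {k A : Type u} [Field k] [CommRing A] [IsDomain A] [Algebra k A]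
    [Algebra.FiniteType k A] (m : ℕ) (g : Fin (m + 2) → A)
    (p : Ideal A) (hp : p ∈ (Ideal.span {g 0, g 1}).minimalPrimes)
    (hdim : ringKrullDim (A ⧸ p) + 2 = ringKrullDim A) :
    ∃ c : Fin (m + 2) → k,
      AlgebraicIndependent k
        (Sum.elim
          (fun i : Fin (m + 2) => algebraMap (MvPolynomial (Fin (m + 2)) (FractionRing A)) (FractionRing (MvPolynomial (Fin (m + 2)) (FractionRing A))) (MvPolynomial.X i))
          ![∑ i, algebraMap A (FractionRing (MvPolynomial (Fin (m + 2)) (FractionRing A))) (g i) *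
              algebraMap (MvPolynomial (Fin (m + 2)) (FractionRing A)) (FractionRing (MvPolynomial (Fin (m + 2)) (FractionRing A))) (MvPolynomial.X i),
            algebraMap A (FractionRing (MvPolynomial (Fin (m + 2)) (FractionRing A))) (∑ i, c i • g i)]) := by
  refine ⟨Pi.single 0 1, ?_⟩
  have hind := algInd_of_dim (k := k) (g 0) (g 1) p hp hdim
  have hγ : AlgebraicIndependent k
      ![algebraMap A (FractionRing A) (g 1), algebraMap A (FractionRing A) (g 0)] := by
    have h1 := hind.map' (f := IsScalarTower.toAlgHom k A (FractionRing A))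
      (IsFractionRing.injective A (FractionRing A))
    convert h1 using 1
    funext i
    fin_cases i <;> rfl
  have hfam := algebraicIndependent_fam (k := k)
    (fun i => algebraMap A (FractionRing A) (g i)) 0 1 hγ
  have hinj : Function.Injective (IsScalarTower.toAlgHom k
      (MvPolynomial (Fin (m + 2)) (FractionRing A))
      (FractionRing (MvPolynomial (Fin (m + 2)) (FractionRing A)))) :=
    IsFractionRing.injective _ _
  have h2 := hfam.map' hinj
  have hsum : ∑ i, (Pi.single (0 : Fin (m + 2)) (1 : k) : Fin (m + 2) → k) i • g i = g 0 := by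
    rw [Finset.sum_eq_single (0 : Fin (m + 2))]
    · simp
    · intro b _ hb
      simp [hb]
    · simp
  have hA : ∀ a : A, algebraMap A (FractionRing (MvPolynomial (Fin (m + 2)) (FractionRing A))) a =
      algebraMap (MvPolynomial (Fin (m + 2)) (FractionRing A))
        (FractionRing (MvPolynomial (Fin (m + 2)) (FractionRing A)))
        (C (algebraMap A (FractionRing A) a)) := by
    intro a
    rw [IsScalarTower.algebraMap_apply A (MvPolynomial (Fin (m + 2)) (FractionRing A))
      (FractionRing (MvPolynomial (Fin (m + 2)) (FractionRing A))), MvPolynomial.algebraMap_apply]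
  convert h2 using 1
  funext j
  rcases j with i | j
  · rfl
  · fin_cases j
    · simp [fam, map_sum, hA]
    · simp [fam, hsum, hA]

end Groth.Agent.Helper11.AlgIndB
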