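/-
Factorization through a monomorphism-on-underlying-sets for a "type of algebraic structure"
(helper11), Stacks 007L-style.
-/
import Mathlib.CategoryTheory.Limits.Types.Pullbacks
import Mathlib.CategoryTheory.Limits.Shapes.Pullback.IsPullback.Basic
import Mathlib.CategoryTheory.Limits.Preserves.Shapes.Pullbacks
import Mathlib.CategoryTheory.Functor.ReflectsIso.Basic

set_option autoImplicit false

namespace Groth.Agent.Helper11

open CategoryTheory CategoryTheory.Limits

universe u v w

theorem exists_factor_of_injective_of_range_subset {C : Type w} [Category.{v} C]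
    [HasPullbacks C] (F : C ⥤ Type u) [F.ReflectsIsomorphisms]
    [PreservesLimitsOfShape WalkingCospan F]
    {A B C' : C} (f : A ⟶ B) (g : C' ⟶ B) (hg : Function.Injective (F.map g))
    (hfg : Set.range (F.map f) ⊆ Set.range (F.map g)) :
    ∃ t : A ⟶ C', t ≫ g = f := by
  have hpb : IsPullback (F.map (pullback.fst f g)) (F.map (pullback.snd f g)) (F.map f)
      (F.map g) := (IsPullback.of_hasPullback f g).map F
  have hbij : Function.Bijective (F.map (pullback.fst f g)) := by
    constructor
    · intro a b hab
      refine Types.ext_of_isPullback hpb hab ?_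
      apply hg
      have h1 := types_congr_hom hpb.w a
      have h2 := types_congr_hom hpb.w b
      simp only [types_comp_apply] at h1 h2
      rw [← h1, ← h2, hab]
    · intro a
      obtain ⟨c, hc⟩ := hfg ⟨a, rfl⟩
      obtain ⟨x, hx, -⟩ := Types.exists_of_isPullback hpb a c hc.symm
      exact ⟨x, hx⟩
  have hiso : IsIso (F.map (pullback.fst f g)) := (isIso_iff_bijective _).mpr hbij
  have hiso' : IsIso (pullback.fst f g) := isIso_of_reflects_iso _ F
  refine ⟨inv (pullback.fst f g) ≫ pullback.snd f g, ?_⟩
  rw [Category.assoc, ← pullback.condition, IsIso.inv_hom_id_assoc]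

end Groth.Agent.Helper11
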