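import Groth.Agent.Lib.Helper11.RHomDual1

/-!
# The biduality morphism `K → Hom•(Hom•(K, J), J)` (helper11)
-/

set_option autoImplicit false

open CategoryTheory CategoryTheory.Limits CochainComplex HomComplex

universe u

namespace Groth.Agent.Helper11.BD

open Groth.Agent.Helper3.HT

variable {A : Type u} [CommRing A] (K J : DRing.Cx A)

/-- evaluation at `x ∈ K^n`, as a bilinear map -/
noncomputable def evL (n p p' : ℤ) (h : n + p = p') : K.X n →ₗ[A] Cochain K J p →ₗ[A] J.X p' :=
  (evC K J p n p' h).flip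

/-- the component of `ev(x)`, without sign -/
noncomputable def evxv (n : ℤ) (x : K.X n) (p p' : ℤ) (hpp' : p + n = p') :
    (DRing.homCx K J).X p ⟶ J.X p' :=
  ModuleCat.ofHom (evL K J n p p' (by omega) x)

theorem evxv_apply (n : ℤ) (x : K.X n) (p p' : ℤ) (hpp' : p + n = p')
    (c : (DRing.homCx K J).X p) :
    (evxv K J n x p p' hpp').hom c = ((toC c).v n p' (by omega)).hom x := rfl

/-- the cochain `ev(x)` attached to `x ∈ K^n` -/
noncomputable def evx (n : ℤ) (x : K.X n) : Cochain (DRing.homCx K J) J n :=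
  Cochain.mk fun p p' hpp' => (n * p).negOnePow • evxv K J n x p p' hpp'

theorem evx_v (n : ℤ) (x : K.X n) (p p' : ℤ) (hpp' : p + n = p') :
    (evx K J n x).v p p' hpp' = (n * p).negOnePow • evxv K J n x p p' hpp' := rfl

theorem evx_v_apply (n : ℤ) (x : K.X n) (p p' : ℤ) (hpp' : p + n = p')
    (c : (DRing.homCx K J).X p) :
    ((evx K J n x).v p p' hpp').hom c =
      (n * p).negOnePow • ((toC c).v n p' (by omega)).hom x := by
  rw [evx_v, ModuleCat.hom_smul, LinearMap.smul_apply, evxv_apply]

theorem evx_add (n : ℤ) (x y : K.X n) : evx K J n (x + y) = evx K J n x + evx K J n y := by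
  refine Cochain.ext _ _ (fun p p' hpp' => ?_)
  apply ModuleCat.hom_ext
  apply LinearMap.ext
  intro c
  rw [Cochain.add_v, ModuleCat.hom_add, LinearMap.add_apply, evx_v_apply, evx_v_apply,
    evx_v_apply, map_add, smul_add]

theorem evx_smul (n : ℤ) (a : A) (x : K.X n) : evx K J n (a • x) = a • evx K J n x := by
  refine Cochain.ext _ _ (fun p p' hpp' => ?_)
  apply ModuleCat.hom_ext
  apply LinearMap.ext
  intro c
  rw [Cochain.smul_v, ModuleCat.hom_smul, LinearMap.smul_apply, evx_v_apply, evx_v_apply,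
    map_smul, smul_comm]

/-- `ev` in degree `n`, as a linear map -/
noncomputable def evLin (n : ℤ) : K.X n →ₗ[A] Cochain (DRing.homCx K J) J n where
  toFun x := evx K J n x
  map_add' x y := evx_add K J n x y
  map_smul' a x := evx_smul K J n a x

theorem sign1 (n p : ℤ) :
    (n + 1).negOnePow * (n * (p + 1)).negOnePow = -(n * p).negOnePow := by
  rw [← Int.negOnePow_add]
  have h : n + 1 + n * (p + 1) = (n * p + 2 * n) + 1 := by ring
  rw [h, Int.negOnePow_succ, Int.negOnePow_add, Int.negOnePow_even (2 * n) ⟨n, two_mul n⟩,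
    mul_one]

theorem sign2 (n p : ℤ) :
    (n + 1).negOnePow * (n * (p + 1)).negOnePow * (p + 1).negOnePow =
      ((n + 1) * p).negOnePow := by
  rw [sign1, Int.negOnePow_succ, neg_mul_neg, ← Int.negOnePow_add]
  congr 1
  ring

theorem δ_evx (n n' : ℤ) (hnn' : n + 1 = n') (x : K.X n) :
    δ n n' (evx K J n x) = evx K J n' ((K.d n n').hom x) := by
  subst hnn'
  refine Cochain.ext _ _ (fun p q hpq => ?_)
  apply ModuleCat.hom_ext
  apply LinearMap.ext
  intro c
  rw [δ_v n (n + 1) rfl (evx K J n x) p q hpq (q - 1) (p + 1) rfl rfl]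
  have L1 : ((evx K J n x).v p (q - 1) (by omega) ≫ J.d (q - 1) q +
      (n + 1).negOnePow • (DRing.homCx K J).d p (p + 1) ≫
        (evx K J n x).v (p + 1) q (by omega)).hom c =
      (J.d (q - 1) q).hom (((evx K J n x).v p (q - 1) (by omega)).hom c) +
        (n + 1).negOnePow • ((evx K J n x).v (p + 1) q (by omega)).hom
          (((DRing.homCx K J).d p (p + 1)).hom c) := by
    simp only [ModuleCat.hom_add, LinearMap.add_apply, ModuleCat.hom_comp, LinearMap.comp_apply,
      ModuleCat.hom_smul, LinearMap.smul_apply]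
  rw [L1, evx_v_apply, evx_v_apply, evx_v_apply, toC_d,
    δ_v p (p + 1) rfl (toC c) n q (by omega) (q - 1) (n + 1) rfl rfl]
  have L2 : ((toC c).v n (q - 1) (by omega) ≫ J.d (q - 1) q +
      (p + 1).negOnePow • K.d n (n + 1) ≫ (toC c).v (n + 1) q (by omega)).hom x =
      (J.d (q - 1) q).hom (((toC c).v n (q - 1) (by omega)).hom x) +
        (p + 1).negOnePow • ((toC c).v (n + 1) q (by omega)).hom ((K.d n (n + 1)).hom x) := by
    simp only [ModuleCat.hom_add, LinearMap.add_apply, ModuleCat.hom_comp, LinearMap.comp_apply,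
      ModuleCat.hom_smul, LinearMap.smul_apply]
  rw [L2]
  have L3 : (J.d (q - 1) q).hom ((n * p).negOnePow • ((toC c).v n (q - 1) (by omega)).hom x) =
      (n * p).negOnePow • (J.d (q - 1) q).hom (((toC c).v n (q - 1) (by omega)).hom x) := by
    rw [Units.smul_def, map_zsmul, ← Units.smul_def]
  rw [L3, smul_smul, smul_add, smul_smul, sign2, sign1, Units.neg_smul]
  abel

/-- the biduality morphism -/
noncomputable def ev : K ⟶ DRing.homCx (DRing.homCx K J) J where
  f n := ModuleCat.ofHom (evLin K J n)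
  comm' n n' hnn' := by
    apply ModuleCat.hom_ext
    apply LinearMap.ext
    intro x
    exact δ_evx K J n n' hnn' x

theorem toC_ev (n : ℤ) (x : K.X n) : toC (((ev K J).f n).hom x) = evx K J n x := rfl

variable {K} in
theorem ev_naturality {K' : DRing.Cx A} (f : K ⟶ K') :
    ev K J ≫ homCxPre (homCxPre f J) J = f ≫ ev K' J := by
  apply HomologicalComplex.hom_ext
  intro n
  apply ModuleCat.hom_ext
  apply LinearMap.ext
  intro x
  apply toC_injective
  show (Cochain.ofHom (homCxPre f J)).comp (evx K J n x) (zero_add n) =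
    evx K' J n ((f.f n).hom x)
  refine Cochain.ext _ _ (fun p p' hpp' => ?_)
  apply ModuleCat.hom_ext
  apply LinearMap.ext
  intro c
  rw [Cochain.zero_cochain_comp_v, Cochain.ofHom_v, ModuleCat.hom_comp, LinearMap.comp_apply,
    evx_v_apply, evx_v_apply, toC_homCxPre, Cochain.zero_cochain_comp_v, Cochain.ofHom_v]
  rfl

end Groth.Agent.Helper11.BD
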