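import Groth.Agent.Lib.Helper11.Tel6
import Groth.Agent.Lib.Helper11.DCCone2
import Mathlib.Algebra.Homology.Embedding.CochainComplex

/-!
K-projective resolutions of unbounded complexes: existence (helper11).
-/

set_option autoImplicit false

open CategoryTheory CategoryTheory.Limits DirectSum CochainComplex HomComplex

universe u

namespace Groth.Agent.Helper11.Tel

open Groth.Agent.Helper11.DC Groth.Agent.Helper11.TA Groth.Agent.Helper11.PRT

attribute [local instance] HasDerivedCategory.standard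

variable {A : Type u} [CommRing A]

/-- two morphisms out of a K-projective complex which agree in the derived category are
homotopic -/
theorem homotopy_of_Q_map_eq (E₁ E₂ : DRing.Cx A) [E₁.IsKProjective] (f g : E₁ ⟶ E₂)
    (h : DerivedCategory.Q.map f = DerivedCategory.Q.map g) : Nonempty (Homotopy f g) := by
  have h1 := (CochainComplex.IsKProjective.Qh_map_bijective E₁
    ((HomotopyCategory.quotient _ _).obj E₂)).1
  exact ⟨HomotopyCategory.homotopyOfEq f g (h1 h)⟩

/-- the transition maps between canonical truncations -/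
noncomputable def truncStep (C : DRing.Cx A) (n : ℤ) : C.truncLE n ⟶ C.truncLE (n + 1) := by
  haveI : (C.truncLE n).IsStrictlyLE (n + 1) := (C.truncLE n).isStrictlyLE_of_le n (n + 1) (by omega)
  exact inv ((C.truncLE n).ιTruncLE (n + 1)) ≫ CochainComplex.truncLEMap (C.ιTruncLE n) (n + 1)

theorem truncStep_ι (C : DRing.Cx A) (n : ℤ) :
    truncStep C n ≫ C.ιTruncLE (n + 1) = C.ιTruncLE n := by
  haveI : (C.truncLE n).IsStrictlyLE (n + 1) := (C.truncLE n).isStrictlyLE_of_le n (n + 1) (by omega)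
  unfold truncStep
  rw [Category.assoc, CochainComplex.ιTruncLE_naturality, IsIso.inv_hom_id_assoc]

/-- every complex of modules admits a K-projective resolution with projective terms -/
theorem exists_kprojective_resolution (C : DRing.Cx A) :
    ∃ (T : DRing.Cx A) (F : T ⟶ C), T.IsKProjective ∧ (∀ i, Module.Projective A (T.X i)) ∧
      QuasiIso F := by
  -- resolutions of the truncations
  have hres : ∀ n : ℕ, ∃ (P : DRing.Cx A) (p : P ⟶ C.truncLE (n : ℤ)),
      P.IsKProjective ∧ (∀ i, Module.Projective A (P.X i)) ∧ QuasiIso p := fun n => by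
    obtain ⟨P, c, hc, hp, ⟨e⟩⟩ := hasProjRes_of_isLE
      (DerivedCategory.Q.obj (C.truncLE (n : ℤ))) (n : ℤ) inferInstance
    haveI : P.IsKProjective := isKProjective_of_vanishesAbove P c hc hp
    obtain ⟨p, hpe⟩ := exists_lift_of_isKProjective P (C.truncLE (n : ℤ)) e.hom
    refine ⟨P, p, inferInstance, hp, ?_⟩
    rw [← DerivedCategory.isIso_Q_map_iff_quasiIso, hpe]
    infer_instance
  choose P p hPk hPp hpq using hres
  -- the maps to `C`
  let f : ∀ n : ℕ, P n ⟶ C := fun n => p n ≫ C.ιTruncLE (n : ℤ)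
  have hf : ∀ (n : ℕ) (j : ℤ), j ≤ n → QuasiIsoAt (f n) j := fun n j hj => by
    haveI := hpq n
    haveI := C.quasiIsoAt_ιTruncLE (n : ℤ) j hj
    exact inferInstanceAs (QuasiIsoAt (p n ≫ C.ιTruncLE (n : ℤ)) j)
  -- the transition maps
  have hg : ∀ n : ℕ, ∃ g : P n ⟶ P (n + 1), Nonempty (Homotopy (f n) (g ≫ f (n + 1))) := fun n => by
    haveI := hPk n
    haveI := hpq (n + 1)
    haveI : IsIso (DerivedCategory.Q.map (p (n + 1))) :=
      (DerivedCategory.isIso_Q_map_iff_quasiIso (φ := p (n + 1))).mpr inferInstance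
    let t : C.truncLE (n : ℤ) ⟶ C.truncLE ((n + 1 : ℕ) : ℤ) :=
      truncStep C (n : ℤ) ≫ eqToHom (by push_cast; rfl)
    have ht : t ≫ C.ιTruncLE ((n + 1 : ℕ) : ℤ) = C.ιTruncLE (n : ℤ) := by
      have h1 : ∀ (a b : ℤ) (hab : a = b),
          eqToHom (by rw [hab] : C.truncLE a = C.truncLE b) ≫ C.ιTruncLE b = C.ιTruncLE a := by
        intro a b hab
        subst hab
        simp
      show (truncStep C (n : ℤ) ≫ eqToHom _) ≫ C.ιTruncLE ((n + 1 : ℕ) : ℤ) = _
      rw [Category.assoc, h1 ((n : ℤ) + 1) ((n + 1 : ℕ) : ℤ) (by push_cast; rfl), truncStep_ι]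
    obtain ⟨g, hgq⟩ := exists_lift_of_isKProjective (P n) (P (n + 1))
      (DerivedCategory.Q.map (p n ≫ t) ≫ inv (DerivedCategory.Q.map (p (n + 1))))
    refine ⟨g, homotopy_of_Q_map_eq _ _ _ _ ?_⟩
    show DerivedCategory.Q.map (p n ≫ C.ιTruncLE (n : ℤ)) =
      DerivedCategory.Q.map (g ≫ p (n + 1) ≫ C.ιTruncLE ((n + 1 : ℕ) : ℤ))
    rw [Functor.map_comp, Functor.map_comp, Functor.map_comp, hgq, Category.assoc,
      IsIso.inv_hom_id_assoc, ← Functor.map_comp, ← Functor.map_comp, Category.assoc, ht]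
  choose g hgh using hg
  refine ⟨Tcx g, Fmap g f (fun n => (hgh n).some), isKProjective_Tcx g hPk,
    projective_Tcx g hPp, quasiIso_Fmap g f _ hf⟩

/-- every object of the derived category is represented by a K-projective complex with
projective terms -/
theorem exists_kprojective_rep (K : Dual.D A) :
    ∃ T : DRing.Cx A, T.IsKProjective ∧ (∀ i, Module.Projective A (T.X i)) ∧
      Nonempty (DerivedCategory.Q.obj T ≅ K) := by
  obtain ⟨T, F, h1, h2, h3⟩ := exists_kprojective_resolution (DerivedCategory.Q.objPreimage K)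
  haveI : IsIso (DerivedCategory.Q.map F) :=
    (DerivedCategory.isIso_Q_map_iff_quasiIso (φ := F)).mpr h3
  exact ⟨T, h1, h2, ⟨asIso (DerivedCategory.Q.map F) ≪≫ DerivedCategory.Q.objObjPreimageIso K⟩⟩

end Groth.Agent.Helper11.Tel
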