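import Groth.Agent.Lib.Helper11.BD1
import Groth.Agent.Lib.Helper11.Tel7
import Mathlib.Algebra.Homology.HomologySequenceLemmas

/-!
# Biduality: complexes for which `ev` is a quasi-isomorphism (helper11)
-/

set_option autoImplicit false
set_option linter.unusedSectionVars false
set_option linter.unusedVariables false
set_option linter.style.haveILetI false

open CategoryTheory CategoryTheory.Limits CochainComplex HomComplex

universe u

attribute [local instance] HasDerivedCategory.standard

namespace Groth.Agent.Helper11.BD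

open Groth.Agent.Helper3.HT Groth.Agent.Helper8.BiDual

section FiveLemma

open HomologicalComplex HomologySequence ComposableArrows Abelian

variable {C : Type*} [Category C] [Abelian C]
  {S₁ S₂ : ShortComplex (CochainComplex C ℤ)} (φ : S₁ ⟶ S₂)
  (hS₁ : S₁.ShortExact) (hS₂ : S₂.ShortExact)

include hS₁ hS₂ in
/-- two-out-of-three for quasi-isomorphisms of short exact sequences of complexes -/
theorem quasiIso_τ₁ (h₂ : QuasiIso φ.τ₂) (h₃ : QuasiIso φ.τ₃) : QuasiIso φ.τ₁ := by
  rw [quasiIso_iff]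
  intro j
  rw [quasiIsoAt_iff_isIso_homologyMap]
  have hij : (ComplexShape.up ℤ).Rel (j - 1) j := by simp
  have hm : Mono (homologyMap φ.τ₁ j) := by
    apply mono_of_epi_of_mono_of_mono
      ((δ₀Functor ⋙ δlastFunctor).map (mapComposableArrows₅ φ hS₁ hS₂ (j - 1) j hij))
    · exact (composableArrows₅_exact hS₁ _ _ hij).δ₀.δlast
    · exact (composableArrows₅_exact hS₂ _ _ hij).δ₀.δlast
    · show Epi (homologyMap φ.τ₂ (j - 1))
      infer_instance
    · show Mono (homologyMap φ.τ₃ (j - 1))
      infer_instance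
    · show Mono (homologyMap φ.τ₂ j)
      infer_instance
  have he : Epi (homologyMap φ.τ₁ j) := by
    apply epi_of_epi_of_epi_of_mono
      ((δ₀Functor ⋙ δ₀Functor).map (mapComposableArrows₅ φ hS₁ hS₂ (j - 1) j hij))
    · exact (composableArrows₅_exact hS₁ _ _ hij).δ₀.δ₀
    · exact (composableArrows₅_exact hS₂ _ _ hij).δ₀.δ₀
    · show Epi (homologyMap φ.τ₃ (j - 1))
      infer_instance
    · show Epi (homologyMap φ.τ₂ j)
      infer_instance
    · show Mono (homologyMap φ.τ₃ j)
      infer_instance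
  exact isIso_of_mono_of_epi _

end FiveLemma

variable {A : Type u} [CommRing A] (J : DRing.Cx A)

/-- the double dual on morphisms -/
noncomputable def DDmap {C C' : DRing.Cx A} (f : C ⟶ C') :
    DRing.homCx (DRing.homCx C J) J ⟶ DRing.homCx (DRing.homCx C' J) J :=
  homCxPre (homCxPre f J) J

theorem ev_DDmap {C C' : DRing.Cx A} (f : C ⟶ C') : ev C J ≫ DDmap J f = f ≫ ev C' J :=
  ev_naturality J f

theorem DDmap_id (C : DRing.Cx A) : DDmap J (𝟙 C) = 𝟙 _ := by
  unfold DDmap
  rw [homCxPre_id, homCxPre_id]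

theorem DDmap_zero (C C' : DRing.Cx A) : DDmap J (0 : C ⟶ C') = 0 := by
  unfold DDmap
  rw [homCxPre_zero, homCxPre_zero]

theorem quasiIso_DDmap [J.IsKInjective] {C C' : DRing.Cx A} (s : C ⟶ C') [QuasiIso s] :
    QuasiIso (DDmap J s) := by
  haveI := Groth.Agent.Helper11.RHomDual.quasiIso_homCxPre J s
  exact Groth.Agent.Helper11.RHomDual.quasiIso_homCxPre J (homCxPre s J)

/-- `C` is *good* if `ev : C ⟶ Hom(Hom(C, J), J)` is a quasi-isomorphism -/
def Good (C : DRing.Cx A) : Prop := QuasiIso (ev C J)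

theorem good_iff_of_quasiIso [J.IsKInjective] {C C' : DRing.Cx A} (s : C ⟶ C') [QuasiIso s] :
    Good J C ↔ Good J C' := by
  haveI := quasiIso_DDmap J s
  unfold Good
  constructor
  · intro h
    haveI := h
    have h1 : QuasiIso (s ≫ ev C' J) := by
      rw [← ev_DDmap]
      infer_instance
    exact (quasiIso_iff_comp_left s (ev C' J)).mp h1
  · intro h
    haveI := h
    have h1 : QuasiIso (ev C J ≫ DDmap J s) := by
      rw [ev_DDmap]
      infer_instance
    exact (quasiIso_iff_comp_right (ev C J) (DDmap J s)).mp h1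

theorem good_iff_of_iso [J.IsKInjective] {C C' : DRing.Cx A}
    (e : DerivedCategory.Q.obj C ≅ DerivedCategory.Q.obj C') : Good J C ↔ Good J C' := by
  obtain ⟨P, p, hP, _, hp⟩ := Groth.Agent.Helper11.Tel.exists_kprojective_resolution C
  haveI := hP
  haveI := hp
  haveI i1 : IsIso (DerivedCategory.Q.map p) := by
    rw [DerivedCategory.isIso_Q_map_iff_quasiIso]
    infer_instance
  obtain ⟨t, ht⟩ := Groth.Agent.Helper11.DC.exists_lift_of_isKProjective P C'
    (DerivedCategory.Q.map p ≫ e.hom)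
  haveI : QuasiIso t := by
    rw [← DerivedCategory.isIso_Q_map_iff_quasiIso, ht]
    infer_instance
  exact (good_iff_of_quasiIso J p).symm.trans (good_iff_of_quasiIso J t)

theorem good_of_isZero {C : DRing.Cx A} (hC : IsZero C) : Good J C := by
  have hDD : IsZero (DRing.homCx (DRing.homCx C J) J) := by
    rw [IsZero.iff_id_eq_zero, ← DDmap_id, hC.eq_of_src (𝟙 C) 0, DDmap_zero]
  haveI : IsIso (ev C J) := ⟨⟨0, hC.eq_of_src _ _, hDD.eq_of_src _ _⟩⟩
  unfold Good
  infer_instance

open ZeroObject in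
theorem good_of_isZero_Q [J.IsKInjective] {C : DRing.Cx A}
    (hC : IsZero (DerivedCategory.Q.obj C)) : Good J C := by
  have h0 : IsZero (0 : DRing.Cx A) := isZero_zero _
  have h1 : IsZero (DerivedCategory.Q.obj (0 : DRing.Cx A)) := DerivedCategory.Q.map_isZero h0
  exact (good_iff_of_iso J (hC.iso h1)).mpr (good_of_isZero J h0)

/-- `ev` as a morphism of short complexes -/
noncomputable def evS (S : ShortComplex (DRing.Cx A)) : S ⟶ homSC (homSC S J) J :=
  ShortComplex.homMk (ev S.X₁ J) (ev S.X₂ J) (ev S.X₃ J) (ev_naturality J S.f)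
    (ev_naturality J S.g)

theorem good_X₃ (S : ShortComplex (DRing.Cx A)) (hS : S.ShortExact)
    (hJ : ∀ n : ℤ, Injective (J.X n)) (h1 : Good J S.X₁) (h2 : Good J S.X₂) : Good J S.X₃ :=
  HomologicalComplex.HomologySequence.quasiIso_τ₃ (evS J S) hS
    (homSC_shortExact _ (homSC_shortExact S hS J hJ) J hJ) h1 h2

theorem good_X₁ (S : ShortComplex (DRing.Cx A)) (hS : S.ShortExact)
    (hJ : ∀ n : ℤ, Injective (J.X n)) (h2 : Good J S.X₂) (h3 : Good J S.X₃) : Good J S.X₁ :=
  quasiIso_τ₁ (evS J S) hS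
    (homSC_shortExact _ (homSC_shortExact S hS J hJ) J hJ) h2 h3

end Groth.Agent.Helper11.BD
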