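import Mathlib.Algebra.Homology.DerivedCategory.Basic
import Mathlib.Algebra.Homology.HomotopyCategory.Pretriangulated
import Mathlib.Algebra.Category.ModuleCat.Biproducts

/-!
Representing the third vertex of a distinguished triangle in the derived category by a mapping
cone, and the terms of mapping cones of complexes of modules.
-/

open CategoryTheory Category Limits Pretriangulated DerivedCategory

universe w v u

namespace Groth.Agent.Helper11.DC

section General

variable {C : Type u} [Category.{v} C] [Abelian C] [HasDerivedCategory.{w} C]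

theorem cone_rep (T : Triangle (DerivedCategory C)) (hT : T ∈ distTriang (DerivedCategory C))
    {F₁ F₂ : CochainComplex C ℤ} (φ : F₁ ⟶ F₂) (e₁ : T.obj₁ ≅ Q.obj F₁) (e₂ : T.obj₂ ≅ Q.obj F₂)
    (comm : T.mor₁ ≫ e₂.hom = e₁.hom ≫ Q.map φ) :
    Nonempty (T.obj₃ ≅ Q.obj (CochainComplex.mappingCone φ)) := by
  have e := isoTriangleOfIso₁₂ T (Q.mapTriangle.obj (CochainComplex.mappingCone.triangle φ)) hT
    (mappingCone_triangle_distinguished φ) e₁ e₂ comm
  exact ⟨Triangle.π₃.mapIso e⟩

/-- The terms of a mapping cone. -/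
noncomputable def mappingConeXIso {F₁ F₂ : CochainComplex C ℤ} (φ : F₁ ⟶ F₂) (i : ℤ) :
    (CochainComplex.mappingCone φ).X i ≅ F₁.X (i + 1) ⊞ F₂.X i :=
  HomologicalComplex.homotopyCofiber.XIsoBiprod φ i (i + 1) rfl

theorem mappingCone_isZero {F₁ F₂ : CochainComplex C ℤ} (φ : F₁ ⟶ F₂) (i : ℤ)
    (h₁ : IsZero (F₁.X (i + 1))) (h₂ : IsZero (F₂.X i)) :
    IsZero ((CochainComplex.mappingCone φ).X i) := by
  refine IsZero.of_iso ?_ (mappingConeXIso φ i)
  rw [IsZero.iff_id_eq_zero]
  apply biprod.hom_ext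
  · exact h₁.eq_of_tgt _ _
  · exact h₂.eq_of_tgt _ _

end General

section Modules

variable {R : Type u} [CommRing R]

/-- The terms of a mapping cone of complexes of modules, as a product. -/
noncomputable def mappingConeXEquiv {F₁ F₂ : CochainComplex (ModuleCat.{u} R) ℤ} (φ : F₁ ⟶ F₂)
    (i : ℤ) : (CochainComplex.mappingCone φ).X i ≃ₗ[R] (F₁.X (i + 1) × F₂.X i) :=
  (mappingConeXIso φ i ≪≫ ModuleCat.biprodIsoProd _ _).toLinearEquiv

end Modules

end Groth.Agent.Helper11.DC
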