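import Groth.Agent.Lib.Helper11.DCTrim

/-!
The top cohomology of a bounded above complex.
-/

open CategoryTheory Category Limits Pretriangulated DerivedCategory ZeroObject

attribute [local instance] HasDerivedCategory.standard

universe u

namespace Groth.Agent.Helper11.DC

variable {R : Type u} [CommRing R]

theorem isZero_homology_of_isZero_X (C : DRing.Cx R) (i : ℤ) (hi : IsZero (C.X i)) :
    IsZero ((homologyFunctor (ModuleCat.{u} R) i).obj (Q.obj C)) := by
  refine IsZero.of_iso ?_ ((homologyFunctorFactors (ModuleCat.{u} R) i).app C)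
  exact (HomologicalComplex.exactAt_iff_isZero_homology _ _).mp
    (ShortComplex.exact_of_isZero_X₂ _ hi)

section Top

variable (C : DRing.Cx R) (b : ℤ) (hb : ∀ i : ℤ, b < i → IsZero (C.X i))

theorem topSC_X₃_vanishes (i : ℤ) (hi : b - 1 < i) : IsZero ((topSC C b hb).X₃.X i) := by
  by_cases hib : i = b
  · subst hib
    exact topSC_X₃_isZero C i hb
  · have := topSC_g_isIso C b hb i hib
    exact (hb i (by omega)).of_iso (asIso ((topSC C b hb).g.f i)).symm

/-- The canonical map from the top term to the top cohomology. -/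
noncomputable def topQ : C.X b ⟶ (homologyFunctor (ModuleCat.{u} R) b).obj (Q.obj C) :=
  (singleFunctorCompHomologyFunctorIso (ModuleCat.{u} R) b).inv.app (C.X b) ≫
    (homologyFunctor (ModuleCat.{u} R) b).map (Q.map (topIncl C b hb))

theorem topQ_epi : Epi (topQ C b hb) := by
  have hT := triangleOfSES_distinguished (topSC_shortExact C b hb)
  have h : Epi ((homologyFunctor (ModuleCat.{u} R) b).map (Q.map (topIncl C b hb))) := by
    refine (HomologySequence.epi_homologyMap_mor₁_iff _ hT b).mpr ?_
    exact (isZero_homology_of_isZero_X _ b (topSC_X₃_isZero C b hb)).eq_of_tgt _ _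
  exact epi_comp' inferInstance h

end Top

theorem topQ_ker (C : DRing.Cx R) (b : ℤ) (hb : ∀ i : ℤ, b < i → IsZero (C.X i)) :
    ∃ t : C.X (b - 1) ⟶ C.X b, LinearMap.range t.hom = LinearMap.ker (topQ C b hb).hom := by
  have hT := triangleOfSES_distinguished (topSC_shortExact C b hb)
  have hex := HomologySequence.exact₁ _ hT (b - 1) b (by omega)
  have hr := (ShortComplex.moduleCat_exact_iff_range_eq_ker _).mp hex
  dsimp at hr
  have hq₃ := topQ_epi (topSC C b hb).X₃ (b - 1) (topSC_X₃_vanishes C b hb)
  have hg := topSC_g_isIso C b hb (b - 1) (by omega)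
  have hsurj : Function.Surjective ((topSC C b hb).g.f (b - 1) ≫
      topQ (topSC C b hb).X₃ (b - 1) (topSC_X₃_vanishes C b hb)).hom := by
    rw [← ModuleCat.epi_iff_surjective]
    infer_instance
  let e := (singleFunctorCompHomologyFunctorIso (ModuleCat.{u} R) b).app (C.X b)
  refine ⟨((topSC C b hb).g.f (b - 1) ≫
      topQ (topSC C b hb).X₃ (b - 1) (topSC_X₃_vanishes C b hb)) ≫
      HomologySequence.δ (triangleOfSES (topSC_shortExact C b hb)) (b - 1) b (by omega) ≫
      e.hom, ?_⟩
  ext x
  constructor
  · rintro ⟨y, rfl⟩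
    rw [LinearMap.mem_ker]
    have h1 := HomologySequence.δ_comp _ hT (b - 1) b (by omega)
    have h2 : ∀ z, (homologyFunctor (ModuleCat.{u} R) b).map (Q.map (topIncl C b hb))
        (HomologySequence.δ (triangleOfSES (topSC_shortExact C b hb)) (b - 1) b (by omega) z) =
        0 := fun z => congr($(h1).hom z)
    simp only [topQ, ModuleCat.hom_comp, LinearMap.comp_apply]
    have h3 : ∀ w, e.inv.hom (e.hom.hom w) = w := fun w => congr($(e.hom_inv_id).hom w)
    erw [h3]
    exact h2 _
  · intro hx
    rw [LinearMap.mem_ker] at hx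
    simp only [topQ, ModuleCat.hom_comp, LinearMap.comp_apply] at hx
    have h4 : e.inv.hom x ∈ LinearMap.ker
        ((homologyFunctor (ModuleCat.{u} R) b).map (Q.map (topIncl C b hb))).hom := hx
    obtain ⟨z, hz⟩ := hr.ge h4
    obtain ⟨y, rfl⟩ := hsurj z
    refine ⟨y, ?_⟩
    have h5 : e.hom.hom (e.inv.hom x) = x := congr($(e.inv_hom_id).hom x)
    exact (congrArg (fun w => e.hom.hom w) hz).trans h5

theorem topH_finite (C : DRing.Cx R) (b : ℤ) (hb : ∀ i : ℤ, b < i → IsZero (C.X i))
    (hfin : Module.Finite R (C.X b)) :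
    Module.Finite R ((homologyFunctor (ModuleCat.{u} R) b).obj (Q.obj C)) := by
  have := topQ_epi C b hb
  exact Module.Finite.of_surjective (topQ C b hb).hom
    ((ModuleCat.epi_iff_surjective _).mp inferInstance)

theorem topH_fp (C : DRing.Cx R) (b : ℤ) (hb : ∀ i : ℤ, b < i → IsZero (C.X i))
    (hfp : Module.FinitePresentation R (C.X b)) (hfin : Module.Finite R (C.X (b - 1))) :
    Module.FinitePresentation R ((homologyFunctor (ModuleCat.{u} R) b).obj (Q.obj C)) := by
  have := topQ_epi C b hb
  obtain ⟨t, ht⟩ := topQ_ker C b hb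
  refine Module.finitePresentation_of_surjective (topQ C b hb).hom
    ((ModuleCat.epi_iff_surjective _).mp inferInstance) ?_
  rw [← ht, LinearMap.range_eq_map]
  exact Submodule.FG.map _ (Module.Finite.fg_top)

end Groth.Agent.Helper11.DC
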