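import Groth.Agent.Lib.Helper11.DCTrim
import Groth.Agent.Lib.Helper11.DCCone
import Groth.Agent.Lib.Helper11.DCTopHom
import Mathlib.Algebra.Homology.DerivedCategory.Fractions

/-!
# Morphisms in `K(R)` versus `D(R)` for complexes with projective top term
-/

set_option autoImplicit false
universe u

open CategoryTheory Limits DerivedCategory Pretriangulated

attribute [local instance] HasDerivedCategory.standard

namespace Groth.Agent.Helper11.DC

variable {R : Type u} [CommRing R]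

section LemmaA

variable {M A : DRing.Cx R} (n₀ n₁ n₂ : ℤ)

/-- auxiliary homotopy components. -/
noncomputable def hAux (h₀ : M.X n₀ ⟶ A.X n₁) (h₁ : M.X n₁ ⟶ A.X n₂) (i j : ℤ) :
    M.X i ⟶ A.X j :=
  if h : i = n₀ ∧ j = n₁ then eqToHom (by rw [h.1]) ≫ h₀ ≫ eqToHom (by rw [h.2])
  else if h' : i = n₁ ∧ j = n₂ then eqToHom (by rw [h'.1]) ≫ h₁ ≫ eqToHom (by rw [h'.2])
  else 0

theorem hAux_eq₀ (h₀ : M.X n₀ ⟶ A.X n₁) (h₁ : M.X n₁ ⟶ A.X n₂) :
    hAux n₀ n₁ n₂ h₀ h₁ n₀ n₁ = h₀ := by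
  simp [hAux]

theorem hAux_eq₁ (h10 : n₁ + 1 = n₀) (h₀ : M.X n₀ ⟶ A.X n₁) (h₁ : M.X n₁ ⟶ A.X n₂) :
    hAux n₀ n₁ n₂ h₀ h₁ n₁ n₂ = h₁ := by
  have : ¬ (n₁ = n₀ ∧ n₂ = n₁) := by omega
  simp [hAux, this]

theorem hAux_eq_zero (h₀ : M.X n₀ ⟶ A.X n₁) (h₁ : M.X n₁ ⟶ A.X n₂) (i j : ℤ)
    (h : ¬ (i = n₀ ∧ j = n₁)) (h' : ¬ (i = n₁ ∧ j = n₂)) :
    hAux n₀ n₁ n₂ h₀ h₁ i j = 0 := by
  simp [hAux, h, h']

/-- **Partial K-projectivity.** A chain map from a complex `M` concentrated in degrees `≤ n₀`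
with `M^{n₀}` projective into an acyclic complex concentrated in degrees `≥ n₀ - 2` is
null-homotopic. -/
theorem nullHomotopic_of_top_projective (M A : DRing.Cx R) (n₀ n₁ n₂ : ℤ)
    (h10 : n₁ + 1 = n₀) (h21 : n₂ + 1 = n₁)
    (hM : ∀ i : ℤ, n₀ < i → IsZero (M.X i)) (hproj : Module.Projective R (M.X n₀))
    (hA : ∀ i : ℤ, i < n₂ → IsZero (A.X i)) (hex : ∀ i : ℤ, A.ExactAt i) (φ : M ⟶ A) :
    Nonempty (Homotopy φ 0) := by
  have ex0 := (HomologicalComplex.exactAt_iff' A n₁ n₀ (n₀ + 1) (by simp; omega) (by simp)).mp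
    (hex n₀)
  have ex1 := (HomologicalComplex.exactAt_iff' A n₂ n₁ n₀ (by simp; omega) (by simp; omega)).mp
    (hex n₁)
  have ex2 := (HomologicalComplex.exactAt_iff' A (n₂ - 1) n₂ n₁ (by simp) (by simp; omega)).mp
    (hex n₂)
  have hmono : Mono (A.d n₂ n₁) := by
    have h0 : (A.sc' (n₂ - 1) n₂ n₁).f = 0 := (hA (n₂ - 1) (by omega)).eq_of_src _ _
    exact (ShortComplex.exact_iff_mono _ h0).mp ex2
  haveI : Mono (A.sc' n₂ n₁ n₀).f := hmono
  have : Projective (M.X n₀) := inferInstance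
  -- h₀
  have hz0 : φ.f n₀ ≫ A.d n₀ (n₀ + 1) = 0 := by
    rw [φ.comm]
    have : M.d n₀ (n₀ + 1) = 0 := (hM (n₀ + 1) (by omega)).eq_of_tgt _ _
    rw [this, zero_comp]
  let h₀ : M.X n₀ ⟶ A.X n₁ := ex0.liftFromProjective (φ.f n₀) hz0
  have hh₀ : h₀ ≫ A.d n₁ n₀ = φ.f n₀ := ex0.liftFromProjective_comp (φ.f n₀) hz0
  -- h₁
  have hz1 : (φ.f n₁ - M.d n₁ n₀ ≫ h₀) ≫ A.d n₁ n₀ = 0 := by
    rw [Preadditive.sub_comp, Category.assoc, hh₀, φ.comm, sub_self]
  obtain ⟨h₁, hh₁⟩ : ∃ h₁ : M.X n₁ ⟶ A.X n₂, h₁ ≫ A.d n₂ n₁ = φ.f n₁ - M.d n₁ n₀ ≫ h₀ :=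
    ex1.lift' (φ.f n₁ - M.d n₁ n₀ ≫ h₀) hz1
  -- degree n₂
  have hh₂ : M.d n₂ n₁ ≫ h₁ = φ.f n₂ := by
    rw [← cancel_mono (A.d n₂ n₁), Category.assoc, hh₁, Preadditive.comp_sub,
      HomologicalComplex.d_comp_d_assoc, zero_comp, sub_zero, φ.comm]
  refine ⟨{ hom := hAux n₀ n₁ n₂ h₀ h₁, zero := ?_, comm := ?_ }⟩
  · intro i j hij
    apply hAux_eq_zero
    · rintro ⟨rfl, rfl⟩
      exact hij h10
    · rintro ⟨rfl, rfl⟩
      exact hij h21
  · intro i
    rw [HomologicalComplex.zero_f, add_zero]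
    by_cases hi0 : i = n₀
    · rw [hi0, dNext_eq _ (show (ComplexShape.up ℤ).Rel n₀ (n₀ + 1) from rfl),
        prevD_eq _ (show (ComplexShape.up ℤ).Rel n₁ n₀ from h10),
        hAux_eq_zero n₀ n₁ n₂ h₀ h₁ (n₀ + 1) n₀ (by omega) (by omega), comp_zero, zero_add,
        hAux_eq₀, hh₀]
    by_cases hi1 : i = n₁
    · rw [hi1, dNext_eq _ (show (ComplexShape.up ℤ).Rel n₁ n₀ from h10),
        prevD_eq _ (show (ComplexShape.up ℤ).Rel n₂ n₁ from h21),
        hAux_eq₀, hAux_eq₁ n₀ n₁ n₂ h10, hh₁]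
      abel
    by_cases hi2 : i = n₂
    · rw [hi2, dNext_eq _ (show (ComplexShape.up ℤ).Rel n₂ n₁ from h21),
        prevD_eq _ (show (ComplexShape.up ℤ).Rel (n₂ - 1) n₂ from by simp),
        hAux_eq₁ n₀ n₁ n₂ h10,
        hAux_eq_zero n₀ n₁ n₂ h₀ h₁ n₂ (n₂ - 1) (by omega) (by omega), zero_comp, add_zero, hh₂]
    by_cases hi3 : n₀ < i
    · exact (hM i hi3).eq_of_src _ _
    · exact (hA i (by omega)).eq_of_tgt _ _

end LemmaA

section Main

theorem Qh_quot_map {K L : DRing.Cx R} (f : K ⟶ L) :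
    Qh.map ((HomotopyCategory.quotient (ModuleCat.{u} R) (ComplexShape.up ℤ)).map f) = Q.map f :=
  rfl

/-- the cone of a quasi-isomorphism is exact in every degree -/
theorem cone_exactAt {K K' : DRing.Cx R} (s : K ⟶ K') (hs : IsIso (Q.map s)) (i : ℤ) :
    (CochainComplex.mappingCone s).ExactAt i := by
  have hT := DerivedCategory.mappingCone_triangle_distinguished s
  have hz : IsZero (Q.obj (CochainComplex.mappingCone s)) :=
    (Triangle.isZero₃_iff_isIso₁ _ hT).mpr hs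
  exact exactAt_of_homology_isZero _ i (Functor.map_isZero _ hz)

/-- **Surjectivity of `Hom_K(M, K) → Hom_D(M, K)`** for `M` in degrees `≤ 0` with `M⁰`
projective and `K` in degrees `≥ -1`. -/
theorem hom_surj (M K : DRing.Cx R) (hM : ∀ i : ℤ, 0 < i → IsZero (M.X i))
    (hM0 : Module.Projective R (M.X 0)) (hK : ∀ i : ℤ, i ≤ -2 → IsZero (K.X i))
    (ξ : Q.obj M ⟶ Q.obj K) : ∃ x : M ⟶ K, Q.map x = ξ := by
  haveI : K.IsStrictlyGE (-1) := by
    rw [CochainComplex.isStrictlyGE_iff]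
    intro i hi
    exact hK i (by omega)
  obtain ⟨K', hK', g, s, hs, rfl⟩ := left_fac_of_isStrictlyGE ξ (-1)
  have hnull := nullHomotopic_of_top_projective M (CochainComplex.mappingCone s) 0 (-1) (-2)
    rfl rfl hM hM0
    (fun i hi => mappingCone_isZero s i (hK (i + 1) (by omega))
      (K'.isZero_of_isStrictlyGE (-1) i (by omega)))
    (cone_exactAt s hs) (g ≫ CochainComplex.mappingCone.inr s)
  obtain ⟨H⟩ := hnull
  have hT := HomotopyCategory.mappingCone_triangleh_distinguished s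
  have h0 : (HomotopyCategory.quotient _ _).map g ≫
      (CochainComplex.mappingCone.triangleh s).mor₂ = 0 := by
    change (HomotopyCategory.quotient _ _).map g ≫
      (HomotopyCategory.quotient _ _).map (CochainComplex.mappingCone.inr s) = 0
    rw [← Functor.map_comp]
    exact (HomotopyCategory.quotient_map_eq_zero_iff _).mpr ⟨H⟩
  obtain ⟨x', hx'⟩ : ∃ x' : (HomotopyCategory.quotient _ _).obj M ⟶
      (HomotopyCategory.quotient _ _).obj K,
      (HomotopyCategory.quotient _ _).map g = x' ≫ (HomotopyCategory.quotient _ _).map s :=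
    Triangle.coyoneda_exact₂ _ hT _ h0
  obtain ⟨x, rfl⟩ := (HomotopyCategory.quotient _ _).map_surjective x'
  refine ⟨x, ?_⟩
  have h2 : (HomotopyCategory.quotient _ _).map g =
      (HomotopyCategory.quotient _ _).map (x ≫ s) := by
    rw [Functor.map_comp]
    exact hx'
  have h3 : Q.map g = Q.map x ≫ Q.map s := by
    rw [← Functor.map_comp]
    exact Q_map_eq_of_homotopy _ (HomotopyCategory.homotopyOfEq _ _ h2)
  rw [h3, Category.assoc, IsIso.hom_inv_id, Category.comp_id]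

/-- **Injectivity of `Hom_K(M, K) → Hom_D(M, K)`** for `M` in degrees `≤ 0` with `M⁰`
projective and `K` in degrees `≥ -1`. -/
theorem hom_inj (M K : DRing.Cx R) (hM : ∀ i : ℤ, 0 < i → IsZero (M.X i))
    (hM0 : Module.Projective R (M.X 0)) (hK : ∀ i : ℤ, i ≤ -2 → IsZero (K.X i))
    (x : M ⟶ K) (hx : Q.map x = 0) : Nonempty (Homotopy x 0) := by
  haveI : K.IsStrictlyGE (-1) := by
    rw [CochainComplex.isStrictlyGE_iff]
    intro i hi
    exact hK i (by omega)
  obtain ⟨Z, s₀, hs₀, hfac⟩ := (MorphismProperty.map_eq_iff_postcomp Qh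
    (HomotopyCategory.quasiIso (ModuleCat.{u} R) (ComplexShape.up ℤ))
    ((HomotopyCategory.quotient _ _).map x) 0).mp
      ((Qh_quot_map x).trans (hx.trans (Qh.map_zero _ _).symm))
  obtain ⟨K', rfl⟩ := HomotopyCategory.quotient_obj_surjective Z
  obtain ⟨s, rfl⟩ := (HomotopyCategory.quotient _ _).map_surjective s₀
  have hs : IsIso (Q.map s) := by
    rw [← Qh_quot_map]
    exact (isIso_Qh_map_iff _).mpr hs₀
  rw [zero_comp] at hfac
  haveI : (Q.obj K).IsGE (-1) := (isGE_Q_obj_iff K (-1)).mpr inferInstance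
  haveI : (Q.obj K').IsGE (-1) :=
    DerivedCategory.TStructure.t.isGE_of_iso (asIso (Q.map s)) (-1)
  haveI : CochainComplex.IsGE K' (-1) := (isGE_Q_obj_iff K' (-1)).mp inferInstance
  have hs' : IsIso (Q.map (s ≫ CochainComplex.πTruncGE K' (-1))) := by
    rw [Functor.map_comp]
    infer_instance
  have hfac' : (HomotopyCategory.quotient _ _).map x ≫
      (HomotopyCategory.quotient _ _).map (s ≫ CochainComplex.πTruncGE K' (-1)) = 0 := by
    rw [Functor.map_comp, ← Category.assoc, hfac, zero_comp]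
  generalize s ≫ CochainComplex.πTruncGE K' (-1) = s' at hs' hfac'
  have hT := HomotopyCategory.mappingCone_triangleh_distinguished s'
  obtain ⟨g, hg⟩ : ∃ g : ((HomotopyCategory.quotient _ _).obj M)⟦(1 : ℤ)⟧ ⟶
      (HomotopyCategory.quotient _ _).obj (CochainComplex.mappingCone s'),
      ((HomotopyCategory.quotient _ _).map x)⟦(1 : ℤ)⟧' =
        g ≫ (CochainComplex.mappingCone.triangleh s').mor₃ :=
    Triangle.coyoneda_exact₁ _ hT _ (by
      change ((HomotopyCategory.quotient _ _).map x)⟦(1 : ℤ)⟧' ≫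
        ((HomotopyCategory.quotient _ _).map s')⟦(1 : ℤ)⟧' = 0
      rw [← Functor.map_comp, hfac', Functor.map_zero])
  let e := ((HomotopyCategory.quotient (ModuleCat.{u} R) (ComplexShape.up ℤ)).commShiftIso
    (1 : ℤ)).app M
  obtain ⟨y, hy⟩ := (HomotopyCategory.quotient _ _).map_surjective (e.hom ≫ g)
  have hynull := nullHomotopic_of_top_projective (M⟦(1 : ℤ)⟧) (CochainComplex.mappingCone s')
    (-1) (-2) (-3) rfl rfl
    (fun i hi => hM (i + 1) (by omega)) hM0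
    (fun i hi => mappingCone_isZero s' i (hK (i + 1) (by omega))
      (CochainComplex.isZero_of_isStrictlyGE (CochainComplex.truncGE K' (-1)) (-1) i (by omega)))
    (cone_exactAt s' hs') y
  have hy0 : (HomotopyCategory.quotient _ _).map y = 0 :=
    (HomotopyCategory.quotient_map_eq_zero_iff y).mpr hynull
  have hg0 : g = 0 := by
    rw [← cancel_epi e.hom, ← hy, hy0, comp_zero]
  rw [hg0] at hg
  have hg' := hg.trans zero_comp
  have h0 : (HomotopyCategory.quotient _ _).map x = 0 :=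
    (shiftFunctor _ (1 : ℤ)).map_injective (hg'.trans (Functor.map_zero _ _ _).symm)
  exact (HomotopyCategory.quotient_map_eq_zero_iff x).mp h0

end Main

end Groth.Agent.Helper11.DC
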