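import Groth.Agent.Lib.Helper11.DCTwoOfThree
import Mathlib.Algebra.Homology.DerivedCategory.TStructure
import Mathlib.Algebra.Homology.DerivedCategory.HomologySequence

/-!
Objects of `D(R)` with bounded cohomology and perfect cohomology modules are perfect.
-/

open CategoryTheory Category Limits Pretriangulated DerivedCategory ZeroObject

attribute [local instance] HasDerivedCategory.standard

universe u

namespace Groth.Agent.Helper11.DC

variable {R : Type u} [CommRing R]

theorem isPerfect_of_iso {K L : Dual.D R} (e : K ≅ L) (h : DRing.IsPerfect R K) :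
    DRing.IsPerfect R L := by
  obtain ⟨E, a, b, hb, hf, ⟨e'⟩⟩ := h
  exact ⟨E, a, b, hb, hf, ⟨e' ≪≫ e⟩⟩

theorem isPerfect_of_isZero (K : Dual.D R) (hK : IsZero K) : DRing.IsPerfect R K := by
  obtain ⟨Z, hZ⟩ : ∃ Z : DRing.Cx R, IsZero Z := ⟨0, isZero_zero _⟩
  refine ⟨Z, 0, 0, ?_, ?_, ⟨IsZero.iso (Q.map_isZero hZ) hK⟩⟩
  · intro i _
    exact (HomologicalComplex.eval _ _ i).map_isZero hZ
  · intro i
    have hz : IsZero (Z.X i) :=
      (HomologicalComplex.eval _ _ i).map_isZero hZ
    have : Subsingleton (Z.X i) := ModuleCat.subsingleton_of_isZero hz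
    exact ⟨Module.Finite.of_surjective (0 : R →ₗ[R] Z.X i)
      (fun x => ⟨0, Subsingleton.elim _ _⟩), inferInstance⟩

theorem isZero_of_homology {K : Dual.D R}
    (h : ∀ n : ℤ, IsZero ((homologyFunctor (ModuleCat.{u} R) n).obj K)) : IsZero K := by
  have h1 : K.IsLE (-1) := by
    rw [isLE_iff]
    intro i _
    exact h i
  have h2 : K.IsGE 0 := by
    rw [isGE_iff]
    intro i _
    exact h i
  exact TStructure.t.isZero K (-1) 0 (by norm_num)

/-- The case of cohomology concentrated in one degree. -/
theorem isPerfect_of_single_degree (K : Dual.D R) (a : ℤ)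
    (hK : ∀ i : ℤ, i ≠ a → IsZero ((homologyFunctor (ModuleCat.{u} R) i).obj K))
    (hP : DRing.IsPerfectModule R (Dual.HD R K a)) : DRing.IsPerfect R K := by
  have h1 : K.IsLE a := by
    rw [isLE_iff]
    intro i hi
    exact hK i (by omega)
  have h2 : K.IsGE a := by
    rw [isGE_iff]
    intro i hi
    exact hK i (by omega)
  obtain ⟨N, ⟨e⟩⟩ := exists_iso_singleFunctor_obj_of_isGE_of_isLE K a
  have eN : (homologyFunctor (ModuleCat.{u} R) a).obj K ≅ N :=
    (homologyFunctor (ModuleCat.{u} R) a).mapIso e ≪≫
      (singleFunctorCompHomologyFunctorIso (ModuleCat.{u} R) a).app N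
  have hN : DRing.IsPerfect R ((singleFunctor (ModuleCat.{u} R) 0).obj N) :=
    isPerfect_of_iso ((singleFunctor (ModuleCat.{u} R) 0).mapIso eN) hP
  have hN' := perf_shift _ (-a) hN
  have e' : ((singleFunctor (ModuleCat.{u} R) 0).obj N)⟦-a⟧ ≅
      (singleFunctor (ModuleCat.{u} R) a).obj N :=
    ((singleFunctors (ModuleCat.{u} R)).shiftIso (-a) a 0 (by omega)).app N
  exact isPerfect_of_iso (e' ≪≫ e.symm) hN'

theorem isPerfect_of_homology_aux (n : ℕ) : ∀ (K : Dual.D R) (a b : ℤ), b ≤ a + n →
    (∀ i : ℤ, (i < a ∨ b < i) → IsZero ((homologyFunctor (ModuleCat.{u} R) i).obj K)) →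
    (∀ i : ℤ, DRing.IsPerfectModule R (Dual.HD R K i)) → DRing.IsPerfect R K := by
  induction n with
  | zero =>
    intro K a b hab hK hP
    refine isPerfect_of_single_degree K a (fun i hi => hK i ?_) (hP a)
    rcases lt_or_gt_of_ne hi with hi | hi
    · left; exact hi
    · right; omega
  | succ n ih =>
    intro K a b hab hK hP
    obtain ⟨X, Y, hX, hY, f, g, h, hT⟩ := TStructure.t.exists_triangle K (b - 1) b (by omega)
    have : X.IsLE (b - 1) := ⟨hX⟩
    have : Y.IsGE b := ⟨hY⟩
    -- cohomology of X
    have hXiso : ∀ i : ℤ, i ≤ b - 1 → IsIso ((homologyFunctor (ModuleCat.{u} R) i).map f) := by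
      intro i hi
      have hY1 : IsZero ((homologyFunctor (ModuleCat.{u} R) (i - 1)).obj Y) :=
        Y.isZero_of_isGE b (i - 1) (by omega)
      have hY2 : IsZero ((homologyFunctor (ModuleCat.{u} R) i).obj Y) :=
        Y.isZero_of_isGE b i (by omega)
      have : Mono ((homologyFunctor (ModuleCat.{u} R) i).map f) :=
        (HomologySequence.mono_homologyMap_mor₁_iff (Triangle.mk f g h) hT (i - 1) i
          (by omega)).mpr (hY1.eq_of_src _ _)
      have : Epi ((homologyFunctor (ModuleCat.{u} R) i).map f) :=
        (HomologySequence.epi_homologyMap_mor₁_iff (Triangle.mk f g h) hT i).mpr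
          (hY2.eq_of_tgt _ _)
      exact isIso_of_mono_of_epi _
    have hYiso : ∀ i : ℤ, b ≤ i → IsIso ((homologyFunctor (ModuleCat.{u} R) i).map g) := by
      intro i hi
      have hX1 : IsZero ((homologyFunctor (ModuleCat.{u} R) i).obj X) :=
        X.isZero_of_isLE (b - 1) i (by omega)
      have hX2 : IsZero ((homologyFunctor (ModuleCat.{u} R) (i + 1)).obj X) :=
        X.isZero_of_isLE (b - 1) (i + 1) (by omega)
      have : Mono ((homologyFunctor (ModuleCat.{u} R) i).map g) :=
        (HomologySequence.mono_homologyMap_mor₂_iff (Triangle.mk f g h) hT i).mpr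
          (hX1.eq_of_src _ _)
      have : Epi ((homologyFunctor (ModuleCat.{u} R) i).map g) :=
        (HomologySequence.epi_homologyMap_mor₂_iff (Triangle.mk f g h) hT i (i + 1) rfl).mpr
          (hX2.eq_of_tgt _ _)
      exact isIso_of_mono_of_epi _
    have hXperf : DRing.IsPerfect R X := by
      refine ih X a (b - 1) (by omega) ?_ ?_
      · intro i hi
        by_cases hib : i ≤ b - 1
        · rcases hi with hi | hi
          · have := hXiso i hib
            exact (hK i (Or.inl hi)).of_iso (asIso ((homologyFunctor (ModuleCat.{u} R) i).map f))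
          · exact X.isZero_of_isLE (b - 1) i hi
        · exact X.isZero_of_isLE (b - 1) i (by omega)
      · intro i
        by_cases hi : i ≤ b - 1
        · have := hXiso i hi
          exact isPerfect_of_iso ((singleFunctor (ModuleCat.{u} R) 0).mapIso
            (asIso ((homologyFunctor (ModuleCat.{u} R) i).map f)).symm) (hP i)
        · exact isPerfect_of_isZero _ ((singleFunctor (ModuleCat.{u} R) 0).map_isZero
            (X.isZero_of_isLE (b - 1) i (by omega)))
    have hYperf : DRing.IsPerfect R Y := by
      refine isPerfect_of_single_degree Y b ?_ ?_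
      · intro i hi
        rcases lt_or_gt_of_ne hi with hi | hi
        · exact Y.isZero_of_isGE b i hi
        · have := hYiso i (by omega)
          exact (hK i (Or.inr hi)).of_iso
            (asIso ((homologyFunctor (ModuleCat.{u} R) i).map g)).symm
      · have := hYiso b le_rfl
        exact isPerfect_of_iso ((singleFunctor (ModuleCat.{u} R) 0).mapIso
          (asIso ((homologyFunctor (ModuleCat.{u} R) b).map g))) (hP b)
    exact (perf_two_of_three (Triangle.mk f g h) hT).2.1 hXperf hYperf

end Groth.Agent.Helper11.DC
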