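import Groth.Agent.Lib.Helper11.TorAmp1
import Groth.Agent.Lib.Helper11.DCHomK
import Groth.Agent.Lib.Helper11.DCPerfHom
import Mathlib.Algebra.Category.ModuleCat.Monoidal.Basic
import Mathlib.CategoryTheory.Monoidal.Preadditive
import Mathlib.Algebra.Homology.HomotopyCategory.MappingCone
import Mathlib.LinearAlgebra.TensorProduct.Prod

/-!
# Termwise tensor product of complexes with a module; quasi-isomorphisms of bounded above flat
complexes are preserved
-/

set_option autoImplicit false
universe u

open CategoryTheory Limits DerivedCategory Pretriangulated MonoidalCategory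

attribute [local instance] HasDerivedCategory.standard

namespace Groth.Agent.Helper11.TA

variable {R : Type u} [CommRing R]

open Groth.Agent.Helper11.DC

theorem flat_prod (M N : Type u) [AddCommGroup M] [AddCommGroup N] [Module R M] [Module R N]
    [Module.Flat R M] [Module.Flat R N] : Module.Flat R (M × N) := by
  rw [Module.Flat.iff_rTensor_preserves_injective_linearMap]
  intro A B _ _ _ _ f hf
  have h1 : Function.Injective (f.rTensor M) := Module.Flat.rTensor_preserves_injective_linearMap f hf
  have h2 : Function.Injective (f.rTensor N) := Module.Flat.rTensor_preserves_injective_linearMap f hf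
  have key : (TensorProduct.prodRight R R B M N).toLinearMap ∘ₗ f.rTensor (M × N) =
      (LinearMap.prodMap (f.rTensor M) (f.rTensor N)) ∘ₗ
        (TensorProduct.prodRight R R A M N).toLinearMap := by
    ext a m
    · simp
    · simp
    · simp
    · simp
  have : Function.Injective ((TensorProduct.prodRight R R B M N).toLinearMap ∘ₗ
      f.rTensor (M × N)) := by
    rw [key]
    exact (Prod.map_injective.mpr ⟨h1, h2⟩).comp (TensorProduct.prodRight R R A M N).injective
  exact Function.Injective.of_comp this

/-- The termwise tensor product functor `- ⊗ M` on cochain complexes. -/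
noncomputable abbrev tens (M : ModuleCat.{u} R) : DRing.Cx R ⥤ DRing.Cx R :=
  (MonoidalCategory.tensorRight M).mapHomologicalComplex (ComplexShape.up ℤ)

theorem tens_d_hom (M : ModuleCat.{u} R) (C : DRing.Cx R) (i j : ℤ) :
    (((tens M).obj C).d i j).hom = (C.d i j).hom.rTensor M := rfl

theorem tens_isZero (M : ModuleCat.{u} R) (C : DRing.Cx R) (i : ℤ) (h : IsZero (C.X i)) :
    IsZero (((tens M).obj C).X i) :=
  (MonoidalCategory.tensorRight M).map_isZero h

/-- Lemma B: an acyclic bounded above complex of flat modules stays acyclic after `- ⊗ M`. -/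
theorem exactAt_tens_of_acyclic (C : DRing.Cx R) (c : ℤ) (hc : ∀ i : ℤ, c < i → IsZero (C.X i))
    (hflat : ∀ i, Module.Flat R (C.X i)) (hex : ∀ i, C.ExactAt i) (M : ModuleCat.{u} R) (k : ℤ) :
    ((tens M).obj C).ExactAt k := by
  refine exactAt_of_ker_le_range ((tens M).obj C) (k - 1) k (k + 1) (by omega) rfl ?_
  rw [tens_d_hom, tens_d_hom]
  exact ker_rTensor_le_range_of_acyclic C c hc hflat hex M (k - 1) k (k + 1) (by omega) rfl

theorem isZero_Q_of_exactAt (C : DRing.Cx R) (h : ∀ i, C.ExactAt i) : IsZero (Q.obj C) := by
  apply isZero_of_homology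
  intro n
  refine IsZero.of_iso ?_ ((homologyFunctorFactors (ModuleCat.{u} R) n).app C)
  exact (HomologicalComplex.exactAt_iff_isZero_homology C n).mp (h n)

/-- Lemma C: a quasi-isomorphism between bounded above complexes of flat modules stays a
quasi-isomorphism after `- ⊗ M`. -/
theorem isIso_Q_map_tens (P E : DRing.Cx R) (cP cE : ℤ) (hP : ∀ i : ℤ, cP < i → IsZero (P.X i))
    (hE : ∀ i : ℤ, cE < i → IsZero (E.X i)) (hPf : ∀ i, Module.Flat R (P.X i))
    (hEf : ∀ i, Module.Flat R (E.X i)) (f : P ⟶ E) (hf : IsIso (Q.map f)) (M : ModuleCat.{u} R) :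
    IsIso (Q.map ((tens M).map f)) := by
  have hex := cone_exactAt f hf
  have hz : ∀ i : ℤ, max cP cE < i → IsZero ((CochainComplex.mappingCone f).X i) := by
    intro i hi
    exact mappingCone_isZero f i (hP _ (by omega)) (hE _ (by omega))
  have hfl : ∀ i, Module.Flat R ((CochainComplex.mappingCone f).X i) := by
    intro i
    haveI := hPf (i + 1)
    haveI := hEf i
    haveI := flat_prod (R := R) (P.X (i + 1)) (E.X i)
    exact Module.Flat.of_linearEquiv (mappingConeXEquiv f i)
  have h1 := exactAt_tens_of_acyclic _ _ hz hfl hex M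
  have e := CochainComplex.mappingCone.mapHomologicalComplexIso f (MonoidalCategory.tensorRight M)
  have hz2 : IsZero (Q.obj (CochainComplex.mappingCone ((tens M).map f))) :=
    IsZero.of_iso (isZero_Q_of_exactAt _ h1) (Q.mapIso e.symm)
  have hT := DerivedCategory.mappingCone_triangle_distinguished ((tens M).map f)
  exact (Triangle.isZero₃_iff_isIso₁ _ hT).mp hz2

end Groth.Agent.Helper11.TA
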