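import Groth.Agent.Lib.Helper11.BD2
import Groth.Agent.Lib.Helper11.TorAmp2
import Groth.Agent.Lib.Helper11.DCStupid
import Mathlib.Algebra.Homology.HomotopyCategory.DegreewiseSplit

/-!
# Biduality: the good complexes form a thick-like class (helper11)
-/

set_option autoImplicit false
set_option linter.unusedSectionVars false
set_option linter.unusedVariables false
set_option linter.style.haveILetI false

open CategoryTheory CategoryTheory.Limits CochainComplex HomComplex Pretriangulated

universe u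

attribute [local instance] HasDerivedCategory.standard

namespace Groth.Agent.Helper11.BD

open Groth.Agent.Helper3.HT Groth.Agent.Helper8.BiDual

variable {A : Type u} [CommRing A] (J : DRing.Cx A)

theorem rotSC_shortExact {K L : DRing.Cx A} (φ : K ⟶ L) :
    (mappingCone.triangleRotateShortComplex φ).ShortExact := by
  apply HomologicalComplex.shortExact_of_degreewise_shortExact
  intro n
  exact (mappingCone.triangleRotateShortComplexSplitting φ n).shortExact

theorem good_cone_id [J.IsKInjective] (C : DRing.Cx A) : Good J (mappingCone (𝟙 C)) := by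
  apply good_of_isZero_Q
  apply Groth.Agent.Helper11.TA.isZero_Q_of_exactAt
  exact (Groth.Agent.Helper5.KF.quasiIso_iff_acyclic_mappingCone (𝟙 C)).mp inferInstance

theorem good_shift_one_iff [J.IsKInjective] (hJ : ∀ n : ℤ, Injective (J.X n)) (C : DRing.Cx A) :
    Good J (C⟦(1 : ℤ)⟧) ↔ Good J C := by
  have hS := rotSC_shortExact (𝟙 C)
  constructor
  · intro h
    exact good_X₁ J _ hS hJ (good_cone_id J C) h
  · intro h
    exact good_X₃ J _ hS hJ h (good_cone_id J C)

theorem good_shift_iff [J.IsKInjective] (hJ : ∀ n : ℤ, Injective (J.X n)) (C : DRing.Cx A)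
    (n : ℤ) : Good J (C⟦n⟧) ↔ Good J C := by
  induction n using Int.induction_on with
  | zero =>
    exact good_iff_of_quasiIso J ((CategoryTheory.shiftFunctorZero (DRing.Cx A) ℤ).hom.app C)
  | succ k ih =>
    have e : C⟦((k : ℤ) + 1)⟧ ≅ (C⟦(k : ℤ)⟧)⟦(1 : ℤ)⟧ :=
      (CategoryTheory.shiftFunctorAdd' (DRing.Cx A) (k : ℤ) 1 ((k : ℤ) + 1) rfl).app C
    exact (good_iff_of_quasiIso J e.hom).trans ((good_shift_one_iff J hJ _).trans ih)
  | pred k ih =>
    have e : C⟦(-(k : ℤ))⟧ ≅ (C⟦(-(k : ℤ) - 1)⟧)⟦(1 : ℤ)⟧ :=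
      (CategoryTheory.shiftFunctorAdd' (DRing.Cx A) (-(k : ℤ) - 1) 1 (-(k : ℤ)) (by omega)).app C
    exact ((good_shift_one_iff J hJ _).symm.trans (good_iff_of_quasiIso J e.hom).symm).trans ih

/-- the property on `D(A)`: every representative is good -/
def BDP (X : Dual.D A) : Prop :=
  ∀ C : DRing.Cx A, Nonempty (DerivedCategory.Q.obj C ≅ X) → Good J C

theorem bdp_of_good [J.IsKInjective] {C : DRing.Cx A} {X : Dual.D A}
    (e : DerivedCategory.Q.obj C ≅ X) (h : Good J C) : BDP J X := by
  rintro C' ⟨e'⟩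
  exact (good_iff_of_iso J (e ≪≫ e'.symm)).mp h

theorem good_of_bdp {C : DRing.Cx A} {X : Dual.D A}
    (e : DerivedCategory.Q.obj C ≅ X) (h : BDP J X) : Good J C := h C ⟨e⟩

theorem thickLike_bdp [J.IsKInjective] (hJ : ∀ n : ℤ, Injective (J.X n)) :
    Groth.Agent.Helper11.DC.ThickLike (BDP J) where
  iso := by
    rintro K L e h C ⟨e'⟩
    exact h C ⟨e' ≪≫ e.symm⟩
  shift := by
    intro K n h
    have e₀ : DerivedCategory.Q.obj (DerivedCategory.Q.objPreimage K) ≅ K :=
      DerivedCategory.Q.objObjPreimageIso K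
    have hg : Good J (DerivedCategory.Q.objPreimage K) := h _ ⟨e₀⟩
    have hg' : Good J ((DerivedCategory.Q.objPreimage K)⟦n⟧) := (good_shift_iff J hJ _ n).mpr hg
    exact bdp_of_good J ((DerivedCategory.Q.commShiftIso n).app _ ≪≫
      (CategoryTheory.shiftFunctor (Dual.D A) n).mapIso e₀) hg'
  ext := by
    intro T hT h1 h3
    rw [DerivedCategory.mem_distTriang_iff] at hT
    obtain ⟨X, Y, f, ⟨e⟩⟩ := hT
    have e1 : DerivedCategory.Q.obj X ≅ T.obj₁ := (Triangle.π₁.mapIso e).symm
    have e2 : DerivedCategory.Q.obj Y ≅ T.obj₂ := (Triangle.π₂.mapIso e).symm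
    have e3 : DerivedCategory.Q.obj (mappingCone f) ≅ T.obj₃ := (Triangle.π₃.mapIso e).symm
    have g1 : Good J X := good_of_bdp J e1 h1
    have g3 : Good J (mappingCone f) := good_of_bdp J e3 h3
    have g1' : Good J (X⟦(1 : ℤ)⟧) := (good_shift_one_iff J hJ X).mpr g1
    have g2 : Good J Y := good_X₁ J _ (rotSC_shortExact f) hJ g3 g1'
    exact bdp_of_good J e2 g2
  zero := by
    rintro K hK C ⟨e⟩
    exact good_of_isZero_Q J (hK.of_iso e)

end Groth.Agent.Helper11.BD
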