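import Groth.Agent.Lib.Helper11.ExPair1

/-!
# Exact pairings of complexes: unitors and associators on elements (helper11)
-/

set_option autoImplicit false

open CategoryTheory CategoryTheory.Limits MonoidalCategory
open scoped TensorProduct

universe u

namespace Groth.Agent.Helper11.ExPair

open Groth.Agent.Helper3.HT

variable {A : Type u} [CommRing A]

/-- the unit complex -/
noncomputable abbrev U (A : Type u) [CommRing A] : DRing.Cx A := 𝟙_ (DRing.Cx A)

/-- the identification `(𝟙_).X 0 ≅ A` -/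
noncomputable def e0 (A : Type u) [CommRing A] : (U A).X 0 ≅ 𝟙_ (ModuleCat.{u} A) :=
  HomologicalComplex.singleObjXSelf (ComplexShape.up ℤ) 0 (𝟙_ (ModuleCat.{u} A))

/-- the unit element of `(𝟙_).X 0` -/
noncomputable def one0 (A : Type u) [CommRing A] : (U A).X 0 := (e0 A).inv.hom (1 : A)

/-- the coordinate on `(𝟙_).X j`, for `j = 0` -/
noncomputable def coordJ (A : Type u) [CommRing A] (j : ℤ) (hj : j = 0) : (U A).X j →ₗ[A] A := by
  subst hj
  exact (e0 A).hom.hom

theorem coordJ_zero (w : (U A).X 0) : coordJ A 0 rfl w = (e0 A).hom.hom w := rfl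

theorem eq_coord_smul_one0 (w : (U A).X 0) : w = (coordJ A 0 rfl w) • one0 A := by
  rw [coordJ_zero, one0, ← map_smul]
  have h1 : ((e0 A).hom.hom w) • (1 : A) = (e0 A).hom.hom w := mul_one _
  rw [h1]
  exact (congrArg (fun φ => φ.hom w) (e0 A).hom_inv_id).symm

theorem eq_zero_of_ne (j : ℤ) (hj : j ≠ 0) (w : (U A).X j) : w = 0 := by
  have hz : IsZero ((U A).X j) :=
    HomologicalComplex.isZero_single_obj_X (ComplexShape.up ℤ) 0 (𝟙_ (ModuleCat.{u} A)) j hj
  haveI := ModuleCat.subsingleton_of_isZero hz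
  exact Subsingleton.elim _ _

variable (K : DRing.Cx A)

theorem leftUnitor_inv_apply (i : ℤ) (z : K.X i) :
    ((λ_ K).inv.f i).hom z =
      (HomologicalComplex.ιTensorObj (U A) K 0 i i (zero_add i)).hom (one0 A ⊗ₜ[A] z) := by
  have h : (λ_ K).inv.f i = (λ_ (K.X i)).inv ≫ ((e0 A).inv ▷ (K.X i)) ≫
      HomologicalComplex.ιTensorObj (U A) K 0 i i (zero_add i) :=
    HomologicalComplex.leftUnitor'_inv K i
  rw [h]
  rfl

theorem rightUnitor_inv_apply (i : ℤ) (z : K.X i) :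
    ((ρ_ K).inv.f i).hom z =
      (HomologicalComplex.ιTensorObj K (U A) i 0 i (add_zero i)).hom (z ⊗ₜ[A] one0 A) := by
  have h : (ρ_ K).inv.f i = (ρ_ (K.X i)).inv ≫ ((K.X i) ◁ (e0 A).inv) ≫
      HomologicalComplex.ιTensorObj K (U A) i 0 i (add_zero i) :=
    HomologicalComplex.rightUnitor'_inv K i
  rw [h]
  rfl


theorem leftUnitor_hom_apply (i j : ℤ) (hj : j = 0) (h : j + i = i) (w : (U A).X j) (z : K.X i) :
    ((λ_ K).hom.f i).hom ((HomologicalComplex.ιTensorObj (U A) K j i i h).hom (w ⊗ₜ[A] z)) =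
      (coordJ A j hj w) • z := by
  subst hj
  have h1 : (HomologicalComplex.ιTensorObj (U A) K 0 i i h).hom (w ⊗ₜ[A] z) =
      (coordJ A 0 rfl w) • ((λ_ K).inv.f i).hom z := by
    rw [leftUnitor_inv_apply, ← map_smul, TensorProduct.smul_tmul', ← eq_coord_smul_one0]
  rw [h1, map_smul]
  congr 1
  exact congrArg (fun φ => (φ.f i).hom z) (λ_ K).inv_hom_id

theorem rightUnitor_hom_apply (i j : ℤ) (hj : j = 0) (h : i + j = i) (z : K.X i) (w : (U A).X j) :
    ((ρ_ K).hom.f i).hom ((HomologicalComplex.ιTensorObj K (U A) i j i h).hom (z ⊗ₜ[A] w)) =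
      (coordJ A j hj w) • z := by
  subst hj
  have h1 : (HomologicalComplex.ιTensorObj K (U A) i 0 i h).hom (z ⊗ₜ[A] w) =
      (coordJ A 0 rfl w) • ((ρ_ K).inv.f i).hom z := by
    rw [rightUnitor_inv_apply, ← map_smul, TensorProduct.smul_tmul', TensorProduct.smul_tmul,
      ← eq_coord_smul_one0]
  rw [h1, map_smul]
  congr 1
  exact congrArg (fun φ => (φ.f i).hom z) (ρ_ K).inv_hom_id

/-- the associator on pure tensors, with flexible indices -/
theorem associator_hom_apply (X Y Z : DRing.Cx A) (p q j m m' k : ℤ) (hm : p + q = m)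
    (hm' : q + j = m') (hk : m + j = k) (hk' : p + m' = k) (x : X.X p) (y : Y.X q) (z : Z.X j) :
    ((α_ X Y Z).hom.f k).hom ((HomologicalComplex.ιTensorObj (X ⊗ Y) Z m j k hk).hom
      ((HomologicalComplex.ιTensorObj X Y p q m hm).hom (x ⊗ₜ[A] y) ⊗ₜ[A] z)) =
    (HomologicalComplex.ιTensorObj X (Y ⊗ Z) p m' k hk').hom
      (x ⊗ₜ[A] (HomologicalComplex.ιTensorObj Y Z q j m' hm').hom (y ⊗ₜ[A] z)) := by
  subst hm'
  exact associator_ι_tmul X Y Z p q j m k hm hk x y z

theorem associator_inv_apply (X Y Z : DRing.Cx A) (p q j m m' k : ℤ) (hm : p + q = m)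
    (hm' : q + j = m') (hk : m + j = k) (hk' : p + m' = k) (x : X.X p) (y : Y.X q) (z : Z.X j) :
    ((α_ X Y Z).inv.f k).hom ((HomologicalComplex.ιTensorObj X (Y ⊗ Z) p m' k hk').hom
      (x ⊗ₜ[A] (HomologicalComplex.ιTensorObj Y Z q j m' hm').hom (y ⊗ₜ[A] z))) =
    (HomologicalComplex.ιTensorObj (X ⊗ Y) Z m j k hk).hom
      ((HomologicalComplex.ιTensorObj X Y p q m hm).hom (x ⊗ₜ[A] y) ⊗ₜ[A] z) := by
  rw [← associator_hom_apply X Y Z p q j m m' k hm hm' hk hk' x y z]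
  exact congrArg (fun φ => (φ.f k).hom ((HomologicalComplex.ιTensorObj (X ⊗ Y) Z m j k hk).hom
      ((HomologicalComplex.ιTensorObj X Y p q m hm).hom (x ⊗ₜ[A] y) ⊗ₜ[A] z))) (α_ X Y Z).hom_inv_id

end Groth.Agent.Helper11.ExPair
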