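import Groth.Agent.Lib.Helper11.BD3
import Groth.Agent.Lib.Helper11.ExPair2
import Groth.Agent.Lib.Helper8.BiDual10

/-!
# Biduality: the base case of a finite module (helper11)
-/

set_option autoImplicit false
set_option linter.unusedSectionVars false
set_option linter.unusedVariables false
set_option linter.style.haveILetI false

open CategoryTheory CategoryTheory.Limits CochainComplex HomComplex MonoidalCategory
open scoped TensorProduct

universe u

attribute [local instance] HasDerivedCategory.standard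

namespace Groth.Agent.Helper11.BD

open Groth.Agent.Helper3.HT Groth.Agent.Helper8.BiDual Groth.Agent.Helper11.ExPair

variable {A : Type u} [CommRing A] (J : DRing.Cx A) (M : ModuleCat.{u} A)

/-- the element of `M[0]⁰` attached to `x : M` -/
noncomputable def sgInv (x : M) : (sg M).X 0 :=
  (HomologicalComplex.singleObjXSelf (ComplexShape.up ℤ) 0 M).inv.hom x

/-- the element of `M` attached to an element of `M[0]⁰` -/
noncomputable def sgHom (x : (sg M).X 0) : M :=
  (HomologicalComplex.singleObjXSelf (ComplexShape.up ℤ) 0 M).hom.hom x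

theorem sgInv_sgHom (x : (sg M).X 0) : sgInv M (sgHom M x) = x :=
  congrArg (fun φ => φ.hom x) (HomologicalComplex.singleObjXSelf (ComplexShape.up ℤ) 0 M).hom_inv_id

theorem sgInv_zero : sgInv M 0 = 0 := map_zero _

/-- evaluation at `x`, as a chain map `Hom(M[0], J) ⟶ J` -/
noncomputable def evChain (x : M) : DRing.homCx (sg M) J ⟶ J :=
  homCxPre (sgMap (hat x)) J ≫ (unitIso J).hom

theorem Q_map_evChain (x : M) : DerivedCategory.Q.map (evChain J M x) = evD J x := by
  unfold evChain evD Zmap ZunitIso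
  rw [Functor.map_comp]
  rfl

theorem unitIso_hom_apply (p : ℤ) (c : (DRing.homCx (𝟙_ (DRing.Cx A)) J).X p) :
    ((unitIso J).hom.f p).hom c = ((toC c).v 0 p (by omega)).hom (one0 A) := by
  have h1 : ((unitIso J).hom.f p).hom c =
      ((evH (𝟙_ (DRing.Cx A)) J).f p).hom
        (((ρ_ (DRing.homCx (𝟙_ (DRing.Cx A)) J)).inv.f p).hom c) := rfl
  rw [h1, Groth.Agent.Helper11.ExPair.rightUnitor_inv_apply]
  exact evH_f_tmul (𝟙_ (DRing.Cx A)) J p 0 p (add_zero p) c (one0 A)

theorem sgMap_hat_one0 (x : M) : ((sgMap (hat x)).f 0).hom (one0 A) = sgInv M x := by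
  have h1 : (sgMap (hat x)).f 0 =
      (HomologicalComplex.singleObjXSelf (ComplexShape.up ℤ) 0 (𝟙_ (ModuleCat.{u} A))).hom ≫
        hat x ≫ (HomologicalComplex.singleObjXSelf (ComplexShape.up ℤ) 0 M).inv :=
    HomologicalComplex.single_map_f_self _ _ _
  rw [h1]
  have h2 : ((HomologicalComplex.singleObjXSelf (ComplexShape.up ℤ) 0
      (𝟙_ (ModuleCat.{u} A))).hom.hom (one0 A) : A) = 1 :=
    congrArg (fun φ => φ.hom (1 : A)) (e0 A).inv_hom_id
  show (HomologicalComplex.singleObjXSelf (ComplexShape.up ℤ) 0 M).inv.hom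
    ((hat x).hom ((HomologicalComplex.singleObjXSelf (ComplexShape.up ℤ) 0
      (𝟙_ (ModuleCat.{u} A))).hom.hom (one0 A))) = _
  rw [h2]
  unfold sgInv
  congr 1
  show (1 : A) • x = x
  exact one_smul _ _

theorem evChain_f_apply (x : M) (p : ℤ) (c : (DRing.homCx (sg M) J).X p) :
    ((evChain J M x).f p).hom c = ((toC c).v 0 p (by omega)).hom (sgInv M x) := by
  have h1 : ((evChain J M x).f p).hom c =
      ((unitIso J).hom.f p).hom (((homCxPre (sgMap (hat x)) J).f p).hom c) := rfl
  rw [h1, unitIso_hom_apply, toC_homCxPre, Cochain.zero_cochain_comp_v, Cochain.ofHom_v,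
    ModuleCat.hom_comp, LinearMap.comp_apply, sgMap_hat_one0]

theorem ofHom_evChain (x : M) :
    Cochain.ofHom (evChain J M x) = evx (sg M) J 0 (sgInv M x) := by
  refine Cochain.ext _ _ (fun p p' hpp' => ?_)
  obtain rfl : p' = p := by omega
  apply ModuleCat.hom_ext
  apply LinearMap.ext
  intro c
  rw [Cochain.ofHom_v, evChain_f_apply, evx_v_apply, zero_mul, Int.negOnePow_zero, one_smul]

/-- the base case: a module satisfying helper8's biduality property `P` is good -/
theorem good_sg_of_P [J.IsKInjective] (hP : P J M) : Good J (sg M) := by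
  unfold Good
  apply Groth.Agent.Helper5.KF.quasiIso_of_elements
  · intro n n' hn x m hx hm
    by_cases h0 : n' = 0
    · subst h0
      obtain rfl : n = -1 := by omega
      change evx (sg M) J 0 x = δ (-1) 0 (toC m) at hm
      have h1 : Cochain.ofHom (evChain J M (sgHom M x)) = δ (-1) 0 (toC m) := by
        rw [ofHom_evChain, sgInv_sgHom, hm]
      have H : Homotopy (evChain J M (sgHom M x)) 0 :=
        (Cochain.equivHomotopy _ _).symm ⟨toC m, by rw [Cochain.ofHom_zero, add_zero, h1]⟩
      have h2 : evD J (sgHom M x) = evD J (0 : M) := by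
        rw [← Q_map_evChain, DerivedCategory.Q_map_eq_of_homotopy _ H, Functor.map_zero, evD_zero]
      have h3 : sgHom M x = 0 := hP.2.1 h2
      have h4 : x = 0 := by rw [← sgInv_sgHom M x, h3, sgInv_zero]
      exact ⟨0, by rw [map_zero, h4]⟩
    · haveI : Subsingleton ((sg M).X n') := ModuleCat.subsingleton_of_isZero
        (HomologicalComplex.isZero_single_obj_X (ComplexShape.up ℤ) 0 M n' h0)
      exact ⟨0, Subsingleton.elim _ _⟩
  · intro n n' hn m hm
    by_cases h0 : n' = 0
    · subst h0
      obtain rfl : n = -1 := by omega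
      change δ 0 (0 + 1) (toC m) = 0 at hm
      let z : Cocycle (DRing.homCx (sg M) J) J 0 := Cocycle.mk (toC m) (0 + 1) rfl hm
      have hψ : Cochain.ofHom (Cocycle.homOf z) = toC m := Cocycle.cochain_ofHom_homOf_eq_coe z
      obtain ⟨x', hx'⟩ := hP.2.2 (DerivedCategory.Q.map (Cocycle.homOf z))
      have hx'' : DerivedCategory.Q.map (evChain J M x') =
          DerivedCategory.Q.map (Cocycle.homOf z) := by
        rw [Q_map_evChain]
        exact hx'
      obtain ⟨H⟩ := Groth.Agent.Helper3.KF.homotopy_of_Q_map_eq_of_isKInjective _ J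
        (evChain J M x') (Cocycle.homOf z) hx''
      obtain ⟨w, hw⟩ := Cochain.equivHomotopy _ _ H
      haveI : Subsingleton ((sg M).X (0 + 1)) := ModuleCat.subsingleton_of_isZero
        (HomologicalComplex.isZero_single_obj_X (ComplexShape.up ℤ) 0 M (0 + 1) (by omega))
      refine ⟨sgInv M x', w, Subsingleton.elim _ _, ?_⟩
      change evx (sg M) J 0 (sgInv M x') = toC m + δ (-1) 0 w
      rw [← ofHom_evChain, hw, hψ, add_comm]
    · obtain rfl : n = n' - 1 := by omega
      change δ n' (n' + 1) (toC m) = 0 at hm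
      let zc : Groth.Agent.Helper8.HomH.cocyc (DRing.homCx (sg M) J) J n' :=
        ⟨toC m, LinearMap.mem_ker.mpr hm⟩
      have h1 : Groth.Agent.Helper8.HomH.toHomD (DRing.homCx (sg M) J) J n' zc = 0 :=
        hP.1 n' h0 _
      obtain ⟨y, hy⟩ := (Groth.Agent.Helper8.HomH.toHomD_eq_zero_iff _ _ _ zc).mp h1
      refine ⟨0, -y, map_zero _, ?_⟩
      rw [map_zero]
      change 0 = toC m + δ (n' - 1) n' (-y)
      rw [δ_neg, hy]
      exact (add_neg_cancel _).symm

end Groth.Agent.Helper11.BD
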