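import Groth.Agent.Lib.Helper11.DCTwoOfThree
import Groth.Agent.Lib.Helper11.DCStupid
import Mathlib.CategoryTheory.Abelian.Projective.Dimension
import Mathlib.Algebra.Homology.DerivedCategory.SingleTriangle
import Mathlib.Algebra.Category.ModuleCat.Projective

/-!
Projective amplitude of objects of `D(R)` and global dimension.
-/

open CategoryTheory Category Limits Pretriangulated DerivedCategory ZeroObject

attribute [local instance] HasDerivedCategory.standard

universe u

namespace Groth.Agent.Helper11.DC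

variable {R : Type u} [CommRing R]

/-- `K` is represented by a complex of projective modules vanishing outside `[lo, hi]`. -/
def ProjAmp (lo hi : ℤ) (K : Dual.D R) : Prop :=
  ∃ P : DRing.Cx R, DRing.VanishesOutside P lo hi ∧ (∀ i : ℤ, Module.Projective R (P.X i)) ∧
    Nonempty (Q.obj P ≅ K)

theorem ProjAmp.mono {lo hi lo' hi' : ℤ} {K : Dual.D R} (h : ProjAmp lo hi K) (h1 : lo' ≤ lo)
    (h2 : hi ≤ hi') : ProjAmp lo' hi' K := by
  obtain ⟨P, hP, hproj, e⟩ := h
  refine ⟨P, fun i hi => hP i ?_, hproj, e⟩
  rcases hi with hi | hi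
  · left; omega
  · right; omega

theorem ProjAmp.of_iso {lo hi : ℤ} {K L : Dual.D R} (e : K ≅ L) (h : ProjAmp lo hi K) :
    ProjAmp lo hi L := by
  obtain ⟨P, hP, hproj, ⟨e'⟩⟩ := h
  exact ⟨P, hP, hproj, ⟨e' ≪≫ e⟩⟩

theorem ProjAmp.shift {lo hi : ℤ} {K : Dual.D R} (h : ProjAmp lo hi K) (n : ℤ) :
    ProjAmp (lo - n) (hi - n) (K⟦n⟧) := by
  obtain ⟨P, hP, hproj, ⟨e⟩⟩ := h
  refine ⟨P⟦n⟧, ?_, ?_, ⟨shiftRepIso P K e n⟩⟩
  · intro i hi
    refine hP (i + n) ?_
    rcases hi with hi | hi
    · left; omega
    · right; omega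
  · intro i
    exact hproj (i + n)

theorem ProjAmp.of_isZero (lo hi : ℤ) (K : Dual.D R) (hK : IsZero K) : ProjAmp lo hi K := by
  obtain ⟨Z, hZ⟩ : ∃ Z : DRing.Cx R, IsZero Z := ⟨0, isZero_zero _⟩
  refine ⟨Z, ?_, ?_, ⟨IsZero.iso (Q.map_isZero hZ) hK⟩⟩
  · intro i _
    exact (HomologicalComplex.eval _ _ i).map_isZero hZ
  · intro i
    have hz : IsZero (Z.X i) := (HomologicalComplex.eval _ _ i).map_isZero hZ
    have : Subsingleton (Z.X i) := ModuleCat.subsingleton_of_isZero hz
    infer_instance

/-- The third vertex of a triangle. -/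
theorem ProjAmp.third (T : Triangle (Dual.D R)) (hT : T ∈ distTriang (Dual.D R))
    {l₁ h₁ l₂ h₂ : ℤ} (H₁ : ProjAmp l₁ h₁ T.obj₁) (H₂ : ProjAmp l₂ h₂ T.obj₂) :
    ProjAmp (min (l₁ - 1) l₂) (max (h₁ - 1) h₂) T.obj₃ := by
  obtain ⟨E₁, hb₁, hf₁, ⟨e₁⟩⟩ := H₁
  obtain ⟨E₂, hb₂, hf₂, ⟨e₂⟩⟩ := H₂
  have : E₁.IsKProjective := isKProjective_of_vanishesAbove E₁ h₁
    (fun i hi => hb₁ i (Or.inr hi)) hf₁
  obtain ⟨φ, ⟨e₃⟩⟩ := third_vertex T hT E₁ E₂ e₁.symm e₂.symm
  refine ⟨CochainComplex.mappingCone φ, ?_, ?_, ⟨e₃.symm⟩⟩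
  · intro i hi
    refine mappingCone_isZero φ i (hb₁ _ ?_) (hb₂ _ ?_)
    · rcases hi with hi | hi
      · left; omega
      · right; omega
    · rcases hi with hi | hi
      · left; omega
      · right; omega
  · intro i
    have := hf₁ (i + 1)
    have := hf₂ i
    exact Module.Projective.of_equiv (mappingConeXEquiv φ i).symm

/-- The middle vertex of a triangle. -/
theorem ProjAmp.middle (T : Triangle (Dual.D R)) (hT : T ∈ distTriang (Dual.D R))
    {l₁ h₁ l₃ h₃ : ℤ} (H₁ : ProjAmp l₁ h₁ T.obj₁) (H₃ : ProjAmp l₃ h₃ T.obj₃) :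
    ProjAmp (min l₃ l₁) (max h₃ h₁) T.obj₂ := by
  have := ProjAmp.third T.invRotate (inv_rot_of_distTriang _ hT) (H₃.shift (-1)) H₁
  refine ProjAmp.mono this ?_ ?_
  · simp only [sub_neg_eq_add, add_sub_cancel_right, le_refl]
  · simp only [sub_neg_eq_add, add_sub_cancel_right, le_refl]

theorem ProjAmp.single (N : ModuleCat.{u} R) (j : ℤ) {lo hi : ℤ}
    (h : ProjAmp lo hi ((singleFunctor (ModuleCat.{u} R) 0).obj N)) :
    ProjAmp (lo + j) (hi + j) ((singleFunctor (ModuleCat.{u} R) j).obj N) := by
  have := (h.shift (-j)).of_iso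
    (((singleFunctors (ModuleCat.{u} R)).shiftIso (-j) j 0 (by omega)).app N)
  exact this.mono (by omega) (by omega)

theorem projAmp_of_projective (M : ModuleCat.{u} R) [Projective M] :
    ProjAmp 0 0 ((singleFunctor (ModuleCat.{u} R) 0).obj M) := by
  refine ⟨(CochainComplex.singleFunctor (ModuleCat.{u} R) 0).obj M, ?_, ?_, ⟨Iso.refl _⟩⟩
  · intro i hi
    exact HomologicalComplex.isZero_single_obj_X _ _ _ _ (by
      rcases hi with hi | hi <;> omega)
  · intro i
    by_cases hi : i = 0
    · subst hi
      have : Module.Projective R M := (IsProjective.iff_projective M).mpr inferInstance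
      exact Module.Projective.of_equiv
        (HomologicalComplex.singleObjXSelf (ComplexShape.up ℤ) 0 M).toLinearEquiv.symm
    · have hz : IsZero (((CochainComplex.singleFunctor (ModuleCat.{u} R) 0).obj M).X i) :=
        HomologicalComplex.isZero_single_obj_X _ _ _ _ hi
      have : Subsingleton (((CochainComplex.singleFunctor (ModuleCat.{u} R) 0).obj M).X i) :=
        ModuleCat.subsingleton_of_isZero hz
      infer_instance

/-- Modules of projective dimension `≤ n` have projective amplitude in `[-n, 0]`. -/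
theorem projAmp_of_hasProjectiveDimensionLT (n : ℕ) : ∀ (M : ModuleCat.{u} R),
    HasProjectiveDimensionLT M (n + 1) →
    ProjAmp (-(n : ℤ)) 0 ((singleFunctor (ModuleCat.{u} R) 0).obj M) := by
  induction n with
  | zero =>
    intro M hM
    have : Projective M := projective_iff_hasProjectiveDimensionLT_one.mpr (by simpa using hM)
    simpa using projAmp_of_projective M
  | succ n ih =>
    intro M hM
    let π := Projective.π M
    let S := ShortComplex.kernelSequence π
    have hS : S.ShortExact := by
      refine ShortComplex.ShortExact.mk' (ShortComplex.kernelSequence_exact π) inferInstance ?_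
      change Epi π
      infer_instance
    have hK : HasProjectiveDimensionLT S.X₁ (n + 1) := by
      refine hS.hasProjectiveDimensionLT_X₁ (n + 1) ?_ hM
      change HasProjectiveDimensionLT (Projective.over M) (n + 1)
      exact hasProjectiveDimensionLT_of_ge _ 1 (n + 1) (by omega)
    have h1 := ih S.X₁ hK
    have h2 : ProjAmp 0 0 ((singleFunctor (ModuleCat.{u} R) 0).obj S.X₂) := by
      change ProjAmp 0 0 ((singleFunctor (ModuleCat.{u} R) 0).obj (Projective.over M))
      exact projAmp_of_projective _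
    have h3 := ProjAmp.third hS.singleTriangle hS.singleTriangle_distinguished h1 h2
    refine ProjAmp.mono h3 ?_ ?_
    · push_cast
      omega
    · omega

section GlDim

variable (d : ℕ) (hgl : ∀ M : ModuleCat.{u} R, HasProjectiveDimensionLT M (d + 1))

include hgl

theorem projAmp_single_degree (K : Dual.D R) (a : ℤ)
    (hK : ∀ i : ℤ, i ≠ a → IsZero ((homologyFunctor (ModuleCat.{u} R) i).obj K)) :
    ProjAmp (a - d) a K := by
  have h1 : K.IsLE a := by
    rw [isLE_iff]
    intro i hi
    exact hK i (by omega)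
  have h2 : K.IsGE a := by
    rw [isGE_iff]
    intro i hi
    exact hK i (by omega)
  obtain ⟨N, ⟨e⟩⟩ := exists_iso_singleFunctor_obj_of_isGE_of_isLE K a
  have := (ProjAmp.single N a (projAmp_of_hasProjectiveDimensionLT d N (hgl N))).of_iso e.symm
  exact this.mono (by omega) (by omega)

theorem projAmp_of_homology_aux (n : ℕ) : ∀ (K : Dual.D R) (a b : ℤ), b ≤ a + n → a ≤ b →
    (∀ i : ℤ, (i < a ∨ b < i) → IsZero ((homologyFunctor (ModuleCat.{u} R) i).obj K)) →
    ProjAmp (a - d) b K := by
  induction n with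
  | zero =>
    intro K a b hab hab' hK
    have hba : b = a := by omega
    subst hba
    refine projAmp_single_degree d hgl K b (fun i hi => hK i ?_)
    rcases lt_or_gt_of_ne hi with hi | hi
    · left; exact hi
    · right; exact hi
  | succ n ih =>
    intro K a b hab hab' hK
    rcases eq_or_lt_of_le hab' with hba | hlt
    · subst hba
      refine projAmp_single_degree d hgl K a (fun i hi => hK i ?_)
      rcases lt_or_gt_of_ne hi with hi | hi
      · left; exact hi
      · right; exact hi
    obtain ⟨X, Y, hX, hY, f, g, h, hT⟩ := TStructure.t.exists_triangle K (b - 1) b (by omega)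
    have : X.IsLE (b - 1) := ⟨hX⟩
    have : Y.IsGE b := ⟨hY⟩
    have hXiso : ∀ i : ℤ, i ≤ b - 1 → IsIso ((homologyFunctor (ModuleCat.{u} R) i).map f) := by
      intro i hi
      have hY1 : IsZero ((homologyFunctor (ModuleCat.{u} R) (i - 1)).obj Y) :=
        Y.isZero_of_isGE b (i - 1) (by omega)
      have hY2 : IsZero ((homologyFunctor (ModuleCat.{u} R) i).obj Y) :=
        Y.isZero_of_isGE b i (by omega)
      have : Mono ((homologyFunctor (ModuleCat.{u} R) i).map f) :=
        (HomologySequence.mono_homologyMap_mor₁_iff (Triangle.mk f g h) hT (i - 1) i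
          (by omega)).mpr (hY1.eq_of_src _ _)
      have : Epi ((homologyFunctor (ModuleCat.{u} R) i).map f) :=
        (HomologySequence.epi_homologyMap_mor₁_iff (Triangle.mk f g h) hT i).mpr
          (hY2.eq_of_tgt _ _)
      exact isIso_of_mono_of_epi _
    have hYiso : ∀ i : ℤ, b ≤ i → IsIso ((homologyFunctor (ModuleCat.{u} R) i).map g) := by
      intro i hi
      have hX1 : IsZero ((homologyFunctor (ModuleCat.{u} R) i).obj X) :=
        X.isZero_of_isLE (b - 1) i (by omega)
      have hX2 : IsZero ((homologyFunctor (ModuleCat.{u} R) (i + 1)).obj X) :=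
        X.isZero_of_isLE (b - 1) (i + 1) (by omega)
      have : Mono ((homologyFunctor (ModuleCat.{u} R) i).map g) :=
        (HomologySequence.mono_homologyMap_mor₂_iff (Triangle.mk f g h) hT i).mpr
          (hX1.eq_of_src _ _)
      have : Epi ((homologyFunctor (ModuleCat.{u} R) i).map g) :=
        (HomologySequence.epi_homologyMap_mor₂_iff (Triangle.mk f g h) hT i (i + 1) rfl).mpr
          (hX2.eq_of_tgt _ _)
      exact isIso_of_mono_of_epi _
    have hXP : ProjAmp (a - d) (b - 1) X := by
      refine ih X a (b - 1) (by omega) (by omega) ?_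
      intro i hi
      by_cases hib : i ≤ b - 1
      · rcases hi with hi | hi
        · have := hXiso i hib
          exact (hK i (Or.inl hi)).of_iso (asIso ((homologyFunctor (ModuleCat.{u} R) i).map f))
        · exact X.isZero_of_isLE (b - 1) i hi
      · exact X.isZero_of_isLE (b - 1) i (by omega)
    have hYP : ProjAmp (b - d) b Y := by
      refine projAmp_single_degree d hgl Y b ?_
      intro i hi
      rcases lt_or_gt_of_ne hi with hi | hi
      · exact Y.isZero_of_isGE b i hi
      · have := hYiso i (by omega)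
        exact (hK i (Or.inr hi)).of_iso
          (asIso ((homologyFunctor (ModuleCat.{u} R) i).map g)).symm
    have := ProjAmp.middle (Triangle.mk f g h) hT hXP hYP
    refine this.mono ?_ ?_
    · simp only [le_inf_iff]
      constructor <;> omega
    · simp only [sup_le_iff]
      constructor <;> omega

theorem projAmp_of_homology (K : Dual.D R) (a b : ℤ)
    (hK : ∀ i : ℤ, (i < a ∨ b < i) → IsZero ((homologyFunctor (ModuleCat.{u} R) i).obj K)) :
    ProjAmp (a - d) b K := by
  by_cases hab : a ≤ b
  · exact projAmp_of_homology_aux d hgl (b - a).toNat K a b (by omega) hab hK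
  · refine ProjAmp.of_isZero _ _ K ?_
    have h1 : K.IsLE (-1) := by
      rw [isLE_iff]
      intro i _
      exact hK i (by omega)
    have h2 : K.IsGE 0 := by
      rw [isGE_iff]
      intro i _
      exact hK i (by omega)
    exact TStructure.t.isZero K (-1) 0 (by norm_num)

end GlDim

end Groth.Agent.Helper11.DC
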