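import Groth.Agent.Lib.Helper11.DCTwoOfThree
import Groth.Agent.Lib.Helper11.DCStupid
import Mathlib.Algebra.Homology.DerivedCategory.KInjective
import Mathlib.Algebra.Category.ModuleCat.Injective

/-!
Objects of finite injective dimension of `D(R)` form a class stable under isomorphisms, shifts,
extensions.
-/

open CategoryTheory Category Limits Pretriangulated DerivedCategory ZeroObject

attribute [local instance] HasDerivedCategory.standard

universe u

namespace Groth.Agent.Helper11.DC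

variable {R : Type u} [CommRing R]

theorem injective_prod (M N : Type u) [AddCommGroup M] [Module R M] [AddCommGroup N] [Module R N]
    [Module.Injective R M] [Module.Injective R N] : Module.Injective R (M × N) :=
  ⟨fun X Y _ _ _ _ f hf g => by
    obtain ⟨l1, h1⟩ := Module.Injective.extension_property R M X Y f hf
      ((LinearMap.fst R M N).comp g)
    obtain ⟨l2, h2⟩ := Module.Injective.extension_property R N X Y f hf
      ((LinearMap.snd R M N).comp g)
    refine ⟨l1.prod l2, fun x => ?_⟩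
    ext
    · exact DFunLike.congr_fun h1 x
    · exact DFunLike.congr_fun h2 x⟩

theorem injective_of_equiv {M N : Type u} [AddCommGroup M] [Module R M] [AddCommGroup N]
    [Module R N] (e : M ≃ₗ[R] N) [Module.Injective R M] : Module.Injective R N :=
  ⟨fun X Y _ _ _ _ f hf g => by
    obtain ⟨l, hl⟩ := Module.Injective.extension_property R M X Y f hf
      (e.symm.toLinearMap.comp g)
    refine ⟨e.toLinearMap.comp l, fun x => ?_⟩
    have := DFunLike.congr_fun hl x
    simp only [LinearMap.coe_comp, LinearEquiv.coe_coe, Function.comp_apply] at this ⊢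
    rw [this, LinearEquiv.apply_symm_apply]⟩

theorem injective_of_subsingleton (M : Type u) [AddCommGroup M] [Module R M] [Subsingleton M] :
    Module.Injective R M :=
  ⟨fun _ _ _ _ _ _ _ _ _ => ⟨0, fun _ => Subsingleton.elim _ _⟩⟩

/-- Lifting morphisms of `D(R)` into a K-injective complex to chain maps. -/
theorem exists_lift_of_isKInjective (E₁ E₂ : DRing.Cx R) [E₂.IsKInjective]
    (g : Q.obj E₁ ⟶ Q.obj E₂) : ∃ φ : E₁ ⟶ E₂, Q.map φ = g := by
  obtain ⟨ψ, hψ⟩ := (CochainComplex.IsKInjective.Qh_map_bijective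
    ((HomotopyCategory.quotient _ _).obj E₁) E₂).2 g
  obtain ⟨φ, rfl⟩ := (HomotopyCategory.quotient _ _).map_surjective ψ
  exact ⟨φ, hψ⟩

theorem third_vertex_inj (T : Triangle (Dual.D R)) (hT : T ∈ distTriang (Dual.D R))
    (E₁ E₂ : DRing.Cx R) [E₂.IsKInjective] (e₁ : T.obj₁ ≅ Q.obj E₁) (e₂ : T.obj₂ ≅ Q.obj E₂) :
    ∃ φ : E₁ ⟶ E₂, Nonempty (T.obj₃ ≅ Q.obj (CochainComplex.mappingCone φ)) := by
  obtain ⟨φ, hφ⟩ := exists_lift_of_isKInjective E₁ E₂ (e₁.inv ≫ T.mor₁ ≫ e₂.hom)
  refine ⟨φ, cone_rep T hT φ e₁ e₂ ?_⟩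
  rw [hφ, e₁.hom_inv_id_assoc]

/-- K-injectivity of bounded below complexes of injective modules. -/
theorem isKInjective_of_vanishesBelow (E : DRing.Cx R) (a : ℤ) (ha : ∀ i : ℤ, i < a → IsZero (E.X i))
    (hE : ∀ i, Module.Injective R (E.X i)) : E.IsKInjective := by
  have : E.IsStrictlyGE a := by
    rw [CochainComplex.isStrictlyGE_iff]
    intro i hi
    exact ha i hi
  have : ∀ n : ℤ, Injective (E.X n) := fun n =>
    (Module.injective_iff_injective_object R (E.X n)).mp (hE n)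
  exact CochainComplex.isKInjective_of_injective E a

theorem inj_of_iso {K L : Dual.D R} (e : K ≅ L) (h : DRing.HasFiniteInjDim R K) :
    DRing.HasFiniteInjDim R L := by
  obtain ⟨a, b, E, hb, hf, ⟨e'⟩⟩ := h
  exact ⟨a, b, E, hb, hf, ⟨e' ≪≫ e⟩⟩

theorem inj_of_isZero (K : Dual.D R) (hK : IsZero K) : DRing.HasFiniteInjDim R K := by
  obtain ⟨Z, hZ⟩ : ∃ Z : DRing.Cx R, IsZero Z := ⟨0, isZero_zero _⟩
  refine ⟨0, 0, Z, ?_, ?_, ⟨IsZero.iso (Q.map_isZero hZ) hK⟩⟩
  · intro i _
    exact (HomologicalComplex.eval _ _ i).map_isZero hZ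
  · intro i
    have hz : IsZero (Z.X i) :=
      (HomologicalComplex.eval _ _ i).map_isZero hZ
    have : Subsingleton (Z.X i) := ModuleCat.subsingleton_of_isZero hz
    exact injective_of_subsingleton _

theorem inj_third (T : Triangle (Dual.D R)) (hT : T ∈ distTriang (Dual.D R))
    (h₁ : DRing.HasFiniteInjDim R T.obj₁) (h₂ : DRing.HasFiniteInjDim R T.obj₂) :
    DRing.HasFiniteInjDim R T.obj₃ := by
  obtain ⟨a₁, b₁, E₁, hb₁, hf₁, ⟨e₁⟩⟩ := h₁
  obtain ⟨a₂, b₂, E₂, hb₂, hf₂, ⟨e₂⟩⟩ := h₂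
  have : E₂.IsKInjective := isKInjective_of_vanishesBelow E₂ a₂
    (fun i hi => hb₂ i (Or.inl hi)) hf₂
  obtain ⟨φ, ⟨e₃⟩⟩ := third_vertex_inj T hT E₁ E₂ e₁.symm e₂.symm
  refine ⟨min (a₁ - 1) a₂, max b₁ b₂, CochainComplex.mappingCone φ, ?_, ?_, ⟨e₃.symm⟩⟩
  · intro i hi
    refine mappingCone_isZero φ i (hb₁ _ ?_) (hb₂ _ ?_)
    · rcases hi with hi | hi
      · left; omega
      · right; omega
    · rcases hi with hi | hi
      · left; omega
      · right; omega
  · intro i
    have := hf₁ (i + 1)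
    have := hf₂ i
    have := injective_prod (R := R) (E₁.X (i + 1)) (E₂.X i)
    exact injective_of_equiv (mappingConeXEquiv φ i).symm

theorem inj_shift (K : Dual.D R) (n : ℤ) (h : DRing.HasFiniteInjDim R K) :
    DRing.HasFiniteInjDim R (K⟦n⟧) := by
  obtain ⟨a, b, E, hb, hf, ⟨e⟩⟩ := h
  refine ⟨a - n, b - n, E⟦n⟧, ?_, ?_, ⟨shiftRepIso E K e n⟩⟩
  · intro i hi
    refine hb (i + n) ?_
    rcases hi with hi | hi
    · left; omega
    · right; omega
  · intro i
    exact hf (i + n)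

theorem inj_two_of_three (T : Triangle (Dual.D R)) (hT : T ∈ distTriang (Dual.D R)) :
    (DRing.HasFiniteInjDim R T.obj₁ → DRing.HasFiniteInjDim R T.obj₂ →
      DRing.HasFiniteInjDim R T.obj₃) ∧
    (DRing.HasFiniteInjDim R T.obj₁ → DRing.HasFiniteInjDim R T.obj₃ →
      DRing.HasFiniteInjDim R T.obj₂) ∧
    (DRing.HasFiniteInjDim R T.obj₂ → DRing.HasFiniteInjDim R T.obj₃ →
      DRing.HasFiniteInjDim R T.obj₁) := by
  refine ⟨inj_third T hT, ?_, ?_⟩
  · intro h₁ h₃
    exact inj_third T.invRotate (inv_rot_of_distTriang _ hT) (inj_shift _ (-1) h₃) h₁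
  · intro h₂ h₃
    exact inj_third T.invRotate.invRotate
      (inv_rot_of_distTriang _ (inv_rot_of_distTriang _ hT)) (inj_shift _ (-1) h₂)
      (inj_shift _ (-1) h₃)

theorem thickLike_hasFiniteInjDim : ThickLike (DRing.HasFiniteInjDim R) where
  iso e h := inj_of_iso e h
  shift K n h := inj_shift K n h
  ext T hT h₁ h₃ := (inj_two_of_three T hT).2.1 h₁ h₃
  zero K hK := inj_of_isZero K hK

end Groth.Agent.Helper11.DC
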