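import Groth.Agent.Lib.Helper11.DCHomK2
import Groth.Agent.Lib.Helper11.DCInj
import Mathlib.Algebra.Category.ModuleCat.EnoughInjectives

/-!
# Detecting cohomology by maps to injective modules
-/

set_option autoImplicit false
universe u

open CategoryTheory Limits DerivedCategory Pretriangulated

attribute [local instance] HasDerivedCategory.standard

namespace Groth.Agent.Helper11.DC

variable {R : Type u} [CommRing R]

theorem single_isKInjective (n : ℤ) (J : ModuleCat.{u} R) [Injective J] :
    CochainComplex.IsKInjective
      ((HomologicalComplex.single (ModuleCat.{u} R) (ComplexShape.up ℤ) n).obj J) := by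
  refine isKInjective_of_vanishesBelow _ n
    (fun i hi => HomologicalComplex.isZero_single_obj_X (ComplexShape.up ℤ) n J i (by omega)) ?_
  intro i
  by_cases hi : i = n
  · subst hi
    have : Module.Injective R J := (Module.injective_iff_injective_object R J).mpr inferInstance
    exact injective_of_equiv
      (HomologicalComplex.singleObjXSelf (ComplexShape.up ℤ) i J).symm.toLinearEquiv
  · have hz : IsZero (((HomologicalComplex.single (ModuleCat.{u} R) (ComplexShape.up ℤ) n).obj J).X i) :=
      HomologicalComplex.isZero_single_obj_X _ _ _ _ hi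
    have : Subsingleton (((HomologicalComplex.single (ModuleCat.{u} R)
        (ComplexShape.up ℤ) n).obj J).X i) := ModuleCat.subsingleton_of_isZero hz
    exact injective_of_subsingleton _

/-- If every morphism from `K` to a module placed in degree `n` vanishes, then `Hⁿ(K) = 0`. -/
theorem homology_isZero_of_hom_single_eq_zero (K : Dual.D R) (n : ℤ)
    (h : ∀ (N : ModuleCat.{u} R) (g : K ⟶ (singleFunctor (ModuleCat.{u} R) n).obj N), g = 0) :
    IsZero ((homologyFunctor (ModuleCat.{u} R) n).obj K) := by
  let K' := Q.objPreimage K
  let e : Q.obj K' ≅ K := Q.objObjPreimageIso K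
  let C : ModuleCat.{u} R := ModuleCat.of R (K'.X n ⧸ LinearMap.range (K'.d (n - 1) n).hom)
  let π : K'.X n ⟶ C := ModuleCat.ofHom (Submodule.mkQ _)
  let J := Injective.under C
  let c : C ⟶ J := Injective.ι C
  have hc : Function.Injective c.hom := (ModuleCat.mono_iff_injective c).mp inferInstance
  have hπ : K'.d (n - 1) n ≫ π = 0 := by
    ext y
    change Submodule.mkQ _ ((K'.d (n - 1) n).hom y) = 0
    rw [Submodule.mkQ_apply, Submodule.Quotient.mk_eq_zero]
    exact LinearMap.mem_range_self _ y
  let x : K' ⟶ (HomologicalComplex.single (ModuleCat.{u} R) (ComplexShape.up ℤ) n).obj J :=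
    HomologicalComplex.mkHomToSingle (π ≫ c) (fun i hi => by
      obtain rfl : i = n - 1 := by
        have : i + 1 = n := hi
        omega
      rw [← Category.assoc, hπ, zero_comp])
  have hx : Q.map x = 0 := by
    have h1 := h J (e.inv ≫ Q.map x)
    rw [← cancel_epi e.inv]
    exact h1.trans comp_zero.symm
  haveI := single_isKInjective n J
  have hx' : (HomotopyCategory.quotient _ _).map x = 0 := by
    apply (CochainComplex.IsKInjective.Qh_map_bijective
      ((HomotopyCategory.quotient _ _).obj K')
      ((HomologicalComplex.single (ModuleCat.{u} R) (ComplexShape.up ℤ) n).obj J)).1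
    change Qh.map ((HomotopyCategory.quotient _ _).map x) = Qh.map 0
    rw [Functor.map_zero]
    exact (Qh_quot_map x).trans hx
  obtain ⟨H⟩ := (HomotopyCategory.quotient_map_eq_zero_iff x).mp hx'
  have h2 := homotopy_component x (n + 1) n rfl
    (fun i hi => HomologicalComplex.isZero_single_obj_X _ _ _ _ hi) H
  have h3 : x.f n = (π ≫ c) ≫ (HomologicalComplex.singleObjXSelf (ComplexShape.up ℤ) n J).inv :=
    HomologicalComplex.mkHomToSingle_f _ _
  have hex : K'.ExactAt n := by
    rw [HomologicalComplex.exactAt_iff' K' (n - 1) n (n + 1) (by simp) (by simp),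
      ShortComplex.moduleCat_exact_iff]
    intro z hz
    change (K'.d n (n + 1)).hom z = 0 at hz
    have h4 : (x.f n).hom z = 0 := by
      rw [h2]
      change (H.hom (n + 1) n).hom ((K'.d n (n + 1)).hom z) = 0
      rw [hz, map_zero]
    rw [h3] at h4
    have h5 : c.hom (π.hom z) = 0 := by
      have h6 := congrArg (HomologicalComplex.singleObjXSelf (ComplexShape.up ℤ) n J).hom.hom h4
      rw [map_zero] at h6
      have h7 : (HomologicalComplex.singleObjXSelf (ComplexShape.up ℤ) n J).hom.hom
          ((((π ≫ c) ≫ (HomologicalComplex.singleObjXSelf (ComplexShape.up ℤ) n J).inv)).hom z) =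
          c.hom (π.hom z) := by
        have := congrArg (fun t => t.hom z)
          (show ((π ≫ c) ≫ (HomologicalComplex.singleObjXSelf (ComplexShape.up ℤ) n J).inv) ≫
            (HomologicalComplex.singleObjXSelf (ComplexShape.up ℤ) n J).hom = π ≫ c by
            rw [Category.assoc, Iso.inv_hom_id, Category.comp_id])
        exact this
      rw [← h7]
      exact h6
    have h8 : π.hom z = 0 := hc (h5.trans (map_zero _).symm)
    obtain ⟨y, hy⟩ := (Submodule.Quotient.mk_eq_zero (LinearMap.range (K'.d (n - 1) n).hom)
      (x := (z : K'.X n))).mp h8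
    exact ⟨y, hy⟩
  rw [HomologicalComplex.exactAt_iff_isZero_homology] at hex
  exact IsZero.of_iso hex ((homologyFunctor (ModuleCat.{u} R) n).mapIso e.symm ≪≫
    (homologyFunctorFactors (ModuleCat.{u} R) n).app K')

end Groth.Agent.Helper11.DC
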