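import Groth.Agent.Lib.Helper11.DCCone2
import Mathlib.Algebra.Homology.DerivedCategory.TStructure

/-!
Morphisms out of objects of bounded projective amplitude.
-/

open CategoryTheory Category Limits Pretriangulated DerivedCategory

attribute [local instance] HasDerivedCategory.standard

universe u

namespace Groth.Agent.Helper11.DC

variable {R : Type u} [CommRing R]

theorem hom_eq_zero_of_projAmp (a : ℤ) (P : DRing.Cx R) (b : ℤ) (hP : DRing.VanishesOutside P a b)
    (hproj : ∀ i : ℤ, Module.Projective R (P.X i)) (K : Dual.D R) [K.IsLE (a - 1)]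
    (g : Q.obj P ⟶ K) : g = 0 := by
  obtain ⟨K', hK', ⟨e⟩⟩ := K.exists_iso_Q_obj_of_isLE (a - 1)
  have : P.IsKProjective := isKProjective_of_vanishesAbove P b (fun i hi => hP i (Or.inr hi)) hproj
  obtain ⟨φ, hφ⟩ := exists_lift_of_isKProjective P K' (g ≫ e.hom)
  have h0 : φ = 0 := by
    apply HomologicalComplex.hom_ext
    intro i
    by_cases hi : i < a
    · exact (hP i (Or.inl hi)).eq_of_src _ _
    · exact (K'.isZero_of_isStrictlyLE (a - 1) i (by omega)).eq_of_tgt _ _
  rw [h0, Functor.map_zero] at hφ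
  rw [← cancel_mono e.hom, ← hφ, zero_comp]

theorem hom_eq_zero_of_projAmp' (a b : ℤ) (L : Dual.D R)
    (hL : ∃ P : DRing.Cx R, DRing.VanishesOutside P a b ∧ (∀ i : ℤ, Module.Projective R (P.X i)) ∧
      Nonempty (DRing.toD P ≅ L)) (K : Dual.D R) [K.IsLE (a - 1)] (g : L ⟶ K) : g = 0 := by
  obtain ⟨P, hP, hproj, ⟨e⟩⟩ := hL
  have := hom_eq_zero_of_projAmp a P b hP hproj K (e.hom ≫ g)
  rw [← cancel_epi e.hom, this, comp_zero]

end Groth.Agent.Helper11.DC
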