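import Groth.Agent.Lib.Helper11.DCHomK3
import Groth.Agent.Lib.Helper11.DCInjHom
import Groth.Agent.Lib.Helper11.DCGlDim
import Groth.Agent.Lib.Helper11.DCProjAmp

/-!
# Projective amplitude via vanishing of `Ext`
-/

set_option autoImplicit false
universe u

open CategoryTheory Limits DerivedCategory Pretriangulated

attribute [local instance] HasDerivedCategory.standard

namespace Groth.Agent.Helper11.DC

variable {R : Type u} [CommRing R]

/-- all morphisms `K ⟶ N[i]` vanish, for all modules `N`. -/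
def ExtVan (K : Dual.D R) (i : ℤ) : Prop :=
  ∀ (N : ModuleCat.{u} R) (g : K ⟶ ((singleFunctor (ModuleCat.{u} R) 0).obj N)⟦i⟧), g = 0

theorem extVan_shift (K : Dual.D R) (i j : ℤ) (h : ExtVan K i) : ExtVan (K⟦j⟧) (i + j) := by
  intro N g
  let e := (shiftFunctorAdd' (Dual.D R) i j (i + j) rfl).app
    ((singleFunctor (ModuleCat.{u} R) 0).obj N)
  obtain ⟨g₀, hg₀⟩ := (shiftFunctor (Dual.D R) j).map_surjective (g ≫ e.hom)
  have h0 : g₀ = 0 := h N g₀
  rw [h0, Functor.map_zero] at hg₀
  rw [← cancel_mono e.hom, ← hg₀, zero_comp]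

theorem extVan_of_iso {K L : Dual.D R} (e : K ≅ L) (i : ℤ) (h : ExtVan K i) : ExtVan L i := by
  intro N g
  have := h N (e.hom ≫ g)
  rw [← cancel_epi e.hom, this, comp_zero]

theorem extVan_single {K : Dual.D R} {i : ℤ} (h : ExtVan K i) (n : ℤ) (hn : i + n = 0)
    (N : ModuleCat.{u} R) (g : K ⟶ (singleFunctor (ModuleCat.{u} R) n).obj N) : g = 0 := by
  let e := ((singleFunctors (ModuleCat.{u} R)).shiftIso i n 0 hn).app N
  have := h N (g ≫ e.inv)
  rw [← cancel_mono e.inv, this, zero_comp]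

theorem isZero_homology_shift_iff (K : Dual.D R) (j m m' : ℤ) (h : j + m = m') :
    IsZero ((homologyFunctor (ModuleCat.{u} R) m).obj (K⟦j⟧)) ↔
      IsZero ((homologyFunctor (ModuleCat.{u} R) m').obj K) :=
  (((homologyFunctor (ModuleCat.{u} R) 0).shiftIso j m m' h).app K).isZero_iff

/-- A two-term complex whose differential is a split monomorphism, with projective degree-0
term, is isomorphic in `D(R)` to a projective module in degree `0`. -/
theorem projAmp_of_split (E : DRing.Cx R) (hE : DRing.VanishesOutside E (-1) 0)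
    (hE0 : Module.Projective R (E.X 0)) (h : E.X 0 ⟶ E.X (-1))
    (hh : E.d (-1) 0 ≫ h = 𝟙 (E.X (-1))) : ProjAmp 0 0 (Q.obj E) := by
  have hh' : ∀ y : E.X (-1), h.hom ((E.d (-1) 0).hom y) = y := fun y =>
    congrArg (fun t => t.hom y) hh
  let Cm : Submodule R (E.X 0) := LinearMap.ker h.hom
  let C : ModuleCat.{u} R := ModuleCat.of R Cm
  let ι : C ⟶ E.X 0 := ModuleCat.ofHom Cm.subtype
  let φl : E.X 0 →ₗ[R] E.X 0 := LinearMap.id - (E.d (-1) 0).hom ∘ₗ h.hom
  have hρ_mem : ∀ e : E.X 0, φl e ∈ Cm := by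
    intro e
    rw [LinearMap.mem_ker]
    change h.hom (e - (E.d (-1) 0).hom (h.hom e)) = 0
    rw [map_sub, hh', sub_self]
  let ρl : E.X 0 →ₗ[R] Cm :=
    LinearMap.codRestrict Cm φl hρ_mem
  let ρ : E.X 0 ⟶ C := ModuleCat.ofHom ρl
  have hιρl : ρl ∘ₗ Cm.subtype = LinearMap.id := by
    ext ⟨c, hc⟩
    change c - (E.d (-1) 0).hom (h.hom c) = c
    rw [LinearMap.mem_ker.mp hc, map_zero, sub_zero]
  have hιρ : ι ≫ ρ = 𝟙 C := by
    ext c
    exact congrArg Subtype.val (congrArg (fun t => t c) hιρl)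
  have hρι : ρ ≫ ι = 𝟙 (E.X 0) - h ≫ E.d (-1) 0 := by
    ext e
    rfl
  have hdρ : E.d (-1) 0 ≫ ρ = 0 := by
    ext y
    change (E.d (-1) 0).hom y - (E.d (-1) 0).hom (h.hom ((E.d (-1) 0).hom y)) = 0
    rw [hh', sub_self]
  have hCproj : Module.Projective R C := Module.Projective.of_split Cm.subtype ρl hιρl
  let S : DRing.Cx R := (HomologicalComplex.single (ModuleCat.{u} R) (ComplexShape.up ℤ) 0).obj C
  let sX := HomologicalComplex.singleObjXSelf (ComplexShape.up ℤ) 0 C
  let i : S ⟶ E := HomologicalComplex.mkHomFromSingle ι (fun k hk => by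
    have hk' : (0 : ℤ) + 1 = k := hk
    exact (hE k (Or.inr (by omega))).eq_of_tgt _ _)
  let p : E ⟶ S := HomologicalComplex.mkHomToSingle ρ (fun k hk => by
    obtain rfl : k = -1 := by
      have : k + 1 = 0 := hk
      omega
    exact hdρ)
  have hi0 : i.f 0 = sX.hom ≫ ι := HomologicalComplex.mkHomFromSingle_f _ _
  have hp0 : p.f 0 = ρ ≫ sX.inv := HomologicalComplex.mkHomToSingle_f _ _
  have hip : i ≫ p = 𝟙 S := by
    apply HomologicalComplex.from_single_hom_ext
    rw [HomologicalComplex.comp_f, hi0, hp0, Category.assoc, ← Category.assoc ι, hιρ,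
      Category.id_comp, Iso.hom_inv_id, HomologicalComplex.id_f]
  have hpi : Nonempty (Homotopy (𝟙 E) (p ≫ i)) := by
    refine ⟨{ hom := hAux 0 (-1) (-2) h 0, zero := ?_, comm := ?_ }⟩
    · intro k l hkl
      apply hAux_eq_zero
      · rintro ⟨rfl, rfl⟩
        exact hkl (by simp)
      · rintro ⟨rfl, rfl⟩
        exact hkl (by simp)
    · intro k
      by_cases hk0 : k = 0
      · rw [hk0, dNext_eq _ (show (ComplexShape.up ℤ).Rel 0 1 from rfl),
          prevD_eq _ (show (ComplexShape.up ℤ).Rel (-1) 0 from rfl),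
          hAux_eq_zero 0 (-1) (-2) h 0 1 0 (by omega) (by omega), comp_zero, zero_add, hAux_eq₀,
          HomologicalComplex.comp_f, hp0, hi0, Category.assoc, Iso.inv_hom_id_assoc, hρι,
          HomologicalComplex.id_f]
        abel
      by_cases hk1 : k = -1
      · have hS : IsZero (S.X (-1)) :=
          HomologicalComplex.isZero_single_obj_X (ComplexShape.up ℤ) 0 C (-1) (by omega)
        rw [hk1, dNext_eq _ (show (ComplexShape.up ℤ).Rel (-1) 0 from rfl),
          prevD_eq _ (show (ComplexShape.up ℤ).Rel (-2) (-1) from rfl),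
          hAux_eq₀, hAux_eq₁ 0 (-1) (-2) rfl, zero_comp, add_zero, hh,
          HomologicalComplex.comp_f, hS.eq_of_tgt (p.f (-1)) 0, zero_comp, add_zero,
          HomologicalComplex.id_f]
      · exact (hE k (by omega)).eq_of_src _ _
  obtain ⟨Hpi⟩ := hpi
  have e : Q.obj S ≅ Q.obj E :=
    { hom := Q.map i
      inv := Q.map p
      hom_inv_id := by rw [← Functor.map_comp, hip, CategoryTheory.Functor.map_id]
      inv_hom_id := by
        rw [← Functor.map_comp, ← Q_map_eq_of_homotopy _ Hpi, CategoryTheory.Functor.map_id] }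
  haveI : Projective C := inferInstance
  exact (projAmp_of_projective C).of_iso e

theorem projAmp_base (K : Dual.D R)
    (hK : ∀ i : ℤ, i ≠ -1 → i ≠ 0 → IsZero ((homologyFunctor (ModuleCat.{u} R) i).obj K))
    (hext : ExtVan K 1) : ProjAmp 0 0 K := by
  obtain ⟨E, hE, hfree, ⟨e⟩⟩ := exists_twoTerm_free K hK
  have hE0 : Module.Projective R (E.X 0) := Module.Projective.of_free
  have hf : E.d (-2) (-1) ≫ 𝟙 (E.X (-1)) = 0 :=
    (hE (-2) (Or.inl (by norm_num))).eq_of_src _ _
  have h1 := hext (E.X (-1)) (e.inv ≫ Q.map (toS (𝟙 (E.X (-1))) hf) ≫ (ι1 (E.X (-1))).inv)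
  have h2 : Q.map (toS (𝟙 (E.X (-1))) hf) = 0 := by
    have e1 : e.hom ≫ (e.inv ≫ Q.map (toS (𝟙 (E.X (-1))) hf) ≫ (ι1 (E.X (-1))).inv) ≫
        (ι1 (E.X (-1))).hom = Q.map (toS (𝟙 (E.X (-1))) hf) := by
      simp only [Category.assoc, Iso.inv_hom_id, Category.comp_id, Iso.hom_inv_id_assoc]
    rw [← e1, h1, zero_comp, comp_zero]
  obtain ⟨h, hh⟩ := (ext1_zero_iff E (fun i hi => hE i (Or.inr hi)) hE0 _ _).mp h2
  exact (projAmp_of_split E hE hE0 h hh).of_iso e

theorem projAmp_of_extVan_aux (n : ℕ) : ∀ (K : Dual.D R) (a : ℤ), -(n : ℤ) ≤ a → a ≤ 0 →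
    (∀ m : ℤ, (m < a - 1 ∨ 0 < m) → IsZero ((homologyFunctor (ModuleCat.{u} R) m).obj K)) →
    ExtVan K (1 - a) → ProjAmp a 0 K := by
  induction n with
  | zero =>
    intro K a h1 h2 hK hext
    obtain rfl : a = 0 := by
      simp only [Nat.cast_zero, neg_zero] at h1
      omega
    refine projAmp_base K (fun i hi1 hi2 => hK i (by omega)) ?_
    simpa using hext
  | succ n ih =>
    intro K a h1 h2 hK hext
    by_cases ha : -(n : ℤ) ≤ a
    · exact ih K a ha h2 hK hext
    have ha' : a = -((n : ℤ) + 1) := by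
      push_cast at h1
      omega
    have ha0 : a ≤ -1 := by omega
    -- free cover of `H⁰(K)`
    let H := (homologyFunctor (ModuleCat.{u} R) 0).obj K
    let F : ModuleCat.{u} R := ModuleCat.of R (H →₀ R)
    let p : F ⟶ H := ModuleCat.ofHom (Finsupp.linearCombination R (id : H → H))
    have hp : Epi p := by
      rw [ModuleCat.epi_iff_surjective]
      exact Finsupp.linearCombination_id_surjective R H
    obtain ⟨u, hu⟩ := (psi_bijective F K).2 ((homologySingleIso F).hom ≫ p)
    simp only [Psi] at hu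
    obtain ⟨K'', v, w, hT⟩ := distinguished_cocone_triangle u
    have hepi : Epi ((homologyFunctor (ModuleCat.{u} R) 0).map u) := by
      rw [hu]
      infer_instance
    have hv0 : (homologyFunctor (ModuleCat.{u} R) 0).map v = 0 :=
      (HomologySequence.epi_homologyMap_mor₁_iff (Triangle.mk u v w) hT 0).mp hepi
    have hK'' : ∀ m : ℤ, (m < a - 1 ∨ -1 < m) →
        IsZero ((homologyFunctor (ModuleCat.{u} R) m).obj K'') := by
      intro m hm
      have ex := HomologySequence.exact₃ (Triangle.mk u v w) hT m (m + 1) rfl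
      rcases hm with hm | hm
      · have hP1 : IsZero ((homologyFunctor (ModuleCat.{u} R) (m + 1)).obj
            ((singleFunctor (ModuleCat.{u} R) 0).obj F)) :=
          isZero_of_isGE _ 0 (m + 1) (by omega)
        exact ex.isZero_of_both_zeros ((hK m (Or.inl hm)).eq_of_src _ _) (hP1.eq_of_tgt _ _)
      · have hP1 : IsZero ((homologyFunctor (ModuleCat.{u} R) (m + 1)).obj
            ((singleFunctor (ModuleCat.{u} R) 0).obj F)) :=
          isZero_of_isLE _ 0 (m + 1) (by omega)
        by_cases hm0 : m = 0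
        · subst hm0
          exact ex.isZero_of_both_zeros hv0 (hP1.eq_of_tgt _ _)
        · exact ex.isZero_of_both_zeros ((hK m (Or.inr (by omega))).eq_of_src _ _)
            (hP1.eq_of_tgt _ _)
    have hextK'' : ExtVan K'' (1 - a) := by
      intro N g
      have h0 : v ≫ g = 0 := hext N (v ≫ g)
      obtain ⟨g', hg'⟩ := Triangle.yoneda_exact₃ (Triangle.mk u v w) hT g h0
      have hL : ProjAmp (0 - 1) (0 - 1) (((singleFunctor (ModuleCat.{u} R) 0).obj F)⟦(1 : ℤ)⟧) :=
        (projAmp_of_projective F).shift 1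
      haveI : (((singleFunctor (ModuleCat.{u} R) 0).obj N)⟦1 - a⟧).IsLE (a - 1) :=
        DerivedCategory.TStructure.t.isLE_shift _ 0 (1 - a) (a - 1) (by omega)
      haveI : (((singleFunctor (ModuleCat.{u} R) 0).obj N)⟦1 - a⟧).IsLE (0 - 1 - 1) :=
        DerivedCategory.TStructure.t.isLE_of_le _ (a - 1) (0 - 1 - 1) (by omega)
      have hg0 : g' = 0 := hom_eq_zero_of_projAmp' (0 - 1) (0 - 1) _ hL _ g'
      rw [hg', hg0]
      exact comp_zero
    -- apply the induction hypothesis to `K''[-1]`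
    have hK1 : ∀ m : ℤ, (m < a + 1 - 1 ∨ 0 < m) →
        IsZero ((homologyFunctor (ModuleCat.{u} R) m).obj (K''⟦(-1 : ℤ)⟧)) := by
      intro m hm
      rw [isZero_homology_shift_iff K'' (-1) m (m - 1) (by omega)]
      exact hK'' (m - 1) (by omega)
    have hext1 : ExtVan (K''⟦(-1 : ℤ)⟧) (1 - (a + 1)) := by
      have := extVan_shift K'' (1 - a) (-1) hextK''
      have e : 1 - a + (-1) = 1 - (a + 1) := by ring
      rw [e] at this
      exact this
    have H1 := ih (K''⟦(-1 : ℤ)⟧) (a + 1) (by omega) (by omega) hK1 hext1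
    have H2 : ProjAmp 0 0 ((singleFunctor (ModuleCat.{u} R) 0).obj F) := projAmp_of_projective F
    have H3 := ProjAmp.third (Triangle.mk u v w).invRotate (inv_rot_of_distTriang _ hT) H1 H2
    exact H3.mono (by simp; omega) (by simp)

/-- **(4) ⟹ (1)**: cohomology in `[a-1, b]` and vanishing of `Hom(K, N[1-a])` give projective
amplitude in `[a, b]`. -/
theorem projAmp_of_extVan (K : Dual.D R) (a b : ℤ)
    (hK : ∀ m : ℤ, (m < a - 1 ∨ b < m) → IsZero ((homologyFunctor (ModuleCat.{u} R) m).obj K))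
    (hext : ExtVan K (1 - a)) : ProjAmp a b K := by
  by_cases hab : a ≤ b
  · have hK0 : ∀ m : ℤ, (m < (a - b) - 1 ∨ 0 < m) →
        IsZero ((homologyFunctor (ModuleCat.{u} R) m).obj (K⟦b⟧)) := by
      intro m hm
      rw [isZero_homology_shift_iff K b m (m + b) (by omega)]
      exact hK (m + b) (by omega)
    have hext0 : ExtVan (K⟦b⟧) (1 - (a - b)) := by
      have := extVan_shift K (1 - a) b hext
      have e : 1 - a + b = 1 - (a - b) := by ring
      rw [e] at this
      exact this
    have H := projAmp_of_extVan_aux (b - a).toNat (K⟦b⟧) (a - b) (by omega) (by omega) hK0 hext0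
    have H' := (H.shift (-b)).of_iso ((shiftFunctorCompIsoId (Dual.D R) b (-b) (by omega)).app K)
    exact H'.mono (by omega) (by omega)
  · refine ProjAmp.of_isZero _ _ K (isZero_of_homology ?_)
    intro m
    by_cases hm : m < a - 1 ∨ b < m
    · exact hK m hm
    · have hmb : m = b := by omega
      have hab' : a = b + 1 := by omega
      subst hmb
      exact homology_isZero_of_hom_single_eq_zero K m
        (fun N g => extVan_single hext m (by omega) N g)

/-- **(1) ⟹ (2)**. -/
theorem extVan_of_projAmp (K : Dual.D R) (a b : ℤ) (h : ProjAmp a b K) (i : ℤ)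
    (hi : i < -b ∨ -a < i) : ExtVan K i := by
  intro N g
  rcases hi with hi | hi
  · obtain ⟨P, hP, hproj, ⟨e⟩⟩ := h
    haveI : P.IsStrictlyLE b := by
      rw [CochainComplex.isStrictlyLE_iff]
      intro j hj
      exact hP j (Or.inr hj)
    haveI : (Q.obj P).IsLE b := (isLE_Q_obj_iff P b).mpr inferInstance
    haveI : K.IsLE b := DerivedCategory.TStructure.t.isLE_of_iso e b
    haveI : (((singleFunctor (ModuleCat.{u} R) 0).obj N)⟦i⟧).IsGE (-i) :=
      DerivedCategory.TStructure.t.isGE_shift _ 0 i (-i) (by omega)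
    exact TStructure.t.zero g b (-i) (by omega)
  · haveI : (((singleFunctor (ModuleCat.{u} R) 0).obj N)⟦i⟧).IsLE (-i) :=
      DerivedCategory.TStructure.t.isLE_shift _ 0 i (-i) (by omega)
    haveI : (((singleFunctor (ModuleCat.{u} R) 0).obj N)⟦i⟧).IsLE (a - 1) :=
      DerivedCategory.TStructure.t.isLE_of_le _ (-i) (a - 1) (by omega)
    exact hom_eq_zero_of_projAmp' a b K h _ g

end Groth.Agent.Helper11.DC
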