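import Groth.Agent.Lib.Helper11.DCInjHom
import Groth.Agent.Lib.Helper11.DCProj
import Groth.Agent.Lib.Helper11.DCProjTFAE
import Groth.Agent.Lib.Helper11.DCPerfHom
import Groth.Agent.Lib.Helper11.DCPc0
import Mathlib.Algebra.Homology.Factorizations.CM5a

/-!
Injective amplitude via vanishing of `Hom(R/I, K[i])`.
-/

open CategoryTheory Category Limits Pretriangulated DerivedCategory ZeroObject

attribute [local instance] HasDerivedCategory.standard

universe u

namespace Groth.Agent.Helper11.DC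

variable {R : Type u} [CommRing R]

theorem hom_single_eq_zero_of_shift (K : Dual.D R) (N : ModuleCat.{u} R) (i : ℤ)
    (h : ∀ g : (singleFunctor (ModuleCat.{u} R) 0).obj N ⟶ K⟦i⟧, g = 0)
    (g' : (singleFunctor (ModuleCat.{u} R) i).obj N ⟶ K) : g' = 0 := by
  let e2 := ((singleFunctors (ModuleCat.{u} R)).shiftIso i 0 i (add_zero i)).app N
  have h1 := h (e2.inv ≫ g'⟦i⟧')
  have h2 : g'⟦i⟧' = 0 := by rw [← cancel_epi e2.inv, h1, comp_zero]
  exact (shiftFunctor (Dual.D R) i).map_injective (h2.trans (Functor.map_zero _ _ _).symm)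

theorem hom_shift_eq_zero_of_single (K : Dual.D R) (N : ModuleCat.{u} R) (i : ℤ)
    (h : ∀ g' : (singleFunctor (ModuleCat.{u} R) i).obj N ⟶ K, g' = 0)
    (g : (singleFunctor (ModuleCat.{u} R) 0).obj N ⟶ K⟦i⟧) : g = 0 := by
  let e1 := ((singleFunctors (ModuleCat.{u} R)).shiftIso (-i) i 0 (by omega)).app N
  let e3 := shiftShiftNeg K i
  have h1 := h (e1.inv ≫ g⟦-i⟧' ≫ e3.hom)
  have h2 : g⟦-i⟧' = 0 := by
    have h3 : g⟦-i⟧' ≫ e3.hom = 0 := by rw [← cancel_epi e1.inv, h1, comp_zero]
    rw [← cancel_mono e3.hom, h3, zero_comp]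
  exact (shiftFunctor (Dual.D R) (-i)).map_injective (h2.trans (Functor.map_zero _ _ _).symm)

theorem homotopy_zero_of_Q_map_eq_zero (S L : DRing.Cx R) [L.IsKInjective] (φ : S ⟶ L)
    (h : Q.map φ = 0) : Nonempty (Homotopy φ 0) := by
  have hbij := CochainComplex.IsKInjective.Qh_map_bijective
    ((HomotopyCategory.quotient (ModuleCat.{u} R) (ComplexShape.up ℤ)).obj S) L
  have h1 : (HomotopyCategory.quotient (ModuleCat.{u} R) (ComplexShape.up ℤ)).map φ =
      (HomotopyCategory.quotient (ModuleCat.{u} R) (ComplexShape.up ℤ)).map 0 := by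
    apply hbij.1
    exact (Qh_quot_map φ).trans (h.trans ((Q.map_zero _ _).symm.trans (Qh_quot_map 0).symm))
  exact ⟨HomotopyCategory.homotopyOfEq _ _ h1⟩

set_option maxHeartbeats 800000 in
theorem injective_cycles_of_hom_eq_zero (L : DRing.Cx R) [L.IsKInjective] (b : ℤ)
    (hL : Module.Injective R (L.X b))
    (h : ∀ (I : Ideal R) (g : (singleFunctor (ModuleCat.{u} R) (b + 1)).obj
      (ModuleCat.of R (R ⧸ I)) ⟶ Q.obj L), g = 0) :
    Module.Injective R (L.cycles b) := by
  apply Module.Baer.injective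
  intro I g
  let MI : ModuleCat.{u} R := ModuleCat.of R I
  let MR : ModuleCat.{u} R := ModuleCat.of R R
  let MQ : ModuleCat.{u} R := ModuleCat.of R (R ⧸ I)
  let incl : MI ⟶ MR := ModuleCat.ofHom I.subtype
  let π : MR ⟶ MQ := ModuleCat.ofHom (Submodule.mkQ I)
  haveI : Mono incl := (ModuleCat.mono_iff_injective _).mpr (Submodule.injective_subtype I)
  haveI : Epi π := (ModuleCat.epi_iff_surjective _).mpr (Submodule.mkQ_surjective I)
  haveI : Injective (L.X b) := (Module.injective_iff_injective_object R (L.X b)).mp hL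
  let g₀ : MI ⟶ L.cycles b := ModuleCat.ofHom g
  let hh : MR ⟶ L.X b := Injective.factorThru (g₀ ≫ L.iCycles b) incl
  have hhh : incl ≫ hh = g₀ ≫ L.iCycles b := Injective.comp_factorThru _ _
  have hd : incl ≫ hh ≫ L.d b (b + 1) = 0 := by
    rw [← assoc, hhh, assoc, L.iCycles_d, comp_zero]
  have hle : I ≤ LinearMap.ker (hh ≫ L.d b (b + 1)).hom := by
    intro x hx
    rw [LinearMap.mem_ker]
    exact congr($hd ⟨x, hx⟩)
  let hbar : MQ ⟶ L.X (b + 1) := ModuleCat.ofHom (Submodule.liftQ I (hh ≫ L.d b (b + 1)).hom hle)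
  have hπ : π ≫ hbar = hh ≫ L.d b (b + 1) := by
    ext
    rfl
  have hbard : hbar ≫ L.d (b + 1) (b + 1 + 1) = 0 := by
    rw [← cancel_epi π, ← assoc, hπ, assoc, L.d_comp_d, comp_zero, comp_zero]
  let φ : (HomologicalComplex.single (ModuleCat.{u} R) (ComplexShape.up ℤ) (b + 1)).obj MQ ⟶ L :=
    HomologicalComplex.mkHomFromSingle hbar (fun k hk => by
      have : b + 1 + 1 = k := by simpa using hk
      subst this
      exact hbard)
  have hφ : Q.map φ = 0 := by
    let e := (singleFunctorIsoCompQ (ModuleCat.{u} R) (b + 1)).app MQ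
    have := h I (e.hom ≫ Q.map φ)
    exact (cancel_epi e.hom).mp (this.trans comp_zero.symm)
  obtain ⟨H⟩ := homotopy_zero_of_Q_map_eq_zero _ L φ hφ
  let s : MQ ⟶ L.X b :=
    (HomologicalComplex.singleObjXSelf (ComplexShape.up ℤ) (b + 1) MQ).inv ≫ H.hom (b + 1) b
  have hs : s ≫ L.d b (b + 1) = hbar := by
    have h1 := H.comm (b + 1)
    rw [HomologicalComplex.zero_f, add_zero,
      dNext_eq _ (show (ComplexShape.up ℤ).Rel (b + 1) (b + 1 + 1) by simp),
      prevD_eq _ (show (ComplexShape.up ℤ).Rel b (b + 1) by simp)] at h1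
    have h2 : ((HomologicalComplex.single (ModuleCat.{u} R) (ComplexShape.up ℤ) (b + 1)).obj
        MQ).d (b + 1) (b + 1 + 1) = 0 :=
      (HomologicalComplex.isZero_single_obj_X (ComplexShape.up ℤ) (b + 1) MQ (b + 1 + 1)
        (by omega)).eq_of_tgt _ _
    rw [h2, zero_comp, zero_add, HomologicalComplex.mkHomFromSingle_f] at h1
    dsimp only [s]
    rw [assoc, ← h1, Iso.inv_hom_id_assoc]
  let h' : MR ⟶ L.X b := hh - π ≫ s
  have hh' : h' ≫ L.d b (b + 1) = 0 := by
    dsimp only [h']
    rw [Preadditive.sub_comp, assoc, hs, hπ, sub_self]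
  let g' : MR ⟶ L.cycles b := L.liftCycles h' (b + 1) (by simp) hh'
  have hg' : g' ≫ L.iCycles b = h' := L.liftCycles_i _ _ _ _
  have hincl : incl ≫ π = 0 := by
    ext x
    exact (Submodule.Quotient.mk_eq_zero I).mpr x.2
  have hfin : incl ≫ g' = g₀ := by
    rw [← cancel_mono (L.iCycles b), assoc, hg']
    dsimp only [h']
    rw [Preadditive.comp_sub, hhh, ← assoc, hincl, zero_comp, sub_zero]
  refine ⟨g'.hom, fun x mem => ?_⟩
  exact congr($hfin ⟨x, mem⟩)

end Groth.Agent.Helper11.DC

namespace Groth.Agent.Helper11.DC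

variable {R : Type u} [CommRing R]

theorem isZero_homology_of_hom_quotBot_eq_zero (K : Dual.D R) (i : ℤ)
    (h : ∀ g : (singleFunctor (ModuleCat.{u} R) 0).obj
      (ModuleCat.of R (R ⧸ (⊥ : Ideal R))) ⟶ K⟦i⟧, g = 0) :
    IsZero ((homologyFunctor (ModuleCat.{u} R) i).obj K) := by
  rw [← isZero_homology_shift_iff K i 0 i (add_zero i)]
  let P : ModuleCat.{u} R := ModuleCat.of R (R ⧸ (⊥ : Ideal R))
  haveI : Module.Projective R (R ⧸ (⊥ : Ideal R)) :=
    Module.Projective.of_equiv (Submodule.quotEquivOfEqBot (⊥ : Ideal R) rfl).symm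
  haveI : Projective P := (IsProjective.iff_projective (R := R) (R ⧸ (⊥ : Ideal R))).mp inferInstance
  have hbij := psi_bijective P (K⟦i⟧)
  have hall : ∀ f : (homologyFunctor (ModuleCat.{u} R) 0).obj
      ((singleFunctor (ModuleCat.{u} R) 0).obj P) ⟶
        (homologyFunctor (ModuleCat.{u} R) 0).obj (K⟦i⟧), f = 0 := by
    intro f
    obtain ⟨g, rfl⟩ := hbij.2 f
    rw [h g]
    exact Functor.map_zero _ _ _
  haveI : Subsingleton ((homologyFunctor (ModuleCat.{u} R) 0).obj (K⟦i⟧)) := by
    refine subsingleton_of_forall_eq 0 (fun x => ?_)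
    let fx : (homologyFunctor (ModuleCat.{u} R) 0).obj
        ((singleFunctor (ModuleCat.{u} R) 0).obj P) ⟶
          (homologyFunctor (ModuleCat.{u} R) 0).obj (K⟦i⟧) :=
      (h0Single P).hom ≫ ModuleCat.ofHom (Submodule.liftQ (⊥ : Ideal R)
        (LinearMap.toSpanSingleton R _ x) bot_le)
    have h0 := hall fx
    have h2 : (h0Single P).hom.hom ((h0Single P).inv.hom (Submodule.Quotient.mk 1)) =
        Submodule.Quotient.mk 1 := congr($((h0Single P).inv_hom_id) _)
    have h1 : fx.hom ((h0Single P).inv.hom (Submodule.Quotient.mk 1)) = 0 := by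
      rw [h0]
      rfl
    have h3 : fx.hom ((h0Single P).inv.hom (Submodule.Quotient.mk 1)) = x := by
      change (Submodule.liftQ (⊥ : Ideal R) (LinearMap.toSpanSingleton R _ x) bot_le)
        ((h0Single P).hom.hom ((h0Single P).inv.hom (Submodule.Quotient.mk 1))) = x
      rw [h2, Submodule.liftQ_apply, LinearMap.toSpanSingleton_apply, one_smul]
    exact h3.symm.trans h1
  exact ModuleCat.isZero_of_subsingleton _

theorem hom_eq_zero_of_injAmp (K : Dual.D R) (a b : ℤ) (hK : DRing.HasInjAmplitudeIn R a b K)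
    (N : ModuleCat.{u} R) (i : ℤ) (hi : i < a ∨ b < i)
    (g : (singleFunctor (ModuleCat.{u} R) 0).obj N ⟶ K⟦i⟧) : g = 0 := by
  apply hom_shift_eq_zero_of_single K N i
  intro g'
  obtain ⟨E, hE, hinj, ⟨e⟩⟩ := hK
  haveI : E.IsKInjective := isKInjective_of_vanishesBelow E a (fun j hj => hE j (Or.inl hj)) hinj
  let e1 := (singleFunctorIsoCompQ (ModuleCat.{u} R) i).app N
  obtain ⟨φ, hφ⟩ := exists_lift_of_isKInjective
    ((CochainComplex.singleFunctor (ModuleCat.{u} R) i).obj N) E (e1.inv ≫ g' ≫ e.inv)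
  have hφ0 : φ = 0 := by
    apply HomologicalComplex.from_single_hom_ext
    exact (hE i hi).eq_of_tgt _ _
  rw [hφ0, Functor.map_zero] at hφ
  have h1 : g' ≫ e.inv = 0 := (cancel_epi e1.inv).mp (hφ.symm.trans comp_zero.symm)
  exact (cancel_mono e.inv).mp (h1.trans zero_comp.symm)

theorem injAmp_of_hom_quotient_eq_zero (K : Dual.D R) (a b : ℤ)
    (h : ∀ (I : Ideal R) (i : ℤ), (i < a ∨ b < i) →
      ∀ g : (singleFunctor (ModuleCat.{u} R) 0).obj (ModuleCat.of R (R ⧸ I)) ⟶ K⟦i⟧, g = 0) :
    DRing.HasInjAmplitudeIn R a b K := by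
  have hH : ∀ i : ℤ, (i < a ∨ b < i) →
      IsZero ((homologyFunctor (ModuleCat.{u} R) i).obj K) :=
    fun i hi => isZero_homology_of_hom_quotBot_eq_zero K i (h ⊥ i hi)
  by_cases hab : a ≤ b
  · haveI : K.IsGE a := (isGE_iff K a).mpr (fun i hi => hH i (Or.inl hi))
    haveI : K.IsLE b := (isLE_iff K b).mpr (fun i hi => hH i (Or.inr hi))
    obtain ⟨L₀, _, ⟨e₀⟩⟩ := exists_iso_Q_obj_of_isGE K a
    obtain ⟨L, ι, hι, hLinj, hLge⟩ :=
      CochainComplex.Plus.modelCategoryQuillen.exists_quasiIso_injective L₀ a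
    haveI : L.IsKInjective := CochainComplex.isKInjective_of_injective L a
    haveI : IsIso (Q.map ι) := by
      rw [isIso_Q_map_iff_quasiIso]
      exact hι
    let eL : K ≅ Q.obj L := e₀ ≪≫ asIso (Q.map ι)
    haveI : (Q.obj L).IsLE b := TStructure.t.isLE_of_iso eL b
    haveI : CochainComplex.IsLE L b := (isLE_Q_obj_iff L b).mp inferInstance
    haveI : QuasiIso (CochainComplex.ιTruncLE L b) := inferInstance
    haveI : IsIso (Q.map (CochainComplex.ιTruncLE L b)) := by
      rw [isIso_Q_map_iff_quasiIso]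
      infer_instance
    let eE : Q.obj (CochainComplex.truncLE L b) ≅ K :=
      asIso (Q.map (CochainComplex.ιTruncLE L b)) ≪≫ eL.symm
    refine ⟨CochainComplex.truncLE L b, ?_, ?_, ⟨eE⟩⟩
    · intro i hi
      rcases hi with hi | hi
      · exact (CochainComplex.isZero_of_isStrictlyGE L a i hi).of_iso
          (CochainComplex.truncLEXIso L b i (by omega))
      · exact CochainComplex.isZero_of_isStrictlyLE (CochainComplex.truncLE L b) b i hi
    · intro i
      rcases lt_trichotomy i b with hi | hi | hi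
      · haveI : Module.Injective R (L.X i) :=
          (Module.injective_iff_injective_object R (L.X i)).mpr (hLinj i)
        exact injective_of_equiv (CochainComplex.truncLEXIso L b i hi).symm.toLinearEquiv
      · subst hi
        haveI hc : Module.Injective R (L.cycles i) :=
          injective_cycles_of_hom_eq_zero L i
            ((Module.injective_iff_injective_object R (L.X i)).mpr (hLinj i))
            (fun I g => by
              have := hom_single_eq_zero_of_shift K _ (i + 1) (h I (i + 1) (Or.inr (by omega)))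
                (g ≫ eL.inv)
              exact (cancel_mono eL.inv).mp (this.trans zero_comp.symm))
        exact injective_of_equiv (CochainComplex.truncLEXIsoCycles L i).symm.toLinearEquiv
      · have hz : IsZero ((CochainComplex.truncLE L b).X i) :=
          CochainComplex.isZero_of_isStrictlyLE (CochainComplex.truncLE L b) b i hi
        haveI : Subsingleton ((CochainComplex.truncLE L b).X i) :=
          ModuleCat.subsingleton_of_isZero hz
        exact injective_of_subsingleton _
  · have hK : IsZero K := isZero_of_homology (fun n => hH n (by omega))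
    obtain ⟨Z, hZ⟩ : ∃ Z : DRing.Cx R, IsZero Z := ⟨0, isZero_zero _⟩
    refine ⟨Z, ?_, ?_, ⟨IsZero.iso (Q.map_isZero hZ) hK⟩⟩
    · intro i _
      exact (HomologicalComplex.eval _ _ i).map_isZero hZ
    · intro i
      have hz : IsZero (Z.X i) := (HomologicalComplex.eval _ _ i).map_isZero hZ
      haveI : Subsingleton (Z.X i) := ModuleCat.subsingleton_of_isZero hz
      exact injective_of_subsingleton _

end Groth.Agent.Helper11.DC
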