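import Groth.Agent.Lib.Helper11.BD4
import Groth.Agent.Lib.Helper8.HomH
import Groth.Agent.Lib.Helper8.DFin3
import Mathlib.Algebra.Homology.Embedding.CochainComplex

/-!
# Biduality for complexes with finite cohomology over a ring with a dualizing complex (helper11)
-/

set_option autoImplicit false
set_option linter.unusedSectionVars false
set_option linter.unusedVariables false
set_option linter.style.haveILetI false

open CategoryTheory CategoryTheory.Limits CochainComplex HomComplex

universe u

attribute [local instance] HasDerivedCategory.standard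

namespace Groth.Agent.Helper11.BD

open Groth.Agent.Helper3.HT Groth.Agent.Helper8.BiDual

section Trunc

open HomologicalComplex

variable {C : Type*} [Category C] [HasZeroMorphisms C] [HasZeroObject C]
  {ι ι' : Type*} {c : ComplexShape ι} {c' : ComplexShape ι'}

set_option backward.isDefEq.respectTransparency false in
theorem isIso_πTruncGE_f (K : HomologicalComplex C c') (e : c.Embedding c') [e.IsTruncGE]
    [∀ i', K.HasHomology i'] (i : ι) (hi : ¬ e.BoundaryGE i) :
    IsIso ((K.πTruncGE e).f (e.f i)) := by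
  dsimp [HomologicalComplex.πTruncGE]
  rw [e.isIso_liftExtend_f_iff _ _ rfl]
  exact K.isIso_restrictionToTruncGE' e i hi

theorem isIso_ιTruncLE_f (K : HomologicalComplex C c') (e : c.Embedding c') [e.IsTruncLE]
    [∀ i', K.HasHomology i'] (i : ι) (hi : ¬ e.BoundaryLE i) :
    IsIso ((K.ιTruncLE e).f (e.f i)) := by
  change IsIso ((K.op.πTruncGE e.op).f (e.f i)).unop
  haveI : IsIso ((K.op.πTruncGE e.op).f (e.f i)) := isIso_πTruncGE_f K.op e.op i (by simpa)
  infer_instance

end Trunc

theorem isIso_πTruncGE_f' {C : Type*} [Category C] [HasZeroMorphisms C] [HasZeroObject C]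
    (K : CochainComplex C ℤ) [∀ i, K.HasHomology i] (n q : ℤ) (hq : n < q) :
    IsIso ((K.πTruncGE n).f q) := by
  obtain ⟨i, rfl⟩ : ∃ i : ℕ, q = (ComplexShape.embeddingUpIntGE n).f i :=
    ⟨(q - n).toNat, by rw [ComplexShape.embeddingUpIntGE_f]; omega⟩
  apply isIso_πTruncGE_f
  rw [ComplexShape.boundaryGE_embeddingUpIntGE_iff]
  rintro rfl
  rw [ComplexShape.embeddingUpIntGE_f] at hq
  simp at hq

theorem isIso_ιTruncLE_f' {C : Type*} [Category C] [HasZeroMorphisms C] [HasZeroObject C]
    (K : CochainComplex C ℤ) [∀ i, K.HasHomology i] (n q : ℤ) (hq : q < n) :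
    IsIso ((K.ιTruncLE n).f q) := by
  obtain ⟨i, rfl⟩ : ∃ i : ℕ, q = (ComplexShape.embeddingUpIntLE n).f i :=
    ⟨(n - q).toNat, by rw [ComplexShape.embeddingUpIntLE_f]; omega⟩
  apply isIso_ιTruncLE_f
  rw [ComplexShape.boundaryLE_embeddingUpIntLE_iff]
  rintro rfl
  rw [ComplexShape.embeddingUpIntLE_f] at hq
  simp at hq

variable {A : Type u} [CommRing A]

theorem isZero_homology_trunc (C : DRing.Cx A) (m m' i : ℤ) (hi : i < m' ∨ m < i) :
    IsZero (((C.truncLE m).truncGE m').homology i) := by
  rw [← HomologicalComplex.exactAt_iff_isZero_homology]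
  rcases hi with hi | hi
  · exact CochainComplex.exactAt_of_isGE _ m' i hi
  · exact CochainComplex.exactAt_of_isLE _ m i hi

theorem finite_homology_trunc (C : DRing.Cx A) (hf : ∀ i, Module.Finite A (C.homology i))
    (m m' i : ℤ) : Module.Finite A (((C.truncLE m).truncGE m').homology i) := by
  by_cases hi : i < m' ∨ m < i
  · haveI : Subsingleton (((C.truncLE m).truncGE m').homology i) :=
      ModuleCat.subsingleton_of_isZero (isZero_homology_trunc C m m' i hi)
    infer_instance
  · haveI : QuasiIsoAt (C.ιTruncLE m) i := C.quasiIsoAt_ιTruncLE m i (by omega)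
    haveI : QuasiIsoAt ((C.truncLE m).πTruncGE m') i :=
      (C.truncLE m).quasiIsoAt_πTruncGE m' i (by omega)
    have e1 : (C.truncLE m).homology i ≅ C.homology i :=
      asIso (HomologicalComplex.homologyMap (C.ιTruncLE m) i)
    have e2 : (C.truncLE m).homology i ≅ ((C.truncLE m).truncGE m').homology i :=
      asIso (HomologicalComplex.homologyMap ((C.truncLE m).πTruncGE m') i)
    haveI := hf i
    exact Module.Finite.equiv (e1.symm ≪≫ e2).toLinearEquiv

theorem quasiIsoAt_of_isIso_f {C C' : DRing.Cx A} (f : C ⟶ C') (n : ℤ)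
    (h1 : IsIso (f.f (n - 1))) (h2 : IsIso (f.f n)) (h3 : IsIso (f.f (n + 1))) :
    QuasiIsoAt f n := by
  rw [quasiIsoAt_iff' f (n - 1) n (n + 1) (by simp) (by simp)]
  haveI : Epi ((HomologicalComplex.shortComplexFunctor' (ModuleCat.{u} A) (ComplexShape.up ℤ)
      (n - 1) n (n + 1)).map f).τ₁ := by
    show Epi (f.f (n - 1))
    infer_instance
  haveI : IsIso ((HomologicalComplex.shortComplexFunctor' (ModuleCat.{u} A) (ComplexShape.up ℤ)
      (n - 1) n (n + 1)).map f).τ₂ := h2
  haveI : Mono ((HomologicalComplex.shortComplexFunctor' (ModuleCat.{u} A) (ComplexShape.up ℤ)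
      (n - 1) n (n + 1)).map f).τ₃ := by
    show Mono (f.f (n + 1))
    infer_instance
  exact ShortComplex.quasiIso_of_epi_of_isIso_of_mono _

variable (J : DRing.Cx A)

theorem isIso_DDmap_f (a b : ℤ) (hvan : DRing.VanishesOutside J a b) {C C' : DRing.Cx A}
    (f : C ⟶ C') (m : ℤ)
    (h : ∀ q : ℤ, m - (b - a) ≤ q → q ≤ m + (b - a) → IsIso (f.f q)) :
    IsIso ((DDmap J f).f m) := by
  unfold DDmap
  apply Groth.Agent.Helper3.KF.isIso_homCxPre_f
  intro p
  by_cases hp : a ≤ p + m ∧ p + m ≤ b
  · left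
    apply Groth.Agent.Helper3.KF.isIso_homCxPre_f
    intro q
    by_cases hq : a ≤ q + p ∧ q + p ≤ b
    · left
      exact h q (by omega) (by omega)
    · right
      apply hvan
      omega
  · right
    apply hvan
    omega

/-- the way-out argument: `ev` is a quasi-isomorphism in degree `n` as soon as it is one for a
suitable truncation -/
theorem quasiIsoAt_ev (a b : ℤ) (hab : a ≤ b) (hvan : DRing.VanishesOutside J a b)
    (C : DRing.Cx A) (n : ℤ)
    (hg : Good J ((C.truncLE (n + (b - a) + 2)).truncGE (n - (b - a) - 2))) :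
    QuasiIsoAt (ev C J) n := by
  haveI : QuasiIsoAt (C.ιTruncLE (n + (b - a) + 2)) n :=
    C.quasiIsoAt_ιTruncLE _ n (by omega)
  haveI : QuasiIsoAt ((C.truncLE (n + (b - a) + 2)).πTruncGE (n - (b - a) - 2)) n :=
    (C.truncLE (n + (b - a) + 2)).quasiIsoAt_πTruncGE _ n (by omega)
  have hι : ∀ j : ℤ, n - 1 ≤ j → j ≤ n + 1 →
      IsIso ((DDmap J (C.ιTruncLE (n + (b - a) + 2))).f j) := fun j hj1 hj2 =>
    isIso_DDmap_f J a b hvan _ j (fun q h1 h2 => isIso_ιTruncLE_f' C _ q (by omega))
  have hπ : ∀ j : ℤ, n - 1 ≤ j → j ≤ n + 1 →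
      IsIso ((DDmap J ((C.truncLE (n + (b - a) + 2)).πTruncGE (n - (b - a) - 2))).f j) :=
    fun j hj1 hj2 =>
    isIso_DDmap_f J a b hvan _ j (fun q h1 h2 => isIso_πTruncGE_f' _ _ q (by omega))
  haveI : QuasiIsoAt (DDmap J (C.ιTruncLE (n + (b - a) + 2))) n :=
    quasiIsoAt_of_isIso_f _ n (hι _ (by omega) (by omega)) (hι _ (by omega) (by omega))
      (hι _ (by omega) (by omega))
  haveI : QuasiIsoAt (DDmap J ((C.truncLE (n + (b - a) + 2)).πTruncGE (n - (b - a) - 2))) n :=
    quasiIsoAt_of_isIso_f _ n (hπ _ (by omega) (by omega)) (hπ _ (by omega) (by omega))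
      (hπ _ (by omega) (by omega))
  haveI : QuasiIsoAt (ev ((C.truncLE (n + (b - a) + 2)).truncGE (n - (b - a) - 2)) J) n := by
    unfold Good at hg
    haveI := hg
    infer_instance
  have h1 : QuasiIsoAt (ev (C.truncLE (n + (b - a) + 2)) J) n := by
    have h : QuasiIsoAt (ev (C.truncLE (n + (b - a) + 2)) J ≫
        DDmap J ((C.truncLE (n + (b - a) + 2)).πTruncGE (n - (b - a) - 2))) n := by
      rw [ev_DDmap]
      infer_instance
    exact (quasiIsoAt_iff_comp_right _ _ n).mp h
  haveI := h1
  have h2 : QuasiIsoAt (C.ιTruncLE (n + (b - a) + 2) ≫ ev C J) n := by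
    rw [← ev_DDmap]
    infer_instance
  exact (quasiIsoAt_iff_comp_left _ _ n).mp h2

section Model

variable [IsNoetherianRing A] (a b : ℤ) (hvan : DRing.VanishesOutside J a b)
  (hinj : DRing.TermwiseInjective J)
  (hend : Function.Bijective (fun x : A => x • 𝟙 (DerivedCategory.Q.obj J)))
  (hext : ∀ i : ℤ, i ≠ 0 →
    ∀ f : DerivedCategory.Q.obj J ⟶ (DerivedCategory.Q.obj J)⟦i⟧, f = 0)

include hvan hinj in
theorem isKInjective_model : J.IsKInjective :=
  Groth.Agent.Helper11.DC.isKInjective_of_vanishesBelow J a (fun i hi => hvan i (Or.inl hi)) hinj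

include hinj in
theorem injective_model (n : ℤ) : Injective (J.X n) :=
  (Module.injective_iff_injective_object A (J.X n)).mp (hinj n)

include hvan hinj hend hext

theorem bdp_single (N : ModuleCat.{u} A) [Module.Finite A N] :
    BDP J ((DerivedCategory.singleFunctor (ModuleCat.{u} A) 0).obj N) := by
  haveI := isKInjective_model J a b hvan hinj
  exact bdp_of_good J ((DerivedCategory.singleFunctorIsoCompQ (ModuleCat.{u} A) 0).app N).symm
    (good_sg_of_P J N (P_of_model J a b hvan hinj hend hext N))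

theorem good_of_bounded (C : DRing.Cx A) (a' b' : ℤ)
    (hb : ∀ i : ℤ, i < a' ∨ b' < i → IsZero (C.homology i))
    (hf : ∀ i : ℤ, Module.Finite A (C.homology i)) : Good J C := by
  haveI := isKInjective_model J a b hvan hinj
  have hth := thickLike_bdp J (injective_model J hinj)
  have e : ∀ i : ℤ, (DerivedCategory.homologyFunctor (ModuleCat.{u} A) i).obj
      (DerivedCategory.Q.obj C) ≅ C.homology i :=
    fun i => (DerivedCategory.homologyFunctorFactors (ModuleCat.{u} A) i).app C
  have h : BDP J (DerivedCategory.Q.obj C) := by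
    refine hth.of_homology (DerivedCategory.Q.obj C) a' b'
      (fun i hi => (hb i hi).of_iso (e i)) (fun i => ?_)
    haveI := hf i
    haveI : Module.Finite A ((DerivedCategory.homologyFunctor (ModuleCat.{u} A) i).obj
        (DerivedCategory.Q.obj C)) :=
      Module.Finite.equiv (e i).symm.toLinearEquiv
    exact bdp_single J a b hvan hinj hend hext _
  exact good_of_bdp J (Iso.refl _) h

theorem good_of_finite (hab : a ≤ b) (C : DRing.Cx A)
    (hf : ∀ i : ℤ, Module.Finite A (C.homology i)) : Good J C := by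
  unfold Good
  rw [quasiIso_iff]
  intro n
  apply quasiIsoAt_ev J a b hab hvan C n
  exact good_of_bounded J a b hvan hinj hend hext _ (n - (b - a) - 2) (n + (b - a) + 2)
    (fun i hi => isZero_homology_trunc C _ _ i hi) (fun i => finite_homology_trunc C hf _ _ i)

end Model

/-- **Biduality for a dualizing complex** -/
theorem biduality_dualizing [IsNoetherianRing A] (ω : Dual.D A) (hω : Dual.IsDualizing A ω)
    (K : DRing.Cx A) [DRing.HasRHomCx K]
    (hK : ∀ i : ℤ, Module.Finite A (Dual.HD A (DRing.toD K) i)) :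
    (∀ i : ℤ, Module.Finite A (Dual.HD A ((DRing.RHomCx K).obj ω) i)) ∧
      ∀ (E : DRing.Cx A) [DRing.HasRHomCx E],
        Nonempty (DRing.toD E ≅ (DRing.RHomCx K).obj ω) →
          Nonempty ((DRing.RHomCx E).obj ω ≅ DRing.toD K) := by
  obtain ⟨J, a, b₀, e, hvan₀, hinj, hend, hext, hfin⟩ := exists_model ω hω
  obtain ⟨b, hab, hvan⟩ : ∃ b, a ≤ b ∧ DRing.VanishesOutside J a b := by
    refine ⟨max a b₀, le_max_left _ _, fun n hn => hvan₀ n ?_⟩
    rcases hn with h | h
    · exact Or.inl h
    · exact Or.inr (lt_of_le_of_lt (le_max_right _ _) h)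
  haveI := isKInjective_model J a b hvan hinj
  have hKf : ∀ i : ℤ, Module.Finite A (K.homology i) := fun i => by
    haveI : Module.Finite A ((DerivedCategory.Q ⋙
        DerivedCategory.homologyFunctor (ModuleCat.{u} A) i).obj K) := hK i
    exact Module.Finite.equiv
      ((DerivedCategory.homologyFunctorFactors (ModuleCat.{u} A) i).app K).toLinearEquiv
  have hgood : Good J K := good_of_finite J a b hvan hinj hend hext hab K hKf
  have e1 : (DRing.RHomCx K).obj ω ≅ DerivedCategory.Q.obj (DRing.homCx K J) :=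
    (DRing.RHomCx K).mapIso e.symm ≪≫ Groth.Agent.Helper11.RHomLoc.RHomCxIsoInj K J
  constructor
  · intro i
    obtain ⟨eq⟩ := Groth.Agent.Helper8.HomH.nonempty_homology_homCx_equiv K J i
    have hL : DRing.HasInjAmplitudeIn A a b (DerivedCategory.Q.obj J) :=
      ⟨J, hvan, hinj, ⟨Iso.refl _⟩⟩
    haveI : IsNoetherian A (DerivedCategory.Q.obj K ⟶ (DerivedCategory.Q.obj J)⟦i⟧) :=
      Groth.Agent.Helper8.DFin.noetherian_hom (DerivedCategory.Q.obj K) (DerivedCategory.Q.obj J)
        hK hfin a b hL i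
    haveI : Module.Finite A ((HomologicalComplex.homologyFunctor (ModuleCat.{u} A)
        (ComplexShape.up ℤ) i).obj (DRing.homCx K J)) := Module.Finite.equiv eq.symm
    haveI : Module.Finite A ((DerivedCategory.homologyFunctor (ModuleCat.{u} A) i).obj
        (DerivedCategory.Q.obj (DRing.homCx K J))) :=
      Module.Finite.equiv ((DerivedCategory.homologyFunctorFactors (ModuleCat.{u} A) i).app
        (DRing.homCx K J)).symm.toLinearEquiv
    exact Module.Finite.equiv
      ((DerivedCategory.homologyFunctor (ModuleCat.{u} A) i).mapIso e1).symm.toLinearEquiv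
  · intro E _ he'
    obtain ⟨e'⟩ := he'
    obtain ⟨P, p, hP, _, hp⟩ := Groth.Agent.Helper11.Tel.exists_kprojective_resolution E
    haveI := hP
    haveI := hp
    haveI i1 : IsIso (DerivedCategory.Q.map p) := by
      rw [DerivedCategory.isIso_Q_map_iff_quasiIso]
      infer_instance
    obtain ⟨e3⟩ := Groth.Agent.Helper11.RHomDual.nonempty_RHomCx_iso E P
      (asIso (DerivedCategory.Q.map p)) J
    obtain ⟨t, ht⟩ := Groth.Agent.Helper11.DC.exists_lift_of_isKProjective P (DRing.homCx K J)
      (DerivedCategory.Q.map p ≫ e'.hom ≫ e1.hom)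
    haveI : QuasiIso t := by
      rw [← DerivedCategory.isIso_Q_map_iff_quasiIso, ht]
      infer_instance
    haveI := Groth.Agent.Helper11.RHomDual.quasiIso_homCxPre J t
    haveI i2 : IsIso (DerivedCategory.Q.map (homCxPre t J)) := by
      rw [DerivedCategory.isIso_Q_map_iff_quasiIso]
      infer_instance
    haveI : QuasiIso (ev K J) := hgood
    haveI i3 : IsIso (DerivedCategory.Q.map (ev K J)) := by
      rw [DerivedCategory.isIso_Q_map_iff_quasiIso]
      infer_instance
    exact ⟨(DRing.RHomCx E).mapIso e.symm ≪≫ e3 ≪≫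
      (asIso (DerivedCategory.Q.map (homCxPre t J))).symm ≪≫
      (asIso (DerivedCategory.Q.map (ev K J))).symm⟩

end Groth.Agent.Helper11.BD
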