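import Mathlib
import Groth.Prelude.Def_W4stkschemesremainderFib

set_option autoImplicit false
universe u
open CategoryTheory CategoryTheory.Limits AlgebraicGeometry

namespace Groth.Agent.Helper11.BddFibLib

/-- ring-level predicate: `A` is a finite `K`-module of rank at most `n` through `ψ`. -/
def RingDegLE {K A : CommRingCat.{u}} (ψ : K ⟶ A) (n : ℕ) : Prop :=
  letI : Algebra K A := ψ.hom.toAlgebra
  Module.Finite K A ∧ Module.finrank K A ≤ n

theorem finiteOfDegLE_iff {K : CommRingCat.{u}} {T : Scheme.{u}} (p : T ⟶ Spec K) (n : ℕ) :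
    BddFib.FiniteOfDegLE K p n ↔
      IsAffine T ∧ RingDegLE ((Scheme.ΓSpecIso K).inv ≫ p.appTop) n :=
  Iff.rfl

theorem ringDegLE_pushout {K L A B : CommRingCat.{u}} (hK : IsField K) (hL : IsField L)
    {ψ : K ⟶ A} {φ : K ⟶ L} {inl : A ⟶ B} {inr : L ⟶ B}
    (h : IsPushout ψ φ inl inr) (n : ℕ) (hψ : RingDegLE ψ n) : RingDegLE inr n := by
  letI := hK.toField
  letI := hL.toField
  algebraize [ψ.hom, φ.hom, inl.hom, inr.hom, inl.hom.comp ψ.hom]
  have : IsScalarTower K L B := .of_algebraMap_eq' <| congr($(h.1.1).hom)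
  have : Algebra.IsPushout K A L B := CommRingCat.isPushout_iff_isPushout.mp h
  obtain ⟨hfin, hrank⟩ := hψ
  have hfin' : Module.Finite K A := hfin
  have h1 : (algebraMap L B).Finite :=
    RingHom.finite_isStableUnderBaseChange K A L B (show (algebraMap K A).Finite from hfin')
  have hfinB : Module.Finite L B := h1
  refine ⟨hfinB, ?_⟩
  have h2 := Algebra.rankAtStalk_eq_of_isPushout K A L B (⊥ : PrimeSpectrum L)
  rw [Module.rankAtStalk_eq_finrank_of_free, Module.rankAtStalk_eq_finrank_of_free] at h2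
  have h3 : Module.finrank L B = Module.finrank K A := by simpa using h2
  show Module.finrank L B ≤ n
  rw [h3]
  exact hrank

theorem finiteOfDegLE_bc {K L : CommRingCat.{u}} (hK : IsField K) (hL : IsField L) (φ : K ⟶ L)
    {T P : Scheme.{u}} (p : T ⟶ Spec K) (g' : P ⟶ T) (q : P ⟶ Spec L)
    (h : IsPullback g' q p (Spec.map φ)) (n : ℕ) (hp : BddFib.FiniteOfDegLE K p n) :
    BddFib.FiniteOfDegLE L q n := by
  rw [finiteOfDegLE_iff] at hp ⊢
  obtain ⟨hT, hr⟩ := hp
  haveI := hT
  haveI : IsAffine P := .of_isPullback h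
  refine ⟨inferInstance, ?_⟩
  have hpush := isPushout_appTop_of_isPullback h
  have hpush' : IsPushout ((Scheme.ΓSpecIso K).inv ≫ p.appTop) φ g'.appTop
      ((Scheme.ΓSpecIso L).inv ≫ q.appTop) := by
    refine IsPushout.of_iso hpush (Scheme.ΓSpecIso K) (Iso.refl _) (Scheme.ΓSpecIso L) (Iso.refl _)
      ?_ ?_ ?_ ?_
    · simp
    · exact Scheme.ΓSpecIso_naturality φ
    · simp
    · simp
  exact ringDegLE_pushout hK hL hpush' n hr

end Groth.Agent.Helper11.BddFibLib
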