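import Mathlib

/-!
A module over a finite-dimensional algebra which needs at most `n` generators modulo every
maximal ideal has dimension at most `n * dim B` (helper11).
-/

set_option autoImplicit false
universe u

namespace Groth.Agent.Helper11.BddFibLib

open Submodule in
theorem sup_smul_top_eq_top_of_nilpotent {B C : Type*} [CommRing B] [AddCommGroup C] [Module B C]
    (N : Submodule B C) (P : Ideal B) (hP : IsNilpotent P)
    (h : N ⊔ P • (⊤ : Submodule B C) = ⊤) : N = ⊤ := by
  obtain ⟨r, hr⟩ := hP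
  have key : ∀ r : ℕ, N ⊔ (P ^ r) • (⊤ : Submodule B C) = ⊤ := by
    intro r
    induction r with
    | zero => simp
    | succ r ih =>
      rw [eq_top_iff]
      calc (⊤ : Submodule B C) = N ⊔ P • (⊤ : Submodule B C) := h.symm
        _ = N ⊔ P • (N ⊔ (P ^ r) • (⊤ : Submodule B C)) := by rw [ih]
        _ = N ⊔ (P • N ⊔ P • ((P ^ r) • (⊤ : Submodule B C))) := by rw [Submodule.smul_sup]
        _ ≤ N ⊔ (P ^ (r + 1)) • (⊤ : Submodule B C) := by
          refine sup_le le_sup_left (sup_le ?_ ?_)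
          · exact le_sup_of_le_left Submodule.smul_le_right
          · rw [← Submodule.mul_smul, ← pow_succ']
            exact le_sup_right
  have := key r
  rw [hr, Submodule.zero_eq_bot, Submodule.bot_smul, sup_bot_eq] at this
  exact this

theorem sup_prod_smul_top {B C : Type*} [CommRing B] [AddCommGroup C] [Module B C]
    (N : Submodule B C) {ι : Type*} (s : Finset ι) (I : ι → Ideal B)
    (h : ∀ i ∈ s, N ⊔ I i • (⊤ : Submodule B C) = ⊤) :
    N ⊔ (∏ i ∈ s, I i) • (⊤ : Submodule B C) = ⊤ := by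
  classical
  induction s using Finset.induction_on with
  | empty => simp
  | insert a s ha ih =>
    rw [Finset.prod_insert ha, eq_top_iff]
    have h1 := h a (Finset.mem_insert_self a s)
    have h2 := ih (fun i hi => h i (Finset.mem_insert_of_mem hi))
    calc (⊤ : Submodule B C) = N ⊔ I a • (⊤ : Submodule B C) := h1.symm
      _ = N ⊔ I a • (N ⊔ (∏ i ∈ s, I i) • (⊤ : Submodule B C)) := by rw [h2]
      _ = N ⊔ (I a • N ⊔ I a • ((∏ i ∈ s, I i) • (⊤ : Submodule B C))) := by
        rw [Submodule.smul_sup]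
      _ ≤ N ⊔ (I a * ∏ i ∈ s, I i) • (⊤ : Submodule B C) := by
        refine sup_le le_sup_left (sup_le ?_ ?_)
        · exact le_sup_of_le_left Submodule.smul_le_right
        · rw [← Submodule.mul_smul]
          exact le_sup_right

/-- generation by `n` elements can be checked modulo the maximal ideals of an artinian ring -/
theorem exists_span_eq_top_of_forall_maximal {B C : Type*} [CommRing B] [IsArtinianRing B]
    [AddCommGroup C] [Module B C] (n : ℕ)
    (h : ∀ q : Ideal B, q.IsMaximal → ∃ g : Fin n → C,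
      Submodule.span B (Set.range g) ⊔ (q • ⊤ : Submodule B C) = ⊤) :
    ∃ c : Fin n → C, Submodule.span B (Set.range c) = ⊤ := by
  classical
  haveI : Fintype (MaximalSpectrum B) := Fintype.ofFinite _
  choose g hg using fun 𝔪 : MaximalSpectrum B => h 𝔪.asIdeal 𝔪.isMaximal
  have hcop : Pairwise (Function.onFun IsCoprime fun 𝔪 : MaximalSpectrum B => 𝔪.asIdeal) := by
    intro a b hab
    rw [Function.onFun, Ideal.isCoprime_iff_sup_eq]
    exact a.isMaximal.coprime_of_ne b.isMaximal (fun h => hab (MaximalSpectrum.ext h))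
  choose e he using fun 𝔪 : MaximalSpectrum B =>
    Ideal.exists_forall_sub_mem_ideal hcop (fun 𝔪' => if 𝔪' = 𝔪 then (1 : B) else 0)
  let c : Fin n → C := fun j => ∑ 𝔪, e 𝔪 • g 𝔪 j
  refine ⟨c, ?_⟩
  set N := Submodule.span B (Set.range c) with hN
  have hloc : ∀ 𝔪 : MaximalSpectrum B, N ⊔ 𝔪.asIdeal • (⊤ : Submodule B C) = ⊤ := by
    intro 𝔪
    refine eq_top_iff.mpr ((hg 𝔪).ge.trans (sup_le ?_ le_sup_right))
    rw [Submodule.span_le]
    rintro _ ⟨j, rfl⟩
    have h1 : g 𝔪 j = c j - ((e 𝔪 - 1) • g 𝔪 j + ∑ 𝔪' ∈ Finset.univ.erase 𝔪, e 𝔪' • g 𝔪' j) := by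
      have : c j = e 𝔪 • g 𝔪 j + ∑ 𝔪' ∈ Finset.univ.erase 𝔪, e 𝔪' • g 𝔪' j :=
        (Finset.add_sum_erase Finset.univ (fun 𝔪' => e 𝔪' • g 𝔪' j) (Finset.mem_univ 𝔪)).symm
      rw [this, sub_smul, one_smul]
      abel
    rw [h1]
    refine Submodule.sub_mem _ (Submodule.mem_sup_left (Submodule.subset_span ⟨j, rfl⟩))
      (Submodule.mem_sup_right ?_)
    refine Submodule.add_mem _ ?_ (Submodule.sum_mem _ ?_)
    · refine Submodule.smul_mem_smul ?_ Submodule.mem_top
      have := he 𝔪 𝔪
      simpa using this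
    · intro 𝔪' hm'
      refine Submodule.smul_mem_smul ?_ Submodule.mem_top
      have hne : 𝔪 ≠ 𝔪' := fun h => (Finset.mem_erase.mp hm').1 h.symm
      have := he 𝔪' 𝔪
      simpa [hne] using this
  have hprod := sup_prod_smul_top N Finset.univ (fun 𝔪 : MaximalSpectrum B => 𝔪.asIdeal)
    (fun 𝔪 _ => hloc 𝔪)
  refine sup_smul_top_eq_top_of_nilpotent N _ ?_ hprod
  obtain ⟨r, hr⟩ := IsArtinianRing.isNilpotent_jacobson_bot (R := B)
  refine ⟨r, ?_⟩
  rw [Submodule.zero_eq_bot, eq_bot_iff, ← Submodule.zero_eq_bot, ← hr]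
  refine Ideal.pow_right_mono ?_ r
  refine Ideal.prod_le_inf.trans ?_
  rw [Ideal.jacobson, le_sInf_iff]
  rintro J ⟨-, hJ⟩
  exact Finset.inf_le (b := (⟨J, hJ⟩ : MaximalSpectrum B)) (Finset.mem_univ _)

/-- the dimension bound -/
theorem finrank_le_of_forall_maximal {k B C : Type*} [Field k] [CommRing B] [AddCommGroup C]
    [Algebra k B] [Module B C] [Module k C] [IsScalarTower k B C] [Module.Finite k B] (n : ℕ)
    (h : ∀ q : Ideal B, q.IsMaximal → ∃ g : Fin n → C,
      Submodule.span B (Set.range g) ⊔ (q • ⊤ : Submodule B C) = ⊤) :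
    Module.Finite k C ∧ Module.finrank k C ≤ n * Module.finrank k B := by
  haveI : IsArtinianRing B := IsArtinianRing.of_finite k B
  obtain ⟨c, hc⟩ := exists_span_eq_top_of_forall_maximal n h
  let φ : (Fin n → B) →ₗ[B] C := Fintype.linearCombination B c
  have hφ : Function.Surjective φ := by
    rw [← LinearMap.range_eq_top, Fintype.range_linearCombination, hc]
  let φk : (Fin n → B) →ₗ[k] C := φ.restrictScalars k
  have hφk : Function.Surjective φk := hφ
  haveI : Module.Finite k C := Module.Finite.of_surjective φk hφk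
  refine ⟨inferInstance, ?_⟩
  have h1 := LinearMap.finrank_range_le φk
  rw [LinearMap.range_eq_top.mpr hφk, finrank_top] at h1
  refine h1.trans ?_
  rw [Module.finrank_pi_fintype]
  simp

end Groth.Agent.Helper11.BddFibLib
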