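import Mathlib

/-!
Generators modulo a maximal ideal from a pushout square (helper11).
-/

set_option autoImplicit false
universe u

namespace Groth.Agent.Helper11.BddFibLib

open TensorProduct

section

variable {B L C D : Type*} [CommRing B] [CommRing L] [CommRing C] [CommRing D]
  [Algebra B L] [Algebra B C] [Algebra L D] [Algebra C D] [Algebra B D]
  [IsScalarTower B L D] [IsScalarTower B C D]

theorem algebraMap_surjective_of_isPushout (hpo : Algebra.IsPushout B L C D)
    (hsurj : Function.Surjective (algebraMap B L)) : Function.Surjective (algebraMap C D) := by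
  intro d
  refine hpo.out.inductionOn d (fun d => ∃ c, algebraMap C D c = d) ⟨0, map_zero _⟩ ?_ ?_ ?_
  · intro c
    exact ⟨c, rfl⟩
  · rintro l _ ⟨c, rfl⟩
    obtain ⟨b, rfl⟩ := hsurj l
    refine ⟨b • c, ?_⟩
    rw [Algebra.smul_def, map_mul, ← IsScalarTower.algebraMap_apply, Algebra.smul_def,
      ← IsScalarTower.algebraMap_apply]
  · rintro _ _ ⟨c₁, rfl⟩ ⟨c₂, rfl⟩
    exact ⟨c₁ + c₂, map_add _ _ _⟩

theorem mem_ker_smul_top_of_isPushout (hpo : Algebra.IsPushout B L C D)
    (hsurj : Function.Surjective (algebraMap B L)) (c : C) (hc : algebraMap C D c = 0) :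
    c ∈ (RingHom.ker (algebraMap B L) • ⊤ : Submodule B C) := by
  have h1 : (1 : L) ⊗ₜ[B] c = 0 := by
    have := hpo.out.equiv_symm_apply c
    rw [← this]
    have h0 : (IsScalarTower.toAlgHom B C D).toLinearMap c = 0 := hc
    rw [h0, map_zero]
  let g : B →ₗ[B] L := Algebra.linearMap B L
  have hex := rTensor_exact C (LinearMap.exact_subtype_ker_map g) hsurj
  have h2 : (g.rTensor C) ((1 : B) ⊗ₜ[B] c) = 0 := by
    rw [LinearMap.rTensor_tmul]
    show (algebraMap B L 1) ⊗ₜ[B] c = 0
    rw [map_one, h1]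
  obtain ⟨t, ht⟩ := (hex _).mp h2
  have h3 : ∀ t : (LinearMap.ker g) ⊗[B] C,
      TensorProduct.lid B C (((LinearMap.ker g).subtype.rTensor C) t) ∈
        (RingHom.ker (algebraMap B L) • ⊤ : Submodule B C) := by
    intro t
    induction t with
    | zero => simp
    | tmul x c' =>
      rw [LinearMap.rTensor_tmul, TensorProduct.lid_tmul]
      exact Submodule.smul_mem_smul x.2 Submodule.mem_top
    | add x y hx hy =>
      rw [map_add, map_add]
      exact Submodule.add_mem _ hx hy
  have h4 := h3 t
  rw [ht, TensorProduct.lid_tmul, one_smul] at h4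
  exact h4

end

theorem exists_fin_span_of_finrank_le {L D : Type*} [Field L] [AddCommGroup D] [Module L D]
    [Module.Finite L D] (n : ℕ) (hn : Module.finrank L D ≤ n) :
    ∃ d : Fin n → D, Submodule.span L (Set.range d) = ⊤ := by
  let b := Module.finBasis L D
  refine ⟨fun i => if h : i.1 < Module.finrank L D then b ⟨i.1, h⟩ else 0, ?_⟩
  rw [eq_top_iff, ← b.span_eq, Submodule.span_le]
  rintro _ ⟨j, rfl⟩
  refine Submodule.subset_span ⟨⟨j.1, lt_of_lt_of_le j.2 hn⟩, ?_⟩
  simp

theorem exists_gens_of_isPushout {B L C D : Type*} [CommRing B] [Field L] [CommRing C]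
    [CommRing D] [Algebra B L] [Algebra B C] [Algebra L D] [Algebra C D] [Algebra B D]
    [IsScalarTower B L D] [IsScalarTower B C D]
    (hpo : Algebra.IsPushout B L C D) (hsurj : Function.Surjective (algebraMap B L)) (n : ℕ)
    [Module.Finite L D] (hn : Module.finrank L D ≤ n) :
    ∃ g : Fin n → C, Submodule.span B (Set.range g) ⊔
      (RingHom.ker (algebraMap B L) • ⊤ : Submodule B C) = ⊤ := by
  obtain ⟨d, hd⟩ := exists_fin_span_of_finrank_le (L := L) (D := D) n hn
  have hCD := algebraMap_surjective_of_isPushout hpo hsurj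
  choose g hg using fun i => hCD (d i)
  refine ⟨g, ?_⟩
  rw [eq_top_iff]
  intro c _
  have h1 : algebraMap C D c ∈ Submodule.span L (Set.range d) := by rw [hd]; trivial
  obtain ⟨l, hl⟩ := (Submodule.mem_span_range_iff_exists_fun L).mp h1
  choose b hb using fun i => hsurj (l i)
  have h2 : algebraMap C D (c - ∑ i, b i • g i) = 0 := by
    rw [map_sub, map_sum, ← hl, sub_eq_zero]
    refine Finset.sum_congr rfl (fun i _ => ?_)
    rw [Algebra.smul_def (l i), Algebra.smul_def (b i), map_mul,
      ← IsScalarTower.algebraMap_apply, hg, ← hb, ← IsScalarTower.algebraMap_apply]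
  have h3 := mem_ker_smul_top_of_isPushout hpo hsurj _ h2
  have h4 : c = ∑ i, b i • g i + (c - ∑ i, b i • g i) := by abel
  rw [h4]
  refine Submodule.add_mem _ (Submodule.mem_sup_left ?_) (Submodule.mem_sup_right h3)
  exact Submodule.sum_mem _ (fun i _ => Submodule.smul_mem _ _ (Submodule.subset_span ⟨i, rfl⟩))

end Groth.Agent.Helper11.BddFibLib
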