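import Groth.Agent.Lib.Helper11.BddFib7
import Groth.Agent.Lib.Helper11.BddFib8
import Groth.Agent.Lib.Helper11.BddFib9

/-!
Degrees of fibres multiply under composition (helper11).
-/

set_option autoImplicit false
universe u
open CategoryTheory CategoryTheory.Limits AlgebraicGeometry

namespace Groth.Agent.Helper11.BddFibLib

/-- pushout lemma in `CommRingCat` -/
theorem exists_gens_of_isPushout_cat {B C L D : CommRingCat.{u}} {θ : B ⟶ C} {π : B ⟶ L}
    {inl : C ⟶ D} {inr : L ⟶ D} (h : IsPushout θ π inl inr) (hL : IsField L)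
    (hπ : Function.Surjective π.hom) (n : ℕ) (hr : RingDegLE inr n) :
    letI : Algebra B C := θ.hom.toAlgebra
    ∃ g : Fin n → C, Submodule.span B (Set.range g) ⊔
      (RingHom.ker π.hom • ⊤ : Submodule B C) = ⊤ := by
  letI := hL.toField
  algebraize [θ.hom, π.hom, inl.hom, inr.hom, inl.hom.comp θ.hom]
  have : IsScalarTower B L D := .of_algebraMap_eq' <| congr($(h.1.1).hom)
  have h1 : Algebra.IsPushout B C L D := CommRingCat.isPushout_iff_isPushout.mp h
  have h2 : Algebra.IsPushout B L C D := h1.symm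
  obtain ⟨hfin, hrank⟩ := hr
  haveI : Module.Finite L D := hfin
  exact exists_gens_of_isPushout h2 hπ n hrank

theorem ringDegLE_comp {K B C : CommRingCat.{u}} (hK : IsField K) (ψ : K ⟶ B) (θ : B ⟶ C)
    (n m : ℕ) (hψ : RingDegLE ψ m)
    (h : letI : Algebra B C := θ.hom.toAlgebra
      ∀ q : Ideal B, q.IsMaximal → ∃ g : Fin n → C,
        Submodule.span B (Set.range g) ⊔ (q • ⊤ : Submodule B C) = ⊤) :
    RingDegLE (ψ ≫ θ) (n * m) := by
  letI := hK.toField
  algebraize [ψ.hom, θ.hom, θ.hom.comp ψ.hom]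
  obtain ⟨hfin, hrank⟩ := hψ
  haveI : Module.Finite K B := hfin
  obtain ⟨h1, h2⟩ := finrank_le_of_forall_maximal (k := K) (B := B) (C := C) n h
  exact ⟨h1, h2.trans (Nat.mul_le_mul_left n hrank)⟩

theorem finiteOfDegLE_comp {K : CommRingCat.{u}} (hK : IsField K) {X Y : Scheme.{u}}
    (p : Y ⟶ Spec K) (f : X ⟶ Y) (n m : ℕ) (hp : BddFib.FiniteOfDegLE K p m)
    (hf : BddFib.FibreDegLE f n) : BddFib.FiniteOfDegLE K (f ≫ p) (n * m) := by
  obtain ⟨hfinY, -⟩ := card_le_of_finiteOfDegLE hK p m hp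
  haveI := hfinY
  haveI := hp.1
  haveI := discreteTopology_of_finiteOfDegLE hK p m hp
  haveI : Finite X := by
    rw [← Set.finite_univ_iff]
    refine Set.Finite.of_finite_fibers (fun x : X => f x) (Set.toFinite _) (fun y _ => ?_)
    haveI : Finite (f.fiber y) :=
      (card_le_of_finiteOfDegLE (Field.toIsField _) (f.fiberToSpecResidueField y) n (hf y)).1
    haveI : Finite ↥(f ⁻¹' {y}) := Finite.of_equiv _ (f.fiberHomeo y).toEquiv
    rw [Set.univ_inter]
    exact Set.toFinite _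
  haveI : DiscreteTopology X := by
    rw [discreteTopology_iff_isOpen_singleton]
    intro x
    have hU : IsOpen (f ⁻¹' {f x}) := (isOpen_discrete _).preimage f.continuous
    haveI : DiscreteTopology (f.fiber (f x)) :=
      discreteTopology_of_finiteOfDegLE (Field.toIsField _) _ n (hf (f x))
    haveI : DiscreteTopology ↥(f ⁻¹' {f x}) :=
      (f.fiberHomeo (f x)).symm.isEmbedding.discreteTopology
    have h1 : IsOpen ({⟨x, rfl⟩} : Set ↥(f ⁻¹' {f x})) := isOpen_discrete _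
    have h2 := hU.isOpenMap_subtype_val _ h1
    simpa using h2
  haveI : IsAffine X := inferInstance
  rw [finiteOfDegLE_iff] at hp ⊢
  refine ⟨inferInstance, ?_⟩
  obtain ⟨-, hrB⟩ := hp
  have hcomp : (Scheme.ΓSpecIso K).inv ≫ (f ≫ p).appTop =
      ((Scheme.ΓSpecIso K).inv ≫ p.appTop) ≫ f.appTop := by
    rw [Scheme.Hom.comp_appTop, Category.assoc]
  rw [hcomp]
  refine ringDegLE_comp hK _ f.appTop n m hrB ?_
  intro q hq
  haveI := hq
  letI : Field (Γ(Y, ⊤) ⧸ q) := Ideal.Quotient.field q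
  let π : Γ(Y, ⊤) ⟶ CommRingCat.of (Γ(Y, ⊤) ⧸ q) := CommRingCat.ofHom (Ideal.Quotient.mk q)
  let ι : Spec (CommRingCat.of (Γ(Y, ⊤) ⧸ q)) ⟶ Y := Spec.map π ≫ Y.isoSpec.inv
  have hT := finiteOfDegLE_of_fibreDegLE f n hf (Γ(Y, ⊤) ⧸ q) ι
  rw [finiteOfDegLE_iff] at hT
  obtain ⟨hTaff, hTr⟩ := hT
  haveI := hTaff
  have hpush := isPushout_appTop_of_isPullback (IsPullback.of_hasPullback f ι)
  have hid : Y.isoSpec.inv.appTop ≫ (Scheme.ΓSpecIso Γ(Y, ⊤)).hom = 𝟙 _ := by
    rw [← Scheme.toSpecΓ_appTop, ← Scheme.Hom.comp_appTop]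
    have : Y.toSpecΓ ≫ Y.isoSpec.inv = 𝟙 _ := Y.isoSpec.hom_inv_id
    rw [this]
    rfl
  have hι : ι.appTop ≫ (Scheme.ΓSpecIso _).hom = π := by
    simp only [ι, Scheme.Hom.comp_appTop, Category.assoc]
    rw [Scheme.ΓSpecIso_naturality, ← Category.assoc, hid, Category.id_comp]
  have hpush' : IsPushout f.appTop π (pullback.fst f ι).appTop
      ((Scheme.ΓSpecIso _).inv ≫ (pullback.snd f ι).appTop) := by
    refine IsPushout.of_iso hpush (Iso.refl _) (Iso.refl _) (Scheme.ΓSpecIso _) (Iso.refl _)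
      ?_ ?_ ?_ ?_
    · simp
    · simp [hι]
    · simp
    · simp
  have hg := exists_gens_of_isPushout_cat hpush' (Field.toIsField _)
    Ideal.Quotient.mk_surjective n hTr
  have hker : RingHom.ker π.hom = q := Ideal.mk_ker
  rw [hker] at hg
  exact hg

end Groth.Agent.Helper11.BddFibLib
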