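import Groth.Agent.Lib.Helper11.BddFib1

set_option autoImplicit false
universe u
open CategoryTheory CategoryTheory.Limits AlgebraicGeometry

namespace Groth.Agent.Helper11.BddFibLib

theorem fibreDegLE_of_isPullback {X Y X' Y' : Scheme.{u}} (f : X ⟶ Y) (g : Y' ⟶ Y)
    (f' : X' ⟶ Y') (g' : X' ⟶ X) (h : IsPullback g' f' f g) (n : ℕ)
    (hf : BddFib.FibreDegLE f n) : BddFib.FibreDegLE f' n := by
  intro y'
  have hpb := isPullback_fiberToSpecResidueField_of_isPullback h y'
  exact finiteOfDegLE_bc (Field.toIsField _) (Field.toIsField _) (g.residueFieldMap y') _ _ _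
    hpb n (hf (g y'))

theorem finiteOfDegLE_of_fibreDegLE {X Y : Scheme.{u}} (f : X ⟶ Y) (n : ℕ)
    (hf : BddFib.FibreDegLE f n) (k : Type u) [Field k] (g : Spec (CommRingCat.of k) ⟶ Y) :
    BddFib.FiniteOfDegLE (CommRingCat.of k) (pullback.snd f g) n := by
  set yφ := Scheme.SpecToEquivOfField k Y g with hyφ
  have hg : Spec.map yφ.2 ≫ Y.fromSpecResidueField yφ.1 = g :=
    (Scheme.SpecToEquivOfField k Y).left_inv g
  let y := yφ.1
  let φ : Y.residueField y ⟶ CommRingCat.of k := yφ.2
  let g' : pullback f g ⟶ pullback f (Y.fromSpecResidueField y) :=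
    pullback.lift (pullback.fst f g) (pullback.snd f g ≫ Spec.map φ)
      (by rw [Category.assoc, hg, pullback.condition])
  have hpb : IsPullback g' (pullback.snd f g) (pullback.snd f (Y.fromSpecResidueField y))
      (Spec.map φ) := by
    refine IsPullback.of_right (h₁₂ := pullback.fst f (Y.fromSpecResidueField y)) ?_ ?_
      (IsPullback.of_hasPullback f (Y.fromSpecResidueField y))
    · have h1 : g' ≫ pullback.fst f (Y.fromSpecResidueField y) = pullback.fst f g :=
        pullback.lift_fst _ _ _
      rw [h1, hg]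
      exact IsPullback.of_hasPullback f g
    · exact pullback.lift_snd _ _ _
  exact finiteOfDegLE_bc (Field.toIsField _) (Field.toIsField _) φ
    (pullback.snd f (Y.fromSpecResidueField y)) g' _ hpb n (hf y)

theorem fibreDegLE_iff_field {X Y : Scheme.{u}} (f : X ⟶ Y) (n : ℕ) :
    BddFib.FibreDegLE f n ↔ ∀ (k : Type u) [Field k] (g : Spec (CommRingCat.of k) ⟶ Y),
      BddFib.FiniteOfDegLE (CommRingCat.of k) (pullback.snd f g) n := by
  constructor
  · intro hf k _ g
    exact finiteOfDegLE_of_fibreDegLE f n hf k g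
  · intro h y
    exact h (Y.residueField y) (Y.fromSpecResidueField y)

end Groth.Agent.Helper11.BddFibLib
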