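import Groth.Agent.Lib.Helper11.BddFib2

set_option autoImplicit false
universe u
open CategoryTheory CategoryTheory.Limits AlgebraicGeometry

namespace Groth.Agent.Helper11.BddFibLib

theorem card_primeSpectrum_le (F R : Type*) [Field F] [CommRing R] [Algebra F R]
    [Module.Finite F R] :
    Finite (PrimeSpectrum R) ∧ Nat.card (PrimeSpectrum R) ≤ Module.finrank F R := by
  haveI : IsArtinianRing R := IsArtinianRing.of_finite F R
  haveI : Finite (PrimeSpectrum R) := inferInstance
  refine ⟨inferInstance, ?_⟩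
  haveI : Fintype (PrimeSpectrum R) := Fintype.ofFinite _
  rw [IsArtinianRing.finrank_eq_sum_primeSpectrum R F, Nat.card_eq_fintype_card,
    Fintype.card_eq_sum_ones]
  apply Finset.sum_le_sum
  intro p _
  haveI : Module.Finite F (Localization.AtPrime p.asIdeal) :=
    Module.Finite.of_surjective (Algebra.algHom F R (Localization.AtPrime p.asIdeal)).toLinearMap
      (IsArtinianRing.localization_surjective p.asIdeal.primeCompl (Localization.AtPrime p.asIdeal))
  exact Module.finrank_pos

theorem card_le_of_finiteOfDegLE {K : CommRingCat.{u}} (hK : IsField K) {T : Scheme.{u}}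
    (p : T ⟶ Spec K) (n : ℕ) (hp : BddFib.FiniteOfDegLE K p n) :
    Finite T ∧ Nat.card T ≤ n := by
  rw [finiteOfDegLE_iff] at hp
  obtain ⟨hT, hfin, hrank⟩ := hp
  haveI := hT
  letI := hK.toField
  letI : Algebra K Γ(T, ⊤) := ((Scheme.ΓSpecIso K).inv ≫ p.appTop).hom.toAlgebra
  haveI : Module.Finite K Γ(T, ⊤) := hfin
  obtain ⟨h1, h2⟩ := card_primeSpectrum_le K Γ(T, ⊤)
  let e : T ≃ PrimeSpectrum Γ(T, ⊤) := T.isoSpec.hom.homeomorph.toEquiv
  refine ⟨Finite.of_equiv _ e.symm, ?_⟩
  rw [Nat.card_congr e]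
  exact h2.trans hrank

end Groth.Agent.Helper11.BddFibLib
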