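import Groth.Agent.Lib.Helper11.BddFib3

set_option autoImplicit false
universe u
open CategoryTheory CategoryTheory.Limits AlgebraicGeometry

namespace Groth.Agent.Helper11.BddFibLib

theorem hom_eq_isoSpec_comp {K : CommRingCat.{u}} {T : Scheme.{u}} [IsAffine T] (p : T ⟶ Spec K) :
    p = T.isoSpec.hom ≫ Spec.map ((Scheme.ΓSpecIso K).inv ≫ p.appTop) := by
  have h1 := Scheme.isoSpec_hom_naturality p
  rw [Scheme.isoSpec_Spec_hom] at h1
  rw [Spec.map_comp, reassoc_of% h1, ← Spec.map_comp, Iso.inv_hom_id, Spec.map_id,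
    Category.comp_id]

/-- for a finite morphism to the spectrum of a field, the degree bound is a bound on `finrank` -/
theorem finiteOfDegLE_of_isFinite {K : CommRingCat.{u}} (hK : IsField K) {T : Scheme.{u}}
    (p : T ⟶ Spec K) [IsFinite p] (x : Spec K) (n : ℕ) (h : p.finrank x ≤ n) :
    BddFib.FiniteOfDegLE K p n := by
  rw [finiteOfDegLE_iff]
  haveI : IsAffine T := isAffine_of_isAffineHom p
  refine ⟨inferInstance, ?_⟩
  letI := hK.toField
  set ψ : K ⟶ Γ(T, ⊤) := (Scheme.ΓSpecIso K).inv ≫ p.appTop with hψ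
  have hp : p = T.isoSpec.hom ≫ Spec.map ψ := hom_eq_isoSpec_comp p
  have hfin : ψ.hom.Finite := by
    rw [← IsFinite.SpecMap_iff]
    have h0 : Spec.map ψ = T.isoSpec.inv ≫ p := by rw [hp, Iso.inv_hom_id_assoc]
    rw [h0]
    infer_instance
  letI : Algebra K Γ(T, ⊤) := ψ.hom.toAlgebra
  haveI hfin' : Module.Finite K Γ(T, ⊤) := hfin
  have hflat : ψ.hom.Flat := by
    show Module.Flat K Γ(T, ⊤)
    infer_instance
  haveI : IsFinite (Spec.map ψ) := (IsFinite.SpecMap_iff ψ).2 hfin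
  haveI : Flat (Spec.map ψ) := Flat.SpecMap_iff.2 hflat
  have h1 : p.finrank = (Spec.map ψ).finrank := by
    rw [hp]
    exact Scheme.Hom.finrank_comp_left_of_isIso _ _
  rw [h1, Scheme.Hom.finrank_SpecMap_eq_finrank hfin hflat] at h
  refine ⟨hfin', ?_⟩
  have h2 : ψ.hom.finrank x = Module.finrank K Γ(T, ⊤) := by
    show Module.rankAtStalk (R := K) Γ(T, ⊤) x = _
    rw [Module.rankAtStalk_eq_finrank_of_free]
    rfl
  show Module.finrank K Γ(T, ⊤) ≤ n
  rw [← h2]
  exact h

end Groth.Agent.Helper11.BddFibLib
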