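import Groth.Agent.Lib.Helper11.BddFib4

set_option autoImplicit false
universe u
open CategoryTheory CategoryTheory.Limits AlgebraicGeometry

namespace Groth.Agent.Helper11.BddFibLib

/-- a closed immersion into the spectrum of a field has degree at most one -/
theorem finiteOfDegLE_one_of_isClosedImmersion {K : CommRingCat.{u}} (hK : IsField K)
    {T : Scheme.{u}} (p : T ⟶ Spec K) [IsClosedImmersion p] :
    BddFib.FiniteOfDegLE K p 1 := by
  rw [finiteOfDegLE_iff]
  obtain ⟨haff, hsurj⟩ := IsClosedImmersion.isAffine_surjective_of_isAffine p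
  refine ⟨haff, ?_⟩
  letI := hK.toField
  set ψ : K ⟶ Γ(T, ⊤) := (Scheme.ΓSpecIso K).inv ≫ p.appTop with hψ
  have hψs : Function.Surjective ψ.hom := by
    rw [hψ, CommRingCat.hom_comp, RingHom.coe_comp]
    exact hsurj.comp (ConcreteCategory.bijective_of_isIso _).2
  letI : Algebra K Γ(T, ⊤) := ψ.hom.toAlgebra
  have hs : Function.Surjective (Algebra.linearMap K Γ(T, ⊤)) := hψs
  haveI : Module.Finite K Γ(T, ⊤) := Module.Finite.of_surjective _ hs
  refine ⟨inferInstance, ?_⟩
  have h1 := LinearMap.finrank_range_le (Algebra.linearMap K Γ(T, ⊤))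
  rw [LinearMap.range_eq_top.2 hs, finrank_top, Module.finrank_self] at h1
  exact h1

end Groth.Agent.Helper11.BddFibLib
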