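import Groth.Agent.Lib.Helper11.BddFib5

set_option autoImplicit false
universe u
open CategoryTheory CategoryTheory.Limits AlgebraicGeometry

namespace Groth.Agent.Helper11.BddFibLib

theorem ringDegLE_of_pushout {K L A B : CommRingCat.{u}} (hK : IsField K) (hL : IsField L)
    {ψ : K ⟶ A} {φ : K ⟶ L} {inl : A ⟶ B} {inr : L ⟶ B}
    (h : IsPushout ψ φ inl inr) (n : ℕ) (hr : RingDegLE inr n) : RingDegLE ψ n := by
  letI := hK.toField
  letI := hL.toField
  algebraize [ψ.hom, φ.hom, inl.hom, inr.hom, inl.hom.comp ψ.hom]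
  have : IsScalarTower K L B := .of_algebraMap_eq' <| congr($(h.1.1).hom)
  have h1 : Algebra.IsPushout K A L B := CommRingCat.isPushout_iff_isPushout.mp h
  have h2 : Algebra.IsPushout K L A B := h1.symm
  let e : TensorProduct K L A ≃ₐ[L] B := Algebra.IsPushout.equiv K L A B
  obtain ⟨hfin, hrank⟩ := hr
  haveI hfin' : Module.Finite L B := hfin
  haveI hfinT : Module.Finite L (TensorProduct K L A) := Module.Finite.equiv e.symm.toLinearEquiv
  have hA : Module.Finite K A := by
    rw [← Module.rank_lt_aleph0_iff]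
    have h3 := Module.rank_lt_aleph0_iff.2 hfinT
    rw [Module.rank_baseChange] at h3
    simpa using h3
  refine ⟨hA, ?_⟩
  have h4 : Module.finrank K A = Module.finrank L B := by
    rw [← e.toLinearEquiv.finrank_eq, Module.finrank_baseChange]
  show Module.finrank K A ≤ n
  rw [h4]
  exact hrank

theorem finiteOfDegLE_descent {K L : CommRingCat.{u}} (hK : IsField K) (hL : IsField L) (φ : K ⟶ L)
    {T P : Scheme.{u}} [IsAffine T] (p : T ⟶ Spec K) (g' : P ⟶ T) (q : P ⟶ Spec L)
    (h : IsPullback g' q p (Spec.map φ)) (n : ℕ) (hq : BddFib.FiniteOfDegLE L q n) :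
    BddFib.FiniteOfDegLE K p n := by
  rw [finiteOfDegLE_iff] at hq ⊢
  obtain ⟨hP, hr⟩ := hq
  refine ⟨inferInstance, ?_⟩
  have hpush := isPushout_appTop_of_isPullback h
  have hpush' : IsPushout ((Scheme.ΓSpecIso K).inv ≫ p.appTop) φ g'.appTop
      ((Scheme.ΓSpecIso L).inv ≫ q.appTop) := by
    refine IsPushout.of_iso hpush (Scheme.ΓSpecIso K) (Iso.refl _) (Scheme.ΓSpecIso L) (Iso.refl _)
      ?_ ?_ ?_ ?_
    · simp
    · exact Scheme.ΓSpecIso_naturality φ
    · simp
    · simp
  exact ringDegLE_of_pushout hK hL hpush' n hr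

/-- descent of affineness along a field extension when the base change is finite -/
theorem isAffine_of_finite_baseChange {K L : CommRingCat.{u}} (hK : IsField K) (hL : IsField L)
    (φ : K ⟶ L) {T P : Scheme.{u}} (p : T ⟶ Spec K) (g' : P ⟶ T) (q : P ⟶ Spec L)
    (h : IsPullback g' q p (Spec.map φ)) (n : ℕ) (hq : BddFib.FiniteOfDegLE L q n) :
    IsAffine T := by
  obtain ⟨hfinP, -⟩ := card_le_of_finiteOfDegLE hL q n hq
  haveI := hq.1
  haveI : IsDomain K := hK.isDomain
  haveI : IsDomain L := hL.isDomain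
  haveI : IsIntegral (Spec K) := inferInstance
  haveI hsK : Subsingleton (PrimeSpectrum K) := by
    letI := hK.toField
    infer_instance
  haveI : Subsingleton ↥(Spec K) := hsK
  haveI hnL : Nonempty (PrimeSpectrum L) := inferInstance
  haveI : Surjective (Spec.map φ) := ⟨fun x => by
    obtain ⟨y⟩ : Nonempty ↥(Spec L) := hnL
    exact ⟨y, Subsingleton.elim _ _⟩⟩
  haveI : UniversallyOpen (Spec.map φ) := inferInstance
  haveI : Surjective g' := MorphismProperty.of_isPullback h.flip ‹Surjective (Spec.map φ)›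
  haveI : UniversallyOpen g' := MorphismProperty.of_isPullback h.flip ‹UniversallyOpen (Spec.map φ)›
  haveI : Finite T := Finite.of_surjective g' g'.surjective
  haveI : DiscreteTopology P := by
    haveI : DiscreteTopology ↥(Spec Γ(P, ⊤)) := by
      letI := hL.toField
      letI : Algebra L Γ(P, ⊤) := ((Scheme.ΓSpecIso L).inv ≫ q.appTop).hom.toAlgebra
      haveI : Module.Finite L Γ(P, ⊤) := hq.2.1
      haveI : IsArtinianRing Γ(P, ⊤) := IsArtinianRing.of_finite L _
      exact (inferInstance : DiscreteTopology (PrimeSpectrum Γ(P, ⊤)))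
    exact P.isoSpec.hom.homeomorph.symm.discreteTopology
  haveI : DiscreteTopology T := by
    rw [discreteTopology_iff_isOpen_singleton]
    intro t
    have : {t} = g' '' (g' ⁻¹' {t}) := by
      rw [Set.image_preimage_eq _ g'.surjective]
    rw [this]
    exact g'.isOpenMap _ (isOpen_discrete _)
  infer_instance

end Groth.Agent.Helper11.BddFibLib
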