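import Groth.Agent.Lib.Helper11.BddFib6

set_option autoImplicit false
universe u
open CategoryTheory CategoryTheory.Limits AlgebraicGeometry

namespace Groth.Agent.Helper11.BddFibLib

theorem discreteTopology_of_finiteOfDegLE {L : CommRingCat.{u}} (hL : IsField L) {P : Scheme.{u}}
    (q : P ⟶ Spec L) (n : ℕ) (hq : BddFib.FiniteOfDegLE L q n) : DiscreteTopology P := by
  haveI := hq.1
  haveI : DiscreteTopology ↥(Spec Γ(P, ⊤)) := by
    letI := hL.toField
    letI : Algebra L Γ(P, ⊤) := ((Scheme.ΓSpecIso L).inv ≫ q.appTop).hom.toAlgebra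
    haveI : Module.Finite L Γ(P, ⊤) := hq.2.1
    haveI : IsArtinianRing Γ(P, ⊤) := IsArtinianRing.of_finite L _
    exact (inferInstance : DiscreteTopology (PrimeSpectrum Γ(P, ⊤)))
  exact P.isoSpec.hom.homeomorph.symm.discreteTopology

theorem finiteOfDegLE_of_flat_surjective {K : CommRingCat.{u}} (hK : IsField K) {T T' : Scheme.{u}}
    (p : T ⟶ Spec K) (p' : T' ⟶ Spec K) (v : T' ⟶ T) [Flat v] [Surjective v] (hv : v ≫ p = p')
    (n : ℕ) (h' : BddFib.FiniteOfDegLE K p' n) : BddFib.FiniteOfDegLE K p n := by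
  obtain ⟨hfinT', -⟩ := card_le_of_finiteOfDegLE hK p' n h'
  haveI := h'.1
  haveI := discreteTopology_of_finiteOfDegLE hK p' n h'
  haveI : Finite T := Finite.of_surjective v v.surjective
  haveI : QuasiCompact v := ⟨fun U _ _ => (Set.toFinite _).isCompact⟩
  have hq : Topology.IsQuotientMap v := Flat.isQuotientMap_of_surjective v
  haveI : DiscreteTopology T := by
    rw [discreteTopology_iff_isOpen_singleton]
    intro t
    rw [← hq.isOpen_preimage]
    exact isOpen_discrete _
  haveI : IsAffine T := inferInstance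
  rw [finiteOfDegLE_iff] at h' ⊢
  refine ⟨inferInstance, ?_⟩
  obtain ⟨-, hfin, hrank⟩ := h'
  letI := hK.toField
  letI algT : Algebra K Γ(T, ⊤) := ((Scheme.ΓSpecIso K).inv ≫ p.appTop).hom.toAlgebra
  letI algT' : Algebra K Γ(T', ⊤) := ((Scheme.ΓSpecIso K).inv ≫ p'.appTop).hom.toAlgebra
  haveI : Module.Finite K Γ(T', ⊤) := hfin
  have hinj : Function.Injective v.appTop.hom :=
    ((Flat.flat_and_surjective_iff_faithfullyFlat_of_isAffine v).1 ⟨inferInstance, inferInstance⟩).injective
  let ℓ : Γ(T, ⊤) →ₗ[K] Γ(T', ⊤) :=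
    { toFun := v.appTop.hom
      map_add' := map_add _
      map_smul' := fun c x => by
        show v.appTop.hom (((Scheme.ΓSpecIso K).inv ≫ p.appTop).hom c * x) =
          ((Scheme.ΓSpecIso K).inv ≫ p'.appTop).hom c * v.appTop.hom x
        rw [map_mul, ← hv, Scheme.Hom.comp_appTop]
        rfl }
  have hℓ : Function.Injective ℓ := hinj
  haveI : Module.Finite K Γ(T, ⊤) := Module.Finite.of_injective ℓ hℓ
  refine ⟨inferInstance, ?_⟩
  exact (LinearMap.finrank_le_finrank_of_injective hℓ).trans hrank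

end Groth.Agent.Helper11.BddFibLib
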