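import Groth.Agent.Lib.Helper11.CechTors
import Groth.Agent.Lib.Helper5.KFlat11
import Groth.Prelude.Def_DTen
import Groth.Agent.Lib.Helper11.DCCompl

/-!
# Termwise localisation and tensor products of complexes (helper11)

* `CechComp.bijOn_loc`: `f` acts bijectively on `M_f`.
* `CechComp.bijective_whiskerRight_locUnit`: `M ⊗ N ⟶ M_f ⊗ N` is bijective when `f` acts
  bijectively on `N`.
* `CechComp.isIso_whiskerRight_locCxUnit`, `CechComp.isIso_whiskerLeft_locCxUnit`: the same for
  complexes.
-/

set_option autoImplicit false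
set_option linter.unusedSectionVars false
set_option linter.unusedVariables false
set_option linter.style.haveILetI false

open CategoryTheory CategoryTheory.Limits MonoidalCategory
open scoped TensorProduct

universe u

namespace Groth.Agent.Helper11.CechComp

open DerCA Groth.Agent.Helper26.CechAcyc2 Groth.Agent.Helper5.KF

variable {A : Type u} [CommRing A]

/-- `f` acts bijectively on the localisation at the powers of `f` -/
theorem bijOn_loc (f : A) (M : ModuleCat.{u} A) :
    BijOn f ((locFunctor (Submonoid.powers f)).obj M) := by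
  have hu := IsLocalizedModule.map_units
    (LocalizedModule.mkLinearMap (Submonoid.powers f) M) ⟨f, Submonoid.mem_powers f⟩
  have hb := (Module.End.isUnit_iff _).mp hu
  exact hb

/-- `f` acts bijectively on `M ⊗ N` if it does on `N` -/
theorem bijOn_tensor (f : A) (M N : ModuleCat.{u} A) (h : BijOn f N) :
    BijOn f (M ⊗ N : ModuleCat.{u} A) := by
  let e : N ≃ₗ[A] N := LinearEquiv.ofBijective (f • (LinearMap.id : N →ₗ[A] N)) h
  have h1 : (fun x : (M ⊗ N : ModuleCat.{u} A) => f • x) =
      ⇑(TensorProduct.congr (LinearEquiv.refl A M) e) := by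
    funext x
    induction x using TensorProduct.induction_on with
    | zero => simp
    | tmul m n =>
      change f • (m ⊗ₜ[A] n) = m ⊗ₜ[A] (f • n)
      rw [TensorProduct.tmul_smul]
    | add x y hx hy =>
      rw [smul_add, hx, hy, map_add]
  unfold BijOn
  rw [h1]
  exact (TensorProduct.congr (LinearEquiv.refl A M) e).bijective

/-- `M ⊗ N ⟶ M_f ⊗ N` is bijective when `f` acts bijectively on `N` -/
theorem bijective_whiskerRight_locUnit (f : A) (M N : ModuleCat.{u} A) (h : BijOn f N) :
    Function.Bijective ((locUnit (Submonoid.powers f)).app M ▷ N) := by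
  let g := LocalizedModule.mkLinearMap (Submonoid.powers f) M
  haveI hloc : IsLocalizedModule (Submonoid.powers f)
      (TensorProduct.AlgebraTensorModule.rTensor A N g) :=
    inferInstance
  have hb : BijOn f (M ⊗ N : ModuleCat.{u} A) := bijOn_tensor f M N h
  have h1 := mkLinearMap_bijective hb
  have h2 := (IsLocalizedModule.iso (Submonoid.powers f)
    (TensorProduct.AlgebraTensorModule.rTensor A N g)).bijective
  have h3 : ⇑((locUnit (Submonoid.powers f)).app M ▷ N) =
      ⇑(IsLocalizedModule.iso (Submonoid.powers f)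
        (TensorProduct.AlgebraTensorModule.rTensor A N g)) ∘
      ⇑(LocalizedModule.mkLinearMap (Submonoid.powers f) (M ⊗ N : ModuleCat.{u} A)) := by
    funext x
    change _ = (IsLocalizedModule.iso (Submonoid.powers f)
        (TensorProduct.AlgebraTensorModule.rTensor A N g))
      (LocalizedModule.mkLinearMap (Submonoid.powers f) (M ⊗ N : ModuleCat.{u} A) x)
    rw [LocalizedModule.mkLinearMap_apply, IsLocalizedModule.iso_mk_one]
    rfl
  rw [h3]
  exact h2.comp h1

/-- `Z ⊗ S ⟶ Z_f ⊗ S` is an isomorphism when `f` acts bijectively on the terms of `S` -/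
theorem isIso_whiskerRight_locCxUnit (f : A) (Z S : DRing.Cx A) (h : ∀ q, BijOn f (S.X q)) :
    IsIso (locCxUnit (Submonoid.powers f) Z ▷ S) := by
  haveI : ∀ n, IsIso ((locCxUnit (Submonoid.powers f) Z ▷ S).f n) := fun n => by
    have hb : ∀ p q : ℤ, Function.Bijective ((locCxUnit (Submonoid.powers f) Z).f p ▷ S.X q) :=
      fun p q => bijective_whiskerRight_locUnit f (Z.X p) (S.X q) (h q)
    have hi := injective_whiskerRight_f S (locCxUnit (Submonoid.powers f) Z)
      (fun p q => (hb p q).1) n
    have hs := surjective_whiskerRight_f S (locCxUnit (Submonoid.powers f) Z)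
      (fun p q => (hb p q).2) n
    rw [ConcreteCategory.isIso_iff_bijective]
    exact ⟨hi, hs⟩
  exact HomologicalComplex.Hom.isIso_of_components _

/-- `S ⊗ Z ⟶ S ⊗ Z_f` is an isomorphism when `f` acts bijectively on the terms of `S` -/
theorem isIso_whiskerLeft_locCxUnit (f : A) (S Z : DRing.Cx A) (h : ∀ p, BijOn f (S.X p)) :
    IsIso (S ◁ locCxUnit (Submonoid.powers f) Z) := by
  haveI := isIso_whiskerRight_locCxUnit f Z S h
  have hb := DTen.braidCx_naturality (𝟙 S) (locCxUnit (Submonoid.powers f) Z)
  rw [MonoidalCategory.id_tensorHom, MonoidalCategory.tensorHom_id] at hb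
  have h2 : S ◁ locCxUnit (Submonoid.powers f) Z =
      (DTen.braidCx S Z).hom ≫ (locCxUnit (Submonoid.powers f) Z ▷ S) ≫
        (DTen.braidCx S ((locCx (Submonoid.powers f)).obj Z)).inv := by
    rw [← Category.assoc, ← hb, Category.assoc, Iso.hom_inv_id, Category.comp_id]
  rw [h2]
  infer_instance

instance linear_locFunctor (T : Submonoid A) : (locFunctor T).Linear A where
  map_smul {M N} g a := by
    ext x
    change (IsLocalizedModule.map T (LocalizedModule.mkLinearMap T M)
      (LocalizedModule.mkLinearMap T N)) (a • g.hom) x = _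
    rw [map_smul]
    rfl

/-- the localisation map `S ⟶ S_f` is a quasi-isomorphism when `f` acts invertibly on the
cohomology of `S` -/
theorem quasiIso_locCxUnit (f : A) (S : DRing.Cx A) (h : QuasiIso (f • 𝟙 S)) :
    QuasiIso (locCxUnit (Submonoid.powers f) S) := by
  rw [quasiIso_iff]
  intro n
  rw [quasiIsoAt_iff_isIso_homologyMap]
  obtain ⟨a, b, hab⟩ := Groth.Agent.Helper11.CechTors.homologyMap_locCxUnit (Submonoid.powers f) S n
  rw [hab]
  have hbij : BijOn f (S.homology n) := by
    have h1 : IsIso ((HomologicalComplex.homologyFunctor (ModuleCat.{u} A) (ComplexShape.up ℤ) n).map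
        (f • 𝟙 S)) := by
      change IsIso (HomologicalComplex.homologyMap (f • 𝟙 S) n)
      infer_instance
    rw [Functor.map_smul, CategoryTheory.Functor.map_id] at h1
    exact (ConcreteCategory.isIso_iff_bijective _).mp h1
  haveI : IsIso ((locUnit (Submonoid.powers f)).app (S.homology n)) := by
    rw [ConcreteCategory.isIso_iff_bijective]
    exact mkLinearMap_bijective hbij
  infer_instance

/-- termwise localisation preserves the property that `g` acts invertibly on cohomology -/
theorem quasiIso_smul_locCx (T : Submonoid A) (g : A) (S : DRing.Cx A)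
    (h : QuasiIso (g • 𝟙 S)) : QuasiIso (g • 𝟙 ((locCx T).obj S)) := by
  have h1 : g • 𝟙 ((locCx T).obj S) = (locCx T).map (g • 𝟙 S) := by
    rw [Functor.map_smul, CategoryTheory.Functor.map_id]
  rw [h1]
  infer_instance

/-- the termwise localisation of a K-flat complex is K-flat -/
theorem kfl_locCx (f : A) (S : DRing.Cx A) (hS : KFl S) :
    KFl ((locCx (Submonoid.powers f)).obj S) := by
  intro L hL i
  haveI i1 : IsIso (locCxUnit (Submonoid.powers f) L ▷ (locCx (Submonoid.powers f)).obj S) :=
    isIso_whiskerRight_locCxUnit f L _ (fun q => bijOn_loc f (S.X q))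
  haveI i2 : IsIso ((locCx (Submonoid.powers f)).obj L ◁ locCxUnit (Submonoid.powers f) S) :=
    isIso_whiskerLeft_locCxUnit f _ S (fun p => bijOn_loc f (L.X p))
  have hLf : ∀ i, IsZero (((locCx (Submonoid.powers f)).obj L).homology i) := fun i =>
    (HomologicalComplex.exactAt_iff_isZero_homology _ _).mp
      (locCx_exactAt _ L (fun n => (HomologicalComplex.exactAt_iff_isZero_homology _ _).mpr (hL n)) i)
  have h0 := hS _ hLf i
  exact h0.of_iso ((HomologicalComplex.homologyFunctor _ _ i).mapIso
    (asIso (locCxUnit (Submonoid.powers f) L ▷ (locCx (Submonoid.powers f)).obj S) ≪≫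
      (asIso ((locCx (Submonoid.powers f)).obj L ◁ locCxUnit (Submonoid.powers f) S)).symm))

end Groth.Agent.Helper11.CechComp
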