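import Groth.Agent.Lib.Helper11.CechComp1
import Groth.Agent.Lib.Helper3.KF1
import Groth.Agent.Lib.Helper3.DS1

/-!
# Tensor products with the extended Čech complex are acyclic on local complexes (helper11)

* `CechComp.acyclic_tensor_mappingCone`: `S ⊗ cone(u)` is acyclic when `S ◁ u` is a
  quasi-isomorphism (`S` K-flat).
* `CechComp.acyclic_tensor_extCech`: `S ⊗ Č(f₁, …, f_r)` is acyclic when `S` is K-flat and some
  `f_i` acts invertibly on the cohomology of `S`.
-/

set_option autoImplicit false
set_option linter.unusedSectionVars false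
set_option linter.unusedVariables false
set_option linter.style.haveILetI false

open CategoryTheory CategoryTheory.Limits MonoidalCategory CochainComplex
open scoped TensorProduct

universe u

attribute [local instance] HasDerivedCategory.standard

namespace Groth.Agent.Helper11.CechComp

open DerCA Groth.Agent.Helper26.CechAcyc2 Groth.Agent.Helper5.KF Groth.Agent.Helper3.DS

variable {A : Type u} [CommRing A]

theorem acyclic_tensor_left_of_kfl (S L : DRing.Cx A) (hS : KFl S) (hL : L.Acyclic) :
    (S ⊗ L).Acyclic := by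
  intro i
  have h0 : IsZero ((L ⊗ S).homology i) :=
    hS L (fun j => (HomologicalComplex.exactAt_iff_isZero_homology _ _).mp (hL j)) i
  rw [HomologicalComplex.exactAt_iff_isZero_homology]
  exact h0.of_iso ((HomologicalComplex.homologyFunctor _ _ i).mapIso (DTen.braidCx S L))

theorem acyclic_tensor_shift (S X : DRing.Cx A) (n : ℤ) (h : (S ⊗ X).Acyclic) :
    (S ⊗ X⟦n⟧).Acyclic := by
  intro i
  rw [HomologicalComplex.exactAt_iff_isZero_homology]
  have h1 : ∀ i, IsZero (((S ⊗ X)⟦n⟧).homology i) :=
    (isZero_homology_shift_iff (S ⊗ X) n).mpr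
      (fun j => (HomologicalComplex.exactAt_iff_isZero_homology _ _).mp (h j))
  exact (h1 i).of_iso ((HomologicalComplex.homologyFunctor _ _ i).mapIso (tensorShiftIso S X n))

theorem acyclic_of_iso {X X' : DRing.Cx A} (e : X ≅ X') (h : X.Acyclic) : X'.Acyclic := by
  intro i
  rw [HomologicalComplex.exactAt_iff_isZero_homology]
  exact ((HomologicalComplex.exactAt_iff_isZero_homology _ _).mp (h i)).of_iso
    ((HomologicalComplex.homologyFunctor _ _ i).mapIso e.symm)

theorem quasiIso_whiskerRight_of_kfl {P Q : DRing.Cx A} (hP : KFl P) (hQ : KFl Q) (α : P ⟶ Q)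
    (hα : QuasiIso α) (L : DRing.Cx A) : QuasiIso (α ▷ L) := by
  haveI := KFl.quasiIso_whiskerLeft hP hQ α hα L
  have hb := DTen.braidCx_naturality α (𝟙 L)
  rw [MonoidalCategory.tensorHom_id, MonoidalCategory.id_tensorHom] at hb
  have h2 : α ▷ L = (DTen.braidCx P L).hom ≫ (L ◁ α) ≫ (DTen.braidCx Q L).inv := by
    rw [← Category.assoc, ← hb, Category.assoc, Iso.hom_inv_id, Category.comp_id]
  rw [h2]
  infer_instance

/-- `S ⊗ cone(u)` is acyclic when `S ◁ u` is a quasi-isomorphism, for `S` K-flat -/
theorem acyclic_tensor_mappingCone (S : DRing.Cx A) (hS : KFl S) {X Y : DRing.Cx A} (u : X ⟶ Y)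
    (hu : QuasiIso (S ◁ u)) : (S ⊗ mappingCone u).Acyclic := by
  let φ : scWhiskerLeft S (Groth.Agent.Helper3.KF.coneSC (𝟙 X)) ⟶
      scWhiskerLeft S (Groth.Agent.Helper3.KF.coneSC u) :=
    { τ₁ := S ◁ (Groth.Agent.Helper3.KF.coneCmp u).τ₁
      τ₂ := S ◁ (Groth.Agent.Helper3.KF.coneCmp u).τ₂
      τ₃ := S ◁ (Groth.Agent.Helper3.KF.coneCmp u).τ₃
      comm₁₂ := by
        dsimp only [scWhiskerLeft]
        rw [← MonoidalCategory.whiskerLeft_comp, ← MonoidalCategory.whiskerLeft_comp,
          (Groth.Agent.Helper3.KF.coneCmp u).comm₁₂]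
      comm₂₃ := by
        dsimp only [scWhiskerLeft]
        rw [← MonoidalCategory.whiskerLeft_comp, ← MonoidalCategory.whiskerLeft_comp,
          (Groth.Agent.Helper3.KF.coneCmp u).comm₂₃] }
  have h1 : QuasiIso φ.τ₁ := hu
  have h3 : QuasiIso φ.τ₃ := by
    have : φ.τ₃ = 𝟙 _ := by
      change S ◁ ((𝟙 X)⟦(1 : ℤ)⟧') = 𝟙 _
      rw [CategoryTheory.Functor.map_id, MonoidalCategory.whiskerLeft_id]
    rw [this]
    infer_instance
  have h2 : QuasiIso φ.τ₂ := quasiIso_τ₂ φ
    ((Groth.Agent.Helper3.KF.dsplit_coneSC (𝟙 X)).whiskerLeft S).shortExact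
    ((Groth.Agent.Helper3.KF.dsplit_coneSC u).whiskerLeft S).shortExact h1 h3
  have hsrc : (S ⊗ mappingCone (𝟙 X)).Acyclic :=
    acyclic_tensor_left_of_kfl S _ hS (Groth.Agent.Helper3.KF.acyclic_mappingCone (𝟙 X))
  intro i
  exact (exactAt_iff_of_quasiIsoAt φ.τ₂ i).mp (hsrc i)

/-- `S ⊗ Č(f₁, …, f_r)` is acyclic when `S` is K-flat and some `f_i` acts invertibly on the
cohomology of `S` -/
theorem acyclic_tensor_extCech (fs : List A) : ∀ (g : A), g ∈ fs → ∀ (S : DRing.Cx A), KFl S →
    QuasiIso (g • 𝟙 S) → (S ⊗ extCech (ModuleCat.of A A) fs).Acyclic := by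
  induction fs with
  | nil =>
    intro g hg
    simp at hg
  | cons f fs ih =>
    intro g hg S hS hgS
    change (S ⊗ (mappingCone (locCxUnit (Submonoid.powers f)
      (extCech (ModuleCat.of A A) fs)))⟦(-1 : ℤ)⟧).Acyclic
    apply acyclic_tensor_shift
    haveI i1 : IsIso (locCxUnit (Submonoid.powers f) S ▷
        (locCx (Submonoid.powers f)).obj (extCech (ModuleCat.of A A) fs)) :=
      isIso_whiskerRight_locCxUnit f S _
        (fun q => bijOn_loc f ((extCech (ModuleCat.of A A) fs).X q))
    haveI i2 : IsIso ((locCx (Submonoid.powers f)).obj S ◁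
        locCxUnit (Submonoid.powers f) (extCech (ModuleCat.of A A) fs)) :=
      isIso_whiskerLeft_locCxUnit f _ (extCech (ModuleCat.of A A) fs)
        (fun p => bijOn_loc f (S.X p))
    have hSf : KFl ((locCx (Submonoid.powers f)).obj S) := kfl_locCx f S hS
    by_cases hgf : g = f
    · subst hgf
      apply acyclic_tensor_mappingCone S hS
      have hq : QuasiIso (locCxUnit (Submonoid.powers g) S) := quasiIso_locCxUnit g S hgS
      haveI hq2 : QuasiIso (locCxUnit (Submonoid.powers g) S ▷ extCech (ModuleCat.of A A) fs) :=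
        quasiIso_whiskerRight_of_kfl hS hSf _ hq _
      have hsq := MonoidalCategory.whisker_exchange (locCxUnit (Submonoid.powers g) S)
        (locCxUnit (Submonoid.powers g) (extCech (ModuleCat.of A A) fs))
      have h2 : S ◁ locCxUnit (Submonoid.powers g) (extCech (ModuleCat.of A A) fs) =
          (locCxUnit (Submonoid.powers g) S ▷ extCech (ModuleCat.of A A) fs) ≫
            ((locCx (Submonoid.powers g)).obj S ◁
              locCxUnit (Submonoid.powers g) (extCech (ModuleCat.of A A) fs)) ≫
            inv (locCxUnit (Submonoid.powers g) S ▷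
              (locCx (Submonoid.powers g)).obj (extCech (ModuleCat.of A A) fs)) := by
        rw [← Category.assoc, ← hsq, Category.assoc, IsIso.hom_inv_id, Category.comp_id]
      rw [h2]
      infer_instance
    · have hg' : g ∈ fs := (List.mem_cons.mp hg).resolve_left hgf
      have hSE := ((Groth.Agent.Helper3.KF.dsplit_coneSC (locCxUnit (Submonoid.powers f)
        (extCech (ModuleCat.of A A) fs))).whiskerLeft S).shortExact
      refine hSE.acyclic_X₂ ?_ ?_
      · have hgSf : QuasiIso (g • 𝟙 ((locCx (Submonoid.powers f)).obj S)) :=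
          quasiIso_smul_locCx _ g S hgS
        have h0 := ih g hg' _ hSf hgSf
        exact acyclic_of_iso (asIso ((locCx (Submonoid.powers f)).obj S ◁
            locCxUnit (Submonoid.powers f) (extCech (ModuleCat.of A A) fs)) ≪≫
          (asIso (locCxUnit (Submonoid.powers f) S ▷
            (locCx (Submonoid.powers f)).obj (extCech (ModuleCat.of A A) fs))).symm) h0
      · exact acyclic_tensor_shift S _ 1 (ih g hg' S hS hgS)

end Groth.Agent.Helper11.CechComp
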