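import Groth.Agent.Lib.Helper11.CechComp2
import Groth.Agent.Lib.Helper11.LTenComp1
import Groth.Agent.Lib.Helper3.TH5

/-!
# Derived completion as `RHom(Č, -)` for the extended Čech complex (helper11)

* `CechComp.rOrth_Q_homCx_of_acyclic`: `Hom•(K, J)` is right orthogonal to the `f`-local objects
  when `S ⊗ K` is acyclic for all `f`-local K-flat `S`.
* `CechComp.exists_completion_extCech`: `Q J ⟶ Q Hom•(Č, J)` has the universal property of the
  derived completion, for `J` K-injective.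
* `CechComp.S7097_statement`.
-/

set_option autoImplicit false
set_option linter.unusedSectionVars false
set_option linter.unusedVariables false
set_option linter.style.haveILetI false

open CategoryTheory CategoryTheory.Limits MonoidalCategory CochainComplex HomComplex
  Pretriangulated DerivedCategory
open scoped TensorProduct

universe u

attribute [local instance] HasDerivedCategory.standard

namespace Groth.Agent.Helper11.CechComp

open DerCA Groth.Agent.Helper26.CechAcyc2 Groth.Agent.Helper5.KF Groth.Agent.Helper3.DS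
  Groth.Agent.Helper3.HT Groth.Agent.Helper3.KF Groth.Agent.Helper11.RHomLoc
  Groth.Agent.Helper11.DCP Groth.Agent.Helper11.GM Groth.Agent.Helper11.RGam
  Groth.Agent.Helper11.RHomTri Groth.Agent.Helper11.LTenComp Groth.Agent.Helper3.TH
  Groth.Agent.Helper8.BiDual Groth.Agent.Helper11.TA

variable {A : Type u} [CommRing A]

/-- the shift of a degreewise split sequence is degreewise split -/
noncomputable def dsplitShift {S₀ : ShortComplex (DRing.Cx A)} (h : DSplit S₀) (n : ℤ) :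
    DSplit (S₀.map (CategoryTheory.shiftFunctor (DRing.Cx A) n)) where
  r i := h.r (i + n)
  s i := h.s (i + n)
  f_r i := h.f_r (i + n)
  s_g i := h.s_g (i + n)
  id i := h.id (i + n)

theorem isIso_smul_id_of_bijOn (f : A) (Y : DRing.Cx A) (h : ∀ i, BijOn f (Y.X i)) :
    IsIso (f • 𝟙 Y) := by
  haveI : ∀ i, IsIso ((f • 𝟙 Y).f i) := fun i => by
    rw [ConcreteCategory.isIso_iff_bijective]
    exact h i
  exact HomologicalComplex.Hom.isIso_of_components _

/-- `Hom•(X, J)` is `f`-local when `f` acts invertibly on `X` -/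
theorem fLocal_Q_homCx_of_isIso (X J : DRing.Cx A) (f : A) (h : IsIso (f • 𝟙 X)) :
    FLocal f (Q.obj (DRing.homCx X J)) := by
  unfold FLocal
  rw [smul_id_Q]
  have h1 : f • 𝟙 (DRing.homCx X J) = homCxPre (f • 𝟙 X) J := by
    rw [homCxPre_smul, homCxPre_id]
  rw [h1]
  haveI := isIso_homCxPre (f • 𝟙 X) J
  infer_instance

/-- `Hom•(K, J)` is right orthogonal to the `f`-local objects when `S ⊗ K` is acyclic for all
`f`-local K-flat complexes `S` -/
theorem rOrth_Q_homCx_of_acyclic (K J : DRing.Cx A) [J.IsKInjective] (f : A)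
    (h : ∀ S : DRing.Cx A, KFl S → QuasiIso (f • 𝟙 S) → (S ⊗ K).Acyclic) :
    ROrth f (Q.obj (DRing.homCx K J)) := by
  intro X hX
  obtain ⟨S, p, hSk, _, hSf, hp⟩ :=
    Groth.Agent.Helper11.KPF.exists_kprojective_kflat_resolution (Q.objPreimage X)
  haveI := hSk
  haveI : IsIso (Q.map p) := by
    rw [isIso_Q_map_iff_quasiIso]
    exact hp
  let eX : Q.obj S ≅ X := asIso (Q.map p) ≪≫ Q.objObjPreimageIso X
  have hloc : FLocal f (Q.obj S) := hX.of_iso eX.symm
  have hq : QuasiIso (f • 𝟙 S) := by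
    unfold FLocal at hloc
    rw [smul_id_Q] at hloc
    exact (isIso_Q_map_iff_quasiIso _ _).mp hloc
  have hz : IsZero (Q.obj (S ⊗ K)) := isZero_Q_of_exactAt _ (h S hSf hq)
  have key : ∀ g : Q.obj S ⟶ Q.obj (DRing.homCx K J), g = 0 := by
    intro g
    obtain ⟨ψ, rfl⟩ := Groth.Agent.Helper11.DC.exists_lift_of_isKProjective S (DRing.homCx K J) g
    have h1 : Q.map (uncH ψ) = Q.map (0 : S ⊗ K ⟶ J) := hz.eq_of_src _ _
    obtain ⟨H⟩ := homotopy_of_Q_map_eq_of_isKInjective (S ⊗ K) J _ _ h1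
    have H' : Homotopy ψ 0 := (Homotopy.ofEq (curH_uncH ψ).symm).trans
      ((curHomotopy H).trans (Homotopy.ofEq (curH_zero S K J)))
    rw [DerivedCategory.Q_map_eq_of_homotopy (h := H'), Functor.map_zero]
  have hz' : ∀ g : X ⟶ Q.obj (DRing.homCx K J), g = 0 := fun g => by
    have h := key (eX.hom ≫ g)
    rw [← cancel_epi eX.hom, h, comp_zero]
  exact ⟨fun a b => by rw [hz' a, hz' b]⟩

/-- the universal map `Q J ⟶ Q Hom•(Č, J)` -/
theorem exists_unit_extCech (fs : List A) : ∀ (J : DRing.Cx A) [J.IsKInjective],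
    ∃ η : Q.obj J ⟶ Q.obj (DRing.homCx (extCech (ModuleCat.of A A) fs) J),
      ∀ E : Dual.D A, (∀ g ∈ fs, ROrth g E) → Function.Bijective
        (fun φ : Q.obj (DRing.homCx (extCech (ModuleCat.of A A) fs) J) ⟶ E => η ≫ φ) := by
  induction fs with
  | nil =>
    intro J _
    change ∃ η : Q.obj J ⟶ Q.obj (DRing.homCx (𝟙_ (DRing.Cx A)) J),
      ∀ E : Dual.D A, (∀ g ∈ ([] : List A), ROrth g E) → Function.Bijective
        (fun φ : Q.obj (DRing.homCx (𝟙_ (DRing.Cx A)) J) ⟶ E => η ≫ φ)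
    exact ⟨Q.map (unitIso J).inv, fun E _ => bijective_iso_comp _ E⟩
  | cons f fs ih =>
    intro J _
    obtain ⟨η₀, hη₀⟩ := ih J
    clear ih
    change ∃ η : Q.obj J ⟶ Q.obj (DRing.homCx ((mappingCone (locCxUnit (Submonoid.powers f)
        (extCech (ModuleCat.of A A) fs)))⟦(-1 : ℤ)⟧) J),
      ∀ E : Dual.D A, (∀ g ∈ f :: fs, ROrth g E) → Function.Bijective
        (fun φ : Q.obj (DRing.homCx ((mappingCone (locCxUnit (Submonoid.powers f)
          (extCech (ModuleCat.of A A) fs)))⟦(-1 : ℤ)⟧) J) ⟶ E => η ≫ φ)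
    generalize extCech (ModuleCat.of A A) fs = Č at η₀ hη₀ ⊢
    obtain ⟨S₀, hS₀, hX₂⟩ : ∃ (S₀ : ShortComplex (DRing.Cx A)) (_ : DSplit S₀),
        S₀ = (Groth.Agent.Helper3.KF.coneSC (locCxUnit (Submonoid.powers f) Č)).map
          (CategoryTheory.shiftFunctor (DRing.Cx A) (-1)) :=
      ⟨_, dsplitShift (dsplit_coneSC _) (-1), rfl⟩
    subst hX₂
    have hSE := (hS₀.homLeft J).shortExact
    have hTS := DerivedCategory.triangleOfSES_distinguished hSE
    have hW : FLocal f (Q.obj (DRing.homCx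
        (((locCx (Submonoid.powers f)).obj Č)⟦(-1 : ℤ)⟧) J)) :=
      fLocal_Q_homCx_of_isIso _ J f (isIso_smul_id_of_bijOn f _
        (fun i => bijOn_loc f (Č.X (i + (-1)))))
    let e₀ : (Č⟦(1 : ℤ)⟧)⟦(-1 : ℤ)⟧ ≅ Č :=
      (shiftFunctorCompIsoId (DRing.Cx A) (1 : ℤ) (-1) (by omega)).app _
    haveI := isIso_homCxPre e₀.hom J
    obtain ⟨θ, hθ, iθ⟩ : ∃ θ : Q.obj (DRing.homCx Č J) ⟶
        Q.obj (DRing.homCx ((Č⟦(1 : ℤ)⟧)⟦(-1 : ℤ)⟧) J),
        θ = Q.map (homCxPre e₀.hom J) ∧ IsIso θ := ⟨_, rfl, inferInstance⟩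
    obtain ⟨m, hm⟩ : ∃ m : Q.obj (DRing.homCx ((Č⟦(1 : ℤ)⟧)⟦(-1 : ℤ)⟧) J) ⟶
        Q.obj (DRing.homCx ((mappingCone (locCxUnit (Submonoid.powers f) Č))⟦(-1 : ℤ)⟧) J),
        m = Q.map (homCxPre ((Groth.Agent.Helper3.KF.coneδ
          (locCxUnit (Submonoid.powers f) Č))⟦(-1 : ℤ)⟧') J) := ⟨_, rfl⟩
    refine ⟨η₀ ≫ θ ≫ m, ?_⟩
    intro E hE
    have hb : Function.Bijective (fun ψ : Q.obj (DRing.homCx
        ((mappingCone (locCxUnit (Submonoid.powers f) Č))⟦(-1 : ℤ)⟧) J) ⟶ E => m ≫ ψ) := by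
      rw [hm]
      exact bijective_mor₁_comp_of_right _ hTS E (hE f List.mem_cons_self _ hW)
        (hE f List.mem_cons_self _ (hW.shift (-1)))
    have b0 := hη₀ E (fun g hg => hE g (List.mem_cons_of_mem f hg))
    have b1 := bijective_iso_comp θ E
    have hfun : (fun φ : Q.obj (DRing.homCx
        ((mappingCone (locCxUnit (Submonoid.powers f) Č))⟦(-1 : ℤ)⟧) J) ⟶ E =>
        (η₀ ≫ θ ≫ m) ≫ φ) =
        (fun φ => η₀ ≫ φ) ∘ (fun φ => θ ≫ φ) ∘ (fun ψ => m ≫ ψ) := by
      funext φ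
      simp only [Function.comp, Category.assoc]
    rw [hfun]
    exact b0.comp (b1.comp hb)

/-- statement S7097 -/
theorem S7097_statement (fs : List A) (I : Ideal A)
    (hI : Ideal.span {x : A | x ∈ fs} = I) [DRing.HasDerivedCompletion I]
    [DRing.HasRHomCx (extCech (ModuleCat.of A A) fs)] (K : Dual.D A) :
    Nonempty (((DRing.derivedCompletion I).obj K).obj ≅
      (DRing.RHomCx (extCech (ModuleCat.of A A) fs)).obj K) := by
  obtain ⟨J, e, hJ, _⟩ := exists_kInj_iso K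
  haveI := hJ
  obtain ⟨η, hu⟩ := exists_unit_extCech fs J
  have hc : ∀ g ∈ fs, ROrth g (Q.obj (DRing.homCx (extCech (ModuleCat.of A A) fs) J)) :=
    fun g hg => rOrth_Q_homCx_of_acyclic _ J g
      (fun S hS hq => acyclic_tensor_extCech fs g hg S hS hq)
  have hcK' : DRing.IsDerivedComplete I (Q.obj (DRing.homCx (extCech (ModuleCat.of A A) fs) J)) :=
    (isDerivedComplete_iff_list fs I hI _).mpr hc
  have huK' : ∀ E : Dual.D A, DRing.IsDerivedComplete I E → Function.Bijective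
      (fun φ : Q.obj (DRing.homCx (extCech (ModuleCat.of A A) fs) J) ⟶ E =>
        (e.hom ≫ η) ≫ φ) := by
    intro E hE
    have b0 := hu E ((isDerivedComplete_iff_list fs I hI E).mp hE)
    have b1 := bijective_iso_comp e.hom E
    have hfun : (fun φ : Q.obj (DRing.homCx (extCech (ModuleCat.of A A) fs) J) ⟶ E =>
        (e.hom ≫ η) ≫ φ) = (fun φ => e.hom ≫ φ) ∘ (fun φ => η ≫ φ) := by
      funext φ
      simp only [Function.comp, Category.assoc]
    rw [hfun]
    exact b1.comp b0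
  obtain ⟨i, _⟩ := exists_iso_completion I K _ (e.hom ≫ η) hcK' huK'
  exact ⟨i ≪≫ (RHomCxIsoInj (extCech (ModuleCat.of A A) fs) J).symm ≪≫
    (DRing.RHomCx (extCech (ModuleCat.of A A) fs)).mapIso e.symm⟩

end Groth.Agent.Helper11.CechComp
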