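import Groth.Agent.Lib.Helper11.CechG2

/-!
# The universal map `Q (X ⊗ Č) ⟶ Q X` under a triangulated functor (helper11)

For a triangulated functor `F : D(R) ⥤ D(S)` carrying `p.1`-local objects to `p.2`-local objects,
`p` running through a list of pairs, the image under `F` of `Q (X ⊗ Č(p.1 …)) ⟶ Q X` is universal
among the maps from objects left orthogonal to the `p.2`-local objects.
-/

set_option autoImplicit false
set_option linter.unusedSectionVars false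
set_option linter.unusedVariables false
set_option linter.style.haveILetI false

open CategoryTheory CategoryTheory.Limits MonoidalCategory CochainComplex HomComplex
  Pretriangulated DerivedCategory
open scoped TensorProduct

universe u

attribute [local instance] HasDerivedCategory.standard

namespace Groth.Agent.Helper11.CechF

open DerCA Groth.Agent.Helper26.CechAcyc2 Groth.Agent.Helper5.KF Groth.Agent.Helper3.DS
  Groth.Agent.Helper3.HT Groth.Agent.Helper3.KF Groth.Agent.Helper11.RHomLoc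
  Groth.Agent.Helper11.DCP Groth.Agent.Helper11.GM Groth.Agent.Helper11.RGam
  Groth.Agent.Helper11.RHomTri Groth.Agent.Helper11.LTenComp Groth.Agent.Helper3.TH
  Groth.Agent.Helper8.BiDual Groth.Agent.Helper11.TA Groth.Agent.Helper11.CechComp
  Groth.Agent.Helper11.CechG

variable {R S : Type u} [CommRing R] [CommRing S]

/-- the universal map `F (Q (X ⊗ Č)) ⟶ F (Q X)` -/
theorem exists_counit_extCech_functor (F : Dual.D R ⥤ Dual.D S) [F.CommShift ℤ]
    [F.IsTriangulated] (ps : List (R × S))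
    (hF : ∀ p ∈ ps, ∀ W : Dual.D R, FLocal p.1 W → FLocal p.2 (F.obj W)) :
    ∀ (X : DRing.Cx R),
    ∃ ε : Q.obj (X ⊗ extCech (ModuleCat.of R R) (ps.map Prod.fst)) ⟶ Q.obj X,
      ∀ L : Dual.D S, (∀ p ∈ ps, LOrth p.2 L) → Function.Bijective
        (fun φ : L ⟶ F.obj (Q.obj (X ⊗ extCech (ModuleCat.of R R) (ps.map Prod.fst))) =>
          φ ≫ F.map ε) := by
  induction ps with
  | nil =>
    intro X
    change ∃ ε : Q.obj (X ⊗ 𝟙_ (DRing.Cx R)) ⟶ Q.obj X,
      ∀ L : Dual.D S, (∀ p ∈ ([] : List (R × S)), LOrth p.2 L) → Function.Bijective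
        (fun φ : L ⟶ F.obj (Q.obj (X ⊗ 𝟙_ (DRing.Cx R))) => φ ≫ F.map ε)
    exact ⟨Q.map (ρ_ X).hom, fun L _ => bijective_comp_iso _ L⟩
  | cons p ps ih =>
    intro X
    obtain ⟨ε₀, hε₀⟩ := ih (fun q hq => hF q (List.mem_cons_of_mem p hq)) X
    clear ih
    change ∃ ε : Q.obj (X ⊗ (mappingCone (locCxUnit (Submonoid.powers p.1)
        (extCech (ModuleCat.of R R) (ps.map Prod.fst))))⟦(-1 : ℤ)⟧) ⟶ Q.obj X,
      ∀ L : Dual.D S, (∀ q ∈ p :: ps, LOrth q.2 L) → Function.Bijective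
        (fun φ : L ⟶ F.obj (Q.obj (X ⊗ (mappingCone (locCxUnit (Submonoid.powers p.1)
          (extCech (ModuleCat.of R R) (ps.map Prod.fst))))⟦(-1 : ℤ)⟧)) => φ ≫ F.map ε)
    generalize extCech (ModuleCat.of R R) (ps.map Prod.fst) = Č at ε₀ hε₀ ⊢
    obtain ⟨S₀, hS₀, hX₂⟩ : ∃ (S₀ : ShortComplex (DRing.Cx R)) (_ : DSplit S₀),
        S₀ = (Groth.Agent.Helper3.KF.coneSC (locCxUnit (Submonoid.powers p.1) Č)).map
          (CategoryTheory.shiftFunctor (DRing.Cx R) (-1)) :=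
      ⟨_, dsplitShift (dsplit_coneSC _) (-1), rfl⟩
    subst hX₂
    have hSE := (hS₀.whiskerLeft X).shortExact
    have hTS := DerivedCategory.triangleOfSES_distinguished hSE
    have hW : FLocal p.1 (Q.obj (X ⊗ (((locCx (Submonoid.powers p.1)).obj Č)⟦(-1 : ℤ)⟧))) :=
      fLocal_Q_tensor_of_isIso X _ p.1 (isIso_smul_id_of_bijOn p.1 _
        (fun i => bijOn_loc p.1 (Č.X (i + (-1)))))
    have hW' := hF p List.mem_cons_self _ hW
    let e₀ : (Č⟦(1 : ℤ)⟧)⟦(-1 : ℤ)⟧ ≅ Č :=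
      (shiftFunctorCompIsoId (DRing.Cx R) (1 : ℤ) (-1) (by omega)).app _
    obtain ⟨θ, hθ, iθ⟩ : ∃ θ : Q.obj (X ⊗ (Č⟦(1 : ℤ)⟧)⟦(-1 : ℤ)⟧) ⟶ Q.obj (X ⊗ Č),
        θ = Q.map (X ◁ e₀.hom) ∧ IsIso θ := ⟨_, rfl, inferInstance⟩
    obtain ⟨m, hm⟩ : ∃ m : Q.obj (X ⊗ (mappingCone (locCxUnit (Submonoid.powers p.1) Č))⟦(-1 : ℤ)⟧) ⟶
        Q.obj (X ⊗ (Č⟦(1 : ℤ)⟧)⟦(-1 : ℤ)⟧),
        m = Q.map (X ◁ ((Groth.Agent.Helper3.KF.coneδ
          (locCxUnit (Submonoid.powers p.1) Č))⟦(-1 : ℤ)⟧')) := ⟨_, rfl⟩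
    refine ⟨m ≫ θ ≫ ε₀, ?_⟩
    intro L hL
    have hTS' := F.map_distinguished _ hTS
    have hb : Function.Bijective (fun ψ : L ⟶ F.obj (Q.obj
        (X ⊗ (mappingCone (locCxUnit (Submonoid.powers p.1) Č))⟦(-1 : ℤ)⟧)) => ψ ≫ F.map m) := by
      rw [hm]
      exact bijective_comp_mor₂_of_left _ hTS' L (hL p List.mem_cons_self _ hW')
        (hL p List.mem_cons_self _ (hW'.shift 1))
    have b0 := hε₀ L (fun g hg => hL g (List.mem_cons_of_mem p hg))
    haveI : IsIso (F.map θ) := inferInstance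
    have b1 := bijective_comp_iso (F.map θ) L
    have hfun : (fun φ : L ⟶ F.obj (Q.obj
        (X ⊗ (mappingCone (locCxUnit (Submonoid.powers p.1) Č))⟦(-1 : ℤ)⟧)) =>
        φ ≫ F.map (m ≫ θ ≫ ε₀)) =
        (fun φ => φ ≫ F.map ε₀) ∘ (fun φ => φ ≫ F.map θ) ∘ (fun ψ => ψ ≫ F.map m) := by
      funext φ
      simp only [Function.comp, Category.assoc, Functor.map_comp]
    rw [hfun]
    exact b0.comp (b1.comp hb)

end Groth.Agent.Helper11.CechF
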