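import Groth.Agent.Lib.Helper11.DCSeq

/-!
The elements `f` for which a module satisfies the sequence criterion form a radical ideal.
-/

universe u

namespace Groth.Agent.Helper11.DC

variable {A : Type u} [CommRing A]

section

variable {N : Type u} [AddCommGroup N] [Module A N]

/-- If `N` is `g`-derived complete then `1 - g ρ` is bijective for every endomorphism `ρ`. -/
theorem bijective_one_sub_smul (g : A) (hN : Function.Bijective (Tf N g)) (ρ : N →ₗ[A] N) :
    Function.Bijective (LinearMap.id - g • ρ : N →ₗ[A] N) := by
  constructor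
  · rw [← LinearMap.ker_eq_bot, LinearMap.ker_eq_bot']
    intro y hy
    have hy' : y - g • ρ y = 0 := by simpa using hy
    have key : Tf N g (fun k => (ρ ^ k) y) = 0 := by
      funext k
      simp only [Tf, Pi.zero_apply]
      rw [pow_succ, Module.End.mul_apply, ← map_smul, ← map_sub, hy', map_zero]
    have := congrFun ((Tf_injective_iff g).mp hN.1 _ key) 0
    simpa using this
  · intro e
    obtain ⟨Y, hY⟩ := hN.2 (fun k => (ρ ^ k) e)
    have hshift : (fun k => Y (k + 1)) = fun k => ρ (Y k) := by
      apply hN.1
      funext k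
      have h1 := congrFun hY (k + 1)
      have h2 := congrFun hY k
      simp only [Tf] at h1 h2 ⊢
      rw [h1, ← map_smul, ← map_sub, h2, pow_succ', Module.End.mul_apply]
    refine ⟨Y 0, ?_⟩
    have h0 := congrFun hY 0
    have h1 := congrFun hshift 0
    simp only [Tf, pow_zero, Module.End.one_apply, zero_add] at h0 h1
    simp only [LinearMap.sub_apply, LinearMap.id_apply, LinearMap.smul_apply]
    rw [← h1]
    exact h0

end

section

variable (M : Type u) [AddCommGroup M] [Module A M]

/-- The sequence module inherits the sequence criterion. -/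
theorem tf_seq (f : A) (hM : Function.Bijective (Tf M f)) :
    Function.Bijective (Tf (ℕ → M) f) := by
  constructor
  · intro X X' h
    funext n j
    have : Tf M f (fun n => X n j) = Tf M f (fun n => X' n j) := by
      funext n
      exact congrFun (congrFun h n) j
    exact congrFun (hM.1 this) n
  · intro Z
    choose x hx using fun j => hM.2 (fun n => Z n j)
    refine ⟨fun n j => x j n, ?_⟩
    funext n j
    exact congrFun (hx j) n

/-- The shift of sequences. -/
def sigmaL : (ℕ → M) →ₗ[A] (ℕ → M) := LinearMap.funLeft A M (fun n => n + 1)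

/-- `T_f` as a linear map. -/
def TL (f : A) : (ℕ → M) →ₗ[A] (ℕ → M) := LinearMap.id - f • sigmaL M

theorem TL_apply (f : A) (x : ℕ → M) : TL M f x = Tf M f x := by
  funext i
  simp [TL, sigmaL, Tf, LinearMap.funLeft]

theorem bijective_TL_iff (f : A) : Function.Bijective (TL M f) ↔ Function.Bijective (Tf M f) := by
  have : (TL M f : (ℕ → M) → (ℕ → M)) = Tf M f := funext (TL_apply M f)
  rw [this]

variable {M}

theorem tf_zero_bijective : Function.Bijective (Tf M (0 : A)) := by
  have : Tf M (0 : A) = id := by
    funext x i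
    simp [Tf]
  rw [this]
  exact Function.bijective_id

theorem tf_mul (a f : A) (hf : Function.Bijective (Tf M f)) :
    Function.Bijective (Tf M (a * f)) := by
  rw [← bijective_TL_iff]
  have h := bijective_one_sub_smul f (tf_seq M f hf) (a • sigmaL M)
  have e : TL M (a * f) = LinearMap.id - f • (a • sigmaL M) := by
    simp only [TL]
    rw [smul_smul, mul_comm]
  rw [e]
  exact h

theorem tf_add (f g : A) (hf : Function.Bijective (Tf M f)) (hg : Function.Bijective (Tf M g)) :
    Function.Bijective (Tf M (f + g)) := by
  rw [← bijective_TL_iff]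
  have hfL : Function.Bijective (TL M f) := (bijective_TL_iff M f).mpr hf
  let ef : (ℕ → M) ≃ₗ[A] (ℕ → M) := LinearEquiv.ofBijective (TL M f) hfL
  let ρ : (ℕ → M) →ₗ[A] (ℕ → M) := ef.symm.toLinearMap ∘ₗ sigmaL M
  have h := bijective_one_sub_smul g (tf_seq M g hg) ρ
  have e : TL M (f + g) = TL M f ∘ₗ (LinearMap.id - g • ρ) := by
    apply LinearMap.ext
    intro x
    have h1 : TL M f (ef.symm (sigmaL (A := A) M x)) = sigmaL (A := A) M x :=
      ef.apply_symm_apply _
    simp only [LinearMap.comp_apply, LinearMap.sub_apply, LinearMap.id_apply,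
      LinearMap.smul_apply, map_sub, map_smul, ρ, LinearEquiv.coe_coe, h1]
    simp only [TL, LinearMap.sub_apply, LinearMap.id_apply, LinearMap.smul_apply]
    module
  rw [e, LinearMap.coe_comp]
  exact hfL.comp h

theorem tf_of_sq (f : A) (hf : Function.Bijective (Tf M (f ^ 2))) :
    Function.Bijective (Tf M f) := by
  rw [← bijective_TL_iff]
  have h := bijective_one_sub_smul (f ^ 2) (tf_seq M (f ^ 2) hf) (sigmaL M ∘ₗ sigmaL M)
  let V : (ℕ → M) →ₗ[A] (ℕ → M) := LinearMap.id + f • sigmaL M
  have e1 : (LinearMap.id - (f ^ 2) • (sigmaL M ∘ₗ sigmaL M) : (ℕ → M) →ₗ[A] (ℕ → M)) =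
      TL M f ∘ₗ V := by
    apply LinearMap.ext
    intro x
    simp only [TL, V, LinearMap.comp_apply, LinearMap.sub_apply, LinearMap.add_apply,
      LinearMap.id_apply, LinearMap.smul_apply, map_add, map_smul]
    module
  have e2 : (LinearMap.id - (f ^ 2) • (sigmaL M ∘ₗ sigmaL M) : (ℕ → M) →ₗ[A] (ℕ → M)) =
      V ∘ₗ TL M f := by
    apply LinearMap.ext
    intro x
    simp only [TL, V, LinearMap.comp_apply, LinearMap.sub_apply, LinearMap.add_apply,
      LinearMap.id_apply, LinearMap.smul_apply, map_sub, map_smul]
    module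
  constructor
  · have : Function.Injective (V ∘ₗ TL M f) := by
      rw [← e2]
      exact h.1
    rw [LinearMap.coe_comp] at this
    exact this.of_comp
  · have : Function.Surjective (TL M f ∘ₗ V) := by
      rw [← e1]
      exact h.2
    rw [LinearMap.coe_comp] at this
    exact this.of_comp

variable (M)

/-- The ideal of elements with respect to which `M` is derived complete. -/
def dcIdeal : Ideal A where
  carrier := {f | Function.Bijective (Tf M f)}
  zero_mem' := tf_zero_bijective
  add_mem' := fun {f g} hf hg => tf_add f g hf hg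
  smul_mem' := fun a f hf => tf_mul a f hf

theorem mem_dcIdeal (f : A) : f ∈ dcIdeal (A := A) M ↔ Function.Bijective (Tf M f) := Iff.rfl

theorem dcIdeal_isRadical : (dcIdeal (A := A) M).IsRadical := by
  rw [Ideal.isRadical_iff_pow_one_lt 2 (by norm_num)]
  intro f hf
  exact tf_of_sq f hf

/-- If `M` satisfies the criterion for a set of elements, it does so for the ideal they span. -/
theorem tf_of_mem_span (s : Set A) (hs : ∀ g ∈ s, Function.Bijective (Tf M g)) (f : A)
    (hf : f ∈ Ideal.span s) : Function.Bijective (Tf M f) := by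
  have : Ideal.span s ≤ dcIdeal (A := A) M := Ideal.span_le.mpr hs
  exact this hf

end

end Groth.Agent.Helper11.DC
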