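import Groth.Agent.Lib.Helper11.DCPsCoh
import Groth.Agent.Lib.Helper11.DCIdeal
import Groth.Prelude.Def_DDual2
import Mathlib.Algebra.Homology.DerivedCategory.ExactFunctor
import Mathlib.Algebra.Category.ModuleCat.ChangeOfRingsExact

/-!
Derived completeness and restriction of scalars.
-/

open CategoryTheory Category Limits DerivedCategory

attribute [local instance] HasDerivedCategory.standard

universe u

namespace Groth.Agent.Helper11.DC

variable {A B : Type u} [CommRing A] [CommRing B] (φ : A →+* B)

/-- Cohomology commutes with restriction of scalars. -/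
noncomputable def homologyRestrictIso (L : Dual.D B) (i : ℤ) :
    (homologyFunctor (ModuleCat.{u} A) i).obj ((DRing.restrictD φ).obj L) ≅
      (ModuleCat.restrictScalars.{u} φ).obj ((homologyFunctor (ModuleCat.{u} B) i).obj L) := by
  let F := ModuleCat.restrictScalars.{u} φ
  let E := Q.objPreimage L
  let eL : Q.obj E ≅ L := Q.objObjPreimageIso L
  let e1 : (homologyFunctor (ModuleCat.{u} A) i).obj ((DRing.restrictD φ).obj L) ≅
      (homologyFunctor (ModuleCat.{u} A) i).obj ((DRing.restrictD φ).obj (Q.obj E)) :=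
    (homologyFunctor (ModuleCat.{u} A) i).mapIso ((DRing.restrictD φ).mapIso eL.symm)
  let e2 : (homologyFunctor (ModuleCat.{u} A) i).obj ((DRing.restrictD φ).obj (Q.obj E)) ≅
      (homologyFunctor (ModuleCat.{u} A) i).obj
        (Q.obj ((F.mapHomologicalComplex (ComplexShape.up ℤ)).obj E)) :=
    (homologyFunctor (ModuleCat.{u} A) i).mapIso (F.mapDerivedCategoryFactors.app E)
  let e3 : (homologyFunctor (ModuleCat.{u} A) i).obj
        (Q.obj ((F.mapHomologicalComplex (ComplexShape.up ℤ)).obj E)) ≅
      ((F.mapHomologicalComplex (ComplexShape.up ℤ)).obj E).homology i :=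
    (homologyFunctorFactors (ModuleCat.{u} A) i).app _
  let e4 : ((F.mapHomologicalComplex (ComplexShape.up ℤ)).obj E).homology i ≅
      F.obj (E.homology i) := (E.sc i).mapHomologyIso F
  let e5 : F.obj (E.homology i) ≅ F.obj ((homologyFunctor (ModuleCat.{u} B) i).obj (Q.obj E)) :=
    F.mapIso ((homologyFunctorFactors (ModuleCat.{u} B) i).app E).symm
  let e6 : F.obj ((homologyFunctor (ModuleCat.{u} B) i).obj (Q.obj E)) ≅
      F.obj ((homologyFunctor (ModuleCat.{u} B) i).obj L) :=
    F.mapIso ((homologyFunctor (ModuleCat.{u} B) i).mapIso eL)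
  exact e1 ≪≫ e2 ≪≫ e3 ≪≫ e4 ≪≫ e5 ≪≫ e6

theorem tf_restrictScalars (N : ModuleCat.{u} B) (f : A) :
    Function.Bijective (Tf ((ModuleCat.restrictScalars.{u} φ).obj N) f) ↔
      Function.Bijective (Tf N (φ f)) := by
  have : Tf ((ModuleCat.restrictScalars.{u} φ).obj N) f = Tf N (φ f) := by
    funext x i
    rfl
  rw [this]
  exact Iff.rfl

theorem isDerivedComplete_restrict_iff (I : Ideal A) (L : Dual.D B) :
    DRing.IsDerivedComplete (I.map φ) L ↔
      DRing.IsDerivedComplete I ((DRing.restrictD φ).obj L) := by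
  rw [isDerivedComplete_iff_homology, isDerivedComplete_iff_homology]
  refine forall_congr' fun i => ?_
  have key : ∀ f : A, Function.Bijective (Tf (Dual.HD A ((DRing.restrictD φ).obj L) i) f) ↔
      Function.Bijective (Tf (Dual.HD B L i) (φ f)) := by
    intro f
    rw [← tf_restrictScalars]
    exact ⟨tf_of_iso (homologyRestrictIso φ L i) f, tf_of_iso (homologyRestrictIso φ L i).symm f⟩
  constructor
  · intro h f hf
    exact (key f).mpr (h (φ f) (Ideal.mem_map_of_mem φ hf))
  · intro h g hg
    refine tf_of_mem_span (Dual.HD B L i) (φ '' (I : Set A)) ?_ g hg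
    rintro _ ⟨f, hf, rfl⟩
    exact (key f).mp (h f hf)

end Groth.Agent.Helper11.DC
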