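import Groth.Agent.Lib.Helper11.DCP4
import Groth.Agent.Lib.Helper11.DCRestrict
import Groth.Agent.Lib.Helper11.DCCompl

/-!
# Derived completeness along an element of `A` as an orthogonality condition in `D(A)` (helper11)

`FComplete f K` (all maps `A_f ⟶ K⟦n⟧` vanish) is equivalent to `ROrth f K` (all maps from
objects on which `f` acts invertibly vanish).  Consequence: statement S7098.
-/

set_option autoImplicit false

open CategoryTheory CategoryTheory.Limits Pretriangulated DerivedCategory

universe u

attribute [local instance] HasDerivedCategory.standard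

namespace Groth.Agent.Helper11.DCP

variable {A : Type u} [CommRing A]

theorem hasPow (K : Dual.D A) : ∃ (P : Dual.D A) (π : ℕ → (P ⟶ K)), IsPow π := exists_pow K

/-- all maps `A_f ⟶ K⟦n⟧` vanish -/
def FComplete (f : A) (K : Dual.D A) : Prop :=
  ∀ n : ℤ, Subsingleton (Dual.inD A (Localization.Away f) ⟶ K⟦n⟧)

theorem fLocal_moduleCat_of_bijective (f : A) (M : ModuleCat.{u} A)
    (h : Function.Bijective (fun m : M => f • m)) : FLocal f M := by
  unfold FLocal
  rw [ConcreteCategory.isIso_iff_bijective]
  exact h

theorem bijective_of_fLocal_moduleCat (f : A) (M : ModuleCat.{u} A) (h : FLocal f M) :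
    Function.Bijective (fun m : M => f • m) := by
  unfold FLocal at h
  rw [ConcreteCategory.isIso_iff_bijective] at h
  exact h

theorem fLocal_inD_away (f : A) : FLocal f (Dual.inD A (Localization.Away f)) := by
  refine FLocal.map (singleFunctor (ModuleCat.{u} A) 0) ?_
  apply fLocal_moduleCat_of_bijective
  obtain ⟨v, hv⟩ := IsLocalization.Away.algebraMap_isUnit (S := Localization.Away f) f
  have : (fun m : Localization.Away f => f • m) = (fun m : Localization.Away f => v • m) := by
    funext m
    rw [Units.smul_def, hv, Algebra.smul_def, smul_eq_mul]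
  show Function.Bijective (fun m : Localization.Away f => f • m)
  rw [this]
  exact MulAction.bijective v

theorem fComplete_of_rOrth (f : A) (K : Dual.D A) (h : ROrth f K) : FComplete f K :=
  fun n => subsingleton_shift_of_neg _ _ n (h _ ((fLocal_inD_away f).shift (-n)))

theorem isZero_of_fLocal_of_fComplete (f : A) (W : Dual.D A) (hl : FLocal f W)
    (hc : FComplete f W) : IsZero W := by
  have hT := (Groth.Agent.Helper11.DC.away_hom_vanish_iff_all f W).mp hc
  apply Groth.Agent.Helper11.DC.isZero_of_homology_isZero
  intro n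
  haveI : IsIso (f • 𝟙 W) := hl
  have hiso' : IsIso ((homologyFunctor (ModuleCat.{u} A) n).map (f • 𝟙 W)) := inferInstance
  rw [Groth.Agent.Helper11.DC.homologyFunctor_map_smul_id] at hiso'
  have hbij := (ConcreteCategory.isIso_iff_bijective
    (f • 𝟙 ((homologyFunctor (ModuleCat.{u} A) n).obj W))).mp hiso'
  have hdiv : ∀ m : Dual.HD A W n, ∃ m' : Dual.HD A W n, m = f • m' := by
    intro m
    obtain ⟨m', hm'⟩ := hbij.2 m
    exact ⟨m', hm'.symm⟩
  have hz := Groth.Agent.Helper11.DC.eq_zero_of_divisible f (hT n).1 hdiv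
  have : Subsingleton (Dual.HD A W n) := ⟨fun a b => by rw [hz a, hz b]⟩
  exact ModuleCat.isZero_of_subsingleton _

theorem rOrth_of_fComplete (f : A) (K : Dual.D A) (hK : FComplete f K) : ROrth f K := by
  obtain ⟨P, π, hπ⟩ := hasPow K
  obtain ⟨W, β, γ, hT⟩ := distinguished_cocone_triangle (theta hπ f)
  have hW : FLocal f W := fLocal_cone hπ f β γ hT
  have hA := bijective_comp_cone hπ f β γ hT
  have hWc : FComplete f W := by
    intro n
    apply subsingleton_shift_of_neg
    have hb := hA ((Dual.inD A (Localization.Away f))⟦-n⟧) ((fLocal_inD_away f).shift (-n))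
    have hs : Subsingleton ((Dual.inD A (Localization.Away f))⟦-n⟧ ⟶ K⟦(1 : ℤ)⟧) :=
      subsingleton_neg_of_shift _ _ n
        (subsingleton_shift_add _ K 1 n (1 + n) rfl (hK (1 + n)))
    exact ⟨fun a b => hb.1 (hs.elim _ _)⟩
  have hW0 : IsZero W := isZero_of_fLocal_of_fComplete f W hW hWc
  intro X hX
  suffices ∀ g : X ⟶ K, g = 0 from ⟨fun a b => by rw [this a, this b]⟩
  intro g
  obtain ⟨w, hw⟩ := (hA (X⟦(1 : ℤ)⟧) (hX.shift 1)).2 (g⟦(1 : ℤ)⟧')
  have hw' : w ≫ γ ≫ (π 0)⟦(1 : ℤ)⟧' = g⟦(1 : ℤ)⟧' := hw
  have hw0 : w = 0 := hW0.eq_of_tgt _ _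
  rw [hw0, zero_comp] at hw'
  apply (shiftFunctor (Dual.D A) (1 : ℤ)).map_injective
  rw [Functor.map_zero]
  exact hw'.symm

theorem fComplete_iff_rOrth (f : A) (K : Dual.D A) : FComplete f K ↔ ROrth f K :=
  ⟨rOrth_of_fComplete f K, fComplete_of_rOrth f K⟩

section Restrict

variable {B : Type u} [CommRing B] (φ : A →+* B)

/-- restriction of a module in degree `n` -/
noncomputable def resSingleIso' (n : ℤ) (Y : ModuleCat.{u} B) :
    (DRing.restrictD φ).obj ((DerivedCategory.singleFunctor (ModuleCat.{u} B) n).obj Y) ≅
      (DerivedCategory.singleFunctor (ModuleCat.{u} A) n).obj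
        ((ModuleCat.restrictScalars.{u} φ).obj Y) :=
  (DRing.restrictD φ).mapIso ((DerivedCategory.singleFunctorIsoCompQ (ModuleCat.{u} B) n).app Y) ≪≫
    ((ModuleCat.restrictScalars.{u} φ).mapDerivedCategoryFactors).app
      ((CochainComplex.singleFunctor (ModuleCat.{u} B) n).obj Y) ≪≫
    DerivedCategory.Q.mapIso ((HomologicalComplex.singleMapHomologicalComplex
      (ModuleCat.restrictScalars.{u} φ) (ComplexShape.up ℤ) n).app Y) ≪≫
    ((DerivedCategory.singleFunctorIsoCompQ (ModuleCat.{u} A) n).app
      ((ModuleCat.restrictScalars.{u} φ).obj Y)).symm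

theorem fLocal_restrict_of_isUnit (f : A) (hf : IsUnit (φ f)) (E : Dual.D B) :
    FLocal f ((DRing.restrictD φ).obj E) := by
  unfold FLocal
  rw [DerivedCategory.isIso_iff]
  intro n
  rw [Groth.Agent.Helper11.DC.homologyFunctor_map_smul_id]
  have e := Groth.Agent.Helper11.DC.homologyRestrictIso φ E n
  have h : FLocal f ((ModuleCat.restrictScalars.{u} φ).obj
      ((homologyFunctor (ModuleCat.{u} B) n).obj E)) := by
    apply fLocal_moduleCat_of_bijective
    constructor
    · intro m m' hmm
      have h1 : φ f • (show ((homologyFunctor (ModuleCat.{u} B) n).obj E) from m) =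
          φ f • (show ((homologyFunctor (ModuleCat.{u} B) n).obj E) from m') := hmm
      exact hf.smul_left_cancel.mp h1
    · intro m
      obtain ⟨v, hv⟩ := hf
      refine ⟨(↑v⁻¹ : B) • (show ((homologyFunctor (ModuleCat.{u} B) n).obj E) from m), ?_⟩
      show φ f • ((↑v⁻¹ : B) • (show ((homologyFunctor (ModuleCat.{u} B) n).obj E) from m)) = m
      rw [← hv, smul_smul, Units.mul_inv, one_smul]
  exact h.of_iso e.symm

end Restrict

/-- the regular module of an algebra, restricted (linear equivalence) -/
noncomputable def resSelfEquiv (B : Type u) [CommRing B] [Algebra A B] :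
    ((ModuleCat.restrictScalars.{u} (algebraMap A B)).obj (ModuleCat.of B B)) ≃ₗ[A] B where
  toFun := fun x => x
  invFun := fun x => x
  map_add' := fun _ _ => rfl
  map_smul' := fun a x => (Algebra.smul_def a (show B from x)).symm
  left_inv := fun _ => rfl
  right_inv := fun _ => rfl

/-- the regular module of an algebra, restricted -/
noncomputable def resSelfIso (B : Type u) [CommRing B] [Algebra A B] :
    (ModuleCat.restrictScalars.{u} (algebraMap A B)).obj (ModuleCat.of B B) ≅ ModuleCat.of A B :=
  (resSelfEquiv B).toModuleIso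

/-- statement S7098 -/
theorem S7098_statement (f : A) (K : Dual.D A) :
    (∀ n : ℤ, Subsingleton (Dual.inD A (Localization.Away f) ⟶ K⟦n⟧)) ↔
      ∀ E : Dual.D (Localization.Away f),
        Subsingleton ((DRing.restrictD (algebraMap A (Localization.Away f))).obj E ⟶ K) := by
  constructor
  · intro h E
    exact rOrth_of_fComplete f K h _
      (fLocal_restrict_of_isUnit (algebraMap A (Localization.Away f)) f
        (IsLocalization.Away.algebraMap_isUnit f) E)
  · intro h n
    apply subsingleton_shift_of_neg
    let E : Dual.D (Localization.Away f) :=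
      (Dual.inD (Localization.Away f) (Localization.Away f))⟦-n⟧
    let e : (DRing.restrictD (algebraMap A (Localization.Away f))).obj E ≅
        (Dual.inD A (Localization.Away f))⟦-n⟧ :=
      ((DRing.restrictD (algebraMap A (Localization.Away f))).commShiftIso (-n)).app _ ≪≫
        (shiftFunctor (Dual.D A) (-n)).mapIso
          (resSingleIso' (algebraMap A (Localization.Away f)) 0
              (ModuleCat.of (Localization.Away f) (Localization.Away f)) ≪≫
            (DerivedCategory.singleFunctor (ModuleCat.{u} A) 0).mapIso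
              (resSelfIso (Localization.Away f)))
    exact ⟨fun a b => by
      rw [← cancel_epi e.hom]
      exact (h E).elim _ _⟩

end Groth.Agent.Helper11.DCP
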