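import Groth.Agent.Lib.Helper11.HDIeq1
import Groth.Agent.Lib.Helper8.HomH

/-!
# `H^q(RΓ_I K) ≃ colim_n Hom(A/I^n, K[q])` (helper11)
-/

set_option autoImplicit false
set_option linter.unusedSectionVars false
set_option linter.unusedVariables false
set_option linter.style.haveILetI false

open CategoryTheory CategoryTheory.Limits CochainComplex HomComplex DerivedCategory Opposite

universe u

attribute [local instance] HasDerivedCategory.standard

namespace Groth.Agent.Helper11.HDIeq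

open Groth.Agent.Helper8.HDI Groth.Agent.Helper8.FLD Groth.Agent.Helper8.BiDual
  Groth.Agent.Helper11.RGam

variable {A : Type u} [CommRing A] (I : Ideal A) (J : DRing.Cx A) (K : Dual.D A)
  (e : Q.obj J ≅ K) (q : ℤ)

/-- `M[-q]` in `D(A)` is `Q` of the single complex -/
noncomputable abbrev sIso (M : ModuleCat.{u} A) :
    (DerivedCategory.singleFunctor (ModuleCat.{u} A) q).obj M ≅ Q.obj (sq q M) :=
  (singleFunctorIsoCompQ (ModuleCat.{u} A) q).app M

theorem sIso_nat {M N : ModuleCat.{u} A} (g : M ⟶ N) :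
    (DerivedCategory.singleFunctor (ModuleCat.{u} A) q).map g ≫ (sIso q N).hom =
      (sIso q M).hom ≫
        Q.map ((HomologicalComplex.single (ModuleCat.{u} A) (ComplexShape.up ℤ) q).map g) :=
  (singleFunctorIsoCompQ (ModuleCat.{u} A) q).hom.naturality g

/-- the morphism `A/I^n[-q] ⟶ K` attached to a cycle killed by `I^n` -/
noncomputable def Tm (n : ℕ) (x : J.X q) (hx : ∀ a ∈ I ^ n, a • x = 0)
    (hd : (J.d q (q + 1)).hom x = 0) : (DerivedCategory.singleFunctor (ModuleCat.{u} A) q).obj (Qn I n) ⟶ K :=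
  (sIso q (Qn I n)).hom ≫ Q.map (sigma I J q n x hx hd) ≫ e.hom

theorem Tm_tr {n m : ℕ} (h : n ≤ m) (x : J.X q) (hx : ∀ a ∈ I ^ n, a • x = 0)
    (hx' : ∀ a ∈ I ^ m, a • x = 0) (hd : (J.d q (q + 1)).hom x = 0) :
    (DerivedCategory.singleFunctor (ModuleCat.{u} A) q).map (ModuleCat.ofHom (tr I h)) ≫ Tm I J K e q n x hx hd =
      Tm I J K e q m x hx' hd := by
  unfold Tm
  rw [← Category.assoc, sIso_nat, Category.assoc, ← Functor.map_comp_assoc,
    sigma_tr I J q h x hx hx' hd]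

theorem Tm_add (n : ℕ) (x y : J.X q) (hx : ∀ a ∈ I ^ n, a • x = 0)
    (hy : ∀ a ∈ I ^ n, a • y = 0) (hxy : ∀ a ∈ I ^ n, a • (x + y) = 0)
    (hdx : (J.d q (q + 1)).hom x = 0) (hdy : (J.d q (q + 1)).hom y = 0)
    (hdxy : (J.d q (q + 1)).hom (x + y) = 0) :
    Tm I J K e q n (x + y) hxy hdxy = Tm I J K e q n x hx hdx + Tm I J K e q n y hy hdy := by
  unfold Tm
  rw [sigma_add I J q n x y hx hy hxy hdx hdy hdxy, Functor.map_add, Preadditive.add_comp,
    Preadditive.comp_add]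

theorem Tm_smul (n : ℕ) (c : A) (x : J.X q) (hx : ∀ a ∈ I ^ n, a • x = 0)
    (hcx : ∀ a ∈ I ^ n, a • (c • x) = 0)
    (hdx : (J.d q (q + 1)).hom x = 0) (hdcx : (J.d q (q + 1)).hom (c • x) = 0) :
    Tm I J K e q n (c • x) hcx hdcx = c • Tm I J K e q n x hx hdx := by
  unfold Tm
  rw [sigma_smul I J q n c x hx hcx hdx hdcx, Functor.map_smul, Linear.smul_comp,
    Linear.comp_smul]

/-- `Hom(A/I^n, K[q]) ≃ Hom(A/I^n[-q], K)` -/
noncomputable def Xi (n : ℕ) :
    (Dual.inD A (A ⧸ I ^ n) ⟶ K⟦q⟧) ≃ₗ[A]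
      ((DerivedCategory.singleFunctor (ModuleCat.{u} A) q).obj (Qn I n) ⟶ K) :=
  (singleHomEquiv (Qn I n) K q 0 q (by omega)).trans (shiftZeroEquiv _ K)

theorem Xi_nat {n m : ℕ} (h : n ≤ m) (t : Dual.inD A (A ⧸ I ^ n) ⟶ K⟦q⟧) :
    Xi I K q m (inDMap (tr I h) ≫ t) =
      (DerivedCategory.singleFunctor (ModuleCat.{u} A) q).map (ModuleCat.ofHom (tr I h)) ≫ Xi I K q n t := by
  have h1 := singleHomEquiv_nat (ModuleCat.ofHom (tr I h)) K q 0 q (by omega) t
  have h2 : Xi I K q m (inDMap (tr I h) ≫ t) =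
      shiftZeroEquiv ((DerivedCategory.singleFunctor (ModuleCat.{u} A) q).obj (Qn I m)) K
        (singleHomEquiv (Qn I m) K q 0 q (by omega)
          ((DerivedCategory.singleFunctor (ModuleCat.{u} A) 0).map
            (ModuleCat.ofHom (tr I h)) ≫ t)) := rfl
  rw [h2, h1]
  exact Category.assoc (obj := Dual.D A) _ _ _

/-- the class in `HDI` of a cycle killed by `I^n` -/
noncomputable def cl (n : ℕ) (x : J.X q) (hx : ∀ a ∈ I ^ n, a • x = 0)
    (hd : (J.d q (q + 1)).hom x = 0) : Dual2.HDI A I K q :=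
  leg I K q n ((Xi I K q n).symm (Tm I J K e q n x hx hd))

theorem cl_congr (n : ℕ) (x x' : J.X q) (h : x = x') (hx : ∀ a ∈ I ^ n, a • x = 0)
    (hd : (J.d q (q + 1)).hom x = 0) (hx' : ∀ a ∈ I ^ n, a • x' = 0)
    (hd' : (J.d q (q + 1)).hom x' = 0) :
    cl I J K e q n x hx hd = cl I J K e q n x' hx' hd' := by
  subst h
  rfl

theorem cl_tr {n m : ℕ} (h : n ≤ m) (x : J.X q) (hx : ∀ a ∈ I ^ n, a • x = 0)
    (hx' : ∀ a ∈ I ^ m, a • x = 0) (hd : (J.d q (q + 1)).hom x = 0) :
    cl I J K e q m x hx' hd = cl I J K e q n x hx hd := by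
  have hkey : (Xi I K q m).symm (Tm I J K e q m x hx' hd) =
      inDMap (tr I h) ≫ (Xi I K q n).symm (Tm I J K e q n x hx hd) := by
    rw [LinearEquiv.symm_apply_eq, Xi_nat, LinearEquiv.apply_symm_apply,
      Tm_tr I J K e q h x hx hx' hd]
  exact (congrArg (leg I K q m) hkey).trans (leg_tr I K q h _)

theorem cl_add (n : ℕ) (x y : J.X q) (hx : ∀ a ∈ I ^ n, a • x = 0)
    (hy : ∀ a ∈ I ^ n, a • y = 0) (hxy : ∀ a ∈ I ^ n, a • (x + y) = 0)
    (hdx : (J.d q (q + 1)).hom x = 0) (hdy : (J.d q (q + 1)).hom y = 0)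
    (hdxy : (J.d q (q + 1)).hom (x + y) = 0) :
    cl I J K e q n (x + y) hxy hdxy = cl I J K e q n x hx hdx + cl I J K e q n y hy hdy := by
  unfold cl
  rw [Tm_add I J K e q n x y hx hy hxy hdx hdy hdxy, map_add, map_add]

theorem cl_smul (n : ℕ) (c : A) (x : J.X q) (hx : ∀ a ∈ I ^ n, a • x = 0)
    (hcx : ∀ a ∈ I ^ n, a • (c • x) = 0)
    (hdx : (J.d q (q + 1)).hom x = 0) (hdcx : (J.d q (q + 1)).hom (c • x) = 0) :
    cl I J K e q n (c • x) hcx hdcx = c • cl I J K e q n x hx hdx := by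
  unfold cl
  rw [Tm_smul I J K e q n c x hx hcx hdx hdcx, map_smul, map_smul]

theorem cl_boundary (n : ℕ) (p : ℤ) (hp : p + 1 = q) (y : J.X p)
    (hy : ∀ a ∈ I ^ n, a • y = 0) (hx : ∀ a ∈ I ^ n, a • (J.d p q).hom y = 0)
    (hd : (J.d q (q + 1)).hom ((J.d p q).hom y) = 0) :
    cl I J K e q n ((J.d p q).hom y) hx hd = 0 := by
  unfold cl Tm
  rw [Q_map_sigma_boundary I J q n p hp y hy hx hd, zero_comp, comp_zero, map_zero, map_zero]

/-! ### the torsion complex -/

/-- the inclusion `Γ_I(J^p) → J^p` -/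
noncomputable abbrev inc (p : ℤ) : (gamCx I J).X p →ₗ[A] J.X p := ((gamι I J).f p).hom

theorem inc_injective (p : ℤ) : Function.Injective (inc I J p) :=
  (ModuleCat.mono_iff_injective _).mp inferInstance

theorem inc_d (p p' : ℤ) (z : (gamCx I J).X p) :
    (J.d p p').hom (inc I J p z) = inc I J p' (((gamCx I J).d p p').hom z) := by
  have h := (gamι I J).comm p p'
  exact congrArg (fun φ => φ.hom z) h

theorem inc_tors (p : ℤ) (z : (gamCx I J).X p) :
    ∃ n : ℕ, ∀ a ∈ I ^ n, a • inc I J p z = 0 := by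
  have h : inc I J p z = (show DRing.torsionSub I (J.X p) from z).1 := gamι_f_apply I J p z
  rw [h]
  exact (show DRing.torsionSub I (J.X p) from z).2

/-- a torsion element as an element of the torsion complex -/
def mkG (p : ℤ) (x : J.X p) (hx : ∃ n : ℕ, ∀ a ∈ I ^ n, a • x = 0) : (gamCx I J).X p :=
  (⟨x, hx⟩ : DRing.torsionSub I (J.X p))

theorem inc_mkG (p : ℤ) (x : J.X p) (hx : ∃ n : ℕ, ∀ a ∈ I ^ n, a • x = 0) :
    inc I J p (mkG I J p x hx) = x :=
  gamι_f_apply I J p ⟨x, hx⟩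

/-- the short complex computing `H^q(Γ_I J)` -/
noncomputable abbrev Sg : ShortComplex (ModuleCat.{u} A) := (gamCx I J).sc' (q - 1) q (q + 1)

/-- the underlying element of a cycle -/
def zv (z : LinearMap.ker (Sg I J q).g.hom) : (gamCx I J).X q := z.1

theorem zv_add (z w : LinearMap.ker (Sg I J q).g.hom) :
    zv I J q (z + w) = zv I J q z + zv I J q w := rfl

theorem zv_smul (c : A) (z : LinearMap.ker (Sg I J q).g.hom) :
    zv I J q (c • z) = c • zv I J q z := rfl

theorem d_zv (z : LinearMap.ker (Sg I J q).g.hom) :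
    ((gamCx I J).d q (q + 1)).hom (zv I J q z) = 0 := LinearMap.mem_ker.mp z.2

theorem zv_injective : Function.Injective (zv I J q) := fun z w h => Subtype.ext h

/-- a cycle from an element -/
def mkZ (g : (gamCx I J).X q) (hg : ((gamCx I J).d q (q + 1)).hom g = 0) :
    LinearMap.ker (Sg I J q).g.hom := ⟨g, LinearMap.mem_ker.mpr hg⟩

theorem zv_mkZ (g : (gamCx I J).X q) (hg : ((gamCx I J).d q (q + 1)).hom g = 0) :
    zv I J q (mkZ I J q g hg) = g := rfl

/-- the boundary map to cycles -/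
noncomputable def toZ (y : (gamCx I J).X (q - 1)) : LinearMap.ker (Sg I J q).g.hom :=
  (Sg I J q).moduleCatToCycles y

theorem zv_toZ (y : (gamCx I J).X (q - 1)) :
    zv I J q (toZ I J q y) = ((gamCx I J).d (q - 1) q).hom y := rfl

theorem ker_d (z : LinearMap.ker (Sg I J q).g.hom) :
    (J.d q (q + 1)).hom (inc I J q (zv I J q z)) = 0 := by
  rw [inc_d, d_zv, map_zero]

/-- the map from cycles of the torsion complex to `HDI`, as a function -/
noncomputable def ThetaFun (z : LinearMap.ker (Sg I J q).g.hom) : Dual2.HDI A I K q :=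
  cl I J K e q (Classical.choose (inc_tors I J q (zv I J q z))) (inc I J q (zv I J q z))
    (Classical.choose_spec (inc_tors I J q (zv I J q z))) (ker_d I J q z)

theorem ThetaFun_eq (z : LinearMap.ker (Sg I J q).g.hom) (n : ℕ)
    (hn : ∀ a ∈ I ^ n, a • inc I J q (zv I J q z) = 0) :
    ThetaFun I J K e q z = cl I J K e q n (inc I J q (zv I J q z)) hn (ker_d I J q z) := by
  unfold ThetaFun
  rcases le_total n (Classical.choose (inc_tors I J q (zv I J q z))) with h | h
  · exact cl_tr I J K e q h _ hn _ _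
  · exact (cl_tr I J K e q h _ _ hn _).symm

/-- the map from cycles of the torsion complex to `HDI` -/
noncomputable def Theta : LinearMap.ker (Sg I J q).g.hom →ₗ[A] Dual2.HDI A I K q where
  toFun := ThetaFun I J K e q
  map_add' z w := by
    obtain ⟨n, hn⟩ := inc_tors I J q (zv I J q z)
    obtain ⟨m, hm⟩ := inc_tors I J q (zv I J q w)
    have hn' : ∀ a ∈ I ^ (n + m), a • inc I J q (zv I J q z) = 0 := fun a ha =>
      hn a (Ideal.pow_le_pow_right (Nat.le_add_right n m) ha)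
    have hm' : ∀ a ∈ I ^ (n + m), a • inc I J q (zv I J q w) = 0 := fun a ha =>
      hm a (Ideal.pow_le_pow_right (Nat.le_add_left m n) ha)
    have hzw : inc I J q (zv I J q (z + w)) =
        inc I J q (zv I J q z) + inc I J q (zv I J q w) := by
      rw [zv_add, map_add]
    have hnm : ∀ a ∈ I ^ (n + m), a • inc I J q (zv I J q (z + w)) = 0 := fun a ha => by
      rw [hzw, smul_add, hn' a ha, hm' a ha, add_zero]
    have hnm' : ∀ a ∈ I ^ (n + m),
        a • (inc I J q (zv I J q z) + inc I J q (zv I J q w)) = 0 := fun a ha => by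
      rw [smul_add, hn' a ha, hm' a ha, add_zero]
    have hd' : (J.d q (q + 1)).hom (inc I J q (zv I J q z) + inc I J q (zv I J q w)) = 0 := by
      rw [map_add, ker_d, ker_d, add_zero]
    rw [ThetaFun_eq I J K e q z (n + m) hn', ThetaFun_eq I J K e q w (n + m) hm',
      ThetaFun_eq I J K e q (z + w) (n + m) hnm]
    exact (cl_congr I J K e q (n + m) _ _ hzw _ _ hnm' hd').trans
      (cl_add I J K e q (n + m) _ _ hn' hm' hnm' _ _ hd')
  map_smul' c z := by
    obtain ⟨n, hn⟩ := inc_tors I J q (zv I J q z)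
    have hcz : inc I J q (zv I J q (c • z)) = c • inc I J q (zv I J q z) := by
      rw [zv_smul, map_smul]
    have hn' : ∀ a ∈ I ^ n, a • (c • inc I J q (zv I J q z)) = 0 := fun a ha => by
      rw [smul_comm, hn a ha, smul_zero]
    have hnc : ∀ a ∈ I ^ n, a • inc I J q (zv I J q (c • z)) = 0 := fun a ha => by
      rw [hcz]
      exact hn' a ha
    have hd' : (J.d q (q + 1)).hom (c • inc I J q (zv I J q z)) = 0 := by
      rw [map_smul, ker_d, smul_zero]
    rw [ThetaFun_eq I J K e q z n hn, ThetaFun_eq I J K e q (c • z) n hnc]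
    exact (cl_congr I J K e q n _ _ hcz _ _ hn' hd').trans
      (cl_smul I J K e q n c _ hn hn' _ hd')

theorem Theta_apply (z : LinearMap.ker (Sg I J q).g.hom) :
    Theta I J K e q z = ThetaFun I J K e q z := rfl

theorem Theta_toZ (y : (gamCx I J).X (q - 1)) :
    Theta I J K e q (toZ I J q y) = 0 := by
  obtain ⟨n, hn⟩ := inc_tors I J (q - 1) y
  have hval : inc I J q (zv I J q (toZ I J q y)) =
      (J.d (q - 1) q).hom (inc I J (q - 1) y) := by
    rw [zv_toZ, inc_d]
  have hn' : ∀ a ∈ I ^ n, a • inc I J q (zv I J q (toZ I J q y)) = 0 := fun a ha => by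
    rw [hval, ← map_smul, hn a ha, map_zero]
  have hx' : ∀ a ∈ I ^ n, a • (J.d (q - 1) q).hom (inc I J (q - 1) y) = 0 := fun a ha => by
    rw [← map_smul, hn a ha, map_zero]
  have hd' : (J.d q (q + 1)).hom ((J.d (q - 1) q).hom (inc I J (q - 1) y)) = 0 := by
    rw [← hval]
    exact ker_d I J q _
  rw [Theta_apply, ThetaFun_eq I J K e q _ n hn']
  exact (cl_congr I J K e q n _ _ hval _ _ hx' hd').trans
    (cl_boundary I J K e q n (q - 1) (by omega) _ hn hx' hd')

theorem ker_Theta_le [J.IsKInjective] :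
    LinearMap.ker (Theta I J K e q) ≤ LinearMap.range (Sg I J q).moduleCatToCycles := by
  intro z hz
  have hz0 : ThetaFun I J K e q z = 0 := LinearMap.mem_ker.mp hz
  obtain ⟨n, hn⟩ := inc_tors I J q (zv I J q z)
  rw [ThetaFun_eq I J K e q z n hn] at hz0
  unfold cl at hz0
  obtain ⟨m, h, hm⟩ := leg_eq_zero I K q n _ hz0
  have hm' : ∀ a ∈ I ^ m, a • inc I J q (zv I J q z) = 0 := fun a ha =>
    hn a (Ideal.pow_le_pow_right h ha)
  have hT : Tm I J K e q m (inc I J q (zv I J q z)) hm' (ker_d I J q z) = 0 := by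
    have h1 := congrArg (Xi I K q m) hm
    rw [Xi_nat, LinearEquiv.apply_symm_apply, map_zero, Tm_tr I J K e q h _ hn hm'] at h1
    exact h1
  have hQ : Q.map (sigma I J q m (inc I J q (zv I J q z)) hm' (ker_d I J q z)) =
      Q.map (0 : sq q (Qn I m) ⟶ J) := by
    unfold Tm at hT
    rw [Functor.map_zero]
    have h2 : (sIso q (Qn I m)).hom ≫
        Q.map (sigma I J q m (inc I J q (zv I J q z)) hm' (ker_d I J q z)) ≫ e.hom =
        (sIso q (Qn I m)).hom ≫ 0 ≫ e.hom := by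
      rw [hT, zero_comp, comp_zero]
    exact (cancel_mono e.hom).mp ((cancel_epi (sIso q (Qn I m)).hom).mp h2)
  obtain ⟨hh⟩ := Groth.Agent.Helper3.KF.homotopy_of_Q_map_eq_of_isKInjective _ J _ _ hQ
  obtain ⟨y, hy, hdy⟩ := exists_of_homotopy I J q m (q - 1) (by omega) _ hm' (ker_d I J q z) hh
  refine ⟨mkG I J (q - 1) y ⟨m, hy⟩, ?_⟩
  apply zv_injective I J q
  apply inc_injective I J q
  show inc I J q (zv I J q (toZ I J q (mkG I J (q - 1) y ⟨m, hy⟩))) = _
  rw [zv_toZ, ← inc_d, inc_mkG, hdy]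

theorem Theta_surjective [J.IsKInjective] : Function.Surjective (Theta I J K e q) := by
  intro y
  obtain ⟨n, t, ht⟩ := exists_rep I K q y
  obtain ⟨φ, hφ⟩ := Groth.Agent.Helper3.KF.exists_lift_of_isKInjective (sq q (Qn I n)) J
    ((sIso q (Qn I n)).inv ≫ Xi I K q n t ≫ e.inv)
  obtain ⟨x, hx, hd, rfl⟩ := exists_eq_sigma I J q n φ
  have hTm : Tm I J K e q n x hx hd = Xi I K q n t := by
    unfold Tm
    rw [hφ, Category.assoc, Category.assoc, Iso.inv_hom_id, Category.comp_id,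
      Iso.hom_inv_id_assoc]
  have hdG : ((gamCx I J).d q (q + 1)).hom (mkG I J q x ⟨n, hx⟩) = 0 := by
    apply inc_injective I J (q + 1)
    rw [← inc_d, inc_mkG, hd, map_zero]
  have hzx : inc I J q (zv I J q (mkZ I J q _ hdG)) = x := by
    rw [zv_mkZ, inc_mkG]
  have hn : ∀ a ∈ I ^ n, a • inc I J q (zv I J q (mkZ I J q _ hdG)) = 0 := fun a ha => by
    rw [hzx]
    exact hx a ha
  refine ⟨mkZ I J q _ hdG, ?_⟩
  rw [Theta_apply, ThetaFun_eq I J K e q _ n hn, cl_congr I J K e q n _ _ hzx _ _ hx hd]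
  unfold cl
  rw [hTm, LinearEquiv.symm_apply_apply, ht]

/-- the induced map on cohomology of the torsion complex -/
noncomputable def ThetaBar :
    (LinearMap.ker (Sg I J q).g.hom ⧸ LinearMap.range (Sg I J q).moduleCatToCycles) →ₗ[A]
      Dual2.HDI A I K q :=
  (LinearMap.range (Sg I J q).moduleCatToCycles).liftQ (Theta I J K e q) (by
    rintro _ ⟨y, rfl⟩
    exact LinearMap.mem_ker.mpr (Theta_toZ I J K e q y))

theorem ThetaBar_bijective [J.IsKInjective] : Function.Bijective (ThetaBar I J K e q) := by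
  constructor
  · rw [← LinearMap.ker_eq_bot]
    exact Submodule.ker_liftQ_eq_bot _ _ _ (ker_Theta_le I J K e q)
  · rw [← LinearMap.range_eq_top]
    unfold ThetaBar
    rw [Submodule.range_liftQ]
    exact LinearMap.range_eq_top.mpr (Theta_surjective I J K e q)

/-- `H^q(RΓ_I K)` is the colimit of the `Hom(A/I^n, K[q])` -/
theorem nonempty_equiv [DRing.HasRgammaI I] :
    Nonempty (Dual.HD A ((DRing.RgammaI I).obj K) q ≃ₗ[A] Dual2.HDI A I K q) := by
  obtain ⟨J, e₀, hJ, _⟩ := exists_kInj_iso K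
  haveI := hJ
  let e2 : (DRing.RgammaI I).obj K ≅ Q.obj (gamCx I J) :=
    (DRing.RgammaI I).mapIso e₀ ≪≫ RgammaIIso I J
  let ψ : (homologyFunctor (ModuleCat.{u} A) q).obj ((DRing.RgammaI I).obj K) ≅
      (gamCx I J).homology q :=
    (homologyFunctor (ModuleCat.{u} A) q).mapIso e2 ≪≫
      (homologyFunctorFactors (ModuleCat.{u} A) q).app (gamCx I J)
  let l1 : Dual.HD A ((DRing.RgammaI I).obj K) q ≃ₗ[A] (gamCx I J).homology q :=
    ψ.toLinearEquiv
  let l2 := Groth.Agent.Helper8.HomH.homologyEquiv (gamCx I J) q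
  let l3 := LinearEquiv.ofBijective (ThetaBar I J K e₀.symm q)
    (ThetaBar_bijective I J K e₀.symm q)
  exact ⟨(l1.trans l2).trans l3⟩

end Groth.Agent.Helper11.HDIeq
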