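import Groth.Agent.Lib.Helper11.CechF1
import Groth.Agent.Lib.Helper11.HDIeq2
import Groth.Agent.Lib.Helper11.DCP5
import Groth.Agent.Lib.Helper11.KI1

/-!
# Local cohomology and restriction of scalars (helper11)

`H^i_I(K_A) ≅ (H^i_{IB}(K))_A` for `A → B` a map of Noetherian rings and `K ∈ D(B)`.
-/

set_option autoImplicit false
set_option linter.unusedSectionVars false
set_option linter.unusedVariables false
set_option linter.style.haveILetI false

open CategoryTheory CategoryTheory.Limits MonoidalCategory CochainComplex HomComplex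
  Pretriangulated DerivedCategory
open scoped TensorProduct

universe u v w

attribute [local instance] HasDerivedCategory.standard

namespace Groth.Agent.Helper11.CechF

open DerCA Groth.Agent.Helper11.DCP Groth.Agent.Helper11.GM Groth.Agent.Helper11.RGam
  Groth.Agent.Helper11.CechG

section Restrict

variable {A B : Type u} [CommRing A] [CommRing B] (φ : A →+* B)

/-- restriction of scalars of a linear equivalence -/
def restrictEquiv {M : Type v} {N : Type w} [AddCommGroup M] [Module B M] [AddCommGroup N]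
    [Module B N] (e : M ≃ₗ[B] N) :
    ((ModuleCat.restrictScalars.{v} φ).obj (ModuleCat.of B M)) ≃ₗ[A]
      ((ModuleCat.restrictScalars.{w} φ).obj (ModuleCat.of B N)) where
  toFun := fun x => e x
  invFun := fun y => e.symm y
  map_add' := fun x y => e.map_add x y
  map_smul' := fun a x => e.map_smul (φ a) x
  left_inv := fun x => e.left_inv x
  right_inv := fun y => e.right_inv y

theorem fLocal_restrict (f : A) (W : Dual.D B) (h : FLocal (φ f) W) :
    FLocal f ((DRing.restrictD φ).obj W) := by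
  unfold FLocal
  rw [DerivedCategory.isIso_iff]
  intro n
  rw [Groth.Agent.Helper11.DC.homologyFunctor_map_smul_id]
  have e := Groth.Agent.Helper11.DC.homologyRestrictIso φ W n
  have h0 : FLocal (φ f) ((homologyFunctor (ModuleCat.{u} B) n).obj W) := by
    unfold FLocal at h ⊢
    rw [← Groth.Agent.Helper11.DC.homologyFunctor_map_smul_id]
    infer_instance
  have hb := bijective_of_fLocal_moduleCat (φ f) _ h0
  have h1 : FLocal f ((ModuleCat.restrictScalars.{u} φ).obj
      ((homologyFunctor (ModuleCat.{u} B) n).obj W)) := by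
    apply fLocal_moduleCat_of_bijective
    exact hb
  exact h1.of_iso e.symm

theorem isPowerTorsion_restrict (I : Ideal A) (N : ModuleCat.{u} B)
    (h : LocCoh.IsPowerTorsion (I.map φ) N) :
    LocCoh.IsPowerTorsion I ((ModuleCat.restrictScalars.{u} φ).obj N) := by
  intro y
  obtain ⟨n, hn⟩ := h y
  refine ⟨n, fun a ha => ?_⟩
  have h1 : φ a ∈ (I.map φ) ^ n := by
    rw [← Ideal.map_pow]
    exact Ideal.mem_map_of_mem φ ha
  exact hn (φ a) h1

end Restrict

section Main

variable {A B : Type u} [CommRing A] [CommRing B] [IsNoetherianRing A] [IsNoetherianRing B]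
  (φ : A →+* B)

/-- `RΓ_I` commutes with restriction of scalars -/
theorem nonempty_RgammaI_restrict_iso (I : Ideal A) [DRing.HasRgammaI I]
    [DRing.HasRgammaI (I.map φ)] (K : Dual.D B) :
    Nonempty ((DRing.restrictD φ).obj ((DRing.RgammaI (I.map φ)).obj K) ≅
      (DRing.RgammaI I).obj ((DRing.restrictD φ).obj K)) := by
  classical
  obtain ⟨s, hs⟩ := (isNoetherianRing_iff_ideal_fg A).mp inferInstance I
  obtain ⟨fs, hfs⟩ : ∃ fs : List A, Ideal.span {x : A | x ∈ fs} = I := by
    refine ⟨s.toList, ?_⟩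
    rw [← hs]
    congr 1
    ext x
    simp
  let ps : List (B × A) := fs.map (fun f => (φ f, f))
  have hps : ∀ p ∈ ps, ∃ f ∈ fs, p = (φ f, f) := by
    intro p hp
    obtain ⟨f, hf, rfl⟩ := List.mem_map.mp hp
    exact ⟨f, hf, rfl⟩
  have hgs : Ideal.span {x : B | x ∈ ps.map Prod.fst} = I.map φ := by
    rw [← hfs, Ideal.map_span]
    congr 1
    ext x
    simp only [Set.mem_ofPred_eq, List.mem_map, Set.mem_image, ps]
    constructor
    · rintro ⟨p, ⟨f, hf, rfl⟩, rfl⟩
      exact ⟨f, hf, rfl⟩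
    · rintro ⟨f, hf, rfl⟩
      exact ⟨(φ f, f), ⟨f, hf, rfl⟩, rfl⟩
  have hF : ∀ p ∈ ps, ∀ W : Dual.D B, FLocal p.1 W → FLocal p.2 ((DRing.restrictD φ).obj W) := by
    intro p hp W hW
    obtain ⟨f, hf, rfl⟩ := hps p hp
    exact fLocal_restrict φ f W hW
  obtain ⟨X, hX, ⟨e⟩⟩ := exists_kprojective_iso K
  haveI := hX
  obtain ⟨ε, hε⟩ := exists_counit_extCech_functor (DRing.restrictD φ) ps hF X
  obtain ⟨c⟩ := cech_formula (ps.map Prod.fst) (I.map φ) hgs X
  generalize Q.obj (X ⊗ extCech (ModuleCat.of B B) (ps.map Prod.fst)) = T at ε hε c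
  -- cohomology of `T` restricted to `A` is `I`-power torsion
  have hTt : ∀ i : ℤ, LocCoh.IsPowerTorsion I (Dual.HD A ((DRing.restrictD φ).obj T) i) := by
    intro i
    have h1 : LocCoh.IsPowerTorsion (I.map φ) (Dual.HD B T i) :=
      isPowerTorsion_of_iso (I.map φ) ((homologyFunctor (ModuleCat.{u} B) i).mapIso c)
        (isPowerTorsion_HD_RgammaI (I.map φ) (Q.obj X) i)
    exact isPowerTorsion_of_iso I (Groth.Agent.Helper11.DC.homologyRestrictIso φ T i)
      (isPowerTorsion_restrict φ I _ h1)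
  let Y := (DRing.restrictD φ).obj (Q.obj X)
  have hRt := isPowerTorsion_HD_RgammaI I Y
  obtain ⟨g, hg⟩ := (bijective_comp_ε I _ Y hTt).2 ((DRing.restrictD φ).map ε)
  have hg' : g ≫ (DRing.RgammaIε I).app Y = (DRing.restrictD φ).map ε := hg
  haveI : IsIso g := by
    refine isIso_of_bijective_comp
      (fun L : Dual.D A => ∀ i : ℤ, LocCoh.IsPowerTorsion I (Dual.HD A L i)) g hTt hRt ?_
    intro L hL
    have b1 := hε L (fun p hp => by
      obtain ⟨f, hf, rfl⟩ := hps p hp
      exact lOrth_of_isPowerTorsion I f (hfs ▸ Ideal.subset_span hf) L hL)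
    have b2 := bijective_comp_ε I L Y hL
    have hsq : (fun ψ : L ⟶ (DRing.RgammaI I).obj Y => ψ ≫ (DRing.RgammaIε I).app Y) ∘
        (fun ψ : L ⟶ (DRing.restrictD φ).obj T => ψ ≫ g) =
        (fun ψ : L ⟶ (DRing.restrictD φ).obj T => ψ ≫ (DRing.restrictD φ).map ε) := by
      funext ψ
      show (ψ ≫ g) ≫ (DRing.RgammaIε I).app Y = ψ ≫ (DRing.restrictD φ).map ε
      rw [Category.assoc, hg']
    have h4 : Function.Bijective
        ((fun ψ : L ⟶ (DRing.RgammaI I).obj Y => ψ ≫ (DRing.RgammaIε I).app Y) ∘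
        (fun ψ : L ⟶ (DRing.restrictD φ).obj T => ψ ≫ g)) := by
      rw [hsq]
      exact b1
    exact (Function.Bijective.of_comp_iff' b2 _).mp h4
  exact ⟨(DRing.restrictD φ).mapIso ((DRing.RgammaI (I.map φ)).mapIso e.symm ≪≫ c.symm) ≪≫
    asIso g ≪≫ (DRing.RgammaI I).mapIso ((DRing.restrictD φ).mapIso e)⟩

/-- **local cohomology and restriction of scalars** -/
theorem nonempty_HDI_restrict_iso (I : Ideal A) (K : Dual.D B) (i : ℤ) :
    Nonempty (Dual2.HDI A I ((DRing.restrictD φ).obj K) i ≅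
      (ModuleCat.restrictScalars φ).obj (Dual2.HDI B (I.map φ) K i)) := by
  haveI : DRing.HasRgammaI I := Groth.Agent.Helper11.KI.hasRightDerivedFunctor (DRing.gammaIKh I)
  haveI : DRing.HasRgammaI (I.map φ) :=
    Groth.Agent.Helper11.KI.hasRightDerivedFunctor (DRing.gammaIKh (I.map φ))
  obtain ⟨c⟩ := nonempty_RgammaI_restrict_iso φ I K
  obtain ⟨e1⟩ := Groth.Agent.Helper11.HDIeq.nonempty_equiv I ((DRing.restrictD φ).obj K) i
  obtain ⟨e2⟩ := Groth.Agent.Helper11.HDIeq.nonempty_equiv (I.map φ) K i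
  let e3 : Dual.HD A ((DRing.RgammaI I).obj ((DRing.restrictD φ).obj K)) i ≃ₗ[A]
      Dual.HD A ((DRing.restrictD φ).obj ((DRing.RgammaI (I.map φ)).obj K)) i :=
    ((homologyFunctor (ModuleCat.{u} A) i).mapIso c.symm).toLinearEquiv
  let e4 : Dual.HD A ((DRing.restrictD φ).obj ((DRing.RgammaI (I.map φ)).obj K)) i ≃ₗ[A]
      ((ModuleCat.restrictScalars.{u} φ).obj
        ((homologyFunctor (ModuleCat.{u} B) i).obj ((DRing.RgammaI (I.map φ)).obj K))) :=
    (Groth.Agent.Helper11.DC.homologyRestrictIso φ _ i).toLinearEquiv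
  let e5 := restrictEquiv φ e2
  exact ⟨(e1.symm.trans (e3.trans (e4.trans e5))).toModuleIso⟩

end Main

end Groth.Agent.Helper11.CechF
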