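import Groth.Agent.Lib.Helper11.Shr2

/-!
# Base change of restriction of scalars along a cocartesian square of surjections (helper11)

Given a commutative square of rings `ψ' ∘ β = α ∘ ψ` with `ψ`, `ψ'` surjective and
`ker ψ' = (ker ψ) P'`, the natural map `P' ⊗_P M → A' ⊗_A M` is an isomorphism for every
`A`-module `M`.  We deduce the corresponding isomorphism of functors on derived categories when
`α` and `β` are flat.
-/

set_option autoImplicit false
set_option linter.unusedSectionVars false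
set_option linter.unusedVariables false
set_option linter.style.haveILetI false

open CategoryTheory CategoryTheory.Limits

universe u

namespace Groth.Agent.Helper11.Shr

open Groth.Agent.Helper11.TorsBC

section BCmod

open TensorProduct

variable {P P' A A' : Type u} [CommRing P] [CommRing P'] [CommRing A] [CommRing A']

/-- the identity `M → M`, landing in the restriction of scalars -/
def toR (ψ : P →+* A) (M : ModuleCat.{u} A) (m : M) : (Rs ψ).obj M := m

/-- the identity `M → M`, starting from the restriction of scalars -/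
def ofR (ψ : P →+* A) (M : ModuleCat.{u} A) (m : (Rs ψ).obj M) : M := m

variable (β : P →+* P') (ψ : P →+* A) (ψ' : P' →+* A') (α : A →+* A')

theorem ofR_toR (M : ModuleCat.{u} A) (m : M) : ofR ψ M (toR ψ M m) = m := rfl

theorem toR_ofR (M : ModuleCat.{u} A) (m : (Rs ψ).obj M) : toR ψ M (ofR ψ M m) = m := rfl

theorem ofR_add (M : ModuleCat.{u} A) (a b : (Rs ψ).obj M) :
    ofR ψ M (a + b) = ofR ψ M a + ofR ψ M b := rfl

theorem ofR_zero (M : ModuleCat.{u} A) : ofR ψ M 0 = 0 := rfl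

theorem toR_add (M : ModuleCat.{u} A) (a b : M) :
    toR ψ M (a + b) = toR ψ M a + toR ψ M b := rfl

theorem toR_zero (M : ModuleCat.{u} A) : toR ψ M 0 = 0 := rfl

theorem ofR_smul (M : ModuleCat.{u} A) (p : P) (m : (Rs ψ).obj M) :
    ofR ψ M (p • m) = ψ p • ofR ψ M m := rfl

theorem toR_smul (M : ModuleCat.{u} A) (p : P) (m : M) :
    toR ψ M (ψ p • m) = p • toR ψ M m := rfl

theorem pt_zero_left (ι : P →+* P') (M : ModuleCat.{u} P) (m : M) : pt ι M 0 m = 0 :=
  TensorProduct.zero_tmul _ m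

theorem toTι_zero (ι : P →+* P') : toTι ι (0 : P') = 0 := rfl

variable (hsq : ψ'.comp β = α.comp ψ)

include hsq in
theorem sq_apply (p : P) : ψ' (β p) = α (ψ p) := RingHom.congr_fun hsq p

/-- `x ↦ (m ↦ ψ' x ⊗ m)` -/
noncomputable def lamAux (M : ModuleCat.{u} A) : Tι β →+ ((Rs ψ).obj M →+ (Es α).obj M) where
  toFun x :=
    { toFun := fun m => pt α M (toTι α (ψ' (ofTι β x))) (ofR ψ M m)
      map_zero' := pt_zero_right (ι := α) M _
      map_add' := fun m m' => pt_add_right (ι := α) M _ (ofR ψ M m) (ofR ψ M m') }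
  map_zero' := by
    ext m
    show pt α M (toTι α (ψ' (0 : P'))) (ofR ψ M m) = 0
    rw [map_zero]
    exact pt_zero_left α M _
  map_add' x y := by
    ext m
    show pt α M (toTι α (ψ' (ofTι β x + ofTι β y))) (ofR ψ M m) =
      pt α M (toTι α (ψ' (ofTι β x))) (ofR ψ M m) + pt α M (toTι α (ψ' (ofTι β y))) (ofR ψ M m)
    rw [map_add, toTι_add, pt_add_left]

include hsq in
theorem lamAux_smul (M : ModuleCat.{u} A) (p : P) (x : Tι β) (m : (Rs ψ).obj M) :
    lamAux β ψ ψ' α M (p • x) m = lamAux β ψ ψ' α M x (p • m) := by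
  show pt α M (toTι α (ψ' (ofTι β (p • x)))) (ofR ψ M m) =
    pt α M (toTι α (ψ' (ofTι β x))) (ofR ψ M (p • m))
  rw [ofTι_smul, map_mul, sq_apply β ψ ψ' α hsq, ofR_smul, ← pt_smul, smul_toTι]

/-- the comparison map `P' ⊗_P M → A' ⊗_A M` as a function -/
noncomputable def lamFun (M : ModuleCat.{u} A) (z : (Es β).obj ((Rs ψ).obj M)) : (Es α).obj M :=
  TensorProduct.liftAddHom (lamAux β ψ ψ' α M) (lamAux_smul β ψ ψ' α hsq M) z

theorem lamFun_pt (M : ModuleCat.{u} A) (x : Tι β) (m : (Rs ψ).obj M) :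
    lamFun β ψ ψ' α hsq M (pt β ((Rs ψ).obj M) x m) =
      pt α M (toTι α (ψ' (ofTι β x))) (ofR ψ M m) := rfl

theorem lamFun_add (M : ModuleCat.{u} A) (a b : (Es β).obj ((Rs ψ).obj M)) :
    lamFun β ψ ψ' α hsq M (a + b) = lamFun β ψ ψ' α hsq M a + lamFun β ψ ψ' α hsq M b :=
  map_add (TensorProduct.liftAddHom (lamAux β ψ ψ' α M) (lamAux_smul β ψ ψ' α hsq M)) _ _

theorem lamFun_zero (M : ModuleCat.{u} A) : lamFun β ψ ψ' α hsq M 0 = 0 :=
  map_zero (TensorProduct.liftAddHom (lamAux β ψ ψ' α M) (lamAux_smul β ψ ψ' α hsq M))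

theorem lamFun_smul (M : ModuleCat.{u} A) (τ : P') (z : (Es β).obj ((Rs ψ).obj M)) :
    lamFun β ψ ψ' α hsq M (τ • z) = ψ' τ • lamFun β ψ ψ' α hsq M z := by
  refine es_induction
    (P := fun z => lamFun β ψ ψ' α hsq M (τ • z) = ψ' τ • lamFun β ψ ψ' α hsq M z) z ?_ ?_ ?_
  · rw [smul_zero, lamFun_zero, smul_zero]
  · intro x m
    rw [smul_pt, lamFun_pt, lamFun_pt, ofTι_toTι, map_mul, smul_pt, ofTι_toTι]
  · intro a b ha hb
    rw [smul_add, lamFun_add, lamFun_add, ha, hb, smul_add]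

/-- the comparison `P' ⊗_P M → A' ⊗_A M` -/
noncomputable def lam : Rs ψ ⋙ Es β ⟶ Es α ⋙ Rs ψ' where
  app M := ModuleCat.ofHom (X := (Es β).obj ((Rs ψ).obj M)) (Y := (Rs ψ').obj ((Es α).obj M))
    { toFun := fun z => lamFun β ψ ψ' α hsq M z
      map_add' := fun a b => lamFun_add β ψ ψ' α hsq M a b
      map_smul' := fun τ z => lamFun_smul β ψ ψ' α hsq M τ z }
  naturality M M' f := by
    ext z
    show lamFun β ψ ψ' α hsq M' (((Es β).map ((Rs ψ).map f)).hom z) =
      ((Es α).map f).hom (lamFun β ψ ψ' α hsq M z)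
    refine es_induction
      (P := fun z => lamFun β ψ ψ' α hsq M' (((Es β).map ((Rs ψ).map f)).hom z) =
        ((Es α).map f).hom (lamFun β ψ ψ' α hsq M z)) z ?_ ?_ ?_
    · rw [map_zero, lamFun_zero, lamFun_zero, map_zero]
    · intro x m
      have h1 : ((Es β).map ((Rs ψ).map f)).hom (pt β ((Rs ψ).obj M) x m) =
          pt β ((Rs ψ).obj M') x (((Rs ψ).map f).hom m) := rfl
      have h2 : ((Es α).map f).hom (pt α M (toTι α (ψ' (ofTι β x))) (ofR ψ M m)) =
          pt α M' (toTι α (ψ' (ofTι β x))) (f.hom (ofR ψ M m)) := rfl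
      rw [h1, lamFun_pt, lamFun_pt, h2]
      rfl
    · intro a b ha hb
      rw [map_add, lamFun_add, lamFun_add, ha, hb, map_add]

theorem lam_app_apply (M : ModuleCat.{u} A) (z : (Es β).obj ((Rs ψ).obj M)) :
    ((lam β ψ ψ' α hsq).app M).hom z = lamFun β ψ ψ' α hsq M z := rfl

theorem pt_eq_zero_of_mem (M : ModuleCat.{u} A) (j : P')
    (hj : j ∈ Ideal.map β (RingHom.ker ψ)) :
    ∀ m : (Rs ψ).obj M, pt β ((Rs ψ).obj M) (toTι β j) m = 0 := by
  refine Submodule.span_induction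
    (p := fun j _ => ∀ m : (Rs ψ).obj M, pt β ((Rs ψ).obj M) (toTι β j) m = 0) ?_ ?_ ?_ ?_ hj
  · rintro _ ⟨i, hi, rfl⟩ m
    have h1 : toTι β (β i) = i • toTι β (1 : P') := by
      rw [smul_toTι, mul_one]
    have hi' : ψ i = 0 := (RingHom.mem_ker).mp hi
    have h2 : i • m = 0 := by
      have h3 : i • m = toR ψ M (ψ i • ofR ψ M m) := rfl
      rw [h3, hi', zero_smul]
      rfl
    rw [h1, pt_smul, h2, pt_zero_right]
  · intro m
    exact pt_zero_left β _ m
  · intro a b _ _ ha hb m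
    rw [toTι_add, pt_add_left, ha m, hb m, add_zero]
  · intro r a _ ha m
    have h1 : toTι β (r • a) = toTι β (r * ofTι β (toTι β a)) := rfl
    rw [h1, ← smul_pt, ha m, smul_zero]

variable (hker : RingHom.ker ψ' = Ideal.map β (RingHom.ker ψ))

include hker in
theorem pt_eq_of_map_eq (M : ModuleCat.{u} A) (a b : P') (hab : ψ' a = ψ' b)
    (m : (Rs ψ).obj M) :
    pt β ((Rs ψ).obj M) (toTι β a) m = pt β ((Rs ψ).obj M) (toTι β b) m := by
  have hmem : a - b ∈ Ideal.map β (RingHom.ker ψ) := by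
    rw [← hker, RingHom.mem_ker, map_sub, hab, sub_self]
  have h1 : toTι β a = toTι β (a - b) + toTι β b := by
    rw [← toTι_add, sub_add_cancel]
  rw [h1, pt_add_left, pt_eq_zero_of_mem β ψ M (a - b) hmem m, zero_add]

variable (hψ : Function.Surjective ψ) (hψ' : Function.Surjective ψ')

/-- a set-theoretic section of `ψ'` -/
noncomputable def sec' (y : A') : P' := Function.surjInv hψ' y

theorem sec'_spec (y : A') : ψ' (sec' ψ' hψ' y) = y := Function.surjInv_eq hψ' y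

/-- `y ↦ (m ↦ s y ⊗ m)` -/
noncomputable def muAux (M : ModuleCat.{u} A) :
    Tι α →+ (M →+ (Es β).obj ((Rs ψ).obj M)) where
  toFun y :=
    { toFun := fun m => pt β ((Rs ψ).obj M) (toTι β (sec' ψ' hψ' (ofTι α y))) (toR ψ M m)
      map_zero' := pt_zero_right (ι := β) _ _
      map_add' := fun m m' => pt_add_right (ι := β) _ _ (toR ψ M m) (toR ψ M m') }
  map_zero' := by
    ext m
    show pt β ((Rs ψ).obj M) (toTι β (sec' ψ' hψ' 0)) (toR ψ M m) = 0
    rw [pt_eq_of_map_eq β ψ ψ' hker M (sec' ψ' hψ' 0) 0 (by rw [sec'_spec, map_zero])]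
    exact pt_zero_left β _ _
  map_add' y y' := by
    ext m
    show pt β ((Rs ψ).obj M) (toTι β (sec' ψ' hψ' (ofTι α y + ofTι α y'))) (toR ψ M m) =
      pt β ((Rs ψ).obj M) (toTι β (sec' ψ' hψ' (ofTι α y))) (toR ψ M m) +
        pt β ((Rs ψ).obj M) (toTι β (sec' ψ' hψ' (ofTι α y'))) (toR ψ M m)
    rw [pt_eq_of_map_eq β ψ ψ' hker M _
      (sec' ψ' hψ' (ofTι α y) + sec' ψ' hψ' (ofTι α y'))
      (by rw [sec'_spec, map_add, sec'_spec, sec'_spec]), toTι_add, pt_add_left]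

include hsq hψ in
theorem muAux_smul (M : ModuleCat.{u} A) (a : A) (y : Tι α) (m : M) :
    muAux β ψ ψ' α hker hψ' M (a • y) m = muAux β ψ ψ' α hker hψ' M y (a • m) := by
  obtain ⟨p, rfl⟩ := hψ a
  show pt β ((Rs ψ).obj M) (toTι β (sec' ψ' hψ' (ofTι α (ψ p • y)))) (toR ψ M m) =
    pt β ((Rs ψ).obj M) (toTι β (sec' ψ' hψ' (ofTι α y))) (toR ψ M (ψ p • m))
  rw [toR_smul, ← pt_smul, smul_toTι]
  apply pt_eq_of_map_eq β ψ ψ' hker
  rw [sec'_spec, ofTι_smul, map_mul, sec'_spec, sq_apply β ψ ψ' α hsq]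

/-- the inverse comparison map as a function -/
noncomputable def muFun (M : ModuleCat.{u} A) (w : (Es α).obj M) : (Es β).obj ((Rs ψ).obj M) :=
  TensorProduct.liftAddHom (muAux β ψ ψ' α hker hψ' M) (muAux_smul β ψ ψ' α hsq hker hψ hψ' M) w

theorem muFun_pt (M : ModuleCat.{u} A) (y : Tι α) (m : M) :
    muFun β ψ ψ' α hsq hker hψ hψ' M (pt α M y m) =
      pt β ((Rs ψ).obj M) (toTι β (sec' ψ' hψ' (ofTι α y))) (toR ψ M m) := rfl

theorem muFun_add (M : ModuleCat.{u} A) (a b : (Es α).obj M) :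
    muFun β ψ ψ' α hsq hker hψ hψ' M (a + b) =
      muFun β ψ ψ' α hsq hker hψ hψ' M a + muFun β ψ ψ' α hsq hker hψ hψ' M b :=
  map_add (TensorProduct.liftAddHom (muAux β ψ ψ' α hker hψ' M)
    (muAux_smul β ψ ψ' α hsq hker hψ hψ' M)) _ _

theorem muFun_zero (M : ModuleCat.{u} A) : muFun β ψ ψ' α hsq hker hψ hψ' M 0 = 0 :=
  map_zero (TensorProduct.liftAddHom (muAux β ψ ψ' α hker hψ' M)
    (muAux_smul β ψ ψ' α hsq hker hψ hψ' M))

theorem muFun_lamFun (M : ModuleCat.{u} A) (z : (Es β).obj ((Rs ψ).obj M)) :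
    muFun β ψ ψ' α hsq hker hψ hψ' M (lamFun β ψ ψ' α hsq M z) = z := by
  refine es_induction
    (P := fun z => muFun β ψ ψ' α hsq hker hψ hψ' M (lamFun β ψ ψ' α hsq M z) = z) z ?_ ?_ ?_
  · rw [lamFun_zero, muFun_zero]
  · intro x m
    rw [lamFun_pt, muFun_pt, ofTι_toTι, toR_ofR]
    exact pt_eq_of_map_eq β ψ ψ' hker M _ (ofTι β x) (sec'_spec ψ' hψ' _) m
  · intro a b ha hb
    rw [lamFun_add, muFun_add, ha, hb]

include hker hψ hψ' in
theorem lamFun_injective (M : ModuleCat.{u} A) :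
    Function.Injective (lamFun β ψ ψ' α hsq M) :=
  Function.LeftInverse.injective (muFun_lamFun β ψ ψ' α hsq hker hψ hψ' M)

include hψ' in
theorem lamFun_surjective (M : ModuleCat.{u} A) :
    Function.Surjective (lamFun β ψ ψ' α hsq M) := by
  intro w
  refine es_induction (P := fun w => ∃ z, lamFun β ψ ψ' α hsq M z = w) w
    ⟨0, lamFun_zero β ψ ψ' α hsq M⟩ ?_ ?_
  · intro y m
    obtain ⟨x, hx⟩ := hψ' (ofTι α y)
    refine ⟨pt β ((Rs ψ).obj M) (toTι β x) (toR ψ M m), ?_⟩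
    rw [lamFun_pt, ofTι_toTι, hx, ofR_toR, toTι_ofTι]
  · rintro a b ⟨za, rfl⟩ ⟨zb, rfl⟩
    exact ⟨za + zb, lamFun_add β ψ ψ' α hsq M za zb⟩

include hker hψ hψ' in
theorem isIso_lam_app (M : ModuleCat.{u} A) : IsIso ((lam β ψ ψ' α hsq).app M) := by
  rw [ConcreteCategory.isIso_iff_bijective]
  exact ⟨lamFun_injective β ψ ψ' α hsq hker hψ hψ' M, lamFun_surjective β ψ ψ' α hsq hψ' M⟩

/-- the base change isomorphism `P' ⊗_P M ≅ A' ⊗_A M` -/
noncomputable def lamIso : Rs ψ ⋙ Es β ≅ Es α ⋙ Rs ψ' :=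
  haveI : ∀ M, IsIso ((lam β ψ ψ' α hsq).app M) := isIso_lam_app β ψ ψ' α hsq hker hψ hψ'
  NatIso.ofComponents (fun M => asIso ((lam β ψ ψ' α hsq).app M))
    (fun f => (lam β ψ ψ' α hsq).naturality f)

end BCmod

section BCder

open DerivedCategory

attribute [local instance] HasDerivedCategory.standard

variable {P P' A A' : Type u} [CommRing P] [CommRing P'] [CommRing A] [CommRing A']
  (β : P →+* P') (ψ : P →+* A) (ψ' : P' →+* A') (α : A →+* A')
  (hsq : ψ'.comp β = α.comp ψ) (hker : RingHom.ker ψ' = Ideal.map β (RingHom.ker ψ))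
  (hψ : Function.Surjective ψ) (hψ' : Function.Surjective ψ')
  [PreservesFiniteLimits (Es β)] [PreservesFiniteLimits (Es α)]

/-- derived base change commutes with restriction of scalars along a cocartesian square -/
noncomputable def thetaIso : Gd α ⋙ resD ψ' ≅ resD ψ ⋙ Gd β :=
  (mapDComp (Es α) (Rs ψ') (Es α ⋙ Rs ψ') (Iso.refl _)).symm ≪≫
    mapDComp (Rs ψ) (Es β) (Es α ⋙ Rs ψ') (lamIso β ψ ψ' α hsq hker hψ hψ')

end BCder

end Groth.Agent.Helper11.Shr
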