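import Groth.Agent.Lib.Helper11.Shr6
import Groth.Agent.Lib.Helper11.Shr7
import Groth.Agent.Lib.Helper8.FBC5
import Groth.Agent.Lib.Helper8.RFin3
import Groth.Agent.Lib.Helper8.DFin2

/-!
# Flat base change for the right adjoint of restriction of scalars (helper11)

For a cocartesian square of rings `ψ' ∘ β = α ∘ ψ` with `ψ`, `ψ'` surjective, `α`, `β` flat and
`P`, `A` noetherian, the right adjoints `G`, `G'` of restriction along `ψ`, `ψ'` satisfy
`(G N) ⊗_A A' ≅ G' (N ⊗_P P')` for `N` bounded below.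
-/

set_option autoImplicit false
set_option linter.unusedSectionVars false
set_option linter.unusedVariables false
set_option linter.style.haveILetI false

open CategoryTheory CategoryTheory.Limits DerivedCategory Pretriangulated TensorProduct

attribute [local instance] HasDerivedCategory.standard

universe u

namespace Groth.Agent.Helper11.Shr

open Groth.Agent.Helper8.LOC Groth.Agent.Helper8.FBC Groth.Agent.Helper8.DFin

section Prelim

variable {P A : Type u} [CommRing P] [CommRing A] (ψ : P →+* A)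

theorem finite_restrict (hψ : Function.Surjective ψ) (M : ModuleCat.{u} A) [Module.Finite A M] :
    Module.Finite P ((Rfun ψ).obj M) := by
  letI : Algebra P A := ψ.toAlgebra
  haveI : IsScalarTower P A ((Rfun ψ).obj M) := ⟨fun p a m => mul_smul (ψ p) a m⟩
  haveI : Module.Finite P A := Module.Finite.of_surjective (Algebra.linearMap P A) hψ
  haveI : Module.Finite A ((Rfun ψ).obj M) := ‹Module.Finite A M›
  exact Module.Finite.trans A _

/-- cohomology commutes with restriction of scalars -/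
noncomputable def homologyResIso (V : Dual.D A) (j : ℤ) :
    (homologyFunctor (ModuleCat.{u} P) j).obj ((Rd ψ).obj V) ≅
      (Rfun ψ).obj ((homologyFunctor (ModuleCat.{u} A) j).obj V) :=
  (homologyFunctor (ModuleCat.{u} P) j).mapIso ((Rd ψ).mapIso (Q.objObjPreimageIso V).symm) ≪≫
    (Groth.Agent.Helper11.DC.qMapDerivedHomologyIso (Rfun ψ) j).app (Q.objPreimage V) ≪≫
    (Rfun ψ).mapIso ((homologyFunctor (ModuleCat.{u} A) j).mapIso (Q.objObjPreimageIso V))

theorem isZero_homology_resD (V : Dual.D A) (j : ℤ)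
    (h : IsZero ((homologyFunctor (ModuleCat.{u} A) j).obj V)) :
    IsZero ((homologyFunctor (ModuleCat.{u} P) j).obj ((Rd ψ).obj V)) :=
  ((Rfun ψ).map_isZero h).of_iso (homologyResIso ψ V j)

theorem bddFinCoh_resD (hψ : Function.Surjective ψ) (V : Dual.D A) (hV : BddFinCoh V) :
    BddFinCoh ((Rd ψ).obj V) := by
  obtain ⟨⟨a, b, hab⟩, hf⟩ := hV
  refine ⟨⟨a, b, fun i hi => isZero_homology_resD ψ V i (hab i hi)⟩, fun i => ?_⟩
  haveI := hf i
  haveI := finite_restrict ψ hψ ((homologyFunctor (ModuleCat.{u} A) i).obj V)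
  exact Module.Finite.equiv (homologyResIso ψ V i).symm.toLinearEquiv

theorem bddFinCoh_shift (K : Dual.D A) (h : BddFinCoh K) (j : ℤ) : BddFinCoh (K⟦j⟧) := by
  obtain ⟨⟨a, b, hab⟩, hf⟩ := h
  refine ⟨⟨a - j, b - j, fun i hi => ?_⟩, fun i => ?_⟩
  · exact (hab (j + i) (by omega)).of_iso (Groth.Agent.Helper8.RFin.sigma' K j i (j + i) rfl)
  · have := hf (j + i)
    exact Module.Finite.equiv
      (Groth.Agent.Helper8.RFin.sigma' K j i (j + i) rfl).symm.toLinearEquiv

theorem hom_eq_zero_of_bounds {X Y : Dual.D P} (n₀ n₁ : ℤ) (h : n₀ < n₁)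
    (hX : ∀ i : ℤ, n₀ < i → IsZero ((homologyFunctor (ModuleCat.{u} P) i).obj X))
    (hY : ∀ i : ℤ, i < n₁ → IsZero ((homologyFunctor (ModuleCat.{u} P) i).obj Y))
    (f : X ⟶ Y) : f = 0 := by
  have h1 : X.IsLE n₀ := by
    rw [isLE_iff]
    exact fun i hi => hX i hi
  have h2 : Y.IsGE n₁ := by
    rw [isGE_iff]
    exact fun i hi => hY i hi
  exact TStructure.t.zero_of_isLE_of_isGE f n₀ n₁ h h1 h2

variable (G : Dual.D P ⥤ Dual.D A) (adj : Rd ψ ⊣ G)

theorem homEquiv_symm_smul (V : Dual.D A) (N : Dual.D P) (p : P) (h : V ⟶ G.obj N) :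
    (adj.homEquiv V N).symm (ψ p • h) = p • (adj.homEquiv V N).symm h := by
  rw [adj.homEquiv_counit, adj.homEquiv_counit, Rd_map_smul, Linear.smul_comp]

theorem homEquiv_smul (V : Dual.D A) (N : Dual.D P) (p : P) (g : (Rd ψ).obj V ⟶ N) :
    adj.homEquiv V N (p • g) = ψ p • adj.homEquiv V N g := by
  apply (adj.homEquiv V N).symm.injective
  rw [homEquiv_symm_smul, Equiv.symm_apply_apply, Equiv.symm_apply_apply]

include adj in
/-- the right adjoint of restriction preserves bounded below objects -/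
theorem isZero_homology_rightAdj (N : Dual.D P) (c : ℤ)
    (hN : ∀ j : ℤ, j < c → IsZero ((homologyFunctor (ModuleCat.{u} P) j).obj N)) :
    ∀ j : ℤ, j < c → IsZero ((homologyFunctor (ModuleCat.{u} A) j).obj (G.obj N)) := by
  intro j hj
  have hs : Subsingleton (Dual.inD A A ⟶ (G.obj N)⟦j⟧) := by
    apply DCP.subsingleton_shift_of_neg
    have key : ∀ w : (Rd ψ).obj ((Dual.inD A A)⟦-j⟧) ⟶ N, w = 0 := fun w => by
      refine hom_eq_zero_of_bounds j c hj (fun i hi => ?_) hN w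
      apply isZero_homology_resD
      refine IsZero.of_iso ?_ (Groth.Agent.Helper8.RFin.sigma' (Dual.inD A A) (-j) i (-j + i) rfl)
      exact ((DerivedCategory.singleFunctor (ModuleCat.{u} A) 0).obj
        (ModuleCat.of A A)).isZero_of_isLE 0 (-j + i) (by omega)
    refine ⟨fun u v => ?_⟩
    apply (adj.homEquiv _ _).symm.injective
    rw [key ((adj.homEquiv _ _).symm u), key ((adj.homEquiv _ _).symm v)]
  have hs' : Subsingleton (Dual.HD A (G.obj N) j) :=
    (Groth.Agent.Helper8.LD.homSelfEquiv (G.obj N) j).symm.toEquiv.subsingleton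
  exact ModuleCat.isZero_of_subsingleton _

end Prelim

section Main

variable {P P' A A' : Type u} [CommRing P] [CommRing P'] [CommRing A] [CommRing A']
  [Algebra P P'] [Algebra A A'] (ψ : P →+* A) (ψ' : P' →+* A')
  [PreservesFiniteLimits (Efun (algebraMap P P'))]
  [PreservesFiniteLimits (Efun (algebraMap A A'))]
  (θ : Ld (algebraMap A A') ⋙ Rd ψ' ≅ Rd ψ ⋙ Ld (algebraMap P P'))
  (G : Dual.D P ⥤ Dual.D A) (adj : Rd ψ ⊣ G) (G' : Dual.D P' ⥤ Dual.D A') (adj' : Rd ψ' ⊣ G')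

/-- the base change morphism `(G N) ⊗ A' ⟶ G' (N ⊗ P')` -/
noncomputable def cmp (N : Dual.D P) :
    (Ld (algebraMap A A')).obj (G.obj N) ⟶ G'.obj ((Ld (algebraMap P P')).obj N) :=
  adj'.homEquiv _ _ (θ.hom.app (G.obj N) ≫ (Ld (algebraMap P P')).map (adj.counit.app N))

theorem symm_smul_comp_cmp (N : Dual.D P) (V : Dual.D A) (p' : P') (f : V ⟶ G.obj N) :
    (adj'.homEquiv _ _).symm
        ((ψ' p' • (Ld (algebraMap A A')).map f) ≫ cmp ψ ψ' θ G adj G' adj' N) =
      θ.hom.app V ≫ (p' • (Ld (algebraMap P P')).map ((adj.homEquiv V N).symm f)) := by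
  have h1 : (Rd ψ').map (cmp ψ ψ' θ G adj G' adj' N) ≫
        adj'.counit.app ((Ld (algebraMap P P')).obj N) =
      θ.hom.app (G.obj N) ≫ (Ld (algebraMap P P')).map (adj.counit.app N) :=
    (adj'.homEquiv_counit _ _ _).symm.trans ((adj'.homEquiv _ _).symm_apply_apply _)
  have h2 : (Rd ψ').map ((Ld (algebraMap A A')).map f) ≫ θ.hom.app (G.obj N) =
      θ.hom.app V ≫ (Ld (algebraMap P P')).map ((Rd ψ).map f) := θ.hom.naturality f
  have h3 : (Rd ψ).map f ≫ adj.counit.app N = (adj.homEquiv V N).symm f :=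
    (adj.homEquiv_counit V N f).symm
  calc (adj'.homEquiv _ _).symm
        ((ψ' p' • (Ld (algebraMap A A')).map f) ≫ cmp ψ ψ' θ G adj G' adj' N)
      = (Rd ψ').map ((ψ' p' • (Ld (algebraMap A A')).map f) ≫ cmp ψ ψ' θ G adj G' adj' N) ≫
          adj'.counit.app ((Ld (algebraMap P P')).obj N) := adj'.homEquiv_counit _ _ _
    _ = (Rd ψ').map (ψ' p' • (Ld (algebraMap A A')).map f) ≫
          ((Rd ψ').map (cmp ψ ψ' θ G adj G' adj' N) ≫
            adj'.counit.app ((Ld (algebraMap P P')).obj N)) := by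
        rw [Functor.map_comp, Category.assoc]
    _ = (p' • (Rd ψ').map ((Ld (algebraMap A A')).map f)) ≫
          (θ.hom.app (G.obj N) ≫ (Ld (algebraMap P P')).map (adj.counit.app N)) := by
        rw [h1, Rd_map_smul]
    _ = p' • (((Rd ψ').map ((Ld (algebraMap A A')).map f) ≫ θ.hom.app (G.obj N)) ≫
          (Ld (algebraMap P P')).map (adj.counit.app N)) := by
        rw [Linear.smul_comp, Category.assoc]
    _ = p' • ((θ.hom.app V ≫ (Ld (algebraMap P P')).map ((Rd ψ).map f)) ≫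
          (Ld (algebraMap P P')).map (adj.counit.app N)) := by rw [h2]
    _ = p' • (θ.hom.app V ≫
          (Ld (algebraMap P P')).map ((Rd ψ).map f ≫ adj.counit.app N)) := by
        rw [Category.assoc, Functor.map_comp]
    _ = p' • (θ.hom.app V ≫
          (Ld (algebraMap P P')).map ((adj.homEquiv V N).symm f)) := by rw [h3]
    _ = θ.hom.app V ≫ (p' • (Ld (algebraMap P P')).map ((adj.homEquiv V N).symm f)) :=
        (Linear.comp_smul _ _ _ _ _ _).symm

variable (hsq : ψ'.comp (algebraMap P P') = (algebraMap A A').comp ψ)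

/-- `p' ↦ (g ↦ ψ' p' ⊗ g^♯)` -/
noncomputable def tauAux (V : Dual.D A) (N : Dual.D P) :
    P' →+ (((Rd ψ).obj V ⟶ N) →+ A' ⊗[A] (V ⟶ G.obj N)) where
  toFun p' :=
    { toFun := fun g => ψ' p' ⊗ₜ[A] adj.homEquiv V N g
      map_zero' := by
        show ψ' p' ⊗ₜ[A] adj.homEquiv V N 0 = 0
        rw [adj.homAddEquiv_zero, TensorProduct.tmul_zero]
      map_add' := fun g g' => by
        show ψ' p' ⊗ₜ[A] adj.homEquiv V N (g + g') =
          ψ' p' ⊗ₜ[A] adj.homEquiv V N g + ψ' p' ⊗ₜ[A] adj.homEquiv V N g'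
        rw [adj.homAddEquiv_add, TensorProduct.tmul_add] }
  map_zero' := by
    ext g
    show ψ' 0 ⊗ₜ[A] adj.homEquiv V N g = 0
    rw [map_zero, TensorProduct.zero_tmul]
  map_add' x y := by
    ext g
    show ψ' (x + y) ⊗ₜ[A] adj.homEquiv V N g =
      ψ' x ⊗ₜ[A] adj.homEquiv V N g + ψ' y ⊗ₜ[A] adj.homEquiv V N g
    rw [map_add, TensorProduct.add_tmul]

include hsq in
theorem tauAux_smul (V : Dual.D A) (N : Dual.D P) (p : P) (p' : P')
    (g : (Rd ψ).obj V ⟶ N) :
    tauAux ψ ψ' G adj V N (p • p') g = tauAux ψ ψ' G adj V N p' (p • g) := by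
  show ψ' (p • p') ⊗ₜ[A] adj.homEquiv V N g = ψ' p' ⊗ₜ[A] adj.homEquiv V N (p • g)
  have h1 : ψ' (p • p') = ψ p • ψ' p' := by
    rw [Algebra.smul_def, Algebra.smul_def, map_mul]
    congr 1
    exact RingHom.congr_fun hsq p
  rw [h1, homEquiv_smul ψ G adj, TensorProduct.smul_tmul]

/-- `p' ⊗ g ↦ ψ' p' ⊗ g^♯` -/
noncomputable def tau (V : Dual.D A) (N : Dual.D P) :
    P' ⊗[P] ((Rd ψ).obj V ⟶ N) →+ A' ⊗[A] (V ⟶ G.obj N) :=
  TensorProduct.liftAddHom (tauAux ψ ψ' G adj V N) (tauAux_smul ψ ψ' G adj hsq V N)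

theorem tau_tmul (V : Dual.D A) (N : Dual.D P) (p' : P') (g : (Rd ψ).obj V ⟶ N) :
    tau ψ ψ' G adj hsq V N (p' ⊗ₜ[P] g) = ψ' p' ⊗ₜ[A] adj.homEquiv V N g := rfl

theorem tau_surjective (hψ' : Function.Surjective ψ') (V : Dual.D A) (N : Dual.D P) :
    Function.Surjective (tau ψ ψ' G adj hsq V N) := by
  intro w
  induction w using TensorProduct.induction_on with
  | zero => exact ⟨0, map_zero _⟩
  | tmul a' h =>
    obtain ⟨p', rfl⟩ := hψ' a'
    exact ⟨p' ⊗ₜ[P] (adj.homEquiv V N).symm h, by rw [tau_tmul, Equiv.apply_symm_apply]⟩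
  | add x y hx hy =>
    obtain ⟨x', rfl⟩ := hx
    obtain ⟨y', rfl⟩ := hy
    exact ⟨x' + y', map_add _ _ _⟩

theorem xi_phi_psi_tau (V : Dual.D A) (N : Dual.D P) (t : P' ⊗[P] ((Rd ψ).obj V ⟶ N)) :
    θ.inv.app V ≫ (adj'.homEquiv _ _).symm
        (Psi A' V (G.obj N) (tau ψ ψ' G adj hsq V N t) ≫ cmp ψ ψ' θ G adj G' adj' N) =
      Psi P' ((Rd ψ).obj V) N t := by
  induction t using TensorProduct.induction_on with
  | zero =>
    rw [map_zero, Psi_zero, zero_comp, adj'.homAddEquiv_symm_zero, comp_zero, Psi_zero]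
  | tmul p' g =>
    rw [tau_tmul, Psi_tmul, symm_smul_comp_cmp, Equiv.symm_apply_apply, Psi_tmul,
      Iso.inv_hom_id_app_assoc]
  | add x y hx hy =>
    rw [map_add, Psi_add, Preadditive.add_comp, adj'.homAddEquiv_symm_add,
      Preadditive.comp_add, hx, hy, Psi_add]

include hsq in
theorem bijective_comp_cmp (hψ' : Function.Surjective ψ') (V : Dual.D A) (N : Dual.D P)
    (hα : Function.Bijective (Psi A' V (G.obj N)))
    (hβ : Function.Bijective (Psi P' ((Rd ψ).obj V) N)) :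
    Function.Bijective
      (fun u : (Ld (algebraMap A A')).obj V ⟶ (Ld (algebraMap A A')).obj (G.obj N) =>
        u ≫ cmp ψ ψ' θ G adj G' adj' N) := by
  have hτs := tau_surjective ψ ψ' G adj hsq hψ' V N
  have key := xi_phi_psi_tau ψ ψ' θ G adj G' adj' hsq V N
  have hΞ : ∀ w w' : (Ld (algebraMap A A')).obj V ⟶ G'.obj ((Ld (algebraMap P P')).obj N),
      θ.inv.app V ≫ (adj'.homEquiv _ _).symm w = θ.inv.app V ≫ (adj'.homEquiv _ _).symm w' →
        w = w' := by
    intro w w' h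
    have h' := (cancel_epi (θ.inv.app V)).mp h
    exact (adj'.homEquiv _ _).symm.injective h'
  have hsurj : ∀ u : (Ld (algebraMap A A')).obj V ⟶ (Ld (algebraMap A A')).obj (G.obj N),
      ∃ t, Psi A' V (G.obj N) (tau ψ ψ' G adj hsq V N t) = u := by
    intro u
    obtain ⟨s, hs⟩ := hα.2 u
    obtain ⟨t, ht⟩ := hτs s
    exact ⟨t, by rw [ht, hs]⟩
  constructor
  · intro u u' huu'
    obtain ⟨t, rfl⟩ := hsurj u
    obtain ⟨t', rfl⟩ := hsurj u'
    have h1 : Psi P' ((Rd ψ).obj V) N t = Psi P' ((Rd ψ).obj V) N t' := by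
      rw [← key t, ← key t']
      exact congrArg (fun w => θ.inv.app V ≫ (adj'.homEquiv _ _).symm w) huu'
    rw [hβ.1 h1]
  · intro w
    obtain ⟨t, ht⟩ := hβ.2 (θ.inv.app V ≫ (adj'.homEquiv _ _).symm w)
    refine ⟨Psi A' V (G.obj N) (tau ψ ψ' G adj hsq V N t), ?_⟩
    apply hΞ
    exact (key t).trans ht

/-- base change of a shift of the ring -/
noncomputable def LdShiftInD (j : ℤ) :
    (Ld (algebraMap A A')).obj ((Dual.inD A A)⟦j⟧) ≅ (Dual.inD A' A')⟦j⟧ :=
  ((Ld (algebraMap A A')).commShiftIso j).app (Dual.inD A A) ≪≫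
    (shiftFunctor (Dual.D A') j).mapIso (LdInD (A := A) A' A ≪≫
      (DerivedCategory.singleFunctor (ModuleCat.{u} A') 0).mapIso
        (TensorProduct.AlgebraTensorModule.rid A A' A').toModuleIso)

include hsq in
/-- **flat base change for the right adjoint of restriction of scalars** -/
theorem isIso_cmp [IsNoetherianRing P] [IsNoetherianRing A] [Module.Flat P P']
    [Module.Flat A A'] (hψ : Function.Surjective ψ) (hψ' : Function.Surjective ψ')
    (N : Dual.D P) (c : ℤ)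
    (hN : ∀ j : ℤ, j < c → IsZero ((homologyFunctor (ModuleCat.{u} P) j).obj N)) :
    IsIso (cmp ψ ψ' θ G adj G' adj' N) := by
  apply isIso_of_bijective_inD
  intro j
  have hV : BddFinCoh ((Dual.inD A A)⟦j⟧) :=
    bddFinCoh_shift _ (Groth.Agent.Helper8.RFin.bddFinCoh_single (ModuleCat.of A A)) j
  have hRV : BddFinCoh ((Rd ψ).obj ((Dual.inD A A)⟦j⟧)) := bddFinCoh_resD ψ hψ _ hV
  obtain ⟨⟨a, b, hab⟩, hfin⟩ := hV
  obtain ⟨⟨a', b', hab'⟩, hfin'⟩ := hRV
  have hα := Psi_bijective A' ((Dual.inD A A)⟦j⟧) a b hab hfin (G.obj N) c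
    (isZero_homology_rightAdj ψ G adj N c hN)
  have hβ := Psi_bijective P' ((Rd ψ).obj ((Dual.inD A A)⟦j⟧)) a' b' hab' hfin' N c hN
  have hbij := bijective_comp_cmp ψ ψ' θ G adj G' adj' hsq hψ' ((Dual.inD A A)⟦j⟧) N hα hβ
  exact bijective_comp_of_iso (LdShiftInD (A := A) (A' := A') j).symm _ hbij

end Main

end Groth.Agent.Helper11.Shr
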