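import Groth.Agent.Lib.Helper11.Shr5
import Groth.Agent.Lib.Helper11.Shr8
import Mathlib.RingTheory.RingHom.Flat

/-!
# Base change for the right adjoint of restriction, ring homomorphism version (helper11)
-/

set_option autoImplicit false
set_option linter.unusedSectionVars false
set_option linter.unusedVariables false
set_option linter.style.haveILetI false

open CategoryTheory CategoryTheory.Limits DerivedCategory Pretriangulated

attribute [local instance] HasDerivedCategory.standard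

universe u

namespace Groth.Agent.Helper11.Shr

open Groth.Agent.Helper11.TorsBC

section BCL

variable {P P' A A' : Type u} [CommRing P] [CommRing P'] [CommRing A] [CommRing A']
  [IsNoetherianRing P] [IsNoetherianRing A]
  (β : P →+* P') (ψ : P →+* A) (ψ' : P' →+* A') (α : A →+* A')
  [PreservesFiniteLimits (Es β)] [PreservesFiniteLimits (Es α)]

/-- **base change for the right adjoint of restriction of scalars** along a cocartesian square
of surjections with flat vertical maps -/
theorem nonempty_baseChange_rightAdj (hβ : β.Flat) (hα : α.Flat)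
    (hsq : ψ'.comp β = α.comp ψ) (hker : RingHom.ker ψ' = Ideal.map β (RingHom.ker ψ))
    (hψ : Function.Surjective ψ) (hψ' : Function.Surjective ψ')
    (G : Dual.D P ⥤ Dual.D A) (adj : resD ψ ⊣ G) (G' : Dual.D P' ⥤ Dual.D A')
    (adj' : resD ψ' ⊣ G') (N : Dual.D P) (c : ℤ)
    (hN : ∀ j : ℤ, j < c → IsZero ((homologyFunctor (ModuleCat.{u} P) j).obj N)) :
    Nonempty ((Gd α).obj (G.obj N) ≅ G'.obj ((Gd β).obj N)) := by
  letI : Algebra P P' := β.toAlgebra
  letI : Algebra A A' := α.toAlgebra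
  haveI : Module.Flat P P' := hβ
  haveI : Module.Flat A A' := hα
  haveI i1 : PreservesFiniteLimits (Groth.Agent.Helper8.LOC.Efun (algebraMap P P')) :=
    ‹PreservesFiniteLimits (Es β)›
  haveI i2 : PreservesFiniteLimits (Groth.Agent.Helper8.LOC.Efun (algebraMap A A')) :=
    ‹PreservesFiniteLimits (Es α)›
  have h := isIso_cmp (P' := P') (A' := A') ψ ψ' (thetaIso β ψ ψ' α hsq hker hψ hψ')
    G adj G' adj' hsq hψ hψ' N c hN
  exact ⟨@asIso _ _ _ _ (cmp ψ ψ' (thetaIso β ψ ψ' α hsq hker hψ hψ') G adj G' adj' N) h⟩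

end BCL

section Misc

variable {A B : Type u} [CommRing A] [CommRing B] (φ : A →+* B) [PreservesFiniteLimits (Es φ)]

theorem isZero_homology_Gd (K : Dual.D A) (j : ℤ)
    (h : IsZero ((homologyFunctor (ModuleCat.{u} A) j).obj K)) :
    IsZero ((homologyFunctor (ModuleCat.{u} B) j).obj ((Gd φ).obj K)) :=
  ((Es φ).map_isZero h).of_iso (Groth.Agent.Helper8.LOC.homologyLdIso φ K j)

theorem flat_algebraMap_mvPolynomial (R : Type u) [CommRing R] (n : ℕ) :
    (algebraMap R (MvPolynomial (Fin n) R)).Flat :=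
  RingHom.flat_algebraMap_iff.mpr inferInstance

end Misc

section Indep

variable {R A : Type u} [CommRing R] [CommRing A] [Algebra R A]

/-- independence of the presentation, for the termwise shriek objects -/
theorem sh_indep (n : ℕ) (ψ : MvPolynomial (Fin n) R →ₐ[R] A)
    (hψ : Function.Surjective ψ)
    (Rψ : Dual.D (MvPolynomial (Fin n) R) ⥤ Dual.D A)
    (adj : resD ψ.toRingHom ⊣ Rψ) (m : ℕ) (ψ' : MvPolynomial (Fin m) R →ₐ[R] A)
    (hψ' : Function.Surjective ψ')
    (Rψ' : Dual.D (MvPolynomial (Fin m) R) ⥤ Dual.D A)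
    (adj' : resD ψ'.toRingHom ⊣ Rψ') (K : Dual.D R) :
    Nonempty (sh n Rψ K ≅ sh m Rψ' K) := by
  let Ψ : MvPolynomial (Fin (n + m)) R →ₐ[R] A :=
    MvPolynomial.aeval (Fin.append (fun i => ψ (MvPolynomial.X i)) (fun j => ψ' (MvPolynomial.X j)))
  have h1 : ∀ i, Ψ (MvPolynomial.X (Fin.castAdd m i)) = ψ (MvPolynomial.X i) := by
    intro i
    show MvPolynomial.aeval _ _ = _
    rw [MvPolynomial.aeval_X, Fin.append_left]
  have h2 : ∀ j, Ψ (MvPolynomial.X (Fin.natAdd n j)) = ψ' (MvPolynomial.X j) := by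
    intro j
    show MvPolynomial.aeval _ _ = _
    rw [MvPolynomial.aeval_X, Fin.append_right]
  obtain ⟨RΨ, ⟨adjΨ⟩⟩ := exists_rightAdj Ψ.toRingHom
  obtain ⟨a1⟩ := main_ind (n + m) n (Fin.castAdd m) (Fin.strictMono_castAdd m) Ψ ψ hψ h1
    RΨ adjΨ Rψ adj K
  obtain ⟨a2⟩ := main_ind (n + m) m (Fin.natAdd n) (Fin.strictMono_natAdd n) Ψ ψ' hψ' h2
    RΨ adjΨ Rψ' adj' K
  exact ⟨a1.symm ≪≫ a2⟩

end Indep

end Groth.Agent.Helper11.Shr
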