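import Groth.Agent.Lib.Helper11.CechF2
import Groth.Agent.Lib.Helper11.Shr9
import Groth.Agent.Lib.Helper8.LOC17

/-!
# Local cohomology and flat base change (helper11)

`H^i_{IB}(K ⊗^L_A B) ≅ B ⊗_A H^i_I(K)` for a flat map `A → B` of Noetherian rings.
-/

set_option autoImplicit false
set_option linter.unusedSectionVars false
set_option linter.unusedVariables false
set_option linter.style.haveILetI false

open CategoryTheory CategoryTheory.Limits MonoidalCategory CochainComplex HomComplex
  Pretriangulated DerivedCategory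
open scoped TensorProduct ChangeOfRings

universe u v w

attribute [local instance] HasDerivedCategory.standard

namespace Groth.Agent.Helper11.CechF

open DerCA Groth.Agent.Helper11.DCP Groth.Agent.Helper11.GM Groth.Agent.Helper11.RGam
  Groth.Agent.Helper11.CechG Groth.Agent.Helper8.LOC

section Extend

variable {A B : Type u} [CommRing A] [CommRing B] (φ : A →+* B)

section
variable {M : Type v} {N : Type w} [AddCommGroup M] [Module A M]
    [AddCommGroup N] [Module A N] (e : M ≃ₗ[A] N)

/-- the underlying additive map of the extension of scalars of a linear equivalence -/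
noncomputable def extendFun :
    ((ModuleCat.extendScalars.{u, u, v} φ).obj (ModuleCat.of A M)) →+
      ((ModuleCat.extendScalars.{u, u, w} φ).obj (ModuleCat.of A N)) :=
  (TensorProduct.congr (LinearEquiv.refl A
    ((ModuleCat.restrictScalars φ).obj (ModuleCat.of B B))) e).toLinearMap.toAddMonoidHom

theorem extendFun_smul (b : B)
    (x : ((ModuleCat.extendScalars.{u, u, v} φ).obj (ModuleCat.of A M))) :
    extendFun φ e (b • x) = b • extendFun φ e x := by
  refine TensorProduct.induction_on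
    (motive := fun x => extendFun φ e
      (b • @id ((ModuleCat.extendScalars.{u, u, v} φ).obj (ModuleCat.of A M)) x :
        (ModuleCat.extendScalars.{u, u, v} φ).obj (ModuleCat.of A M)) =
      b • extendFun φ e (@id ((ModuleCat.extendScalars.{u, u, v} φ).obj (ModuleCat.of A M)) x))
    x ?_ ?_ ?_
  · have h1 : (b • @id ((ModuleCat.extendScalars.{u, u, v} φ).obj (ModuleCat.of A M)) 0 :
        (ModuleCat.extendScalars.{u, u, v} φ).obj (ModuleCat.of A M)) =
        @id ((ModuleCat.extendScalars.{u, u, v} φ).obj (ModuleCat.of A M)) 0 := smul_zero b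
    refine (congrArg _ h1).trans ?_
    have h2 : extendFun φ e (@id ((ModuleCat.extendScalars.{u, u, v} φ).obj (ModuleCat.of A M)) 0)
        = 0 := map_zero _
    exact h2.trans ((smul_zero b).symm.trans (congrArg (b • ·) h2.symm))
  · intro s m
    rfl
  · intro x y hx hy
    have h1 : (b • @id ((ModuleCat.extendScalars.{u, u, v} φ).obj (ModuleCat.of A M)) (x + y) :
        (ModuleCat.extendScalars.{u, u, v} φ).obj (ModuleCat.of A M)) =
        (b • @id ((ModuleCat.extendScalars.{u, u, v} φ).obj (ModuleCat.of A M)) x :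
          (ModuleCat.extendScalars.{u, u, v} φ).obj (ModuleCat.of A M)) +
        (b • @id ((ModuleCat.extendScalars.{u, u, v} φ).obj (ModuleCat.of A M)) y :
          (ModuleCat.extendScalars.{u, u, v} φ).obj (ModuleCat.of A M)) := smul_add b _ _
    refine (congrArg _ h1).trans ?_
    have h2 : extendFun φ e
        (@id ((ModuleCat.extendScalars.{u, u, v} φ).obj (ModuleCat.of A M)) (x + y)) =
        extendFun φ e (@id ((ModuleCat.extendScalars.{u, u, v} φ).obj (ModuleCat.of A M)) x) +
        extendFun φ e (@id ((ModuleCat.extendScalars.{u, u, v} φ).obj (ModuleCat.of A M)) y) :=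
      map_add _ _ _
    exact (map_add _ _ _).trans ((congrArg₂ (· + ·) hx hy).trans
      ((smul_add b _ _).symm.trans (congrArg (b • ·) h2.symm)))

/-- extension of scalars of a linear equivalence -/
noncomputable def extendEquiv :
    ((ModuleCat.extendScalars.{u, u, v} φ).obj (ModuleCat.of A M)) ≃ₗ[B]
      ((ModuleCat.extendScalars.{u, u, w} φ).obj (ModuleCat.of A N)) where
  toFun := extendFun φ e
  invFun := extendFun φ e.symm
  map_add' := fun x y => map_add _ x y
  map_smul' := fun b x => extendFun_smul φ e b x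
  left_inv := fun x => (TensorProduct.congr (LinearEquiv.refl A
    ((ModuleCat.restrictScalars φ).obj (ModuleCat.of B B))) e).symm_apply_apply x
  right_inv := fun y => (TensorProduct.congr (LinearEquiv.refl A
    ((ModuleCat.restrictScalars φ).obj (ModuleCat.of B B))) e).apply_symm_apply y

end

/-- pure tensors in the extension of scalars -/
noncomputable def tm (M : ModuleCat.{v} A) (s : B) (m : M) :
    (ModuleCat.extendScalars.{u, u, v} φ).obj M := s ⊗ₜ[A,φ] m

theorem smul_tm (M : ModuleCat.{v} A) (b s : B) (m : M) :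
    b • tm φ M s m = tm φ M (b * s) m := rfl

theorem tm_smul (M : ModuleCat.{v} A) (a : A) (s : B) (m : M) :
    tm φ M (φ a * s) m = tm φ M s (a • m) := by
  letI : Module A B := Module.compHom B φ
  show (φ a * s) ⊗ₜ[A] m = s ⊗ₜ[A] (a • m)
  rw [TensorProduct.tmul_smul, TensorProduct.smul_tmul']
  rfl

theorem tm_zero (M : ModuleCat.{v} A) (s : B) : tm φ M s 0 = 0 :=
  TensorProduct.tmul_zero _ _

theorem smul_tm_eq_zero (I : Ideal A) (M : ModuleCat.{v} A) (n : ℕ) (s : B) (m : M)
    (hn : ∀ a ∈ I ^ n, a • m = 0) (b : B) (hb : b ∈ (I.map φ) ^ n) :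
    b • tm φ M s m = 0 := by
  rw [← Ideal.map_pow] at hb
  refine Submodule.span_induction (p := fun b _ => b • tm φ M s m = 0) ?_ ?_ ?_ ?_ hb
  · rintro _ ⟨a, ha, rfl⟩
    rw [smul_tm, tm_smul, hn a ha, tm_zero]
  · exact zero_smul _ _
  · intro x y _ _ hx hy
    rw [add_smul, hx, hy, add_zero]
  · intro r x _ hx
    rw [smul_eq_mul, mul_smul, hx, smul_zero]

theorem isPowerTorsion_extend (I : Ideal A) (M : ModuleCat.{v} A)
    (h : LocCoh.IsPowerTorsion I M) :
    LocCoh.IsPowerTorsion (I.map φ) ((ModuleCat.extendScalars.{u, u, v} φ).obj M) := by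
  intro z
  refine TensorProduct.induction_on
    (motive := fun z => ∃ n : ℕ, ∀ b ∈ (I.map φ) ^ n,
      b • @id ((ModuleCat.extendScalars.{u, u, v} φ).obj M) z = 0) z ?_ ?_ ?_
  · refine ⟨0, fun b _ => ?_⟩
    have h1 : (b • @id ((ModuleCat.extendScalars.{u, u, v} φ).obj M) 0 :
        (ModuleCat.extendScalars.{u, u, v} φ).obj M) =
        @id ((ModuleCat.extendScalars.{u, u, v} φ).obj M) 0 := smul_zero b
    exact h1
  · intro s m
    obtain ⟨n, hn⟩ := h m
    exact ⟨n, fun b hb => smul_tm_eq_zero φ I M n s m hn b hb⟩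
  · rintro x y ⟨n, hn⟩ ⟨k, hk⟩
    refine ⟨max n k, fun b hb => ?_⟩
    have h1 := hn b (Ideal.pow_le_pow_right (le_max_left n k) hb)
    have h2 := hk b (Ideal.pow_le_pow_right (le_max_right n k) hb)
    have h3 : b • @id ((ModuleCat.extendScalars.{u, u, v} φ).obj M) (x + y) =
        b • @id ((ModuleCat.extendScalars.{u, u, v} φ).obj M) x +
        b • @id ((ModuleCat.extendScalars.{u, u, v} φ).obj M) y := smul_add b _ _
    rw [h3, h1, h2, add_zero]

end Extend

section Main

variable {A B : Type u} [CommRing A] [CommRing B] [IsNoetherianRing A] [IsNoetherianRing B]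
  (φ : A →+* B) [PreservesFiniteLimits (Efun φ)]

/-- `RΓ_I` commutes with flat base change -/
theorem nonempty_RgammaI_extend_iso (I : Ideal A) [DRing.HasRgammaI I]
    [DRing.HasRgammaI (I.map φ)] (K : Dual.D A) :
    Nonempty ((Ld φ).obj ((DRing.RgammaI I).obj K) ≅
      (DRing.RgammaI (I.map φ)).obj ((Ld φ).obj K)) := by
  classical
  obtain ⟨s, hs⟩ := (isNoetherianRing_iff_ideal_fg A).mp inferInstance I
  obtain ⟨fs, hfs⟩ : ∃ fs : List A, Ideal.span {x : A | x ∈ fs} = I := by
    refine ⟨s.toList, ?_⟩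
    rw [← hs]
    congr 1
    ext x
    simp
  let ps : List (A × B) := fs.map (fun f => (f, φ f))
  have hps : ∀ p ∈ ps, ∃ f ∈ fs, p = (f, φ f) := by
    intro p hp
    obtain ⟨f, hf, rfl⟩ := List.mem_map.mp hp
    exact ⟨f, hf, rfl⟩
  have hgs : Ideal.span {x : A | x ∈ ps.map Prod.fst} = I := by
    rw [← hfs]
    congr 1
    ext x
    simp only [Set.mem_ofPred_eq, List.mem_map, ps]
    constructor
    · rintro ⟨p, ⟨f, hf, rfl⟩, rfl⟩
      exact hf
    · intro hx
      exact ⟨(x, φ x), ⟨x, hx, rfl⟩, rfl⟩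
  have hF : ∀ p ∈ ps, ∀ W : Dual.D A, FLocal p.1 W → FLocal p.2 ((Ld φ).obj W) := by
    intro p hp W hW
    obtain ⟨f, hf, rfl⟩ := hps p hp
    unfold FLocal at hW ⊢
    haveI := hW
    show IsIso (φ f • 𝟙 ((Ld φ).obj W))
    rw [← Ld_map_smul_id]
    infer_instance
  obtain ⟨X, hX, ⟨e⟩⟩ := exists_kprojective_iso K
  haveI := hX
  obtain ⟨ε, hε⟩ := exists_counit_extCech_functor (Ld φ) ps hF X
  obtain ⟨c⟩ := cech_formula (ps.map Prod.fst) I hgs X
  generalize Q.obj (X ⊗ extCech (ModuleCat.of A A) (ps.map Prod.fst)) = T at ε hε c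
  have hTt : ∀ i : ℤ, LocCoh.IsPowerTorsion (I.map φ) (Dual.HD B ((Ld φ).obj T) i) := by
    intro i
    have h1 : LocCoh.IsPowerTorsion I (Dual.HD A T i) :=
      isPowerTorsion_of_iso I ((homologyFunctor (ModuleCat.{u} A) i).mapIso c)
        (isPowerTorsion_HD_RgammaI I (Q.obj X) i)
    exact isPowerTorsion_of_iso (I.map φ) (homologyLdIso φ T i)
      (isPowerTorsion_extend φ I _ h1)
  let Y := (Ld φ).obj (Q.obj X)
  have hRt := isPowerTorsion_HD_RgammaI (I.map φ) Y
  obtain ⟨g, hg⟩ := (bijective_comp_ε (I.map φ) _ Y hTt).2 ((Ld φ).map ε)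
  have hg' : g ≫ (DRing.RgammaIε (I.map φ)).app Y = (Ld φ).map ε := hg
  haveI : IsIso g := by
    refine isIso_of_bijective_comp
      (fun L : Dual.D B => ∀ i : ℤ, LocCoh.IsPowerTorsion (I.map φ) (Dual.HD B L i)) g hTt hRt ?_
    intro L hL
    have b1 := hε L (fun p hp => by
      obtain ⟨f, hf, rfl⟩ := hps p hp
      exact lOrth_of_isPowerTorsion (I.map φ) (φ f)
        (Ideal.mem_map_of_mem φ (hfs ▸ Ideal.subset_span hf)) L hL)
    have b2 := bijective_comp_ε (I.map φ) L Y hL
    have hsq : (fun ψ : L ⟶ (DRing.RgammaI (I.map φ)).obj Y =>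
          ψ ≫ (DRing.RgammaIε (I.map φ)).app Y) ∘
        (fun ψ : L ⟶ (Ld φ).obj T => ψ ≫ g) =
        (fun ψ : L ⟶ (Ld φ).obj T => ψ ≫ (Ld φ).map ε) := by
      funext ψ
      show (ψ ≫ g) ≫ (DRing.RgammaIε (I.map φ)).app Y = ψ ≫ (Ld φ).map ε
      rw [Category.assoc, hg']
    have h4 : Function.Bijective
        ((fun ψ : L ⟶ (DRing.RgammaI (I.map φ)).obj Y =>
          ψ ≫ (DRing.RgammaIε (I.map φ)).app Y) ∘
        (fun ψ : L ⟶ (Ld φ).obj T => ψ ≫ g)) := by
      rw [hsq]
      exact b1
    exact (Function.Bijective.of_comp_iff' b2 _).mp h4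
  exact ⟨(Ld φ).mapIso ((DRing.RgammaI I).mapIso e.symm ≪≫ c.symm) ≪≫
    asIso g ≪≫ (DRing.RgammaI (I.map φ)).mapIso ((Ld φ).mapIso e)⟩

end Main

section Final

variable {A B : Type u} [CommRing A] [CommRing B] [Algebra A B] [IsNoetherianRing A]
  [IsNoetherianRing B] [Module.Flat A B]

/-- **local cohomology and flat base change** -/
theorem nonempty_HDI_extend_iso [DRing.HasLBaseChange (algebraMap A B)] (I : Ideal A)
    (K : Dual.D A) (i : ℤ) :
    Nonempty (Dual2.HDI B (I.map (algebraMap A B)) ((DRing.LBaseChange (algebraMap A B)).obj K) i ≅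
      (ModuleCat.extendScalars (algebraMap A B)).obj (Dual2.HDI A I K i)) := by
  haveI : PreservesFiniteLimits (Efun (algebraMap A B)) :=
    ModuleCat.preservesFiniteLimits_extendScalars_of_flat
      (RingHom.flat_algebraMap_iff.mpr inferInstance)
  haveI : DRing.HasRgammaI I := Groth.Agent.Helper11.KI.hasRightDerivedFunctor (DRing.gammaIKh I)
  haveI : DRing.HasRgammaI (I.map (algebraMap A B)) :=
    Groth.Agent.Helper11.KI.hasRightDerivedFunctor (DRing.gammaIKh (I.map (algebraMap A B)))
  obtain ⟨η⟩ := Groth.Agent.Helper11.Shr.nonempty_LBaseChange_iso (algebraMap A B)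
  obtain ⟨c⟩ := nonempty_RgammaI_extend_iso (algebraMap A B) I K
  obtain ⟨e1⟩ := Groth.Agent.Helper11.HDIeq.nonempty_equiv (I.map (algebraMap A B))
    ((DRing.LBaseChange (algebraMap A B)).obj K) i
  obtain ⟨e2⟩ := Groth.Agent.Helper11.HDIeq.nonempty_equiv I K i
  let e3 : Dual.HD B ((DRing.RgammaI (I.map (algebraMap A B))).obj
        ((DRing.LBaseChange (algebraMap A B)).obj K)) i ≃ₗ[B]
      Dual.HD B ((Ld (algebraMap A B)).obj ((DRing.RgammaI I).obj K)) i :=
    ((homologyFunctor (ModuleCat.{u} B) i).mapIso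
      ((DRing.RgammaI (I.map (algebraMap A B))).mapIso (η.app K) ≪≫ c.symm)).toLinearEquiv
  let e4 : Dual.HD B ((Ld (algebraMap A B)).obj ((DRing.RgammaI I).obj K)) i ≃ₗ[B]
      ((ModuleCat.extendScalars.{u, u, u} (algebraMap A B)).obj
        (ModuleCat.of A (Dual.HD A ((DRing.RgammaI I).obj K) i))) :=
    (homologyLdIso (algebraMap A B) ((DRing.RgammaI I).obj K) i).toLinearEquiv
  let e5 := extendEquiv (algebraMap A B) e2
  exact ⟨(e1.symm.trans (e3.trans (e4.trans e5))).toModuleIso⟩

end Final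

end Groth.Agent.Helper11.CechF
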