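import Groth.Agent.Lib.Helper11.CechComp3

/-!
# `RΓ_I` as the tensor product with the extended Čech complex, part 1 (helper11)

The universal map `Q (X ⊗ Č) ⟶ Q X`.
-/

set_option autoImplicit false
set_option linter.unusedSectionVars false
set_option linter.unusedVariables false
set_option linter.style.haveILetI false

open CategoryTheory CategoryTheory.Limits MonoidalCategory CochainComplex HomComplex
  Pretriangulated DerivedCategory
open scoped TensorProduct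

universe u

attribute [local instance] HasDerivedCategory.standard

namespace Groth.Agent.Helper11.CechG

open DerCA Groth.Agent.Helper26.CechAcyc2 Groth.Agent.Helper5.KF Groth.Agent.Helper3.DS
  Groth.Agent.Helper3.HT Groth.Agent.Helper3.KF Groth.Agent.Helper11.RHomLoc
  Groth.Agent.Helper11.DCP Groth.Agent.Helper11.GM Groth.Agent.Helper11.RGam
  Groth.Agent.Helper11.RHomTri Groth.Agent.Helper11.LTenComp Groth.Agent.Helper3.TH
  Groth.Agent.Helper8.BiDual Groth.Agent.Helper11.TA Groth.Agent.Helper11.CechComp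

variable {A : Type u} [CommRing A]

theorem smul_id_whiskerLeft (f : A) (S K : DRing.Cx A) :
    f • 𝟙 (S ⊗ K) = S ◁ (f • 𝟙 K) := by
  apply tensor_hom_ext
  intro p q m hpq x y
  rw [whiskerLeft_ι_tmul]
  have h1 : ((f • 𝟙 (S ⊗ K)).f m).hom
      ((HomologicalComplex.ιTensorObj S K p q m hpq).hom (x ⊗ₜ[A] y)) =
      f • (HomologicalComplex.ιTensorObj S K p q m hpq).hom (x ⊗ₜ[A] y) := by
    simp
  have h2 : ((f • 𝟙 K).f q).hom y = f • y := by simp
  rw [h1, h2, ← map_smul, TensorProduct.tmul_smul]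

theorem fLocal_Q_tensor_of_isIso (X Y : DRing.Cx A) (f : A) (h : IsIso (f • 𝟙 Y)) :
    FLocal f (Q.obj (X ⊗ Y)) := by
  unfold FLocal
  rw [smul_id_Q, smul_id_whiskerLeft]
  infer_instance

section Tri

variable {C : Type*} [Category C] [Preadditive C] [HasShift C ℤ] [HasZeroObject C]
  [∀ n : ℤ, (CategoryTheory.shiftFunctor C n).Additive] [Pretriangulated C]

theorem subsingleton_hom_of_iso {L Y Y' : C} (e : Y ≅ Y') (h : Subsingleton (L ⟶ Y')) :
    Subsingleton (L ⟶ Y) :=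
  ⟨fun a b => (cancel_mono e.hom).mp (Subsingleton.elim _ _)⟩

theorem bijective_comp_mor₂_of_left (T : Triangle C) (hT : T ∈ distTriang C) (L : C)
    (h1 : Subsingleton (L ⟶ T.obj₁)) (h1' : Subsingleton (L ⟶ T.obj₁⟦(1 : ℤ)⟧)) :
    Function.Bijective (fun φ : L ⟶ T.obj₂ => φ ≫ T.mor₂) := by
  have hT' := rot_of_distTriang _ hT
  refine bijective_comp_mor₁_of_left T.rotate hT' L h1' ?_
  exact subsingleton_hom_of_iso
    ((CategoryTheory.shiftFunctorCompIsoId C (1 : ℤ) (-1) (by omega)).app T.obj₁) h1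

end Tri

/-- the universal map `Q (X ⊗ Č) ⟶ Q X` -/
theorem exists_counit_extCech (fs : List A) : ∀ (X : DRing.Cx A),
    ∃ ε : Q.obj (X ⊗ extCech (ModuleCat.of A A) fs) ⟶ Q.obj X,
      ∀ L : Dual.D A, (∀ g ∈ fs, LOrth g L) → Function.Bijective
        (fun φ : L ⟶ Q.obj (X ⊗ extCech (ModuleCat.of A A) fs) => φ ≫ ε) := by
  induction fs with
  | nil =>
    intro X
    change ∃ ε : Q.obj (X ⊗ 𝟙_ (DRing.Cx A)) ⟶ Q.obj X,
      ∀ L : Dual.D A, (∀ g ∈ ([] : List A), LOrth g L) → Function.Bijective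
        (fun φ : L ⟶ Q.obj (X ⊗ 𝟙_ (DRing.Cx A)) => φ ≫ ε)
    exact ⟨Q.map (ρ_ X).hom, fun L _ => bijective_comp_iso _ L⟩
  | cons f fs ih =>
    intro X
    obtain ⟨ε₀, hε₀⟩ := ih X
    clear ih
    change ∃ ε : Q.obj (X ⊗ (mappingCone (locCxUnit (Submonoid.powers f)
        (extCech (ModuleCat.of A A) fs)))⟦(-1 : ℤ)⟧) ⟶ Q.obj X,
      ∀ L : Dual.D A, (∀ g ∈ f :: fs, LOrth g L) → Function.Bijective
        (fun φ : L ⟶ Q.obj (X ⊗ (mappingCone (locCxUnit (Submonoid.powers f)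
          (extCech (ModuleCat.of A A) fs)))⟦(-1 : ℤ)⟧) => φ ≫ ε)
    generalize extCech (ModuleCat.of A A) fs = Č at ε₀ hε₀ ⊢
    obtain ⟨S₀, hS₀, hX₂⟩ : ∃ (S₀ : ShortComplex (DRing.Cx A)) (_ : DSplit S₀),
        S₀ = (Groth.Agent.Helper3.KF.coneSC (locCxUnit (Submonoid.powers f) Č)).map
          (CategoryTheory.shiftFunctor (DRing.Cx A) (-1)) :=
      ⟨_, dsplitShift (dsplit_coneSC _) (-1), rfl⟩
    subst hX₂
    have hSE := (hS₀.whiskerLeft X).shortExact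
    have hTS := DerivedCategory.triangleOfSES_distinguished hSE
    have hW : FLocal f (Q.obj (X ⊗ (((locCx (Submonoid.powers f)).obj Č)⟦(-1 : ℤ)⟧))) :=
      fLocal_Q_tensor_of_isIso X _ f (isIso_smul_id_of_bijOn f _
        (fun i => bijOn_loc f (Č.X (i + (-1)))))
    let e₀ : (Č⟦(1 : ℤ)⟧)⟦(-1 : ℤ)⟧ ≅ Č :=
      (shiftFunctorCompIsoId (DRing.Cx A) (1 : ℤ) (-1) (by omega)).app _
    obtain ⟨θ, hθ, iθ⟩ : ∃ θ : Q.obj (X ⊗ (Č⟦(1 : ℤ)⟧)⟦(-1 : ℤ)⟧) ⟶ Q.obj (X ⊗ Č),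
        θ = Q.map (X ◁ e₀.hom) ∧ IsIso θ := ⟨_, rfl, inferInstance⟩
    obtain ⟨m, hm⟩ : ∃ m : Q.obj (X ⊗ (mappingCone (locCxUnit (Submonoid.powers f) Č))⟦(-1 : ℤ)⟧) ⟶
        Q.obj (X ⊗ (Č⟦(1 : ℤ)⟧)⟦(-1 : ℤ)⟧),
        m = Q.map (X ◁ ((Groth.Agent.Helper3.KF.coneδ
          (locCxUnit (Submonoid.powers f) Č))⟦(-1 : ℤ)⟧')) := ⟨_, rfl⟩
    refine ⟨m ≫ θ ≫ ε₀, ?_⟩
    intro L hL
    have hb : Function.Bijective (fun ψ : L ⟶ Q.obj
        (X ⊗ (mappingCone (locCxUnit (Submonoid.powers f) Č))⟦(-1 : ℤ)⟧) => ψ ≫ m) := by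
      rw [hm]
      exact bijective_comp_mor₂_of_left _ hTS L (hL f List.mem_cons_self _ hW)
        (hL f List.mem_cons_self _ (hW.shift 1))
    have b0 := hε₀ L (fun g hg => hL g (List.mem_cons_of_mem f hg))
    have b1 := bijective_comp_iso θ L
    have hfun : (fun φ : L ⟶ Q.obj
        (X ⊗ (mappingCone (locCxUnit (Submonoid.powers f) Č))⟦(-1 : ℤ)⟧) =>
        φ ≫ m ≫ θ ≫ ε₀) =
        (fun φ => φ ≫ ε₀) ∘ (fun φ => φ ≫ θ) ∘ (fun ψ => ψ ≫ m) := by
      funext φ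
      simp only [Function.comp, Category.assoc]
    rw [hfun]
    exact b0.comp (b1.comp hb)

end Groth.Agent.Helper11.CechG
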