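import Groth.Agent.Lib.Helper11.CechG2

/-!
# The Čech formula for `RΓ_I` with an explicit, natural counit (helper11)

`CechN.exists_counit`: there is a chain map `α : Č ⟶ 𝟙` such that `Q (X ◁ α ≫ ρ) : Q (X ⊗ Č) ⟶ Q X`
has the universal property of the counit, for every complex `X`.
-/

set_option autoImplicit false
set_option linter.unusedSectionVars false
set_option linter.unusedVariables false
set_option linter.style.haveILetI false

open CategoryTheory CategoryTheory.Limits MonoidalCategory CochainComplex HomComplex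
  Pretriangulated DerivedCategory
open scoped TensorProduct

universe u

attribute [local instance] HasDerivedCategory.standard

namespace Groth.Agent.Helper11.CechN

open DerCA Groth.Agent.Helper26.CechAcyc2 Groth.Agent.Helper5.KF Groth.Agent.Helper3.DS
  Groth.Agent.Helper3.HT Groth.Agent.Helper3.KF Groth.Agent.Helper11.RHomLoc
  Groth.Agent.Helper11.DCP Groth.Agent.Helper11.GM Groth.Agent.Helper11.RGam
  Groth.Agent.Helper11.RHomTri Groth.Agent.Helper11.LTenComp Groth.Agent.Helper3.TH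
  Groth.Agent.Helper8.BiDual Groth.Agent.Helper11.TA Groth.Agent.Helper11.CechComp
  Groth.Agent.Helper11.CechG

variable {A : Type u} [CommRing A]

/-- the universal map `Q (X ⊗ Č) ⟶ Q X` is induced by a fixed chain map `α : Č ⟶ 𝟙` -/
theorem exists_counit (fs : List A) :
    ∃ α : extCech (ModuleCat.of A A) fs ⟶ 𝟙_ (DRing.Cx A), ∀ (X : DRing.Cx A) (L : Dual.D A),
      (∀ g ∈ fs, LOrth g L) → Function.Bijective
        (fun φ : L ⟶ Q.obj (X ⊗ extCech (ModuleCat.of A A) fs) =>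
          φ ≫ Q.map (X ◁ α ≫ (ρ_ X).hom)) := by
  induction fs with
  | nil =>
    change ∃ α : 𝟙_ (DRing.Cx A) ⟶ 𝟙_ (DRing.Cx A), ∀ (X : DRing.Cx A) (L : Dual.D A),
      (∀ g ∈ ([] : List A), LOrth g L) → Function.Bijective
        (fun φ : L ⟶ Q.obj (X ⊗ 𝟙_ (DRing.Cx A)) => φ ≫ Q.map (X ◁ α ≫ (ρ_ X).hom))
    refine ⟨𝟙 _, fun X L _ => ?_⟩
    rw [MonoidalCategory.whiskerLeft_id, Category.id_comp]
    exact bijective_comp_iso _ L
  | cons f fs ih =>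
    obtain ⟨α₀, hα₀⟩ := ih
    change ∃ α : (mappingCone (locCxUnit (Submonoid.powers f)
        (extCech (ModuleCat.of A A) fs)))⟦(-1 : ℤ)⟧ ⟶ 𝟙_ (DRing.Cx A),
      ∀ (X : DRing.Cx A) (L : Dual.D A), (∀ g ∈ f :: fs, LOrth g L) → Function.Bijective
        (fun φ : L ⟶ Q.obj (X ⊗ (mappingCone (locCxUnit (Submonoid.powers f)
          (extCech (ModuleCat.of A A) fs)))⟦(-1 : ℤ)⟧) => φ ≫ Q.map (X ◁ α ≫ (ρ_ X).hom))
    generalize extCech (ModuleCat.of A A) fs = Č at α₀ hα₀ ⊢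
    let e₀ : (Č⟦(1 : ℤ)⟧)⟦(-1 : ℤ)⟧ ≅ Č :=
      (shiftFunctorCompIsoId (DRing.Cx A) (1 : ℤ) (-1) (by omega)).app _
    refine ⟨((Groth.Agent.Helper3.KF.coneδ (locCxUnit (Submonoid.powers f) Č))⟦(-1 : ℤ)⟧') ≫
      e₀.hom ≫ α₀, fun X L hL => ?_⟩
    obtain ⟨S₀, hS₀, hX₂⟩ : ∃ (S₀ : ShortComplex (DRing.Cx A)) (_ : DSplit S₀),
        S₀ = (Groth.Agent.Helper3.KF.coneSC (locCxUnit (Submonoid.powers f) Č)).map
          (CategoryTheory.shiftFunctor (DRing.Cx A) (-1)) :=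
      ⟨_, dsplitShift (dsplit_coneSC _) (-1), rfl⟩
    subst hX₂
    have hSE := (hS₀.whiskerLeft X).shortExact
    have hTS := DerivedCategory.triangleOfSES_distinguished hSE
    have hW : FLocal f (Q.obj (X ⊗ (((locCx (Submonoid.powers f)).obj Č)⟦(-1 : ℤ)⟧))) :=
      fLocal_Q_tensor_of_isIso X _ f (isIso_smul_id_of_bijOn f _
        (fun i => bijOn_loc f (Č.X (i + (-1)))))
    obtain ⟨θ, hθ, iθ⟩ : ∃ θ : Q.obj (X ⊗ (Č⟦(1 : ℤ)⟧)⟦(-1 : ℤ)⟧) ⟶ Q.obj (X ⊗ Č),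
        θ = Q.map (X ◁ e₀.hom) ∧ IsIso θ := ⟨_, rfl, inferInstance⟩
    obtain ⟨m, hm⟩ : ∃ m : Q.obj (X ⊗ (mappingCone (locCxUnit (Submonoid.powers f) Č))⟦(-1 : ℤ)⟧) ⟶
        Q.obj (X ⊗ (Č⟦(1 : ℤ)⟧)⟦(-1 : ℤ)⟧),
        m = Q.map (X ◁ ((Groth.Agent.Helper3.KF.coneδ
          (locCxUnit (Submonoid.powers f) Č))⟦(-1 : ℤ)⟧')) := ⟨_, rfl⟩
    have hε : Q.map (X ◁ (((Groth.Agent.Helper3.KF.coneδ (locCxUnit (Submonoid.powers f) Č))⟦(-1 : ℤ)⟧') ≫
        e₀.hom ≫ α₀) ≫ (ρ_ X).hom) = m ≫ θ ≫ Q.map (X ◁ α₀ ≫ (ρ_ X).hom) := by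
      rw [hm, hθ, ← Functor.map_comp, ← Functor.map_comp, MonoidalCategory.whiskerLeft_comp,
        MonoidalCategory.whiskerLeft_comp, Category.assoc, Category.assoc]
    rw [hε]
    have hb : Function.Bijective (fun ψ : L ⟶ Q.obj
        (X ⊗ (mappingCone (locCxUnit (Submonoid.powers f) Č))⟦(-1 : ℤ)⟧) => ψ ≫ m) := by
      rw [hm]
      exact bijective_comp_mor₂_of_left _ hTS L (hL f List.mem_cons_self _ hW)
        (hL f List.mem_cons_self _ (hW.shift 1))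
    have b0 := hα₀ X L (fun g hg => hL g (List.mem_cons_of_mem f hg))
    have b1 := bijective_comp_iso θ L
    have hfun : (fun φ : L ⟶ Q.obj
        (X ⊗ (mappingCone (locCxUnit (Submonoid.powers f) Č))⟦(-1 : ℤ)⟧) =>
        φ ≫ m ≫ θ ≫ Q.map (X ◁ α₀ ≫ (ρ_ X).hom)) =
        (fun φ => φ ≫ Q.map (X ◁ α₀ ≫ (ρ_ X).hom)) ∘ (fun φ => φ ≫ θ) ∘ (fun ψ => ψ ≫ m) := by
      funext φ
      simp only [Function.comp, Category.assoc]
    rw [hfun]
    exact b0.comp (b1.comp hb)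

end Groth.Agent.Helper11.CechN
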