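import Groth.Agent.Lib.Helper11.AdicTw6

/-!
# The Čech formula for modules, with the counit induced by a natural chain map (helper11)
-/

set_option autoImplicit false
set_option linter.unusedSectionVars false
set_option linter.unusedVariables false
set_option linter.style.haveILetI false

open CategoryTheory CategoryTheory.Limits MonoidalCategory CochainComplex HomComplex
  Pretriangulated DerivedCategory
open scoped TensorProduct

universe u

attribute [local instance] HasDerivedCategory.standard

namespace Groth.Agent.Helper11.AdicTw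

open DerCA Groth.Agent.Helper26.CechAcyc2 Groth.Agent.Helper5.KF Groth.Agent.Helper3.DS
  Groth.Agent.Helper3.HT Groth.Agent.Helper3.KF Groth.Agent.Helper11.RHomLoc
  Groth.Agent.Helper11.DCP Groth.Agent.Helper11.GM Groth.Agent.Helper11.RGam
  Groth.Agent.Helper11.RHomTri Groth.Agent.Helper11.LTenComp Groth.Agent.Helper3.TH
  Groth.Agent.Helper8.BiDual Groth.Agent.Helper11.TA Groth.Agent.Helper11.CechComp
  Groth.Agent.Helper11.CechG Groth.Agent.Helper11.CechN Groth.Agent.Helper11.SgTens
  Groth.Agent.Helper11.RlimTw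

variable {A : Type u} [CommRing A] [IsNoetherianRing A]

/-- the Čech formula `Q (N ⊗ Č) ≅ RΓ_J(N[0])` for modules, naturally in the module, with the counit
induced by a natural chain map `N ⊗ Č ⟶ N[0]` -/
theorem exists_cech_iso_module' (fs : List A) (J : Ideal A)
    (hJ : Ideal.span {x : A | x ∈ fs} = J) [DRing.HasRgammaI J] :
    ∃ (a : ∀ N : ModuleCat.{u} A, tens N (extCech (ModuleCat.of A A) fs) ⟶ SgTens.sg N)
      (E : ∀ N : ModuleCat.{u} A, Q.obj (tens N (extCech (ModuleCat.of A A) fs)) ≅
        (DRing.RgammaI J).obj ((DerivedCategory.singleFunctor (ModuleCat.{u} A) 0).obj N)),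
      (∀ N : ModuleCat.{u} A, (E N).hom ≫ (DRing.RgammaIε J).app
        ((DerivedCategory.singleFunctor (ModuleCat.{u} A) 0).obj N) = Q.map (a N)) ∧
      (∀ {N N' : ModuleCat.{u} A} (f : N ⟶ N'),
        tensMap f (extCech (ModuleCat.of A A) fs) ≫ a N' =
          a N ≫ (HomologicalComplex.single (ModuleCat.{u} A) (ComplexShape.up ℤ) 0).map f) ∧
      ∀ {N N' : ModuleCat.{u} A} (f : N ⟶ N'),
        Q.map (tensMap f (extCech (ModuleCat.of A A) fs)) ≫ (E N').hom =
          (E N).hom ≫ (DRing.RgammaI J).map
            ((DerivedCategory.singleFunctor (ModuleCat.{u} A) 0).map f) := by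
  obtain ⟨α, hα⟩ := exists_counit fs
  choose e he using fun N : ModuleCat.{u} A => exists_cech_iso fs J hJ α hα (SgTens.sg N)
  refine ⟨fun N => sgTensorHom N (extCech (ModuleCat.of A A) fs) ≫
      (SgTens.sg N ◁ α ≫ (ρ_ (SgTens.sg N)).hom),
    fun N => asIso (Q.map (sgTensorHom N (extCech (ModuleCat.of A A) fs))) ≪≫ e N, ?_, ?_, ?_⟩
  · intro N
    refine (Category.assoc _ _ _).trans ?_
    refine (congrArg (fun t => Q.map (sgTensorHom N (extCech (ModuleCat.of A A) fs)) ≫ t)
      (he N)).trans ?_
    exact (Q.map_comp _ _).symm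
  · intro N N' f
    have h2 := tensMap_sgTensorHom f (extCech (ModuleCat.of A A) fs)
    rw [← Category.assoc, h2, Category.assoc, Category.assoc]
    congr 1
    rw [← Category.assoc, ← whisker_exchange, Category.assoc, Category.assoc]
    congr 1
    exact rightUnitor_naturality _
  · intro N N' f
    have h1 := cech_iso_naturality fs J hJ α
      ((HomologicalComplex.single (ModuleCat.{u} A) (ComplexShape.up ℤ) 0).map f)
      (e N) (he N) (e N') (he N')
    have h2 := tensMap_sgTensorHom f (extCech (ModuleCat.of A A) fs)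
    change Q.map _ ≫ Q.map _ ≫ (e N').hom = (Q.map _ ≫ (e N).hom) ≫ _
    rw [← Category.assoc, ← Q.map_comp, h2, Q.map_comp, Category.assoc, h1]
    exact (Category.assoc _ _ _).symm

end Groth.Agent.Helper11.AdicTw
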