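/-
Čech refinements on compact Hausdorff spaces via Lebesgue entourages (helper11).
-/
import Mathlib.Topology.UniformSpace.OfCompactT2
import Mathlib.Topology.UniformSpace.Compact
import Mathlib.Topology.ShrinkingLemma

set_option autoImplicit false

namespace Groth.Agent.Helper11

open Set Filter Uniformity UniformSpace

universe u

theorem exists_cech_refinement {X : Type u} [TopologicalSpace X] [CompactSpace X] [T2Space X]
    {ι : Type u} (U : ι → Set X) (hU : ∀ i, IsOpen (U i)) (hcov : ⋃ i, U i = Set.univ) (p : ℕ)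
    (W : (Fin (p + 1) → ι) → Set (Set X)) (hWo : ∀ t, ∀ w ∈ W t, IsOpen w)
    (hWc : ∀ t, ⋃₀ W t = ⋂ l, U (t l)) (hWne : ∀ t, (W t).Nonempty) :
    ∃ (J : Type u) (V : J → Set X) (α : J → ι), (∀ j, IsOpen (V j)) ∧ (⋃ j, V j = Set.univ) ∧
      (∀ j, closure (V j) ⊆ U (α j)) ∧
      (∀ t : Fin (p + 1) → J, ∃ w ∈ W (α ∘ t), (⋂ l, V (t l)) ⊆ w) := by
  classical
  let _ : UniformSpace X := uniformSpaceOfCompactR1
  -- finite subcover
  obtain ⟨s, hs⟩ := isCompact_univ.elim_finite_subcover U hU (by rw [hcov])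
  have hscov : ⋃ i : s, U i.1 = univ := by
    rw [eq_univ_iff_forall]
    intro x
    have := hs (mem_univ x)
    simp only [mem_iUnion, exists_prop] at this ⊢
    obtain ⟨i, hi, hx⟩ := this
    exact ⟨⟨i, hi⟩, hx⟩
  -- shrink
  obtain ⟨U', hU'cov, hU'o, hU'cl⟩ := exists_iUnion_eq_closure_subset (u := fun i : s => U i.1)
    (fun i => hU i.1) (fun x => Set.toFinite _) hscov
  -- Lebesgue entourages
  have hleb : ∀ t : Fin (p + 1) → s, ∃ D ∈ 𝓤 X, ∀ x ∈ ⋂ l, closure (U' (t l)),
      ∃ w ∈ W (fun l => (t l).1), ball x D ⊆ w := by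
    intro t
    refine lebesgue_number_lemma_sUnion
      (isClosed_iInter fun l => isClosed_closure).isCompact (hWo _) ?_
    rw [hWc]
    exact iInter_mono fun l => hU'cl (t l)
  choose D hD hDball using hleb
  have hDall : (⋂ t, D t) ∈ 𝓤 X := Filter.iInter_mem.mpr hD
  obtain ⟨E, hE, hEo, hEs, hEE⟩ := comp_open_symm_mem_uniformity_sets hDall
  refine ⟨X × s, fun j => ball j.1 E ∩ U' j.2, fun j => j.2.1, ?_, ?_, ?_, ?_⟩
  · intro j
    exact (isOpen_ball _ hEo).inter (hU'o _)
  · rw [eq_univ_iff_forall]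
    intro y
    have : y ∈ ⋃ i, U' i := hU'cov ▸ mem_univ y
    obtain ⟨i, hi⟩ := mem_iUnion.mp this
    exact mem_iUnion.mpr ⟨(y, i), mem_ball_self y hE, hi⟩
  · intro j
    exact (closure_mono inter_subset_right).trans (hU'cl j.2)
  · intro t
    by_cases hne : (⋂ l, (ball (t l).1 E ∩ U' (t l).2)).Nonempty
    · obtain ⟨y, hy⟩ := hne
      rw [mem_iInter] at hy
      have hyK : y ∈ ⋂ l, closure (U' ((fun l => (t l).2) l)) :=
        mem_iInter.mpr fun l => subset_closure (hy l).2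
      obtain ⟨w, hw, hball⟩ := hDball (fun l => (t l).2) y hyK
      refine ⟨w, hw, ?_⟩
      intro y' hy'
      rw [mem_iInter] at hy'
      apply hball
      have h1 : (y, y') ∈ SetRel.comp E E := mem_comp_of_mem_ball (hy 0).1 (hy' 0).1
      exact mem_iInter.mp (hEE h1) _
    · rw [not_nonempty_iff_eq_empty] at hne
      obtain ⟨w, hw⟩ := hWne ((fun j : X × s => j.2.1) ∘ t)
      exact ⟨w, hw, by rw [hne]; exact empty_subset _⟩

end Groth.Agent.Helper11
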