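/-
Separation of finitely many compact sets with empty intersection inside a "relatively Hausdorff"
compact set (helper11).
-/
import Mathlib.Topology.Compactness.Compact
import Mathlib.Topology.NhdsSet
import Mathlib.Order.Filter.Finite

set_option autoImplicit false

namespace Groth.Agent.Helper11

open Set Filter Topology

universe u

theorem iInf_fin_succ' {α : Type*} [CompleteLattice α] {n : ℕ} (g : Fin (n + 1) → α) :
    ⨅ l, g l = g 0 ⊓ ⨅ l : Fin n, g l.succ := by
  apply le_antisymm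
  · exact le_inf (iInf_le _ 0) (le_iInf fun l => iInf_le _ l.succ)
  · refine le_iInf fun l => ?_
    refine Fin.cases inf_le_left (fun l => inf_le_right.trans (iInf_le _ l)) l

theorem disjoint_iInf_nhdsSet_of_pointwise {X : Type u} [TopologicalSpace X] :
    ∀ (n : ℕ) (F : Filter X) (L : Fin n → Set X), (∀ l, IsCompact (L l)) →
      (∀ x : Fin n → X, (∀ l, x l ∈ L l) → Disjoint F (⨅ l, 𝓝 (x l))) →
      Disjoint F (⨅ l, 𝓝ˢ (L l)) := by
  intro n
  induction n with
  | zero =>
    intro F L _ h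
    have := h Fin.elim0 (fun l => l.elim0)
    rw [iInf_of_empty] at this ⊢
    exact this
  | succ n ih =>
    intro F L hL h
    rw [iInf_fin_succ', ← disjoint_assoc]
    refine ih (F ⊓ 𝓝ˢ (L 0)) (fun l => L l.succ) (fun l => hL l.succ) ?_
    intro x' hx'
    rw [inf_comm, disjoint_assoc, (hL 0).disjoint_nhdsSet_left]
    intro x0 hx0
    have := h (Fin.cons x0 x') (by
      intro l
      refine Fin.cases ?_ (fun l => ?_) l
      · simpa using hx0
      · simpa using hx' l)
    rw [iInf_fin_succ'] at this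
    simp only [Fin.cons_zero, Fin.cons_succ] at this
    rw [← disjoint_assoc, inf_comm, disjoint_assoc] at this
    exact this

/-- Multi-set separation: finitely many compact subsets of `Z` with empty intersection have open
neighbourhoods with empty intersection, if points of `Z` are separated by opens of `X`. -/
theorem exists_open_iInter_eq_empty {X : Type u} [TopologicalSpace X] (Z : Set X)
    (hZsep : ∀ z ∈ Z, ∀ z' ∈ Z, z ≠ z' →
      ∃ A B : Set X, IsOpen A ∧ IsOpen B ∧ z ∈ A ∧ z' ∈ B ∧ Disjoint A B)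
    {n : ℕ} (L : Fin n → Set X) (hLc : ∀ l, IsCompact (L l)) (hLZ : ∀ l, L l ⊆ Z)
    (hempty : ⋂ l, L l = ∅) :
    ∃ O : Fin n → Set X, (∀ l, IsOpen (O l)) ∧ (∀ l, L l ⊆ O l) ∧ ⋂ l, O l = ∅ := by
  rcases n with _ | n
  · refine ⟨fun l => l.elim0, fun l => l.elim0, fun l => l.elim0, ?_⟩
    rw [← hempty]
    simp
  have h1 : Disjoint (⊤ : Filter X) (⨅ l, 𝓝ˢ (L l)) := by
    refine disjoint_iInf_nhdsSet_of_pointwise (n + 1) ⊤ L hLc ?_
    intro x hx
    rw [top_disjoint]
    have h2 : ∃ l, x l ≠ x 0 := by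
      by_contra hcon
      push Not at hcon
      have : x 0 ∈ ⋂ l, L l := mem_iInter.mpr fun l => hcon l ▸ hx l
      rw [hempty] at this
      exact this
    obtain ⟨l, hl⟩ := h2
    obtain ⟨A, B, hA, hB, hxA, hxB, hAB⟩ := hZsep _ (hLZ l (hx l)) _ (hLZ 0 (hx 0)) hl
    have h3 : Disjoint (𝓝 (x l)) (𝓝 (x 0)) :=
      Filter.disjoint_iff.mpr ⟨A, hA.mem_nhds hxA, B, hB.mem_nhds hxB, hAB⟩
    rw [← le_bot_iff, ← h3.eq_bot]
    exact le_inf (iInf_le _ l) (iInf_le _ 0)
  rw [top_disjoint] at h1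
  have h2 : (∅ : Set X) ∈ ⨅ l, 𝓝ˢ (L l) := by rw [h1]; exact Filter.mem_bot
  obtain ⟨t, ht, hte⟩ := (Filter.mem_iInf_of_finite _).mp h2
  choose O hOo hLO hOt using fun l => mem_nhdsSet_iff_exists.mp (ht l)
  refine ⟨O, hOo, hLO, ?_⟩
  rw [← subset_empty_iff, hte]
  exact iInter_mono hOt

end Groth.Agent.Helper11
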