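/-
Shrinking a cover of a relatively Hausdorff compact subset compatibly with given opens on
(p+1)-fold intersections (helper11), Stacks 09V3-style.
-/
import Groth.Agent.Lib.Helper11.MultiSep
import Mathlib.Topology.Separation.Hausdorff
import Mathlib.Topology.Compactness.LocallyCompact
import Mathlib.Tactic.FinCases

set_option autoImplicit false

namespace Groth.Agent.Helper11

open Set Filter Topology

universe u

theorem exists_opens_lifting_cover {X : Type u} [TopologicalSpace X]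
    (Z : Set X) (hZ : IsCompact Z)
    (hZsep : ∀ z ∈ Z, ∀ z' ∈ Z, z ≠ z' →
      ∃ A B : Set X, IsOpen A ∧ IsOpen B ∧ z ∈ A ∧ z' ∈ B ∧ Disjoint A B)
    {ι : Type u} (U : ι → Set X) (hU : ∀ i, IsOpen (U i)) (hcov : Z ⊆ ⋃ i, U i) (p : ℕ)
    (W : (Fin (p + 1) → ι) → Set X) (hWo : ∀ t, IsOpen (W t))
    (hWZ : ∀ t, W t ∩ Z = (⋂ l, U (t l)) ∩ Z) :
    ∃ V : ι → Set X, (∀ i, IsOpen (V i)) ∧ (Z ⊆ ⋃ i, V i) ∧ (∀ i, V i ⊆ U i) ∧
      (∀ i, closure (V i) ∩ Z ⊆ U i) ∧ (∀ t : Fin (p + 1) → ι, (⋂ l, V (t l)) ⊆ W t) := by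
  classical
  rcases Z.eq_empty_or_nonempty with hZe | ⟨z0, hz0⟩
  · refine ⟨fun _ => ∅, fun _ => isOpen_empty, by simp [hZe], fun _ => empty_subset _,
      by simp, ?_⟩
    intro t x hx
    exact absurd (mem_iInter.mp hx 0) (notMem_empty x)
  have : Nonempty ι := ⟨(mem_iUnion.mp (hcov hz0)).choose⟩
  -- Step 1: for each z ∈ Z choose an index and a small open neighbourhood.
  have hb : ∀ z ∈ Z, ∃ (i : ι) (A : Set X), IsOpen A ∧ z ∈ A ∧ closure A ∩ Z ⊆ U i := by
    intro z hz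
    obtain ⟨i, hi⟩ := mem_iUnion.mp (hcov hz)
    obtain ⟨O, hOo, hLO, hOe⟩ := exists_open_iInter_eq_empty Z hZsep
      (![{z}, Z ∩ (U i)ᶜ] : Fin 2 → Set X) (by
        intro l
        fin_cases l
        · exact isCompact_singleton
        · exact hZ.inter_right (hU i).isClosed_compl) (by
        intro l
        fin_cases l
        · simpa using hz
        · exact inter_subset_left) (by
        rw [← subset_empty_iff]
        intro x hx
        rw [mem_iInter] at hx
        have h0 : x = z := hx 0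
        have h1 : x ∈ Z ∩ (U i)ᶜ := hx 1
        exact h1.2 (h0 ▸ hi))
    refine ⟨i, O 0, hOo 0, hLO 0 rfl, ?_⟩
    rintro y ⟨hy, hyZ⟩
    by_contra hyU
    have hy1 : y ∈ O 1 := hLO 1 ⟨hyZ, hyU⟩
    obtain ⟨y', hy'1, hy'0⟩ := mem_closure_iff.mp hy (O 1) (hOo 1) hy1
    have : y' ∈ ⋂ l, O l := by
      refine mem_iInter.mpr fun l => ?_
      fin_cases l
      · exact hy'0
      · exact hy'1
    rw [hOe] at this
    exact this
  choose! idx A hAo hzA hAcl using hb
  obtain ⟨T, hTZ, hTcov⟩ := hZ.elim_nhds_subcover A fun z hz => (hAo z hz).mem_nhds (hzA z hz)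
  let s : Finset ι := T.image idx
  let G : ι → Set X := fun i => ⋃ z ∈ T.filter (fun z => idx z = i), A z
  let C : ι → Set X := fun i => ⋃ z ∈ T.filter (fun z => idx z = i), closure (A z)
  have hGo : ∀ i, IsOpen (G i) := fun i =>
    isOpen_biUnion fun z hz => hAo z (hTZ z (Finset.mem_filter.mp hz).1)
  have hCc : ∀ i, IsClosed (C i) := fun i => isClosed_biUnion_finset fun z _ => isClosed_closure
  have hGC : ∀ i, G i ⊆ C i := fun i =>
    iUnion₂_mono fun z _ => subset_closure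
  have hCU : ∀ i, C i ∩ Z ⊆ U i := by
    rintro i y ⟨hyC, hyZ⟩
    simp only [C, mem_iUnion, Finset.mem_filter, exists_prop] at hyC
    obtain ⟨z, ⟨hzT, rfl⟩, hyz⟩ := hyC
    exact hAcl z (hTZ z hzT) ⟨hyz, hyZ⟩
  have hGs : ∀ i, (G i).Nonempty → i ∈ s := by
    rintro i ⟨y, hy⟩
    simp only [G, mem_iUnion, Finset.mem_filter, exists_prop] at hy
    obtain ⟨z, ⟨hzT, rfl⟩, -⟩ := hy
    exact Finset.mem_image_of_mem idx hzT
  -- Step 2: multi-separation for each tuple.
  have hsep : ∀ t : Fin (p + 1) → ι, ∃ O : Fin (p + 1) → Set X, (∀ l, IsOpen (O l)) ∧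
      (∀ l, Z ∩ C (t l) ∩ (W t)ᶜ ⊆ O l) ∧ ⋂ l, O l = ∅ := by
    intro t
    refine exists_open_iInter_eq_empty Z hZsep (fun l => Z ∩ C (t l) ∩ (W t)ᶜ)
      (fun l => (hZ.inter_right (hCc (t l))).inter_right (hWo t).isClosed_compl)
      (fun l => inter_subset_left.trans inter_subset_left) ?_
    rw [← subset_empty_iff]
    intro x hx
    rw [mem_iInter] at hx
    have hxZ : x ∈ Z := (hx 0).1.1
    have hxU : x ∈ (⋂ l, U (t l)) ∩ Z :=
      ⟨mem_iInter.mpr fun l => hCU (t l) ⟨(hx l).1.2, hxZ⟩, hxZ⟩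
    rw [← hWZ t] at hxU
    exact (hx 0).2 hxU.1
  choose O hOo hLO hOe using hsep
  let R : ι → Set X := fun i => ⋂ (t : Fin (p + 1) → ↥s), ⋂ (l : Fin (p + 1)),
    (if (t l).1 = i then W (fun l => (t l).1) ∪ O (fun l => (t l).1) l else univ)
  have hRo : ∀ i, IsOpen (R i) := by
    intro i
    refine isOpen_iInter_of_finite fun t => isOpen_iInter_of_finite fun l => ?_
    split_ifs
    · exact (hWo _).union (hOo _ _)
    · exact isOpen_univ
  refine ⟨fun i => U i ∩ G i ∩ R i, fun i => ((hU i).inter (hGo i)).inter (hRo i), ?_, ?_, ?_, ?_⟩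
  · intro z' hz'Z
    have h1 := hTcov hz'Z
    simp only [mem_iUnion, exists_prop] at h1
    obtain ⟨z, hzT, hz'A⟩ := h1
    have hz'cl : z' ∈ closure (A z) := subset_closure hz'A
    have hz'C : z' ∈ C (idx z) := by
      simp only [C, mem_iUnion, Finset.mem_filter, exists_prop]
      exact ⟨z, ⟨hzT, rfl⟩, hz'cl⟩
    refine mem_iUnion.mpr ⟨idx z, ⟨hAcl z (hTZ z hzT) ⟨hz'cl, hz'Z⟩, ?_⟩, ?_⟩
    · simp only [G, mem_iUnion, Finset.mem_filter, exists_prop]
      exact ⟨z, ⟨hzT, rfl⟩, hz'A⟩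
    · refine mem_iInter.mpr fun t => mem_iInter.mpr fun l => ?_
      split_ifs with h
      · by_cases hw : z' ∈ W (fun l => (t l).1)
        · exact Or.inl hw
        · refine Or.inr (hLO _ l ⟨⟨hz'Z, ?_⟩, hw⟩)
          rw [h]
          exact hz'C
      · trivial
  · intro i
    exact inter_subset_left.trans inter_subset_left
  · intro i
    refine (inter_subset_inter_left Z (closure_minimal ?_ (hCc i))).trans (hCU i)
    exact (inter_subset_left.trans inter_subset_right).trans (hGC i)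
  · intro t x hx
    rw [mem_iInter] at hx
    have hts : ∀ l, t l ∈ s := fun l => hGs _ ⟨x, (hx l).1.2⟩
    by_contra hxW
    have hxO : x ∈ ⋂ l, O t l := by
      refine mem_iInter.mpr fun l => ?_
      have h1 := mem_iInter.mp (mem_iInter.mp (hx l).2 (fun l => ⟨t l, hts l⟩)) l
      rw [if_pos rfl] at h1
      rcases h1 with h1 | h1
      · exact absurd h1 hxW
      · exact h1
    rw [hOe] at hxO
    exact hxO

end Groth.Agent.Helper11

namespace Groth.Agent.Helper11

open Set Filter Topology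

universe u

theorem exists_opens_lifting_cover_t2 {X : Type u} [TopologicalSpace X]
    [T2Space X] [LocallyCompactSpace X] (Z : Set X) (hZ : IsCompact Z)
    {ι : Type u} (U : ι → Set X) (hU : ∀ i, IsOpen (U i)) (hcov : Z ⊆ ⋃ i, U i) (p : ℕ)
    (W : (Fin (p + 1) → ι) → Set X) (hWo : ∀ t, IsOpen (W t))
    (hWZ : ∀ t, W t ∩ Z = (⋂ l, U (t l)) ∩ Z) :
    ∃ V : ι → Set X, (∀ i, IsOpen (V i)) ∧ (Z ⊆ ⋃ i, V i) ∧ (∀ i, closure (V i) ⊆ U i) ∧
      (∀ t : Fin (p + 1) → ι, (⋂ l, V (t l)) ⊆ W t) := by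
  classical
  obtain ⟨V, hVo, hVcov, hVU, -, hVW⟩ := exists_opens_lifting_cover Z hZ
    (fun z _ z' _ hne => t2_separation hne) U hU hcov p W hWo hWZ
  rcases Z.eq_empty_or_nonempty with hZe | ⟨z0, hz0⟩
  · refine ⟨fun _ => ∅, fun _ => isOpen_empty, by simp [hZe], by simp, ?_⟩
    intro t x hx
    exact absurd (mem_iInter.mp hx 0) (notMem_empty x)
  have : Nonempty ι := ⟨(mem_iUnion.mp (hcov hz0)).choose⟩
  have hb : ∀ z ∈ Z, ∃ (i : ι) (K : Set X), IsCompact K ∧ z ∈ interior K ∧ K ⊆ V i := by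
    intro z hz
    obtain ⟨i, hi⟩ := mem_iUnion.mp (hVcov hz)
    obtain ⟨K, hK, hzK, hKV⟩ := exists_compact_subset (hVo i) hi
    exact ⟨i, K, hK, hzK, hKV⟩
  choose! idx K hKc hzK hKV using hb
  obtain ⟨T, hTZ, hTcov⟩ := hZ.elim_nhds_subcover (fun z => interior (K z))
    fun z hz => isOpen_interior.mem_nhds (hzK z hz)
  have hsub : ∀ i, (⋃ z ∈ T.filter (fun z => idx z = i), K z) ⊆ V i := by
    intro i y hy
    simp only [mem_iUnion, Finset.mem_filter, exists_prop] at hy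
    obtain ⟨z, ⟨hzT, rfl⟩, hyz⟩ := hy
    exact hKV z (hTZ z hzT) hyz
  have hsub' : ∀ i, (⋃ z ∈ T.filter (fun z => idx z = i), interior (K z)) ⊆
      ⋃ z ∈ T.filter (fun z => idx z = i), K z := fun i =>
    iUnion₂_mono fun z _ => interior_subset
  refine ⟨fun i => ⋃ z ∈ T.filter (fun z => idx z = i), interior (K z), ?_, ?_, ?_, ?_⟩
  · intro i
    exact isOpen_biUnion fun _ _ => isOpen_interior
  · intro z' hz'
    have h1 := hTcov hz'
    simp only [mem_iUnion, exists_prop] at h1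
    obtain ⟨z, hzT, hz'K⟩ := h1
    refine mem_iUnion.mpr ⟨idx z, ?_⟩
    simp only [mem_iUnion, Finset.mem_filter, exists_prop]
    exact ⟨z, ⟨hzT, rfl⟩, hz'K⟩
  · intro i
    refine (closure_minimal (hsub' i) ?_).trans ((hsub i).trans (hVU i))
    exact isClosed_biUnion_finset fun z hz =>
      (hKc z (hTZ z (Finset.mem_filter.mp hz).1)).isClosed
  · intro t
    exact (iInter_mono fun l => (hsub' (t l)).trans (hsub (t l))).trans (hVW t)

end Groth.Agent.Helper11
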