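import Groth.Agent.Lib.Helper11.AdicDC4
import Groth.Agent.Lib.Helper11.DCStupid

/-!
# Derived completion: shifts, triangles, finiteness classes (helper11)
-/

set_option autoImplicit false
set_option linter.unusedSectionVars false
set_option linter.unusedVariables false
set_option linter.style.haveILetI false

universe u v w

open CategoryTheory CategoryTheory.Limits Pretriangulated DerivedCategory

attribute [local instance] HasDerivedCategory.standard

namespace Groth.Agent.Helper11.CofEq

open Groth.Agent.Helper11.DC Groth.Agent.Helper11.DCP Groth.Agent.Helper11.AdicDC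

section Generic

variable {C : Type v} [Category.{w} C] [HasShift C ℤ]

theorem bijective_comp_shift_gen {X X' E : C} (η : X ⟶ X') (n : ℤ)
    (h : Function.Bijective (fun φ : X' ⟶ E⟦-n⟧ => η ≫ φ)) :
    Function.Bijective (fun φ : X'⟦n⟧ ⟶ E => η⟦n⟧' ≫ φ) := by
  let adj := (shiftEquiv' C n (-n) (add_neg_cancel n)).toAdjunction
  have hc : (adj.homEquiv X E) ∘ (fun φ : X'⟦n⟧ ⟶ E => η⟦n⟧' ≫ φ) =
      (fun φ : X' ⟶ E⟦-n⟧ => η ≫ φ) ∘ (adj.homEquiv X' E) :=
    funext (fun g => adj.homEquiv_naturality_left η g)
  have h1 : Function.Bijective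
      ((fun φ : X' ⟶ E⟦-n⟧ => η ≫ φ) ∘ (adj.homEquiv X' E)) :=
    h.comp (adj.homEquiv X' E).bijective
  rw [← hc] at h1
  exact (Function.Bijective.of_comp_iff' (adj.homEquiv X E).bijective _).mp h1

end Generic

variable {A : Type u} [CommRing A] (I : Ideal A) [DRing.HasDerivedCompletion I]

/-- the derived completion commutes with shifts -/
theorem exists_completion_shift_iso (K : Dual.D A) (n : ℤ) :
    ∃ e : ((DRing.derivedCompletion I).obj (K⟦n⟧)).obj ≅
        (((DRing.derivedCompletion I).obj K).obj)⟦n⟧,
      DRing.toDerivedCompletion I (K⟦n⟧) ≫ e.hom = (DRing.toDerivedCompletion I K)⟦n⟧' := by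
  apply exists_iso_completion I (K⟦n⟧) _ ((DRing.toDerivedCompletion I K)⟦n⟧')
    (isDerivedComplete_shift I _ ((DRing.derivedCompletion I).obj K).property n)
  intro E hE
  exact bijective_comp_shift_gen _ n
    (bijective_unit_comp I K _ (isDerivedComplete_shift I E hE (-n)))

/-- the derived completion of an isomorphism -/
noncomputable def completionMapIso {K L : Dual.D A} (e : K ≅ L) :
    ((DRing.derivedCompletion I).obj K).obj ≅ ((DRing.derivedCompletion I).obj L).obj :=
  (ObjectProperty.ι _).mapIso ((DRing.derivedCompletion I).mapIso e)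

/-- the derived completion sends distinguished triangles to distinguished triangles -/
theorem exists_completion_triangle (l : List A) (hI : Ideal.span {x : A | x ∈ l} = I)
    (T : Triangle (Dual.D A)) (hT : T ∈ distTriang (Dual.D A)) :
    ∃ (p' : ((DRing.derivedCompletion I).obj T.obj₂).obj ⟶
        ((DRing.derivedCompletion I).obj T.obj₃).obj)
      (d' : ((DRing.derivedCompletion I).obj T.obj₃).obj ⟶
        (((DRing.derivedCompletion I).obj T.obj₁).obj)⟦(1 : ℤ)⟧),
      Triangle.mk ((DRing.derivedCompletion I).map T.mor₁).hom p' d' ∈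
        distTriang (Dual.D A) := by
  obtain ⟨C', p', d', hT₂⟩ :=
    distinguished_cocone_triangle ((DRing.derivedCompletion I).map T.mor₁).hom
  have nat : T.mor₁ ≫ DRing.toDerivedCompletion I T.obj₂ =
      DRing.toDerivedCompletion I T.obj₁ ≫ ((DRing.derivedCompletion I).map T.mor₁).hom :=
    (DRing.derivedCompletionAdj I).unit.naturality T.mor₁
  obtain ⟨γ, hγ₂, hγ₃⟩ := complete_distinguished_triangle_morphism _ _ hT hT₂
    (DRing.toDerivedCompletion I T.obj₁) (DRing.toDerivedCompletion I T.obj₂) nat
  have hC' : DRing.IsDerivedComplete I C' := by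
    rw [isDerivedComplete_iff_list l I hI]
    intro f hf
    exact rOrth_obj₃ _ hT₂ f
      ((isDerivedComplete_iff_list l I hI _).mp
        ((DRing.derivedCompletion I).obj T.obj₁).property f hf)
      ((isDerivedComplete_iff_list l I hI _).mp
        ((DRing.derivedCompletion I).obj T.obj₂).property f hf)
  have hu : ∀ E : Dual.D A, DRing.IsDerivedComplete I E →
      Function.Bijective (fun ψ : C' ⟶ E => γ ≫ ψ) := by
    intro E hE
    exact bijective_comp_obj₃ _ _ hT hT₂ (DRing.toDerivedCompletion I T.obj₁)
      (DRing.toDerivedCompletion I T.obj₂) γ nat hγ₂ hγ₃ E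
      (bijective_unit_comp I T.obj₁ E hE) (bijective_unit_comp I T.obj₂ E hE)
      (bijective_comp_shift_one _
        (bijective_unit_comp I T.obj₁ _ (isDerivedComplete_shift I E hE (-1))))
      (bijective_comp_shift_one _
        (bijective_unit_comp I T.obj₂ _ (isDerivedComplete_shift I E hE (-1))))
  obtain ⟨e, _⟩ := exists_iso_completion I T.obj₃ C' γ hC' hu
  refine ⟨p' ≫ e.inv, e.hom ≫ d', ?_⟩
  refine isomorphic_distinguished _ hT₂ _ ?_
  refine Triangle.isoMk _ _ (Iso.refl _) (Iso.refl _) e ?_ ?_ ?_
  · show ((DRing.derivedCompletion I).map T.mor₁).hom ≫ 𝟙 _ =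
      𝟙 _ ≫ ((DRing.derivedCompletion I).map T.mor₁).hom
    exact (Category.comp_id _).trans (Category.id_comp _).symm
  · show (p' ≫ e.inv) ≫ e.hom = 𝟙 _ ≫ p'
    rw [Category.assoc, Iso.inv_hom_id, Category.comp_id, Category.id_comp]
  · show (e.hom ≫ d') ≫ (𝟙 _)⟦(1 : ℤ)⟧' = e.hom ≫ d'
    rw [CategoryTheory.Functor.map_id, Category.comp_id]

section Fin

variable [IsNoetherianRing A]

/-- `K^` has finite cohomology modules -/
def PFin (K : Dual.D A) : Prop :=
  ∀ i : ℤ, Module.Finite A (Dual.HD A ((DRing.derivedCompletion I).obj K).obj i)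

theorem finite_of_exact {X Y Z : ModuleCat.{u} A} (f : X ⟶ Y) (g : Y ⟶ Z) (w : f ≫ g = 0)
    (hex : (ShortComplex.mk f g w).Exact) [Module.Finite A X] [Module.Finite A Z] :
    Module.Finite A Y := by
  haveI : IsNoetherian A X := isNoetherian_of_isNoetherianRing_of_finite A X
  haveI : IsNoetherian A Z := isNoetherian_of_isNoetherianRing_of_finite A Z
  have hex' : Function.Exact f.hom g.hom := (ShortComplex.ShortExact.moduleCat_exact_iff_function_exact _).mp hex
  haveI : IsNoetherian A Y := isNoetherian_of_range_eq_ker f.hom g.hom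
    (LinearMap.exact_iff.mp hex').symm
  infer_instance

theorem pFin_thickLike (l : List A) (hI : Ideal.span {x : A | x ∈ l} = I) :
    ThickLike (PFin I) where
  iso e h i := by
    haveI := h i
    exact Module.Finite.equiv
      ((homologyFunctor (ModuleCat.{u} A) i).mapIso (completionMapIso I e)).toLinearEquiv
  shift K n h i := by
    obtain ⟨e, _⟩ := exists_completion_shift_iso I K n
    haveI := h (n + i)
    let e2 : (homologyFunctor (ModuleCat.{u} A) i).obj
        ((((DRing.derivedCompletion I).obj K).obj)⟦n⟧) ≅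
        (homologyFunctor (ModuleCat.{u} A) (n + i)).obj ((DRing.derivedCompletion I).obj K).obj :=
      ((homologyFunctor (ModuleCat.{u} A) 0).shiftIso n i (n + i) rfl).app _
    exact Module.Finite.equiv
      (((homologyFunctor (ModuleCat.{u} A) i).mapIso e) ≪≫ e2).symm.toLinearEquiv
  ext T hT h1 h3 i := by
    obtain ⟨p', d', hT'⟩ := exists_completion_triangle I l hI T hT
    have hex := HomologySequence.exact₂ _ hT' i
    haveI : Module.Finite A ((homologyFunctor (ModuleCat.{u} A) i).obj
        (Triangle.mk ((DRing.derivedCompletion I).map T.mor₁).hom p' d').obj₁) := h1 i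
    haveI : Module.Finite A ((homologyFunctor (ModuleCat.{u} A) i).obj
        (Triangle.mk ((DRing.derivedCompletion I).map T.mor₁).hom p' d').obj₃) := h3 i
    exact finite_of_exact _ _ _ hex
  zero K hK := by
    intro i
    have hz : IsZero ((DRing.derivedCompletion I).obj K).obj :=
      (ObjectProperty.ι _).map_isZero ((DRing.derivedCompletion I).map_isZero hK)
    haveI : Subsingleton (Dual.HD A ((DRing.derivedCompletion I).obj K).obj i) :=
      ModuleCat.subsingleton_of_isZero
        ((homologyFunctor (ModuleCat.{u} A) i).map_isZero hz)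
    infer_instance

end Fin

end Groth.Agent.Helper11.CofEq
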