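import Groth.Agent.Lib.Helper11.DCP6

/-!
# Cohomological bounds for derived completion (helper11)
-/

set_option autoImplicit false

open CategoryTheory CategoryTheory.Limits Pretriangulated DerivedCategory

universe u

attribute [local instance] HasDerivedCategory.standard

namespace Groth.Agent.Helper11.DCP

open Groth.Agent.Helper11.DC

variable {A : Type u} [CommRing A]

theorem subsingleton_hom_of_subsingleton_H0 (Y : Dual.D A)
    (h : Subsingleton ((homologyFunctor (ModuleCat.{u} A) 0).obj Y)) :
    Subsingleton (Dual.inD A A ⟶ Y) := by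
  have hb := psi_bijective (ModuleCat.of A A) Y
  refine ⟨fun a b => hb.1 ?_⟩
  apply ModuleCat.hom_ext
  apply LinearMap.ext
  intro x
  exact Subsingleton.elim _ _

theorem subsingleton_H0_of_subsingleton_hom (Y : Dual.D A)
    (h : Subsingleton (Dual.inD A A ⟶ Y)) :
    Subsingleton ((homologyFunctor (ModuleCat.{u} A) 0).obj Y) := by
  have hb := psi_bijective (ModuleCat.of A A) Y
  suffices ∀ m : (homologyFunctor (ModuleCat.{u} A) 0).obj Y, m = 0 from
    ⟨fun a b => by rw [this a, this b]⟩
  intro m
  obtain ⟨φ, hφ⟩ := hb.2 ((iota (ModuleCat.of A A)).hom ≫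
    ModuleCat.ofHom (LinearMap.toSpanSingleton A _ m))
  have hφ0 : φ = 0 := h.elim _ _
  have hψ : (iota (ModuleCat.of A A)).hom ≫
      ModuleCat.ofHom (LinearMap.toSpanSingleton A _ m) = 0 := by
    rw [← hφ, hφ0]
    simp [Psi]
  have h1 := congrArg (fun t => t.hom ((iota (ModuleCat.of A A)).inv.hom (1 : A))) hψ
  have hu : (iota (ModuleCat.of A A)).hom.hom ((iota (ModuleCat.of A A)).inv.hom (1 : A)) =
      (1 : A) := by
    rw [← LinearMap.comp_apply, ← ModuleCat.hom_comp, Iso.inv_hom_id]
    rfl
  simp only [ModuleCat.hom_comp, LinearMap.comp_apply, ModuleCat.hom_ofHom, ModuleCat.hom_zero,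
    LinearMap.zero_apply] at h1
  rw [hu, LinearMap.toSpanSingleton_apply, one_smul] at h1
  exact h1

theorem subsingleton_HD_iff (Y : Dual.D A) (i : ℤ) :
    Subsingleton (Dual.HD A Y i) ↔ Subsingleton (Dual.inD A A ⟶ Y⟦i⟧) := by
  have e := (sigma Y i).toLinearEquiv.toEquiv.subsingleton_congr
  constructor
  · intro h
    exact subsingleton_hom_of_subsingleton_H0 _ (e.mpr h)
  · intro h
    exact e.mp (subsingleton_H0_of_subsingleton_hom _ h)

/-- vanishing of cohomology of the completion along a list from vanishing of cohomology of `K`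
in a window -/
theorem subsingleton_HD_completion_of_list (l : List A) (I : Ideal A)
    (hI : Ideal.span {x : A | x ∈ l} = I) [DRing.HasDerivedCompletion I] (K : Dual.D A) (i : ℤ)
    (hK : ∀ j : ℕ, j ≤ l.length → Subsingleton (Dual.HD A K (i + j))) :
    Subsingleton (Dual.HD A ((DRing.derivedCompletion I).obj K).obj i) := by
  obtain ⟨K', η, hc, hu, hv⟩ := exists_completion_of_list l I hI K
  obtain ⟨e, _⟩ := exists_iso_completion I K K' η hc hu
  have h1 : Subsingleton (Dual.HD A K' i) := by
    rw [subsingleton_HD_iff]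
    apply subsingleton_shift_of_neg
    apply hv
    intro j hj
    apply subsingleton_neg_of_shift
    apply subsingleton_shift_add _ K (j : ℤ) i (i + j) (by omega)
    rw [← subsingleton_HD_iff]
    exact hK j hj
  exact (((homologyFunctor (ModuleCat.{u} A) i).mapIso e).toLinearEquiv.toEquiv.subsingleton_congr).mpr
    h1

/-- statement S7832 -/
theorem S7832_statement (I : Ideal A) (r : ℕ)
    (hI : ∃ s : Finset A, s.card ≤ r ∧ Ideal.span (s : Set A) = I) [DRing.HasDerivedCompletion I]
    (K : Dual.D A) (a : WithBot ℤ) (b : WithTop ℤ)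
    (hKa : ∀ i : ℤ, (i : WithBot ℤ) < a → Subsingleton (Dual.HD A K i))
    (hKb : ∀ i : ℤ, b < (i : WithTop ℤ) → Subsingleton (Dual.HD A K i)) (i : ℤ)
    (hi : ((i + r : ℤ) : WithBot ℤ) < a ∨ b < (i : WithTop ℤ)) :
    Subsingleton (Dual.HD A ((DRing.derivedCompletion I).obj K).obj i) := by
  obtain ⟨s, hsr, hs⟩ := hI
  have hl : Ideal.span {x : A | x ∈ s.toList} = I := by
    rw [← hs]
    congr 1
    ext x
    simp
  apply subsingleton_HD_completion_of_list s.toList I hl K i
  intro j hj
  rw [Finset.length_toList] at hj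
  rcases hi with hi | hi
  · apply hKa
    refine lt_of_le_of_lt ?_ hi
    exact WithBot.coe_le_coe.mpr (by omega)
  · apply hKb
    refine lt_of_lt_of_le hi ?_
    exact WithTop.coe_le_coe.mpr (by omega)

end Groth.Agent.Helper11.DCP
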