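import Groth.Agent.Lib.Helper3.HT4

/-!
# `Hom•(K, Hom•(L, M)) ≅ Hom•(K ⊗ L, M)` as complexes (helper11)
-/

set_option autoImplicit false

open CategoryTheory CategoryTheory.Limits MonoidalCategory CochainComplex HomComplex
open scoped TensorProduct

universe u

namespace Groth.Agent.Helper11.HomTen

open Groth.Agent.Helper3.HT

variable {A : Type u} [CommRing A] {S P W : DRing.Cx A}

theorem unc_smul {n : ℤ} (a : A) (ζ : Cochain S (DRing.homCx P W) n) :
    unc (a • ζ) = a • unc ζ := by
  refine Cochain.ext _ _ (fun m m' hm => ?_)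
  apply HomologicalComplex.mapBifunctor.hom_ext
  intro p q hpq
  change p + q = m at hpq
  apply ModuleCat.hom_ext
  apply TensorProduct.ext'
  intro x y
  refine (unc_v_tmul (a • ζ) p q m m' (p + n) hpq hm rfl x y).trans ?_
  have hR : (HomologicalComplex.ιMapBifunctor S P (curriedTensor (ModuleCat.{u} A)) (ComplexShape.up ℤ) p q m hpq ≫
      (a • unc ζ).v m m' hm).hom (x ⊗ₜ[A] y) =
      a • ((unc ζ).v m m' hm).hom ((HomologicalComplex.ιTensorObj S P p q m hpq).hom (x ⊗ₜ[A] y)) := by
    rw [Cochain.smul_v]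
    rfl
  rw [hR, unc_v_tmul ζ p q m m' (p + n) hpq hm rfl x y]
  rw [Cochain.smul_v, ModuleCat.hom_smul, LinearMap.smul_apply, toC_smul, Cochain.smul_v, ModuleCat.hom_smul,
    LinearMap.smul_apply]

/-- uncurrying as a linear equivalence -/
noncomputable def uncEquiv (S P W : DRing.Cx A) (n : ℤ) :
    Cochain S (DRing.homCx P W) n ≃ₗ[A] Cochain (S ⊗ P) W n where
  toFun := unc
  map_add' := unc_add
  map_smul' := unc_smul
  invFun := cur
  left_inv := cur_unc
  right_inv := unc_cur

/-- the isomorphism of complexes `Hom•(S, Hom•(P, W)) ≅ Hom•(S ⊗ P, W)` -/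
noncomputable def homCxTensorIso (S P W : DRing.Cx A) :
    DRing.homCx S (DRing.homCx P W) ≅ DRing.homCx (S ⊗ P) W :=
  HomologicalComplex.Hom.isoOfComponents (fun n => (uncEquiv S P W n).toModuleIso) (by
    intro i j hij
    change i + 1 = j at hij
    apply ModuleCat.hom_ext
    ext ζ
    exact δ_unc hij ζ)

end Groth.Agent.Helper11.HomTen
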