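import Groth.Agent.Lib.Helper5.KFlat12
import Groth.Agent.Lib.Helper11.Tel7
import Groth.Agent.Lib.Helper11.DCCone2
import Groth.Prelude.Def_DRing4

/-!
# `Hom•(P, -)` preserves quasi-isomorphisms for `P` K-projective; `RHom(P, L) ≅ Hom•(P, L)`
(helper11)
-/

set_option autoImplicit false

open CategoryTheory CategoryTheory.Limits CochainComplex HomComplex

universe u

attribute [local instance] HasDerivedCategory.standard

namespace Groth.Agent.Helper11.RHomK

variable {A : Type u} [CommRing A]

/-- a cocycle whose class in the derived category vanishes is a coboundary (`P` K-projective) -/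
theorem mem_coboundaries_of_Q_map_eq_zero (P L : DRing.Cx A) [P.IsKProjective] (n : ℤ)
    (z : Cocycle P L n)
    (h : DerivedCategory.Q.map (Cocycle.equivHomShift.symm z) = 0) :
    z ∈ coboundaries P L n := by
  obtain ⟨H⟩ := Groth.Agent.Helper11.Tel.homotopy_of_Q_map_eq P (L⟦n⟧)
    (Cocycle.equivHomShift.symm z) 0 (by rw [h, Functor.map_zero])
  rw [← CohomologyClass.toHom_mk_eq_zero_iff, CohomologyClass.toHom_mk]
  rw [HomotopyCategory.eq_of_homotopy _ _ H, Functor.map_zero]

/-- a coboundary has vanishing class in the derived category -/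
theorem Q_map_eq_zero_of_mem_coboundaries (P L : DRing.Cx A) (n : ℤ) (z : Cocycle P L n)
    (h : z ∈ coboundaries P L n) :
    DerivedCategory.Q.map (Cocycle.equivHomShift.symm z) = 0 := by
  rw [← CohomologyClass.toHom_mk_eq_zero_iff, CohomologyClass.toHom_mk,
    HomotopyCategory.quotient_map_eq_zero_iff] at h
  obtain ⟨H⟩ := h
  rw [DerivedCategory.Q_map_eq_of_homotopy (h := H), Functor.map_zero]


/-- `Hom•(P, -)` preserves quasi-isomorphisms for `P` K-projective -/
theorem quasiIso_homCxMap (P : DRing.Cx A) [P.IsKProjective] {L L' : DRing.Cx A} (f : L ⟶ L')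
    [QuasiIso f] : QuasiIso (DRing.homCxMap P f) := by
  apply Groth.Agent.Helper5.KF.quasiIso_of_elements
  · intro n n' hn (x : Cochain P L n') (m : Cochain P L' n) hx hm
    change δ n' (n' + 1) x = 0 at hx
    change x.comp (Cochain.ofHom f) (add_zero n') = δ n n' m at hm
    let zx : Cocycle P L n' := Cocycle.mk x (n' + 1) rfl hx
    have h1 : zx.postcomp f ∈ coboundaries P L' n' := by
      rw [mem_coboundaries_iff _ n hn]
      exact ⟨m, hm.symm⟩
    have h2 := Q_map_eq_zero_of_mem_coboundaries P L' n' _ h1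
    rw [Cocycle.equivHomShift_symm_postcomp, Functor.map_comp] at h2
    haveI : IsIso (DerivedCategory.Q.map (f⟦n'⟧')) := by
      rw [DerivedCategory.isIso_Q_map_iff_quasiIso]
      infer_instance
    have h3 : DerivedCategory.Q.map (Cocycle.equivHomShift.symm zx) = 0 := by
      rw [← cancel_mono (DerivedCategory.Q.map (f⟦n'⟧')), h2, zero_comp]
    have h4 := mem_coboundaries_of_Q_map_eq_zero P L n' zx h3
    rw [mem_coboundaries_iff _ n hn] at h4
    obtain ⟨y, hy⟩ := h4
    exact ⟨y, hy⟩
  · intro n n' hn (m : Cochain P L' n') hm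
    change δ n' (n' + 1) m = 0 at hm
    let zm : Cocycle P L' n' := Cocycle.mk m (n' + 1) rfl hm
    haveI : IsIso (DerivedCategory.Q.map (f⟦n'⟧')) := by
      rw [DerivedCategory.isIso_Q_map_iff_quasiIso]
      infer_instance
    obtain ⟨g', hg'⟩ := Groth.Agent.Helper11.DC.exists_lift_of_isKProjective P (L⟦n'⟧)
      (DerivedCategory.Q.map (Cocycle.equivHomShift.symm zm) ≫
        inv (DerivedCategory.Q.map (f⟦n'⟧')))
    let zx : Cocycle P L n' := Cocycle.equivHomShift g'
    have h1 : DerivedCategory.Q.map (Cocycle.equivHomShift.symm (zx.postcomp f - zm)) = 0 := by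
      rw [map_sub, Functor.map_sub, Cocycle.equivHomShift_symm_postcomp, Functor.map_comp]
      change DerivedCategory.Q.map (Cocycle.equivHomShift.symm (Cocycle.equivHomShift g')) ≫ _ - _ = 0
      rw [AddEquiv.symm_apply_apply, hg', Category.assoc, IsIso.inv_hom_id, Category.comp_id,
        sub_self]
    have h2 := mem_coboundaries_of_Q_map_eq_zero P L' n' _ h1
    rw [mem_coboundaries_iff _ n hn] at h2
    obtain ⟨m', hm'⟩ := h2
    refine ⟨zx.1, m', ?_, ?_⟩
    · change δ n' (n' + 1) zx.1 = 0
      exact Cocycle.δ_eq_zero zx (n' + 1)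
    · change zx.1.comp (Cochain.ofHom f) (add_zero n') = m + δ n n' m'
      rw [hm']
      change _ = m + ((zx.postcomp f).1 - zm.1)
      change _ = m + (zx.1.comp (Cochain.ofHom f) (add_zero n') - m)
      abel


/-- `Hom•(P, -)` followed by localization inverts quasi-isomorphisms for `P` K-projective -/
theorem isInvertedBy_homCxQ (P : DRing.Cx A) [P.IsKProjective] :
    (HomologicalComplex.quasiIso (ModuleCat.{u} A) (ComplexShape.up ℤ)).IsInvertedBy
      (DRing.homCxQ P) := by
  intro L L' f hf
  haveI : QuasiIso f := hf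
  haveI := quasiIso_homCxMap P f
  change IsIso (DerivedCategory.Q.map (DRing.homCxMap P f))
  rw [DerivedCategory.isIso_Q_map_iff_quasiIso]
  infer_instance

/-- the unit of `RHom(P, -)` is an isomorphism for `P` K-projective -/
theorem isIso_RHomCx_unit (P : DRing.Cx A) [P.IsKProjective] [DRing.HasRHomCx P] :
    IsIso ((DRing.homCxQ P).totalRightDerivedUnit DerivedCategory.Q
      (HomologicalComplex.quasiIso (ModuleCat.{u} A) (ComplexShape.up ℤ))) :=
  Functor.isIso_of_isRightDerivedFunctor_of_inverts _ _ (isInvertedBy_homCxQ P)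

/-- `RHom(P, L) ≅ Hom•(P, L)` for `P` K-projective -/
noncomputable def RHomCxIso (P : DRing.Cx A) [P.IsKProjective] [DRing.HasRHomCx P]
    (L : DRing.Cx A) : (DRing.RHomCx P).obj (DRing.toD L) ≅ DRing.toD (DRing.homCx P L) :=
  haveI := isIso_RHomCx_unit P
  (asIso (((DRing.homCxQ P).totalRightDerivedUnit DerivedCategory.Q
      (HomologicalComplex.quasiIso (ModuleCat.{u} A) (ComplexShape.up ℤ))).app L)).symm

end Groth.Agent.Helper11.RHomK
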