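import Groth.Agent.Lib.Helper11.RHomLoc1
import Groth.Agent.Lib.Helper11.RHomK1
import Groth.Agent.Lib.Helper3.KF4
import Groth.Agent.Lib.Helper8.BiDual5

/-!
# `RHom(-, J)` and quasi-isomorphisms; duals of perfect complexes (helper11)

* `RHomDual.quasiIso_homCxPre`: `Hom•(s, J)` is a quasi-isomorphism for `s` a quasi-isomorphism and
  `J` K-injective.
* `RHomDual.nonempty_RHomCx_iso`: `RHom(E, Q L) ≅ Q (Hom•(P, L))` when `Q P ≅ Q E`, `P` K-projective.
* `RHomDual.vanishesOutside_dual`, `termwiseFiniteProjective_dual`, `bidualIso`: the dual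
  `Hom•(P, 𝟙)` of a bounded complex of finite projectives is again such, and `P ≅ P^∨∨`.
* `RHomDual.S6963_statement`.
-/

set_option autoImplicit false
set_option linter.unusedSectionVars false
set_option linter.unusedVariables false
set_option linter.style.haveILetI false

open CategoryTheory CategoryTheory.Limits MonoidalCategory CochainComplex HomComplex
open scoped TensorProduct

universe u

attribute [local instance] HasDerivedCategory.standard

namespace Groth.Agent.Helper11.RHomDual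

open Groth.Agent.Helper3.HT Groth.Agent.Helper3.TH Groth.Agent.Helper3.KF
  Groth.Agent.Helper11.RHomLoc Groth.Agent.Helper8.BiDual

variable {A : Type u} [CommRing A]

/-- a cocycle into a K-injective complex whose class in `D(A)` vanishes is a coboundary -/
theorem mem_coboundaries_of_Q_map_eq_zero_inj (X J : DRing.Cx A) [J.IsKInjective] (n : ℤ)
    (z : Cocycle X J n)
    (h : DerivedCategory.Q.map (Cocycle.equivHomShift.symm z) = 0) :
    z ∈ coboundaries X J n := by
  obtain ⟨H⟩ := Groth.Agent.Helper3.KF.homotopy_of_Q_map_eq_of_isKInjective X (J⟦n⟧)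
    (Cocycle.equivHomShift.symm z) 0 (by rw [h, Functor.map_zero])
  rw [← CohomologyClass.toHom_mk_eq_zero_iff, CohomologyClass.toHom_mk]
  rw [HomotopyCategory.eq_of_homotopy _ _ H, Functor.map_zero]

/-- `Hom•(-, J)` sends quasi-isomorphisms to quasi-isomorphisms for `J` K-injective -/
theorem quasiIso_homCxPre (J : DRing.Cx A) [J.IsKInjective] {P E : DRing.Cx A} (s : P ⟶ E)
    [QuasiIso s] : QuasiIso (homCxPre s J) := by
  haveI : IsIso (DerivedCategory.Q.map s) := by
    rw [DerivedCategory.isIso_Q_map_iff_quasiIso]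
    infer_instance
  apply Groth.Agent.Helper5.KF.quasiIso_of_elements
  · intro n n' hn (x : Cochain E J n') (m : Cochain P J n) hx hm
    change δ n' (n' + 1) x = 0 at hx
    change (Cochain.ofHom s).comp x (zero_add n') = δ n n' m at hm
    let zx : Cocycle E J n' := Cocycle.mk x (n' + 1) rfl hx
    have h1 : zx.precomp s ∈ coboundaries P J n' := by
      rw [mem_coboundaries_iff _ n hn]
      exact ⟨m, hm.symm⟩
    have h2 := Groth.Agent.Helper11.RHomK.Q_map_eq_zero_of_mem_coboundaries P J n' _ h1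
    rw [Cocycle.equivHomShift_symm_precomp, Functor.map_comp] at h2
    have h3 : DerivedCategory.Q.map (Cocycle.equivHomShift.symm zx) = 0 := by
      rw [← cancel_epi (DerivedCategory.Q.map s), h2, comp_zero]
    have h4 := mem_coboundaries_of_Q_map_eq_zero_inj E J n' zx h3
    rw [mem_coboundaries_iff _ n hn] at h4
    obtain ⟨y, hy⟩ := h4
    exact ⟨y, hy⟩
  · intro n n' hn (m : Cochain P J n') hm
    change δ n' (n' + 1) m = 0 at hm
    let zm : Cocycle P J n' := Cocycle.mk m (n' + 1) rfl hm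
    obtain ⟨g', hg'⟩ := Groth.Agent.Helper3.KF.exists_lift_of_isKInjective E (J⟦n'⟧)
      (inv (DerivedCategory.Q.map s) ≫ DerivedCategory.Q.map (Cocycle.equivHomShift.symm zm))
    let zx : Cocycle E J n' := Cocycle.equivHomShift g'
    have h1 : DerivedCategory.Q.map (Cocycle.equivHomShift.symm (zx.precomp s - zm)) = 0 := by
      rw [map_sub, Functor.map_sub, Cocycle.equivHomShift_symm_precomp, Functor.map_comp]
      change _ ≫ DerivedCategory.Q.map
        (Cocycle.equivHomShift.symm (Cocycle.equivHomShift g')) - _ = 0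
      rw [AddEquiv.symm_apply_apply, hg', IsIso.hom_inv_id_assoc, sub_self]
    have h2 := mem_coboundaries_of_Q_map_eq_zero_inj P J n' _ h1
    rw [mem_coboundaries_iff _ n hn] at h2
    obtain ⟨m', hm'⟩ := h2
    refine ⟨zx.1, m', ?_, ?_⟩
    · change δ n' (n' + 1) zx.1 = 0
      exact Cocycle.δ_eq_zero zx (n' + 1)
    · change (Cochain.ofHom s).comp zx.1 (zero_add n') = m + δ n n' m'
      rw [hm']
      change _ = m + ((zx.precomp s).1 - zm.1)
      change _ = m + ((Cochain.ofHom s).comp zx.1 (zero_add n') - m)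
      abel

/-- `RHom(E, Q L) ≅ Q (Hom•(P, L))` for `P` K-projective with `Q P ≅ Q E` -/
theorem nonempty_RHomCx_iso (E P : DRing.Cx A) [DRing.HasRHomCx E] [P.IsKProjective]
    (e : DerivedCategory.Q.obj P ≅ DerivedCategory.Q.obj E) (L : DRing.Cx A) :
    Nonempty ((DRing.RHomCx E).obj (DerivedCategory.Q.obj L) ≅
      DerivedCategory.Q.obj (DRing.homCx P L)) := by
  obtain ⟨J, j, hJ, hj, _, _⟩ := Groth.Agent.Helper29.KInjE.exists_kInjective_resolution L
  haveI := hJ
  haveI : QuasiIso j := hj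
  obtain ⟨s, hs⟩ := Groth.Agent.Helper11.DC.exists_lift_of_isKProjective P E e.hom
  haveI : QuasiIso s := by
    rw [← DerivedCategory.isIso_Q_map_iff_quasiIso, hs]
    infer_instance
  haveI := quasiIso_homCxPre J s
  haveI := Groth.Agent.Helper11.RHomK.quasiIso_homCxMap P j
  haveI i1 : IsIso (DerivedCategory.Q.map j) := by
    rw [DerivedCategory.isIso_Q_map_iff_quasiIso]
    infer_instance
  haveI i2 : IsIso (DerivedCategory.Q.map (homCxPre s J)) := by
    rw [DerivedCategory.isIso_Q_map_iff_quasiIso]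
    infer_instance
  haveI i3 : IsIso (DerivedCategory.Q.map (DRing.homCxMap P j)) := by
    rw [DerivedCategory.isIso_Q_map_iff_quasiIso]
    infer_instance
  exact ⟨(DRing.RHomCx E).mapIso (asIso (DerivedCategory.Q.map j)) ≪≫ RHomCxIsoInj E J ≪≫
    asIso (DerivedCategory.Q.map (homCxPre s J)) ≪≫
    (asIso (DerivedCategory.Q.map (DRing.homCxMap P j))).symm⟩

section Dual

theorem isZero_unit_X (q : ℤ) (hq : q ≠ 0) : IsZero ((𝟙_ (DRing.Cx A)).X q) :=
  HomologicalComplex.isZero_single_obj_X (ComplexShape.up ℤ) 0 (𝟙_ (ModuleCat.{u} A)) q hq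

theorem vanishesOutside_dual (P : DRing.Cx A) (a b : ℤ) (hP : DRing.VanishesOutside P a b) :
    DRing.VanishesOutside (DRing.homCx P (𝟙_ (DRing.Cx A))) (-b) (-a) := by
  intro n hn
  apply isZero_homCx_X
  intro p q hpq
  by_cases hq : q = 0
  · left
    apply hP
    subst hq
    rcases hn with h | h
    · right; omega
    · left; omega
  · right
    exact isZero_unit_X q hq

/-- `Hom•(P, 𝟙)ⁿ ≃ Hom(P⁻ⁿ, A)` -/
noncomputable def dualLinEquiv (P : DRing.Cx A) (n p : ℤ) (h : p + n = 0) :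
    Cochain P (𝟙_ (DRing.Cx A)) n ≃ₗ[A] (P.X p ⟶ ModuleCat.of A A) :=
  { (Cochain.toSingleEquiv (K := P) (X := ModuleCat.of A A) h) with
    map_smul' := fun a z => by
      change (a • z).v p 0 h ≫ _ = a • (z.v p 0 h ≫ _)
      rw [Cochain.smul_v, Linear.smul_comp] }

theorem termwiseFiniteProjective_dual (P : DRing.Cx A) (hfp : DRing.TermwiseFiniteProjective P) :
    DRing.TermwiseFiniteProjective (DRing.homCx P (𝟙_ (DRing.Cx A))) := by
  intro n
  haveI := (hfp (-n)).1
  haveI := (hfp (-n)).2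
  let e0 : Module.Dual A (P.X (-n)) ≃ₗ[A] (P.X (-n) ⟶ ModuleCat.of A A) :=
    (ModuleCat.homLinearEquiv (S := A) (M := P.X (-n)) (N := ModuleCat.of A A)).symm
  let e : Module.Dual A (P.X (-n)) ≃ₗ[A] Cochain P (𝟙_ (DRing.Cx A)) n :=
    e0 ≪≫ₗ (dualLinEquiv P n (-n) (by omega)).symm
  exact ⟨Module.Finite.equiv e, Module.Projective.of_equiv e⟩

/-- `P ≅ P^∨∨` for a bounded complex of finite projective modules -/
noncomputable def bidualIso (P : DRing.Cx A) (a b : ℤ) (hP : DRing.VanishesOutside P a b)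
    (hfp : DRing.TermwiseFiniteProjective P) :
    P ≅ DRing.homCx (DRing.homCx P (𝟙_ (DRing.Cx A))) (𝟙_ (DRing.Cx A)) :=
  haveI : IsIso (ψ P (𝟙_ (DRing.Cx A)) (𝟙_ (DRing.Cx A))) := by
    haveI : ∀ m, IsIso ((ψ P (𝟙_ (DRing.Cx A)) (𝟙_ (DRing.Cx A))).f m) := fun m =>
      isIso_ψ_f_of_perfect P a b hP hfp _ _ m
    exact HomologicalComplex.Hom.isIso_of_components _
  (λ_ P).symm ≪≫ whiskerRightIso (unitIso (𝟙_ (DRing.Cx A))).symm P ≪≫
    asIso (ψ P (𝟙_ (DRing.Cx A)) (𝟙_ (DRing.Cx A)))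

end Dual

/-- the dual of a perfect complex is perfect, and biduality -/
theorem S6963_statement (K : Dual.D A) (hK : DRing.IsPerfect A K)
    (E : DRing.Cx A) (eK : DRing.toD E ≅ K) [DRing.HasRHomCx E] :
    DRing.IsPerfect A ((DRing.RHomCx E).obj (Dual.inD A A)) ∧
      ∀ (E' : DRing.Cx A) (eK' : DRing.toD E' ≅ (DRing.RHomCx E).obj (Dual.inD A A))
        [DRing.HasRHomCx E'], Nonempty ((DRing.RHomCx E').obj (Dual.inD A A) ≅ K) := by
  obtain ⟨P, a, b, hP, hfp, ⟨eP⟩⟩ := hK
  haveI : P.IsKProjective := isKProjective_of_bounded P a b hP hfp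
  let eU : Dual.inD A A ≅ DerivedCategory.Q.obj (𝟙_ (DRing.Cx A)) :=
    (DerivedCategory.singleFunctorIsoCompQ (ModuleCat.{u} A) 0).app (ModuleCat.of A A)
  obtain ⟨e1⟩ := nonempty_RHomCx_iso E P (eP ≪≫ eK.symm) (𝟙_ (DRing.Cx A))
  have hD1 := vanishesOutside_dual P a b hP
  have hD2 := termwiseFiniteProjective_dual P hfp
  let e2 : (DRing.RHomCx E).obj (Dual.inD A A) ≅
      DerivedCategory.Q.obj (DRing.homCx P (𝟙_ (DRing.Cx A))) :=
    (DRing.RHomCx E).mapIso eU ≪≫ e1
  refine ⟨⟨_, -b, -a, hD1, hD2, ⟨e2.symm⟩⟩, ?_⟩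
  intro E' eK' _
  haveI : (DRing.homCx P (𝟙_ (DRing.Cx A))).IsKProjective :=
    isKProjective_of_bounded _ (-b) (-a) hD1 hD2
  obtain ⟨e3⟩ := nonempty_RHomCx_iso E' (DRing.homCx P (𝟙_ (DRing.Cx A)))
    (e2.symm ≪≫ eK'.symm) (𝟙_ (DRing.Cx A))
  exact ⟨(DRing.RHomCx E').mapIso eU ≪≫ e3 ≪≫
    DerivedCategory.Q.mapIso (bidualIso P a b hP hfp).symm ≪≫ eP⟩

end Groth.Agent.Helper11.RHomDual
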