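import Groth.Agent.Lib.Helper11.CechG2
import Groth.Agent.Lib.Helper11.HDIeq2
import Groth.Agent.Lib.Helper11.HomTen1
import Groth.Agent.Lib.Helper11.RHomDual1
import Groth.Agent.Lib.Helper11.Tel7
import Groth.Agent.Lib.Helper8.LD5

/-!
# Local duality and derived completion (helper11)

`Λ (RHom(K, ω)) ≅ RHom(RΓ_m K, E[0])` for a normalized dualizing complex `ω` over a Noetherian
local ring.
-/

set_option autoImplicit false
set_option linter.unusedSectionVars false
set_option linter.unusedVariables false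
set_option linter.style.haveILetI false

open CategoryTheory CategoryTheory.Limits MonoidalCategory CochainComplex HomComplex
  Pretriangulated DerivedCategory
open scoped TensorProduct

universe u

attribute [local instance] HasDerivedCategory.standard

namespace Groth.Agent.Helper11.LDC

open DerCA Groth.Agent.Helper3.HT Groth.Agent.Helper3.KF Groth.Agent.Helper11.RHomLoc
  Groth.Agent.Helper11.DCP Groth.Agent.Helper11.GM Groth.Agent.Helper11.RGam
  Groth.Agent.Helper11.RHomTri Groth.Agent.Helper8.BiDual Groth.Agent.Helper11.CechComp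
  Groth.Agent.Helper11.CechG

variable {A : Type u} [CommRing A]

/-- `Λ (Q J) ≅ Q Hom•(Č, J)` for `J` K-injective -/
theorem completion_iso_Q_homCx (fs : List A) (I : Ideal A)
    (hI : Ideal.span {x : A | x ∈ fs} = I) [DRing.HasDerivedCompletion I]
    (J : DRing.Cx A) [J.IsKInjective] :
    Nonempty (((DRing.derivedCompletion I).obj (Q.obj J)).obj ≅
      Q.obj (DRing.homCx (extCech (ModuleCat.of A A) fs) J)) := by
  obtain ⟨η, hu⟩ := exists_unit_extCech fs J
  have hc : ∀ g ∈ fs, ROrth g (Q.obj (DRing.homCx (extCech (ModuleCat.of A A) fs) J)) :=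
    fun g hg => rOrth_Q_homCx_of_acyclic _ J g
      (fun S hS hq => acyclic_tensor_extCech fs g hg S hS hq)
  have hcK' : DRing.IsDerivedComplete I (Q.obj (DRing.homCx (extCech (ModuleCat.of A A) fs) J)) :=
    (isDerivedComplete_iff_list fs I hI _).mpr hc
  have huK' : ∀ E : Dual.D A, DRing.IsDerivedComplete I E → Function.Bijective
      (fun φ : Q.obj (DRing.homCx (extCech (ModuleCat.of A A) fs) J) ⟶ E => η ≫ φ) :=
    fun E hE => hu E ((isDerivedComplete_iff_list fs I hI E).mp hE)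
  obtain ⟨i, _⟩ := exists_iso_completion I (Q.obj J) _ η hcK' huK'
  exact ⟨i⟩

/-- `Q Hom•(X, J)` only depends on `Q X`, for `J` K-injective -/
theorem nonempty_Q_homCx_iso_of_iso (J : DRing.Cx A) [J.IsKInjective] {X X' : DRing.Cx A}
    (e : Q.obj X ≅ Q.obj X') :
    Nonempty (Q.obj (DRing.homCx X J) ≅ Q.obj (DRing.homCx X' J)) := by
  obtain ⟨P, p, hP, _, hp⟩ := Groth.Agent.Helper11.Tel.exists_kprojective_resolution X
  haveI := hP
  haveI := hp
  haveI i1 : IsIso (Q.map p) := by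
    rw [isIso_Q_map_iff_quasiIso]
    infer_instance
  obtain ⟨t, ht⟩ := Groth.Agent.Helper11.DC.exists_lift_of_isKProjective P X' (Q.map p ≫ e.hom)
  haveI : QuasiIso t := by
    rw [← isIso_Q_map_iff_quasiIso, ht]
    infer_instance
  haveI := Groth.Agent.Helper11.RHomDual.quasiIso_homCxPre J p
  haveI := Groth.Agent.Helper11.RHomDual.quasiIso_homCxPre J t
  haveI i2 : IsIso (Q.map (homCxPre p J)) := by
    rw [isIso_Q_map_iff_quasiIso]
    infer_instance
  haveI i3 : IsIso (Q.map (homCxPre t J)) := by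
    rw [isIso_Q_map_iff_quasiIso]
    infer_instance
  exact ⟨asIso (Q.map (homCxPre p J)) ≪≫ (asIso (Q.map (homCxPre t J))).symm⟩

section Local

open IsLocalRing

variable [IsLocalRing A] [IsNoetherianRing A]

/-- `RΓ_m ω ≅ E[0]` for a normalized dualizing complex -/
theorem nonempty_RgammaI_dualizing_iso (ω : Dual.D A) (hω : Dual.IsDualizing A ω)
    (hn : Dual.IsNormalized A ω) (E : Type u) [AddCommGroup E] [Module A E]
    (f : ResidueField A →ₗ[A] E) (hf : InjHull.IsInjectiveHull f)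
    [DRing.HasRgammaI (maximalIdeal A)] :
    Nonempty ((DRing.RgammaI (maximalIdeal A)).obj ω ≅ Dual.inD A E) := by
  set R := (DRing.RgammaI (maximalIdeal A)).obj ω with hR
  have hz : ∀ i : ℤ, i ≠ 0 → IsZero ((homologyFunctor (ModuleCat.{u} A) i).obj R) := by
    intro i hi
    obtain ⟨e⟩ := Groth.Agent.Helper11.HDIeq.nonempty_equiv (maximalIdeal A) ω i
    haveI := Groth.Agent.Helper8.HDI.subsingleton_HDI ω hn i hi
    haveI : Subsingleton (Dual.HD A R i) := e.toEquiv.subsingleton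
    exact ModuleCat.isZero_of_subsingleton _
  have h1 : R.IsLE 0 := by
    rw [DerivedCategory.isLE_iff]
    intro i hi
    exact hz i (by omega)
  have h2 : R.IsGE 0 := by
    rw [DerivedCategory.isGE_iff]
    intro i hi
    exact hz i (by omega)
  obtain ⟨N, ⟨e⟩⟩ := exists_iso_singleFunctor_obj_of_isGE_of_isLE R 0
  have eN : (homologyFunctor (ModuleCat.{u} A) 0).obj R ≅ N :=
    (homologyFunctor (ModuleCat.{u} A) 0).mapIso e ≪≫
      (singleFunctorCompHomologyFunctorIso (ModuleCat.{u} A) 0).app N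
  obtain ⟨e0⟩ := Groth.Agent.Helper11.HDIeq.nonempty_equiv (maximalIdeal A) ω 0
  let e₀ : ω ≅ ω⟦(0 : ℤ)⟧ := ((shiftFunctorZero (Dual.D A) ℤ).app ω).symm
  have hω₀ := Groth.Agent.Helper8.FLD.isDualizing_of_iso e₀ hω
  have hn₀ := Groth.Agent.Helper8.FLD.isNormalized_of_iso e₀ hn
  obtain ⟨e1⟩ := Groth.Agent.Helper8.HDI.nonempty_HDI_zero_equiv ω (ω⟦(0 : ℤ)⟧) hω₀ hn₀ rfl hf
  have eE : N ≅ ModuleCat.of A E :=
    (eN.symm.toLinearEquiv.trans (e0.trans e1)).toModuleIso
  exact ⟨e ≪≫ (DerivedCategory.singleFunctor (ModuleCat.{u} A) 0).mapIso eE⟩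

/-- **local duality and derived completion** -/
theorem local_duality_derivedCompletion (ω : Dual.D A) (hω : Dual.IsDualizing A ω)
    (hn : Dual.IsNormalized A ω) (E : Type u) [AddCommGroup E] [Module A E]
    (f : ResidueField A →ₗ[A] E) (hf : InjHull.IsInjectiveHull f)
    [DRing.HasRgammaI (maximalIdeal A)] [DRing.HasDerivedCompletion (maximalIdeal A)]
    (K : DRing.Cx A) [DRing.HasRHomCx K] (G : DRing.Cx A) [DRing.HasRHomCx G]
    (hG : Nonempty (DRing.toD G ≅ (DRing.RgammaI (maximalIdeal A)).obj (DRing.toD K))) :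
    Nonempty (((DRing.derivedCompletion (maximalIdeal A)).obj ((DRing.RHomCx K).obj ω)).obj ≅
      (DRing.RHomCx G).obj (Dual.inD A E)) := by
  obtain ⟨eG⟩ := hG
  obtain ⟨fs, hfs⟩ := exists_list_span (maximalIdeal A)
  have hFG : (maximalIdeal A).FG := IsNoetherian.noetherian _
  -- the injective hull as a K-injective complex
  haveI : Module.Injective A E := hf.isInjective
  haveI : Injective (ModuleCat.of A E) :=
    (Module.injective_iff_injective_object A E).mp inferInstance
  haveI hJ : (Groth.Agent.Helper8.BiDual.sg (ModuleCat.of A E)).IsKInjective := isKInjective_single 0 (ModuleCat.of A E)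
  have eJ : Dual.inD A E ≅ Q.obj (Groth.Agent.Helper8.BiDual.sg (ModuleCat.of A E)) :=
    (singleFunctorIsoCompQ (ModuleCat.{u} A) 0).app (ModuleCat.of A E)
  -- a K-projective resolution of `K`
  obtain ⟨P, p, hP, _, hp⟩ := Groth.Agent.Helper11.Tel.exists_kprojective_resolution K
  haveI := hP
  haveI := hp
  haveI i1 : IsIso (Q.map p) := by
    rw [isIso_Q_map_iff_quasiIso]
    infer_instance
  -- step 1
  obtain ⟨hc, hu⟩ := S7101_statement (maximalIdeal A) hFG K ω
  obtain ⟨e1, _⟩ := exists_iso_completion (maximalIdeal A) ((DRing.RHomCx K).obj ω) _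
    ((DRing.RHomCx K).map (DRing.toDerivedCompletion (maximalIdeal A) ω)) hc hu
  -- step 2
  obtain ⟨-, ⟨e2a⟩⟩ := S1814_statement (maximalIdeal A) ω
  obtain ⟨e2b⟩ := nonempty_RgammaI_dualizing_iso ω hω hn E f hf
  have e2 : ((DRing.derivedCompletion (maximalIdeal A)).obj ω).obj ≅
      ((DRing.derivedCompletion (maximalIdeal A)).obj (Q.obj (Groth.Agent.Helper8.BiDual.sg (ModuleCat.of A E)))).obj :=
    (ObjectProperty.ι _).mapIso (e2a.symm ≪≫
      (DRing.derivedCompletion (maximalIdeal A)).mapIso (e2b ≪≫ eJ))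
  -- step 3
  obtain ⟨e3⟩ := completion_iso_Q_homCx fs (maximalIdeal A) hfs (Groth.Agent.Helper8.BiDual.sg (ModuleCat.of A E))
  -- step 4
  obtain ⟨e4⟩ := Groth.Agent.Helper11.RHomDual.nonempty_RHomCx_iso K P (asIso (Q.map p))
    (DRing.homCx (extCech (ModuleCat.of A A) fs) (Groth.Agent.Helper8.BiDual.sg (ModuleCat.of A E)))
  -- step 5
  have e5 := Q.mapIso (Groth.Agent.Helper11.HomTen.homCxTensorIso P
    (extCech (ModuleCat.of A A) fs) (Groth.Agent.Helper8.BiDual.sg (ModuleCat.of A E)))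
  -- step 6
  obtain ⟨e6a⟩ := cech_formula fs (maximalIdeal A) hfs P
  have e6 : Q.obj (P ⊗ extCech (ModuleCat.of A A) fs) ≅ Q.obj G :=
    e6a ≪≫ (DRing.RgammaI (maximalIdeal A)).mapIso (asIso (Q.map p)) ≪≫ eG.symm
  -- step 7
  obtain ⟨e7⟩ := nonempty_Q_homCx_iso_of_iso (Groth.Agent.Helper8.BiDual.sg (ModuleCat.of A E)) e6
  -- step 8
  have e8 : (DRing.RHomCx G).obj (Dual.inD A E) ≅
      Q.obj (DRing.homCx G (Groth.Agent.Helper8.BiDual.sg (ModuleCat.of A E))) :=
    (DRing.RHomCx G).mapIso eJ ≪≫ RHomCxIsoInj G (Groth.Agent.Helper8.BiDual.sg (ModuleCat.of A E))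
  exact ⟨e1 ≪≫ (DRing.RHomCx K).mapIso (e2 ≪≫ e3) ≪≫ e4 ≪≫ e5 ≪≫ e7 ≪≫ e8.symm⟩

end Local

end Groth.Agent.Helper11.LDC
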