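import Groth.Agent.Lib.Helper11.LDCx2
import Groth.Agent.Lib.Helper8.DFin3
import Groth.Agent.Lib.Helper8.LD11

/-!
# Local duality for unbounded complexes with finite cohomology (helper11)

The pairing `Λ : 𝓗_m(Y) → Hom_A(Hom(Y, ω), E)` is bijective for every `Y` with finite cohomology;
over a complete local ring this gives `Hom(K, ω[-i]) ≅ Hom_A(H^i_m(K), E)`.
-/

set_option autoImplicit false
set_option linter.unusedSectionVars false
set_option linter.unusedVariables false
set_option linter.style.haveILetI false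

open CategoryTheory CategoryTheory.Limits Opposite Pretriangulated

universe u

attribute [local instance] HasDerivedCategory.standard

namespace Groth.Agent.Helper11.LDCx

open DerivedCategory Groth.Agent.Helper8.FLD Groth.Agent.Helper8.HDI Groth.Agent.Helper8.LD
  IsLocalRing Groth.Agent.Helper8.DFin

section General

variable {A : Type u} [CommRing A] (I : Ideal A)

/-- `𝓗_I` vanishes on `D^{≥ 1}` -/
theorem subsingleton_HH_of_isGE (W : Dual.D A) (hW : W.IsGE 1) : Subsingleton (HH I W) := by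
  refine ⟨fun x y => ?_⟩
  have key : ∀ x : HH I W, x = 0 := by
    intro x
    obtain ⟨n, t, rfl⟩ := exists_repY I W x
    haveI : (Dual.inD A (A ⧸ I ^ n)).IsLE 0 := inferInstance
    have ht : t = 0 := TStructure.t.zero_of_isLE_of_isGE t 0 1 (by omega) inferInstance hW
    rw [ht, map_zero]
  rw [key x, key y]

variable (ω : Dual.D A) (E : Type u) [AddCommGroup E] [Module A E] (Ψ : HH I ω →ₗ[A] E)

theorem lam_bijective_of_subsingleton (Y : Dual.D A) (h1 : Subsingleton (HH I Y))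
    (h2 : Subsingleton (Y ⟶ ω)) : Function.Bijective (Lam ω E I Ψ Y) := by
  constructor
  · intro x y _
    exact Subsingleton.elim x y
  · intro φ
    refine ⟨0, ?_⟩
    rw [map_zero]
    ext ψ
    rw [Subsingleton.elim ψ 0, map_zero]
    exact (map_zero φ).symm

theorem subsingleton_hom_of_isLE_of_isGE (V W : Dual.D A) (e a : ℤ) (hV : V.IsLE e)
    (hW : W.IsGE a) (h : e < a) : Subsingleton (V ⟶ W) :=
  ⟨fun p q => by
    rw [TStructure.t.zero_of_isLE_of_isGE p e a h hV hW,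
      TStructure.t.zero_of_isLE_of_isGE q e a h hV hW]⟩

/-- finiteness of cohomology passes to shifts -/
theorem finite_HD_shift (K : Dual.D A) (hK : ∀ i : ℤ, Module.Finite A (Dual.HD A K i)) (n : ℤ)
    (j : ℤ) : Module.Finite A (Dual.HD A (K⟦n⟧) j) := by
  let e : (homologyFunctor (ModuleCat.{u} A) j).obj (K⟦n⟧) ≅
      (homologyFunctor (ModuleCat.{u} A) (n + j)).obj K :=
    ((homologyFunctor (ModuleCat.{u} A) 0).shiftIso n j (n + j) rfl).app K
  haveI : Module.Finite A ((homologyFunctor (ModuleCat.{u} A) (n + j)).obj K) := hK (n + j)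
  exact Module.Finite.equiv e.symm.toLinearEquiv

end General

variable {A : Type u} [CommRing A] [IsLocalRing A] [IsNoetherianRing A] (ω : Dual.D A)
  (hω : Dual.IsDualizing A ω) (hn : Dual.IsNormalized A ω)
  {E : Type u} [AddCommGroup E] [Module A E] {f : ResidueField A →ₗ[A] E}
  (hf : InjHull.IsInjectiveHull f)
  (Ψ : HH (maximalIdeal A) ω →ₗ[A] E) (hΨ : Function.Injective Ψ)

include hω in
theorem exists_injAmp : ∃ a b : ℤ, DRing.HasInjAmplitudeIn A a b ω := by
  obtain ⟨a, b, hab⟩ := hω.finite_injective_dimension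
  exact ⟨a, b, Groth.Agent.Helper11.DC.injAmp_of_hom_quotient_eq_zero ω a b
    (fun I i hi g => @Subsingleton.elim _ (hab (A ⧸ I) i hi) g 0)⟩

include hω hn hf hΨ in
/-- local duality for bounded above complexes with finite cohomology -/
theorem lam_bijective_of_isLE (Y : Dual.D A) (n : ℤ) (hY : Y.IsLE n)
    (hfin : ∀ i : ℤ, Module.Finite A (Dual.HD A Y i)) :
    Function.Bijective (Lam ω E (maximalIdeal A) Ψ Y) := by
  haveI := hf.isInjective
  obtain ⟨s, hs⟩ := (isNoetherianRing_iff_ideal_fg A).mp inferInstance (maximalIdeal A)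
  obtain ⟨fs, hfs⟩ : ∃ fs : List A, Ideal.span {x : A | x ∈ fs} = maximalIdeal A := by
    refine ⟨s.toList, ?_⟩
    rw [← hs]
    congr 1
    ext x
    simp
  obtain ⟨a, b, hamp⟩ := exists_injAmp ω hω
  obtain ⟨hωge, hωle⟩ := isGE_isLE_of_injAmp ω a b hamp
  obtain ⟨e, he1, he2⟩ : ∃ e : ℤ, e + fs.length < 0 ∧ e < a :=
    ⟨min (-(fs.length : ℤ)) a - 1, by omega, by omega⟩
  obtain ⟨X, M, f', g', h', hXle, hMge, hT, hfiso, hgiso⟩ := exists_trunc_triangle Y e
  -- `M` is bounded with finite cohomology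
  have hMz : ∀ i : ℤ, (i < e + 1 ∨ n < i) →
      IsZero ((homologyFunctor (ModuleCat.{u} A) i).obj M) := by
    intro i hi
    by_cases h1 : i < e + 1
    · exact M.isZero_of_isGE (e + 1) i h1
    · have h2 : n < i := by omega
      haveI := hgiso i (by omega)
      exact (Y.isZero_of_isLE n i h2).of_iso
        (asIso ((homologyFunctor (ModuleCat.{u} A) i).map g')).symm
  have hMfin : ∀ i : ℤ, Module.Finite A (Dual.HD A M i) := by
    intro i
    by_cases h1 : i < e + 1
    · haveI : Subsingleton (Dual.HD A M i) :=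
        ModuleCat.subsingleton_of_isZero (M.isZero_of_isGE (e + 1) i h1)
      infer_instance
    · haveI := hgiso i (by omega)
      haveI := hfin i
      exact Module.Finite.equiv
        (asIso ((homologyFunctor (ModuleCat.{u} A) i).map g')).toLinearEquiv
  have hM := lamBij_of_bounded_finite ω hω hn hf Ψ hΨ M (e + 1) n hMz hMfin
  -- `X` is trivial on both sides
  have hX1 : Subsingleton (HH (maximalIdeal A) X) :=
    subsingleton_HH_of_isLE fs _ hfs X e hXle he1
  have hX2 : Subsingleton (X ⟶ ω) := subsingleton_hom_of_isLE_of_isGE X ω e a hXle hωge he2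
  have hX1le : (X⟦(1 : ℤ)⟧).IsLE (e - 1) := TStructure.t.isLE_shift X e 1 (e - 1) (by omega)
  have hX3 : Subsingleton (HH (maximalIdeal A) (X⟦(1 : ℤ)⟧)) :=
    subsingleton_HH_of_isLE fs _ hfs (X⟦(1 : ℤ)⟧) (e - 1) hX1le (by omega)
  refine Lam_bijective_of_triangle ω E _ Ψ (Triangle.mk f' g' h') hT ?_ ?_ ?_ ?_
  · exact (hM (-1)).2
  · exact lam_bijective_of_subsingleton _ ω E Ψ X hX1 hX2
  · exact Lam_bijective_of_iso ω E _ Ψ ((shiftFunctorZero (Dual.D A) ℤ).app M) (hM 0)
  · intro x y _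
    exact @Subsingleton.elim _ hX3 x y

include hω hn hf hΨ in
/-- local duality for arbitrary complexes with finite cohomology -/
theorem lam_bijective_of_finite (Y : Dual.D A)
    (hfin : ∀ i : ℤ, Module.Finite A (Dual.HD A Y i)) :
    Function.Bijective (Lam ω E (maximalIdeal A) Ψ Y) := by
  haveI := hf.isInjective
  obtain ⟨a, b, hamp⟩ := exists_injAmp ω hω
  obtain ⟨n, hn0, hnb⟩ : ∃ n : ℤ, 0 ≤ n ∧ b ≤ n := ⟨max 0 b, by omega, by omega⟩
  obtain ⟨X, W, f', g', h', hXle, hWge, hT, hfiso, hgiso⟩ := exists_trunc_triangle Y n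
  have hXfin : ∀ i : ℤ, Module.Finite A (Dual.HD A X i) := by
    intro i
    by_cases h1 : i ≤ n
    · haveI := hfiso i h1
      haveI := hfin i
      exact Module.Finite.equiv
        (asIso ((homologyFunctor (ModuleCat.{u} A) i).map f')).symm.toLinearEquiv
    · haveI : Subsingleton (Dual.HD A X i) :=
        ModuleCat.subsingleton_of_isZero (X.isZero_of_isLE n i (by omega))
      infer_instance
  have hW1 : W.IsGE 1 := TStructure.t.isGE_of_ge W 1 (n + 1) (by omega)
  have hW2 : Subsingleton (W ⟶ ω) :=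
    ⟨fun p q => by
      rw [hom_eq_zero_of_isGE_of_injAmp W ω a b (n + 1) hamp (by omega) p,
        hom_eq_zero_of_isGE_of_injAmp W ω a b (n + 1) hamp (by omega) q]⟩
  haveI hW3 : (W⟦(-1 : ℤ)⟧).IsGE (n + 2) :=
    TStructure.t.isGE_shift W (n + 1) (-1) (n + 2) (by omega)
  have hW4 : Subsingleton (W⟦(-1 : ℤ)⟧ ⟶ ω) :=
    ⟨fun p q => by
      rw [hom_eq_zero_of_isGE_of_injAmp (W⟦(-1 : ℤ)⟧) ω a b (n + 2) hamp (by omega) p,
        hom_eq_zero_of_isGE_of_injAmp (W⟦(-1 : ℤ)⟧) ω a b (n + 2) hamp (by omega) q]⟩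
  have hX1le : (X⟦(1 : ℤ)⟧).IsLE (n - 1) := TStructure.t.isLE_shift X n 1 (n - 1) (by omega)
  refine Lam_bijective_of_triangle ω E _ Ψ (Triangle.mk f' g' h') hT ?_ ?_ ?_ ?_
  · exact (lam_bijective_of_subsingleton _ ω E Ψ (W⟦(-1 : ℤ)⟧)
      (subsingleton_HH_of_isGE _ _ (TStructure.t.isGE_of_ge (W⟦(-1 : ℤ)⟧) 1 (n + 2) (by omega)))
      hW4).2
  · exact lam_bijective_of_isLE ω hω hn hf Ψ hΨ X n hXle hXfin
  · exact lam_bijective_of_subsingleton _ ω E Ψ W (subsingleton_HH_of_isGE _ W hW1) hW2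
  · exact (lam_bijective_of_isLE ω hω hn hf Ψ hΨ (X⟦(1 : ℤ)⟧) (n - 1) hX1le
      (finite_HD_shift X hXfin 1)).1

include hω hn hf in
/-- **local duality for complexes over a complete local ring** -/
theorem local_duality_complete_complex [IsAdicComplete (maximalIdeal A) A] (K : Dual.D A)
    (hK : ∀ i : ℤ, Module.Finite A (Dual.HD A K i)) (i : ℤ) :
    Nonempty ((K ⟶ ω⟦(-i)⟧) ≃ₗ[A] (Dual2.HDI A (maximalIdeal A) K i →ₗ[A] E)) := by
  obtain ⟨Ψ⟩ := nonempty_HH_equiv ω hω hn hf
  have hb := lam_bijective_of_finite ω hω hn hf Ψ.toLinearMap Ψ.injective (K⟦i⟧)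
    (finite_HD_shift K hK i)
  let e2 : HH (maximalIdeal A) (K⟦i⟧) ≃ₗ[A] ((K⟦i⟧ ⟶ ω) →ₗ[A] E) := LinearEquiv.ofBijective _ hb
  let e3 := homShiftEquiv K ω i
  obtain ⟨a, b, hamp⟩ := exists_injAmp ω hω
  haveI : IsNoetherian A (K ⟶ ω⟦(-i)⟧) :=
    noetherian_hom K ω hK hω.finite_cohomology a b hamp (-i)
  haveI : Module.Finite A (K ⟶ ω⟦(-i)⟧) := Module.IsNoetherian.finite A _
  haveI : Module.Finite A (K⟦i⟧ ⟶ ω) := Module.Finite.equiv e3
  obtain ⟨e'⟩ := nonempty_equiv_bidual hf (K⟦i⟧ ⟶ ω)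
  exact ⟨e3.trans (e'.trans (LinearEquiv.arrowCongr e2.symm (LinearEquiv.refl A E)))⟩

end Groth.Agent.Helper11.LDCx
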