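import Groth.Agent.Lib.Helper11.CofEq1
import Groth.Agent.Lib.Helper11.LDCx3
import Groth.Agent.Lib.Helper11.LDC1
import Groth.Agent.Lib.Helper11.GM2
import Groth.Agent.Lib.Helper11.RGam5
import Groth.Agent.Lib.Helper11.DCP7
import Groth.Agent.Lib.Helper11.DCP8
import Groth.Agent.Lib.Helper11.HDIeq2
import Groth.Agent.S0315
import Groth.Agent.S0310
import Groth.Agent.S0316

/-!
# Finite / cofinite complexes over a complete local ring, part 2 (helper11)

The `RΓ_m` side: boundedness, Artinian cohomology, the unit of completion on complexes with finite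
cohomology, and the vanishing `Hom(N[0]^, ω[i]) = 0`.
-/

set_option autoImplicit false
set_option linter.unusedSectionVars false
set_option linter.unusedVariables false
set_option linter.style.haveILetI false

universe u

open CategoryTheory CategoryTheory.Limits Pretriangulated DerivedCategory

attribute [local instance] HasDerivedCategory.standard

namespace Groth.Agent.Helper11.CofEq

section PT

variable {A : Type u} [CommRing A] (I : Ideal A)

theorem isPowerTorsion_of_injective {M N : Type u} [AddCommGroup M] [Module A M]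
    [AddCommGroup N] [Module A N] (f : M →ₗ[A] N) (hf : Function.Injective f)
    (h : LocCoh.IsPowerTorsion I N) : LocCoh.IsPowerTorsion I M := by
  intro x
  obtain ⟨n, hn⟩ := h (f x)
  exact ⟨n, fun a ha => hf (by rw [map_smul, hn a ha, map_zero])⟩

theorem isPowerTorsion_of_surjective {M N : Type u} [AddCommGroup M] [Module A M]
    [AddCommGroup N] [Module A N] (f : M →ₗ[A] N) (hf : Function.Surjective f)
    (h : LocCoh.IsPowerTorsion I M) : LocCoh.IsPowerTorsion I N := by
  intro y
  obtain ⟨x, rfl⟩ := hf y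
  obtain ⟨n, hn⟩ := h x
  exact ⟨n, fun a ha => by rw [← map_smul, hn a ha, map_zero]⟩

theorem isPowerTorsion_of_subsingleton (M : Type u) [AddCommGroup M] [Module A M]
    [Subsingleton M] : LocCoh.IsPowerTorsion I M :=
  fun m => ⟨0, fun a _ => Subsingleton.elim _ _⟩

theorem isPowerTorsion_HD_inD (N : Type u) [AddCommGroup N] [Module A N]
    (hN : LocCoh.IsPowerTorsion I N) (i : ℤ) :
    LocCoh.IsPowerTorsion I (Dual.HD A (Dual.inD A N) i) := by
  rcases lt_trichotomy i 0 with hi | rfl | hi
  · have hz : IsZero ((homologyFunctor (ModuleCat.{u} A) i).obj (Dual.inD A N)) :=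
      isZero_of_isGE (Dual.inD A N) 0 i hi
    haveI : Subsingleton (Dual.HD A (Dual.inD A N) i) := ModuleCat.subsingleton_of_isZero hz
    exact isPowerTorsion_of_subsingleton I _
  · let e := (singleFunctorCompHomologyFunctorIso (ModuleCat.{u} A) 0).app (ModuleCat.of A N)
    exact isPowerTorsion_of_injective I e.toLinearEquiv.toLinearMap e.toLinearEquiv.injective hN
  · have hz : IsZero ((homologyFunctor (ModuleCat.{u} A) i).obj (Dual.inD A N)) :=
      isZero_of_isLE (Dual.inD A N) 0 i hi
    haveI : Subsingleton (Dual.HD A (Dual.inD A N) i) := ModuleCat.subsingleton_of_isZero hz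
    exact isPowerTorsion_of_subsingleton I _

theorem isPowerTorsion_HD_shift (K : Dual.D A)
    (hK : ∀ i : ℤ, LocCoh.IsPowerTorsion I (Dual.HD A K i)) (n j : ℤ) :
    LocCoh.IsPowerTorsion I (Dual.HD A (K⟦n⟧) j) := by
  let e : (homologyFunctor (ModuleCat.{u} A) j).obj (K⟦n⟧) ≅
      (homologyFunctor (ModuleCat.{u} A) (n + j)).obj K :=
    ((homologyFunctor (ModuleCat.{u} A) 0).shiftIso n j (n + j) rfl).app K
  exact isPowerTorsion_of_injective I e.toLinearEquiv.toLinearMap e.toLinearEquiv.injective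
    (hK (n + j))

theorem isDC_of_iso {K L : Dual.D A} (e : K ≅ L)
    (h : DRing.IsDerivedComplete I K) : DRing.IsDerivedComplete I L := by
  intro f hf n
  have := h f hf n
  refine ⟨fun a b => ?_⟩
  have h1 : a ≫ (CategoryTheory.shiftFunctor (Dual.D A) n).map e.inv =
      b ≫ (CategoryTheory.shiftFunctor (Dual.D A) n).map e.inv :=
    Subsingleton.elim _ _
  exact (cancel_mono ((CategoryTheory.shiftFunctor (Dual.D A) n).map e.inv)).mp h1

/-- a module placed in degree zero with injective underlying module has injective amplitude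
`[0, 0]` -/
theorem injAmp_inD_of_injective (E : Type u) [AddCommGroup E] [Module A E]
    [Module.Injective A E] : DRing.HasInjAmplitudeIn A 0 0 (Dual.inD A E) := by
  refine ⟨(HomologicalComplex.single (ModuleCat.{u} A) (ComplexShape.up ℤ) 0).obj
    (ModuleCat.of A E), ?_, ?_,
    ⟨((singleFunctorIsoCompQ (ModuleCat.{u} A) 0).app (ModuleCat.of A E)).symm⟩⟩
  · intro i hi
    exact HomologicalComplex.isZero_single_obj_X (ComplexShape.up ℤ) 0 _ i (by omega)
  · intro i
    by_cases hi : i = 0
    · subst hi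
      exact Groth.Agent.Helper11.DC.injective_of_equiv
        (HomologicalComplex.singleObjXSelf (ComplexShape.up ℤ) 0
          (ModuleCat.of A E)).symm.toLinearEquiv
    · have hz := HomologicalComplex.isZero_single_obj_X (ComplexShape.up ℤ) 0
        (ModuleCat.of A E) i hi
      haveI := ModuleCat.subsingleton_of_isZero hz
      exact Groth.Agent.Helper11.DC.injective_of_subsingleton _

end PT

section Noeth

variable {A : Type u} [CommRing A] [IsNoetherianRing A] (I : Ideal A)

/-- `RΓ_I` does not lower the cohomological lower bound -/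
theorem subsingleton_HD_RgammaI_of_lt [DRing.HasRgammaI I] (M : Dual.D A) (a : ℤ)
    (hM : ∀ i : ℤ, i < a → Subsingleton (Dual.HD A M i)) (q : ℤ) (hq : q < a) :
    Subsingleton (Dual.HD A ((DRing.RgammaI I).obj M) q) := by
  obtain ⟨e⟩ := Groth.Agent.Helper11.HDIeq.nonempty_equiv I M q
  haveI hGE : M.IsGE a := (DerivedCategory.isGE_iff M a).mpr
    (fun i hi => by
      haveI := hM i hi
      exact ModuleCat.isZero_of_subsingleton _)
  haveI h1 : (M⟦q⟧).IsGE (a - q) := TStructure.t.isGE_shift M a q (a - q) (by omega)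
  have h2 : (M⟦q⟧).IsGE 1 := TStructure.t.isGE_of_ge (M⟦q⟧) 1 (a - q) (by omega)
  haveI h3 : Subsingleton (Groth.Agent.Helper8.LD.HH I (M⟦q⟧)) :=
    Groth.Agent.Helper11.LDCx.subsingleton_HH_of_isGE I _ h2
  exact e.toEquiv.subsingleton

/-- `RΓ_I` preserves cohomological boundedness -/
theorem exists_bounds_RgammaI [DRing.HasRgammaI I] (M : Dual.D A) (a b : ℤ)
    (hM : ∀ i : ℤ, (i < a ∨ b < i) → Subsingleton (Dual.HD A M i)) :
    ∃ a' b' : ℤ, ∀ i : ℤ, (i < a' ∨ b' < i) →
      Subsingleton (Dual.HD A ((DRing.RgammaI I).obj M) i) := by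
  obtain ⟨fs, hfs⟩ := Groth.Agent.Helper11.GM.exists_list_span I
  have hLE : M.IsLE b := (DerivedCategory.isLE_iff M b).mpr
    (fun i hi => by
      haveI := hM i (Or.inr hi)
      exact ModuleCat.isZero_of_subsingleton _)
  have h1 := Groth.Agent.Helper11.LDCx.isLE_RgammaI fs I hfs M b hLE
  refine ⟨a, b + fs.length, fun i hi => ?_⟩
  rcases hi with hi | hi
  · exact subsingleton_HD_RgammaI_of_lt I M a (fun j hj => hM j (Or.inl hj)) i hi
  · exact ModuleCat.subsingleton_of_isZero
      (((DRing.RgammaI I).obj M).isZero_of_isLE (b + fs.length) i hi)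

/-- over an `I`-adically complete Noetherian ring, complexes with finite cohomology are derived
complete: the unit is an isomorphism -/
theorem isIso_toDerivedCompletion_of_finite [IsAdicComplete I A] [DRing.HasDerivedCompletion I]
    (M : Dual.D A) (hM : ∀ i : ℤ, Module.Finite A (Dual.HD A M i)) :
    IsIso (DRing.toDerivedCompletion I M) := by
  rw [DerivedCategory.isIso_iff]
  intro n
  obtain ⟨e, he⟩ := Groth.Agent.Helper11.AdicDC.completionH_of_finite I M hM n
  haveI := hM n
  haveI : IsAdicComplete I (Dual.HD A M n) :=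
    Groth.Agent.Helper11.AdicDC.isAdicComplete_of_finite A I _
  have hb : Function.Bijective (AdicCompletion.of I (Dual.HD A M n)) :=
    (AdicCompletion.of_bijective_iff).mpr inferInstance
  have hj : Function.Bijective
      ((homologyFunctor (ModuleCat.{u} A) n).map (DRing.toDerivedCompletion I M)).hom := by
    have h1 : ⇑(AdicCompletion.of I (Dual.HD A M n)) = ⇑e ∘
        ⇑((homologyFunctor (ModuleCat.{u} A) n).map (DRing.toDerivedCompletion I M)).hom :=
      funext (fun x => (he x).symm)
    rw [h1] at hb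
    exact (Function.Bijective.of_comp_iff' e.bijective _).mp hb
  exact (ConcreteCategory.isIso_iff_bijective _).mpr hj

end Noeth

section Loc

open IsLocalRing

variable {A : Type u} [CommRing A] [IsLocalRing A] [IsNoetherianRing A]

/-- Artinian = cofinite (power torsion with finitely generated socle) -/
theorem isArtinian_iff_cofinite (N : Type u) [AddCommGroup N] [Module A N] :
    IsArtinian A N ↔ LocCoh.IsPowerTorsion (maximalIdeal A) N ∧
      Module.Finite A ↥(LocCoh.torsionBy (maximalIdeal A) N) := by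
  rw [Groth.Agent.S0315.result A N]
  constructor
  · rintro ⟨h1, h2⟩
    exact ⟨h1, Module.Finite.trans (A ⧸ maximalIdeal A) _⟩
  · rintro ⟨h1, h2⟩
    exact ⟨h1, Module.Finite.of_restrictScalars_finite A (A ⧸ maximalIdeal A) _⟩

variable (ω : Dual.D A) (hω : Dual.IsDualizing A ω) (hn : Dual.IsNormalized A ω)

include hω hn in
/-- the local cohomology of a complex with finite cohomology over a complete local ring is
Artinian -/
theorem isArtinian_HD_RgammaI [IsAdicComplete (maximalIdeal A) A]
    [DRing.HasRgammaI (maximalIdeal A)] (M : Dual.D A)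
    (hM : ∀ i : ℤ, Module.Finite A (Dual.HD A M i)) (q : ℤ) :
    IsArtinian A (Dual.HD A ((DRing.RgammaI (maximalIdeal A)).obj M) q) := by
  obtain ⟨E, _, _, f, hf⟩ := Groth.Agent.Helper1.exists_injectiveHull (R := A) (ResidueField A)
  obtain ⟨Ψ⟩ := Groth.Agent.Helper8.LD.nonempty_HH_equiv ω hω hn hf
  obtain ⟨e1⟩ := Groth.Agent.Helper11.HDIeq.nonempty_equiv (maximalIdeal A) M q
  have hb := Groth.Agent.Helper11.LDCx.lam_bijective_of_finite ω hω hn hf Ψ.toLinearMap
    Ψ.injective (M⟦q⟧) (Groth.Agent.Helper11.LDCx.finite_HD_shift M hM q)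
  let e2 : Groth.Agent.Helper8.LD.HH (maximalIdeal A) (M⟦q⟧) ≃ₗ[A] ((M⟦q⟧ ⟶ ω) →ₗ[A] E) :=
    LinearEquiv.ofBijective _ hb
  obtain ⟨a, b, hamp⟩ := Groth.Agent.Helper11.LDCx.exists_injAmp ω hω
  haveI : IsNoetherian A (M ⟶ ω⟦(-q)⟧) :=
    Groth.Agent.Helper8.DFin.noetherian_hom M ω hM hω.finite_cohomology a b hamp (-q)
  haveI : Module.Finite A (M ⟶ ω⟦(-q)⟧) := Module.IsNoetherian.finite A _
  haveI : Module.Finite A (M⟦q⟧ ⟶ ω) :=
    Module.Finite.equiv (Groth.Agent.Helper8.LD.homShiftEquiv M ω q)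
  obtain ⟨n, S, ⟨e⟩⟩ := Module.Finite.exists_fin_quot_equiv A (M⟦q⟧ ⟶ ω)
  haveI hArt : IsArtinian A (((Fin n → A) ⧸ S) →ₗ[A] E) :=
    Groth.Agent.Helper8.Matlis.isArtinian_dual_of_finite hf ((Fin n → A) ⧸ S)
  let eT : Dual.HD A ((DRing.RgammaI (maximalIdeal A)).obj M) q ≃ₗ[A]
      (((Fin n → A) ⧸ S) →ₗ[A] E) :=
    e1.trans (e2.trans (LinearEquiv.arrowCongr e.symm (LinearEquiv.refl A E)))
  exact isArtinian_of_linearEquiv eT.symm

/-- no maps from shifted modules into an injective module -/
theorem subsingleton_shift_inD_hom_injective (E : Type u) [AddCommGroup E] [Module A E]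
    [Module.Injective A E] (N : Type u) [AddCommGroup N] [Module A N] (j : ℤ) (hj : j ≠ 0) :
    Subsingleton ((Dual.inD A N)⟦j⟧ ⟶ Dual.inD A E) := by
  have h0 : ∀ g : Dual.inD A N ⟶ (Dual.inD A E)⟦(-j)⟧, g = 0 := fun g =>
    Groth.Agent.Helper11.DC.hom_eq_zero_of_injAmp (Dual.inD A E) 0 0
      (injAmp_inD_of_injective E) (ModuleCat.of A N) (-j) (by omega) g
  haveI : Subsingleton (Dual.inD A N ⟶ (Dual.inD A E)⟦(-j)⟧) :=
    ⟨fun a b => (h0 a).trans (h0 b).symm⟩
  exact (Groth.Agent.Helper8.LD.homShiftEquiv (Dual.inD A N) (Dual.inD A E)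
    j).symm.toEquiv.subsingleton

include hω hn in
theorem subsingleton_shift_inD_hom_dualizing [DRing.HasRgammaI (maximalIdeal A)]
    (N : Type u) [AddCommGroup N] [Module A N]
    (hN : LocCoh.IsPowerTorsion (maximalIdeal A) N) (j : ℤ) (hj : j ≠ 0) :
    Subsingleton ((Dual.inD A N)⟦j⟧ ⟶ ω) := by
  obtain ⟨E, _, _, f, hf⟩ := Groth.Agent.Helper1.exists_injectiveHull (R := A) (ResidueField A)
  haveI := hf.isInjective
  obtain ⟨eω⟩ := Groth.Agent.Helper11.LDC.nonempty_RgammaI_dualizing_iso ω hω hn E f hf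
  have hL : ∀ i : ℤ, LocCoh.IsPowerTorsion (maximalIdeal A)
      (Dual.HD A ((Dual.inD A N)⟦j⟧) i) :=
    isPowerTorsion_HD_shift (maximalIdeal A) (Dual.inD A N)
      (isPowerTorsion_HD_inD (maximalIdeal A) N hN) j
  have hbij := Groth.Agent.Helper11.RGam.bijective_comp_ε (maximalIdeal A)
    ((Dual.inD A N)⟦j⟧) ω hL
  haveI := subsingleton_shift_inD_hom_injective (A := A) E N j hj
  refine ⟨fun g1 g2 => ?_⟩
  obtain ⟨g1', rfl⟩ := hbij.2 g1
  obtain ⟨g2', rfl⟩ := hbij.2 g2
  have h : g1' = g2' := by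
    rw [← cancel_mono eω.hom]
    exact Subsingleton.elim _ _
  rw [h]

include hω hn in
theorem subsingleton_inD_hom_shift_dualizing [DRing.HasRgammaI (maximalIdeal A)]
    (N : Type u) [AddCommGroup N] [Module A N]
    (hN : LocCoh.IsPowerTorsion (maximalIdeal A) N) (i : ℤ) (hi : i ≠ 0) :
    Subsingleton (Dual.inD A N ⟶ ω⟦i⟧) := by
  haveI := subsingleton_shift_inD_hom_dualizing ω hω hn N hN (-i) (by omega)
  have h : Subsingleton (Dual.inD A N ⟶ ω⟦(-(-i))⟧) :=
    (Groth.Agent.Helper8.LD.homShiftEquiv (Dual.inD A N) ω (-i)).toEquiv.subsingleton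
  rwa [neg_neg] at h

include hω hn in
/-- part (c): the completion of a cofinite module is perverse coherent -/
theorem subsingleton_completion_inD_hom [IsAdicComplete (maximalIdeal A) A]
    [DRing.HasRgammaI (maximalIdeal A)] [DRing.HasDerivedCompletion (maximalIdeal A)]
    (N : Type u) [AddCommGroup N] [Module A N]
    (hN : LocCoh.IsPowerTorsion (maximalIdeal A) N) (i : ℤ) (hi : i ≠ 0) :
    Subsingleton (((DRing.derivedCompletion (maximalIdeal A)).obj (Dual.inD A N)).obj ⟶ ω⟦i⟧) := by
  haveI := isIso_toDerivedCompletion_of_finite (maximalIdeal A) ω hω.finite_cohomology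
  have hωc : DRing.IsDerivedComplete (maximalIdeal A) ω :=
    isDC_of_iso _ (asIso (DRing.toDerivedCompletion (maximalIdeal A) ω)).symm
      ((DRing.derivedCompletion (maximalIdeal A)).obj ω).property
  have hωi := Groth.Agent.Helper11.DCP.isDerivedComplete_shift (maximalIdeal A) ω hωc i
  have hb := Groth.Agent.Helper11.DCP.bijective_unit_comp (maximalIdeal A) (Dual.inD A N)
    (ω⟦i⟧) hωi
  haveI := subsingleton_inD_hom_shift_dualizing ω hω hn N hN i hi
  exact ⟨fun a b => hb.1 (Subsingleton.elim _ _)⟩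

end Loc

end Groth.Agent.Helper11.CofEq
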