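import Groth.Agent.Lib.Helper11.CofEq2

/-!
# Finite / cofinite complexes over a complete local ring, part 3 (helper11)

The completion side: the derived completion of a bounded complex with Artinian (= cofinite)
cohomology has finite cohomology.
-/

set_option autoImplicit false
set_option linter.unusedSectionVars false
set_option linter.unusedVariables false
set_option linter.style.haveILetI false

universe u

open CategoryTheory CategoryTheory.Limits Pretriangulated DerivedCategory

attribute [local instance] HasDerivedCategory.standard

namespace Groth.Agent.Helper11.CofEq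

open Groth.Agent.Helper11.DC

section Mod

variable {A : Type u} [CommRing A] [IsNoetherianRing A] (I : Ideal A)
  [DRing.HasDerivedCompletion I] (l : List A) (hl : Ideal.span {x : A | x ∈ l} = I)

/-- a module `X` is good if `X[0]^` has finite cohomology -/
def Good (X : Type u) [AddCommGroup X] [Module A X] : Prop := PFin I (Dual.inD A X)

include hl in
theorem good_of_linearEquiv {X Y : Type u} [AddCommGroup X] [Module A X] [AddCommGroup Y]
    [Module A Y] (e : X ≃ₗ[A] Y) (h : Good I X) : Good I Y :=
  (pFin_thickLike I l hl).iso ((singleFunctor (ModuleCat.{u} A) 0).mapIso e.toModuleIso) h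

include hl in
theorem good_of_subsingleton (X : Type u) [AddCommGroup X] [Module A X] [Subsingleton X] :
    Good I X :=
  (pFin_thickLike I l hl).zero _
    ((singleFunctor (ModuleCat.{u} A) 0).map_isZero (ModuleCat.isZero_of_subsingleton _))

include hl in
theorem pFin_of_shortExact (S : ShortComplex (ModuleCat.{u} A)) (hS : S.ShortExact)
    (h1 : PFin I ((singleFunctor (ModuleCat.{u} A) 0).obj S.X₁))
    (h3 : PFin I ((singleFunctor (ModuleCat.{u} A) 0).obj S.X₃)) :
    PFin I ((singleFunctor (ModuleCat.{u} A) 0).obj S.X₂) :=
  (pFin_thickLike I l hl).ext hS.singleTriangle hS.singleTriangle_distinguished h1 h3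

include hl in
theorem good_prod (X Y : Type u) [AddCommGroup X] [Module A X] [AddCommGroup Y] [Module A Y]
    (hX : Good I X) (hY : Good I Y) : Good I (X × Y) := by
  let S : ShortComplex (ModuleCat.{u} A) :=
    ModuleCat.shortComplexOfCompEqZero (LinearMap.inl A X Y) (LinearMap.snd A X Y)
      (Function.Exact.inl_snd.linearMap_comp_eq_zero)
  have hS : S.ShortExact := ModuleCat.shortComplex_shortExact S Function.Exact.inl_snd
    LinearMap.inl_injective LinearMap.snd_surjective
  exact pFin_of_shortExact I l hl S hS hX hY

include hl in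
theorem good_pi (E : Type u) [AddCommGroup E] [Module A E] (hE : Good I E) (r : ℕ) :
    Good I (Fin r → E) := by
  induction r with
  | zero => exact good_of_subsingleton I l hl _
  | succ r ih =>
    exact good_of_linearEquiv I l hl (Fin.consLinearEquiv A (fun _ : Fin (r + 1) => E))
      (good_prod I l hl E (Fin r → E) hE ih)

include hl in
/-- a step in the long exact sequence of the completed triangle of a short exact sequence -/
theorem finite_HD_completion_of_shortExact (S : ShortComplex (ModuleCat.{u} A))
    (hS : S.ShortExact) (i : ℤ)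
    (h3 : Module.Finite A (Dual.HD A ((DRing.derivedCompletion I).obj
      ((singleFunctor (ModuleCat.{u} A) 0).obj S.X₃)).obj (i - 1)))
    (h2 : Module.Finite A (Dual.HD A ((DRing.derivedCompletion I).obj
      ((singleFunctor (ModuleCat.{u} A) 0).obj S.X₂)).obj i)) :
    Module.Finite A (Dual.HD A ((DRing.derivedCompletion I).obj
      ((singleFunctor (ModuleCat.{u} A) 0).obj S.X₁)).obj i) := by
  obtain ⟨p', d', hT'⟩ := exists_completion_triangle I l hl hS.singleTriangle
    hS.singleTriangle_distinguished
  have hex := HomologySequence.exact₁ _ hT' (i - 1) i (by omega)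
  haveI : Module.Finite A ((homologyFunctor (ModuleCat.{u} A) (i - 1)).obj
      (Triangle.mk ((DRing.derivedCompletion I).map hS.singleTriangle.mor₁).hom p' d').obj₃) := h3
  haveI : Module.Finite A ((homologyFunctor (ModuleCat.{u} A) i).obj
      (Triangle.mk ((DRing.derivedCompletion I).map hS.singleTriangle.mor₁).hom p' d').obj₂) := h2
  exact finite_of_exact _ _ _ hex

include hl in
/-- derived completion preserves cohomological boundedness -/
theorem exists_bounds_completion (K : Dual.D A) (a b : ℤ)
    (hK : ∀ i : ℤ, (i < a ∨ b < i) → Subsingleton (Dual.HD A K i)) :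
    ∃ a' b' : ℤ, ∀ i : ℤ, (i < a' ∨ b' < i) →
      Subsingleton (Dual.HD A ((DRing.derivedCompletion I).obj K).obj i) := by
  refine ⟨a - l.length, b, fun i hi =>
    Groth.Agent.Helper11.DCP.subsingleton_HD_completion_of_list l I hl K i
      (fun j hj => hK (i + j) ?_)⟩
  rcases hi with hi | hi
  · left; omega
  · right; omega

end Mod

section Main

open IsLocalRing

variable {A : Type u} [CommRing A] [IsLocalRing A] [IsNoetherianRing A]
  [IsAdicComplete (maximalIdeal A) A]
  (ω : Dual.D A) (hω : Dual.IsDualizing A ω) (hn : Dual.IsNormalized A ω)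
  [DRing.HasRgammaI (maximalIdeal A)] [DRing.HasDerivedCompletion (maximalIdeal A)]
  (l : List A) (hl : Ideal.span {x : A | x ∈ l} = maximalIdeal A)
  {E : Type u} [AddCommGroup E] [Module A E] {f : ResidueField A →ₗ[A] E}
  (hf : InjHull.IsInjectiveHull f)

include hω hn hl hf in
/-- the injective hull of the residue field is good: `E[0]^ ≅ ω` -/
theorem good_hull : Good (maximalIdeal A) E := by
  obtain ⟨eω⟩ := Groth.Agent.Helper11.LDC.nonempty_RgammaI_dualizing_iso ω hω hn E f hf
  refine (pFin_thickLike (maximalIdeal A) l hl).iso eω ?_
  intro i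
  haveI h1 := Groth.Agent.Helper11.GM.isIso_derivedCompletion_map_ε (maximalIdeal A) ω
  haveI h2 := isIso_toDerivedCompletion_of_finite (maximalIdeal A) ω hω.finite_cohomology
  let φ : ((DRing.derivedCompletion (maximalIdeal A)).obj
      ((DRing.RgammaI (maximalIdeal A)).obj ω)).obj ≅
      ((DRing.derivedCompletion (maximalIdeal A)).obj ω).obj :=
    (ObjectProperty.ι _).mapIso (asIso ((DRing.derivedCompletion (maximalIdeal A)).map
      ((DRing.RgammaIε (maximalIdeal A)).app ω)))
  let ψ : ω ≅ ((DRing.derivedCompletion (maximalIdeal A)).obj ω).obj :=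
    asIso (DRing.toDerivedCompletion (maximalIdeal A) ω)
  haveI := hω.finite_cohomology i
  exact Module.Finite.equiv
    ((homologyFunctor (ModuleCat.{u} A) i).mapIso (ψ ≪≫ φ.symm)).toLinearEquiv

include hf in
/-- an Artinian module embeds into a finite power of `E` -/
theorem exists_embedding (N : Type u) [AddCommGroup N] [Module A N] [IsArtinian A N] :
    ∃ (r : ℕ) (g : N →ₗ[A] (Fin r → E)), Function.Injective g := by
  obtain ⟨h1, h2⟩ := (Groth.Agent.S0315.result A N).mp inferInstance
  haveI := h2
  obtain ⟨g, hg⟩ := Groth.Agent.S0310.result A E f hf N h1 _ rfl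
  exact ⟨_, g, hg⟩

include hω hn hl hf in
/-- the key induction: finiteness of `H^i(N[0]^)` for Artinian `N`, by ascending induction on
`i` starting below the amplitude of the completion -/
theorem finite_HD_completion_of_artinian (n : ℕ) :
    ∀ (N : Type u) [AddCommGroup N] [Module A N] [IsArtinian A N] (i : ℤ),
      i < -(l.length : ℤ) + n →
      Module.Finite A (Dual.HD A ((DRing.derivedCompletion (maximalIdeal A)).obj
        (Dual.inD A N)).obj i) := by
  induction n with
  | zero =>
    intro N _ _ _ i hi
    haveI : Subsingleton (Dual.HD A ((DRing.derivedCompletion (maximalIdeal A)).obj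
        (Dual.inD A N)).obj i) :=
      Groth.Agent.Helper11.DCP.subsingleton_HD_completion_of_list l (maximalIdeal A) hl
        (Dual.inD A N) i (fun j hj => by
          have hz : IsZero ((homologyFunctor (ModuleCat.{u} A) (i + j)).obj (Dual.inD A N)) :=
            isZero_of_isGE (Dual.inD A N) 0 (i + j) (by push_cast at hi; omega)
          exact ModuleCat.subsingleton_of_isZero hz)
    exact Module.Finite.of_finite
  | succ n ih =>
    intro N _ _ _ i hi
    obtain ⟨r, g, hg⟩ := exists_embedding hf N
    let S : ShortComplex (ModuleCat.{u} A) :=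
      ModuleCat.shortComplexOfCompEqZero g (LinearMap.range g).mkQ
        g.exact_map_mkQ_range.linearMap_comp_eq_zero
    have hS : S.ShortExact := ModuleCat.shortComplex_shortExact S
      g.exact_map_mkQ_range hg (Submodule.mkQ_surjective _)
    haveI : IsArtinian A E := Groth.Agent.Helper8.Matlis.isArtinian hf
    haveI : IsArtinian A ((Fin r → E) ⧸ LinearMap.range g) := inferInstance
    have h3 := ih ((Fin r → E) ⧸ LinearMap.range g) (i - 1) (by push_cast at hi; omega)
    have h2 := good_pi (maximalIdeal A) l hl E (good_hull ω hω hn l hl hf) r i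
    exact finite_HD_completion_of_shortExact (maximalIdeal A) l hl S hS i h3 h2

include hω hn hl hf in
theorem pFin_inD_of_artinian (N : Type u) [AddCommGroup N] [Module A N] [IsArtinian A N] :
    PFin (maximalIdeal A) (Dual.inD A N) := by
  intro i
  obtain ⟨n, hn'⟩ : ∃ n : ℕ, i < -(l.length : ℤ) + n :=
    ⟨(i + l.length + 1).toNat, by omega⟩
  exact finite_HD_completion_of_artinian ω hω hn l hl hf n N i hn'

include hω hn hl hf in
/-- the derived completion of a bounded complex with Artinian cohomology has finite cohomology -/
theorem pFin_of_bounded_artinian (K : Dual.D A) (a b : ℤ)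
    (hK : ∀ i : ℤ, (i < a ∨ b < i) → Subsingleton (Dual.HD A K i))
    (hart : ∀ i : ℤ, IsArtinian A (Dual.HD A K i)) : PFin (maximalIdeal A) K := by
  refine (pFin_thickLike (maximalIdeal A) l hl).of_homology K a b (fun i hi => ?_) (fun i => ?_)
  · haveI := hK i hi
    exact ModuleCat.isZero_of_subsingleton _
  · haveI := hart i
    exact pFin_inD_of_artinian ω hω hn l hl hf (Dual.HD A K i)

end Main

end Groth.Agent.Helper11.CofEq
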