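import Groth.Agent.Lib.Helper11.MPC7
import Groth.Agent.Lib.Helper11.DCPc0
import Mathlib.Algebra.Module.FinitePresentation
import Mathlib.Algebra.Homology.DerivedCategory.SingleTriangle
import Mathlib.Algebra.Homology.ShortComplex.ModuleCat

/-!
Pseudo-coherence over coherent rings (helper11).
-/

set_option autoImplicit false

open CategoryTheory Category Limits Pretriangulated DerivedCategory

attribute [local instance] HasDerivedCategory.standard

universe u

namespace Groth.Agent.Helper11.CohRing

open Groth.Agent.Helper11.DC Groth.Agent.Helper11.MPC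

variable {R : Type u} [CommRing R]

/-- finite modules injecting into `M` are finitely presented -/
def CohMod (R : Type u) [CommRing R] (M : Type u) [AddCommGroup M] [Module R M] : Prop :=
  ∀ (N : Type u) [AddCommGroup N] [Module R N] (j : N →ₗ[R] M), Function.Injective j →
    Module.Finite R N → Module.FinitePresentation R N

theorem CohMod.of_injective {M M' : Type u} [AddCommGroup M] [Module R M] [AddCommGroup M']
    [Module R M'] (i : M' →ₗ[R] M) (hi : Function.Injective i) (h : CohMod R M) : CohMod R M' :=
  fun N _ _ j hj hN => h N (i ∘ₗ j) (by rw [LinearMap.coe_comp]; exact hi.comp hj) hN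

theorem cohMod_self (hR : ∀ I : Ideal R, I.FG → Module.FinitePresentation R I) : CohMod R R := by
  intro N _ _ j hj hN
  have hI : (LinearMap.range j).FG := by
    rw [LinearMap.range_eq_map]
    exact (Module.Finite.fg_top (R := R) (M := N)).map j
  haveI : Module.FinitePresentation R (LinearMap.range j) := hR (LinearMap.range j) hI
  exact Module.FinitePresentation.of_equiv (LinearEquiv.ofInjective j hj).symm

theorem CohMod.of_ker {M M'' : Type u} [AddCommGroup M] [Module R M] [AddCommGroup M'']
    [Module R M''] (f : M →ₗ[R] M'') (h'' : CohMod R M'') (h' : CohMod R (LinearMap.ker f)) :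
    CohMod R M := by
  intro N _ _ j hj hN
  let g : N →ₗ[R] M'' := f ∘ₗ j
  haveI : Module.Finite R (LinearMap.range g) := Module.Finite.range g
  haveI : Module.FinitePresentation R (LinearMap.range g) :=
    h'' _ (LinearMap.range g).subtype (Submodule.subtype_injective _) inferInstance
  have hsurj : Function.Surjective g.rangeRestrict := LinearMap.surjective_rangeRestrict g
  have hfg : (LinearMap.ker g.rangeRestrict).FG := Module.FinitePresentation.fg_ker _ hsurj
  haveI : Module.Finite R (LinearMap.ker g.rangeRestrict) := Module.Finite.iff_fg.mpr hfg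
  let k : LinearMap.ker g.rangeRestrict →ₗ[R] LinearMap.ker f :=
    LinearMap.codRestrict (LinearMap.ker f) (j ∘ₗ (LinearMap.ker g.rangeRestrict).subtype)
      (fun x => by
        have hx : g.rangeRestrict x.1 = 0 := x.2
        have hx' : g x.1 = 0 := congrArg Subtype.val hx
        exact hx')
  have hk : Function.Injective k := by
    intro x y hxy
    apply Subtype.ext
    apply hj
    exact congrArg Subtype.val hxy
  haveI : Module.FinitePresentation R (LinearMap.ker g.rangeRestrict) := h' _ k hk inferInstance
  exact Module.finitePresentation_of_ker g.rangeRestrict hsurj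

theorem cohMod_pi (hR : ∀ I : Ideal R, I.FG → Module.FinitePresentation R I) :
    ∀ n : ℕ, CohMod R (Fin n → R) := by
  intro n
  induction n with
  | zero =>
    intro N _ _ j hj hN
    haveI : Subsingleton N := hj.subsingleton
    infer_instance
  | succ n ih =>
    let p : (Fin (n + 1) → R) →ₗ[R] R := LinearMap.proj 0
    refine CohMod.of_ker p (cohMod_self hR) ?_
    let t : LinearMap.ker p →ₗ[R] (Fin n → R) :=
      (LinearMap.funLeft R R Fin.succ) ∘ₗ (LinearMap.ker p).subtype
    refine CohMod.of_injective t ?_ ih
    intro x y hxy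
    apply Subtype.ext
    funext i
    refine Fin.cases ?_ (fun i' => ?_) i
    · have hx : x.1 0 = 0 := x.2
      have hy : y.1 0 = 0 := y.2
      rw [hx, hy]
    · exact congrFun hxy i'

theorem cohMod_of_finite_free (hR : ∀ I : Ideal R, I.FG → Module.FinitePresentation R I)
    (X : Type u) [AddCommGroup X] [Module R X] [Module.Finite R X] [Module.Free R X] :
    CohMod R X := by
  let b := Module.Free.chooseBasis R X
  let e : X ≃ₗ[R] (Fin (Fintype.card (Module.Free.ChooseBasisIndex R X)) → R) :=
    (b.reindex (Fintype.equivFin _)).equivFun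
  exact CohMod.of_injective e.toLinearMap e.injective (cohMod_pi hR _)

/-- the homology of a short complex of modules as a quotient is finitely presented -/
theorem fp_H (S : ShortComplex (ModuleCat.{u} R)) (h₁ : Module.Finite R S.X₁)
    (h₂ : Module.Finite R S.X₂) (c₂ : CohMod R S.X₂) (c₃ : CohMod R S.X₃) :
    Module.FinitePresentation R
      (LinearMap.ker S.g.hom ⧸ LinearMap.range S.moduleCatToCycles) := by
  haveI : Module.Finite R (LinearMap.range S.g.hom) := Module.Finite.range S.g.hom
  haveI : Module.FinitePresentation R (LinearMap.range S.g.hom) :=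
    c₃ _ (LinearMap.range S.g.hom).subtype (Submodule.subtype_injective _) inferInstance
  have hfg : (LinearMap.ker S.g.hom.rangeRestrict).FG :=
    Module.FinitePresentation.fg_ker _ (LinearMap.surjective_rangeRestrict S.g.hom)
  rw [LinearMap.ker_rangeRestrict] at hfg
  haveI : Module.Finite R (LinearMap.ker S.g.hom) := Module.Finite.iff_fg.mpr hfg
  haveI : Module.FinitePresentation R (LinearMap.ker S.g.hom) :=
    c₂ _ (LinearMap.ker S.g.hom).subtype (Submodule.subtype_injective _) inferInstance
  refine Module.finitePresentation_of_surjective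
    (Submodule.mkQ (LinearMap.range S.moduleCatToCycles)) (Submodule.mkQ_surjective _) ?_
  rw [Submodule.ker_mkQ, LinearMap.range_eq_map]
  exact (Module.Finite.fg_top (R := R) (M := S.X₁)).map _

theorem fp_homology (hR : ∀ I : Ideal R, I.FG → Module.FinitePresentation R I)
    (E : DRing.Cx R) (hff : DRing.TermwiseFiniteFree E) (i : ℤ) :
    Module.FinitePresentation R ((homologyFunctor (ModuleCat.{u} R) i).obj (Q.obj E)) := by
  let e1 := (homologyFunctorFactors (ModuleCat.{u} R) i).app E
  let e2 := (E.sc i).moduleCatHomologyIso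
  have key : Module.FinitePresentation R (E.sc i).moduleCatLeftHomologyData.H := by
    change Module.FinitePresentation R (LinearMap.ker (E.sc i).g.hom ⧸
      LinearMap.range (E.sc i).moduleCatToCycles)
    haveI := (hff ((ComplexShape.up ℤ).prev i)).1
    haveI := (hff i).1
    haveI := (hff i).2
    haveI := (hff ((ComplexShape.up ℤ).next i)).1
    haveI := (hff ((ComplexShape.up ℤ).next i)).2
    exact fp_H (E.sc i) (hff _).1 (hff i).1 (cohMod_of_finite_free hR (E.X i))
      (cohMod_of_finite_free hR (E.X ((ComplexShape.up ℤ).next i)))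
  exact Module.FinitePresentation.of_equiv (e1 ≪≫ e2).toLinearEquiv.symm

theorem homology_of_mpc (hR : ∀ I : Ideal R, I.FG → Module.FinitePresentation R I)
    {m : ℤ} {K : Dual.D R} (h : DRing.IsPseudoCoherent R m K) :
    Module.Finite R (Dual.HD R K m) ∧
      ∀ i : ℤ, m < i → Module.FinitePresentation R (Dual.HD R K i) := by
  obtain ⟨E, a, b, α, hE, hff, hiso, hepi⟩ := h
  have hfp := fp_homology hR E hff
  constructor
  · haveI := hfp m
    have hsurj : Function.Surjective ((homologyFunctor (ModuleCat.{u} R) m).map α).hom :=
      (ModuleCat.epi_iff_surjective _).mp hepi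
    exact Module.Finite.of_surjective _ hsurj
  · intro i hi
    haveI := hiso i hi
    haveI := hfp i
    exact Module.FinitePresentation.of_equiv
      (asIso ((homologyFunctor (ModuleCat.{u} R) i).map α)).toLinearEquiv

/-- finitely presented modules over a coherent ring are pseudo-coherent -/
theorem mpc_single_of_fp (hR : ∀ I : Ideal R, I.FG → Module.FinitePresentation R I) :
    ∀ (n : ℕ) (M : ModuleCat.{u} R), Module.FinitePresentation R M →
      DRing.IsPseudoCoherent R (-(n : ℤ)) ((singleFunctor (ModuleCat.{u} R) 0).obj M) := by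
  intro n
  induction n with
  | zero =>
    intro M hM
    have h := pc0_of_finite (R := R) M
    exact mpc_of_le (by simp) h
  | succ n ih =>
    intro M hM
    obtain ⟨k, p, hp⟩ := Module.Finite.exists_fin' R M
    have hKfg : (LinearMap.ker p).FG := Module.FinitePresentation.fg_ker p hp
    haveI : Module.Finite R (LinearMap.ker p) := Module.Finite.iff_fg.mpr hKfg
    have hKfp : Module.FinitePresentation R (LinearMap.ker p) :=
      cohMod_pi hR k _ (LinearMap.ker p).subtype (Submodule.subtype_injective _) inferInstance
    let S : ShortComplex (ModuleCat.{u} R) :=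
      ShortComplex.mk (ModuleCat.ofHom (LinearMap.ker p).subtype) (ModuleCat.ofHom p)
        (by ext x; simp)
    have hS : S.ShortExact := by
      refine ShortComplex.ShortExact.mk' ?_ ?_ ?_
      · rw [ShortComplex.moduleCat_exact_iff_range_eq_ker]
        simp [S]
      · exact (ModuleCat.mono_iff_injective _).mpr (Submodule.subtype_injective _)
      · exact (ModuleCat.epi_iff_surjective _).mpr hp
    have hT := hS.singleTriangle_distinguished
    have h1 : DRing.IsPseudoCoherent R (-((n + 1 : ℕ) : ℤ) + 1) hS.singleTriangle.obj₁ :=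
      mpc_of_le (by push_cast; omega) (ih (ModuleCat.of R (LinearMap.ker p)) hKfp)
    have h2 : DRing.IsPseudoCoherent R (-((n + 1 : ℕ) : ℤ)) hS.singleTriangle.obj₂ :=
      mpc_of_bounded_free _ 0 0 (single_vanishesOutside (ModuleCat.of R (Fin k → R)))
        (single_termwiseFiniteFree (ModuleCat.of R (Fin k → R))) _
    exact (mpc_two_of_three _ hT _).1 h1 h2

theorem mpc_of_homology_fp (hR : ∀ I : Ideal R, I.FG → Module.FinitePresentation R I)
    {m : ℤ} (K : Dual.D R) (b : ℤ) (hb : ∀ i : ℤ, b < i → Subsingleton (Dual.HD R K i))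
    (hm : Module.Finite R (Dual.HD R K m))
    (hi : ∀ i : ℤ, m < i → Module.FinitePresentation R (Dual.HD R K i)) :
    DRing.IsPseudoCoherent R m K := by
  refine mpc_of_homology K b (fun i hi' => by
    haveI := hb i hi'
    exact ModuleCat.isZero_of_subsingleton _) (fun i hmi => ?_)
  refine mpc_single_of_module _ ?_
  rcases eq_or_lt_of_le hmi with rfl | hlt
  · have h0 := pc0_of_finite (R := R) (Dual.HD R K m)
    exact mpc_of_le (by omega) h0
  · have h1 := mpc_single_of_fp hR (i - m).toNat ((homologyFunctor (ModuleCat.{u} R) i).obj K)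
      (hi i hlt)
    exact mpc_of_le (by omega) h1

theorem main (hR : ∀ I : Ideal R, I.FG → Module.FinitePresentation R I) (K : Dual.D R)
    (hb : ∃ b : ℤ, ∀ i : ℤ, b < i → Subsingleton (Dual.HD R K i)) (m : ℤ) :
    (DRing.IsPseudoCoherent R m K ↔
      Module.Finite R (Dual.HD R K m) ∧
        ∀ i : ℤ, m < i → Module.FinitePresentation R (Dual.HD R K i)) ∧
      (DRing.IsPseudoCoherent' R K ↔ ∀ i : ℤ, Module.FinitePresentation R (Dual.HD R K i)) := by
  obtain ⟨b, hb⟩ := hb
  refine ⟨⟨fun h => homology_of_mpc hR h, fun ⟨h1, h2⟩ => mpc_of_homology_fp hR K b hb h1 h2⟩,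
    ⟨fun h i => ?_, fun h => ?_⟩⟩
  · exact (homology_of_mpc hR (mpc_of_pc' h (i - 1))).2 i (by omega)
  · exact pc'_of_forall_mpc (fun m' => mpc_of_homology_fp hR K b hb
      (by haveI := h m'; infer_instance) (fun i _ => h i))

end Groth.Agent.Helper11.CohRing
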