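import Mathlib.Topology.Sheaves.SheafCondition.UniqueGluing
import Mathlib.Topology.Sheaves.Sheaf
import Mathlib.Topology.Sheaves.Limits
import Mathlib.CategoryTheory.Sites.Limits
import Mathlib.CategoryTheory.Sites.LocallySurjective
import Mathlib.CategoryTheory.Sites.LocallyInjective
import Mathlib.CategoryTheory.Limits.Types.Filtered
import Mathlib.Data.Fintype.Order
import Mathlib.Topology.Compactness.Compact

/-!
# Sections of a directed colimit of sheaves of sets on a space (abstract part)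
-/

namespace Groth.Agent.Helper11.ColimSec

open CategoryTheory CategoryTheory.Limits TopologicalSpace Opposite

universe u

section Abstract

variable {X : TopCat.{u}} {J : Type u} [Preorder J]
  (F : J ⥤ TopCat.Sheaf (Type u) X) (G : TopCat.Sheaf (Type u) X) (α : ∀ i, F.obj i ⟶ G)

/-- Sections of the `i`-th sheaf over `V`. -/
abbrev Sec (i : J) (V : Opens X) : Type u := (F.obj i).1.obj (op V)

/-- Restriction of sections of the `i`-th sheaf. -/
def rs (i : J) {V W : Opens X} (h : W ≤ V) (s : Sec F i V) : Sec F i W :=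
  (F.obj i).1.map (homOfLE h).op s

/-- Transition maps on sections. -/
def tr {i j : J} (h : i ≤ j) (V : Opens X) (s : Sec F i V) : Sec F j V :=
  (F.map (homOfLE h)).1.app (op V) s

/-- The maps to the target sheaf on sections. -/
def al (i : J) (V : Opens X) (s : Sec F i V) : G.1.obj (op V) := (α i).1.app (op V) s

/-- Restriction in the target sheaf. -/
def rG {V W : Opens X} (h : W ≤ V) (g : G.1.obj (op V)) : G.1.obj (op W) :=
  G.1.map (homOfLE h).op g

theorem rs_rs (i : J) {V W W' : Opens X} (h₁ : W ≤ V) (h₂ : W' ≤ W) (s : Sec F i V) :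
    rs F i h₂ (rs F i h₁ s) = rs F i (h₂.trans h₁) s := by
  unfold rs
  rw [← Functor.map_comp_apply, ← op_comp, homOfLE_comp]

theorem rG_rG {V W W' : Opens X} (h₁ : W ≤ V) (h₂ : W' ≤ W) (g : G.1.obj (op V)) :
    rG G h₂ (rG G h₁ g) = rG G (h₂.trans h₁) g := by
  unfold rG
  rw [← Functor.map_comp_apply, ← op_comp, homOfLE_comp]

theorem tr_tr {i j k : J} (h₁ : i ≤ j) (h₂ : j ≤ k) (V : Opens X) (s : Sec F i V) :
    tr F h₂ V (tr F h₁ V s) = tr F (h₁.trans h₂) V s := by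
  unfold tr
  have : F.map (homOfLE (h₁.trans h₂)) = F.map (homOfLE h₁) ≫ F.map (homOfLE h₂) := by
    rw [← F.map_comp, homOfLE_comp]
  rw [this]
  rfl

theorem tr_rs {i j : J} (h : i ≤ j) {V W : Opens X} (hWV : W ≤ V) (s : Sec F i V) :
    tr F h W (rs F i hWV s) = rs F j hWV (tr F h V s) := by
  unfold tr rs
  exact NatTrans.naturality_apply (F.map (homOfLE h)).1 (homOfLE hWV).op s

theorem al_rs (i : J) {V W : Opens X} (hWV : W ≤ V) (s : Sec F i V) :
    al F G α i W (rs F i hWV s) = rG G hWV (al F G α i V s) := by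
  unfold al rs rG
  exact NatTrans.naturality_apply (α i).1 (homOfLE hWV).op s

theorem al_tr (hα : ∀ {i j : J} (h : i ⟶ j), F.map h ≫ α j = α i) {i j : J} (h : i ≤ j)
    (V : Opens X) (s : Sec F i V) : al F G α j V (tr F h V s) = al F G α i V s := by
  unfold al tr
  rw [← hα (homOfLE h)]
  rfl

/-- The cocone `α` is locally injective and locally surjective in the filtered sense. -/
structure LocBij : Prop where
  comm : ∀ {i j : J} (h : i ⟶ j), F.map h ≫ α j = α i
  linj : ∀ (V : Opens X) (i : J) (s t : Sec F i V), al F G α i V s = al F G α i V t →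
    ∀ p ∈ V, ∃ (W : Opens X) (hWV : W ≤ V), p ∈ W ∧ ∃ (k : J) (h : i ≤ k),
      tr F h W (rs F i hWV s) = tr F h W (rs F i hWV t)
  lsurj : ∀ (V : Opens X) (g : G.1.obj (op V)), ∀ p ∈ V, ∃ (W : Opens X) (hWV : W ≤ V), p ∈ W ∧
    ∃ (i : J) (s : Sec F i W), al F G α i W s = rG G hWV g

variable {F G α}

theorem inj_of_tr_inj (H : LocBij F G α)
    (hinj : ∀ {i j : J} (h : i ≤ j) (V : Opens X), Function.Injective (tr F h V))
    (V : Opens X) (i : J) (s t : Sec F i V) (hst : al F G α i V s = al F G α i V t) : s = t := by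
  choose W hWV hpW k h hk using fun p : V => H.linj V i s t hst p.1 p.2
  refine TopCat.Sheaf.eq_of_locally_eq' (F.obj i) W V (fun p => homOfLE (hWV p)) ?_ s t
    fun p => ?_
  · intro x hx
    exact Opens.mem_iSup.2 ⟨⟨x, hx⟩, hpW ⟨x, hx⟩⟩
  · exact hinj (h p) (W p) (hk p)

theorem exists_tr_eq_of_isCompact [Nonempty J] [IsDirected J (· ≤ ·)] (H : LocBij F G α)
    (V : Opens X) (hV : IsCompact (V : Set X)) (i : J) (s t : Sec F i V)
    (hst : al F G α i V s = al F G α i V t) :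
    ∃ (k : J) (h : i ≤ k), tr F h V s = tr F h V t := by
  choose W hWV hpW k h hk using fun p : V => H.linj V i s t hst p.1 p.2
  obtain ⟨T, hT⟩ := hV.elim_finite_subcover (fun p : V => (W p : Set X))
    (fun p => (W p).isOpen) (fun x hx => Set.mem_iUnion.2 ⟨⟨x, hx⟩, hpW ⟨x, hx⟩⟩)
  obtain ⟨k0, hk0⟩ := Finite.exists_le (fun p : {p // p ∈ T} => k p.1)
  obtain ⟨k1, hik1, hk01⟩ := exists_ge_ge i k0
  refine ⟨k1, hik1, ?_⟩
  refine TopCat.Sheaf.eq_of_locally_eq' (F.obj k1) (fun p : {p // p ∈ T} => W p.1) V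
    (fun p => homOfLE (hWV p.1)) ?_ _ _ fun p => ?_
  · intro x hx
    obtain ⟨p, hp, hxp⟩ := Set.mem_iUnion₂.1 (hT hx)
    exact Opens.mem_iSup.2 ⟨⟨p, hp⟩, hxp⟩
  · show rs F k1 (hWV p.1) (tr F hik1 V s) = rs F k1 (hWV p.1) (tr F hik1 V t)
    rw [← tr_rs, ← tr_rs, ← tr_tr F (h p.1) ((hk0 p).trans hk01),
      ← tr_tr F (h p.1) ((hk0 p).trans hk01), hk p.1]

theorem surj_of_finite_cover [Nonempty J] [IsDirected J (· ≤ ·)] (H : LocBij F G α)
    (V : Opens X) {ι : Type u} [Finite ι] (W : ι → Opens X) (hW : ∀ a, W a ≤ V)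
    (hcov : V ≤ ⨆ a, W a) (g : G.1.obj (op V))
    (hl : ∀ a, ∃ (i : J) (s : Sec F i (W a)), al F G α i (W a) s = rG G (hW a) g)
    (ho : ∀ (a b : ι) (i : J) (s t : Sec F i (W a ⊓ W b)),
      al F G α i _ s = al F G α i _ t → ∃ (k : J) (h : i ≤ k), tr F h _ s = tr F h _ t) :
    ∃ (i : J) (s : Sec F i V), al F G α i V s = g := by
  choose i s hs using hl
  obtain ⟨i0, hi0⟩ := Finite.exists_le i
  have hs' : ∀ a, al F G α i0 (W a) (tr F (hi0 a) (W a) (s a)) = rG G (hW a) g := fun a => by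
    rw [al_tr F G α H.comm, hs]
  have hov : ∀ a b, ∃ (k : J) (h : i0 ≤ k),
      tr F h _ (rs F i0 (inf_le_left : W a ⊓ W b ≤ W a) (tr F (hi0 a) (W a) (s a))) =
      tr F h _ (rs F i0 (inf_le_right : W a ⊓ W b ≤ W b) (tr F (hi0 b) (W b) (s b))) :=
    fun a b => by
      apply ho a b i0
      rw [al_rs, al_rs, hs', hs', rG_rG, rG_rG]
  choose k hk hkeq using hov
  obtain ⟨k0, hk0⟩ := Finite.exists_le (fun ab : ι × ι => k ab.1 ab.2)
  obtain ⟨k1, hi01, hk01⟩ := exists_ge_ge i0 k0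
  have hcompat : TopCat.Presheaf.IsCompatible (F.obj k1).1 W
      (fun a => tr F hi01 (W a) (tr F (hi0 a) (W a) (s a))) := by
    intro a b
    have e1 := tr_rs F hi01 (inf_le_left : W a ⊓ W b ≤ W a) (tr F (hi0 a) (W a) (s a))
    have e2 := tr_rs F hi01 (inf_le_right : W a ⊓ W b ≤ W b) (tr F (hi0 b) (W b) (s b))
    show rs F k1 inf_le_left (tr F hi01 (W a) _) = rs F k1 inf_le_right (tr F hi01 (W b) _)
    rw [← e1, ← e2, ← tr_tr F (hk a b) ((hk0 (a, b)).trans hk01),
      ← tr_tr F (hk a b) ((hk0 (a, b)).trans hk01), hkeq a b]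
  obtain ⟨t, ht, -⟩ := TopCat.Sheaf.existsUnique_gluing' (F.obj k1) W V
    (fun a => homOfLE (hW a)) hcov _ hcompat
  refine ⟨k1, t, ?_⟩
  refine TopCat.Sheaf.eq_of_locally_eq' G W V (fun a => homOfLE (hW a)) hcov _ _ fun a => ?_
  show rG G (hW a) (al F G α k1 V t) = rG G (hW a) g
  rw [← al_rs]
  have : rs F k1 (hW a) t = tr F hi01 (W a) (tr F (hi0 a) (W a) (s a)) := ht a
  rw [this, al_tr F G α H.comm, hs']

theorem surj_of_isCompact_of_tr_inj [Nonempty J] [IsDirected J (· ≤ ·)] (H : LocBij F G α)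
    (hinj : ∀ {i j : J} (h : i ≤ j) (V : Opens X), Function.Injective (tr F h V))
    (V : Opens X) (hV : IsCompact (V : Set X)) (g : G.1.obj (op V)) :
    ∃ (i : J) (s : Sec F i V), al F G α i V s = g := by
  choose W hWV hpW i s hs using fun p : V => H.lsurj V g p.1 p.2
  obtain ⟨T, hT⟩ := hV.elim_finite_subcover (fun p : V => (W p : Set X))
    (fun p => (W p).isOpen) (fun x hx => Set.mem_iUnion.2 ⟨⟨x, hx⟩, hpW ⟨x, hx⟩⟩)
  refine surj_of_finite_cover H V (fun p : {p // p ∈ T} => W p.1) (fun p => hWV p.1) ?_ g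
    (fun p => ⟨i p.1, s p.1, hs p.1⟩) ?_
  · intro x hx
    obtain ⟨p, hp, hxp⟩ := Set.mem_iUnion₂.1 (hT hx)
    exact Opens.mem_iSup.2 ⟨⟨p, hp⟩, hxp⟩
  · intro a b j s' t' hst
    exact ⟨j, le_rfl, by rw [inj_of_tr_inj H hinj _ j s' t' hst]⟩

theorem bij_of_refine [Nonempty J] [IsDirected J (· ≤ ·)] (H : LocBij F G α) (U : Opens X)
    (hfin : ∀ 𝒱 : Set (Opens X), (⨆ V ∈ 𝒱, V) = U →
        ∃ (m : ℕ) (W : Fin m → Opens X), (∀ j, ∃ V ∈ 𝒱, W j ≤ V) ∧ (⨆ j, W j) = U ∧
          ∀ j j', IsCompact ((W j ⊓ W j' : Opens X) : Set X)) :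
    IsCompact (U : Set X) ∧
      ∀ g : G.1.obj (op U), ∃ (i : J) (s : Sec F i U), al F G α i U s = g := by
  constructor
  · obtain ⟨m, W, -, hWU, hc⟩ := hfin {U} (by simp)
    rw [← hWU, Opens.coe_iSup]
    refine isCompact_iUnion fun j => ?_
    have := hc j j
    rwa [inf_idem] at this
  · intro g
    choose W hWV hpW i s hs using fun p : U => H.lsurj U g p.1 p.2
    have hsup : (⨆ V ∈ Set.range W, V) = U := by
      apply le_antisymm
      · refine iSup₂_le fun V hV => ?_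
        obtain ⟨p, rfl⟩ := hV
        exact hWV p
      · intro x hx
        exact Opens.mem_iSup.2 ⟨W ⟨x, hx⟩, Opens.mem_iSup.2 ⟨⟨_, rfl⟩, hpW ⟨x, hx⟩⟩⟩
    obtain ⟨m, W', href, hWU, hc⟩ := hfin (Set.range W) hsup
    choose Vr hVr hle using href
    choose p hp using hVr
    have hle' : ∀ j, W' j ≤ W (p j) := fun j => (hp j) ▸ hle j
    have hW'U : ∀ j, W' j ≤ U := fun j => (hle' j).trans (hWV (p j))
    refine surj_of_finite_cover H U (fun a : ULift.{u} (Fin m) => W' a.down)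
      (fun a => hW'U a.down) ?_ g
      (fun a => ⟨i (p a.down), rs F _ (hle' a.down) (s (p a.down)), ?_⟩) ?_
    · rw [← hWU]
      exact iSup_le fun j => le_iSup (fun a : ULift.{u} (Fin m) => W' a.down) ⟨j⟩
    · rw [al_rs, hs, rG_rG]
    · intro a b j s' t' hst
      exact exists_tr_eq_of_isCompact H _ (hc a.down b.down) j s' t' hst

end Abstract

end Groth.Agent.Helper11.ColimSec
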