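import Groth.Agent.Lib.Helper11.ColimSec1
import Mathlib.CategoryTheory.Sites.LocallyBijective
import Mathlib.CategoryTheory.Limits.FunctorCategory.Basic
import Mathlib.CategoryTheory.Filtered.Basic

/-!
# Sections of a directed colimit of sheaves of sets on a space (categorical part)
-/

namespace Groth.Agent.Helper11.ColimSec

open CategoryTheory CategoryTheory.Limits TopologicalSpace Opposite

universe u

section Colimit

variable {X : TopCat.{u}} {J : Type u} [Preorder J] [Nonempty J] [IsDirected J (· ≤ ·)]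
  (F : J ⥤ TopCat.Sheaf (Type u) X) (c : Cocone F) (hc : IsColimit c)

include hc in
theorem locBij_of_isColimit : LocBij F c.pt (fun i => c.ι.app i) := by
  let JX := Opens.grothendieckTopology X
  let E := colimit.cocone (F ⋙ sheafToPresheaf JX (Type u))
  have hE : IsColimit E := colimit.isColimit _
  let c' := Sheaf.sheafifyCocone E
  have hc' : IsColimit c' := Sheaf.isColimitSheafifyCocone E hE
  let e : c.pt ≅ c'.pt := hc.coconePointUniqueUpToIso hc'
  have he : ∀ i, c.ι.app i ≫ e.hom = c'.ι.app i :=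
    fun i => hc.comp_coconePointUniqueUpToIso_hom hc' i
  have hc'ι : ∀ i, (c'.ι.app i).hom = E.ι.app i ≫ toSheafify JX E.pt :=
    fun i => Sheaf.sheafifyCocone_ι_app_val E i
  have einj : ∀ V : Opens X, Function.Injective (e.hom.hom.app (op V)) := fun V => by
    have hiso : IsIso ((sheafToPresheaf JX (Type u) ⋙
        (evaluation (Opens X)ᵒᵖ (Type u)).obj (op V)).map e.hom) :=
      ((sheafToPresheaf JX (Type u) ⋙
        (evaluation (Opens X)ᵒᵖ (Type u)).obj (op V)).mapIso e).isIso_hom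
    exact ((isIso_iff_bijective _).1 hiso).1
  have h1 : ∀ (i : J) (V : Opens X) (s : Sec F i V),
      e.hom.hom.app (op V) ((c.ι.app i).hom.app (op V) s) =
        (toSheafify JX E.pt).app (op V) ((E.ι.app i).app (op V) s) := by
    intro i V s
    have h := congrArg (fun φ : F.obj i ⟶ c'.pt => φ.hom.app (op V) s) (he i)
    have h' : (c'.ι.app i).hom.app (op V) s =
        (toSheafify JX E.pt).app (op V) ((E.ι.app i).app (op V) s) := by
      rw [hc'ι i]
      rfl
    exact h.trans h'
  have hEW : ∀ W : Opens X,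
      IsColimit (((evaluation (Opens X)ᵒᵖ (Type u)).obj (op W)).mapCocone E) :=
    fun W => isColimitOfPreserves _ hE
  refine ⟨fun h => c.w h, ?_, ?_⟩
  · intro V i s t hst p hp
    have hst' : (c.ι.app i).hom.app (op V) s = (c.ι.app i).hom.app (op V) t := hst
    have h2 : (toSheafify JX E.pt).app (op V) ((E.ι.app i).app (op V) s) =
        (toSheafify JX E.pt).app (op V) ((E.ι.app i).app (op V) t) := by
      rw [← h1, ← h1, hst']
    have hmem := Presheaf.equalizerSieve_mem JX (toSheafify JX E.pt) _ _ h2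
    obtain ⟨W, f, hf, hpW⟩ := hmem p hp
    have hfl : W ≤ V := f.le
    have hfe : f = homOfLE hfl := Subsingleton.elim _ _
    subst hfe
    have hf' : (E.ι.app i).app (op W) (rs F i hfl s) =
        (E.ι.app i).app (op W) (rs F i hfl t) := by
      have n1 := NatTrans.naturality_apply (E.ι.app i) (homOfLE hfl).op s
      have n2 := NatTrans.naturality_apply (E.ι.app i) (homOfLE hfl).op t
      exact n1.trans (hf.trans n2.symm)
    obtain ⟨k, g, hg⟩ := (Types.FilteredColimit.isColimit_eq_iff' (hEW W) _ _).1 hf'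
    exact ⟨W, hfl, hpW, k, g.le, hg⟩
  · intro V g p hp
    have hmem := Presheaf.imageSieve_mem JX (toSheafify JX E.pt) (U := op V)
      (e.hom.hom.app (op V) g)
    obtain ⟨W, f, ⟨x, hx⟩, hpW⟩ := hmem p hp
    have hfl : W ≤ V := f.le
    have hfe : f = homOfLE hfl := Subsingleton.elim _ _
    subst hfe
    obtain ⟨i, s, hs⟩ := Types.jointly_surjective _ (hEW W) x
    refine ⟨W, hfl, hpW, i, s, ?_⟩
    apply einj W
    show e.hom.hom.app (op W) ((c.ι.app i).hom.app (op W) s) =
      e.hom.hom.app (op W) (c.pt.1.map (homOfLE hfl).op g)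
    rw [h1]
    have hs' : (E.ι.app i).app (op W) s = x := hs
    rw [hs', hx]
    exact (NatTrans.naturality_apply e.hom.hom (homOfLE hfl).op g).symm

include hc in
theorem main (U : Opens X) :
    let ev := TopCat.Sheaf.forget (Type u) X ⋙ (evaluation (Opens X)ᵒᵖ (Type u)).obj (op U)
    let Ψ : colimit (F ⋙ ev) → ev.obj c.pt := colimit.desc (F ⋙ ev) (ev.mapCocone c)
    ((∀ (i j : J) (h : i ⟶ j) (V : Opens X), Function.Injective ((F.map h).1.app (op V))) →
      Function.Injective Ψ) ∧
    (IsCompact (U : Set X) → Function.Injective Ψ) ∧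
    (IsCompact (U : Set X) →
      (∀ (i j : J) (h : i ⟶ j) (V : Opens X), Function.Injective ((F.map h).1.app (op V))) →
      Function.Bijective Ψ) ∧
    ((∀ 𝒱 : Set (Opens X), (⨆ V ∈ 𝒱, V) = U →
        ∃ (m : ℕ) (W : Fin m → Opens X), (∀ j, ∃ V ∈ 𝒱, W j ≤ V) ∧ (⨆ j, W j) = U ∧
          ∀ j j', IsCompact ((W j ⊓ W j' : Opens X) : Set X)) →
      Function.Bijective Ψ) := by
  intro ev Ψ
  have H := locBij_of_isColimit F c hc
  have hΨ : ∀ (i : J) (s : Sec F i U),
      Ψ (colimit.ι (F ⋙ ev) i s) = al F c.pt (fun i => c.ι.app i) i U s := by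
    intro i s
    exact ConcreteCategory.congr_hom (colimit.ι_desc (ev.mapCocone c) i) s
  have hw : ∀ {i k : J} (hik : i ≤ k) (s : Sec F i U),
      colimit.ι (F ⋙ ev) i s = colimit.ι (F ⋙ ev) k (tr F hik U s) := by
    intro i k hik s
    exact (ConcreteCategory.congr_hom (colimit.w (F ⋙ ev) (homOfLE hik)) s).symm
  have hinjΨ : (∀ (i : J) (s t : Sec F i U),
      al F c.pt (fun i => c.ι.app i) i U s = al F c.pt (fun i => c.ι.app i) i U t →
        ∃ (k : J) (h : i ≤ k), tr F h U s = tr F h U t) → Function.Injective Ψ := by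
    intro hcrit x y hxy
    obtain ⟨i, s, rfl⟩ := Types.jointly_surjective' x
    obtain ⟨j, t, rfl⟩ := Types.jointly_surjective' y
    obtain ⟨k, hik, hjk⟩ := exists_ge_ge i j
    rw [hw hik s, hw hjk t] at hxy ⊢
    rw [hΨ, hΨ] at hxy
    obtain ⟨l, hkl, hl⟩ := hcrit k _ _ hxy
    rw [hw hkl (tr F hik U s), hw hkl (tr F hjk U t), hl]
  have hsurjΨ : (∀ g : c.pt.1.obj (op U), ∃ (i : J) (s : Sec F i U),
      al F c.pt (fun i => c.ι.app i) i U s = g) → Function.Surjective Ψ := by
    intro h g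
    obtain ⟨i, s, hs⟩ := h g
    exact ⟨colimit.ι (F ⋙ ev) i s, (hΨ i s).trans hs⟩
  refine ⟨fun hinj => ?_, fun hU => ?_, fun hU hinj => ⟨?_, ?_⟩, fun hfin => ?_⟩
  · exact hinjΨ fun i s t hst => ⟨i, le_rfl, by
      rw [inj_of_tr_inj H (fun h V => hinj _ _ (homOfLE h) V) U i s t hst]⟩
  · exact hinjΨ fun i s t hst => exists_tr_eq_of_isCompact H U hU i s t hst
  · exact hinjΨ fun i s t hst => ⟨i, le_rfl, by
      rw [inj_of_tr_inj H (fun h V => hinj _ _ (homOfLE h) V) U i s t hst]⟩
  · exact hsurjΨ (surj_of_isCompact_of_tr_inj H (fun h V => hinj _ _ (homOfLE h) V) U hU)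
  · obtain ⟨hU, hs⟩ := bij_of_refine H U hfin
    exact ⟨hinjΨ fun i s t hst => exists_tr_eq_of_isCompact H U hU i s t hst, hsurjΨ hs⟩

end Colimit

end Groth.Agent.Helper11.ColimSec
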