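import Mathlib
import Groth.Prelude.Def_CohDer

/-!
# Maps from an object commuting with countable sums into a telescope (helper11)

Abstract part: finite-sum decompositions of maps into a countable coproduct, and the
injectivity / kernel computation for `1 - shift`.
-/

set_option autoImplicit false

open CategoryTheory CategoryTheory.Limits

universe v u

namespace Groth.Agent.Helper11.CompSeq

section DS

open DirectSum

theorem toAddMonoid_eq_sum [DecidableEq (ULift.{v} ℕ)] {β : ULift.{v} ℕ → Type*}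
    [∀ i, AddCommMonoid (β i)] {G : Type*}
    [AddCommMonoid G] (φ : ∀ i, β i →+ G) (d : ⨁ i, β i) :
    ∃ N : ℕ, (∀ n, N ≤ n → d ⟨n⟩ = 0) ∧
      ∀ N', N ≤ N' → DirectSum.toAddMonoid φ d = ∑ k ∈ Finset.range N', φ ⟨k⟩ (d ⟨k⟩) := by
  induction d using DirectSum.induction_on with
  | zero =>
    refine ⟨0, fun _ _ => rfl, fun N' _ => ?_⟩
    rw [map_zero]
    symm
    apply Finset.sum_eq_zero
    intro k _
    exact map_zero _
  | of i x =>
    refine ⟨i.down + 1, fun n hn => ?_, fun N' hN' => ?_⟩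
    · apply DirectSum.of_eq_of_ne
      intro h
      have h' : n = i.down := congrArg ULift.down h
      omega
    · rw [DirectSum.toAddMonoid_of, Finset.sum_eq_single i.down]
      · have h' : (DirectSum.of β i x) ⟨i.down⟩ = x := DirectSum.of_eq_same i x
        rw [h']
      · intro k _ hk
        have h' : (DirectSum.of β i x) ⟨k⟩ = 0 := by
          apply DirectSum.of_eq_of_ne
          intro h
          exact hk (congrArg ULift.down h)
        rw [h', map_zero]
      · intro hn
        exact absurd (Finset.mem_range.mpr (by omega)) hn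
  | add x y hx hy =>
    obtain ⟨N₁, h₁, h₁'⟩ := hx
    obtain ⟨N₂, h₂, h₂'⟩ := hy
    refine ⟨max N₁ N₂, fun n hn => ?_, fun N' hN' => ?_⟩
    · rw [DirectSum.add_apply, h₁ n (le_trans (le_max_left _ _) hn),
        h₂ n (le_trans (le_max_right _ _) hn), add_zero]
    · rw [map_add, h₁' N' (le_trans (le_max_left _ _) hN'),
        h₂' N' (le_trans (le_max_right _ _) hN'), ← Finset.sum_add_distrib]
      apply Finset.sum_congr rfl
      intro k _
      rw [DirectSum.add_apply, map_add]

theorem sum_of_apply [DecidableEq (ULift.{v} ℕ)] {β : ULift.{v} ℕ → Type*}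
    [∀ i, AddCommMonoid (β i)] (c : ∀ n : ℕ, β ⟨n⟩) (N n : ℕ) (hn : n < N) :
    (∑ k ∈ Finset.range N, DirectSum.of β ⟨k⟩ (c k)) ⟨n⟩ = c n := by
  rw [DirectSum.sum_apply, Finset.sum_eq_single n]
  · exact DirectSum.of_eq_same _ _
  · intro k _ hk
    apply DirectSum.of_eq_of_ne
    intro h
    exact hk (congrArg ULift.down h).symm
  · intro h
    exact absurd (Finset.mem_range.mpr hn) h

end DS

variable {D : Type u} [Category.{v} D] [Preadditive D]

/-- maps from `K` to `T` are, uniquely, finite sums of maps through the `E n` -/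
structure FinSum (K : D) (E : ℕ → D) (T : D) (j : ∀ n, E n ⟶ T) : Prop where
  surj : ∀ w : K ⟶ T, ∃ (c : ∀ n, K ⟶ E n) (N : ℕ), (∀ n, N ≤ n → c n = 0) ∧
    ∀ N', N ≤ N' → w = ∑ k ∈ Finset.range N', c k ≫ j k
  inj : ∀ (c : ∀ n, K ⟶ E n) (N : ℕ), ∑ k ∈ Finset.range N, c k ≫ j k = 0 →
    ∀ n, n < N → c n = 0

theorem finSum_of_bijective (K : D) (E : ℕ → D) [HasCoproduct (fun i : ULift.{v} ℕ => E i.down)]
    (hb : Function.Bijective (CohDer.homSumToHomCoprod K (fun i : ULift.{v} ℕ => E i.down)))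
    {T : D} (j : ∀ n, E n ⟶ T)
    (hT : IsColimit (Cofan.mk T (fun i : ULift.{v} ℕ => j i.down))) : FinSum K E T j := by
  let X : ULift.{v} ℕ → D := fun i => E i.down
  let e : T ≅ ∐ X := hT.coconePointUniqueUpToIso (coproductIsCoproduct X)
  have he : ∀ n, j n ≫ e.hom = Sigma.ι X ⟨n⟩ := fun n =>
    hT.comp_coconePointUniqueUpToIso_hom (coproductIsCoproduct X) ⟨⟨n⟩⟩
  obtain ⟨inst, hS⟩ : ∃ inst : DecidableEq (ULift.{v} ℕ),
      ∀ d : DirectSum (ULift.{v} ℕ) (fun i => K ⟶ X i),
      CohDer.homSumToHomCoprod K X d =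
        @DirectSum.toAddMonoid _ _ _ inst _ _
          (fun i => Preadditive.rightComp K (Sigma.ι X i)) d := ⟨_, fun d => rfl⟩
  constructor
  · intro w
    obtain ⟨d, hd⟩ := hb.2 (w ≫ e.hom)
    change CohDer.homSumToHomCoprod K X d = w ≫ e.hom at hd
    rw [hS d] at hd
    obtain ⟨N, h1, h2⟩ :=
      toAddMonoid_eq_sum (fun i => Preadditive.rightComp K (Sigma.ι X i)) d
    refine ⟨fun n => d ⟨n⟩, N, h1, fun N' hN' => ?_⟩
    rw [← cancel_mono e.hom, ← hd, h2 N' hN', Preadditive.sum_comp]
    apply Finset.sum_congr rfl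
    intro k _
    rw [Category.assoc, he]
    rfl
  · intro c N hsum n hn
    let d : DirectSum (ULift.{v} ℕ) (fun i => K ⟶ X i) :=
      ∑ k ∈ Finset.range N, DirectSum.of (fun i : ULift.{v} ℕ => K ⟶ X i) ⟨k⟩ (c k)
    have h1 : CohDer.homSumToHomCoprod K X d = 0 := by
      rw [hS d, map_sum]
      have h0 : ∑ k ∈ Finset.range N, (c k ≫ j k) ≫ e.hom = 0 := by
        rw [← Preadditive.sum_comp, hsum, zero_comp]
      rw [← h0]
      apply Finset.sum_congr rfl
      intro k _
      rw [DirectSum.toAddMonoid_of, Category.assoc, he]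
      rfl
    have h2 : d = 0 := hb.1 (h1.trans (map_zero _).symm)
    have h3 : d ⟨n⟩ = c n := sum_of_apply (β := fun i : ULift.{v} ℕ => K ⟶ X i) c N n hn
    rw [← h3, h2]
    rfl

section Tel

variable (F : ℕ ⥤ D) {T : D} (j : ∀ n, F.obj n ⟶ T) (Φ : T ⟶ T)

/-- the coefficients of `w ≫ Φ` in terms of those of `w` -/
def coef {K : D} (c : ∀ n, K ⟶ F.obj n) : ∀ n, K ⟶ F.obj n
  | 0 => c 0
  | n + 1 => c (n + 1) - c n ≫ F.map (homOfLE (Nat.le_succ n))

theorem coef_zero {K : D} (c : ∀ n, K ⟶ F.obj n) : coef F c 0 = c 0 := rfl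

theorem coef_succ {K : D} (c : ∀ n, K ⟶ F.obj n) (n : ℕ) :
    coef F c (n + 1) = c (n + 1) - c n ≫ F.map (homOfLE (Nat.le_succ n)) := rfl

variable (hΦ : ∀ n, j n ≫ Φ = j n - F.map (homOfLE (Nat.le_succ n)) ≫ j (n + 1))

include hΦ in
theorem sum_comp_Φ {K : D} (c : ∀ n, K ⟶ F.obj n) (N : ℕ) :
    ∑ k ∈ Finset.range (N + 1), coef F c k ≫ j k =
      (∑ k ∈ Finset.range N, c k ≫ j k) ≫ Φ + c N ≫ j N := by
  induction N with
  | zero =>
    simp [coef_zero]
  | succ N ih =>
    rw [Finset.sum_range_succ, ih, Finset.sum_range_succ (fun k => c k ≫ j k) N,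
      Preadditive.add_comp, Category.assoc, hΦ N, coef_succ, Preadditive.sub_comp,
      Preadditive.comp_sub, Category.assoc]
    abel

include hΦ in
theorem eq_zero_of_comp_Φ {K : D} (h : FinSum K (fun n => F.obj n) T j) (w : K ⟶ T)
    (hw : w ≫ Φ = 0) : w = 0 := by
  obtain ⟨c, N, hc0, hc⟩ := h.surj w
  have h1 : ∑ k ∈ Finset.range (N + 1), coef F c k ≫ j k = 0 := by
    rw [sum_comp_Φ F j Φ hΦ c N, ← hc N le_rfl, hw, hc0 N le_rfl, zero_comp, add_zero]
  have h2 := h.inj (coef F c) (N + 1) h1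
  have h3 : ∀ n, n < N + 1 → c n = 0 := by
    intro n
    induction n with
    | zero =>
      intro hn
      exact h2 0 hn
    | succ n ih =>
      intro hn
      have h4 := h2 (n + 1) hn
      rw [coef_succ, ih (by omega), zero_comp, sub_zero] at h4
      exact h4
  rw [hc N le_rfl]
  apply Finset.sum_eq_zero
  intro k hk
  rw [h3 k (by have := Finset.mem_range.mp hk; omega), zero_comp]

include hΦ in
theorem exists_comp_map_eq_zero {K : D} (h : FinSum K (fun n => F.obj n) T j) (n : ℕ)
    (y : K ⟶ F.obj n) (w : K ⟶ T) (hw : y ≫ j n = w ≫ Φ) :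
    ∃ (m : ℕ) (hm : n ≤ m), y ≫ F.map (homOfLE hm) = 0 := by
  classical
  obtain ⟨c, N, hc0, hc⟩ := h.surj w
  let N' : ℕ := max N (n + 1)
  have hN : N ≤ N' := le_max_left _ _
  have hn : n < N' := lt_of_lt_of_le (Nat.lt_succ_self n) (le_max_right _ _)
  let sgl : ∀ k, K ⟶ F.obj k := Function.update (fun k => (0 : K ⟶ F.obj k)) n y
  have hsgl : ∑ k ∈ Finset.range (N' + 1), sgl k ≫ j k = y ≫ j n := by
    rw [Finset.sum_eq_single n]
    · show Function.update (fun k => (0 : K ⟶ F.obj k)) n y n ≫ j n = _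
      rw [Function.update_self]
    · intro k _ hk
      show Function.update (fun k => (0 : K ⟶ F.obj k)) n y k ≫ j k = _
      rw [Function.update_of_ne hk, zero_comp]
    · intro h'
      exact absurd (Finset.mem_range.mpr (by omega)) h'
  have h1 : ∑ k ∈ Finset.range (N' + 1), (coef F c k - sgl k) ≫ j k = 0 := by
    have h0 : ∑ k ∈ Finset.range (N' + 1), (coef F c k - sgl k) ≫ j k =
        ∑ k ∈ Finset.range (N' + 1), coef F c k ≫ j k -
          ∑ k ∈ Finset.range (N' + 1), sgl k ≫ j k := by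
      rw [← Finset.sum_sub_distrib]
      apply Finset.sum_congr rfl
      intro k _
      rw [Preadditive.sub_comp]
    rw [h0, hsgl, sum_comp_Φ F j Φ hΦ c N', ← hc N' hN, hc0 N' hN, zero_comp, add_zero, hw,
      sub_self]
  have h2 : ∀ k, k < N' + 1 → coef F c k = sgl k := fun k hk =>
    sub_eq_zero.mp (h.inj (fun k => coef F c k - sgl k) (N' + 1) h1 k hk)
  have hs_ne : ∀ k, k ≠ n → sgl k = 0 := fun k hk => by
    show Function.update (fun k => (0 : K ⟶ F.obj k)) n y k = _
    rw [Function.update_of_ne hk]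
  have hs_self : sgl n = y := by
    show Function.update (fun k => (0 : K ⟶ F.obj k)) n y n = _
    rw [Function.update_self]
  -- step 1: coefficients below `n` vanish
  have st1 : ∀ k, k < n → c k = 0 := by
    intro k
    induction k with
    | zero =>
      intro hk
      have h3 := h2 0 (by omega)
      rw [coef_zero, hs_ne 0 (by omega)] at h3
      exact h3
    | succ k ih =>
      intro hk
      have h3 := h2 (k + 1) (by omega)
      rw [coef_succ, ih (by omega), zero_comp, sub_zero, hs_ne (k + 1) (by omega)] at h3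
      exact h3
  -- step 2: the coefficient at `n`
  have st2 : c n = y := by
    cases n with
    | zero =>
      have h3 := h2 0 (by omega)
      rw [coef_zero, hs_self] at h3
      exact h3
    | succ n' =>
      have h3 := h2 (n' + 1) (by omega)
      rw [coef_succ, st1 n' (by omega), zero_comp, sub_zero, hs_self] at h3
      exact h3
  -- step 3: the coefficients above `n`
  have st3 : ∀ m (hm : n ≤ m), m ≤ N' → c m = y ≫ F.map (homOfLE hm) := by
    intro m hm
    induction m, hm using Nat.le_induction with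
    | base =>
      intro _
      have e : (homOfLE (le_refl n) : n ⟶ n) = 𝟙 n := Subsingleton.elim _ _
      rw [st2, e, F.map_id, Category.comp_id]
    | succ m hm ih =>
      intro hm'
      have h3 := h2 (m + 1) (by omega)
      rw [coef_succ, hs_ne (m + 1) (by omega), sub_eq_zero, ih (by omega), Category.assoc,
        ← F.map_comp, homOfLE_comp] at h3
      exact h3
  refine ⟨N', le_of_lt hn, ?_⟩
  rw [← st3 N' (le_of_lt hn) le_rfl]
  exact hc0 N' hN

end Tel

end Groth.Agent.Helper11.CompSeq
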