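import Mathlib.Algebra.DirectSum.Module
import Mathlib.Algebra.BigOperators.Intervals

/-!
K-projective resolutions of unbounded complexes: linear algebra of the telescope (helper11).
-/

set_option autoImplicit false

open DirectSum

universe u

namespace Groth.Agent.Helper11.Tel

variable {A : Type u} [CommRing A] {M : ℕ → Type u} [∀ n, AddCommGroup (M n)]
  [∀ n, Module A (M n)] (γ : ∀ n, M n →ₗ[A] M (n + 1))

/-- the shift map on the direct sum -/
noncomputable def sig : (⨁ n, M n) →ₗ[A] ⨁ n, M n :=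
  DirectSum.toModule A ℕ _ (fun n => DirectSum.lof A ℕ M (n + 1) ∘ₗ γ n)

theorem sig_lof (n : ℕ) (x : M n) :
    sig γ (DirectSum.lof A ℕ M n x) = DirectSum.lof A ℕ M (n + 1) (γ n x) :=
  DirectSum.toModule_lof _ _ _

theorem sig_zero (s : ⨁ n, M n) : (sig γ s) 0 = 0 := by
  induction s using DirectSum.induction_on with
  | zero => rw [map_zero]; rfl
  | of n x =>
    have h : sig γ (DirectSum.of M n x) = DirectSum.lof A ℕ M (n + 1) (γ n x) := sig_lof γ n x
    rw [h, DirectSum.lof_eq_of]
    exact DirectSum.of_eq_of_ne _ _ _ (Nat.succ_ne_zero n).symm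
  | add x y hx hy =>
    rw [map_add, DirectSum.add_apply, hx, hy, add_zero]

theorem sig_succ (s : ⨁ n, M n) (m : ℕ) : (sig γ s) (m + 1) = γ m (s m) := by
  induction s using DirectSum.induction_on with
  | zero =>
    rw [map_zero]
    exact (map_zero (γ m)).symm
  | of n x =>
    have h : sig γ (DirectSum.of M n x) = DirectSum.lof A ℕ M (n + 1) (γ n x) := sig_lof γ n x
    rw [h, DirectSum.lof_eq_of]
    by_cases hnm : n = m
    · subst hnm
      rw [DirectSum.of_eq_same, DirectSum.of_eq_same]
    · rw [DirectSum.of_eq_of_ne _ _ _ (fun h' => hnm (Nat.succ_injective h').symm),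
        DirectSum.of_eq_of_ne _ _ _ (fun h' => hnm h'.symm), map_zero]
  | add x y hx hy =>
    rw [map_add, DirectSum.add_apply, hx, hy, DirectSum.add_apply, map_add]

/-- the partial sums of the geometric series of the shift, evaluated at level `m` -/
noncomputable def tau : ∀ m : ℕ, (⨁ n, M n) →ₗ[A] M m
  | 0 => DirectSum.component A ℕ M 0
  | m + 1 => DirectSum.component A ℕ M (m + 1) + γ m ∘ₗ tau m

theorem tau_zero (s : ⨁ n, M n) : tau γ 0 s = s 0 := rfl

theorem tau_succ (s : ⨁ n, M n) (m : ℕ) : tau γ (m + 1) s = s (m + 1) + γ m (tau γ m s) := rfl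

theorem tau_sig (m : ℕ) (s : ⨁ n, M n) : tau γ m (sig γ s) = tau γ m s - s m := by
  induction m with
  | zero => rw [tau_zero, tau_zero, sig_zero, sub_self]
  | succ m ih =>
    rw [tau_succ, tau_succ, sig_succ, ih, map_sub]
    abel

theorem tau_sub_sig (m : ℕ) (s : ⨁ n, M n) : tau γ m (s - sig γ s) = s m := by
  rw [map_sub, tau_sig]
  abel

/-- truncation of an element of the direct sum -/
noncomputable def Vt (N : ℕ) (s : ⨁ n, M n) : ⨁ n, M n :=
  ∑ m ∈ Finset.range (N + 1), DirectSum.lof A ℕ M m (s m)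

theorem exists_bound (s : ⨁ n, M n) : ∃ N, ∀ N', N ≤ N' → Vt (A := A) N' s = s := by
  classical
  induction s using DirectSum.induction_on with
  | zero =>
    refine ⟨0, fun N' _ => ?_⟩
    unfold Vt
    apply Finset.sum_eq_zero
    intro m _
    exact map_zero _
  | of n x =>
    refine ⟨n, fun N' hN' => ?_⟩
    unfold Vt
    rw [Finset.sum_eq_single n]
    · rw [DirectSum.of_eq_same, DirectSum.lof_eq_of]
    · intro m _ hmn
      rw [DirectSum.of_eq_of_ne _ _ _ hmn, map_zero]
    · intro hn
      exact absurd (Finset.mem_range.mpr (by omega)) hn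
  | add x y hx hy =>
    obtain ⟨N₁, h₁⟩ := hx
    obtain ⟨N₂, h₂⟩ := hy
    refine ⟨max N₁ N₂, fun N' hN' => ?_⟩
    have e1 := h₁ N' (le_trans (le_max_left _ _) hN')
    have e2 := h₂ N' (le_trans (le_max_right _ _) hN')
    have h3 : Vt (A := A) N' (x + y) = Vt (A := A) N' x + Vt (A := A) N' y := by
      unfold Vt
      rw [← Finset.sum_add_distrib]
      apply Finset.sum_congr rfl
      intro m _
      rw [DirectSum.add_apply, map_add]
    rw [h3, e1, e2]

/-- the partial sums used to express an element modulo the image of `1 - sig` -/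
noncomputable def Ut (N : ℕ) (s : ⨁ n, M n) : ⨁ n, M n :=
  ∑ m ∈ Finset.range N, DirectSum.lof A ℕ M m (tau γ m s)

theorem Ut_sub_sig (N : ℕ) (s : ⨁ n, M n) :
    Ut γ N s - sig γ (Ut γ N s) = Vt (A := A) N s - DirectSum.lof A ℕ M N (tau γ N s) := by
  induction N with
  | zero =>
    unfold Ut Vt
    rw [Finset.range_zero, Finset.sum_empty, map_zero, sub_zero, Finset.range_one,
      Finset.sum_singleton, tau_zero, sub_self]
  | succ N ih =>
    have hU : Ut γ (N + 1) s = Ut γ N s + DirectSum.lof A ℕ M N (tau γ N s) := by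
      unfold Ut
      rw [Finset.sum_range_succ]
    have hV : Vt (A := A) (N + 1) s = Vt (A := A) N s + DirectSum.lof A ℕ M (N + 1) (s (N + 1)) := by
      unfold Vt
      rw [Finset.sum_range_succ]
    rw [hU, hV, map_add, sig_lof, tau_succ, map_add]
    have := ih
    calc Ut γ N s + (DirectSum.lof A ℕ M N) (tau γ N s) -
          (sig γ (Ut γ N s) + (DirectSum.lof A ℕ M (N + 1)) (γ N (tau γ N s)))
        = (Ut γ N s - sig γ (Ut γ N s)) + (DirectSum.lof A ℕ M N) (tau γ N s) -
          (DirectSum.lof A ℕ M (N + 1)) (γ N (tau γ N s)) := by abel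
      _ = _ := by
        rw [ih]
        abel

section Compat

variable {M' : ℕ → Type u} [∀ n, AddCommGroup (M' n)] [∀ n, Module A (M' n)]
  (γ' : ∀ n, M' n →ₗ[A] M' (n + 1)) (δ : ∀ n, M n →ₗ[A] M' n)
  (hδ : ∀ n x, δ (n + 1) (γ n x) = γ' n (δ n x))

include hδ in
theorem tau_lmap (m : ℕ) (s : ⨁ n, M n) :
    tau γ' m (DirectSum.lmap δ s) = δ m (tau γ m s) := by
  induction m with
  | zero => rfl
  | succ m ih =>
    rw [tau_succ, tau_succ, ih, map_add, hδ]
    rfl

include hδ in
theorem Ut_lmap (N : ℕ) (s : ⨁ n, M n) :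
    Ut γ' N (DirectSum.lmap δ s) = DirectSum.lmap δ (Ut γ N s) := by
  unfold Ut
  rw [map_sum]
  apply Finset.sum_congr rfl
  intro m _
  rw [tau_lmap γ γ' δ hδ, DirectSum.lmap_lof]

include hδ in
theorem sig_lmap (s : ⨁ n, M n) :
    sig γ' (DirectSum.lmap δ s) = DirectSum.lmap δ (sig γ s) := by
  induction s using DirectSum.induction_on with
  | zero => simp
  | of n x =>
    have h1 : DirectSum.of M n x = DirectSum.lof A ℕ M n x := by rw [DirectSum.lof_eq_of]
    rw [h1, DirectSum.lmap_lof, sig_lof, sig_lof, DirectSum.lmap_lof, hδ]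
  | add x y hx hy => rw [map_add, map_add, hx, hy, map_add, map_add]

end Compat

end Groth.Agent.Helper11.Tel
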