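import Groth.Agent.Lib.Helper11.Tel3
import Groth.Agent.Lib.Helper11.Tel4

/-!
K-projective resolutions of unbounded complexes: elementwise description of mapping cones and
the injectivity of `1 - σ` on cohomology (helper11).
-/

set_option autoImplicit false

open CategoryTheory CategoryTheory.Limits DirectSum CochainComplex HomComplex

universe u

namespace Groth.Agent.Helper11.Tel

variable {A : Type u} [CommRing A]

section ConeGen

variable {E F : DRing.Cx A} (φ : E ⟶ F)

theorem cone_decomp (i j : ℤ) (hij : j + 1 = i) (m : (mappingCone φ).X j) :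
    ((mappingCone.inl φ).v i j (by omega)).hom (((mappingCone.fst φ).1.v j i hij).hom m) +
      ((mappingCone.inr φ).f j).hom (((mappingCone.snd φ).v j j (add_zero _)).hom m) = m := by
  have h := congr($(mappingCone.id_X φ j i hij).hom m)
  simp only [ModuleCat.hom_comp, LinearMap.comp_apply, ModuleCat.hom_id, LinearMap.id_apply,
    ModuleCat.hom_add, LinearMap.add_apply] at h
  exact h

theorem cone_fst (i j : ℤ) (hij : j + 1 = i) (a : E.X i) (b : F.X j) :
    ((mappingCone.fst φ).1.v j i hij).hom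
      (((mappingCone.inl φ).v i j (by omega)).hom a + ((mappingCone.inr φ).f j).hom b) = a := by
  have h1 := congr($(mappingCone.inl_v_fst_v φ i j hij).hom a)
  have h2 := congr($(mappingCone.inr_f_fst_v φ j i hij).hom b)
  simp only [ModuleCat.hom_comp, LinearMap.comp_apply, ModuleCat.hom_id, LinearMap.id_apply,
    ModuleCat.hom_zero, LinearMap.zero_apply] at h1 h2
  rw [map_add, h1, h2, add_zero]

theorem cone_snd (i j : ℤ) (hij : i + -1 = j) (a : E.X i) (b : F.X j) :
    ((mappingCone.snd φ).v j j (add_zero _)).hom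
      (((mappingCone.inl φ).v i j hij).hom a + ((mappingCone.inr φ).f j).hom b) = b := by
  have h1 := congr($(mappingCone.inl_v_snd_v φ i j hij).hom a)
  have h2 := congr($(mappingCone.inr_f_snd_v φ j).hom b)
  simp only [ModuleCat.hom_comp, LinearMap.comp_apply, ModuleCat.hom_id, LinearMap.id_apply,
    ModuleCat.hom_zero, LinearMap.zero_apply] at h1 h2
  rw [map_add, h1, h2, zero_add]

theorem cone_d_inl (i j k : ℤ) (hij : i + (-1) = j) (hik : k + (-1) = i) (a : E.X i) :
    ((mappingCone φ).d j i).hom (((mappingCone.inl φ).v i j hij).hom a) =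
      ((mappingCone.inr φ).f i).hom ((φ.f i).hom a) -
        ((mappingCone.inl φ).v k i hik).hom ((E.d i k).hom a) := by
  have h := congr($(mappingCone.inl_v_d φ i j k hij hik).hom a)
  simp only [ModuleCat.hom_comp, LinearMap.comp_apply, ModuleCat.hom_sub,
    LinearMap.sub_apply] at h
  exact h

theorem cone_d_inr (i j : ℤ) (b : F.X i) :
    ((mappingCone φ).d i j).hom (((mappingCone.inr φ).f i).hom b) =
      ((mappingCone.inr φ).f j).hom ((F.d i j).hom b) := by
  have h := congr($(mappingCone.inr_f_d φ i j).hom b)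
  simp only [ModuleCat.hom_comp, LinearMap.comp_apply] at h
  exact h

variable {K : DRing.Cx A} (α : Cochain E K (-1)) (β : F ⟶ K)
  (eq : δ (-1) 0 α = Cochain.ofHom (φ ≫ β))

theorem desc_inl (p q : ℤ) (hpq : p + (-1) = q) (a : E.X p) :
    ((mappingCone.desc φ α β eq).f q).hom (((mappingCone.inl φ).v p q hpq).hom a) =
      (α.v p q hpq).hom a := by
  have h := congr($(mappingCone.inl_v_desc_f φ α β eq p q hpq).hom a)
  simp only [ModuleCat.hom_comp, LinearMap.comp_apply] at h
  exact h

theorem desc_inr (p : ℤ) (b : F.X p) :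
    ((mappingCone.desc φ α β eq).f p).hom (((mappingCone.inr φ).f p).hom b) = (β.f p).hom b := by
  have h := congr($(mappingCone.inr_f_desc_f φ α β eq p).hom b)
  simp only [ModuleCat.hom_comp, LinearMap.comp_apply] at h
  exact h

theorem hom_comm_apply {E' F' : DRing.Cx A} (ψ : E' ⟶ F') (i j : ℤ) (x : E'.X i) :
    (ψ.f j).hom ((E'.d i j).hom x) = (F'.d i j).hom ((ψ.f i).hom x) :=
  (congr($(ψ.comm i j).hom x)).symm

end ConeGen

section Sig

variable {P : ℕ → DRing.Cx A} (g : ∀ n, P n ⟶ P (n + 1))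

/-- the components of `g` in a fixed degree -/
noncomputable abbrev gam (j : ℤ) (n : ℕ) : (P n).X j →ₗ[A] (P (n + 1)).X j := ((g n).f j).hom

theorem σ_eq_sig (j : ℤ) (s : ⨁ n, (P n).X j) :
    ((σ g).f j).hom s = sig (gam g j) s := rfl

theorem one_sub_σ_apply (j : ℤ) (s : ⨁ n, (P n).X j) :
    ((𝟙 (Scx P) - σ g).f j).hom s = s - sig (gam g j) s := rfl

theorem gam_comm (i j : ℤ) (n : ℕ) (x : (P n).X i) :
    ((P (n + 1)).d i j).hom (gam g i n x) = gam g j n (((P n).d i j).hom x) :=
  (hom_comm_apply (g n) i j x).symm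

/-- `1 - σ` is injective on cohomology -/
theorem exists_of_one_sub_sig (i j : ℤ) (u : ⨁ n, (P n).X j) (w : ⨁ n, (P n).X i)
    (huw : u - sig (gam g j) u = ((Scx P).d i j).hom w) :
    ∃ u₁ : ⨁ n, (P n).X i, ((Scx P).d i j).hom u₁ = u := by
  have hcomp : ∀ m, u m = ((P m).d i j).hom (tau (gam g i) m w) := fun m => by
    rw [← tau_sub_sig (gam g j) m u, huw, Scx_d_apply,
      tau_lmap (gam g i) (gam g j) (fun n => ((P n).d i j).hom) (fun n x => gam_comm g i j n x)]
  obtain ⟨N, hN⟩ := exists_bound (A := A) u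
  refine ⟨∑ m ∈ Finset.range (N + 1), DirectSum.lof A ℕ (fun n => (P n).X i) m
    (tau (gam g i) m w), ?_⟩
  rw [map_sum, ← hN N le_rfl]
  unfold Vt
  apply Finset.sum_congr rfl
  intro m _
  rw [Scx_d_lof, ← hcomp]

end Sig

end Groth.Agent.Helper11.Tel
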