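import Groth.Agent.Lib.Helper11.CompSeq1
import Groth.Agent.Lib.Helper11.Tel5
import Groth.Agent.Lib.Helper10.DSigma
import Groth.Prelude.Def_DRing2

/-!
# Maps from an object commuting with countable sums into a sequential colimit (helper11)
-/

set_option autoImplicit false

open CategoryTheory CategoryTheory.Limits Pretriangulated

universe u

attribute [local instance] HasDerivedCategory.standard

namespace Groth.Agent.Helper11.CompSeq

open Groth.Agent.Helper11.Tel Groth.Agent.Helper10.DSigma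

variable {R : Type u} [CommRing R] (L : ℕ ⥤ DRing.Cx R)

/-- the terms of the sequence -/
abbrev P : ℕ → DRing.Cx R := fun n => L.obj n

/-- the transition maps -/
abbrev g (n : ℕ) : P L n ⟶ P L (n + 1) := L.map (homOfLE (Nat.le_succ n))

/-- `1 - shift` -/
noncomputable def φ : Scx (P L) ⟶ Scx (P L) := 𝟙 _ - σ (g L)

theorem ι_φ (n : ℕ) : ι (P L) n ≫ φ L = ι (P L) n - g L n ≫ ι (P L) (n + 1) := by
  unfold φ
  rw [Preadditive.comp_sub, Category.comp_id, ι_σ]

variable (c : Cocone L)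

/-- the canonical map to the colimit -/
noncomputable def π : Scx (P L) ⟶ c.pt := Tel.desc (fun n => c.ι.app n)

theorem ι_π (n : ℕ) : ι (P L) n ≫ π L c = c.ι.app n := ι_desc _ n

theorem φ_π : φ L ≫ π L c = 0 := by
  apply Tel.hom_ext
  intro n
  rw [← Category.assoc, ι_φ, Preadditive.sub_comp, Category.assoc, ι_π, ι_π, comp_zero,
    sub_eq_zero]
  exact (c.w (homOfLE (Nat.le_succ n))).symm

theorem mono_φ : Mono (φ L) := by
  apply HomologicalComplex.mono_of_mono_f
  intro i
  rw [ModuleCat.mono_iff_injective]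
  have key : ∀ u : DirectSum ℕ (fun n => (P L n).X i),
      u - sig (gam (g L) i) u = 0 → u = 0 := by
    intro u hu
    refine DFinsupp.ext (fun m => ?_)
    rw [← tau_sub_sig (gam (g L) i) m u, hu, map_zero]
    rfl
  intro s t hst
  have h0 : ((φ L).f i).hom (s - t) = 0 := by
    rw [map_sub, sub_eq_zero]
    exact hst
  exact sub_eq_zero.mp (key (s - t) h0)

theorem ι_comp_eq {Z' : DRing.Cx R} (s : Scx (P L) ⟶ Z') (hs : φ L ≫ s = 0) (n : ℕ) :
    L.map (homOfLE (Nat.le_add_right n 1)) ≫ ι (P L) (n + 1) ≫ s = ι (P L) n ≫ s := by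
  have h : ι (P L) n ≫ φ L ≫ s = 0 := by rw [hs, comp_zero]
  rw [← Category.assoc, ι_φ, Preadditive.sub_comp, sub_eq_zero, Category.assoc] at h
  exact h.symm

/-- the cocone induced by a map killing `1 - shift` -/
noncomputable abbrev coconeOf {Z' : DRing.Cx R} (s : Scx (P L) ⟶ Z') (hs : φ L ≫ s = 0) :
    Cocone L where
  pt := Z'
  ι := NatTrans.ofSequence (fun n => ι (P L) n ≫ s) (fun n => by
    rw [ι_comp_eq L s hs n]
    exact (Category.comp_id _).symm)

/-- the colimit is the cokernel of `1 - shift` -/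
noncomputable def isColimitCokernelCofork (hc : IsColimit c) :
    IsColimit (CokernelCofork.ofπ (π L c) (φ_π L c)) :=
  CokernelCofork.IsColimit.ofπ _ _
    (fun s hs => hc.desc (coconeOf L s hs))
    (fun s hs => by
      apply Tel.hom_ext
      intro n
      have h1 := hc.fac (coconeOf L s hs) n
      have h2 : (coconeOf L s hs).ι.app n = ι (P L) n ≫ s := rfl
      calc ι (P L) n ≫ π L c ≫ hc.desc (coconeOf L s hs)
          = (ι (P L) n ≫ π L c) ≫ hc.desc (coconeOf L s hs) := (Category.assoc _ _ _).symm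
        _ = c.ι.app n ≫ hc.desc (coconeOf L s hs) := by rw [ι_π]
        _ = ι (P L) n ≫ s := h1.trans h2)
    (fun s hs m hm => by
      apply hc.uniq (coconeOf L s hs)
      intro n
      have h2 : (coconeOf L s hs).ι.app n = ι (P L) n ≫ s := rfl
      calc c.ι.app n ≫ m = (ι (P L) n ≫ π L c) ≫ m := by rw [ι_π]
        _ = ι (P L) n ≫ π L c ≫ m := Category.assoc _ _ _
        _ = ι (P L) n ≫ s := by rw [hm]
        _ = (coconeOf L s hs).ι.app n := h2.symm)

theorem shortExact (hc : IsColimit c) :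
    (ShortComplex.mk (φ L) (π L c) (φ_π L c)).ShortExact := by
  have hcok := isColimitCokernelCofork L c hc
  refine ShortComplex.ShortExact.mk' ?_ ?_ ?_
  · exact ShortComplex.exact_of_g_is_cokernel _ hcok
  · exact mono_φ L
  · exact epi_of_isColimit_cofork hcok

instance : HasExactColimitsOfShape (Discrete (ULift.{u + 1} ℕ)) (ModuleCat.{u} R) :=
  HasExactColimitsOfShape.of_domain_equivalence _ (Discrete.equivalence Equiv.ulift.symm)

/-- the family indexed by `ULift ℕ` -/
abbrev K' : ULift.{u + 1} ℕ → DRing.Cx R := fun i => L.obj i.down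

/-- comparison with the abstract coproduct complex -/
noncomputable def scxIso : Scx (P L) ≅ sigmaCx (K' L) where
  hom := Tel.desc (fun n => sigmaι (K' L) ⟨n⟩)
  inv := sigmaDesc (fun i => ι (P L) i.down)
  hom_inv_id := by
    apply Tel.hom_ext
    intro n
    rw [← Category.assoc, ι_desc, sigmaι_desc, Category.comp_id]
  inv_hom_id := by
    apply sigma_hom_ext
    intro i
    rw [← Category.assoc, sigmaι_desc, ι_desc, Category.comp_id]

/-- `Q` of the direct sum complex is the coproduct in the derived category -/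
noncomputable def isColimitCofan :
    IsColimit (Cofan.mk (DerivedCategory.Q.obj (Scx (P L)))
      (fun i : ULift.{u + 1} ℕ => DerivedCategory.Q.map (ι (P L) i.down))) :=
  IsColimit.ofIsoColimit (isColimitCofanQ (K' L))
    (Cocone.ext (DerivedCategory.Q.mapIso (scxIso L).symm) (fun ⟨i⟩ => by
      show DerivedCategory.Q.map (sigmaι (K' L) i) ≫ DerivedCategory.Q.map (scxIso L).inv =
        DerivedCategory.Q.map (ι (P L) i.down)
      rw [← Functor.map_comp]
      congr 1
      exact sigmaι_desc _ i))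

/-- the shifted version -/
noncomputable def isColimitCofanShift :
    IsColimit (Cofan.mk ((DerivedCategory.Q.obj (Scx (P L)))⟦(1 : ℤ)⟧)
      (fun i : ULift.{u + 1} ℕ => (DerivedCategory.Q.map (ι (P L) i.down))⟦(1 : ℤ)⟧')) :=
  (isColimitMapCoconeCofanMkEquiv (shiftFunctor (Dual.D R) (1 : ℤ)) _ _)
    (isColimitOfPreserves (shiftFunctor (Dual.D R) (1 : ℤ)) (isColimitCofan L))

theorem main (K : Dual.D R)
    (hK : ∀ (E : ℕ → Dual.D R) [HasCoproduct fun i : ULift.{u + 1} ℕ => E i.down],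
      Function.Bijective (CohDer.homSumToHomCoprod K (fun i : ULift.{u + 1} ℕ => E i.down)))
    (hc : IsColimit c) :
    (∀ x : K ⟶ DRing.toD c.pt, ∃ (n : ℕ) (y : K ⟶ DRing.toD (L.obj n)),
        y ≫ DerivedCategory.Q.map (c.ι.app n) = x) ∧
      (∀ (n : ℕ) (y : K ⟶ DRing.toD (L.obj n)), y ≫ DerivedCategory.Q.map (c.ι.app n) = 0 →
        ∃ (m : ℕ) (h : n ≤ m), y ≫ DerivedCategory.Q.map (L.map (homOfLE h)) = 0) := by
  classical
  have hSES := shortExact L c hc
  have hT := DerivedCategory.triangleOfSES_distinguished hSES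
  -- the unshifted situation
  let F : ℕ ⥤ Dual.D R := L ⋙ DerivedCategory.Q
  let j : ∀ n, F.obj n ⟶ DerivedCategory.Q.obj (Scx (P L)) :=
    fun n => DerivedCategory.Q.map (ι (P L) n)
  have hΦ : ∀ n, j n ≫ DerivedCategory.Q.map (φ L) =
      j n - F.map (homOfLE (Nat.le_succ n)) ≫ j (n + 1) := by
    intro n
    show DerivedCategory.Q.map (ι (P L) n) ≫ DerivedCategory.Q.map (φ L) =
      DerivedCategory.Q.map (ι (P L) n) -
        DerivedCategory.Q.map (L.map (homOfLE (Nat.le_succ n))) ≫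
          DerivedCategory.Q.map (ι (P L) (n + 1))
    rw [← Functor.map_comp, ← Functor.map_comp, ← Functor.map_sub, ι_φ]
  haveI : HasCoproduct (fun i : ULift.{u + 1} ℕ =>
      (fun n => DerivedCategory.Q.obj (L.obj n)) i.down) := ⟨⟨⟨_, isColimitCofan L⟩⟩⟩
  have fs : FinSum K (fun n => F.obj n) _ j :=
    finSum_of_bijective K (fun n => DerivedCategory.Q.obj (L.obj n))
      (hK (fun n => DerivedCategory.Q.obj (L.obj n))) j (isColimitCofan L)
  -- the shifted situation
  let F1 : ℕ ⥤ Dual.D R := L ⋙ DerivedCategory.Q ⋙ shiftFunctor (Dual.D R) (1 : ℤ)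
  let j1 : ∀ n, F1.obj n ⟶ (DerivedCategory.Q.obj (Scx (P L)))⟦(1 : ℤ)⟧ :=
    fun n => (DerivedCategory.Q.map (ι (P L) n))⟦(1 : ℤ)⟧'
  have hΦ1 : ∀ n, j1 n ≫ (DerivedCategory.Q.map (φ L))⟦(1 : ℤ)⟧' =
      j1 n - F1.map (homOfLE (Nat.le_succ n)) ≫ j1 (n + 1) := by
    intro n
    have h := congrArg (fun t => (shiftFunctor (Dual.D R) (1 : ℤ)).map t) (hΦ n)
    simp only [Functor.map_comp, Functor.map_sub] at h
    exact h
  haveI : HasCoproduct (fun i : ULift.{u + 1} ℕ =>
      (fun n => (DerivedCategory.Q.obj (L.obj n))⟦(1 : ℤ)⟧) i.down) :=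
    ⟨⟨⟨_, isColimitCofanShift L⟩⟩⟩
  have fs1 : FinSum K (fun n => F1.obj n) _ j1 :=
    finSum_of_bijective K (fun n => (DerivedCategory.Q.obj (L.obj n))⟦(1 : ℤ)⟧)
      (hK (fun n => (DerivedCategory.Q.obj (L.obj n))⟦(1 : ℤ)⟧)) j1 (isColimitCofanShift L)
  obtain ⟨δ, h31, ex3, ex2⟩ : ∃ δ : DerivedCategory.Q.obj c.pt ⟶
      (DerivedCategory.Q.obj (Scx (P L)))⟦(1 : ℤ)⟧,
      δ ≫ (DerivedCategory.Q.map (φ L))⟦(1 : ℤ)⟧' = 0 ∧
      (∀ x : K ⟶ DerivedCategory.Q.obj c.pt, x ≫ δ = 0 →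
        ∃ w : K ⟶ DerivedCategory.Q.obj (Scx (P L)), x = w ≫ DerivedCategory.Q.map (π L c)) ∧
      (∀ f : K ⟶ DerivedCategory.Q.obj (Scx (P L)), f ≫ DerivedCategory.Q.map (π L c) = 0 →
        ∃ w : K ⟶ DerivedCategory.Q.obj (Scx (P L)), f = w ≫ DerivedCategory.Q.map (φ L)) :=
    ⟨DerivedCategory.triangleOfSESδ hSES, comp_distTriang_mor_zero₃₁ _ hT,
      fun x hx => Triangle.coyoneda_exact₃ _ hT x hx,
      fun f hf => Triangle.coyoneda_exact₂ _ hT f hf⟩
  constructor
  · intro x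
    have hz : (x ≫ δ) ≫ (DerivedCategory.Q.map (φ L))⟦(1 : ℤ)⟧' = 0 := by
      rw [Category.assoc, h31, comp_zero]
    have hz0 : x ≫ δ = 0 := eq_zero_of_comp_Φ F1 j1 _ hΦ1 fs1 _ hz
    obtain ⟨w, hw⟩ := ex3 x hz0
    obtain ⟨cc, N, hc0, hcs⟩ := fs.surj w
    refine ⟨N, ∑ k ∈ Finset.range N,
      (if h : k ≤ N then cc k ≫ DerivedCategory.Q.map (L.map (homOfLE h)) else 0), ?_⟩
    rw [hw, hcs N le_rfl, Preadditive.sum_comp, Preadditive.sum_comp]
    apply Finset.sum_congr rfl
    intro k hk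
    have hk' : k ≤ N := le_of_lt (Finset.mem_range.mp hk)
    rw [dif_pos hk', Category.assoc, Category.assoc]
    congr 1
    show DerivedCategory.Q.map (L.map (homOfLE hk')) ≫ DerivedCategory.Q.map (c.ι.app N) =
      DerivedCategory.Q.map (ι (P L) k) ≫ DerivedCategory.Q.map (π L c)
    rw [← Functor.map_comp, ← Functor.map_comp, ι_π, c.w]
  · intro n y hy
    have h1 : (y ≫ j n) ≫ DerivedCategory.Q.map (π L c) = 0 := by
      rw [Category.assoc]
      show y ≫ DerivedCategory.Q.map (ι (P L) n) ≫ DerivedCategory.Q.map (π L c) = 0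
      rw [← Functor.map_comp, ι_π, hy]
    obtain ⟨w, hw⟩ := ex2 (y ≫ j n) h1
    exact exists_comp_map_eq_zero F j (DerivedCategory.Q.map (φ L)) hΦ fs n y w hw

end Groth.Agent.Helper11.CompSeq
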