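import Mathlib

/-!
Helper lemmas on constructible sets (helper11).
-/

namespace Groth.Agent.Helper11

open Topology Set TopologicalSpace

variable {X : Type*} [TopologicalSpace X]

/-- Normal form: a constructible set is a finite union of differences of retrocompact opens. -/
theorem isConstructible_exists_finset_sdiff {s : Set X} (hs : IsConstructible s) :
    ∃ t : Finset (Set X × Set X),
      (∀ p ∈ t, (IsOpen p.1 ∧ IsRetrocompact p.1) ∧ (IsOpen p.2 ∧ IsRetrocompact p.2)) ∧
      s = ⋃ p ∈ t, p.1 \ p.2 := by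
  classical
  have hsub : IsSublattice {U : Set X | IsOpen U ∧ IsRetrocompact U} :=
    ⟨fun s hs t ht ↦ ⟨hs.1.union ht.1, hs.2.union ht.2⟩,
      fun s hs t ht ↦ ⟨hs.1.inter ht.1, hs.2.inter_isOpen ht.2 ht.1⟩⟩
  obtain ⟨t, ht⟩ := (BooleanSubalgebra.mem_closure_iff_sup_sdiff hsub
    ⟨isOpen_empty, .empty⟩ ⟨isOpen_univ, .univ⟩).mp hs
  refine ⟨t.image fun x => (x.1.1, x.2.1), ?_, ?_⟩
  · intro p hp
    obtain ⟨x, _, rfl⟩ := Finset.mem_image.mp hp
    exact ⟨x.1.2, x.2.2⟩
  · rw [ht, Finset.sup_eq_iSup]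
    ext y
    simp only [iSup_eq_iUnion, mem_iUnion, Finset.mem_image, exists_prop]
    constructor
    · rintro ⟨x, hx, hy⟩
      exact ⟨_, ⟨x, hx, rfl⟩, hy⟩
    · rintro ⟨_, ⟨x, hx, rfl⟩, hy⟩
      exact ⟨x, hx, hy⟩

/-- A constructible set is a finite union of locally closed sets. -/
theorem isConstructible_exists_finset_isLocallyClosed {s : Set X} (hs : IsConstructible s) :
    ∃ t : Finset (Set X), (∀ p ∈ t, IsLocallyClosed p ∧ IsConstructible p) ∧ s = ⋃ p ∈ t, p := by
  classical
  obtain ⟨t, ht, rfl⟩ := isConstructible_exists_finset_sdiff hs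
  refine ⟨t.image fun p => p.1 \ p.2, ?_, ?_⟩
  · intro p hp
    obtain ⟨x, hx, rfl⟩ := Finset.mem_image.mp hp
    refine ⟨⟨x.1, x.2ᶜ, (ht x hx).1.1, (ht x hx).2.1.isClosed_compl, rfl⟩, ?_⟩
    exact ((ht x hx).1.2.isConstructible (ht x hx).1.1).sdiff
      ((ht x hx).2.2.isConstructible (ht x hx).2.1)
  · ext y
    simp only [mem_iUnion, Finset.mem_image, exists_prop]
    constructor
    · rintro ⟨x, hx, hy⟩
      exact ⟨_, ⟨x, hx, rfl⟩, hy⟩
    · rintro ⟨_, ⟨x, hx, rfl⟩, hy⟩
      exact ⟨x, hx, hy⟩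

/-- In a Noetherian space, a point in the closure of `T` lies in an irreducible closed set `Z`
in which `Z ∩ T` is dense. -/
theorem exists_irreducible_closed_dense_inter [NoetherianSpace X] (T : Set X) {x : X}
    (hxT : x ∈ closure T) :
    ∃ Z : Set X, IsClosed Z ∧ IsIrreducible Z ∧ x ∈ Z ∧ closure (Z ∩ T) = Z := by
  let P : Set (TopologicalSpace.Closeds X) := {Z | x ∈ closure ((Z : Set X) ∩ T)}
  have hPne : P.Nonempty := ⟨⊤, by simpa [P] using hxT⟩
  obtain ⟨Z, hZP, hZmin⟩ := wellFounded_lt.has_min P hPne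
  have hZx : x ∈ closure ((Z : Set X) ∩ T) := hZP
  have hZdense : closure ((Z : Set X) ∩ T) = (Z : Set X) := by
    apply Set.Subset.antisymm
    · exact closure_minimal Set.inter_subset_left Z.isClosed
    · by_contra hcon
      let Z' : TopologicalSpace.Closeds X := ⟨closure ((Z : Set X) ∩ T), isClosed_closure⟩
      have hle : Z' ≤ Z := closure_minimal Set.inter_subset_left Z.isClosed
      have hlt : Z' < Z := lt_of_le_of_ne hle (by
        intro h
        apply hcon
        have h2 : (Z' : Set X) = (Z : Set X) := congrArg _ h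
        exact h2.symm.subset)
      apply hZmin Z' _ hlt
      show x ∈ closure ((Z' : Set X) ∩ T)
      refine closure_mono ?_ hZx
      intro z hz
      exact ⟨subset_closure hz, hz.2⟩
  have hZne : ((Z : Set X) ∩ T).Nonempty := by
    by_contra h
    rw [Set.not_nonempty_iff_eq_empty] at h
    rw [h, closure_empty] at hZx
    exact hZx
  have hZirr : IsIrreducible (Z : Set X) := by
    refine ⟨hZne.mono Set.inter_subset_left, ?_⟩
    rw [isPreirreducible_iff_isClosed_union_isClosed]
    intro z₁ z₂ hz₁ hz₂ hsub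
    have hcov : (Z : Set X) ∩ T = ((Z : Set X) ∩ z₁ ∩ T) ∪ ((Z : Set X) ∩ z₂ ∩ T) := by
      ext w
      constructor
      · rintro ⟨hw1, hw2⟩
        rcases hsub hw1 with h | h
        · exact Or.inl ⟨⟨hw1, h⟩, hw2⟩
        · exact Or.inr ⟨⟨hw1, h⟩, hw2⟩
      · rintro (⟨⟨hw1, _⟩, hw2⟩ | ⟨⟨hw1, _⟩, hw2⟩) <;> exact ⟨hw1, hw2⟩
    rw [hcov, closure_union] at hZx
    have aux : ∀ z : Set X, IsClosed z → x ∈ closure ((Z : Set X) ∩ z ∩ T) → (Z : Set X) ⊆ z := by
      intro z hz hxz
      let Z' : TopologicalSpace.Closeds X := ⟨(Z : Set X) ∩ z, Z.isClosed.inter hz⟩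
      have hle : Z' ≤ Z := Set.inter_subset_left
      by_contra hcon
      have hlt : Z' < Z := lt_of_le_of_ne hle (by
        intro h
        apply hcon
        have h2 : (Z' : Set X) = (Z : Set X) := congrArg _ h
        rw [← h2]
        exact Set.inter_subset_right)
      exact hZmin Z' hxz hlt
    rcases hZx with h | h
    · exact Or.inl (aux z₁ hz₁ h)
    · exact Or.inr (aux z₂ hz₂ h)
  exact ⟨Z, Z.isClosed, hZirr, closure_minimal Set.inter_subset_left Z.isClosed hZx, hZdense⟩

/-- In a Noetherian sober space, a constructible set stable under specialization is closed. -/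
theorem isClosed_of_isConstructible_of_stableUnderSpecialization [NoetherianSpace X] [QuasiSober X]
    {E : Set X} (hE : IsConstructible E) (hs : StableUnderSpecialization E) : IsClosed E := by
  classical
  obtain ⟨t, ht, hEt⟩ := isConstructible_exists_finset_isLocallyClosed hE
  rw [← closure_subset_iff_isClosed]
  intro x hx
  have hcl : closure E = ⋃ p ∈ t, closure p := by
    rw [hEt]
    exact t.finite_toSet.closure_biUnion _
  rw [hcl] at hx
  simp only [mem_iUnion, exists_prop] at hx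
  obtain ⟨L, hLt, hxL⟩ := hx
  obtain ⟨Z, hZc, hZi, hxZ, hZd⟩ := exists_irreducible_closed_dense_inter L hxL
  obtain ⟨U, C, hU, hC, rfl⟩ := (ht L hLt).1
  have hgen := hZi.isGenericPoint_genericPoint hZc
  set ξ := hZi.genericPoint
  have hZC : Z ⊆ C := by
    rw [← hZd]
    exact closure_minimal (fun y hy => hy.2.2) hC
  have hne : (Z ∩ (U ∩ C)).Nonempty := by
    by_contra h
    rw [Set.not_nonempty_iff_eq_empty] at h
    rw [h, closure_empty] at hZd
    rw [← hZd] at hxZ
    exact hxZ
  have hξU : ξ ∈ U := by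
    rw [hgen.mem_open_set_iff hU]
    obtain ⟨y, hy1, hy2, _⟩ := hne
    exact ⟨y, hy1, hy2⟩
  have hξE : ξ ∈ E := by
    rw [hEt]
    simp only [mem_iUnion, exists_prop]
    exact ⟨_, hLt, hξU, hZC hgen.mem⟩
  have : ξ ⤳ x := by
    rw [specializes_iff_mem_closure, hgen.def]
    exact hxZ
  exact hs this hξE

end Groth.Agent.Helper11
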