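/-
Constructible subsets of constructible subspaces (helper11).
Stacks 005H/09YC/09YD-type lemmas in a prespectral space.
-/
import Mathlib.Topology.Constructible
import Mathlib.Topology.Spectral.Prespectral
import Groth.Agent.Lib.Helper11.Constr

set_option autoImplicit false

namespace Groth.Agent.Helper11

open Set Topology

variable {X Y : Type*} [TopologicalSpace X] [TopologicalSpace Y]

/-- A constructible set is retrocompact. -/
theorem isRetrocompact_of_isConstructible {s : Set X} (hs : IsConstructible s) :
    IsRetrocompact s := by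
  obtain ⟨t, ht, rfl⟩ := isConstructible_exists_finset_sdiff hs
  refine IsRetrocompact.biUnion t.finite_toSet ?_
  intro p hp W hWc hWo
  have h1 : p.1 \ p.2 ∩ W = (p.1 ∩ W) ∩ p.2ᶜ := by
    ext x
    simp only [mem_inter_iff, mem_sdiff, mem_compl_iff]
    tauto
  rw [h1]
  exact ((ht p hp).1.2 hWc hWo).inter_right (ht p hp).2.1.isClosed_compl

/-- A subspace with retrocompact range in a prespectral space is prespectral. -/
theorem prespectralSpace_of_isInducing_of_isRetrocompact [PrespectralSpace X] {f : Y → X}
    (hf : IsInducing f) (hr : IsRetrocompact (range f)) : PrespectralSpace Y := by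
  refine PrespectralSpace.of_isInducing f hf ⟨hf.continuous, ?_⟩
  intro W hWo hWc
  rw [hf.isCompact_iff, image_preimage_eq_inter_range, inter_comm]
  exact hr hWc hWo

theorem prespectralSpace_of_isRetrocompact [PrespectralSpace X] {T : Set X}
    (hT : IsRetrocompact T) : PrespectralSpace T :=
  prespectralSpace_of_isInducing_of_isRetrocompact IsInducing.subtypeVal
    (by rwa [Subtype.range_coe_subtype])

/-- Stacks 09YC: preimage of a constructible set under an inducing map with retrocompact range
into a prespectral space is constructible. -/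
theorem isConstructible_preimage_of_isInducing_of_isRetrocompact [PrespectralSpace X] {f : Y → X}
    (hf : IsInducing f) (hr : IsRetrocompact (range f)) {E : Set X} (hE : IsConstructible E) :
    IsConstructible (f ⁻¹' E) := by
  refine hE.preimage hf.continuous ?_
  intro U hUo hUr V hVc hVo
  obtain ⟨V', hV'o, rfl⟩ := hf.isOpen_iff.mp hVo
  have hVc' : IsCompact (f '' (f ⁻¹' V')) := hVc.image hf.continuous
  obtain ⟨W, hWc, hWo, hVW, hWV'⟩ :=
    PrespectralSpace.exists_isCompact_and_isOpen_between hVc' hV'o (by
      rintro _ ⟨x, hx, rfl⟩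
      exact hx)
  have h1 : f ⁻¹' V' = f ⁻¹' W := by
    ext x
    constructor
    · intro hx
      exact hVW ⟨x, hx, rfl⟩
    · intro hx
      exact hWV' hx
  rw [h1, ← preimage_inter, hf.isCompact_iff, image_preimage_eq_inter_range, inter_comm]
  exact hr (hUr hWc hWo) (hUo.inter hWo)

theorem isConstructible_preimage_val_of_isRetrocompact [PrespectralSpace X] {T : Set X}
    (hT : IsRetrocompact T) {E : Set X} (hE : IsConstructible E) :
    IsConstructible ((Subtype.val : T → X) ⁻¹' E) :=
  isConstructible_preimage_of_isInducing_of_isRetrocompact IsInducing.subtypeVal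
    (by rwa [Subtype.range_coe_subtype]) hE

/-- Core case of Stacks 09YD: `E = U \ V` with `U`, `V` retrocompact open. -/
theorem isConstructible_image_val_sdiff {U V : Set X} (hUo : IsOpen U) (hUr : IsRetrocompact U)
    (hVo : IsOpen V) (hVr : IsRetrocompact V) {F : Set ↥(U \ V)} (hF : IsConstructible F) :
    IsConstructible ((Subtype.val : ↥(U \ V) → X) '' F) := by
  have hsub : U \ V ⊆ U := sdiff_subset
  have hrange : range (inclusion hsub) = ((Subtype.val : U → X) ⁻¹' V)ᶜ := by
    rw [range_inclusion]
    ext x
    simp only [mem_sdiff, mem_ofPred_eq, mem_compl_iff, mem_preimage]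
    exact ⟨fun h => h.2, fun h => ⟨x.2, h⟩⟩
  have hcl : IsClosedEmbedding (inclusion hsub) := by
    refine ⟨IsEmbedding.inclusion hsub, ?_⟩
    rw [hrange]
    exact (hVo.preimage continuous_subtype_val).isClosed_compl
  have h1 : IsConstructible (inclusion hsub '' F) := by
    refine hF.image_of_isClosedEmbedding hcl ?_
    rw [hrange, compl_compl]
    exact hVr.preimage_of_isOpenEmbedding hUo.isOpenEmbedding_subtypeVal
  have h2 : IsConstructible ((Subtype.val : U → X) '' (inclusion hsub '' F)) :=
    h1.image_of_isOpenEmbedding hUo.isOpenEmbedding_subtypeVal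
      (by rwa [Subtype.range_coe_subtype])
  rwa [← image_comp] at h2

/-- Stacks 09YD: a constructible subset of a constructible subspace of a prespectral space is
constructible in the whole space. -/
theorem isConstructible_image_val_of_isConstructible [PrespectralSpace X] {E : Set X}
    (hE : IsConstructible E) {F : Set E} (hF : IsConstructible F) :
    IsConstructible ((Subtype.val : E → X) '' F) := by
  have hEr : IsRetrocompact E := isRetrocompact_of_isConstructible hE
  have : PrespectralSpace E := prespectralSpace_of_isRetrocompact hEr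
  obtain ⟨t, ht, hEt⟩ := isConstructible_exists_finset_sdiff hE
  have hsub : ∀ p ∈ t, p.1 \ p.2 ⊆ E := by
    intro p hp
    rw [hEt]
    exact subset_biUnion_of_mem (u := fun p : Set X × Set X => p.1 \ p.2) hp
  have key : ∀ p (hp : p ∈ t),
      IsConstructible ((Subtype.val : ↥(p.1 \ p.2) → X) '' (inclusion (hsub p hp) ⁻¹' F)) := by
    intro p hp
    refine isConstructible_image_val_sdiff (ht p hp).1.1 (ht p hp).1.2 (ht p hp).2.1 (ht p hp).2.2 ?_
    refine isConstructible_preimage_of_isInducing_of_isRetrocompact
      (IsEmbedding.inclusion (hsub p hp)).isInducing ?_ hF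
    rw [range_inclusion]
    have hc : IsConstructible (p.1 \ p.2) :=
      ((ht p hp).1.2.isConstructible (ht p hp).1.1).sdiff
        ((ht p hp).2.2.isConstructible (ht p hp).2.1)
    exact isRetrocompact_of_isConstructible
      (isConstructible_preimage_val_of_isRetrocompact hEr hc)
  have hunion : (Subtype.val : E → X) '' F =
      ⋃ p : t, (Subtype.val : ↥(p.1.1 \ p.1.2) → X) '' (inclusion (hsub p.1 p.2) ⁻¹' F) := by
    ext x
    simp only [mem_image, mem_iUnion, mem_preimage]
    constructor
    · rintro ⟨y, hy, rfl⟩
      have hyE : y.1 ∈ ⋃ p ∈ t, p.1 \ p.2 := hEt ▸ y.2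
      simp only [mem_iUnion, exists_prop] at hyE
      obtain ⟨p, hp, hyp⟩ := hyE
      exact ⟨⟨p, hp⟩, ⟨y.1, hyp⟩, hy, rfl⟩
    · rintro ⟨p, y, hy, rfl⟩
      exact ⟨_, hy, rfl⟩
  rw [hunion]
  exact IsConstructible.iUnion fun p => key p.1 p.2

end Groth.Agent.Helper11
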