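import Mathlib
import Groth.Prelude.Def_CohDer

/-!
# Finite factorisation through coproducts (helper11)

Abstract part of "perfect ⇔ compact": maps into a coproduct which are finite sums of maps through
the summands, closure properties of the class of objects all of whose maps into coproducts are
of this form, and the comparison with bijectivity of `CohDer.homSumToHomCoprod`.
-/

set_option autoImplicit false

open CategoryTheory CategoryTheory.Limits

universe w w' v u v' u'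

namespace Groth.Agent.Helper11.Cpt

section Basic

variable {𝒟 : Type u} [Category.{v} 𝒟] [Preadditive 𝒟]

/-- `f` is a finite sum of maps through the summands of the cofan -/
def IsFin {ι : Type w} {X : ι → 𝒟} (c : Cofan X) {K : 𝒟} (f : K ⟶ c.pt) : Prop :=
  ∃ (s : Finset ι) (g : ∀ i, K ⟶ X i), f = ∑ i ∈ s, g i ≫ c.inj i

theorem isFin_zero {ι : Type w} {X : ι → 𝒟} (c : Cofan X) (K : 𝒟) : IsFin c (0 : K ⟶ c.pt) :=
  ⟨∅, fun _ => 0, Finset.sum_empty.symm⟩

theorem isFin_comp_inj {ι : Type w} {X : ι → 𝒟} (c : Cofan X) {K : 𝒟} (i : ι) (g : K ⟶ X i) :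
    IsFin c (g ≫ c.inj i) := by
  classical
  exact ⟨{i}, Function.update (fun j => (0 : K ⟶ X j)) i g, by
    rw [Finset.sum_singleton, Function.update_self]⟩

theorem IsFin.precomp {ι : Type w} {X : ι → 𝒟} {c : Cofan X} {K K' : 𝒟} {f : K ⟶ c.pt}
    (h : IsFin c f) (u : K' ⟶ K) : IsFin c (u ≫ f) := by
  obtain ⟨s, g, rfl⟩ := h
  refine ⟨s, fun i => u ≫ g i, ?_⟩
  rw [Preadditive.comp_sum]
  exact Finset.sum_congr rfl (fun i _ => (Category.assoc _ _ _).symm)

section Proj

variable {ι : Type w} [DecidableEq ι] {X : ι → 𝒟} {c : Cofan X} (hc : IsColimit c)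

/-- the projection of a colimit cofan onto a summand -/
noncomputable def cπ (i : ι) : c.pt ⟶ X i :=
  Cofan.IsColimit.desc hc (fun j => if h : j = i then eqToHom (congrArg X h) else 0)

theorem inj_cπ_self (i : ι) : c.inj i ≫ cπ hc i = 𝟙 (X i) := by
  unfold cπ
  rw [Cofan.IsColimit.fac, dif_pos rfl, eqToHom_refl]

theorem inj_cπ_ne (i j : ι) (h : j ≠ i) : c.inj j ≫ cπ hc i = 0 := by
  unfold cπ
  rw [Cofan.IsColimit.fac, dif_neg h]

/-- the idempotent projecting onto a finite sub-sum -/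
noncomputable def proj (s : Finset ι) : c.pt ⟶ c.pt := ∑ i ∈ s, cπ hc i ≫ c.inj i

theorem proj_def (s : Finset ι) : proj hc s = ∑ i ∈ s, cπ hc i ≫ c.inj i := rfl

theorem inj_proj_mem (s : Finset ι) (j : ι) (hj : j ∈ s) : c.inj j ≫ proj hc s = c.inj j := by
  rw [proj_def, Preadditive.comp_sum, Finset.sum_eq_single j]
  · rw [← Category.assoc, inj_cπ_self, Category.id_comp]
  · intro i _ hij
    rw [← Category.assoc, inj_cπ_ne hc i j (Ne.symm hij), zero_comp]
  · intro h
    exact absurd hj h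

theorem proj_proj_of_subset {s t : Finset ι} (h : s ⊆ t) :
    proj hc s ≫ proj hc t = proj hc s := by
  rw [proj_def hc s, Preadditive.sum_comp]
  refine Finset.sum_congr rfl (fun i hi => ?_)
  rw [Category.assoc, inj_proj_mem hc t i (h hi)]

theorem comp_proj_mono {K : 𝒟} {f : K ⟶ c.pt} {s t : Finset ι} (hs : f ≫ proj hc s = f)
    (h : s ⊆ t) : f ≫ proj hc t = f := by
  calc f ≫ proj hc t = (f ≫ proj hc s) ≫ proj hc t := by rw [hs]
    _ = f ≫ proj hc s := by rw [Category.assoc, proj_proj_of_subset hc h]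
    _ = f := hs

theorem isFin_iff {K : 𝒟} (f : K ⟶ c.pt) : IsFin c f ↔ ∃ s : Finset ι, f ≫ proj hc s = f := by
  constructor
  · rintro ⟨s, g, rfl⟩
    refine ⟨s, ?_⟩
    rw [Preadditive.sum_comp]
    refine Finset.sum_congr rfl (fun i hi => ?_)
    rw [Category.assoc, inj_proj_mem hc s i hi]
  · rintro ⟨s, hs⟩
    refine ⟨s, fun i => f ≫ cπ hc i, ?_⟩
    calc f = f ≫ proj hc s := hs.symm
      _ = ∑ i ∈ s, (f ≫ cπ hc i) ≫ c.inj i := by
        rw [proj_def, Preadditive.comp_sum]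
        exact Finset.sum_congr rfl (fun i _ => (Category.assoc _ _ _).symm)

end Proj

theorem IsFin.add {ι : Type w} {X : ι → 𝒟} {c : Cofan X} (hc : IsColimit c) {K : 𝒟}
    {f₁ f₂ : K ⟶ c.pt} (h₁ : IsFin c f₁) (h₂ : IsFin c f₂) : IsFin c (f₁ + f₂) := by
  classical
  rw [isFin_iff hc] at h₁ h₂ ⊢
  obtain ⟨s₁, hs₁⟩ := h₁
  obtain ⟨s₂, hs₂⟩ := h₂
  refine ⟨s₁ ∪ s₂, ?_⟩
  rw [Preadditive.add_comp, comp_proj_mono hc hs₁ Finset.subset_union_left,
    comp_proj_mono hc hs₂ Finset.subset_union_right]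

theorem isFin_sum {ι : Type w} {X : ι → 𝒟} {c : Cofan X} (hc : IsColimit c) {K : 𝒟}
    {α : Type w'} (s : Finset α) (F : α → (K ⟶ c.pt)) (h : ∀ a ∈ s, IsFin c (F a)) :
    IsFin c (∑ a ∈ s, F a) := by
  classical
  induction s using Finset.induction_on with
  | empty =>
    rw [Finset.sum_empty]
    exact isFin_zero c K
  | insert a s ha ih =>
    rw [Finset.sum_insert ha]
    exact IsFin.add hc (h a (Finset.mem_insert_self a s))
      (ih (fun b hb => h b (Finset.mem_insert_of_mem hb)))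

/-- every map from `K` to a coproduct of the family `X` is a finite sum of maps through the
summands -/
def FinFac (K : 𝒟) {ι : Type w} (X : ι → 𝒟) : Prop :=
  ∀ (c : Cofan X), IsColimit c → ∀ f : K ⟶ c.pt, IsFin c f

theorem finFac_of_cofan {K : 𝒟} {ι : Type w} {X : ι → 𝒟} (c₀ : Cofan X) (h₀ : IsColimit c₀)
    (h : ∀ f : K ⟶ c₀.pt, IsFin c₀ f) : FinFac K X := by
  intro c hc f
  obtain ⟨s, g, hg⟩ := h (f ≫ (hc.coconePointUniqueUpToIso h₀).hom)
  refine ⟨s, g, ?_⟩
  have he : ∀ i, c₀.inj i ≫ (hc.coconePointUniqueUpToIso h₀).inv = c.inj i := fun i =>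
    IsColimit.comp_coconePointUniqueUpToIso_inv hc h₀ ⟨i⟩
  calc f = (f ≫ (hc.coconePointUniqueUpToIso h₀).hom) ≫
        (hc.coconePointUniqueUpToIso h₀).inv := by
        rw [Category.assoc, Iso.hom_inv_id, Category.comp_id]
    _ = ∑ i ∈ s, g i ≫ c.inj i := by
        rw [hg, Preadditive.sum_comp]
        refine Finset.sum_congr rfl (fun i _ => ?_)
        rw [Category.assoc, he]

theorem FinFac.of_retract {K K' : 𝒟} {ι : Type w} {X : ι → 𝒟} (h : FinFac K X)
    (i : K' ⟶ K) (r : K ⟶ K') (hir : i ≫ r = 𝟙 K') : FinFac K' X := by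
  intro c hc f
  have h1 := (h c hc (r ≫ f)).precomp i
  rwa [← Category.assoc, hir, Category.id_comp] at h1

theorem FinFac.of_iso {K K' : 𝒟} {ι : Type w} {X : ι → 𝒟} (h : FinFac K X) (e : K ≅ K') :
    FinFac K' X :=
  h.of_retract e.inv e.hom e.inv_hom_id

theorem finFac_of_isZero {K : 𝒟} (hK : IsZero K) {ι : Type w} (X : ι → 𝒟) : FinFac K X := by
  intro c _ f
  rw [hK.eq_of_src f 0]
  exact isFin_zero c K

/-- reindexing along an equivalence of index types -/
theorem FinFac.of_equiv {ι : Type w} {ι' : Type w'} (e : ι' ≃ ι) {K : 𝒟} {X : ι → 𝒟}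
    (h : FinFac K (fun i' => X (e i'))) : FinFac K X := by
  intro c hc f
  have hc' : IsColimit (Cofan.mk c.pt fun i' : ι' => c.inj (e i')) :=
    (Cofan.isColimitEquivOfEquiv e c) hc
  obtain ⟨s, g, hg⟩ := h _ hc' f
  have hg' : f = ∑ i' ∈ s, g i' ≫ c.inj (e i') := hg
  rw [hg']
  exact isFin_sum hc s _ (fun a _ => isFin_comp_inj c (e a) (g a))

/-- replacing the family by an isomorphic one -/
theorem FinFac.of_family_iso {K : 𝒟} {ι : Type w} {X X' : ι → 𝒟} (e : ∀ i, X' i ≅ X i)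
    (h : FinFac K X') : FinFac K X := by
  intro c hc f
  let c' : Cofan X' := Cofan.mk c.pt (fun i => (e i).hom ≫ c.inj i)
  have hc' : IsColimit c' := Cofan.IsColimit.mk c'
    (fun t => Cofan.IsColimit.desc hc (fun i => (e i).inv ≫ t.inj i))
    (fun t j => by
      show ((e j).hom ≫ c.inj j) ≫ _ = _
      rw [Category.assoc, Cofan.IsColimit.fac, Iso.hom_inv_id_assoc])
    (fun t m hm => by
      apply Cofan.IsColimit.hom_ext hc
      intro j
      rw [Cofan.IsColimit.fac, ← hm j]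
      show _ = (e j).inv ≫ ((e j).hom ≫ c.inj j) ≫ m
      rw [Category.assoc, Iso.inv_hom_id_assoc])
  obtain ⟨s, g, hg⟩ := h c' hc' f
  have hg' : f = ∑ i ∈ s, g i ≫ (e i).hom ≫ c.inj i := hg
  refine ⟨s, fun i => g i ≫ (e i).hom, ?_⟩
  rw [hg']
  exact Finset.sum_congr rfl (fun i _ => (Category.assoc _ _ _).symm)

/-- transport along a fully faithful additive functor preserving the coproduct -/
theorem FinFac.of_functor {𝒟' : Type u'} [Category.{v'} 𝒟'] [Preadditive 𝒟'] (G : 𝒟 ⥤ 𝒟')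
    [G.Additive] [G.Full] [G.Faithful] {K : 𝒟} {ι : Type w} {X : ι → 𝒟}
    [PreservesColimit (Discrete.functor X) G]
    (h : FinFac (G.obj K) (fun i => G.obj (X i))) : FinFac K X := by
  intro c hc f
  have hc' : IsColimit (Cofan.mk (G.obj c.pt) fun i => G.map (c.inj i)) :=
    (Cofan.isColimitMapCoconeEquiv G X c) (isColimitOfPreserves G hc)
  obtain ⟨s, g, hg⟩ := h _ hc' (G.map f)
  have hg' : G.map f = ∑ i ∈ s, g i ≫ G.map (c.inj i) := hg
  refine ⟨s, fun i => G.preimage (g i), ?_⟩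
  apply G.map_injective
  rw [hg', Functor.map_sum]
  refine Finset.sum_congr rfl (fun i _ => ?_)
  rw [G.map_comp, G.map_preimage]

end Basic

section Triangulated

variable {𝒟 : Type u} [Category.{v} 𝒟] [Preadditive 𝒟] [HasZeroObject 𝒟] [HasShift 𝒟 ℤ]
  [∀ n : ℤ, (shiftFunctor 𝒟 n).Additive] [Pretriangulated 𝒟]

open Pretriangulated

/-- the middle term of a distinguished triangle -/
theorem FinFac.of_triangle {ι : Type w} {X : ι → 𝒟} (T : Triangle 𝒟) (hT : T ∈ distTriang 𝒟)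
    (h₁ : FinFac T.obj₁ X) (h₃ : FinFac T.obj₃ X) : FinFac T.obj₂ X := by
  classical
  intro c hc f
  obtain ⟨s₁, hs₁⟩ := (isFin_iff hc _).mp (h₁ c hc (T.mor₁ ≫ f))
  have h0 : T.mor₁ ≫ (f - f ≫ proj hc s₁) = 0 := by
    rw [Preadditive.comp_sub, ← Category.assoc, hs₁, sub_self]
  obtain ⟨k, hk⟩ := Triangle.yoneda_exact₂ T hT _ h0
  obtain ⟨s₂, hs₂⟩ := (isFin_iff hc _).mp (h₃ c hc k)
  rw [isFin_iff hc]
  refine ⟨s₁ ∪ s₂, ?_⟩
  have hf : f = f ≫ proj hc s₁ + T.mor₂ ≫ k := by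
    rw [← hk]
    abel
  have hk2 : k ≫ proj hc (s₁ ∪ s₂) = k := comp_proj_mono hc hs₂ Finset.subset_union_right
  calc f ≫ proj hc (s₁ ∪ s₂)
      = (f ≫ proj hc s₁ + T.mor₂ ≫ k) ≫ proj hc (s₁ ∪ s₂) := by rw [← hf]
    _ = f ≫ proj hc s₁ + T.mor₂ ≫ k := by
        rw [Preadditive.add_comp, Category.assoc,
          proj_proj_of_subset hc Finset.subset_union_left, Category.assoc, hk2]
    _ = f := hf.symm

omit [HasZeroObject 𝒟] [Pretriangulated 𝒟] in
/-- shifts -/
theorem FinFac.shift {ι : Type w} {K : 𝒟} {X : ι → 𝒟} (n : ℤ)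
    (h : FinFac K (fun i => (X i)⟦-n⟧)) : FinFac (K⟦n⟧) X := by
  apply FinFac.of_functor (shiftFunctor 𝒟 (-n))
  exact h.of_iso ((shiftFunctorCompIsoId 𝒟 n (-n) (add_neg_cancel n)).app K).symm

end Triangulated

section Bij

variable {𝒟 : Type u} [Category.{v} 𝒟] [Preadditive 𝒟]

theorem homSum_spec (K : 𝒟) {ι : Type v} (X : ι → 𝒟) [HasCoproduct X] :
    ∃ inst : DecidableEq ι, ∀ d : DirectSum ι (fun i => K ⟶ X i),
      CohDer.homSumToHomCoprod K X d =
        @DirectSum.toAddMonoid _ _ _ inst _ _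
          (fun i => Preadditive.rightComp K (Sigma.ι X i)) d :=
  ⟨_, fun _ => rfl⟩

theorem bijective_of_finFac (K : 𝒟) {ι : Type v} (X : ι → 𝒟) [HasCoproduct X]
    (h : FinFac K X) : Function.Bijective (CohDer.homSumToHomCoprod K X) := by
  obtain ⟨inst, hS⟩ := homSum_spec K X
  have hc : IsColimit (Cofan.mk (∐ X) (Sigma.ι X)) := coproductIsCoproduct X
  have e1 : ∀ j, Sigma.ι X j ≫ cπ hc j = 𝟙 _ := fun j => inj_cπ_self hc j
  have e2 : ∀ i j, j ≠ i → Sigma.ι X j ≫ cπ hc i = 0 := fun i j hji => inj_cπ_ne hc i j hji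
  have key : ∀ (d : DirectSum ι (fun i => K ⟶ X i)) (i : ι),
      CohDer.homSumToHomCoprod K X d ≫ cπ hc i = d i := by
    intro d i
    induction d using DirectSum.induction_on with
    | zero =>
      rw [map_zero, zero_comp]
      rfl
    | of j x =>
      rw [hS, DirectSum.toAddMonoid_of]
      show (x ≫ Sigma.ι X j) ≫ cπ hc i = _
      by_cases hji : j = i
      · subst hji
        rw [Category.assoc, e1, Category.comp_id, DirectSum.of_eq_same]
      · rw [Category.assoc, e2 i j hji, comp_zero]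
        exact (DirectSum.of_eq_of_ne (β := fun i => K ⟶ X i) j i x (fun h => hji h.symm)).symm
    | add x y hx hy =>
      rw [map_add, Preadditive.add_comp, hx, hy, DirectSum.add_apply]
  constructor
  · intro d d' hdd
    apply DFinsupp.ext
    intro i
    rw [← key d i, ← key d' i, hdd]
  · intro f
    obtain ⟨s, g, hg⟩ := h _ hc f
    have hg' : f = ∑ i ∈ s, g i ≫ Sigma.ι X i := hg
    refine ⟨∑ i ∈ s, DirectSum.of (fun i => K ⟶ X i) i (g i), ?_⟩
    rw [map_sum, hg']
    refine Finset.sum_congr rfl (fun i _ => ?_)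
    rw [hS, DirectSum.toAddMonoid_of]
    rfl

theorem finFac_of_surjective (K : 𝒟) {ι : Type v} (X : ι → 𝒟) [HasCoproduct X]
    (h : Function.Surjective (CohDer.homSumToHomCoprod K X)) : FinFac K X := by
  obtain ⟨inst, hS⟩ := homSum_spec K X
  have hc : IsColimit (Cofan.mk (∐ X) (Sigma.ι X)) := coproductIsCoproduct X
  apply finFac_of_cofan _ hc
  intro f
  obtain ⟨d, hd⟩ := h f
  have hd' : f = CohDer.homSumToHomCoprod K X d := hd.symm
  rw [hd']
  clear hd hd'
  induction d using DirectSum.induction_on with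
  | zero =>
    rw [map_zero]
    exact isFin_zero _ K
  | of j x =>
    rw [hS, DirectSum.toAddMonoid_of]
    exact isFin_comp_inj (Cofan.mk (∐ X) (Sigma.ι X)) j x
  | add x y hx hy =>
    rw [map_add]
    exact IsFin.add hc hx hy

end Bij

end Groth.Agent.Helper11.Cpt
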