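import Groth.Agent.Lib.Helper11.DCStupid
import Mathlib.Algebra.Category.ModuleCat.Biproducts
import Mathlib.Algebra.Module.Projective
import Mathlib.RingTheory.Finiteness.Cardinality

/-!
A class of objects of `D(R)` containing `R[0]`, stable under shifts, extensions and direct
summands, contains all bounded complexes of finite projective modules.
-/

open CategoryTheory Category Limits Pretriangulated DerivedCategory ZeroObject

attribute [local instance] HasDerivedCategory.standard

universe u

namespace Groth.Agent.Helper11.DC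

variable {R : Type u} [CommRing R]

/-- A split decomposition in `ModuleCat R` gives a biproduct decomposition in `D(R)`. -/
theorem single_split_iso {A B X : ModuleCat.{u} R} (i : A ⟶ X) (p : X ⟶ A) (j : B ⟶ X)
    (q : X ⟶ B) (h1 : i ≫ p = 𝟙 A) (h2 : j ≫ q = 𝟙 B) (h3 : i ≫ q = 0) (h4 : j ≫ p = 0)
    (h5 : p ≫ i + q ≫ j = 𝟙 X) :
    Nonempty ((singleFunctor (ModuleCat.{u} R) 0).obj A ⊞ (singleFunctor (ModuleCat.{u} R) 0).obj B ≅
      (singleFunctor (ModuleCat.{u} R) 0).obj X) := by
  refine ⟨⟨biprod.desc ((singleFunctor (ModuleCat.{u} R) 0).map i)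
    ((singleFunctor (ModuleCat.{u} R) 0).map j),
    biprod.lift ((singleFunctor (ModuleCat.{u} R) 0).map p)
    ((singleFunctor (ModuleCat.{u} R) 0).map q), ?_, ?_⟩⟩
  · ext
    · simp [← Functor.map_comp, h1]
    · simp [← Functor.map_comp, h3]
    · simp [← Functor.map_comp, h4]
    · simp [← Functor.map_comp, h2]
  · rw [biprod.lift_desc, ← Functor.map_comp, ← Functor.map_comp, ← Functor.map_add, h5,
      CategoryTheory.Functor.map_id]

/-- Auxiliary linear maps on `Fin (n+1) → R`. -/
def consL (n : ℕ) : (Fin n → R) →ₗ[R] (Fin (n + 1) → R) where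
  toFun y := Fin.cons 0 y
  map_add' y z := by
    funext k
    refine Fin.cases ?_ (fun k => ?_) k <;> simp
  map_smul' r y := by
    funext k
    refine Fin.cases ?_ (fun k => ?_) k <;> simp

def tailL (n : ℕ) : (Fin (n + 1) → R) →ₗ[R] (Fin n → R) where
  toFun x := Fin.tail x
  map_add' _ _ := rfl
  map_smul' _ _ := rfl

def inlL (n : ℕ) : R →ₗ[R] (Fin (n + 1) → R) where
  toFun r := Fin.cons r 0
  map_add' y z := by
    funext k
    refine Fin.cases ?_ (fun k => ?_) k <;> simp
  map_smul' r y := by
    funext k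
    refine Fin.cases ?_ (fun k => ?_) k <;> simp

def headL (n : ℕ) : (Fin (n + 1) → R) →ₗ[R] R where
  toFun x := x 0
  map_add' _ _ := rfl
  map_smul' _ _ := rfl

@[simp] theorem consL_apply (n : ℕ) (y : Fin n → R) : consL n y = Fin.cons 0 y := rfl
@[simp] theorem tailL_apply (n : ℕ) (x : Fin (n + 1) → R) : tailL n x = Fin.tail x := rfl
@[simp] theorem inlL_apply (n : ℕ) (r : R) : inlL n r = Fin.cons r 0 := rfl
@[simp] theorem headL_apply (n : ℕ) (x : Fin (n + 1) → R) : headL n x = x 0 := rfl

section

variable (P : ObjectProperty (Dual.D R)) [P.IsClosedUnderIsomorphisms]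
  (hR : P (Dual.inD R R))
  (hshift : ∀ (K : Dual.D R) (n : ℤ), P K → P ((shiftFunctor (Dual.D R) n).obj K))
  (hext : ∀ T : Triangle (Dual.D R), T ∈ distTriang (Dual.D R) → P T.obj₁ → P T.obj₃ → P T.obj₂)
  (hsum : ∀ (X Y : Dual.D R) [HasBinaryBiproduct X Y], P (X ⊞ Y) → P X)

include hR hsum in
theorem gen_zero (Z : Dual.D R) (hZ : IsZero Z) : P Z :=
  hsum Z (Dual.inD R R) (P.prop_of_iso (isoZeroBiprod hZ) hR)

include hR hshift hext hsum in
theorem gen_thickLike : ThickLike (fun K => P K) where
  iso e h := P.prop_of_iso e h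
  shift K n h := hshift K n h
  ext T hT h₁ h₃ := hext T hT h₁ h₃
  zero Z hZ := gen_zero P hR hsum Z hZ

omit [P.IsClosedUnderIsomorphisms] in
include hext in
theorem gen_biprod (X Y : Dual.D R) (hX : P X) (hY : P Y) : P (X ⊞ Y) :=
  hext _ (binaryBiproductTriangle_distinguished X Y) hX hY

include hR hext hsum in
theorem gen_free (n : ℕ) : P ((singleFunctor (ModuleCat.{u} R) 0).obj
    (ModuleCat.of R (Fin n → R))) := by
  induction n with
  | zero =>
    refine gen_zero P hR hsum _ ((singleFunctor (ModuleCat.{u} R) 0).map_isZero ?_)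
    exact ModuleCat.isZero_of_subsingleton _
  | succ n ih =>
    obtain ⟨e⟩ := single_split_iso (ModuleCat.ofHom (inlL (R := R) n))
      (ModuleCat.ofHom (headL (R := R) n)) (ModuleCat.ofHom (consL (R := R) n))
      (ModuleCat.ofHom (tailL (R := R) n))
      (ModuleCat.hom_ext (LinearMap.ext fun x => by simp))
      (ModuleCat.hom_ext (LinearMap.ext fun x => by
        funext k
        simp [Fin.tail]))
      (ModuleCat.hom_ext (LinearMap.ext fun x => by
        funext k
        simp [Fin.tail]
        rfl))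
      (ModuleCat.hom_ext (LinearMap.ext fun x => by simp))
      (ModuleCat.hom_ext (LinearMap.ext fun x => by
        funext k
        refine Fin.cases ?_ (fun k => ?_) k <;> simp [Fin.tail]))
    exact P.prop_of_iso e (gen_biprod P hext _ _ hR ih)

include hsum in
theorem gen_retract (M X : ModuleCat.{u} R) (s : M ⟶ X) (f : X ⟶ M) (h : s ≫ f = 𝟙 M)
    (hX : P ((singleFunctor (ModuleCat.{u} R) 0).obj X)) :
    P ((singleFunctor (ModuleCat.{u} R) 0).obj M) := by
  have hsf : ∀ m : M, f.hom (s.hom m) = m := fun m => by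
    have := congr($(h).hom m)
    simpa using this
  let j : ModuleCat.of R (LinearMap.ker f.hom) ⟶ X := ModuleCat.ofHom (LinearMap.ker f.hom).subtype
  let q : X ⟶ ModuleCat.of R (LinearMap.ker f.hom) :=
    ModuleCat.ofHom (LinearMap.codRestrict (LinearMap.ker f.hom)
      (LinearMap.id - s.hom.comp f.hom) (fun x => by
        simp [hsf]))
  obtain ⟨e⟩ := single_split_iso s f j q h
    (by
      ext ⟨y, hy⟩
      have hy' : f.hom y = 0 := hy
      simp [j, q, hy'])
    (by
      ext m
      simp [q, hsf])
    (by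
      ext ⟨y, hy⟩
      exact hy)
    (by
      ext x
      simp [j, q])
  exact hsum _ _ (P.prop_of_iso e.symm hX)

include hR hext hsum in
theorem gen_finite_projective (M : ModuleCat.{u} R) [Module.Finite R M] [Module.Projective R M] :
    P ((singleFunctor (ModuleCat.{u} R) 0).obj M) := by
  obtain ⟨n, f, hf⟩ := Module.Finite.exists_fin' R M
  obtain ⟨s, hs⟩ := Module.projective_lifting_property f LinearMap.id hf
  refine gen_retract P hsum M (ModuleCat.of R (Fin n → R)) (ModuleCat.ofHom s) (ModuleCat.ofHom f)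
    ?_ (gen_free P hR hext hsum n)
  ext m
  exact congr($hs m)

include hR hshift hext hsum in
theorem gen_perfect (K : Dual.D R) (hK : DRing.IsPerfect R K) : P K := by
  obtain ⟨E, a, b, hab, hE, ⟨e⟩⟩ := hK
  refine P.prop_of_iso e ((gen_thickLike P hR hshift hext hsum).of_bounded E a b hab ?_)
  intro i
  have := (hE i).1
  have := (hE i).2
  exact gen_finite_projective P hR hext hsum (E.X i)

end

end Groth.Agent.Helper11.DC
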