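import Groth.Agent.Lib.Helper11.Cpt1
import Groth.Agent.Lib.Helper11.DCGen
import Groth.Agent.Lib.Helper11.DCCone2
import Groth.Agent.Lib.Helper10.DSigma

/-!
# Compact objects of `D(R)`: closure properties, `R[0]` is compact, perfect implies compact
(helper11)
-/

set_option autoImplicit false

open CategoryTheory CategoryTheory.Limits Pretriangulated

universe w u

attribute [local instance] HasDerivedCategory.standard

namespace Groth.Agent.Helper11.Cpt

open Groth.Agent.Helper10.DSigma Groth.Agent.Helper11.DC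

variable {R : Type u} [CommRing R]

/-- compactness of an object of `D(R)`, in the finite factorisation form -/
def Cpt (K : Dual.D R) : Prop :=
  ∀ (I : Type u) (E : I → Dual.D R), FinFac K (fun i : ULift.{u + 1} I => E i.down)

theorem cpt_of_retract {K K' : Dual.D R} (h : Cpt K) (i : K' ⟶ K) (r : K ⟶ K')
    (hir : i ≫ r = 𝟙 K') : Cpt K' :=
  fun I E => (h I E).of_retract i r hir

theorem cpt_of_iso {K K' : Dual.D R} (e : K ≅ K') (h : Cpt K) : Cpt K' :=
  fun I E => (h I E).of_iso e

theorem cpt_of_isZero {K : Dual.D R} (hK : IsZero K) : Cpt K :=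
  fun _ _ => finFac_of_isZero hK _

theorem cpt_triangle (T : Triangle (Dual.D R)) (hT : T ∈ distTriang (Dual.D R))
    (h₁ : Cpt T.obj₁) (h₃ : Cpt T.obj₃) : Cpt T.obj₂ :=
  fun I E => FinFac.of_triangle T hT (h₁ I E) (h₃ I E)

theorem cpt_shift (K : Dual.D R) (n : ℤ) (h : Cpt K) : Cpt (K⟦n⟧) :=
  fun I E => FinFac.shift n (h I (fun j => (E j)⟦-n⟧))

theorem cpt_triangle₁ (T : Triangle (Dual.D R)) (hT : T ∈ distTriang (Dual.D R))
    (h₂ : Cpt T.obj₂) (h₃ : Cpt T.obj₃) : Cpt T.obj₁ :=
  cpt_triangle T.invRotate (inv_rot_of_distTriang T hT) (cpt_shift _ (-1) h₃) h₂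

theorem cpt_triangle₃ (T : Triangle (Dual.D R)) (hT : T ∈ distTriang (Dual.D R))
    (h₁ : Cpt T.obj₁) (h₂ : Cpt T.obj₂) : Cpt T.obj₃ :=
  cpt_triangle T.rotate (rot_of_distTriang T hT) h₂ (cpt_shift _ 1 h₁)

section Chain

variable {J : Type w} [HasCoproductsOfShape J (ModuleCat.{u} R)] (Kx : J → DRing.Cx R)

/-- the coproduct cofan of complexes -/
noncomputable abbrev cofanCx : Cofan Kx := Cofan.mk (sigmaCx Kx) (sigmaι Kx)

/-- it is a colimit -/
noncomputable def isColimitCofanCx : IsColimit (cofanCx Kx) :=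
  Cofan.IsColimit.mk _ (fun t => sigmaDesc (fun j => t.inj j))
    (fun t j => sigmaι_desc _ j)
    (fun t m hm => sigma_hom_ext (fun j => by
      rw [sigmaι_desc]
      exact hm j))

/-- the finite projector in a given degree, as a linear map -/
noncomputable def projL [DecidableEq J] (n : ℤ) (t : Finset J) :
    (sigmaCx Kx).X n →ₗ[R] (sigmaCx Kx).X n :=
  ((proj (isColimitCofanCx Kx) t).f n).hom

theorem projL_ι [DecidableEq J] (n : ℤ) (t : Finset J) (j : J) (hj : j ∈ t) (m : (Kx j).X n) :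
    projL Kx n t (((sigmaι Kx j).f n).hom m) = ((sigmaι Kx j).f n).hom m := by
  have h1 : sigmaι Kx j ≫ proj (isColimitCofanCx Kx) t = sigmaι Kx j :=
    inj_proj_mem (isColimitCofanCx Kx) t j hj
  exact congrArg (fun φ : Kx j ⟶ sigmaCx Kx => (φ.f n).hom m) h1

/-- elements of a direct sum have finite support -/
theorem exists_proj_fix [DecidableEq J] (n : ℤ) (x : (sigmaCx Kx).X n) :
    ∃ s : Finset J, ∀ t, s ⊆ t → projL Kx n t x = x := by
  let T : Submodule R ((sigmaCx Kx).X n) :=
    { carrier := {x | ∃ s : Finset J, ∀ t, s ⊆ t → projL Kx n t x = x}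
      add_mem' := by
        rintro x y ⟨s₁, h₁⟩ ⟨s₂, h₂⟩
        refine ⟨s₁ ∪ s₂, fun t ht => ?_⟩
        rw [map_add, h₁ t (Finset.union_subset_left ht), h₂ t (Finset.union_subset_right ht)]
      zero_mem' := ⟨∅, fun t _ => map_zero _⟩
      smul_mem' := by
        rintro r x ⟨s, h⟩
        exact ⟨s, fun t ht => by rw [map_smul, h t ht]⟩ }
  have hgen : ∀ (j : J) (m : (Kx j).X n), ((sigmaι Kx j).f n).hom m ∈ T := by
    intro j m
    exact ⟨{j}, fun t ht => projL_ι Kx n t j (ht (Finset.mem_singleton_self j)) m⟩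
  have hq : (ModuleCat.ofHom T.mkQ :
      (sigmaCx Kx).X n ⟶ ModuleCat.of R ((sigmaCx Kx).X n ⧸ T)) = 0 := by
    let a' : ∐ (fun j => (Kx j).X n) ⟶ ModuleCat.of R ((sigmaCx Kx).X n ⧸ T) :=
      ModuleCat.ofHom T.mkQ
    let b' : ∐ (fun j => (Kx j).X n) ⟶ ModuleCat.of R ((sigmaCx Kx).X n ⧸ T) := 0
    change a' = b'
    apply Limits.Sigma.hom_ext
    intro j
    apply ModuleCat.hom_ext
    apply LinearMap.ext
    intro m
    show T.mkQ (((sigmaι Kx j).f n).hom m) = 0
    exact (Submodule.Quotient.mk_eq_zero T).mpr (hgen j m)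
  have hx : T.mkQ x = 0 := congrArg (fun φ => φ.hom x) hq
  exact (Submodule.Quotient.mk_eq_zero T).mp hx

/-- the complex `R[0]` -/
noncomputable abbrev S0 (R : Type u) [CommRing R] : DRing.Cx R :=
  (HomologicalComplex.single (ModuleCat.{u} R) (ComplexShape.up ℤ) 0).obj (ModuleCat.of R R)

/-- chain maps from `R[0]` into a direct sum of complexes are finite sums -/
theorem isFin_single_cx (φ : S0 R ⟶ sigmaCx Kx) :
    ∃ (s : Finset J) (g : ∀ i, S0 R ⟶ Kx i), φ = ∑ i ∈ s, g i ≫ sigmaι Kx i := by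
  classical
  have h : IsFin (cofanCx Kx) φ := by
    refine (isFin_iff (isColimitCofanCx Kx) φ).mpr ?_
    obtain ⟨s, hs⟩ := exists_proj_fix Kx 0 ((φ.f 0).hom
      ((HomologicalComplex.singleObjXSelf (ComplexShape.up ℤ) 0
        (ModuleCat.of R R)).inv.hom (1 : R)))
    refine ⟨s, ?_⟩
    apply HomologicalComplex.from_single_hom_ext
    rw [← cancel_epi (HomologicalComplex.singleObjXSelf (ComplexShape.up ℤ) 0
      (ModuleCat.of R R)).inv]
    apply ModuleCat.hom_ext
    apply LinearMap.ext_ring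
    exact hs s (Finset.Subset.refl s)
  exact h

end Chain

theorem isKProjective_S0 : (S0 R).IsKProjective := by
  apply isKProjective_of_vanishesAbove (S0 R) 0
  · intro i hi
    exact HomologicalComplex.isZero_single_obj_X _ _ _ _ (by omega)
  · intro i
    by_cases hi : i = 0
    · subst hi
      exact Module.Projective.of_equiv
        (HomologicalComplex.singleObjXSelf (ComplexShape.up ℤ) 0
          (ModuleCat.of R R)).symm.toLinearEquiv
    · haveI : Subsingleton ((S0 R).X i) := ModuleCat.subsingleton_of_isZero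
        (HomologicalComplex.isZero_single_obj_X _ _ _ _ hi)
      infer_instance

section Base

variable {J : Type w} [HasCoproductsOfShape J (ModuleCat.{u} R)]
  [HasExactColimitsOfShape (Discrete J) (ModuleCat.{u} R)] (Kx : J → DRing.Cx R)

omit [HasExactColimitsOfShape (Discrete J) (ModuleCat.{u} R)] in
theorem finFac_inD_Q_aux (f : Dual.inD R R ⟶ DerivedCategory.Q.obj (sigmaCx Kx)) :
    ∃ (s : Finset J) (g : ∀ i, Dual.inD R R ⟶ DerivedCategory.Q.obj (Kx i)),
      f = ∑ i ∈ s, g i ≫ DerivedCategory.Q.map (sigmaι Kx i) := by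
  let a : Dual.inD R R ≅ DerivedCategory.Q.obj (S0 R) :=
    (DerivedCategory.singleFunctorIsoCompQ (ModuleCat.{u} R) 0).app (ModuleCat.of R R)
  haveI : (S0 R).IsKProjective := isKProjective_S0
  obtain ⟨φ, hφ⟩ := exists_lift_of_isKProjective (S0 R) (sigmaCx Kx) (a.inv ≫ f)
  obtain ⟨s, g, hg⟩ := isFin_single_cx Kx φ
  refine ⟨s, fun i => a.hom ≫ DerivedCategory.Q.map (g i), ?_⟩
  have hf : f = a.hom ≫ DerivedCategory.Q.map φ := by
    rw [hφ, Iso.hom_inv_id_assoc]
  rw [hf, hg, Functor.map_sum, Preadditive.comp_sum]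
  refine Finset.sum_congr rfl (fun i _ => ?_)
  rw [Functor.map_comp, Category.assoc]

/-- maps from `R[0]` into the image of a direct sum of complexes -/
theorem finFac_inD_Q : FinFac (Dual.inD R R) (fun j => DerivedCategory.Q.obj (Kx j)) :=
  finFac_of_cofan (cofanQ Kx) (isColimitCofanQ Kx) (fun f => finFac_inD_Q_aux Kx f)

end Base

instance hasExactULift (I : Type u) :
    HasExactColimitsOfShape (Discrete (ULift.{u + 1} I)) (ModuleCat.{u} R) :=
  HasExactColimitsOfShape.of_domain_equivalence _ (Discrete.equivalence Equiv.ulift.symm)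

theorem hasCoproduct_D (I : Type u) (X : ULift.{u + 1} I → Dual.D R) : HasCoproduct X := by
  haveI := hasCoproductsOfShape_derivedCategory (A := ModuleCat.{u} R) (J := ULift.{u + 1} I)
  infer_instance

/-- `R[0]` is compact -/
theorem cpt_R : Cpt (Dual.inD R R) := by
  intro I E
  exact (finFac_inD_Q (fun i : ULift.{u + 1} I =>
    DerivedCategory.Q.objPreimage (E i.down))).of_family_iso
      (fun i => DerivedCategory.Q.objObjPreimageIso (E i.down))

/-- perfect objects are compact -/
theorem cpt_of_perfect (K : Dual.D R) (hK : DRing.IsPerfect R K) : Cpt K := by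
  let P : ObjectProperty (Dual.D R) := fun K => Cpt K
  haveI : P.IsClosedUnderIsomorphisms := ⟨fun e h => cpt_of_iso e h⟩
  exact gen_perfect P cpt_R (fun K n h => cpt_shift K n h)
    (fun T hT h₁ h₃ => cpt_triangle T hT h₁ h₃)
    (fun X Y _ h => cpt_of_retract h biprod.inl biprod.fst biprod.inl_fst) K hK

/-- comparison with the bijectivity formulation -/
theorem cpt_iff (K : Dual.D R) : Cpt K ↔
    ∀ (I : Type u) (E : I → Dual.D R) [HasCoproduct fun i : ULift.{u + 1} I => E i.down],
      Function.Bijective (CohDer.homSumToHomCoprod K (fun i : ULift.{u + 1} I => E i.down)) := by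
  constructor
  · intro h I E _
    exact bijective_of_finFac K _ (h I E)
  · intro h I E
    haveI := hasCoproduct_D I (fun i => E i.down)
    exact finFac_of_surjective K _ (h I E).2

/-- the sequential form used for telescopes -/
theorem cpt_nat (K : Dual.D R) (h : Cpt K) (E : ℕ → Dual.D R)
    [HasCoproduct fun i : ULift.{u + 1} ℕ => E i.down] :
    Function.Bijective (CohDer.homSumToHomCoprod K (fun i : ULift.{u + 1} ℕ => E i.down)) := by
  apply bijective_of_finFac
  let e : ULift.{u + 1} (ULift.{u} ℕ) ≃ ULift.{u + 1} ℕ :=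
    Equiv.ulift.trans (Equiv.ulift.trans Equiv.ulift.symm)
  exact FinFac.of_equiv e (h (ULift.{u} ℕ) (fun j => E j.down))

end Groth.Agent.Helper11.Cpt
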