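import Groth.Agent.Lib.Helper11.SubCx
import Groth.Prelude.Def_DRing2
import Mathlib.Algebra.Homology.DerivedCategory.TStructure

/-!
# Exhausting sequences of subcomplexes and their colimits (helper11)

A cocone over a sequence with eventually invertible legs is a colimit; the sequence of
subcomplexes attached to an increasing exhausting family of submodules; the canonical and the
stupid truncations as such sequences.
-/

set_option autoImplicit false

open CategoryTheory CategoryTheory.Limits

universe u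

attribute [local instance] HasDerivedCategory.standard

namespace Groth.Agent.Helper11.Cpt

open Groth.Agent.Helper11.SubCx

section General

/-- a cocone over a sequence whose legs are eventually isomorphisms is a colimit -/
noncomputable def isColimitOfEventuallyIso {C : Type*} [Category C] (L : ℕ ⥤ C) (c : Cocone L)
    (N : ℕ) (h : ∀ n, N ≤ n → IsIso (c.ι.app n)) : IsColimit c :=
  haveI := h N le_rfl
  { desc := fun s => inv (c.ι.app N) ≫ s.ι.app N
    fac := fun s n => by
      haveI := h N le_rfl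
      by_cases hn : n ≤ N
      · have h1 : c.ι.app n = L.map (homOfLE hn) ≫ c.ι.app N := (c.w (homOfLE hn)).symm
        rw [h1, Category.assoc, IsIso.hom_inv_id_assoc]
        exact s.w (homOfLE hn)
      · have hn' : N ≤ n := by omega
        haveI := h n hn'
        have h1 : c.ι.app N = L.map (homOfLE hn') ≫ c.ι.app n := (c.w (homOfLE hn')).symm
        have h2 : s.ι.app N = L.map (homOfLE hn') ≫ s.ι.app n := (s.w (homOfLE hn')).symm
        have h3 : inv (c.ι.app N) ≫ L.map (homOfLE hn') = inv (c.ι.app n) := by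
          rw [IsIso.inv_comp_eq, IsIso.eq_comp_inv]
          exact h1.symm
        rw [h2, ← Category.assoc (inv (c.ι.app N)), h3, IsIso.hom_inv_id_assoc]
    uniq := fun s m hm => by
      haveI := h N le_rfl
      rw [← hm N, IsIso.inv_hom_id_assoc] }

end General

variable {R : Type u} [CommRing R] (F : CochainComplex (ModuleCat.{u} R) ℤ)

section SubMap

variable (G G' : ∀ n : ℤ, Submodule R (F.X n))
  (hG : ∀ i j : ℤ, ∀ x ∈ G i, (F.d i j).hom x ∈ G j)
  (hG' : ∀ i j : ℤ, ∀ x ∈ G' i, (F.d i j).hom x ∈ G' j)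
  (hle : ∀ n, G n ≤ G' n)

/-- inclusion of subcomplexes -/
noncomputable def subMap : subCx F G hG ⟶ subCx F G' hG' where
  f n := ModuleCat.ofHom (Submodule.inclusion (hle n))
  comm' i j _ := by
    ext x
    rfl

theorem subMap_ι : subMap F G G' hG hG' hle ≫ subCxι F G' hG' = subCxι F G hG := by
  ext n x
  rfl

theorem isIso_subCxι_f (p : ℤ) (hp : G p = ⊤) : IsIso ((subCxι F G hG).f p) := by
  rw [ConcreteCategory.isIso_iff_bijective]
  constructor
  · exact subCxι_injective F G hG p
  · intro x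
    exact ⟨⟨x, by rw [hp]; trivial⟩, rfl⟩

theorem isZero_subCx_X (p : ℤ) (hp : G p = ⊥) : IsZero ((subCx F G hG).X p) := by
  haveI : Subsingleton ((subCx F G hG).X p) := by
    change Subsingleton (G p)
    rw [hp]
    infer_instance
  exact ModuleCat.isZero_of_subsingleton _

theorem isZero_subCx_X_of_isZero (p : ℤ) (hp : IsZero (F.X p)) :
    IsZero ((subCx F G hG).X p) := by
  haveI : Subsingleton (F.X p) := ModuleCat.subsingleton_of_isZero hp
  haveI : Subsingleton ((subCx F G hG).X p) := by
    change Subsingleton (G p)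
    infer_instance
  exact ModuleCat.isZero_of_subsingleton _

end SubMap

section Seq

variable (G : ℕ → ∀ n : ℤ, Submodule R (F.X n))
  (hG : ∀ k : ℕ, ∀ i j : ℤ, ∀ x ∈ G k i, (F.d i j).hom x ∈ G k j)
  (hmono : ∀ k l : ℕ, k ≤ l → ∀ n, G k n ≤ G l n)

/-- the sequence of subcomplexes -/
noncomputable def seqFunctor : ℕ ⥤ DRing.Cx R where
  obj k := subCx F (G k) (hG k)
  map {k l} φ := subMap F (G k) (G l) (hG k) (hG l) (hmono k l (leOfHom φ))
  map_id k := by
    ext n x
    rfl
  map_comp φ ψ := by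
    ext n x
    rfl

/-- the cocone of inclusions -/
noncomputable def seqCocone : Cocone (seqFunctor F G hG hmono) where
  pt := F
  ι :=
    { app := fun k => subCxι F (G k) (hG k)
      naturality := fun k l φ => by
        refine Eq.trans ?_ (Category.comp_id _).symm
        exact subMap_ι F (G k) (G l) (hG k) (hG l) (hmono k l (leOfHom φ)) }

/-- the cocone of inclusions is a colimit when the family is exhausting -/
noncomputable def seqIsColimit (hex : ∀ p : ℤ, ∃ N : ℕ, ∀ k, N ≤ k → G k p = ⊤) :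
    IsColimit (seqCocone F G hG hmono) :=
  HomologicalComplex.isColimitOfEval _ _ (fun p =>
    isColimitOfEventuallyIso _ _ (hex p).choose (fun k hk => by
      show IsIso ((subCxι F (G k) (hG k)).f p)
      exact isIso_subCxι_f F (G k) (hG k) p ((hex p).choose_spec k hk)))

end Seq

section Canonical

/-- the canonical truncation `τ_{≤ k}`, as a family of submodules -/
noncomputable def Gc (k : ℕ) (p : ℤ) : Submodule R (F.X p) :=
  if p < k then ⊤ else if p = k then LinearMap.ker (F.d p (p + 1)).hom else ⊥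

theorem Gc_of_lt (k : ℕ) (p : ℤ) (h : p < k) : Gc F k p = ⊤ := by
  rw [Gc, if_pos h]

theorem Gc_of_eq (k : ℕ) (p : ℤ) (h : p = k) :
    Gc F k p = LinearMap.ker (F.d p (p + 1)).hom := by
  rw [Gc, if_neg (by omega), if_pos h]

theorem Gc_of_gt (k : ℕ) (p : ℤ) (h : (k : ℤ) < p) : Gc F k p = ⊥ := by
  rw [Gc, if_neg (by omega), if_neg (by omega)]

theorem Gc_stable (k : ℕ) (i j : ℤ) (x : F.X i) (hx : x ∈ Gc F k i) :
    (F.d i j).hom x ∈ Gc F k j := by
  by_cases hij : i + 1 = j
  · subst hij
    rcases lt_trichotomy i (k : ℤ) with h | h | h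
    · by_cases h' : i + 1 < k
      · rw [Gc_of_lt F k _ h']
        trivial
      · rw [Gc_of_eq F k _ (by omega), LinearMap.mem_ker]
        exact congr($(F.d_comp_d i (i + 1) (i + 1 + 1)).hom x)
    · rw [Gc_of_eq F k i h, LinearMap.mem_ker] at hx
      rw [hx]
      exact Submodule.zero_mem _
    · rw [Gc_of_gt F k i h, Submodule.mem_bot] at hx
      rw [hx, map_zero]
      exact Submodule.zero_mem _
  · have h0 : (F.d i j).hom x = 0 := by
      rw [F.shape i j hij]
      rfl
    rw [h0]
    exact Submodule.zero_mem _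

theorem Gc_mono (k l : ℕ) (hkl : k ≤ l) (p : ℤ) : Gc F k p ≤ Gc F l p := by
  rcases lt_trichotomy p (k : ℤ) with h | h | h
  · rw [Gc_of_lt F l p (by omega)]
    exact le_top
  · rcases Nat.lt_or_ge k l with h' | h'
    · rw [Gc_of_lt F l p (by omega)]
      exact le_top
    · have hkl' : k = l := le_antisymm hkl h'
      subst hkl'
      exact le_rfl
  · rw [Gc_of_gt F k p h]
    exact bot_le

theorem Gc_exhaust (p : ℤ) : ∃ N : ℕ, ∀ k, N ≤ k → Gc F k p = ⊤ :=
  ⟨(p + 1).toNat, fun k hk => Gc_of_lt F k p (by omega)⟩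

/-- the canonical truncation `τ_{≤ k} F` -/
noncomputable abbrev tauLE (k : ℕ) : DRing.Cx R := subCx F (Gc F k) (Gc_stable F k)

theorem isLE_tauLE (k : ℕ) : (DerivedCategory.Q.obj (tauLE F k)).IsLE (k : ℤ) := by
  haveI : (tauLE F k).IsStrictlyLE (k : ℤ) := by
    rw [CochainComplex.isStrictlyLE_iff]
    intro i hi
    exact isZero_subCx_X F _ _ i (Gc_of_gt F k i hi)
  infer_instance

end Canonical

section Stupid

/-- the stupid truncation `σ_{≥ -k}`, as a family of submodules -/
noncomputable def Gs (k : ℕ) (p : ℤ) : Submodule R (F.X p) :=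
  if -(k : ℤ) ≤ p then ⊤ else ⊥

theorem Gs_of_le (k : ℕ) (p : ℤ) (h : -(k : ℤ) ≤ p) : Gs F k p = ⊤ := by
  rw [Gs, if_pos h]

theorem Gs_of_lt (k : ℕ) (p : ℤ) (h : p < -(k : ℤ)) : Gs F k p = ⊥ := by
  rw [Gs, if_neg (by omega)]

theorem Gs_stable (k : ℕ) (i j : ℤ) (x : F.X i) (hx : x ∈ Gs F k i) :
    (F.d i j).hom x ∈ Gs F k j := by
  by_cases hij : i + 1 = j
  · subst hij
    by_cases h : -(k : ℤ) ≤ i
    · rw [Gs_of_le F k _ (by omega)]
      trivial
    · rw [Gs_of_lt F k i (by omega), Submodule.mem_bot] at hx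
      rw [hx, map_zero]
      exact Submodule.zero_mem _
  · have h0 : (F.d i j).hom x = 0 := by
      rw [F.shape i j hij]
      rfl
    rw [h0]
    exact Submodule.zero_mem _

theorem Gs_mono (k l : ℕ) (hkl : k ≤ l) (p : ℤ) : Gs F k p ≤ Gs F l p := by
  by_cases h : -(k : ℤ) ≤ p
  · rw [Gs_of_le F l p (by omega)]
    exact le_top
  · rw [Gs_of_lt F k p (by omega)]
    exact bot_le

theorem Gs_exhaust (p : ℤ) : ∃ N : ℕ, ∀ k, N ≤ k → Gs F k p = ⊤ :=
  ⟨(-p).toNat, fun k hk => Gs_of_le F k p (by omega)⟩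

/-- the stupid truncation `σ_{≥ -k} F` -/
noncomputable abbrev sigGE (k : ℕ) : DRing.Cx R := subCx F (Gs F k) (Gs_stable F k)

theorem sigGE_projective (hF : ∀ i, Module.Projective R (F.X i)) (k : ℕ) (p : ℤ) :
    Module.Projective R ((sigGE F k).X p) := by
  by_cases h : -(k : ℤ) ≤ p
  · have h1 : Gs F k p = ⊤ := Gs_of_le F k p h
    let e : (Gs F k p) ≃ₗ[R] F.X p := (LinearEquiv.ofEq _ _ h1).trans Submodule.topEquiv
    haveI := hF p
    exact Module.Projective.of_equiv e.symm
  · haveI : Subsingleton ((sigGE F k).X p) := ModuleCat.subsingleton_of_isZero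
      (isZero_subCx_X F _ _ p (Gs_of_lt F k p (by omega)))
    infer_instance

theorem sigGE_vanishesOutside (b : ℤ) (hb : DRing.VanishesAbove F b) (k : ℕ) :
    DRing.VanishesOutside (sigGE F k) (-(k : ℤ)) b := by
  rintro i (hi | hi)
  · exact isZero_subCx_X F _ _ i (Gs_of_lt F k i hi)
  · exact isZero_subCx_X_of_isZero F _ _ i (hb i hi)

end Stupid

end Groth.Agent.Helper11.Cpt
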