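import Groth.Agent.Lib.Helper11.DCPerfHom
import Groth.Agent.Lib.Helper11.DCStupid

/-!
Perfect objects of `D(R)` form a class stable under isomorphisms, shifts, extensions.
-/

open CategoryTheory Category Limits Pretriangulated DerivedCategory ZeroObject

attribute [local instance] HasDerivedCategory.standard

universe u

namespace Groth.Agent.Helper11.DC

variable {R : Type u} [CommRing R]

theorem thickLike_isPerfect : ThickLike (DRing.IsPerfect R) where
  iso e h := isPerfect_of_iso e h
  shift K n h := perf_shift K n h
  ext T hT h₁ h₃ := (perf_two_of_three T hT).2.1 h₁ h₃
  zero K hK := isPerfect_of_isZero K hK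

end Groth.Agent.Helper11.DC
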