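import Groth.Agent.Lib.Lead.PD2
import Groth.Agent.Lib.Helper11.DCTwoOfThree
import Groth.Agent.Lib.Helper11.DCPerfHom
import Groth.Agent.Lib.Helper11.DCPerfThick
import Groth.Agent.Lib.Helper11.DCPc0

/-!
# Perfect complexes over regular rings
-/

set_option autoImplicit false
universe u

open CategoryTheory Limits DerivedCategory Pretriangulated

attribute [local instance] HasDerivedCategory.standard

namespace Groth.Agent.Helper11.DC

variable {R : Type u} [CommRing R]

theorem isPerfect_single_of_finite_projective (M : ModuleCat.{u} R) [Module.Finite R M]
    [Module.Projective R M] : DRing.IsPerfect R ((singleFunctor (ModuleCat.{u} R) 0).obj M) := by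
  refine ⟨(CochainComplex.singleFunctor (ModuleCat.{u} R) 0).obj M, 0, 0,
    single_vanishesOutside M, ?_, ⟨Iso.refl _⟩⟩
  intro i
  by_cases hi : i = 0
  · subst hi
    let e := (HomologicalComplex.singleObjXSelf (ComplexShape.up ℤ) 0 M).toLinearEquiv
    exact ⟨Module.Finite.equiv e.symm, Module.Projective.of_equiv e.symm⟩
  · have hz : IsZero (((CochainComplex.singleFunctor (ModuleCat.{u} R) 0).obj M).X i) :=
      HomologicalComplex.isZero_single_obj_X _ _ _ _ hi
    have : Subsingleton (((CochainComplex.singleFunctor (ModuleCat.{u} R) 0).obj M).X i) :=
      ModuleCat.subsingleton_of_isZero hz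
    exact ⟨inferInstance, inferInstance⟩

/-- Over a Noetherian ring, a finite module of finite projective dimension is perfect. -/
theorem isPerfect_of_hasProjectiveDimensionLT [IsNoetherianRing R] (n : ℕ) :
    ∀ (M : ModuleCat.{u} R), Module.Finite R M → HasProjectiveDimensionLT M (n + 1) →
      DRing.IsPerfect R ((singleFunctor (ModuleCat.{u} R) 0).obj M) := by
  induction n with
  | zero =>
    intro M hfin hM
    have : Projective M := projective_iff_hasProjectiveDimensionLT_one.mpr (by simpa using hM)
    have : Module.Projective R M := (IsProjective.iff_projective M).mpr inferInstance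
    exact isPerfect_single_of_finite_projective M
  | succ n ih =>
    intro M hfin hM
    obtain ⟨k, f, hf⟩ := Module.Finite.exists_fin' R M
    let F : ModuleCat.{u} R := ModuleCat.of R (Fin k → R)
    let π : F ⟶ M := ModuleCat.ofHom f
    have hπ : Epi π := (ModuleCat.epi_iff_surjective π).mpr hf
    let S := ShortComplex.kernelSequence π
    have hS : S.ShortExact := by
      refine ShortComplex.ShortExact.mk' (ShortComplex.kernelSequence_exact π) inferInstance ?_
      change Epi π
      infer_instance
    have hFproj : Projective F := inferInstance
    have hK : HasProjectiveDimensionLT S.X₁ (n + 1) := by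
      refine hS.hasProjectiveDimensionLT_X₁ (n + 1) ?_ hM
      change HasProjectiveDimensionLT F (n + 1)
      exact hasProjectiveDimensionLT_of_ge _ 1 (n + 1) (by omega)
    have hKfin : Module.Finite R S.X₁ := by
      have hmono : Mono S.f := hS.mono_f
      have hinj : Function.Injective S.f.hom := (ModuleCat.mono_iff_injective S.f).mp hmono
      haveI : IsNoetherian R S.X₂ := by
        change IsNoetherian R (Fin k → R)
        infer_instance
      exact Module.Finite.of_injective S.f.hom hinj
    have h1 := ih S.X₁ hKfin hK
    have h2 : DRing.IsPerfect R ((singleFunctor (ModuleCat.{u} R) 0).obj S.X₂) := by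
      change DRing.IsPerfect R ((singleFunctor (ModuleCat.{u} R) 0).obj F)
      exact isPerfect_single_of_finite_projective F
    exact perf_third hS.singleTriangle hS.singleTriangle_distinguished h1 h2

/-- cohomology of a complex with finite terms over a Noetherian ring is finite -/
theorem homology_finite_of_finite_term [IsNoetherianRing R] (E : DRing.Cx R) (i : ℤ)
    (h : Module.Finite R (E.X i)) :
    Module.Finite R ((homologyFunctor (ModuleCat.{u} R) i).obj (Q.obj E)) := by
  let e1 := (homologyFunctorFactors (ModuleCat.{u} R) i).app E
  let e2 := (E.sc i).moduleCatHomologyIso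
  have : IsNoetherian R (E.X i) := isNoetherian_of_isNoetherianRing_of_finite R (E.X i)
  have : IsNoetherian R (E.sc i).X₂ := this
  have hfin : Module.Finite R (E.sc i).moduleCatLeftHomologyData.H := by
    change Module.Finite R (LinearMap.ker (E.sc i).g.hom ⧸
      LinearMap.range (E.sc i).moduleCatToCycles)
    infer_instance
  exact Module.Finite.equiv (e1 ≪≫ e2).toLinearEquiv.symm

end Groth.Agent.Helper11.DC
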