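import Groth.Agent.Lib.Helper11.TorAmp8
import Groth.Prelude.Def_DDual2
import Mathlib.LinearAlgebra.TensorProduct.Tower
import Mathlib.RingTheory.Flat.Basic

/-!
# Tor amplitude and restriction of scalars along a ring map of finite tor dimension
-/

set_option autoImplicit false
universe u

open CategoryTheory Limits DerivedCategory Pretriangulated MonoidalCategory TensorProduct

attribute [local instance] HasDerivedCategory.standard

namespace Groth.Agent.Helper11.TA

open Groth.Agent.Helper11.DC Groth.Agent.Helper18.TorLib

section Algebra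

variable {k S : Type u} [CommRing k] [CommRing S] [Algebra k S]

theorem exact_lTensor_of_exact_baseChange (F : Type u) [AddCommGroup F] [Module k F] [Module S F]
    [IsScalarTower k S F] [Module.Flat S F] {X Y Z : Type u} [AddCommGroup X] [AddCommGroup Y]
    [AddCommGroup Z] [Module k X] [Module k Y] [Module k Z] (f : X →ₗ[k] Y) (g : Y →ₗ[k] Z)
    (h : Function.Exact (f.lTensor S) (g.lTensor S)) :
    Function.Exact (f.lTensor F) (g.lTensor F) := by
  have h' : Function.Exact (f.baseChange S) (g.baseChange S) := by
    rw [LinearMap.baseChange_eq_ltensor, LinearMap.baseChange_eq_ltensor]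
    exact h
  have h'' := Module.Flat.lTensor_exact F h'
  let eX := AlgebraTensorModule.cancelBaseChange k S S F X
  let eY := AlgebraTensorModule.cancelBaseChange k S S F Y
  let eZ := AlgebraTensorModule.cancelBaseChange k S S F Z
  have sqf : ∀ t, f.lTensor F (eX t) = eY ((f.baseChange S).lTensor F t) := by
    intro t
    induction t using TensorProduct.induction_on with
    | zero => simp
    | add x y hx hy => simp only [map_add, hx, hy]
    | tmul m t =>
      induction t using TensorProduct.induction_on with
      | zero => simp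
      | add x y hx hy => simp only [map_add, tmul_add, hx, hy]
      | tmul s x => simp [eX, eY]
  have sqg : ∀ t, g.lTensor F (eY t) = eZ ((g.baseChange S).lTensor F t) := by
    intro t
    induction t using TensorProduct.induction_on with
    | zero => simp
    | add x y hx hy => simp only [map_add, hx, hy]
    | tmul m t =>
      induction t using TensorProduct.induction_on with
      | zero => simp
      | add x y hx hy => simp only [map_add, tmul_add, hx, hy]
      | tmul s x => simp [eY, eZ]
  intro y
  constructor
  · intro hy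
    have h1 : g.lTensor F (eY (eY.symm y)) = 0 := by rw [LinearEquiv.apply_symm_apply]; exact hy
    rw [sqg] at h1
    have h2 : (g.baseChange S).lTensor F (eY.symm y) = 0 := by
      apply eZ.injective
      rw [h1, map_zero]
    obtain ⟨t, ht⟩ := (h'' _).mp h2
    refine ⟨eX t, ?_⟩
    rw [sqf, ht, LinearEquiv.apply_symm_apply]
  · rintro ⟨x, rfl⟩
    obtain ⟨t, rfl⟩ := eX.surjective x
    rw [sqf, sqg, h''.apply_apply_eq_zero, map_zero]

end Algebra

variable {A : Type u} [CommRing A]

theorem isZero_tor_succ_iff_exact (M N : ModuleCat.{u} A) (n : ℕ) :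
    IsZero (((Tor (ModuleCat.{u} A) (n + 1)).obj M).obj N) ↔
      Function.Exact (((projectiveResolution N).complex.d (n + 2) (n + 1)).hom.lTensor M)
        (((projectiveResolution N).complex.d (n + 1) n).hom.lTensor M) := by
  let P := projectiveResolution N
  rw [(torIso P M (n + 1)).isZero_iff, ← HomologicalComplex.exactAt_iff_isZero_homology,
    HomologicalComplex.exactAt_iff' (cx P M) (n + 2) (n + 1) n (by simp) (by simp),
    ShortComplex.ShortExact.moduleCat_exact_iff_function_exact]
  rfl

theorem isZero_tor_restrict_of_flat {B : Type u} [CommRing B] [Algebra A B] (d : ℕ)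
    (hB : ∀ (N : ModuleCat.{u} A) (p : ℕ), d < p →
      IsZero (((Tor (ModuleCat.{u} A) p).obj (ModuleCat.of A B)).obj N))
    (F : ModuleCat.{u} B) [Module.Flat B F] (N : ModuleCat.{u} A) (p : ℕ) (hp : d < p) :
    IsZero (((Tor (ModuleCat.{u} A) p).obj
      ((ModuleCat.restrictScalars (algebraMap A B)).obj F)).obj N) := by
  obtain ⟨n, rfl⟩ : ∃ n, p = n + 1 := ⟨p - 1, by omega⟩
  have h := (isZero_tor_succ_iff_exact (ModuleCat.of A B) N n).mp (hB N (n + 1) hp)
  rw [isZero_tor_succ_iff_exact]
  letI : Module A F := Module.compHom F (algebraMap A B)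
  haveI : IsScalarTower A B F := ⟨fun r a m => by
    rw [Algebra.smul_def, mul_smul]; rfl⟩
  exact exact_lTensor_of_exact_baseChange (k := A) (S := B) F _ _ h

theorem torVan_restrict {B : Type u} [CommRing B] [Algebra A B] (d : ℕ)
    (hB : TorVan (-(d : ℤ)) 0 ((singleFunctor (ModuleCat.{u} A) 0).obj (ModuleCat.of A B)))
    (K : Dual.D B) (a b : ℤ) (hK : DRing.HasTorAmplitudeIn B a b K) :
    TorVan (a - d) b ((DRing.restrictD (algebraMap A B)).obj K) := by
  obtain ⟨E, hE, hflat, ⟨e⟩⟩ := hK
  have hB' := (torVan_single_iff (ModuleCat.of A B) d).mp hB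
  let E' : DRing.Cx A :=
    ((ModuleCat.restrictScalars (algebraMap A B)).mapHomologicalComplex (ComplexShape.up ℤ)).obj E
  have iso : Q.obj E' ≅ (DRing.restrictD (algebraMap A B)).obj K :=
    ((ModuleCat.restrictScalars (algebraMap A B)).mapDerivedCategoryFactors.app E).symm ≪≫
      (DRing.restrictD (algebraMap A B)).mapIso e
  have hE' : DRing.VanishesOutside E' a b := fun i hi =>
    (ModuleCat.restrictScalars (algebraMap A B)).map_isZero (hE i hi)
  refine TorVan.of_iso iso (torVan_of_bounded E' a b hE' (fun i => ?_))
  by_cases hi : a ≤ i ∧ i ≤ b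
  · haveI := hflat i
    have h1 : TorVan (-(d : ℤ)) 0 ((singleFunctor (ModuleCat.{u} A) 0).obj (E'.X i)) :=
      (torVan_single_iff (E'.X i) d).mpr
        (fun N p hp => isZero_tor_restrict_of_flat d hB' (E.X i) N p hp)
    exact h1.mono (by omega) (by omega)
  · refine TorVan.zero _ _ _ (Functor.map_isZero _ (hE' i ?_))
    omega

end Groth.Agent.Helper11.TA
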