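import Groth.Agent.Lib.Helper11.MPC8
import Groth.Agent.Lib.Helper11.DCRestrict
import Groth.Agent.Lib.Helper11.TorAmp9

/-!
Pseudo-coherence and restriction of scalars along `A → B` with `B` pseudo-coherent over `A`.
-/

open CategoryTheory Category Limits Pretriangulated DerivedCategory ZeroObject

attribute [local instance] HasDerivedCategory.standard

universe u

namespace Groth.Agent.Helper11.MPC

open Groth.Agent.Helper11.DC Groth.Agent.Helper11.GenRes Groth.Agent.Helper11.TA

section General

variable {R : Type u} [CommRing R] {P : Dual.D R → Prop}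

theorem thick_biprod (hP : ThickLike P) {X Y : Dual.D R} (hX : P X) (hY : P Y) : P (X ⊞ Y) :=
  hP.ext _ (binaryBiproductTriangle_distinguished X Y) hX hY

theorem thick_single_prod (hP : ThickLike P) (X Y : ModuleCat.{u} R)
    (hX : P ((singleFunctor (ModuleCat.{u} R) 0).obj X))
    (hY : P ((singleFunctor (ModuleCat.{u} R) 0).obj Y)) :
    P ((singleFunctor (ModuleCat.{u} R) 0).obj (ModuleCat.of R (X × Y))) := by
  haveI : PreservesBinaryBiproducts (singleFunctor (ModuleCat.{u} R) 0) :=
    preservesBinaryBiproducts_of_preservesBiproducts _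
  exact hP.iso (((singleFunctor (ModuleCat.{u} R) 0).mapBiprod X Y).symm ≪≫
    (singleFunctor (ModuleCat.{u} R) 0).mapIso (ModuleCat.biprodIsoProd X Y))
    (thick_biprod hP hX hY)

theorem thick_single_pi (hP : ThickLike P) (X : ModuleCat.{u} R)
    (hX : P ((singleFunctor (ModuleCat.{u} R) 0).obj X)) (k : ℕ) :
    P ((singleFunctor (ModuleCat.{u} R) 0).obj (ModuleCat.of R (Fin k → X))) := by
  induction k with
  | zero =>
    exact hP.zero _ (Functor.map_isZero _ (ModuleCat.isZero_of_subsingleton _))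
  | succ k ih =>
    exact hP.iso ((singleFunctor (ModuleCat.{u} R) 0).mapIso
      (Fin.consLinearEquiv R (fun _ : Fin (k + 1) => (X : Type u))).toModuleIso)
      (thick_single_prod hP X (ModuleCat.of R (Fin k → X)) hX ih)

/-- a retract in `D(R)` is a direct summand -/
theorem exists_biprod_of_retract {K X : Dual.D R} (i : K ⟶ X) (r : X ⟶ K) (h : i ≫ r = 𝟙 K) :
    ∃ K' : Dual.D R, Nonempty (X ≅ K ⊞ K') := by
  obtain ⟨K', g, δ, hT⟩ := distinguished_cocone_triangle i
  have h0 : δ = 0 := by
    have h1 : δ ≫ i⟦(1 : ℤ)⟧' = 0 := comp_distTriang_mor_zero₃₁ _ hT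
    have h2 : i⟦(1 : ℤ)⟧' ≫ r⟦(1 : ℤ)⟧' = 𝟙 _ := by
      rw [← Functor.map_comp, h, CategoryTheory.Functor.map_id]
    calc δ = δ ≫ (i⟦(1 : ℤ)⟧' ≫ r⟦(1 : ℤ)⟧') := by rw [h2, comp_id]
      _ = 0 := by rw [← assoc, h1, zero_comp]
  obtain ⟨e, -⟩ := exists_iso_binaryBiproduct_of_distTriang _ hT h0
  exact ⟨K', ⟨e⟩⟩

theorem pc'_of_retract {K X : Dual.D R} (i : K ⟶ X) (r : X ⟶ K) (h : i ≫ r = 𝟙 K)
    (hX : DRing.IsPseudoCoherent' R X) : DRing.IsPseudoCoherent' R K := by
  obtain ⟨K', ⟨e⟩⟩ := exists_biprod_of_retract i r h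
  exact (pc'_summands (thickLike_pc.iso e hX)).1

end General

section Restrict

variable {A B : Type u} [CommRing A] [CommRing B] (φ : A →+* B)

theorem finite_of_restrict (N : ModuleCat.{u} B)
    (h : Module.Finite A ((ModuleCat.restrictScalars.{u} φ).obj N)) : Module.Finite B N := by
  letI : Algebra A B := φ.toAlgebra
  letI : Module A N := Module.compHom N φ
  haveI : IsScalarTower A B N := ⟨fun a b n => by
    change (φ a * b) • n = φ a • (b • n)
    rw [mul_smul]⟩
  haveI : Module.Finite A N := h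
  exact Module.Finite.of_restrictScalars_finite A B N

theorem isLE_restrict (K : Dual.D B) (a : ℤ) (h : K.IsLE a) :
    ((DRing.restrictD φ).obj K).IsLE a := by
  rw [isLE_iff]
  intro i hi
  exact IsZero.of_iso ((ModuleCat.restrictScalars.{u} φ).map_isZero ((isLE_iff K a).mp h i hi))
    (homologyRestrictIso φ K i)

theorem isLE_of_restrict (K : Dual.D B) (a : ℤ) (h : ((DRing.restrictD φ).obj K).IsLE a) :
    K.IsLE a := by
  rw [isLE_iff]
  intro i hi
  have h1 : IsZero ((ModuleCat.restrictScalars.{u} φ).obj ((Hf B i).obj K)) :=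
    IsZero.of_iso ((isLE_iff _ a).mp h i hi) (homologyRestrictIso φ K i).symm
  have h2 : Subsingleton ((ModuleCat.restrictScalars.{u} φ).obj ((Hf B i).obj K)) :=
    ModuleCat.subsingleton_of_isZero h1
  haveI : Subsingleton ((Hf B i).obj K) := h2
  exact ModuleCat.isZero_of_subsingleton _

/-- the hypothesis: `B` is a pseudo-coherent `A`-module -/
abbrev BaseIsPc : Prop := DRing.IsPseudoCoherent' A
  ((singleFunctor (ModuleCat.{u} A) 0).obj
    ((ModuleCat.restrictScalars.{u} φ).obj (ModuleCat.of B B)))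

variable {φ}

theorem pc'_restrict_pi (hB : BaseIsPc φ) (k : ℕ) :
    DRing.IsPseudoCoherent' A ((singleFunctor (ModuleCat.{u} A) 0).obj
      ((ModuleCat.restrictScalars.{u} φ).obj (ModuleCat.of B (Fin k → B)))) := by
  have h := thick_single_pi thickLike_pc _ hB k
  let X₁ : ModuleCat.{u} A :=
    ModuleCat.of A (Fin k → ((ModuleCat.restrictScalars.{u} φ).obj (ModuleCat.of B B)))
  let X₂ : ModuleCat.{u} A :=
    (ModuleCat.restrictScalars.{u} φ).obj (ModuleCat.of B (Fin k → B))
  refine thickLike_pc.iso ((singleFunctor (ModuleCat.{u} A) 0).mapIso (X := X₁) (Y := X₂) ?_) h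
  exact
    { hom := ModuleCat.ofHom (X := X₁) (Y := X₂)
        { toFun := fun x => x
          map_add' := fun _ _ => rfl
          map_smul' := fun _ _ => rfl }
      inv := ModuleCat.ofHom (X := X₂) (Y := X₁)
        { toFun := fun x => x
          map_add' := fun _ _ => rfl
          map_smul' := fun _ _ => rfl }
      hom_inv_id := rfl
      inv_hom_id := rfl }

theorem pc'_restrict_of_finite_projective (hB : BaseIsPc φ) (F : ModuleCat.{u} B)
    [Module.Finite B F] [Module.Projective B F] :
    DRing.IsPseudoCoherent' A ((singleFunctor (ModuleCat.{u} A) 0).obj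
      ((ModuleCat.restrictScalars.{u} φ).obj F)) := by
  obtain ⟨k, p, hp⟩ := Module.Finite.exists_fin' B F
  obtain ⟨s, hs⟩ := Module.projective_lifting_property p LinearMap.id hp
  let G := ModuleCat.restrictScalars.{u} φ ⋙ singleFunctor (ModuleCat.{u} A) 0
  let i : F ⟶ ModuleCat.of B (Fin k → B) := ModuleCat.ofHom s
  let r : ModuleCat.of B (Fin k → B) ⟶ F := ModuleCat.ofHom p
  have hir : i ≫ r = 𝟙 F := by
    ext x
    exact congr($hs x)
  refine pc'_of_retract (G.map i) (G.map r) ?_ (pc'_restrict_pi hB k)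
  rw [← Functor.map_comp, hir, CategoryTheory.Functor.map_id]
  rfl

theorem pc'_restrict_Q_of_bounded (hB : BaseIsPc φ) (E : DRing.Cx B) (a b : ℤ)
    (hE : DRing.VanishesOutside E a b) (hfp : DRing.TermwiseFiniteProjective E) :
    DRing.IsPseudoCoherent' A ((DRing.restrictD φ).obj (Q.obj E)) := by
  refine thickLike_pc.iso ((ModuleCat.restrictScalars.{u} φ).mapDerivedCategoryFactors.app E).symm ?_
  refine thickLike_pc.of_bounded _ a b
    (fun i hi => (ModuleCat.restrictScalars.{u} φ).map_isZero (hE i hi)) (fun i => ?_)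
  haveI := (hfp i).1
  haveI := (hfp i).2
  exact pc'_restrict_of_finite_projective hB (E.X i)

theorem mpc_restrict (hB : BaseIsPc φ) {m : ℤ} {K : Dual.D B}
    (h : DRing.IsPseudoCoherent B m K) :
    DRing.IsPseudoCoherent A m ((DRing.restrictD φ).obj K) := by
  obtain ⟨E, a, b, α, hE, hff, hiso, hepi⟩ := h
  obtain ⟨Z, g, δ, hT⟩ := distinguished_cocone_triangle α
  have hZ : Z.IsLE (m - 1) := cone_isLE α g δ hT hiso hepi
  have hT' := (DRing.restrictD φ).map_distinguished _ hT
  have h1 : DRing.IsPseudoCoherent A m ((DRing.restrictD φ).obj (Q.obj E)) :=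
    mpc_of_pc' (pc'_restrict_Q_of_bounded hB E a b hE (fun i => ⟨(hff i).1, by
      haveI := (hff i).2
      infer_instance⟩)) m
  have hZ' := isLE_restrict φ Z (m - 1) hZ
  have h3 : DRing.IsPseudoCoherent A m ((DRing.restrictD φ).obj Z) :=
    mpc_of_isZero_homology _ (fun i hi => (isLE_iff _ (m - 1)).mp hZ' i (by omega))
  exact (mpc_two_of_three _ hT' m).2.1 h1 h3

theorem mpc_of_restrict_aux (hB : BaseIsPc φ) (m : ℤ) (n : ℕ) :
    ∀ (K : Dual.D B) (a : ℤ), a < m + n → K.IsLE a →
      DRing.IsPseudoCoherent A m ((DRing.restrictD φ).obj K) → DRing.IsPseudoCoherent B m K := by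
  induction n with
  | zero =>
    intro K a ha hK _
    exact mpc_of_isZero_homology _ (fun i hi => (isLE_iff _ a).mp hK i (by omega))
  | succ n ih =>
    intro K a ha hK h
    by_cases ham : a < m
    · exact mpc_of_isZero_homology _ (fun i hi => (isLE_iff _ a).mp hK i (by omega))
    · haveI := isLE_restrict φ K a hK
      have hfinA : Module.Finite A ((Hf A a).obj ((DRing.restrictD φ).obj K)) :=
        finite_top_homology (mpc_of_le (by omega) h)
      have hfinB : Module.Finite B ((Hf B a).obj K) :=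
        finite_of_restrict φ _ (Module.Finite.equiv (homologyRestrictIso φ K a).toLinearEquiv)
      obtain ⟨T, hT, rfl, hT3, hT1⟩ := exists_kill_top K a hK hfinB
      have hT' := (DRing.restrictD φ).map_distinguished _ hT
      have h3 : DRing.IsPseudoCoherent A m ((DRing.restrictD φ).obj T.obj₃) :=
        mpc_third _ hT' m (mpc_restrict hB (hT1 (m + 1))) h
      have h3' := ih T.obj₃ (a - 1) (by omega) hT3 h3
      exact (mpc_two_of_three T hT m).2.1 (hT1 m) h3'

theorem mpc_of_restrict (hB : BaseIsPc φ) {m : ℤ} {K : Dual.D B}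
    (h : DRing.IsPseudoCoherent A m ((DRing.restrictD φ).obj K)) :
    DRing.IsPseudoCoherent B m K := by
  obtain ⟨b, hb⟩ := exists_isLE_of_mpc h
  exact mpc_of_restrict_aux hB m (b - m + 1).toNat K b (by omega) (isLE_of_restrict φ K b hb) h

theorem mpc_restrict_iff (hB : BaseIsPc φ) (m : ℤ) (K : Dual.D B) :
    DRing.IsPseudoCoherent B m K ↔ DRing.IsPseudoCoherent A m ((DRing.restrictD φ).obj K) :=
  ⟨mpc_restrict hB, mpc_of_restrict hB⟩

theorem pc'_restrict_iff (hB : BaseIsPc φ) (K : Dual.D B) :
    DRing.IsPseudoCoherent' B K ↔ DRing.IsPseudoCoherent' A ((DRing.restrictD φ).obj K) := by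
  rw [pc'_iff_forall_mpc, pc'_iff_forall_mpc]
  exact forall_congr' (fun m => mpc_restrict_iff hB m K)

end Restrict

section Alg

variable {A B : Type u} [CommRing A] [CommRing B] [Algebra A B]

/-- `B` as an `A`-module via the algebra structure or via restriction of scalars -/
noncomputable def algRestrictIso : ModuleCat.of A B ≅
    (ModuleCat.restrictScalars.{u} (algebraMap A B)).obj (ModuleCat.of B B) :=
  { hom := ModuleCat.ofHom (X := ModuleCat.of A B)
      (Y := (ModuleCat.restrictScalars.{u} (algebraMap A B)).obj (ModuleCat.of B B))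
      { toFun := fun x => x
        map_add' := fun _ _ => rfl
        map_smul' := fun a b => by
          change a • b = algebraMap A B a • b
          rw [Algebra.smul_def]
          rfl }
    inv := ModuleCat.ofHom
      (X := (ModuleCat.restrictScalars.{u} (algebraMap A B)).obj (ModuleCat.of B B))
      (Y := ModuleCat.of A B)
      { toFun := fun x => x
        map_add' := fun _ _ => rfl
        map_smul' := fun a b => (Algebra.smul_def (R := A) (A := B) a b).symm }
    hom_inv_id := rfl
    inv_hom_id := rfl }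

theorem baseIsPc_of_module (hB : DRing.IsPseudoCoherentModule' A B) :
    BaseIsPc (algebraMap A B) :=
  thickLike_pc.iso ((singleFunctor (ModuleCat.{u} A) 0).mapIso algRestrictIso) hB

theorem torVan_base_of_perfect (hB : DRing.IsPerfectModule A B) :
    ∃ d : ℕ, TorVan (-(d : ℤ)) 0
      ((singleFunctor (ModuleCat.{u} A) 0).obj (ModuleCat.of A B)) := by
  obtain ⟨a', b', hv⟩ := torVan_of_perfect hB
  refine ⟨(-a').toNat, (torVan_single_iff _ _).mpr (fun N p hp => ?_)⟩
  obtain ⟨h1, h2, ⟨e⟩⟩ := projRes_spec (ModuleCat.of A B)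
  have hfl : ∀ i, Module.Flat A
      ((projectiveResolution (ModuleCat.of A B)).cochainComplex.X i) := fun i => by
    haveI := h2 i
    infer_instance
  have hv' := torVanCx_of_torVan hv _ 0 h1 hfl e
  obtain ⟨q, rfl⟩ : ∃ q, p = q + 1 := ⟨p - 1, by omega⟩
  rw [isZero_tor_iff]
  exact hv' N _ (Or.inl (by push_cast; omega))

theorem perfect_restrict (hB : DRing.IsPerfectModule A B) (K : Dual.D B)
    (hK : DRing.IsPerfect B K) :
    DRing.IsPerfect A ((DRing.restrictD (algebraMap A B)).obj K) := by
  have hBpc : BaseIsPc (algebraMap A B) := baseIsPc_of_module (pc_of_perfect hB)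
  have hpc : DRing.IsPseudoCoherent' A ((DRing.restrictD (algebraMap A B)).obj K) :=
    (pc'_restrict_iff hBpc K).mp (pc_of_perfect hK)
  obtain ⟨d, hd⟩ := torVan_base_of_perfect hB
  obtain ⟨E, a, b, hE, hfp, e⟩ := hK
  have hamp : DRing.HasTorAmplitudeIn B a b K := ⟨E, hE, fun i => by
    haveI := (hfp i).2
    infer_instance, e⟩
  exact isPerfect_of_pc_of_torVan hpc (torVan_restrict d hd K a b hamp)

end Alg

end Groth.Agent.Helper11.MPC
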