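import Groth.Agent.Lib.Helper11.TorAmp5
import Groth.Agent.Lib.Helper11.DCExtClosed

/-!
# Tor amplitude: extension-closure, direct summands, dévissage
-/

set_option autoImplicit false
universe u

open CategoryTheory Limits DerivedCategory Pretriangulated MonoidalCategory

attribute [local instance] HasDerivedCategory.standard

namespace Groth.Agent.Helper11.TA

variable {R : Type u} [CommRing R]

open Groth.Agent.Helper11.DC
open scoped ZeroObject

theorem isZero_of_retract {C : Type*} [Category C] [HasZeroMorphisms C] {X Y : C} (i : X ⟶ Y)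
    (r : Y ⟶ X) (h : i ≫ r = 𝟙 X) (hY : IsZero Y) : IsZero X := by
  rw [IsZero.iff_id_eq_zero, ← h, hY.eq_of_tgt i 0, zero_comp]

theorem TorVan.zero (a b : ℤ) (K : Dual.D R) (h : IsZero K) : TorVan a b K := by
  obtain ⟨P, c, hc, hp, e⟩ := hasProjRes_zero K h
  have hz : IsZero (0 : DRing.Cx R) := isZero_zero _
  refine ⟨0, 0, fun i _ => ?_, fun i => ?_, ⟨(Q.map_isZero hz).iso h⟩, ?_⟩
  · exact (HomologicalComplex.eval _ _ i).map_isZero hz
  · have hz' : IsZero ((0 : DRing.Cx R).X i) := (HomologicalComplex.eval _ _ i).map_isZero hz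
    haveI : Subsingleton ((0 : DRing.Cx R).X i) := ModuleCat.subsingleton_of_isZero hz'
    infer_instance
  · intro M i _
    exact Functor.map_isZero _ (Functor.map_isZero _ (Functor.map_isZero _ hz))

theorem torVan_extClosed (a b : ℤ) : ExtClosed (R := R) (TorVan a b) where
  iso := fun e h => h.of_iso e
  ext := fun T hT h₁ h₃ => (TorVan.two_of_three T hT).2.1 h₁ h₃
  zero := TorVan.zero a b

theorem torVan_single_shift {a b : ℤ} (N : ModuleCat.{u} R) (i : ℤ)
    (h : TorVan (a - i) (b - i) ((singleFunctor (ModuleCat.{u} R) 0).obj N)) :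
    TorVan a b ((singleFunctor (ModuleCat.{u} R) i).obj N) := by
  have h' := h.shift (-i)
  have e1 : a - i - -i = a := by ring
  have e2 : b - i - -i = b := by ring
  rw [e1, e2] at h'
  exact h'.of_iso (((singleFunctors (ModuleCat.{u} R)).shiftIso (-i) i 0 (by omega)).app N)

theorem torVan_of_homology {a b : ℤ} (K : Dual.D R) (c d : ℤ)
    (hK : ∀ i : ℤ, (i < c ∨ d < i) → IsZero ((homologyFunctor (ModuleCat.{u} R) i).obj K))
    (h : ∀ i : ℤ, TorVan (a - i) (b - i) ((singleFunctor (ModuleCat.{u} R) 0).obj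
      ((homologyFunctor (ModuleCat.{u} R) i).obj K))) : TorVan a b K :=
  (torVan_extClosed a b).of_homology K c d hK (fun i => torVan_single_shift _ i (h i))

theorem torVan_of_bounded {a b : ℤ} (K : DRing.Cx R) (c d : ℤ)
    (hK : DRing.VanishesOutside K c d)
    (h : ∀ i : ℤ, TorVan (a - i) (b - i) ((singleFunctor (ModuleCat.{u} R) 0).obj (K.X i))) :
    TorVan a b (Q.obj K) :=
  (torVan_extClosed a b).of_bounded K c d hK (fun i => torVan_single_shift _ i (h i))

/-- direct summands -/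
theorem TorVan.biprod_both {a b : ℤ} (K L : Dual.D R) [HasBinaryBiproduct K L]
    (h : TorVan a b (K ⊞ L)) : TorVan a b K ∧ TorVan a b L := by
  obtain ⟨P, c, hc, hp, ⟨e⟩, hv⟩ := h
  have hKL : ∀ i : ℤ, (i < a ∨ b < i) →
      IsZero ((homologyFunctor (ModuleCat.{u} R) i).obj (K ⊞ L)) := fun i hi =>
    IsZero.of_iso (isZero_homology_of_torVanCx P hv i hi)
      ((homologyFunctor (ModuleCat.{u} R) i).mapIso e.symm)
  have hKz : ∀ i : ℤ, (i < a ∨ b < i) →
      IsZero ((homologyFunctor (ModuleCat.{u} R) i).obj K) := fun i hi =>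
    isZero_of_retract ((homologyFunctor (ModuleCat.{u} R) i).map biprod.inl)
      ((homologyFunctor (ModuleCat.{u} R) i).map biprod.fst)
      (by rw [← Functor.map_comp, biprod.inl_fst, CategoryTheory.Functor.map_id]) (hKL i hi)
  have hLz : ∀ i : ℤ, (i < a ∨ b < i) →
      IsZero ((homologyFunctor (ModuleCat.{u} R) i).obj L) := fun i hi =>
    isZero_of_retract ((homologyFunctor (ModuleCat.{u} R) i).map biprod.inr)
      ((homologyFunctor (ModuleCat.{u} R) i).map biprod.snd)
      (by rw [← Functor.map_comp, biprod.inr_snd, CategoryTheory.Functor.map_id]) (hKL i hi)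
  obtain ⟨PK, cK, hcK, hpK, ⟨eK⟩⟩ := hasProjRes_of_homology K a b hKz
  obtain ⟨PL, cL, hcL, hpL, ⟨eL⟩⟩ := hasProjRes_of_homology L a b hLz
  have eX : ∀ i, (PK ⊞ PL).X i ≅ PK.X i ⊞ PL.X i := fun i =>
    ((HomologicalComplex.eval _ _ i).mapBiprod PK PL)
  have hz : DRing.VanishesAbove (PK ⊞ PL) (max cK cL) := by
    intro i hi
    refine IsZero.of_iso ?_ (eX i)
    rw [IsZero.iff_id_eq_zero]
    apply biprod.hom_ext
    · exact (hcK i (by omega)).eq_of_tgt _ _
    · exact (hcL i (by omega)).eq_of_tgt _ _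
  have hproj : ∀ i, Module.Projective R ((PK ⊞ PL).X i) := by
    intro i
    haveI := hpK i
    haveI := hpL i
    exact Module.Projective.of_equiv
      (eX i ≪≫ ModuleCat.biprodIsoProd _ _).toLinearEquiv.symm
  have hflat : ∀ i, Module.Flat R ((PK ⊞ PL).X i) := fun i => by
    haveI := hproj i
    infer_instance
  haveI : PreservesBinaryBiproducts (Q : DRing.Cx R ⥤ Dual.D R) :=
    preservesBinaryBiproducts_of_preservesBiproducts _
  have eQ : Q.obj (PK ⊞ PL) ≅ K ⊞ L := Q.mapBiprod PK PL ≪≫ biprod.mapIso eK eL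
  have hv' : TorVanCx a b (PK ⊞ PL) :=
    torVanCx_of_torVan ⟨P, c, hc, hp, ⟨e⟩, hv⟩ (PK ⊞ PL) _ hz hflat eQ
  refine ⟨⟨PK, cK, hcK, hpK, ⟨eK⟩, ?_⟩, ⟨PL, cL, hcL, hpL, ⟨eL⟩, ?_⟩⟩
  · intro M i hi
    let G := tens M ⋙ Q ⋙ homologyFunctor (ModuleCat.{u} R) i
    exact isZero_of_retract (G.map (biprod.inl : PK ⟶ PK ⊞ PL)) (G.map biprod.fst)
      (by rw [← Functor.map_comp, biprod.inl_fst, CategoryTheory.Functor.map_id]; rfl)
      (hv' M i hi)
  · intro M i hi
    let G := tens M ⋙ Q ⋙ homologyFunctor (ModuleCat.{u} R) i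
    exact isZero_of_retract (G.map (biprod.inr : PL ⟶ PK ⊞ PL)) (G.map biprod.snd)
      (by rw [← Functor.map_comp, biprod.inr_snd, CategoryTheory.Functor.map_id]; rfl)
      (hv' M i hi)

end Groth.Agent.Helper11.TA
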