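import Groth.Agent.Lib.Helper11.Cpt2
import Groth.Agent.Lib.Helper11.Cpt3
import Groth.Agent.Lib.Helper11.CompSeq2
import Groth.Agent.Lib.Helper11.ProjResTower
import Groth.Agent.Lib.Helper11.MPC9
import Groth.Agent.Lib.Helper11.DCPerfThick
import Groth.Agent.Lib.Helper11.DCRegular
import Groth.Agent.Lib.Helper11.DCHom
import Groth.Agent.Lib.Helper11.TorAmp6

/-!
# Compact objects of `D(R)` are perfect (helper11)

Every map from a compact object to a bounded complex of projective modules factors through a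
perfect object; a compact object is a retract of such a complex, hence perfect.
-/

set_option autoImplicit false

open CategoryTheory CategoryTheory.Limits Pretriangulated DerivedCategory ZeroObject

universe u

attribute [local instance] HasDerivedCategory.standard

namespace Groth.Agent.Helper11.Cpt

open Groth.Agent.Helper11.DC Groth.Agent.Helper11.MPC Groth.Agent.Helper11.SubCx

variable {R : Type u} [CommRing R]

/-- `f` factors through a perfect object -/
def FacPerf {K X : Dual.D R} (f : K ⟶ X) : Prop :=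
  ∃ (P : Dual.D R) (g : K ⟶ P) (h : P ⟶ X), DRing.IsPerfect R P ∧ f = g ≫ h

theorem facPerf_zero (K X : Dual.D R) : FacPerf (0 : K ⟶ X) :=
  ⟨0, 0, 0, thickLike_isPerfect.zero _ (isZero_zero _), zero_comp.symm⟩

theorem FacPerf.add {K X : Dual.D R} {f₁ f₂ : K ⟶ X} (h₁ : FacPerf f₁) (h₂ : FacPerf f₂) :
    FacPerf (f₁ + f₂) := by
  obtain ⟨P₁, g₁, k₁, hP₁, rfl⟩ := h₁
  obtain ⟨P₂, g₂, k₂, hP₂, rfl⟩ := h₂
  exact ⟨P₁ ⊞ P₂, biprod.lift g₁ g₂, biprod.desc k₁ k₂,
    thick_biprod thickLike_isPerfect hP₁ hP₂, biprod.lift_desc.symm⟩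

theorem facPerf_sum {K X : Dual.D R} {α : Type*} (s : Finset α) (F : α → (K ⟶ X))
    (h : ∀ a ∈ s, FacPerf (F a)) : FacPerf (∑ a ∈ s, F a) := by
  classical
  induction s using Finset.induction_on with
  | empty =>
    rw [Finset.sum_empty]
    exact facPerf_zero K X
  | insert a s ha ih =>
    rw [Finset.sum_insert ha]
    exact (h a (Finset.mem_insert_self a s)).add
      (ih (fun b hb => h b (Finset.mem_insert_of_mem hb)))

theorem FacPerf.precomp {K K' X : Dual.D R} {f : K ⟶ X} (h : FacPerf f) (u : K' ⟶ K) :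
    FacPerf (u ≫ f) := by
  obtain ⟨P, g, k, hP, rfl⟩ := h
  exact ⟨P, u ≫ g, k, hP, (Category.assoc _ _ _).symm⟩

theorem FacPerf.postcomp {K X X' : Dual.D R} {f : K ⟶ X} (h : FacPerf f) (v : X ⟶ X') :
    FacPerf (f ≫ v) := by
  obtain ⟨P, g, k, hP, rfl⟩ := h
  exact ⟨P, g, k ≫ v, hP, Category.assoc _ _ _⟩

theorem facPerf_of_shift {K X : Dual.D R} (f : K ⟶ X) (n : ℤ) (h : FacPerf (f⟦n⟧')) :
    FacPerf f := by
  obtain ⟨P, g, k, hP, hf⟩ := h
  have h1 : (f⟦n⟧')⟦-n⟧' ≫
      (shiftFunctorCompIsoId (Dual.D R) n (-n) (add_neg_cancel n)).hom.app X =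
      (shiftFunctorCompIsoId (Dual.D R) n (-n) (add_neg_cancel n)).hom.app K ≫ f :=
    (shiftFunctorCompIsoId (Dual.D R) n (-n) (add_neg_cancel n)).hom.naturality f
  have hnat : (shiftFunctorCompIsoId (Dual.D R) n (-n) (add_neg_cancel n)).inv.app K ≫
      (f⟦n⟧')⟦-n⟧' ≫
      (shiftFunctorCompIsoId (Dual.D R) n (-n) (add_neg_cancel n)).hom.app X = f := by
    rw [h1, Iso.inv_hom_id_app_assoc]
  refine ⟨P⟦-n⟧, (shiftFunctorCompIsoId (Dual.D R) n (-n) (add_neg_cancel n)).inv.app K ≫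
    g⟦-n⟧', k⟦-n⟧' ≫ (shiftFunctorCompIsoId (Dual.D R) n (-n) (add_neg_cancel n)).hom.app X,
    thickLike_isPerfect.shift P (-n) hP, ?_⟩
  rw [← hnat, hf, Functor.map_comp]
  simp only [Category.assoc]

/-- every map from a compact object to `X` factors through a perfect object -/
def Good (X : Dual.D R) : Prop := ∀ (K : Dual.D R), Cpt K → ∀ f : K ⟶ X, FacPerf f

theorem good_of_iso {X Y : Dual.D R} (e : X ≅ Y) (h : Good X) : Good Y := by
  intro K hK f
  have h1 := (h K hK (f ≫ e.inv)).postcomp e.hom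
  rwa [Category.assoc, e.inv_hom_id, Category.comp_id] at h1

theorem good_of_retract {X Y : Dual.D R} (i : Y ⟶ X) (r : X ⟶ Y) (hir : i ≫ r = 𝟙 Y)
    (h : Good X) : Good Y := by
  intro K hK f
  have h1 := (h K hK (f ≫ i)).postcomp r
  rwa [Category.assoc, hir, Category.comp_id] at h1

theorem good_of_isZero {X : Dual.D R} (hX : IsZero X) : Good X := by
  intro K _ f
  rw [hX.eq_of_tgt f 0]
  exact facPerf_zero K X

theorem good_shift (X : Dual.D R) (n : ℤ) (h : Good X) : Good (X⟦n⟧) := by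
  intro K hK f
  apply facPerf_of_shift f (-n)
  have h1 := (h (K⟦-n⟧) (cpt_shift K (-n) hK) (f⟦-n⟧' ≫
    (shiftFunctorCompIsoId (Dual.D R) n (-n) (add_neg_cancel n)).hom.app X)).postcomp
      ((shiftFunctorCompIsoId (Dual.D R) n (-n) (add_neg_cancel n)).inv.app X)
  have h2 : f⟦-n⟧' = (f⟦-n⟧' ≫
      (shiftFunctorCompIsoId (Dual.D R) n (-n) (add_neg_cancel n)).hom.app X) ≫
      (shiftFunctorCompIsoId (Dual.D R) n (-n) (add_neg_cancel n)).inv.app X := by
    rw [Category.assoc, Iso.hom_inv_id_app]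
    exact (Category.comp_id _).symm
  rw [h2]
  exact h1

theorem good_ext (T : Triangle (Dual.D R)) (hT : T ∈ distTriang (Dual.D R))
    (h₁ : Good T.obj₁) (h₃ : Good T.obj₃) : Good T.obj₂ := by
  intro K hK f
  obtain ⟨P'', g'', h'', hP'', e1⟩ := h₃ K hK (f ≫ T.mor₂)
  obtain ⟨C, u, w, hT₁⟩ := distinguished_cocone_triangle₁ g''
  obtain ⟨φ, hφ1, hφ2⟩ : ∃ φ : C ⟶ T.obj₁, u ≫ f = φ ≫ T.mor₁ ∧
      w ≫ φ⟦(1 : ℤ)⟧' = h'' ≫ T.mor₃ :=
    complete_distinguished_triangle_morphism₁ (Triangle.mk u g'' w) T hT₁ hT f h'' e1.symm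
  have hC : Cpt C := cpt_triangle₁ (Triangle.mk u g'' w) hT₁ hK (cpt_of_perfect P'' hP'')
  obtain ⟨P', g', h', hP', e2⟩ := h₁ C hC φ
  obtain ⟨P, α, β, hT₂⟩ := distinguished_cocone_triangle₂ (w ≫ g'⟦(1 : ℤ)⟧')
  have hP : DRing.IsPerfect R P :=
    thickLike_isPerfect.ext (Triangle.mk α β (w ≫ g'⟦(1 : ℤ)⟧')) hT₂ hP' hP''
  obtain ⟨γ, hγ1, hγ2⟩ : ∃ γ : K ⟶ P, u ≫ γ = g' ≫ α ∧ g'' ≫ 𝟙 P'' = γ ≫ β :=
    complete_distinguished_triangle_morphism₂ (Triangle.mk u g'' w)
      (Triangle.mk α β (w ≫ g'⟦(1 : ℤ)⟧')) hT₁ hT₂ g' (𝟙 P'') (Category.id_comp _).symm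
  have hγ2' : g'' = γ ≫ β := (Category.comp_id g'').symm.trans hγ2
  obtain ⟨δ, hδ1, hδ2'⟩ : ∃ δ : P ⟶ T.obj₂, α ≫ δ = h' ≫ T.mor₁ ∧ β ≫ h'' = δ ≫ T.mor₂ :=
    complete_distinguished_triangle_morphism₂
      (Triangle.mk α β (w ≫ g'⟦(1 : ℤ)⟧')) T hT₂ hT h' h'' (by
        show (w ≫ g'⟦(1 : ℤ)⟧') ≫ h'⟦(1 : ℤ)⟧' = h'' ≫ T.mor₃
        rw [Category.assoc, ← Functor.map_comp, ← e2]
        exact hφ2)
  have h0 : (f - γ ≫ δ) ≫ T.mor₂ = 0 := by
    rw [Preadditive.sub_comp, Category.assoc, ← hδ2', ← Category.assoc, ← hγ2', e1, sub_self]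
  obtain ⟨ε, hε⟩ := Triangle.coyoneda_exact₂ T hT (f - γ ≫ δ) h0
  obtain ⟨P₃, g₃, k₃, hP₃, e3⟩ := h₁ K hK ε
  have hf : f = γ ≫ δ + ε ≫ T.mor₁ := by
    rw [← hε]
    abel
  rw [hf]
  have hε' : FacPerf ε := ⟨P₃, g₃, k₃, hP₃, e3⟩
  exact FacPerf.add ⟨P, γ, δ, hP, rfl⟩ (FacPerf.postcomp hε' T.mor₁)

theorem thickLike_good : ThickLike (Good (R := R)) where
  iso e h := good_of_iso e h
  shift X n h := good_shift X n h
  ext T hT h₁ h₃ := good_ext T hT h₁ h₃
  zero _ hX := good_of_isZero hX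

section Base

/-- a free module, as an abstract coproduct -/
noncomputable abbrev Phi (R : Type u) [CommRing R] (Λ : Type u) : ModuleCat.{u} R :=
  ∐ (fun _ : Λ => ModuleCat.of R R)

/-- the cofan exhibiting `Φ[0]` as a coproduct of copies of `R[0]` -/
noncomputable abbrev cofanPhi (R : Type u) [CommRing R] (Λ : Type u) :
    Cofan (fun _ : ULift.{u + 1} Λ => Dual.inD R R) :=
  Cofan.mk ((singleFunctor (ModuleCat.{u} R) 0).obj (Phi R Λ))
    (fun j => (singleFunctor (ModuleCat.{u} R) 0).map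
      (Sigma.ι (fun _ : Λ => ModuleCat.of R R) j.down))

theorem iota_naturality' {P P' : ModuleCat.{u} R} (a : P ⟶ P') :
    (homologyFunctor (ModuleCat.{u} R) 0).map ((singleFunctor (ModuleCat.{u} R) 0).map a) ≫
      (iota P').hom = (iota P).hom ≫ a := by
  rw [← cancel_epi (iota P).inv, ← Category.assoc, iota_naturality, Category.assoc,
    Iso.inv_hom_id, Category.comp_id, Iso.inv_hom_id_assoc]

/-- it is a colimit cofan -/
noncomputable def isColimitCofanPhi (Λ : Type u) : IsColimit (cofanPhi R Λ) := by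
  have key : ∀ t : Cofan (fun _ : ULift.{u + 1} Λ => Dual.inD R R),
      ∃ d : (singleFunctor (ModuleCat.{u} R) 0).obj (Phi R Λ) ⟶ t.pt,
        (homologyFunctor (ModuleCat.{u} R) 0).map d = (iota (Phi R Λ)).hom ≫
          Sigma.desc (fun l : Λ => (iota (ModuleCat.of R R)).inv ≫
            (homologyFunctor (ModuleCat.{u} R) 0).map (t.inj ⟨l⟩)) :=
    fun t => (psi_bijective (Phi R Λ) t.pt).2 _
  refine Cofan.IsColimit.mk _ (fun t => (key t).choose) (fun t j => ?_) (fun t m hm => ?_)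
  · apply (psi_bijective (ModuleCat.of R R) t.pt).1
    show (homologyFunctor (ModuleCat.{u} R) 0).map
      ((singleFunctor (ModuleCat.{u} R) 0).map
        (Sigma.ι (fun _ : Λ => ModuleCat.of R R) j.down) ≫ (key t).choose) =
      (homologyFunctor (ModuleCat.{u} R) 0).map (t.inj j)
    rw [Functor.map_comp, (key t).choose_spec, ← Category.assoc, iota_naturality',
      Category.assoc, Sigma.ι_desc, Iso.hom_inv_id_assoc]
  · apply (psi_bijective (Phi R Λ) t.pt).1
    show (homologyFunctor (ModuleCat.{u} R) 0).map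
        (m : (singleFunctor (ModuleCat.{u} R) 0).obj (Phi R Λ) ⟶ t.pt) =
      (homologyFunctor (ModuleCat.{u} R) 0).map (key t).choose
    rw [(key t).choose_spec, ← cancel_epi (iota (Phi R Λ)).inv, Iso.inv_hom_id_assoc]
    apply Sigma.hom_ext
    intro l
    rw [Sigma.ι_desc, ← Category.assoc, ← iota_naturality, Category.assoc, ← Functor.map_comp]
    exact congrArg (fun z => (iota (ModuleCat.of R R)).inv ≫
      (homologyFunctor (ModuleCat.{u} R) 0).map z) (hm ⟨l⟩)

theorem isPerfect_R : DRing.IsPerfect R (Dual.inD R R) :=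
  isPerfect_single_of_finite_projective (ModuleCat.of R R)

theorem good_Phi (Λ : Type u) : Good ((singleFunctor (ModuleCat.{u} R) 0).obj (Phi R Λ)) := by
  intro K hK f
  obtain ⟨s, g, hg⟩ := hK Λ (fun _ => Dual.inD R R) (cofanPhi R Λ) (isColimitCofanPhi Λ) f
  have hg' : f = ∑ j ∈ s, g j ≫ (singleFunctor (ModuleCat.{u} R) 0).map
      (Sigma.ι (fun _ : Λ => ModuleCat.of R R) j.down) := hg
  rw [hg']
  apply facPerf_sum
  intro j _
  exact ⟨Dual.inD R R, g j, _, isPerfect_R, rfl⟩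

theorem good_single_of_projective (M : ModuleCat.{u} R) [Module.Projective R M] :
    Good ((singleFunctor (ModuleCat.{u} R) 0).obj M) := by
  let π : Phi R M ⟶ M :=
    Sigma.desc (fun m : M => ModuleCat.ofHom (LinearMap.toSpanSingleton R M m))
  have hπ : Epi π := by
    rw [ModuleCat.epi_iff_surjective]
    intro m
    refine ⟨(Sigma.ι (fun _ : M => ModuleCat.of R R) m).hom (1 : R), ?_⟩
    have h1 : Sigma.ι (fun _ : M => ModuleCat.of R R) m ≫ π =
        ModuleCat.ofHom (LinearMap.toSpanSingleton R M m) := Sigma.ι_desc _ _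
    have h2 : π.hom ((Sigma.ι (fun _ : M => ModuleCat.of R R) m).hom (1 : R)) =
        LinearMap.toSpanSingleton R M m 1 := congrArg (fun φ => φ.hom (1 : R)) h1
    rw [h2, LinearMap.toSpanSingleton_apply, one_smul]
  haveI : Projective M := (IsProjective.iff_projective M).mp inferInstance
  have hi : Projective.factorThru (𝟙 M) π ≫ π = 𝟙 M := Projective.factorThru_comp _ _
  exact good_of_retract ((singleFunctor (ModuleCat.{u} R) 0).map (Projective.factorThru (𝟙 M) π))
    ((singleFunctor (ModuleCat.{u} R) 0).map π)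
    (by rw [← Functor.map_comp, hi, CategoryTheory.Functor.map_id]) (good_Phi M)

end Base

section Main

/-- a compact object is a retract of some member of an exhausting sequence of subcomplexes of a
representative -/
theorem retract_Q_of_cpt (K : Dual.D R) (hK : Cpt K) (F : DRing.Cx R) (e : Q.obj F ≅ K)
    (G : ℕ → ∀ n : ℤ, Submodule R (F.X n))
    (hG : ∀ k : ℕ, ∀ i j : ℤ, ∀ x ∈ G k i, (F.d i j).hom x ∈ G k j)
    (hmono : ∀ k l : ℕ, k ≤ l → ∀ n, G k n ≤ G l n)
    (hex : ∀ p : ℤ, ∃ N : ℕ, ∀ k, N ≤ k → G k p = ⊤) :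
    ∃ (k : ℕ) (y : K ⟶ Q.obj (subCx F (G k) (hG k))),
      y ≫ Q.map (subCxι F (G k) (hG k)) ≫ e.hom = 𝟙 K := by
  have hK' : ∀ (E : ℕ → Dual.D R) [HasCoproduct fun i : ULift.{u + 1} ℕ => E i.down],
      Function.Bijective (CohDer.homSumToHomCoprod K (fun i : ULift.{u + 1} ℕ => E i.down)) :=
    fun E _ => cpt_nat K hK E
  obtain ⟨n, y, hy'⟩ : ∃ (n : ℕ) (y : K ⟶ Q.obj (subCx F (G n) (hG n))),
      y ≫ Q.map (subCxι F (G n) (hG n)) = e.inv :=
    (Groth.Agent.Helper11.CompSeq.main (seqFunctor F G hG hmono)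
      (seqCocone F G hG hmono) K hK' (seqIsColimit F G hG hmono hex)).1 e.inv
  exact ⟨n, y, by rw [← Category.assoc, hy', e.inv_hom_id]⟩

/-- compact objects of `D(R)` are perfect -/
theorem perfect_of_cpt (K : Dual.D R) (hK : Cpt K) : DRing.IsPerfect R K := by
  -- step 1: `K` is bounded above
  obtain ⟨k, y, hy⟩ := retract_Q_of_cpt K hK (Q.objPreimage K) (Q.objObjPreimageIso K)
    (Gc (Q.objPreimage K)) (Gc_stable (Q.objPreimage K)) (Gc_mono (Q.objPreimage K))
    (Gc_exhaust (Q.objPreimage K))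
  have hle : K.IsLE (k : ℤ) := by
    haveI := isLE_tauLE (Q.objPreimage K) k
    rw [DerivedCategory.isLE_iff]
    intro i hi
    exact Groth.Agent.Helper11.TA.isZero_of_retract
      ((homologyFunctor (ModuleCat.{u} R) i).map y)
      ((homologyFunctor (ModuleCat.{u} R) i).map
        (Q.map (subCxι (Q.objPreimage K) (Gc (Q.objPreimage K) k)
          (Gc_stable (Q.objPreimage K) k)) ≫ (Q.objObjPreimageIso K).hom))
      (by rw [← Functor.map_comp, hy, CategoryTheory.Functor.map_id])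
      (DerivedCategory.isZero_of_isLE (Q.obj (tauLE (Q.objPreimage K) k)) (k : ℤ) i hi)
  -- step 2: a bounded above projective resolution
  obtain ⟨P, b, hb, hproj, ⟨e'⟩⟩ := Groth.Agent.Helper11.PRT.hasProjRes_of_isLE K (k : ℤ) hle
  -- step 3: `K` is a retract of a stupid truncation
  obtain ⟨m, y', hy'⟩ := retract_Q_of_cpt K hK P e' (Gs P) (Gs_stable P) (Gs_mono P)
    (Gs_exhaust P)
  -- step 4: the stupid truncation is good
  have hgood : Good (Q.obj (sigGE P m)) :=
    thickLike_good.of_bounded (sigGE P m) (-(m : ℤ)) b (sigGE_vanishesOutside P b hb m)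
      (fun i => by
        haveI := sigGE_projective P hproj m i
        exact good_single_of_projective ((sigGE P m).X i))
  -- step 5: factor through a perfect object
  obtain ⟨P₀, g, h, hP₀, hgh⟩ := hgood K hK y'
  -- step 6: retracts of perfect objects are perfect
  obtain ⟨K', ⟨e''⟩⟩ := exists_biprod_of_retract g
    (h ≫ Q.map (subCxι P (Gs P m) (Gs_stable P m)) ≫ e'.hom)
    (by rw [← Category.assoc, ← hgh, hy'])
  exact (perfect_summands (thickLike_isPerfect.iso e'' hP₀)).1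

/-- perfect ⇔ compact, in the statement form -/
theorem isPerfect_iff_isCompact (K : Dual.D R) :
    DRing.IsPerfect R K ↔
      ∀ (I : Type u) (E : I → Dual.D R) [HasCoproduct fun i : ULift.{u + 1} I => E i.down],
        Function.Bijective (CohDer.homSumToHomCoprod K (fun i : ULift.{u + 1} I => E i.down)) :=
  ⟨fun h => (cpt_iff K).mp (cpt_of_perfect K h), fun h => perfect_of_cpt K ((cpt_iff K).mpr h)⟩

end Main

end Groth.Agent.Helper11.Cpt
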