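import Mathlib.CategoryTheory.Triangulated.Pretriangulated
import Mathlib.CategoryTheory.Triangulated.Yoneda

/-!
An abstract lemma on distinguished triangles `P ⟶ P' ⟶ Q ⟶ P⟦1⟧` where `P`, `P'` have no maps to
nonzero shifts of `Y`: all maps from `Q` to shifts of `Y` vanish iff precomposition with
`P ⟶ P'` is bijective on maps to `Y`.
-/

open CategoryTheory Category Limits Pretriangulated

namespace Groth.Agent.Helper11.DC

section Abstract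

variable {C : Type*} [Category C] [Preadditive C] [HasZeroObject C] [HasShift C ℤ]
  [∀ n : ℤ, (shiftFunctor C n).Additive] [Pretriangulated C]

theorem hom_shift_one_eq_zero {P Y : C} (n m : ℤ) (hnm : m + 1 = n)
    (h : ∀ g : P ⟶ Y⟦m⟧, g = 0) (g : P⟦(1 : ℤ)⟧ ⟶ Y⟦n⟧) : g = 0 := by
  let e : Y⟦n⟧ ≅ (Y⟦m⟧)⟦(1 : ℤ)⟧ := (shiftFunctorAdd' C m 1 n hnm).app Y
  have h0 : g ≫ e.hom = 0 := by
    obtain ⟨k, hk⟩ := (shiftFunctor C (1 : ℤ)).map_surjective (g ≫ e.hom)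
    rw [← hk, h k, Functor.map_zero]
  rw [← cancel_mono e.hom, h0, zero_comp]

theorem bridge (T : Triangle C) (hT : T ∈ distTriang C) (Y : C)
    (h₁ : ∀ n : ℤ, n ≠ 0 → ∀ g : T.obj₁ ⟶ Y⟦n⟧, g = 0)
    (h₂ : ∀ n : ℤ, n ≠ 0 → ∀ g : T.obj₂ ⟶ Y⟦n⟧, g = 0) :
    (∀ n : ℤ, ∀ g : T.obj₃ ⟶ Y⟦n⟧, g = 0) ↔
      Function.Bijective (fun g : T.obj₂ ⟶ Y => T.mor₁ ≫ g) := by
  let z0 : Y⟦(0 : ℤ)⟧ ≅ Y := (shiftFunctorZero C ℤ).app Y
  constructor
  · intro H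
    have H0 : ∀ g : T.obj₃ ⟶ Y, g = 0 := by
      intro g
      have := H 0 (g ≫ z0.inv)
      rw [← cancel_mono z0.inv, this, zero_comp]
    constructor
    · intro g₁ g₂ h12
      have h0 : T.mor₁ ≫ (g₁ - g₂) = 0 := by
        rw [Preadditive.comp_sub]
        exact sub_eq_zero.mpr h12
      obtain ⟨g', hg'⟩ := Triangle.yoneda_exact₂ T hT (g₁ - g₂) h0
      rw [H0 g', comp_zero] at hg'
      exact sub_eq_zero.mp hg'
    · intro h
      have hT2 := rot_of_distTriang _ (rot_of_distTriang _ hT)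
      have hz : T.rotate.rotate.mor₁ ≫ h⟦(1 : ℤ)⟧' = 0 := H 1 _
      obtain ⟨g, hg⟩ : ∃ g : T.obj₂⟦(1 : ℤ)⟧ ⟶ Y⟦(1 : ℤ)⟧,
          h⟦(1 : ℤ)⟧' = (-(T.mor₁⟦(1 : ℤ)⟧')) ≫ g :=
        Triangle.yoneda_exact₂ _ hT2 (h⟦(1 : ℤ)⟧') hz
      obtain ⟨k, rfl⟩ : ∃ k : T.obj₂ ⟶ Y, k⟦(1 : ℤ)⟧' = g :=
        (shiftFunctor C (1 : ℤ)).map_surjective g
      refine ⟨-k, ?_⟩
      apply (shiftFunctor C (1 : ℤ)).map_injective
      change (shiftFunctor C (1 : ℤ)).map (T.mor₁ ≫ (-k)) = (shiftFunctor C (1 : ℤ)).map h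
      rw [hg, Functor.map_comp, Functor.map_neg, Preadditive.comp_neg, Preadditive.neg_comp]
  · intro hb n g
    by_cases hn0 : n = 0
    · subst hn0
      have h12 : T.mor₁ ≫ (T.mor₂ ≫ g ≫ z0.hom) = T.mor₁ ≫ 0 := by
        rw [← assoc, comp_distTriang_mor_zero₁₂ _ hT, zero_comp, comp_zero]
      have h0 : T.mor₂ ≫ g ≫ z0.hom = 0 := hb.1 h12
      obtain ⟨g', hg'⟩ := Triangle.yoneda_exact₃ T hT (g ≫ z0.hom) h0
      have hg'0 : g' = 0 := by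
        have := hom_shift_one_eq_zero (P := T.obj₁) (Y := Y) 0 (-1) (by norm_num)
          (h₁ (-1) (by norm_num)) (g' ≫ z0.inv)
        rw [← cancel_mono z0.inv, this, zero_comp]
      rw [hg'0, comp_zero] at hg'
      rw [← cancel_mono z0.hom, hg', zero_comp]
    · by_cases hn1 : n = 1
      · subst hn1
        have h0 : T.mor₂ ≫ g = 0 := h₂ 1 one_ne_zero _
        obtain ⟨g', rfl⟩ := Triangle.yoneda_exact₃ T hT g h0
        obtain ⟨k, rfl⟩ := (shiftFunctor C (1 : ℤ)).map_surjective g'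
        obtain ⟨k', rfl⟩ := hb.2 k
        change T.mor₃ ≫ (shiftFunctor C (1 : ℤ)).map (T.mor₁ ≫ k') = 0
        rw [Functor.map_comp, ← assoc, comp_distTriang_mor_zero₃₁ _ hT, zero_comp]
      · have h0 : T.mor₂ ≫ g = 0 := h₂ n hn0 _
        obtain ⟨g', rfl⟩ := Triangle.yoneda_exact₃ T hT g h0
        have : g' = 0 := hom_shift_one_eq_zero (P := T.obj₁) (Y := Y) n (n - 1) (by omega)
          (h₁ (n - 1) (by omega)) g'
        rw [this, comp_zero]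

end Abstract

end Groth.Agent.Helper11.DC
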