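import Groth.Agent.Lib.Helper11.DCBridge
import Groth.Prelude.Def_DRing3
import Mathlib.Algebra.Homology.DerivedCategory.SingleTriangle
import Mathlib.Algebra.Homology.DerivedCategory.Ext.EnoughProjectives
import Mathlib.Algebra.Homology.DerivedCategory.TStructure
import Mathlib.Algebra.Homology.DerivedCategory.FullyFaithful
import Mathlib.RingTheory.Localization.Away.AdjoinRoot
import Mathlib.Algebra.Homology.ShortComplex.ModuleCat

/-!
Derived completeness of a module in degree zero, in terms of sequences.
-/

open CategoryTheory Category Limits Pretriangulated DerivedCategory Polynomial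

attribute [local instance] HasDerivedCategory.standard

universe u

namespace Groth.Agent.Helper11.DC

variable {A : Type u} [CommRing A]

section Vanish

variable (P M : ModuleCat.{u} A)

theorem single_hom_neg (n : ℤ) (hn : n < 0)
    (g : (singleFunctor (ModuleCat.{u} A) 0).obj P ⟶
      ((singleFunctor (ModuleCat.{u} A) 0).obj M)⟦n⟧) : g = 0 := by
  haveI : TStructure.t.IsGE (((singleFunctor (ModuleCat.{u} A) 0).obj M)⟦n⟧) (-n) :=
    TStructure.t.isGE_shift _ 0 n (-n) (by omega)
  exact TStructure.t.zero g 0 (-n) (by omega)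

theorem single_hom_pos [Projective P] (n : ℤ) (hn : 0 < n)
    (g : (singleFunctor (ModuleCat.{u} A) 0).obj P ⟶
      ((singleFunctor (ModuleCat.{u} A) 0).obj M)⟦n⟧) : g = 0 := by
  rw [← cancel_mono (((singleFunctors (ModuleCat.{u} A)).shiftIso n (-n) 0 (by omega)).hom.app M),
    Limits.zero_comp]
  exact from_singleFunctor_obj_eq_zero_of_projective
    (L := (CochainComplex.singleFunctor (ModuleCat.{u} A) (-n)).obj M) (n := -n) _ (by omega)

theorem single_hom_ne [Projective P] (n : ℤ) (hn : n ≠ 0)
    (g : (singleFunctor (ModuleCat.{u} A) 0).obj P ⟶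
      ((singleFunctor (ModuleCat.{u} A) 0).obj M)⟦n⟧) : g = 0 := by
  rcases lt_or_gt_of_ne hn with h | h
  · exact single_hom_neg P M n h g
  · exact single_hom_pos P M n h g

end Vanish

section Seq

variable (f : A)

/-- Multiplication by `1 - f X`. -/
noncomputable def uLin : A[X] →ₗ[A] A[X] := LinearMap.mulLeft A (1 - C f * X)

theorem uLin_apply (h : A[X]) : uLin f h = (1 - C f * X) * h := rfl

/-- The quotient map to the localization. -/
noncomputable def pLin : A[X] →ₗ[A] Localization.Away f :=
  (Localization.awayEquivAdjoin f).symm.toLinearEquiv.toLinearMap ∘ₗ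
    (AdjoinRoot.mkₐ (C f * X - 1)).toLinearMap

theorem pLin_eq_zero_iff (h : A[X]) : pLin f h = 0 ↔ (C f * X - 1) ∣ h := by
  unfold pLin
  rw [LinearMap.comp_apply]
  change (Localization.awayEquivAdjoin f).symm (AdjoinRoot.mk (C f * X - 1) h) = 0 ↔ _
  rw [map_eq_zero_iff _ (Localization.awayEquivAdjoin f).symm.injective]
  exact AdjoinRoot.mk_eq_zero

theorem pLin_surjective : Function.Surjective (pLin f) := by
  unfold pLin
  rw [LinearMap.coe_comp]
  exact (Localization.awayEquivAdjoin f).symm.surjective.comp AdjoinRoot.mk_surjective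

theorem uLin_injective : Function.Injective (uLin f) := by
  rw [← LinearMap.ker_eq_bot, LinearMap.ker_eq_bot']
  intro h hh
  rw [uLin_apply] at hh
  have key : ∀ n, h.coeff n = 0 := by
    intro n
    induction n with
    | zero =>
      have := congrArg (fun q => Polynomial.coeff q 0) hh
      simpa [sub_mul, mul_assoc] using this
    | succ n ih =>
      have := congrArg (fun q => Polynomial.coeff q (n + 1)) hh
      simp only [sub_mul, one_mul, mul_assoc, coeff_sub, coeff_C_mul, coeff_X_mul, coeff_zero,
        ih, mul_zero, sub_eq_zero] at this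
      exact this
  exact Polynomial.ext (by simpa using key)

theorem exact_uLin_pLin : Function.Exact (uLin f) (pLin f) := by
  intro h
  rw [pLin_eq_zero_iff]
  constructor
  · rintro ⟨q, rfl⟩
    refine ⟨-q, ?_⟩
    rw [uLin_apply]
    ring
  · rintro ⟨q, rfl⟩
    refine ⟨-q, ?_⟩
    rw [uLin_apply]
    ring

end Seq

section SeqEquiv

variable (M : Type u) [AddCommGroup M] [Module A M]

/-- The linear map out of the polynomial ring attached to a sequence. -/
noncomputable def ofSeq (x : ℕ → M) : A[X] →ₗ[A] M :=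
  Polynomial.lsum (fun i => LinearMap.toSpanSingleton A M (x i))

theorem ofSeq_monomial (x : ℕ → M) (i : ℕ) (a : A) : ofSeq M x (monomial i a) = a • x i := by
  unfold ofSeq
  rw [Polynomial.lsum_apply, sum_monomial_index]
  · rfl
  · simp

theorem ofSeq_X_pow (x : ℕ → M) (i : ℕ) : ofSeq M x ((X : A[X]) ^ i) = x i := by
  rw [X_pow_eq_monomial, ofSeq_monomial, one_smul]

/-- Linear maps out of the polynomial ring are sequences. -/
noncomputable def seqEquiv : (A[X] →ₗ[A] M) ≃ (ℕ → M) where
  toFun φ i := φ (X ^ i)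
  invFun x := ofSeq M x
  left_inv φ := by
    apply Polynomial.lhom_ext'
    intro n
    apply LinearMap.ext_ring
    rw [LinearMap.comp_apply, LinearMap.comp_apply, ofSeq_monomial, one_smul]
    change φ (X ^ n) = φ (monomial n 1)
    rw [X_pow_eq_monomial]
  right_inv x := by
    funext i
    exact ofSeq_X_pow M x i

/-- The operator `x ↦ (x i - f x (i+1))` on sequences. -/
def Tf (f : A) (x : ℕ → M) : ℕ → M := fun i => x i - f • x (i + 1)

theorem seqEquiv_comp_uLin (f : A) (φ : A[X] →ₗ[A] M) :
    seqEquiv M (φ ∘ₗ uLin f) = Tf M f (seqEquiv M φ) := by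
  funext i
  change φ (uLin f (X ^ i)) = φ (X ^ i) - f • φ (X ^ (i + 1))
  rw [uLin_apply]
  have : (1 - C f * X) * X ^ i = X ^ i - f • X ^ (i + 1) := by
    rw [Polynomial.smul_eq_C_mul, pow_succ]
    ring
  rw [this, map_sub, map_smul]

theorem bijective_comp_uLin_iff (f : A) :
    Function.Bijective (fun φ : A[X] →ₗ[A] M => φ ∘ₗ uLin f) ↔ Function.Bijective (Tf M f) := by
  have h : (seqEquiv (A := A) M) ∘ (fun φ : A[X] →ₗ[A] M => φ ∘ₗ uLin f) =
      Tf M f ∘ (seqEquiv (A := A) M) := by
    funext φ
    exact seqEquiv_comp_uLin M f φ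
  constructor
  · intro hb
    have h1 : Function.Bijective (Tf M f ∘ (seqEquiv (A := A) M)) := by
      rw [← h]
      exact (seqEquiv (A := A) M).bijective.comp hb
    exact (Function.Bijective.of_comp_iff (Tf M f) (seqEquiv (A := A) M).bijective).mp h1
  · intro hb
    have h1 : Function.Bijective
        ((seqEquiv (A := A) M) ∘ (fun φ : A[X] →ₗ[A] M => φ ∘ₗ uLin f)) := by
      rw [h]
      exact hb.comp (seqEquiv (A := A) M).bijective
    exact (Function.Bijective.of_comp_iff' (seqEquiv (A := A) M).bijective _).mp h1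

end SeqEquiv

section Main

variable (f : A) (M : Type u) [AddCommGroup M] [Module A M]

/-- The short complex `A[X] ⟶ A[X] ⟶ A_f`. -/
noncomputable def SC : ShortComplex (ModuleCat.{u} A) :=
  ShortComplex.moduleCatMk (uLin f) (pLin f)
    (LinearMap.ext fun h => (exact_uLin_pLin f).apply_apply_eq_zero h)

theorem SC_shortExact : (SC f).ShortExact :=
  ModuleCat.shortComplex_shortExact (SC f) (exact_uLin_pLin f) (uLin_injective f)
    (pLin_surjective f)

instance : Projective (SC f).X₁ := (inferInstance : Projective (ModuleCat.of A A[X]))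

instance : Projective (SC f).X₂ := (inferInstance : Projective (ModuleCat.of A A[X]))

/-- Linear maps as morphisms in the derived category. -/
noncomputable def eHom (φ : A[X] →ₗ[A] M) :
    (singleFunctor (ModuleCat.{u} A) 0).obj (ModuleCat.of A A[X]) ⟶
      (singleFunctor (ModuleCat.{u} A) 0).obj (ModuleCat.of A M) :=
  (singleFunctor (ModuleCat.{u} A) 0).map (ModuleCat.ofHom φ)

theorem eHom_bijective : Function.Bijective (eHom (A := A) M) := by
  constructor
  · intro φ₁ φ₂ h
    have h1 := (singleFunctor (ModuleCat.{u} A) 0).map_injective h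
    exact ModuleCat.hom_ext_iff.mp h1
  · intro g
    obtain ⟨g', hg'⟩ := (singleFunctor (ModuleCat.{u} A) 0).map_surjective g
    exact ⟨g'.hom, hg'⟩

theorem away_hom_vanish_iff :
    (∀ n : ℤ, Subsingleton (Dual.inD A (Localization.Away f) ⟶ (Dual.inD A M)⟦n⟧)) ↔
      Function.Bijective (Tf M f) := by
  rw [← bijective_comp_uLin_iff]
  have hS := SC_shortExact f
  have hb := bridge hS.singleTriangle hS.singleTriangle_distinguished (Dual.inD A M)
    (fun n hn g => single_hom_ne (SC f).X₁ (ModuleCat.of A M) n hn g)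
    (fun n hn g => single_hom_ne (SC f).X₂ (ModuleCat.of A M) n hn g)
  have e1 : (∀ n : ℤ, Subsingleton (Dual.inD A (Localization.Away f) ⟶ (Dual.inD A M)⟦n⟧)) ↔
      (∀ n : ℤ, ∀ g : hS.singleTriangle.obj₃ ⟶ (Dual.inD A M)⟦n⟧, g = 0) := by
    constructor
    · intro h n g
      exact (h n).elim g 0
    · intro h n
      exact ⟨fun a b => by rw [h n a, h n b]⟩
  rw [e1, hb]
  have hcomm : (fun g : hS.singleTriangle.obj₂ ⟶ Dual.inD A M => hS.singleTriangle.mor₁ ≫ g) ∘
      (eHom (A := A) M) = (eHom (A := A) M) ∘ (fun φ : A[X] →ₗ[A] M => φ ∘ₗ uLin f) := by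
    funext φ
    change (singleFunctor (ModuleCat.{u} A) 0).map (ModuleCat.ofHom (uLin f)) ≫
      (singleFunctor (ModuleCat.{u} A) 0).map (ModuleCat.ofHom φ) =
      (singleFunctor (ModuleCat.{u} A) 0).map (ModuleCat.ofHom (φ ∘ₗ uLin f))
    rw [← Functor.map_comp, ← ModuleCat.ofHom_comp]
  constructor
  · intro h
    have h1 : Function.Bijective ((eHom (A := A) M) ∘
        (fun φ : A[X] →ₗ[A] M => φ ∘ₗ uLin f)) := by
      rw [← hcomm]
      exact h.comp (eHom_bijective M)
    exact (Function.Bijective.of_comp_iff' (eHom_bijective M) _).mp h1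
  · intro h
    have h1 : Function.Bijective
        ((fun g : hS.singleTriangle.obj₂ ⟶ Dual.inD A M => hS.singleTriangle.mor₁ ≫ g) ∘
          (eHom (A := A) M)) := by
      rw [hcomm]
      exact (eHom_bijective M).comp h
    exact (Function.Bijective.of_comp_iff _ (eHom_bijective M)).mp h1

/-- Derived completeness of a module placed in degree zero, in terms of sequences. -/
theorem isDerivedComplete_iff (I : Ideal A) :
    DRing.IsDerivedComplete I (Dual.inD A M) ↔ ∀ f ∈ I, Function.Bijective (Tf M f) := by
  constructor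
  · intro h f hf
    exact (away_hom_vanish_iff f M).mp (h f hf)
  · intro h f hf
    exact (away_hom_vanish_iff f M).mpr (h f hf)

end Main

end Groth.Agent.Helper11.DC
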