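import Groth.Agent.Lib.Helper11.DCBridge

/-!
General version of the bridge lemma: for a distinguished triangle `T`, all maps from `T.obj₃` to
shifts of `Y` vanish iff precomposition with `T.mor₁` is bijective on maps to every shift of `Y`.
-/

open CategoryTheory Category Limits Pretriangulated

namespace Groth.Agent.Helper11.DC

section Abstract

variable {C : Type*} [Category C] [Preadditive C] [HasZeroObject C] [HasShift C ℤ]
  [∀ n : ℤ, (shiftFunctor C n).Additive] [Pretriangulated C]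

theorem bridge_mp (T : Triangle C) (hT : T ∈ distTriang C) (Y : C)
    (H0 : ∀ g : T.obj₃ ⟶ Y, g = 0) (H1 : ∀ g : T.obj₃ ⟶ Y⟦(1 : ℤ)⟧, g = 0) :
    Function.Bijective (fun g : T.obj₂ ⟶ Y => T.mor₁ ≫ g) := by
  constructor
  · intro g₁ g₂ h12
    have h0 : T.mor₁ ≫ (g₁ - g₂) = 0 := by
      rw [Preadditive.comp_sub]
      exact sub_eq_zero.mpr h12
    obtain ⟨g', hg'⟩ := Triangle.yoneda_exact₂ T hT (g₁ - g₂) h0
    rw [H0 g', comp_zero] at hg'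
    exact sub_eq_zero.mp hg'
  · intro h
    have hT2 := rot_of_distTriang _ (rot_of_distTriang _ hT)
    have hz : T.rotate.rotate.mor₁ ≫ h⟦(1 : ℤ)⟧' = 0 := H1 _
    obtain ⟨g, hg⟩ : ∃ g : T.obj₂⟦(1 : ℤ)⟧ ⟶ Y⟦(1 : ℤ)⟧,
        h⟦(1 : ℤ)⟧' = (-(T.mor₁⟦(1 : ℤ)⟧')) ≫ g :=
      Triangle.yoneda_exact₂ _ hT2 (h⟦(1 : ℤ)⟧') hz
    obtain ⟨k, rfl⟩ : ∃ k : T.obj₂ ⟶ Y, k⟦(1 : ℤ)⟧' = g :=
      (shiftFunctor C (1 : ℤ)).map_surjective g
    refine ⟨-k, ?_⟩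
    apply (shiftFunctor C (1 : ℤ)).map_injective
    change (shiftFunctor C (1 : ℤ)).map (T.mor₁ ≫ (-k)) = (shiftFunctor C (1 : ℤ)).map h
    rw [hg, Functor.map_comp, Functor.map_neg, Preadditive.comp_neg, Preadditive.neg_comp]

theorem bridge_mpr (T : Triangle C) (hT : T ∈ distTriang C) (Y : C)
    (hinj : Function.Injective (fun g : T.obj₂ ⟶ Y⟦(1 : ℤ)⟧ => T.mor₁ ≫ g))
    (hsurj : Function.Surjective (fun g : T.obj₂ ⟶ Y => T.mor₁ ≫ g))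
    (g : T.obj₃ ⟶ Y⟦(1 : ℤ)⟧) : g = 0 := by
  have h12 : T.mor₁ ≫ (T.mor₂ ≫ g) = T.mor₁ ≫ 0 := by
    rw [← assoc, comp_distTriang_mor_zero₁₂ _ hT, zero_comp, comp_zero]
  have h0 : T.mor₂ ≫ g = 0 := hinj h12
  obtain ⟨g', rfl⟩ := Triangle.yoneda_exact₃ T hT g h0
  obtain ⟨k, rfl⟩ := (shiftFunctor C (1 : ℤ)).map_surjective g'
  obtain ⟨k', rfl⟩ := hsurj k
  change T.mor₃ ≫ (shiftFunctor C (1 : ℤ)).map (T.mor₁ ≫ k') = 0
  rw [Functor.map_comp, ← assoc, comp_distTriang_mor_zero₃₁ _ hT, zero_comp]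

theorem bijective_comp_of_iso {P P' Z Z' : C} (u : P ⟶ P') (e : Z ≅ Z') :
    Function.Bijective (fun g : P' ⟶ Z => u ≫ g) ↔
      Function.Bijective (fun g : P' ⟶ Z' => u ≫ g) := by
  have h : (fun g : P ⟶ Z => g ≫ e.hom) ∘ (fun g : P' ⟶ Z => u ≫ g) =
      (fun g : P' ⟶ Z' => u ≫ g) ∘ (fun g : P' ⟶ Z => g ≫ e.hom) := by
    funext g
    simp
  have b1 : Function.Bijective (fun g : P ⟶ Z => g ≫ e.hom) :=
    ⟨fun a b hab => by simpa using hab, fun a => ⟨a ≫ e.inv, by simp⟩⟩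
  have b2 : Function.Bijective (fun g : P' ⟶ Z => g ≫ e.hom) :=
    ⟨fun a b hab => by simpa using hab, fun a => ⟨a ≫ e.inv, by simp⟩⟩
  constructor
  · intro hb
    have h1 : Function.Bijective ((fun g : P' ⟶ Z' => u ≫ g) ∘ (fun g : P' ⟶ Z => g ≫ e.hom)) := by
      rw [← h]
      exact b1.comp hb
    exact (Function.Bijective.of_comp_iff _ b2).mp h1
  · intro hb
    have h1 : Function.Bijective
        ((fun g : P ⟶ Z => g ≫ e.hom) ∘ (fun g : P' ⟶ Z => u ≫ g)) := by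
      rw [h]
      exact hb.comp b2
    exact (Function.Bijective.of_comp_iff' b1 _).mp h1

theorem bridge_all (T : Triangle C) (hT : T ∈ distTriang C) (Y : C) :
    (∀ n : ℤ, ∀ g : T.obj₃ ⟶ Y⟦n⟧, g = 0) ↔
      ∀ n : ℤ, Function.Bijective (fun g : T.obj₂ ⟶ Y⟦n⟧ => T.mor₁ ≫ g) := by
  constructor
  · intro H n
    refine bridge_mp T hT (Y⟦n⟧) (H n) ?_
    intro g
    let e : (Y⟦n⟧)⟦(1 : ℤ)⟧ ≅ Y⟦n + 1⟧ := ((shiftFunctorAdd' C n 1 (n + 1) rfl).app Y).symm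
    have := H (n + 1) (g ≫ e.hom)
    rw [← cancel_mono e.hom, this, zero_comp]
  · intro H n g
    let e : (Y⟦n - 1⟧)⟦(1 : ℤ)⟧ ≅ Y⟦n⟧ :=
      ((shiftFunctorAdd' C (n - 1) 1 n (by omega)).app Y).symm
    have hinj : Function.Injective (fun g : T.obj₂ ⟶ (Y⟦n - 1⟧)⟦(1 : ℤ)⟧ => T.mor₁ ≫ g) :=
      ((bijective_comp_of_iso T.mor₁ e).mpr (H n)).1
    have := bridge_mpr T hT (Y⟦n - 1⟧) hinj (H (n - 1)).2 (g ≫ e.inv)
    rw [← cancel_mono e.inv, this, zero_comp]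

end Abstract

end Groth.Agent.Helper11.DC
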