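import Groth.Prelude.Def_DRing2
import Mathlib.Algebra.Homology.DerivedCategory.HomologySequence
import Mathlib.Algebra.Homology.ShortComplex.ModuleCat

/-!
Four lemmas for the cohomology sequences of morphisms of distinguished triangles in `D(R)`.
-/

open CategoryTheory Category Limits Pretriangulated DerivedCategory

attribute [local instance] HasDerivedCategory.standard

universe u

namespace Groth.Agent.Helper11.DC

variable {R : Type u} [CommRing R]

/-- The epi four lemma in `ModuleCat`. -/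
theorem four_epi {A B C D A' B' C' D' : ModuleCat.{u} R} (f : A ⟶ B) (g : B ⟶ C) (h : C ⟶ D)
    (f' : A' ⟶ B') (g' : B' ⟶ C') (h' : C' ⟶ D') (a : A ⟶ A') (b : B ⟶ B') (c : C ⟶ C')
    (d : D ⟶ D') (c1 : f ≫ b = a ≫ f') (c2 : g ≫ c = b ≫ g') (c3 : h ≫ d = c ≫ h')
    (exC : LinearMap.range g.hom = LinearMap.ker h.hom)
    (exB' : LinearMap.range f'.hom = LinearMap.ker g'.hom) (z' : g' ≫ h' = 0)
    (ha : Epi a) (hc : Epi c) (hd : Mono d) : Epi b := by
  rw [ModuleCat.epi_iff_surjective] at ha hc ⊢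
  rw [ModuleCat.mono_iff_injective] at hd
  intro y
  obtain ⟨x, hx⟩ := hc (g'.hom y)
  have h1 : h.hom x = 0 := by
    apply hd
    have := congr($(c3).hom x)
    simp only [ModuleCat.hom_comp, LinearMap.comp_apply] at this
    rw [this, hx, map_zero]
    exact congr($(z').hom y)
  have h2 : x ∈ LinearMap.range g.hom := by
    rw [exC]
    exact h1
  obtain ⟨w, hw⟩ := h2
  have h3 : y - b.hom w ∈ LinearMap.ker g'.hom := by
    rw [LinearMap.mem_ker, map_sub]
    have := congr($(c2).hom w)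
    simp only [ModuleCat.hom_comp, LinearMap.comp_apply] at this
    rw [← this, hw, hx, sub_self]
  rw [← exB'] at h3
  obtain ⟨v', hv'⟩ := h3
  obtain ⟨v, hv⟩ := ha v'
  refine ⟨w + f.hom v, ?_⟩
  have := congr($(c1).hom v)
  simp only [ModuleCat.hom_comp, LinearMap.comp_apply] at this
  rw [map_add, this, hv, hv']
  abel

/-- The mono four lemma in `ModuleCat`. -/
theorem four_mono {A B C D A' B' C' D' : ModuleCat.{u} R} (f : A ⟶ B) (g : B ⟶ C) (h : C ⟶ D)
    (f' : A' ⟶ B') (g' : B' ⟶ C') (h' : C' ⟶ D') (a : A ⟶ A') (b : B ⟶ B') (c : C ⟶ C')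
    (d : D ⟶ D') (c1 : f ≫ b = a ≫ f') (c2 : g ≫ c = b ≫ g') (c3 : h ≫ d = c ≫ h')
    (z : f ≫ g = 0) (exC : LinearMap.range g.hom = LinearMap.ker h.hom)
    (exB' : LinearMap.range f'.hom = LinearMap.ker g'.hom)
    (ha : Epi a) (hb : Mono b) (hd : Mono d) : Mono c := by
  rw [ModuleCat.epi_iff_surjective] at ha
  rw [ModuleCat.mono_iff_injective] at hb hd ⊢
  rw [← LinearMap.ker_eq_bot, LinearMap.ker_eq_bot']
  intro x hx
  have h1 : h.hom x = 0 := by
    apply hd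
    have := congr($(c3).hom x)
    simp only [ModuleCat.hom_comp, LinearMap.comp_apply] at this
    rw [this, hx, map_zero, map_zero]
  have h2 : x ∈ LinearMap.range g.hom := by
    rw [exC]
    exact h1
  obtain ⟨w, rfl⟩ := h2
  have h3 : b.hom w ∈ LinearMap.ker g'.hom := by
    rw [LinearMap.mem_ker]
    have := congr($(c2).hom w)
    simp only [ModuleCat.hom_comp, LinearMap.comp_apply] at this
    rw [← this, hx]
  rw [← exB'] at h3
  obtain ⟨v', hv'⟩ := h3
  obtain ⟨v, rfl⟩ := ha v'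
  have h4 : w = f.hom v := by
    apply hb
    have := congr($(c1).hom v)
    simp only [ModuleCat.hom_comp, LinearMap.comp_apply] at this
    rw [this, hv']
  rw [h4]
  exact congr($(z).hom v)

/-- The cohomology functors on `D(R)`. -/
noncomputable abbrev Hf (R : Type u) [CommRing R] (n : ℤ) : Dual.D R ⥤ ModuleCat.{u} R :=
  homologyFunctor (ModuleCat.{u} R) n

section Triangles

variable {T T' : Triangle (Dual.D R)} (hT : T ∈ distTriang (Dual.D R))
  (hT' : T' ∈ distTriang (Dual.D R)) (φ : T ⟶ T')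


theorem hcomm₁ (n : ℤ) : (Hf R n).map T.mor₁ ≫ (Hf R n).map φ.hom₂ =
    (Hf R n).map φ.hom₁ ≫ (Hf R n).map T'.mor₁ := by
  rw [← Functor.map_comp, ← Functor.map_comp, φ.comm₁]

theorem hcomm₂ (n : ℤ) : (Hf R n).map T.mor₂ ≫ (Hf R n).map φ.hom₃ =
    (Hf R n).map φ.hom₂ ≫ (Hf R n).map T'.mor₂ := by
  rw [← Functor.map_comp, ← Functor.map_comp, φ.comm₂]

theorem hcomm₃ (n₀ n₁ : ℤ) (h : n₀ + 1 = n₁) :
    HomologySequence.δ T n₀ n₁ h ≫ (Hf R n₁).map φ.hom₁ =
      (Hf R n₀).map φ.hom₃ ≫ HomologySequence.δ T' n₀ n₁ h :=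
  ((homologyFunctor (ModuleCat.{u} R) 0).homologySequenceδ_naturality T T' φ n₀ n₁ h).symm

include hT hT'

theorem epi_hom₂ (n : ℤ) (h1 : Epi ((Hf R n).map φ.hom₁)) (h3 : Epi ((Hf R n).map φ.hom₃))
    (h1' : Mono ((Hf R (n + 1)).map φ.hom₁)) : Epi ((Hf R n).map φ.hom₂) :=
  four_epi _ _ _ _ _ _ _ _ _ _ (hcomm₁ φ n) (hcomm₂ φ n) (hcomm₃ φ n (n + 1) rfl)
    ((ShortComplex.moduleCat_exact_iff_range_eq_ker _).mp
      (HomologySequence.exact₃ T hT n (n + 1) rfl))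
    ((ShortComplex.moduleCat_exact_iff_range_eq_ker _).mp (HomologySequence.exact₂ T' hT' n))
    (HomologySequence.comp_δ T' hT' n (n + 1) rfl) h1 h3 h1'

theorem mono_hom₂ (n : ℤ) (h3' : Epi ((Hf R (n - 1)).map φ.hom₃)) (h1 : Mono ((Hf R n).map φ.hom₁))
    (h3 : Mono ((Hf R n).map φ.hom₃)) : Mono ((Hf R n).map φ.hom₂) :=
  four_mono _ _ _ _ _ _ _ _ _ _ (hcomm₃ φ (n - 1) n (by omega)) (hcomm₁ φ n) (hcomm₂ φ n)
    (HomologySequence.δ_comp T hT (n - 1) n (by omega))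
    ((ShortComplex.moduleCat_exact_iff_range_eq_ker _).mp (HomologySequence.exact₂ T hT n))
    ((ShortComplex.moduleCat_exact_iff_range_eq_ker _).mp
      (HomologySequence.exact₁ T' hT' (n - 1) n (by omega))) h3' h1 h3

theorem epi_hom₃ (n : ℤ) (h2 : Epi ((Hf R n).map φ.hom₂)) (h1 : Epi ((Hf R (n + 1)).map φ.hom₁))
    (h2' : Mono ((Hf R (n + 1)).map φ.hom₂)) : Epi ((Hf R n).map φ.hom₃) :=
  four_epi _ _ _ _ _ _ _ _ _ _ (hcomm₂ φ n) (hcomm₃ φ n (n + 1) rfl) (hcomm₁ φ (n + 1))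
    ((ShortComplex.moduleCat_exact_iff_range_eq_ker _).mp
      (HomologySequence.exact₁ T hT n (n + 1) rfl))
    ((ShortComplex.moduleCat_exact_iff_range_eq_ker _).mp
      (HomologySequence.exact₃ T' hT' n (n + 1) rfl))
    (HomologySequence.δ_comp T' hT' n (n + 1) rfl) h2 h1 h2'

theorem mono_hom₃ (n : ℤ) (h1 : Epi ((Hf R n).map φ.hom₁)) (h2 : Mono ((Hf R n).map φ.hom₂))
    (h1' : Mono ((Hf R (n + 1)).map φ.hom₁)) : Mono ((Hf R n).map φ.hom₃) :=
  four_mono _ _ _ _ _ _ _ _ _ _ (hcomm₁ φ n) (hcomm₂ φ n) (hcomm₃ φ n (n + 1) rfl)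
    (by rw [← Functor.map_comp, comp_distTriang_mor_zero₁₂ _ hT, Functor.map_zero])
    ((ShortComplex.moduleCat_exact_iff_range_eq_ker _).mp
      (HomologySequence.exact₃ T hT n (n + 1) rfl))
    ((ShortComplex.moduleCat_exact_iff_range_eq_ker _).mp (HomologySequence.exact₂ T' hT' n))
    h1 h2 h1'

theorem epi_hom₁ (n : ℤ) (h3' : Epi ((Hf R (n - 1)).map φ.hom₃)) (h2 : Epi ((Hf R n).map φ.hom₂))
    (h3 : Mono ((Hf R n).map φ.hom₃)) : Epi ((Hf R n).map φ.hom₁) :=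
  four_epi _ _ _ _ _ _ _ _ _ _ (hcomm₃ φ (n - 1) n (by omega)) (hcomm₁ φ n) (hcomm₂ φ n)
    ((ShortComplex.moduleCat_exact_iff_range_eq_ker _).mp (HomologySequence.exact₂ T hT n))
    ((ShortComplex.moduleCat_exact_iff_range_eq_ker _).mp
      (HomologySequence.exact₁ T' hT' (n - 1) n (by omega)))
    (by rw [← Functor.map_comp, comp_distTriang_mor_zero₁₂ _ hT', Functor.map_zero]) h3' h2 h3

theorem mono_hom₁ (n : ℤ) (h2' : Epi ((Hf R (n - 1)).map φ.hom₂))
    (h3' : Mono ((Hf R (n - 1)).map φ.hom₃)) (h2 : Mono ((Hf R n).map φ.hom₂)) :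
    Mono ((Hf R n).map φ.hom₁) :=
  four_mono _ _ _ _ _ _ _ _ _ _ (hcomm₂ φ (n - 1)) (hcomm₃ φ (n - 1) n (by omega)) (hcomm₁ φ n)
    (HomologySequence.comp_δ T hT (n - 1) n (by omega))
    ((ShortComplex.moduleCat_exact_iff_range_eq_ker _).mp
      (HomologySequence.exact₁ T hT (n - 1) n (by omega)))
    ((ShortComplex.moduleCat_exact_iff_range_eq_ker _).mp
      (HomologySequence.exact₃ T' hT' (n - 1) n (by omega))) h2' h3' h2

end Triangles

end Groth.Agent.Helper11.DC
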