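import Mathlib.Algebra.Homology.DerivedCategory.TStructure
import Mathlib.Algebra.Homology.DerivedCategory.FullyFaithful
import Mathlib.Algebra.Homology.DerivedCategory.HomologySequence

/-!
For `X ∈ D^{≤ n}` and `Y ∈ D^{≥ n}`, a morphism `X ⟶ Y` inducing zero on `Hⁿ` is zero.
-/

open CategoryTheory Category Limits Pretriangulated DerivedCategory

universe w v u

namespace Groth.Agent.Helper11.DC

variable {C : Type u} [Category.{v} C] [Abelian C] [HasDerivedCategory.{w} C]

theorem single_map_eq_zero_of_homology (n : ℤ) (N₁ N₂ : C)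
    (g : (singleFunctor C n).obj N₁ ⟶ (singleFunctor C n).obj N₂)
    (h : (homologyFunctor C n).map g = 0) : g = 0 := by
  let ι := singleFunctorCompHomologyFunctorIso C n
  obtain ⟨g', rfl⟩ := (singleFunctor C n).map_surjective g
  have hnat := ι.hom.naturality g'
  simp only [Functor.comp_map, Functor.id_map] at hnat
  rw [h, zero_comp] at hnat
  have : g' = 0 := by
    rw [← cancel_epi (ι.hom.app N₁), ← hnat, comp_zero]
  rw [this, Functor.map_zero]

/-- Decomposition of an object of `D^{≤ n}`: a map to a single object in degree `n` inducing an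
isomorphism on `Hⁿ` and through which every map to `D^{≥ n}` factors. -/
theorem exists_to_single_of_isLE (X : DerivedCategory C) (n : ℤ) [X.IsLE n] :
    ∃ (N : C) (b : X ⟶ (singleFunctor C n).obj N), IsIso ((homologyFunctor C n).map b) ∧
      ∀ (Y : DerivedCategory C) [Y.IsGE n] (g : X ⟶ Y),
        ∃ g₁ : (singleFunctor C n).obj N ⟶ Y, g = b ≫ g₁ := by
  obtain ⟨X', X'', hX', hX'', a, b, c, hT⟩ := TStructure.t.exists_triangle X (n - 1) n (by omega)
  have : X'.IsLE (n - 1) := ⟨hX'⟩
  have : X''.IsGE n := ⟨hX''⟩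
  have hX''le : X''.IsLE n := by
    rw [isLE_iff]
    intro i hi
    have hXi : IsZero ((homologyFunctor C i).obj X) := X.isZero_of_isLE n i hi
    have hX'i : IsZero ((homologyFunctor C (i + 1)).obj X') :=
      X'.isZero_of_isLE (n - 1) (i + 1) (by omega)
    have ex := HomologySequence.exact₃ (Triangle.mk a b c) hT i (i + 1) rfl
    exact ex.isZero_of_both_zeros (hXi.eq_of_src _ _) (hX'i.eq_of_tgt _ _)
  obtain ⟨N, ⟨e⟩⟩ := exists_iso_singleFunctor_obj_of_isGE_of_isLE X'' n
  have hX'n : IsZero ((homologyFunctor C n).obj X') := X'.isZero_of_isLE (n - 1) n (by omega)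
  have hX'n1 : IsZero ((homologyFunctor C (n + 1)).obj X') :=
    X'.isZero_of_isLE (n - 1) (n + 1) (by omega)
  have hb : IsIso ((homologyFunctor C n).map b) := by
    have : Mono ((homologyFunctor C n).map b) :=
      (HomologySequence.mono_homologyMap_mor₂_iff (Triangle.mk a b c) hT n).mpr
        (hX'n.eq_of_src _ _)
    have : Epi ((homologyFunctor C n).map b) :=
      (HomologySequence.epi_homologyMap_mor₂_iff (Triangle.mk a b c) hT n (n + 1) rfl).mpr
        (hX'n1.eq_of_tgt _ _)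
    exact isIso_of_mono_of_epi _
  refine ⟨N, b ≫ e.hom, ?_, ?_⟩
  · rw [Functor.map_comp]
    infer_instance
  · intro Y _ g
    have h0 : a ≫ g = 0 := TStructure.t.zero (a ≫ g) (n - 1) n (by omega)
    obtain ⟨g₁, hg₁⟩ : ∃ g₁ : X'' ⟶ Y, g = b ≫ g₁ :=
      Triangle.yoneda_exact₂ (Triangle.mk a b c) hT g h0
    refine ⟨e.inv ≫ g₁, ?_⟩
    rw [assoc, e.hom_inv_id_assoc]
    exact hg₁

/-- Dual decomposition of an object of `D^{≥ n}`. -/
theorem exists_from_single_of_isGE (Y : DerivedCategory C) (n : ℤ) [Y.IsGE n] :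
    ∃ (N : C) (a : (singleFunctor C n).obj N ⟶ Y), IsIso ((homologyFunctor C n).map a) ∧
      ∀ (X : DerivedCategory C) [X.IsLE n] (g : X ⟶ Y),
        ∃ g₁ : X ⟶ (singleFunctor C n).obj N, g = g₁ ≫ a := by
  obtain ⟨Y', Y'', hY', hY'', a, b, c, hT⟩ := TStructure.t.exists_triangle Y n (n + 1) rfl
  have : Y'.IsLE n := ⟨hY'⟩
  have : Y''.IsGE (n + 1) := ⟨hY''⟩
  have hY'ge : Y'.IsGE n := by
    rw [isGE_iff]
    intro i hi
    have hYi : IsZero ((homologyFunctor C i).obj Y) := Y.isZero_of_isGE n i hi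
    have hY''i : IsZero ((homologyFunctor C (i - 1)).obj Y'') :=
      Y''.isZero_of_isGE (n + 1) (i - 1) (by omega)
    have ex := HomologySequence.exact₁ (Triangle.mk a b c) hT (i - 1) i (by omega)
    exact ex.isZero_of_both_zeros (hY''i.eq_of_src _ _) (hYi.eq_of_tgt _ _)
  obtain ⟨N, ⟨e⟩⟩ := exists_iso_singleFunctor_obj_of_isGE_of_isLE Y' n
  have hY''n : IsZero ((homologyFunctor C n).obj Y'') := Y''.isZero_of_isGE (n + 1) n (by omega)
  have hY''n1 : IsZero ((homologyFunctor C (n - 1)).obj Y'') :=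
    Y''.isZero_of_isGE (n + 1) (n - 1) (by omega)
  have ha : IsIso ((homologyFunctor C n).map a) := by
    have : Mono ((homologyFunctor C n).map a) :=
      (HomologySequence.mono_homologyMap_mor₁_iff (Triangle.mk a b c) hT (n - 1) n
        (by omega)).mpr (hY''n1.eq_of_src _ _)
    have : Epi ((homologyFunctor C n).map a) :=
      (HomologySequence.epi_homologyMap_mor₁_iff (Triangle.mk a b c) hT n).mpr
        (hY''n.eq_of_tgt _ _)
    exact isIso_of_mono_of_epi _
  refine ⟨N, e.inv ≫ a, ?_, ?_⟩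
  · rw [Functor.map_comp]
    infer_instance
  · intro X _ g
    have h0 : g ≫ b = 0 := TStructure.t.zero (g ≫ b) n (n + 1) (by omega)
    obtain ⟨g₁, hg₁⟩ : ∃ g₁ : X ⟶ Y', g = g₁ ≫ a :=
      Triangle.coyoneda_exact₂ (Triangle.mk a b c) hT g h0
    refine ⟨g₁ ≫ e.hom, ?_⟩
    rw [assoc, e.hom_inv_id_assoc]
    exact hg₁

/-- The key faithfulness statement. -/
theorem eq_zero_of_homology_map_eq_zero (X Y : DerivedCategory C) (n : ℤ) [X.IsLE n] [Y.IsGE n]
    (g : X ⟶ Y) (h : (homologyFunctor C n).map g = 0) : g = 0 := by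
  obtain ⟨N₁, b, hb, hfac⟩ := exists_to_single_of_isLE X n
  obtain ⟨g₁, rfl⟩ := hfac Y g
  obtain ⟨N₂, a, ha, hfac'⟩ := exists_from_single_of_isGE Y n
  obtain ⟨g₂, rfl⟩ := hfac' ((singleFunctor C n).obj N₁) g₁
  have h2 : (homologyFunctor C n).map g₂ = 0 := by
    rw [Functor.map_comp, Functor.map_comp] at h
    have h' := (cancel_epi ((homologyFunctor C n).map b)).mp (h.trans comp_zero.symm)
    exact (cancel_mono ((homologyFunctor C n).map a)).mp (h'.trans zero_comp.symm)
  rw [single_map_eq_zero_of_homology n N₁ N₂ g₂ h2, zero_comp, comp_zero]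

end Groth.Agent.Helper11.DC
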