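import Groth.Agent.Lib.Helper11.DCSeq

/-!
Derived complete modules (w.r.t. a finitely generated ideal) are precomplete.
-/

universe u

namespace Groth.Agent.Helper11.DC

open scoped Pointwise

variable {A : Type u} [CommRing A]

section

variable {M : Type u} [AddCommGroup M] [Module A M]

/-- Precompleteness with respect to a filtration. -/
def Pre (F : ℕ → Submodule A M) : Prop :=
  ∀ a : ℕ → M, (∀ n, a (n + 1) - a n ∈ F n) → ∃ L : M, ∀ N, L - a N ∈ F N

theorem cauchy_of_step (J : Ideal A) (a : ℕ → M)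
    (ha : ∀ n, a (n + 1) - a n ∈ (J ^ n • ⊤ : Submodule A M)) {m n : ℕ} (hmn : m ≤ n) :
    a n - a m ∈ (J ^ m • ⊤ : Submodule A M) := by
  induction n, hmn using Nat.le_induction with
  | base => rw [sub_self]; exact Submodule.zero_mem _
  | succ n hmn ih =>
    have : a (n + 1) - a m = (a (n + 1) - a n) + (a n - a m) := by abel
    rw [this]
    exact Submodule.add_mem _
      (Submodule.smul_mono_left (Ideal.pow_le_pow_right hmn) (ha n)) ih

theorem isPrecomplete_of_pre (J : Ideal A)
    (h : Pre (fun n => (J ^ n • ⊤ : Submodule A M))) : IsPrecomplete J M := by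
  refine ⟨fun f hf => ?_⟩
  obtain ⟨L, hL⟩ := h f (fun n => by
    have := (hf (Nat.le_succ n)).symm
    rwa [SModEq.sub_mem] at this)
  refine ⟨L, fun n => ?_⟩
  rw [SModEq.sub_mem]
  have := Submodule.neg_mem _ (hL n)
  rwa [neg_sub] at this

theorem pre_of_isPrecomplete (J : Ideal A) (h : IsPrecomplete J M) :
    Pre (fun n => (J ^ n • ⊤ : Submodule A M)) := by
  intro a ha
  obtain ⟨L, hL⟩ := h.prec (f := a) (fun {m n} hmn => by
    rw [SModEq.sub_mem]
    have := Submodule.neg_mem _ (cauchy_of_step J a ha hmn)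
    rwa [neg_sub] at this)
  refine ⟨L, fun N => ?_⟩
  have := (hL N).symm
  rwa [SModEq.sub_mem] at this

theorem tf_partial (f : A) (x u : ℕ → M) (hx : Tf M f x = u) (N : ℕ) :
    x 0 - ∑ k ∈ Finset.range N, f ^ k • u k = f ^ N • x N := by
  induction N with
  | zero => simp
  | succ N ih =>
    rw [Finset.sum_range_succ, ← sub_sub, ih, ← hx]
    simp only [Tf]
    rw [smul_sub, smul_smul, pow_succ]
    abel

theorem pre_insert (f : A) (I' : Ideal A) (hf : Function.Surjective (Tf M f))
    (hI' : Pre (fun n => (I' ^ n • ⊤ : Submodule A M))) :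
    Pre (fun n => ((Ideal.span {f} ⊔ I') ^ n • ⊤ : Submodule A M)) := by
  intro a ha
  set J : Ideal A := Ideal.span {f} ⊔ I' with hJ
  have hfJ : f ∈ J := Ideal.mem_sup_left (Ideal.subset_span rfl)
  have hI'J : I' ≤ J := le_sup_right
  -- the subsequence
  have hb : ∀ n, ∃ u v : M, v ∈ (I' ^ n • ⊤ : Submodule A M) ∧
      a (2 * (n + 1)) - a (2 * n) = f ^ n • u + v := by
    intro n
    have h1 : a (2 * (n + 1)) - a (2 * n) ∈ (J ^ (n + n) • ⊤ : Submodule A M) := by
      have := cauchy_of_step J a ha (show 2 * n ≤ 2 * (n + 1) by omega)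
      have e : 2 * n = n + n := two_mul n
      rw [e] at this ⊢
      exact this
    have h2 : (J ^ (n + n) • ⊤ : Submodule A M) ≤
        (f ^ n) • (⊤ : Submodule A M) ⊔ I' ^ n • ⊤ := by
      refine (Submodule.smul_mono_left Ideal.sup_pow_add_le_pow_sup_pow).trans ?_
      rw [Submodule.sup_smul, Ideal.span_singleton_pow, Submodule.ideal_span_singleton_smul]
    obtain ⟨y, hy, z, hz, hyz⟩ := Submodule.mem_sup.mp (h2 h1)
    obtain ⟨u, -, rfl⟩ := (Submodule.mem_smul_pointwise_iff_exists _ _ _).mp hy
    exact ⟨u, z, hz, hyz.symm⟩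
  choose u v hv huv using hb
  obtain ⟨V, hV⟩ := hI' (fun n => ∑ k ∈ Finset.range n, v k) (fun n => by
    rw [Finset.sum_range_succ, add_sub_cancel_left]
    exact hv n)
  obtain ⟨x, hx⟩ := hf u
  have htel : ∀ N, a (2 * N) = a 0 + ∑ k ∈ Finset.range N, (f ^ k • u k + v k) := by
    intro N
    induction N with
    | zero => simp
    | succ N ih =>
      rw [Finset.sum_range_succ, ← add_assoc, ← ih, ← huv]
      abel
  refine ⟨a 0 + x 0 + V, fun N => ?_⟩
  have h1 : a 0 + x 0 + V - a N =
      f ^ N • x N + (V - ∑ k ∈ Finset.range N, v k) + (a (2 * N) - a N) := by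
    rw [← tf_partial f x u hx N, htel N, Finset.sum_add_distrib]
    abel
  rw [h1]
  refine Submodule.add_mem _ (Submodule.add_mem _ ?_ ?_) ?_
  · exact Submodule.smul_mem_smul (Ideal.pow_mem_pow hfJ N) trivial
  · exact Submodule.smul_mono_left (Ideal.pow_right_mono hI'J N) (hV N)
  · exact cauchy_of_step J a ha (by omega)

end

theorem pre_of_finset (s : Finset A) :
    ∀ (M : Type u) [AddCommGroup M] [Module A M], (∀ g ∈ s, Function.Surjective (Tf M g)) →
      Pre (fun n => ((Ideal.span (s : Set A)) ^ n • ⊤ : Submodule A M)) := by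
  classical
  induction s using Finset.induction_on with
  | empty =>
    intro M _ _ _
    rw [Finset.coe_empty, Ideal.span_empty]
    exact pre_of_isPrecomplete ⊥ inferInstance
  | insert f s hfs ih =>
    intro M _ _ h
    rw [Finset.coe_insert, Ideal.span_insert]
    exact pre_insert f _ (h f (Finset.mem_insert_self f s))
      (ih M fun g hg => h g (Finset.mem_insert_of_mem hg))

theorem isPrecomplete_of_tf (s : Finset A) (M : Type u) [AddCommGroup M] [Module A M]
    (h : ∀ g ∈ s, Function.Surjective (Tf M g)) : IsPrecomplete (Ideal.span (s : Set A)) M :=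
  isPrecomplete_of_pre _ (pre_of_finset s M h)

end Groth.Agent.Helper11.DC
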