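import Groth.Agent.Lib.Helper11.DCNilp
import Groth.Agent.Lib.Helper11.DCPre
import Mathlib.RingTheory.Henselian

/-!
A ring derived complete with respect to an ideal is henselian along it.
-/

universe u

namespace Groth.Agent.Helper11.DC

open Polynomial

/-- Newton's method for a precomplete ideal inside the Jacobson radical: one finds an approximate
root up to `⋂ Iⁿ`. (Adapted from Mathlib's `IsAdicComplete.henselianRing`.) -/
theorem newton_pre (R : Type*) [CommRing R] (I : Ideal R) [IsPrecomplete I R]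
    (hjac : I ≤ Ideal.jacobson ⊥) (f : R[X]) (a₀ : R) (h₁ : f.eval a₀ ∈ I)
    (h₂ : IsUnit (Ideal.Quotient.mk I (f.derivative.eval a₀))) :
    ∃ a : R, f.eval a ∈ ⨅ n : ℕ, I ^ n ∧ a - a₀ ∈ I := by
  classical
  let f' := derivative f
  let c : ℕ → R := fun n => Nat.recOn n a₀ fun _ b => b - f.eval b * Ring.inverse (f'.eval b)
  have hc : ∀ n, c (n + 1) = c n - f.eval (c n) * Ring.inverse (f'.eval (c n)) := by
    intro n
    simp only [c]
  have hc_mod : ∀ n, c n ≡ a₀ [SMOD I] := by
    intro n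
    induction n with
    | zero => rfl
    | succ n ih => ?_
    rw [hc, sub_eq_add_neg, ← add_zero a₀]
    refine ih.add ?_
    rw [SModEq.zero, Ideal.neg_mem_iff]
    refine I.mul_mem_right _ ?_
    rw [← SModEq.zero] at h₁ ⊢
    exact (ih.eval f).trans h₁
  have hf'c : ∀ n, IsUnit (f'.eval (c n)) := by
    intro n
    have := isLocalHom_of_le_jacobson_bot I hjac
    apply IsUnit.of_map (Ideal.Quotient.mk I)
    convert! h₂ using 1
    exact SModEq.def.mp ((hc_mod n).eval _)
  have hfcI : ∀ n, f.eval (c n) ∈ I ^ (n + 1) := by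
    intro n
    induction n with
    | zero => simpa only [Nat.rec_zero, zero_add, pow_one] using! h₁
    | succ n ih => ?_
    rw [← taylor_eval_sub (c n), hc, sub_eq_add_neg, sub_eq_add_neg,
      add_neg_cancel_comm]
    rw [eval_eq_sum, sum_over_range' _ _ _ (lt_add_of_pos_right _ zero_lt_two), ←
      Finset.sum_range_add_sum_Ico _ (Nat.le_add_left _ _)]
    swap
    · intro i
      rw [zero_mul]
    refine Ideal.add_mem _ ?_ ?_
    · rw [← one_add_one_eq_two, Finset.sum_range_succ, Finset.range_one, Finset.sum_singleton,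
        taylor_coeff_zero, taylor_coeff_one, pow_zero, pow_one, mul_one, mul_neg,
        mul_left_comm, Ring.mul_inverse_cancel _ (hf'c n), mul_one, add_neg_cancel]
      exact Ideal.zero_mem _
    · refine Submodule.sum_mem _ ?_
      simp only [Finset.mem_Ico]
      rintro i ⟨h2i, _⟩
      have aux : n + 2 ≤ i * (n + 1) := by trans 2 * (n + 1) <;> nlinarith only [h2i]
      refine Ideal.mul_mem_left _ _ (Ideal.pow_le_pow_right aux ?_)
      rw [pow_mul']
      exact Ideal.pow_mem_pow ((Ideal.neg_mem_iff _).2 <| Ideal.mul_mem_right _ _ ih) _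
  have aux : ∀ m n, m ≤ n → c m ≡ c n [SMOD (I ^ m • ⊤ : Ideal R)] := by
    intro m n hmn
    rw [← Ideal.one_eq_top, Ideal.smul_eq_mul, mul_one]
    obtain ⟨k, rfl⟩ := Nat.exists_eq_add_of_le hmn
    clear hmn
    induction k with
    | zero => rw [add_zero]
    | succ k ih => ?_
    rw [← add_assoc, hc, ← add_zero (c m), sub_eq_add_neg]
    refine ih.add ?_
    symm
    rw [SModEq.zero, Ideal.neg_mem_iff]
    refine Ideal.mul_mem_right _ _ (Ideal.pow_le_pow_right ?_ (hfcI _))
    rw [add_assoc]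
    exact le_self_add
  obtain ⟨a, ha⟩ := IsPrecomplete.prec' c (aux _ _)
  refine ⟨a, ?_, ?_⟩
  · rw [Ideal.mem_iInf]
    intro n
    specialize ha n
    rw [← Ideal.one_eq_top, Ideal.smul_eq_mul, mul_one] at ha
    rw [← SModEq.zero]
    refine (ha.symm.eval f).trans ?_
    rw [SModEq.zero]
    exact Ideal.pow_le_pow_right le_self_add (hfcI _)
  · specialize ha (0 + 1)
    rw [hc, pow_one, ← Ideal.one_eq_top, Ideal.smul_eq_mul, mul_one, sub_eq_add_neg] at ha
    rw [← SModEq.sub_mem, ← add_zero a₀]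
    refine ha.symm.trans (SModEq.rfl.add ?_)
    rw [SModEq.zero, Ideal.neg_mem_iff]
    exact Ideal.mul_mem_right _ _ h₁

theorem isPrecomplete_of_pow_eq_bot {R : Type*} [CommRing R] (J : Ideal R) (N : ℕ)
    (hJ : J ^ N = ⊥) : IsPrecomplete J R := by
  refine ⟨fun f hf => ⟨f N, fun n => ?_⟩⟩
  rcases le_total n N with h | h
  · exact hf h
  · have := hf h
    rw [hJ, Submodule.bot_smul, SModEq.bot] at this
    rw [this]

variable {A : Type u} [CommRing A]

theorem isUnit_one_sub_of_tf (g : A) (h : Function.Bijective (Tf A g)) : IsUnit (1 - g) := by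
  obtain ⟨z, hz⟩ := h.2 (fun _ => 1)
  have hz' : Tf A g (fun i => z (i + 1)) = fun _ => 1 := by
    funext i
    exact congrFun hz (i + 1)
  have e := h.1 (hz'.trans hz.symm)
  have e0 : z 1 = z 0 := congrFun e 0
  have h0 : z 0 - g * z 1 = 1 := congrFun hz 0
  rw [e0] at h0
  exact IsUnit.of_mul_eq_one (z 0) (by linear_combination h0)

theorem le_jacobson_of_tf (I : Ideal A) (h : ∀ g ∈ I, Function.Bijective (Tf A g)) :
    I ≤ Ideal.jacobson ⊥ := by
  intro x hx
  rw [Ideal.mem_jacobson_bot]
  intro y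
  have := isUnit_one_sub_of_tf (-(x * y)) (h _ (I.neg_mem (I.mul_mem_right y hx)))
  rwa [sub_neg_eq_add, add_comm] at this

theorem henselian_of_tf (I : Ideal A) (h : ∀ g ∈ I, Function.Bijective (Tf A g)) :
    HenselianRing A I where
  jac := le_jacobson_of_tf I h
  is_henselian := by
    classical
    intro f _ a₀ h₁ h₂
    obtain ⟨b', hb'⟩ := h₂.exists_right_inv
    obtain ⟨b, rfl⟩ := Ideal.Quotient.mk_surjective b'
    have hbI : f.derivative.eval a₀ * b - 1 ∈ I := by
      rw [← Ideal.Quotient.eq_zero_iff_mem, map_sub, map_mul, hb', map_one, sub_self]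
    let s : Finset A := {f.eval a₀, f.derivative.eval a₀ * b - 1}
    set I₀ : Ideal A := Ideal.span (s : Set A) with hI₀
    have hI₀I : I₀ ≤ I := by
      rw [hI₀, Ideal.span_le]
      intro x hx
      simp only [s, Finset.coe_insert, Finset.coe_singleton, Set.mem_insert_iff,
        Set.mem_singleton_iff] at hx
      rcases hx with rfl | rfl
      · exact h₁
      · exact hbI
    have h0 : ∀ g ∈ I₀, Function.Bijective (Tf A g) := fun g hg => h g (hI₀I hg)
    have hjac0 : I₀ ≤ Ideal.jacobson ⊥ := le_jacobson_of_tf I₀ h0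
    have hpre : IsPrecomplete I₀ A := isPrecomplete_of_tf s A (fun g hg => (h0 g (Ideal.subset_span hg)).2)
    have hnil := nilp_aux s.card A s le_rfl h0
    have h₁' : f.eval a₀ ∈ I₀ := Ideal.subset_span (by simp [s])
    have hb0 : f.derivative.eval a₀ * b - 1 ∈ I₀ := Ideal.subset_span (by simp [s])
    have h₂' : IsUnit (Ideal.Quotient.mk I₀ (f.derivative.eval a₀)) := by
      refine IsUnit.of_mul_eq_one (Ideal.Quotient.mk I₀ b) ?_
      rw [← map_mul, ← sub_eq_zero, ← map_one (Ideal.Quotient.mk I₀), ← map_sub,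
        Ideal.Quotient.eq_zero_iff_mem]
      exact hb0
    obtain ⟨a₁, ha₁, ha₁'⟩ := newton_pre A I₀ hjac0 f a₀ h₁' h₂'
    -- second step, along the nilpotent ideal `J`
    set J : Ideal A := ⨅ n : ℕ, I₀ ^ n with hJ
    have hJI₀ : J ≤ I₀ := by
      refine (iInf_le _ 1).trans ?_
      rw [pow_one]
    have : IsPrecomplete J A := isPrecomplete_of_pow_eq_bot J _ hnil
    have hunit : IsUnit (f.derivative.eval a₁) := by
      have := isLocalHom_of_le_jacobson_bot I₀ hjac0
      apply IsUnit.of_map (Ideal.Quotient.mk I₀)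
      convert! h₂' using 1
      have hm : a₁ ≡ a₀ [SMOD I₀] := by
        rw [SModEq.sub_mem]
        exact ha₁'
      exact SModEq.def.mp (hm.eval _)
    obtain ⟨a, ha, ha'⟩ := newton_pre A J (hJI₀.trans hjac0) f a₁ ha₁
      (hunit.map (Ideal.Quotient.mk J))
    refine ⟨a, ?_, ?_⟩
    · have : f.eval a ∈ J ^ (2 ^ s.card) := (Ideal.mem_iInf.mp ha) _
      rw [hnil, Ideal.mem_bot] at this
      exact this
    · have : a - a₀ = (a - a₁) + (a₁ - a₀) := by ring
      rw [this]
      exact I.add_mem (hI₀I (hJI₀ ha')) (hI₀I ha₁')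

end Groth.Agent.Helper11.DC
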