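import Groth.Agent.Lib.Helper11.DCHomK

/-!
# `Ext¹` out of a complex with projective top term, computed in `K(R)`
-/

set_option autoImplicit false
universe u

open CategoryTheory Limits DerivedCategory Pretriangulated

attribute [local instance] HasDerivedCategory.standard

namespace Groth.Agent.Helper11.DC

variable {R : Type u} [CommRing R]

section SingleHomotopy

/-- a null-homotopy with a single component, for maps into a complex concentrated in one
degree. -/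
theorem single_homotopy {M S : DRing.Cx R} (φ : M ⟶ S) (n₀ n₁ : ℤ) (h10 : n₁ + 1 = n₀)
    (hS : ∀ i : ℤ, i ≠ n₁ → IsZero (S.X i)) (H : M.X n₀ ⟶ S.X n₁)
    (hφ : φ.f n₁ = M.d n₁ n₀ ≫ H) : Nonempty (Homotopy φ 0) := by
  refine ⟨{ hom := hAux n₀ n₁ (n₁ - 1) H 0, zero := ?_, comm := ?_ }⟩
  · intro i j hij
    apply hAux_eq_zero
    · rintro ⟨rfl, rfl⟩
      exact hij h10
    · rintro ⟨rfl, rfl⟩
      exact hij (by simp)
  · intro i
    rw [HomologicalComplex.zero_f, add_zero]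
    by_cases hi : i = n₁
    · rw [hi, dNext_eq _ (show (ComplexShape.up ℤ).Rel n₁ n₀ from h10),
        prevD_eq _ (show (ComplexShape.up ℤ).Rel (n₁ - 1) n₁ from by simp),
        hAux_eq₀, hAux_eq₁ n₀ n₁ (n₁ - 1) h10, zero_comp, add_zero, hφ]
    · exact (hS i hi).eq_of_tgt _ _

theorem homotopy_component {M S : DRing.Cx R} (φ : M ⟶ S) (n₀ n₁ : ℤ) (h10 : n₁ + 1 = n₀)
    (hS : ∀ i : ℤ, i ≠ n₁ → IsZero (S.X i)) (H : Homotopy φ 0) :
    φ.f n₁ = M.d n₁ n₀ ≫ H.hom n₀ n₁ := by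
  have h1 := H.comm n₁
  rw [HomologicalComplex.zero_f, add_zero,
    dNext_eq _ (show (ComplexShape.up ℤ).Rel n₁ n₀ from h10),
    prevD_eq _ (show (ComplexShape.up ℤ).Rel (n₁ - 1) n₁ from by simp)] at h1
  have h2 : S.d (n₁ - 1) n₁ = 0 := (hS (n₁ - 1) (by omega)).eq_of_src _ _
  rw [h2, comp_zero, add_zero] at h1
  exact h1

end SingleHomotopy

section Ext1

/-- the complex with `N` in degree `-1`. -/
noncomputable abbrev S1 (N : ModuleCat.{u} R) : DRing.Cx R :=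
  (HomologicalComplex.single (ModuleCat.{u} R) (ComplexShape.up ℤ) (-1)).obj N

theorem S1_isZero (N : ModuleCat.{u} R) (i : ℤ) (hi : i ≠ -1) : IsZero ((S1 N).X i) :=
  HomologicalComplex.isZero_single_obj_X _ _ _ _ hi

/-- `N[1] ≅ S1 N` in the derived category. -/
noncomputable def ι1 (N : ModuleCat.{u} R) :
    ((DerivedCategory.singleFunctor (ModuleCat.{u} R) 0).obj N)⟦(1 : ℤ)⟧ ≅ Q.obj (S1 N) :=
  ((singleFunctors (ModuleCat.{u} R)).shiftIso 1 (-1) 0 (by norm_num)).app N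

/-- the chain map `K → N[1]` given by `f : K^{-1} → N` killing boundaries. -/
noncomputable def toS {K : DRing.Cx R} {N : ModuleCat.{u} R} (f : K.X (-1) ⟶ N)
    (hf : K.d (-2) (-1) ≫ f = 0) : K ⟶ S1 N :=
  HomologicalComplex.mkHomToSingle f (fun i hi => by
    obtain rfl : i = -2 := by
      have : i + 1 = -1 := hi
      omega
    exact hf)

theorem toS_f {K : DRing.Cx R} {N : ModuleCat.{u} R} (f : K.X (-1) ⟶ N)
    (hf : K.d (-2) (-1) ≫ f = 0) :
    (toS f hf).f (-1) = f ≫ (HomologicalComplex.singleObjXSelf (ComplexShape.up ℤ) (-1) N).inv :=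
  HomologicalComplex.mkHomToSingle_f _ _

theorem toS_surj {K : DRing.Cx R} {N : ModuleCat.{u} R} (x : K ⟶ S1 N) :
    ∃ (f : K.X (-1) ⟶ N) (hf : K.d (-2) (-1) ≫ f = 0), x = toS f hf := by
  refine ⟨x.f (-1) ≫ (HomologicalComplex.singleObjXSelf (ComplexShape.up ℤ) (-1) N).hom, ?_, ?_⟩
  · rw [← Category.assoc, ← x.comm, HomologicalComplex.single_obj_d, comp_zero, zero_comp]
  · apply HomologicalComplex.to_single_hom_ext
    rw [toS_f, Category.assoc, Iso.hom_inv_id, Category.comp_id]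

theorem comp_toS {M K : DRing.Cx R} {N : ModuleCat.{u} R} (a : M ⟶ K) (f : K.X (-1) ⟶ N)
    (hf : K.d (-2) (-1) ≫ f = 0) :
    a ≫ toS f hf = toS (a.f (-1) ≫ f) (by
      rw [← Category.assoc, ← a.comm, Category.assoc, hf, comp_zero]) := by
  apply HomologicalComplex.to_single_hom_ext
  rw [HomologicalComplex.comp_f, toS_f, toS_f, Category.assoc]

theorem toS_homotopy_iff {K : DRing.Cx R} {N : ModuleCat.{u} R} (f : K.X (-1) ⟶ N)
    (hf : K.d (-2) (-1) ≫ f = 0) :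
    Nonempty (Homotopy (toS f hf) 0) ↔ ∃ h : K.X 0 ⟶ N, K.d (-1) 0 ≫ h = f := by
  constructor
  · rintro ⟨H⟩
    have h1 := homotopy_component (toS f hf) 0 (-1) (by norm_num) (S1_isZero N) H
    rw [toS_f] at h1
    refine ⟨H.hom 0 (-1) ≫ (HomologicalComplex.singleObjXSelf (ComplexShape.up ℤ) (-1) N).hom, ?_⟩
    rw [← Category.assoc, ← h1, Category.assoc, Iso.inv_hom_id, Category.comp_id]
  · rintro ⟨h, hh⟩
    refine single_homotopy (toS f hf) 0 (-1) (by norm_num) (S1_isZero N)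
      (h ≫ (HomologicalComplex.singleObjXSelf (ComplexShape.up ℤ) (-1) N).inv) ?_
    rw [toS_f, ← Category.assoc, hh]

/-- every class in `Ext¹(K, N)` comes from a chain map. -/
theorem ext1_surj (K : DRing.Cx R) (hK : ∀ i : ℤ, 0 < i → IsZero (K.X i))
    (hK0 : Module.Projective R (K.X 0)) (N : ModuleCat.{u} R) (ξ : Q.obj K ⟶ Q.obj (S1 N)) :
    ∃ (f : K.X (-1) ⟶ N) (hf : K.d (-2) (-1) ≫ f = 0), ξ = Q.map (toS f hf) := by
  obtain ⟨x, rfl⟩ := hom_surj K (S1 N) hK hK0 (fun i hi => S1_isZero N i (by omega)) ξ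
  obtain ⟨f, hf, rfl⟩ := toS_surj x
  exact ⟨f, hf, rfl⟩

theorem ext1_zero_of_factor {K : DRing.Cx R} {N : ModuleCat.{u} R} (f : K.X (-1) ⟶ N)
    (hf : K.d (-2) (-1) ≫ f = 0) (h : K.X 0 ⟶ N) (hh : K.d (-1) 0 ≫ h = f) :
    Q.map (toS f hf) = 0 := by
  obtain ⟨H⟩ := (toS_homotopy_iff f hf).mpr ⟨h, hh⟩
  rw [Q_map_eq_of_homotopy _ H, Functor.map_zero]

theorem ext1_zero_iff (K : DRing.Cx R) (hK : ∀ i : ℤ, 0 < i → IsZero (K.X i))
    (hK0 : Module.Projective R (K.X 0)) {N : ModuleCat.{u} R} (f : K.X (-1) ⟶ N)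
    (hf : K.d (-2) (-1) ≫ f = 0) :
    Q.map (toS f hf) = 0 ↔ ∃ h : K.X 0 ⟶ N, K.d (-1) 0 ≫ h = f := by
  constructor
  · intro h0
    exact (toS_homotopy_iff f hf).mp
      (hom_inj K (S1 N) hK hK0 (fun i hi => S1_isZero N i (by omega)) _ h0)
  · rintro ⟨h, hh⟩
    exact ext1_zero_of_factor f hf h hh

end Ext1

end Groth.Agent.Helper11.DC
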