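import Groth.Agent.Lib.Helper11.DCHomK2
import Groth.Agent.Lib.Helper11.DCTwoRep
import Mathlib.Algebra.Homology.DerivedCategory.Linear

/-!
# Two-term representatives with free top term; linearity of `toS`
-/

set_option autoImplicit false
universe u

open CategoryTheory Limits DerivedCategory Pretriangulated

attribute [local instance] HasDerivedCategory.standard

namespace Groth.Agent.Helper11.DC

variable {R : Type u} [CommRing R]

theorem exists_twoTerm_free (K : Dual.D R)
    (hK : ∀ i : ℤ, i ≠ -1 → i ≠ 0 → IsZero ((homologyFunctor (ModuleCat.{u} R) i).obj K)) :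
    ∃ E : DRing.Cx R, DRing.VanishesOutside E (-1) 0 ∧ Module.Free R (E.X 0) ∧
      Nonempty (Q.obj E ≅ K) := by
  let H := (homologyFunctor (ModuleCat.{u} R) 0).obj K
  let P : ModuleCat.{u} R := ModuleCat.of R (H →₀ R)
  let p : P ⟶ H := ModuleCat.ofHom (Finsupp.linearCombination R (id : H → H))
  have hp : Epi p := by
    rw [ModuleCat.epi_iff_surjective]
    exact Finsupp.linearCombination_id_surjective R H
  obtain ⟨E', d, ⟨e⟩, -⟩ := exists_twoTerm_rep K hK P p
  refine ⟨twoCx d, twoCx_vanishes d, ?_, ⟨e.symm⟩⟩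
  exact Module.Free.of_equiv (twoCxZeroEquiv d).symm

theorem smul_toS {K : DRing.Cx R} {N : ModuleCat.{u} R} (a : R) (f : K.X (-1) ⟶ N)
    (hf : K.d (-2) (-1) ≫ f = 0) :
    a • toS f hf = toS (a • f) (by rw [Linear.comp_smul, hf, smul_zero]) := by
  apply HomologicalComplex.to_single_hom_ext
  rw [HomologicalComplex.smul_f_apply, toS_f, toS_f, Linear.smul_comp]

end Groth.Agent.Helper11.DC
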