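import Groth.Agent.Lib.Helper11.DCSeq

/-!
For a ring derived complete w.r.t. an ideal generated by `r` elements, `⋂ Iⁿ` is nilpotent of
order `2 ^ r`.
-/

universe u

namespace Groth.Agent.Helper11.DC

open scoped Pointwise

variable {A : Type u} [CommRing A]

/-- The heart of S7043, in terms of the sequence criterion. -/
theorem iInf_smul_iInf_eq_bot (f : A) (M : Type u) [AddCommGroup M] [Module A M]
    (hT : Function.Injective (Tf M f)) :
    (⨅ n : ℕ, Ideal.span {f ^ n}) • (⨅ n : ℕ, (Ideal.span {f ^ n}) • (⊤ : Submodule A M)) =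
      (⊥ : Submodule A M) := by
  rw [eq_bot_iff, Submodule.smul_le]
  intro a ha m hm
  rw [Submodule.mem_bot]
  have ha' : ∀ n : ℕ, ∃ b, a = f ^ n * b := fun n => by
    have := (Ideal.mem_iInf.mp ha) n
    rw [Ideal.mem_span_singleton] at this
    exact this
  have hm' : ∀ n : ℕ, ∃ m' : M, m = f ^ n • m' := fun n => by
    have := (Submodule.mem_iInf _).mp hm n
    rw [Submodule.ideal_span_singleton_smul] at this
    obtain ⟨m', -, h⟩ := (Submodule.mem_smul_pointwise_iff_exists _ _ _).mp this
    exact ⟨m', h.symm⟩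
  choose b hb using ha'
  choose m' hm'' using hm'
  have key : Tf M f (fun i => (b (2 * i) * f ^ i) • m) = 0 := by
    funext i
    simp only [Tf, Pi.zero_apply]
    have h1 : f ^ (2 * i) * b (2 * i) = f ^ (2 * i) * (f ^ 2 * b (2 * (i + 1))) := by
      rw [← hb (2 * i), ← mul_assoc, ← pow_add, show 2 * i + 2 = 2 * (i + 1) by ring, ← hb]
    have h2 : (b (2 * i) * f ^ i) • m - f • (b (2 * (i + 1)) * f ^ (i + 1)) • m =
        ((b (2 * i) * f ^ i - f * (b (2 * (i + 1)) * f ^ (i + 1))) * f ^ (2 * i)) • m' (2 * i) := by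
      rw [mul_smul _ (f ^ (2 * i)) (m' (2 * i)), ← hm'' (2 * i), sub_smul, mul_smul f]
    rw [h2]
    have h3 : (b (2 * i) * f ^ i - f * (b (2 * (i + 1)) * f ^ (i + 1))) * f ^ (2 * i) = 0 := by
      linear_combination (f ^ i) * h1
    rw [h3, zero_smul]
  have h0 := congrFun ((Tf_injective_iff f).mp hT _ key) 0
  have hb0 : a = b 0 := by
    have := hb 0
    rwa [pow_zero, one_mul] at this
  simpa [hb0] using h0

/-- Ring case: `(⋂ fⁿA)² = 0`. -/
theorem iInf_mul_iInf_eq_bot (f : A) (hT : Function.Injective (Tf A f)) :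
    (⨅ n : ℕ, Ideal.span {f ^ n}) * (⨅ n : ℕ, Ideal.span {f ^ n}) = (⊥ : Ideal A) := by
  have := iInf_smul_iInf_eq_bot f A hT
  simpa using this

theorem tf_congr_submodule {M : Type u} [AddCommGroup M] [Module A M] (P Q : Submodule A M)
    (h : P = Q) (g : A) (hb : Function.Bijective (Tf (M ⧸ P) g)) :
    Function.Bijective (Tf (M ⧸ Q) g) := by
  subst h
  exact hb

/-- The quotient ring `A/(c)` satisfies the sequence criterion (over itself) for images of
elements for which `A` does. -/
theorem tf_quot_ring (c g : A) (h : Function.Bijective (Tf A g)) :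
    Function.Bijective (Tf (A ⧸ Ideal.span {c}) (Ideal.Quotient.mk (Ideal.span {c}) g)) := by
  let u : A →ₗ[A] A := c • LinearMap.id
  have h1 := dc_coker g u h h
  have hr : LinearMap.range u = (Ideal.span {c} : Submodule A A) := by
    ext x
    simp only [LinearMap.mem_range, u, LinearMap.smul_apply, LinearMap.id_apply, smul_eq_mul]
    rw [Ideal.mem_span_singleton']
    constructor
    · rintro ⟨y, rfl⟩
      exact ⟨y, mul_comm _ _⟩
    · rintro ⟨y, rfl⟩
      exact ⟨y, mul_comm _ _⟩
  have h2 := tf_congr_submodule _ _ hr g h1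
  have e : Tf (A ⧸ Ideal.span {c}) (Ideal.Quotient.mk (Ideal.span {c}) g) =
      Tf (A ⧸ (Ideal.span {c} : Submodule A A)) g := by
    funext x i
    simp only [Tf]
    congr 1
  rw [e]
  exact h2

theorem nilp_aux (r : ℕ) : ∀ (A : Type u) [CommRing A] (s : Finset A), s.card ≤ r →
    (∀ g ∈ Ideal.span (s : Set A), Function.Bijective (Tf A g)) →
    (⨅ n : ℕ, (Ideal.span (s : Set A)) ^ n) ^ (2 ^ r) = ⊥ := by
  classical
  induction r with
  | zero =>
    intro A _ s hs _
    have : s = ∅ := Finset.card_eq_zero.mp (Nat.le_zero.mp hs)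
    subst this
    rw [eq_bot_iff, pow_zero, pow_one]
    refine (iInf_le _ 1).trans ?_
    simp
  | succ r ih =>
    intro A _ s hs h
    by_cases hse : s = ∅
    · subst hse
      rw [eq_bot_iff]
      refine (Ideal.pow_le_self (by positivity)).trans ((iInf_le _ 1).trans ?_)
      simp
    obtain ⟨f, hf⟩ := Finset.nonempty_iff_ne_empty.mpr hse
    set s' := s.erase f with hs'
    have hcard : s'.card ≤ r := by
      rw [hs', Finset.card_erase_of_mem hf]
      omega
    have hI : Ideal.span (s : Set A) = Ideal.span {f} ⊔ Ideal.span (s' : Set A) := by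
      rw [← Ideal.span_insert, ← Finset.coe_insert, hs', Finset.insert_erase hf]
    have hfI : f ∈ Ideal.span (s : Set A) := Ideal.subset_span hf
    have hs'I : Ideal.span (s' : Set A) ≤ Ideal.span (s : Set A) :=
      Ideal.span_mono (Finset.coe_subset.mpr (Finset.erase_subset f s))
    -- main claim
    have main : (⨅ n : ℕ, (Ideal.span (s : Set A)) ^ n) ^ (2 ^ r) ≤ ⨅ n : ℕ, Ideal.span {f ^ n} := by
      refine le_iInf fun n => ?_
      set K : Ideal A := Ideal.span {f ^ n} with hK
      let π := Ideal.Quotient.mk K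
      have hπ : Function.Surjective π := Ideal.Quotient.mk_surjective
      set t : Finset (A ⧸ K) := s'.image π with ht
      have htcard : t.card ≤ r := Finset.card_image_le.trans hcard
      have htspan : Ideal.span (t : Set (A ⧸ K)) = (Ideal.span (s' : Set A)).map π := by
        rw [ht, Finset.coe_image, Ideal.map_span]
      have hB : ∀ g ∈ Ideal.span (t : Set (A ⧸ K)), Function.Bijective (Tf (A ⧸ K) g) := by
        intro g hg
        rw [htspan, Ideal.mem_map_iff_of_surjective π hπ] at hg
        obtain ⟨g', hg', rfl⟩ := hg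
        exact tf_quot_ring (f ^ n) g' (h g' (hs'I hg'))
      have h1 := ih (A ⧸ K) t htcard hB
      -- image of J lies in the intersection
      have h2 : (⨅ m : ℕ, (Ideal.span (s : Set A)) ^ m).map π ≤
          ⨅ m : ℕ, (Ideal.span (t : Set (A ⧸ K))) ^ m := by
        refine le_iInf fun m => ?_
        rw [Ideal.map_le_iff_le_comap]
        intro x hx
        have hx' : x ∈ (Ideal.span (s : Set A)) ^ (n + m) := (Ideal.mem_iInf.mp hx) (n + m)
        rw [hI] at hx'
        have hx'' := Ideal.sup_pow_add_le_pow_sup_pow hx'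
        obtain ⟨y, hy, z, hz, rfl⟩ := Submodule.mem_sup.mp hx''
        rw [Ideal.mem_comap, map_add]
        have hy0 : π y = 0 := by
          rw [Ideal.Quotient.eq_zero_iff_mem, hK, ← Ideal.span_singleton_pow]
          exact hy
        rw [hy0, zero_add, htspan, ← Ideal.map_pow]
        exact Ideal.mem_map_of_mem π hz
      have h3 : ((⨅ m : ℕ, (Ideal.span (s : Set A)) ^ m) ^ (2 ^ r)).map π = ⊥ := by
        rw [eq_bot_iff, Ideal.map_pow, ← h1]
        exact Ideal.pow_right_mono h2 _
      rw [Ideal.map_eq_bot_iff_le_ker, Ideal.mk_ker] at h3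
      exact h3
    have hsq := iInf_mul_iInf_eq_bot f (h f hfI).1
    rw [eq_bot_iff, pow_succ, pow_mul, pow_two, ← hsq]
    exact Ideal.mul_mono main main

end Groth.Agent.Helper11.DC
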