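import Groth.Agent.Lib.Helper24.DProd2
import Groth.Agent.Lib.Helper11.KPF2
import Mathlib.Algebra.Homology.DerivedCategory.KProjective

/-!
# Arbitrary products in `D(A)` (helper11)

The image in `D(A)` of the termwise product of a family of complexes of `A`-modules is a
product (no K-injectivity needed: maps from a K-projective source are computed in `K(A)`).
-/

set_option autoImplicit false

open CategoryTheory CategoryTheory.Limits DerivedCategory

universe u

attribute [local instance] HasDerivedCategory.standard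

namespace Groth.Agent.Helper11.DCP

open Groth.Agent.Helper24.DProd

variable {A : Type u} [CommRing A]

/-- every morphism in `D(A)` out of a K-projective complex comes from a chain map -/
theorem exists_map_eq_kp (P L : DRing.Cx A) [P.IsKProjective] (φ : Q.obj P ⟶ Q.obj L) :
    ∃ f : P ⟶ L, Q.map f = φ := by
  obtain ⟨g, hg⟩ := (CochainComplex.IsKProjective.Qh_map_bijective P
    ((HomotopyCategory.quotient (ModuleCat.{u} A) (ComplexShape.up ℤ)).obj L)).2
      ((quotientCompQhIso (ModuleCat.{u} A)).hom.app P ≫ φ ≫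
        (quotientCompQhIso (ModuleCat.{u} A)).inv.app L)
  obtain ⟨f, rfl⟩ := (HomotopyCategory.quotient (ModuleCat.{u} A) (ComplexShape.up ℤ)).map_surjective g
  refine ⟨f, ?_⟩
  have h1 := (quotientCompQhIso (ModuleCat.{u} A)).hom.naturality f
  simp only [Functor.comp_map] at h1
  rw [hg] at h1
  simp only [Category.assoc, Iso.inv_hom_id_app, Category.comp_id] at h1
  exact ((cancel_epi _).1 h1).symm

/-- chain maps out of a K-projective complex with the same image in `D(A)` are homotopic -/
theorem nonempty_homotopy_of_map_eq_kp (P L : DRing.Cx A) [P.IsKProjective] (f g : P ⟶ L)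
    (h : Q.map f = Q.map g) : Nonempty (Homotopy f g) := by
  refine ⟨HomotopyCategory.homotopyOfEq f g ?_⟩
  apply (CochainComplex.IsKProjective.Qh_map_bijective P
    ((HomotopyCategory.quotient (ModuleCat.{u} A) (ComplexShape.up ℤ)).obj L)).1
  have h1 := (quotientCompQhIso (ModuleCat.{u} A)).hom.naturality f
  have h2 := (quotientCompQhIso (ModuleCat.{u} A)).hom.naturality g
  simp only [Functor.comp_map] at h1 h2
  rw [← cancel_mono ((quotientCompQhIso (ModuleCat.{u} A)).hom.app L), h1, h2, h]

/-- every object of `D(A)` is the image of a K-projective complex -/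
theorem exists_kprojective_iso (X : Dual.D A) :
    ∃ (P : DRing.Cx A) (_ : P.IsKProjective), Nonempty (Q.obj P ≅ X) := by
  obtain ⟨T, F, hT, _, _, hF⟩ :=
    Groth.Agent.Helper11.KPF.exists_kprojective_kflat_resolution (Q.objPreimage X)
  haveI : IsIso (Q.map F) := by
    rw [DerivedCategory.isIso_Q_map_iff_quasiIso]
    exact hF
  exact ⟨T, hT, ⟨asIso (Q.map F) ≪≫ Q.objObjPreimageIso X⟩⟩

variable {ι : Type} (I : ι → DRing.Cx A)

/-- the image in `D(A)` of the termwise product of complexes of modules is a product -/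
noncomputable def isLimitFanKP :
    IsLimit (Fan.mk (Q.obj (prodCx I)) (fun n => Q.map (prodπ I n))) := by
  have hex : ∀ (s : Fan (fun n => (Q.obj (I n) : Dual.D A))), ∃ l : s.pt ⟶ Q.obj (prodCx I),
      (∀ n, l ≫ Q.map (prodπ I n) = s.proj n) ∧
      ∀ m : s.pt ⟶ Q.obj (prodCx I), (∀ n, m ≫ Q.map (prodπ I n) = s.proj n) → m = l := by
    intro s
    obtain ⟨K, hK, ⟨e⟩⟩ := exists_kprojective_iso s.pt
    choose f hf using fun n => exists_map_eq_kp K (I n) (e.hom ≫ s.proj n)
    refine ⟨e.inv ≫ Q.map (prodLift f), fun n => ?_, fun m hm => ?_⟩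
    · rw [Category.assoc, ← Functor.map_comp, prodLift_π, hf, Iso.inv_hom_id_assoc]
    · obtain ⟨φ, hφ⟩ := exists_map_eq_kp K (prodCx I) (e.hom ≫ m)
      have hh : ∀ n, Nonempty (Homotopy (φ ≫ prodπ I n) (prodLift f ≫ prodπ I n)) := by
        intro n
        apply nonempty_homotopy_of_map_eq_kp
        rw [Functor.map_comp, hφ, prodLift_π, hf, Category.assoc, hm]
      have h1 : Q.map φ = Q.map (prodLift f) :=
        map_eq_of_homotopy _ _ (prodHomotopy _ _ (fun n => (hh n).some))
      rw [← h1, hφ, Iso.inv_hom_id_assoc]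
  exact Fan.IsLimit.mk _ (fun s => (hex s).choose) (fun s n => (hex s).choose_spec.1 n)
    (fun s m hm => (hex s).choose_spec.2 m hm)

/-- countable powers exist in `D(A)`, in elementary form -/
theorem exists_pow (K : Dual.D A) :
    ∃ (P : Dual.D A) (π : ℕ → (P ⟶ K)),
      ∀ Y : Dual.D A, Function.Bijective (fun (g : Y ⟶ P) (i : ℕ) => g ≫ π i) := by
  let K' := Q.objPreimage K
  let e : Q.obj K' ≅ K := Q.objObjPreimageIso K
  let I : ℕ → DRing.Cx A := fun _ => K'
  have hl := isLimitFanKP I
  refine ⟨Q.obj (prodCx I), fun i => Q.map (prodπ I i) ≫ e.hom, fun Y => ⟨?_, ?_⟩⟩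
  · intro g g' h
    refine Fan.IsLimit.hom_ext hl g g' (fun i => ?_)
    have := congrFun h i
    simp only [← Category.assoc] at this
    exact (cancel_mono e.hom).mp this
  · intro x
    refine ⟨Fan.IsLimit.lift hl (fun i => x i ≫ e.inv), ?_⟩
    funext i
    have := Fan.IsLimit.fac hl (fun i => x i ≫ e.inv) i
    simp only [Fan.mk_pt, Fan.proj, Fan.mk_π_app] at this
    show Fan.IsLimit.lift hl (fun i => x i ≫ e.inv) ≫ Q.map (prodπ I i) ≫ e.hom = x i
    rw [← Category.assoc, this, Category.assoc, Iso.inv_hom_id, Category.comp_id]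

end Groth.Agent.Helper11.DCP
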