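import Groth.Agent.Lib.Helper11.DCP1
import Mathlib.CategoryTheory.Linear.LinearFunctor

/-!
# Countable powers, the operator `1 - f·shift`, and `f`-local objects (helper11)

Generic (A-linear category) part of the theory of derived completion along an element.
-/

set_option autoImplicit false

open CategoryTheory CategoryTheory.Limits

universe u v w

namespace Groth.Agent.Helper11.DCP

section Algebra

variable {A : Type u} [CommRing A] {M : Type v} [AddCommGroup M] [Module A M]

/-- universe polymorphic version of `DC.Tf`: `x ↦ (x i - f x (i+1))` -/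
def Tg (f : A) (x : ℕ → M) : ℕ → M := fun i => x i - f • x (i + 1)

theorem tg_zero (f : A) : Tg (M := M) f 0 = 0 := by
  funext i
  simp [Tg]

theorem tg_sub (f : A) (x y : ℕ → M) : Tg f (x - y) = Tg f x - Tg f y := by
  funext i
  simp only [Tg, Pi.sub_apply, smul_sub]
  abel

theorem tg_injective_of_ker (f : A) (h : ∀ x : ℕ → M, Tg f x = 0 → x = 0) :
    Function.Injective (Tg (M := M) f) := by
  intro x y hxy
  have : Tg f (x - y) = 0 := by rw [tg_sub, hxy, sub_self]
  exact sub_eq_zero.mp (h _ this)

/-- the shift of a sequence -/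
def sS (x : ℕ → M) : ℕ → M := fun i => x (i + 1)

theorem tg_coker_inj (f : A) (x y : ℕ → M) (h : f • x = Tg f y) : x = Tg f (x + sS y) := by
  funext i
  have h1 := congrFun h (i + 1)
  simp only [Tg, Pi.smul_apply, Pi.add_apply, sS, smul_add] at h1 ⊢
  rw [h1]
  abel

theorem tg_coker_surj (f : A) (x : ℕ → M) : x - f • sS x = Tg f x := rfl

theorem tg_ker_inj (f : A) (x : ℕ → M) (h1 : Tg f x = 0) (h2 : f • x = 0) : x = 0 := by
  funext i
  have a := congrFun h1 i
  have b := congrFun h2 (i + 1)
  simp only [Tg, Pi.smul_apply, Pi.zero_apply] at a b ⊢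
  rw [b, sub_zero] at a
  exact a

theorem tg_ker_surj (f : A) (x : ℕ → M) (h : Tg f x = 0) :
    Tg f (sS x) = 0 ∧ x = f • sS x := by
  constructor
  · funext i
    exact congrFun h (i + 1)
  · funext i
    have a := congrFun h i
    simp only [Tg, Pi.zero_apply, sub_eq_zero] at a
    exact a

theorem tg_map_equiv {N : Type w} [AddCommGroup N] [Module A N] (e : M ≃ₗ[A] N) (f : A)
    (x : ℕ → M) : Tg f (fun i => e (x i)) = fun i => e (Tg f x i) := by
  funext i
  simp only [Tg, map_sub, map_smul]

theorem tg_conj {N : Type w} [AddCommGroup N] [Module A N] (e : M ≃ₗ[A] N) (f : A)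
    (h : Function.Bijective (Tg (M := M) f)) : Function.Bijective (Tg (M := N) f) := by
  constructor
  · intro x y hxy
    have h1 : Tg f (fun i => e.symm (x i)) = Tg f (fun i => e.symm (y i)) := by
      rw [tg_map_equiv, tg_map_equiv, hxy]
    have h2 := h.1 h1
    funext i
    have := congrFun h2 i
    exact e.symm.injective this
  · intro y
    obtain ⟨x, hx⟩ := h.2 (fun i => e.symm (y i))
    refine ⟨fun i => e (x i), ?_⟩
    rw [tg_map_equiv, hx]
    funext i
    exact e.apply_symm_apply (y i)

section LocalAlg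

variable (f : A) (hf : Function.Bijective (fun m : M => f • m))

/-- division by `f` -/
noncomputable def finv (m : M) : M := (hf.2 m).choose

theorem smul_finv (m : M) : f • finv f hf m = m := (hf.2 m).choose_spec

/-- the sequence `m, m/f, m/f², …` -/
noncomputable def divSeq (m : M) : ℕ → M
  | 0 => m
  | (i + 1) => finv f hf (divSeq m i)

theorem tg_divSeq (m : M) : Tg f (divSeq f hf m) = 0 := by
  funext i
  show divSeq f hf m i - f • finv f hf (divSeq f hf m i) = 0
  rw [smul_finv, sub_self]

/-- a solution of `x i - f x (i+1) = y i` -/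
noncomputable def solSeq (y : ℕ → M) : ℕ → M
  | 0 => 0
  | (i + 1) => finv f hf (solSeq y i - y i)

theorem tg_solSeq (y : ℕ → M) : Tg f (solSeq f hf y) = y := by
  funext i
  show solSeq f hf y i - f • finv f hf (solSeq f hf y i - y i) = y i
  rw [smul_finv]
  abel

include hf in
theorem tg_surjective_of_bijective : Function.Surjective (Tg (M := M) f) :=
  fun y => ⟨solSeq f hf y, tg_solSeq f hf y⟩

include hf in
theorem tg_ker_unique (x : ℕ → M) (hx : Tg f x = 0) (h0 : x 0 = 0) : x = 0 := by
  funext i
  induction i with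
  | zero => exact h0
  | succ i ih =>
    have a := congrFun hx i
    simp only [Tg, Pi.zero_apply] at a ih ⊢
    rw [ih, zero_sub, neg_eq_zero] at a
    exact hf.1 (show f • x (i + 1) = f • 0 from a.trans (smul_zero f).symm)

include hf in
theorem eq_zero_of_tg_injective (hinj : Function.Injective (Tg (M := M) f)) (m : M) : m = 0 := by
  have h1 : divSeq f hf m = 0 := hinj ((tg_divSeq f hf m).trans (tg_zero f).symm)
  exact congrFun h1 0

end LocalAlg

theorem inj_conj {α β : Type*} (e : α → β) (he : Function.Bijective e) (t : α → α) (T : β → β)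
    (h : ∀ a, e (t a) = T (e a)) : Function.Injective t ↔ Function.Injective T := by
  have hc : e ∘ t = T ∘ e := funext h
  rw [← Function.Injective.of_comp_iff he.1 t, hc, Function.Injective.of_comp_iff' T he]

theorem surj_conj {α β : Type*} (e : α → β) (he : Function.Bijective e) (t : α → α) (T : β → β)
    (h : ∀ a, e (t a) = T (e a)) : Function.Surjective t ↔ Function.Surjective T := by
  have hc : e ∘ t = T ∘ e := funext h
  rw [← Function.Surjective.of_comp_iff' he t, hc, Function.Surjective.of_comp_iff T he.2]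

end Algebra

section Fan

variable {A : Type u} [CommRing A] {C : Type v} [Category.{w} C] [Preadditive C] [Linear A C]

/-- `P` with projections `π` is a countable power of `K` (elementary form) -/
def IsPow {K P : C} (π : ℕ → (P ⟶ K)) : Prop :=
  ∀ Y : C, Function.Bijective (fun (g : Y ⟶ P) (i : ℕ) => g ≫ π i)

variable {K P : C} {π : ℕ → (P ⟶ K)} (hπ : IsPow π)

/-- lifting to a power -/
noncomputable def powLift {Y : C} (x : ℕ → (Y ⟶ K)) : Y ⟶ P := ((hπ Y).2 x).choose

theorem powLift_π {Y : C} (x : ℕ → (Y ⟶ K)) (i : ℕ) : powLift hπ x ≫ π i = x i :=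
  congrFun ((hπ Y).2 x).choose_spec i

include hπ in
theorem pow_ext {Y : C} (g g' : Y ⟶ P) (h : ∀ i, g ≫ π i = g' ≫ π i) : g = g' :=
  (hπ Y).1 (funext h)

/-- the shift endomorphism of a power -/
noncomputable def powSh : P ⟶ P := powLift hπ (fun i => π (i + 1))

/-- `1 - f·shift` on a power -/
noncomputable def theta (f : A) : P ⟶ P := 𝟙 P - f • powSh hπ

theorem theta_π (f : A) (i : ℕ) : theta hπ f ≫ π i = π i - f • π (i + 1) := by
  rw [theta, Preadditive.sub_comp, Category.id_comp, Linear.smul_comp, powSh, powLift_π]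

theorem comp_theta_π (f : A) {Y : C} (g : Y ⟶ P) :
    (fun i => (g ≫ theta hπ f) ≫ π i) = Tg f (fun i => g ≫ π i) := by
  funext i
  rw [Category.assoc, theta_π, Preadditive.comp_sub, Linear.comp_smul]
  rfl

theorem injective_comp_theta_iff (f : A) (Y : C) :
    Function.Injective (fun g : Y ⟶ P => g ≫ theta hπ f) ↔
      Function.Injective (Tg (M := (Y ⟶ K)) f) :=
  inj_conj (fun (g : Y ⟶ P) (i : ℕ) => g ≫ π i) (hπ Y) _ _
    (fun g => comp_theta_π hπ f g)

theorem surjective_comp_theta_iff (f : A) (Y : C) :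
    Function.Surjective (fun g : Y ⟶ P => g ≫ theta hπ f) ↔
      Function.Surjective (Tg (M := (Y ⟶ K)) f) :=
  surj_conj (fun (g : Y ⟶ P) (i : ℕ) => g ≫ π i) (hπ Y) _ _
    (fun g => comp_theta_π hπ f g)

theorem map_theta {C' : Type*} [Category C'] [Preadditive C'] [Linear A C'] (G : C ⥤ C')
    [G.Additive] [G.Linear A] (hπ' : IsPow (fun i => G.map (π i))) (f : A) :
    G.map (theta hπ f) = theta hπ' f := by
  apply pow_ext hπ'
  intro i
  rw [theta_π hπ', ← G.map_comp, theta_π hπ, G.map_sub, G.map_smul]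

noncomputable def isLimitOfIsPow : IsLimit (Fan.mk P π) :=
  Fan.IsLimit.mk _ (fun s => powLift hπ (fun i => s.proj i))
    (fun s i => powLift_π hπ _ i)
    (fun s m hm => pow_ext hπ _ _ (fun i => by rw [powLift_π]; exact hm i))

theorem isPow_of_isLimit {K P : C} (π : ℕ → (P ⟶ K)) (hl : IsLimit (Fan.mk P π)) : IsPow π := by
  intro Y
  constructor
  · intro g g' h
    exact Fan.IsLimit.hom_ext hl g g' (fun i => congrFun h i)
  · intro x
    refine ⟨Fan.IsLimit.lift hl x, ?_⟩
    funext i
    exact Fan.IsLimit.fac hl x i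

include hπ in
theorem subsingleton_hom_pow (V : C) (h : Subsingleton (V ⟶ K)) : Subsingleton (V ⟶ P) :=
  ⟨fun a b => pow_ext hπ a b (fun _ => Subsingleton.elim _ _)⟩

/-- `f` acts invertibly on `X` -/
def FLocal (f : A) (X : C) : Prop := IsIso (f • 𝟙 X)

theorem FLocal.smul_bijective {f : A} {X : C} (h : FLocal f X) (K : C) :
    Function.Bijective (fun g : X ⟶ K => f • g) := by
  haveI : IsIso (f • 𝟙 X) := h
  have e : ∀ g : X ⟶ K, f • g = (f • 𝟙 X) ≫ g := fun g => by
    rw [Linear.smul_comp, Category.id_comp]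
  constructor
  · intro g g' hgg
    have hgg' : f • g = f • g' := hgg
    rw [e, e] at hgg'
    exact (cancel_epi (f • 𝟙 X)).mp hgg'
  · intro g
    refine ⟨inv (f • 𝟙 X) ≫ g, ?_⟩
    show f • (inv (f • 𝟙 X) ≫ g) = g
    rw [e, IsIso.hom_inv_id_assoc]

theorem FLocal.of_iso {f : A} {X X' : C} (e : X ≅ X') (h : FLocal f X) : FLocal f X' := by
  haveI : IsIso (f • 𝟙 X) := h
  have : f • 𝟙 X' = e.inv ≫ (f • 𝟙 X) ≫ e.hom := by
    rw [Linear.smul_comp, Linear.comp_smul, Category.id_comp, e.inv_hom_id]
  unfold FLocal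
  rw [this]
  infer_instance

theorem FLocal.map {C' : Type*} [Category C'] [Preadditive C'] [Linear A C'] (G : C ⥤ C')
    [G.Additive] [G.Linear A] {f : A} {X : C} (h : FLocal f X) : FLocal f (G.obj X) := by
  haveI : IsIso (f • 𝟙 X) := h
  have : f • 𝟙 (G.obj X) = G.map (f • 𝟙 X) := by
    rw [G.map_smul, G.map_id]
  unfold FLocal
  rw [this]
  infer_instance

/-- right orthogonality to all `f`-local objects -/
def ROrth (f : A) (K : C) : Prop := ∀ X : C, FLocal f X → Subsingleton (X ⟶ K)

end Fan

end Groth.Agent.Helper11.DCP
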