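import Groth.Agent.Lib.Helper11.DCP2
import Mathlib.CategoryTheory.Triangulated.Pretriangulated
import Mathlib.CategoryTheory.Shift.Linear

/-!
# Principal derived completion in a linear triangulated category with countable powers (helper11)

`W = cone (1 - f·shift)` on a countable power `P` of `K` is `f`-local, computes
`Hom(X, K⟦1⟧)` for `f`-local `X`, and the cocone of `W ⟶ K⟦1⟧` is the universal arrow from `K`
to objects right orthogonal to all `f`-local objects.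
-/

set_option autoImplicit false

open CategoryTheory CategoryTheory.Limits Pretriangulated

universe u v w

namespace Groth.Agent.Helper11.DCP

section Shift

variable {A : Type u} [CommRing A] {C : Type v} [Category.{w} C] [Preadditive C] [Linear A C]
  [HasShift C ℤ] [∀ n : ℤ, (shiftFunctor C n).Additive] [∀ n : ℤ, (shiftFunctor C n).Linear A]

/-- the adjunction bijection `Hom(X⟦-n⟧, Y) ≃ Hom(X, Y⟦n⟧)` -/
noncomputable def shEquiv (X Y : C) (n : ℤ) : (X⟦-n⟧ ⟶ Y) ≃ (X ⟶ Y⟦n⟧) :=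
  (shiftEquiv' C (-n) n (neg_add_cancel n)).toAdjunction.homEquiv X Y

omit [Preadditive C] [Linear A C] [∀ n : ℤ, (shiftFunctor C n).Additive]
  [∀ n : ℤ, (shiftFunctor C n).Linear A] in
theorem shEquiv_comp (X : C) {Y Z : C} (n : ℤ) (g : X⟦-n⟧ ⟶ Y) (u : Y ⟶ Z) :
    shEquiv X Z n (g ≫ u) = shEquiv X Y n g ≫ u⟦n⟧' :=
  Adjunction.homEquiv_naturality_right _ g u

omit [Preadditive C] [Linear A C] [∀ n : ℤ, (shiftFunctor C n).Additive]
  [∀ n : ℤ, (shiftFunctor C n).Linear A] in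
theorem bijective_comp_shift {Y Z : C} (u : Y ⟶ Z) (X : C) (n : ℤ)
    (h : Function.Bijective (fun g : X⟦-n⟧ ⟶ Y => g ≫ u)) :
    Function.Bijective (fun g : X ⟶ Y⟦n⟧ => g ≫ u⟦n⟧') := by
  have hc : (fun g : X ⟶ Y⟦n⟧ => g ≫ u⟦n⟧') ∘ (shEquiv X Y n) =
      (shEquiv X Z n) ∘ (fun g : X⟦-n⟧ ⟶ Y => g ≫ u) :=
    funext (fun g => (shEquiv_comp X n g u).symm)
  have h1 : Function.Bijective ((shEquiv X Z n) ∘ (fun g : X⟦-n⟧ ⟶ Y => g ≫ u)) :=
    (shEquiv X Z n).bijective.comp h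
  rw [← hc] at h1
  exact (Function.Bijective.of_comp_iff _ (shEquiv X Y n).bijective).mp h1

omit [Preadditive C] [Linear A C] [∀ n : ℤ, (shiftFunctor C n).Additive]
  [∀ n : ℤ, (shiftFunctor C n).Linear A] in
theorem subsingleton_shift_of_neg (X Y : C) (n : ℤ) (h : Subsingleton (X⟦-n⟧ ⟶ Y)) :
    Subsingleton (X ⟶ Y⟦n⟧) :=
  (shEquiv X Y n).symm.subsingleton

omit [Preadditive C] [Linear A C] [∀ n : ℤ, (shiftFunctor C n).Additive]
  [∀ n : ℤ, (shiftFunctor C n).Linear A] in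
theorem subsingleton_neg_of_shift (X Y : C) (n : ℤ) (h : Subsingleton (X ⟶ Y⟦n⟧)) :
    Subsingleton (X⟦-n⟧ ⟶ Y) :=
  (shEquiv X Y n).subsingleton

omit [Preadditive C] [Linear A C] [∀ n : ℤ, (shiftFunctor C n).Additive]
  [∀ n : ℤ, (shiftFunctor C n).Linear A] in
theorem subsingleton_shift_add (V X : C) (a b c : ℤ) (h : a + b = c)
    (hs : Subsingleton (V ⟶ X⟦c⟧)) : Subsingleton (V ⟶ (X⟦a⟧)⟦b⟧) :=
  ⟨fun u v => by
    rw [← cancel_mono ((shiftFunctorAdd' C a b c h).inv.app X)]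
    exact hs.elim _ _⟩

omit [Preadditive C] [Linear A C] [∀ n : ℤ, (shiftFunctor C n).Additive]
  [∀ n : ℤ, (shiftFunctor C n).Linear A] in
theorem subsingleton_shift_add' (V X : C) (a b c : ℤ) (h : a + b = c)
    (hs : Subsingleton (V ⟶ (X⟦a⟧)⟦b⟧)) : Subsingleton (V ⟶ X⟦c⟧) :=
  ⟨fun u v => by
    rw [← cancel_mono ((shiftFunctorAdd' C a b c h).hom.app X)]
    exact hs.elim _ _⟩

omit [Preadditive C] [Linear A C] [∀ n : ℤ, (shiftFunctor C n).Additive]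
  [∀ n : ℤ, (shiftFunctor C n).Linear A] in
theorem subsingleton_of_shift_zero (V X : C) (hs : Subsingleton (V ⟶ X⟦(0 : ℤ)⟧)) :
    Subsingleton (V ⟶ X) :=
  ⟨fun u v => by
    rw [← cancel_mono ((shiftFunctorZero C ℤ).inv.app X)]
    exact hs.elim _ _⟩

omit [Preadditive C] [Linear A C] [∀ n : ℤ, (shiftFunctor C n).Additive]
  [∀ n : ℤ, (shiftFunctor C n).Linear A] in
theorem subsingleton_shift_zero (V X : C) (hs : Subsingleton (V ⟶ X)) :
    Subsingleton (V ⟶ X⟦(0 : ℤ)⟧) :=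
  ⟨fun u v => by
    rw [← cancel_mono ((shiftFunctorZero C ℤ).hom.app X)]
    exact hs.elim _ _⟩

theorem FLocal.shift {f : A} {X : C} (h : FLocal f X) (n : ℤ) : FLocal f (X⟦n⟧) :=
  h.map (shiftFunctor C n)

omit [∀ n : ℤ, (shiftFunctor C n).Additive] [∀ n : ℤ, (shiftFunctor C n).Linear A] in
theorem isPow_shift {K P : C} {π : ℕ → (P ⟶ K)} (hπ : IsPow π) (n : ℤ) :
    IsPow (fun i => (π i)⟦n⟧') :=
  isPow_of_isLimit _
    (isLimitFanMkObjOfIsLimit (shiftFunctor C n) (fun _ : ℕ => K) π (isLimitOfIsPow hπ))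

end Shift

section Tri

variable {A : Type u} [CommRing A] {C : Type v} [Category.{w} C] [Preadditive C] [Linear A C]
  [HasShift C ℤ] [HasZeroObject C] [∀ n : ℤ, (shiftFunctor C n).Additive]
  [∀ n : ℤ, (shiftFunctor C n).Linear A] [Pretriangulated C]

omit [Linear A C] [∀ n : ℤ, (shiftFunctor C n).Linear A] in
theorem subsingleton_obj₂ (T : Triangle C) (hT : T ∈ distTriang C) (V : C)
    (h1 : Subsingleton (V ⟶ T.obj₁)) (h3 : Subsingleton (V ⟶ T.obj₃)) :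
    Subsingleton (V ⟶ T.obj₂) := by
  have key : ∀ g : V ⟶ T.obj₂, g = 0 := fun g => by
    obtain ⟨h, rfl⟩ := Triangle.coyoneda_exact₂ T hT g (Subsingleton.elim _ _)
    rw [Subsingleton.elim h 0, zero_comp]
  exact ⟨fun a b => by rw [key a, key b]⟩

omit [Linear A C] [∀ n : ℤ, (shiftFunctor C n).Linear A] in
theorem subsingleton_obj₃ (T : Triangle C) (hT : T ∈ distTriang C) (V : C)
    (h2 : Subsingleton (V ⟶ T.obj₂)) (h1 : Subsingleton (V ⟶ T.obj₁⟦(1 : ℤ)⟧)) :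
    Subsingleton (V ⟶ T.obj₃) := by
  have key : ∀ g : V ⟶ T.obj₃, g = 0 := fun g => by
    obtain ⟨h, rfl⟩ := Triangle.coyoneda_exact₃ T hT g (Subsingleton.elim _ _)
    rw [Subsingleton.elim h 0, zero_comp]
  exact ⟨fun a b => by rw [key a, key b]⟩

variable {K P : C} {π : ℕ → (P ⟶ K)} (hπ : IsPow π) (f : A) {W : C} (β : P ⟶ W)
  (γ : W ⟶ P⟦(1 : ℤ)⟧) (hT : Triangle.mk (theta hπ f) β γ ∈ distTriang C)

include hT in
/-- `Hom(X, cone θ) ≃ Hom(X, K⟦1⟧)` for `f`-local `X` -/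
theorem bijective_comp_cone (X : C) (hX : FLocal f X) :
    Function.Bijective (fun g : X ⟶ W => g ≫ γ ≫ (π 0)⟦(1 : ℤ)⟧') := by
  have hπ₁ : IsPow (fun i => (π i)⟦(1 : ℤ)⟧') := isPow_shift hπ (1 : ℤ)
  have hθ₁ : (theta hπ f)⟦(1 : ℤ)⟧' = theta hπ₁ f :=
    map_theta hπ (shiftFunctor C (1 : ℤ)) hπ₁ f
  have z12 : theta hπ f ≫ β = 0 := comp_distTriang_mor_zero₁₂ _ hT
  have z31 : γ ≫ theta hπ₁ f = 0 := by
    rw [← hθ₁]
    exact comp_distTriang_mor_zero₃₁ _ hT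
  have hb1 := hX.smul_bijective (K⟦(1 : ℤ)⟧)
  have hb0 := hX.smul_bijective K
  have ex3 : ∀ {Y : C} (g : Y ⟶ W), g ≫ γ = 0 → ∃ h : Y ⟶ P, g = h ≫ β :=
    fun g hg => Triangle.coyoneda_exact₃ _ hT g hg
  have ex1 : ∀ {Y : C} (g' : Y ⟶ P⟦(1 : ℤ)⟧), g' ≫ (theta hπ f)⟦(1 : ℤ)⟧' = 0 →
      ∃ g : Y ⟶ W, g' = g ≫ γ :=
    fun g' hg' => Triangle.coyoneda_exact₁ _ hT g' hg'
  have hker : ∀ g : X ⟶ W, g ≫ γ ≫ (π 0)⟦(1 : ℤ)⟧' = 0 → g = 0 := by
    intro g hg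
    have h1 : g ≫ γ = 0 := by
      apply pow_ext hπ₁
      intro i
      rw [zero_comp]
      have hx : (fun i => (g ≫ γ) ≫ (π i)⟦(1 : ℤ)⟧') = 0 := by
        apply tg_ker_unique f hb1
        · rw [← comp_theta_π hπ₁ f (g ≫ γ)]
          funext i
          show ((g ≫ γ) ≫ theta hπ₁ f) ≫ (π i)⟦(1 : ℤ)⟧' = 0
          rw [Category.assoc g, z31, comp_zero, zero_comp]
        · show (g ≫ γ) ≫ (π 0)⟦(1 : ℤ)⟧' = 0
          rw [Category.assoc]
          exact hg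
      exact congrFun hx i
    obtain ⟨h, hh'⟩ := ex3 g h1
    obtain ⟨h', hh2⟩ := (surjective_comp_theta_iff hπ f X).mpr
      (tg_surjective_of_bijective f hb0) h
    have hh2' : h' ≫ theta hπ f = h := hh2
    rw [hh', ← hh2', Category.assoc, z12, comp_zero]
  constructor
  · intro g₁ g₂ h12
    have h12' : g₁ ≫ γ ≫ (π 0)⟦(1 : ℤ)⟧' = g₂ ≫ γ ≫ (π 0)⟦(1 : ℤ)⟧' := h12
    have : g₁ - g₂ = 0 := hker _ (by rw [Preadditive.sub_comp, h12', sub_self])
    exact sub_eq_zero.mp this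
  · intro φ
    have hz : powLift hπ₁ (divSeq f hb1 φ) ≫ theta hπ₁ f = 0 := by
      apply pow_ext hπ₁
      intro i
      rw [zero_comp]
      have h1 := congrFun (comp_theta_π hπ₁ f (powLift hπ₁ (divSeq f hb1 φ))) i
      have e : (fun i => powLift hπ₁ (divSeq f hb1 φ) ≫ (π i)⟦(1 : ℤ)⟧') = divSeq f hb1 φ :=
        funext (fun i => powLift_π hπ₁ (divSeq f hb1 φ) i)
      rw [e, tg_divSeq] at h1
      exact h1
    obtain ⟨g, hg'⟩ := ex1 (powLift hπ₁ (divSeq f hb1 φ)) (by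
      rw [hθ₁]
      exact hz)
    refine ⟨g, ?_⟩
    show g ≫ γ ≫ (π 0)⟦(1 : ℤ)⟧' = φ
    rw [← Category.assoc, ← hg']
    exact powLift_π hπ₁ (divSeq f hb1 φ) 0

include hT in
/-- the cone of `1 - f·shift` is `f`-local -/
theorem fLocal_cone : FLocal f W := by
  have hπ₁ : IsPow (fun i => (π i)⟦(1 : ℤ)⟧') := isPow_shift hπ (1 : ℤ)
  have hθ₁ : (theta hπ f)⟦(1 : ℤ)⟧' = theta hπ₁ f :=
    map_theta hπ (shiftFunctor C (1 : ℤ)) hπ₁ f
  have z12 : theta hπ f ≫ β = 0 := comp_distTriang_mor_zero₁₂ _ hT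
  have z31 : γ ≫ theta hπ₁ f = 0 := by
    rw [← hθ₁]
    exact comp_distTriang_mor_zero₃₁ _ hT
  have key1 : ∀ {Y : C} (g : Y ⟶ W), Tg f (fun i => (g ≫ γ) ≫ (π i)⟦(1 : ℤ)⟧') = 0 := by
    intro Y g
    rw [← comp_theta_π hπ₁ f (g ≫ γ)]
    funext i
    show ((g ≫ γ) ≫ theta hπ₁ f) ≫ (π i)⟦(1 : ℤ)⟧' = 0
    rw [Category.assoc g, z31, comp_zero, zero_comp]
  have ex3 : ∀ {Y : C} (g : Y ⟶ W), g ≫ γ = 0 → ∃ h : Y ⟶ P, g = h ≫ β :=
    fun g hg => Triangle.coyoneda_exact₃ _ hT g hg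
  have ex1 : ∀ {Y : C} (g' : Y ⟶ P⟦(1 : ℤ)⟧), g' ≫ (theta hπ f)⟦(1 : ℤ)⟧' = 0 →
      ∃ g : Y ⟶ W, g' = g ≫ γ :=
    fun g' hg' => Triangle.coyoneda_exact₁ _ hT g' hg'
  have ex2 : ∀ {Y : C} (h : Y ⟶ P), h ≫ β = 0 → ∃ k : Y ⟶ P, h = k ≫ theta hπ f :=
    fun h hh => Triangle.coyoneda_exact₂ _ hT h hh
  unfold FLocal
  apply isIso_of_yoneda_map_bijective
  intro Y
  have hsm : ∀ x : Y ⟶ W, x ≫ (f • 𝟙 W) = f • x := fun x => by
    rw [Linear.comp_smul, Category.comp_id]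
  have hinj0 : ∀ g : Y ⟶ W, f • g = 0 → g = 0 := by
    intro g hg
    have h1 : g ≫ γ = 0 := by
      apply pow_ext hπ₁
      intro i
      rw [zero_comp]
      have hx := tg_ker_inj f (fun i => (g ≫ γ) ≫ (π i)⟦(1 : ℤ)⟧') (key1 g) (by
        funext i
        show f • ((g ≫ γ) ≫ (π i)⟦(1 : ℤ)⟧') = 0
        rw [← Linear.smul_comp, ← Linear.smul_comp, hg, zero_comp, zero_comp])
      exact congrFun hx i
    obtain ⟨h, hh'⟩ := ex3 g h1
    have h2 : (f • h) ≫ β = 0 := by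
      rw [Linear.smul_comp, ← hh']
      exact hg
    obtain ⟨k, hk'⟩ := ex2 (f • h) h2
    have h3 : f • (fun i => h ≫ π i) = Tg f (fun i => k ≫ π i) := by
      rw [← comp_theta_π hπ f k]
      funext i
      show f • (h ≫ π i) = (k ≫ theta hπ f) ≫ π i
      rw [← Linear.smul_comp, hk']
    have h4 := tg_coker_inj f _ _ h3
    have h5 : h = powLift hπ ((fun i => h ≫ π i) + sS (fun i => k ≫ π i)) ≫ theta hπ f := by
      apply pow_ext hπ
      intro i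
      have h6 := congrFun (comp_theta_π hπ f
        (powLift hπ ((fun i => h ≫ π i) + sS (fun i => k ≫ π i)))) i
      have e : (fun i => powLift hπ ((fun i => h ≫ π i) + sS (fun i => k ≫ π i)) ≫ π i) =
          (fun i => h ≫ π i) + sS (fun i => k ≫ π i) :=
        funext (fun i => powLift_π hπ _ i)
      rw [e, ← h4] at h6
      exact h6.symm
    rw [hh', h5, Category.assoc, z12, comp_zero]
  constructor
  · intro g₁ g₂ h12
    have h12' : g₁ ≫ (f • 𝟙 W) = g₂ ≫ (f • 𝟙 W) := h12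
    rw [hsm, hsm] at h12'
    have : g₁ - g₂ = 0 := hinj0 _ (by rw [smul_sub, h12', sub_self])
    exact sub_eq_zero.mp this
  · intro g
    -- the image of `g` in `Hom(Y, P⟦1⟧)` is divisible inside the kernel of `θ`
    obtain ⟨hs1, hs2⟩ := tg_ker_surj f (fun i => (g ≫ γ) ≫ (π i)⟦(1 : ℤ)⟧') (key1 g)
    have hz : powLift hπ₁ (sS (fun i => (g ≫ γ) ≫ (π i)⟦(1 : ℤ)⟧')) ≫ theta hπ₁ f = 0 := by
      apply pow_ext hπ₁
      intro i
      rw [zero_comp]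
      have h1 := congrFun (comp_theta_π hπ₁ f
        (powLift hπ₁ (sS (fun i => (g ≫ γ) ≫ (π i)⟦(1 : ℤ)⟧')))) i
      have e : (fun i => powLift hπ₁ (sS (fun i => (g ≫ γ) ≫ (π i)⟦(1 : ℤ)⟧')) ≫
          (π i)⟦(1 : ℤ)⟧') = sS (fun i => (g ≫ γ) ≫ (π i)⟦(1 : ℤ)⟧') :=
        funext (fun i => powLift_π hπ₁ _ i)
      rw [e, hs1] at h1
      exact h1
    obtain ⟨g₂, hg₂'⟩ := ex1
      (powLift hπ₁ (sS (fun i => (g ≫ γ) ≫ (π i)⟦(1 : ℤ)⟧'))) (by
        rw [hθ₁]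
        exact hz)
    have h7 : (g - f • g₂) ≫ γ = 0 := by
      apply pow_ext hπ₁
      intro i
      rw [zero_comp, Preadditive.sub_comp, Preadditive.sub_comp, Linear.smul_comp,
        Linear.smul_comp, ← hg₂', powLift_π]
      have := congrFun hs2 i
      exact sub_eq_zero.mpr this
    obtain ⟨h, hh'⟩ := ex3 (g - f • g₂) h7
    -- `h - f • h₂ = h ≫ θ`
    have h8 : h - f • powLift hπ (sS (fun i => h ≫ π i)) = h ≫ theta hπ f := by
      apply pow_ext hπ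
      intro i
      have h9 := congrFun (comp_theta_π hπ f h) i
      rw [h9, Preadditive.sub_comp, Linear.smul_comp, powLift_π]
      rfl
    have h10 : h ≫ β = f • (powLift hπ (sS (fun i => h ≫ π i)) ≫ β) := by
      have : h = f • powLift hπ (sS (fun i => h ≫ π i)) + h ≫ theta hπ f := by
        rw [← h8]
        abel
      conv_lhs => rw [this]
      rw [Preadditive.add_comp, Category.assoc, z12, comp_zero, add_zero, Linear.smul_comp]
    refine ⟨g₂ + powLift hπ (sS (fun i => h ≫ π i)) ≫ β, ?_⟩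
    show (g₂ + powLift hπ (sS (fun i => h ≫ π i)) ≫ β) ≫ (f • 𝟙 W) = g
    rw [hsm, smul_add, ← h10, ← hh']
    abel

end Tri

end Groth.Agent.Helper11.DCP
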