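import Groth.Agent.Lib.Helper11.DCP3

/-!
# Derived completion along a finite list of elements, generic form (helper11)
-/

set_option autoImplicit false

open CategoryTheory CategoryTheory.Limits Pretriangulated

universe u v w

namespace Groth.Agent.Helper11.DCP

section Tri

variable {A : Type u} [CommRing A] {C : Type v} [Category.{w} C] [Preadditive C] [Linear A C]
  [HasShift C ℤ] [HasZeroObject C] [∀ n : ℤ, (shiftFunctor C n).Additive]
  [∀ n : ℤ, (shiftFunctor C n).Linear A] [Pretriangulated C]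

/-- principal completion: the universal arrow from `K` to the right orthogonal of the `f`-local
objects -/
theorem exists_principal (hpow : ∀ K : C, ∃ (P : C) (π : ℕ → (P ⟶ K)), IsPow π) (f : A) (K : C) :
    ∃ (K' : C) (η : K ⟶ K'), ROrth f K' ∧
      (∀ E : C, ROrth f E → Function.Bijective (fun φ : K' ⟶ E => η ≫ φ)) ∧
      (∀ V : C, Subsingleton (V ⟶ K) → Subsingleton (V ⟶ K⟦(1 : ℤ)⟧) →
        Subsingleton (V ⟶ K')) := by
  obtain ⟨P, π, hπ⟩ := hpow K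
  obtain ⟨W, β, γ, hT⟩ := distinguished_cocone_triangle (theta hπ f)
  obtain ⟨K', η, q, hT₂⟩ := distinguished_cocone_triangle₂ (γ ≫ (π 0)⟦(1 : ℤ)⟧')
  have hW : FLocal f W := fLocal_cone hπ f β γ hT
  have hA := bijective_comp_cone hπ f β γ hT
  have z23 : q ≫ γ ≫ (π 0)⟦(1 : ℤ)⟧' = 0 := comp_distTriang_mor_zero₂₃ _ hT₂
  have z31 : (γ ≫ (π 0)⟦(1 : ℤ)⟧') ≫ η⟦(1 : ℤ)⟧' = 0 := comp_distTriang_mor_zero₃₁ _ hT₂
  have ex2 : ∀ {Y : C} (g : Y ⟶ K'), g ≫ q = 0 → ∃ h : Y ⟶ K, g = h ≫ η :=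
    fun g hg => Triangle.coyoneda_exact₂ _ hT₂ g hg
  have yex2 : ∀ {E : C} (ψ : K' ⟶ E), η ≫ ψ = 0 → ∃ χ : W ⟶ E, ψ = q ≫ χ :=
    fun ψ hψ => Triangle.yoneda_exact₂ _ hT₂ ψ hψ
  have hT₃ := inv_rot_of_distTriang _ hT₂
  have yex1 : ∀ {E : C} (φ : K ⟶ E), Subsingleton (W⟦(-1 : ℤ)⟧ ⟶ E) →
      ∃ ψ : K' ⟶ E, φ = η ≫ ψ :=
    fun φ hs => Triangle.yoneda_exact₂ _ hT₃ φ (hs.elim _ _)
  refine ⟨K', η, ?_, ?_, ?_⟩
  · intro X hX
    suffices ∀ g : X ⟶ K', g = 0 from ⟨fun a b => by rw [this a, this b]⟩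
    intro g
    have h1 : g ≫ q = 0 := by
      apply (hA X hX).1
      show (g ≫ q) ≫ γ ≫ (π 0)⟦(1 : ℤ)⟧' = 0 ≫ γ ≫ (π 0)⟦(1 : ℤ)⟧'
      rw [Category.assoc, z23, comp_zero, zero_comp]
    obtain ⟨h, rfl⟩ := ex2 g h1
    obtain ⟨w, hw⟩ := (hA (X⟦(1 : ℤ)⟧) (hX.shift 1)).2 (h⟦(1 : ℤ)⟧')
    have hw' : w ≫ γ ≫ (π 0)⟦(1 : ℤ)⟧' = h⟦(1 : ℤ)⟧' := hw
    apply (shiftFunctor C (1 : ℤ)).map_injective
    rw [Functor.map_comp, ← hw', Category.assoc, z31, comp_zero, Functor.map_zero]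
  · intro E hE
    constructor
    · intro ψ ψ' h
      have h' : η ≫ ψ = η ≫ ψ' := h
      obtain ⟨χ, hχ⟩ := yex2 (ψ - ψ') (by rw [Preadditive.comp_sub, h', sub_self])
      have : χ = 0 := (hE W hW).elim _ _
      rw [this, comp_zero] at hχ
      exact sub_eq_zero.mp hχ
    · intro φ
      obtain ⟨ψ, hψ⟩ := yex1 φ (hE _ (hW.shift (-1)))
      exact ⟨ψ, hψ.symm⟩
  · intro V h0 h1
    have hP : Subsingleton (V ⟶ P) := subsingleton_hom_pow hπ V h0
    have hP1 : Subsingleton (V ⟶ P⟦(1 : ℤ)⟧) :=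
      subsingleton_hom_pow (isPow_shift hπ (1 : ℤ)) V h1
    have hVW : Subsingleton (V ⟶ W) := subsingleton_obj₃ _ hT V hP hP1
    exact subsingleton_obj₂ _ hT₂ V h0 hVW

/-- vanishing of `Hom(V, K⟦j⟧)` for `0 ≤ j ≤ r` -/
def Van (V K : C) (r : ℕ) : Prop := ∀ j : ℕ, j ≤ r → Subsingleton (V ⟶ K⟦(j : ℤ)⟧)

omit [Preadditive C] [Linear A C] [HasZeroObject C] [∀ n : ℤ, (shiftFunctor C n).Additive]
  [∀ n : ℤ, (shiftFunctor C n).Linear A] [Pretriangulated C] in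
theorem Van.mono {V K : C} {r s : ℕ} (h : Van V K s) (hrs : r ≤ s) : Van V K r :=
  fun j hj => h j (hj.trans hrs)

omit [Preadditive C] [Linear A C] [HasZeroObject C] [∀ n : ℤ, (shiftFunctor C n).Additive]
  [∀ n : ℤ, (shiftFunctor C n).Linear A] [Pretriangulated C] in
theorem Van.shift {V K : C} {r : ℕ} (h : Van V K (r + 1)) : Van (V⟦(-1 : ℤ)⟧) K r := by
  intro j hj
  apply subsingleton_neg_of_shift
  exact subsingleton_shift_add V K (j : ℤ) 1 ((j + 1 : ℕ) : ℤ) (by push_cast; rfl)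
    (h (j + 1) (Nat.succ_le_succ hj))

/-- completion along a list of elements -/
theorem exists_completion_list (hpow : ∀ K : C, ∃ (P : C) (π : ℕ → (P ⟶ K)), IsPow π)
    (l : List A) (K : C) :
    ∃ (K' : C) (η : K ⟶ K'), (∀ f ∈ l, ROrth f K') ∧
      (∀ E : C, (∀ f ∈ l, ROrth f E) → Function.Bijective (fun φ : K' ⟶ E => η ≫ φ)) ∧
      (∀ V : C, Van V K l.length → Subsingleton (V ⟶ K')) := by
  induction l with
  | nil =>
    refine ⟨K, 𝟙 K, fun f hf => absurd hf (List.not_mem_nil), fun E _ => ?_, fun V hV => ?_⟩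
    · have : (fun φ : K ⟶ E => 𝟙 K ≫ φ) = id := funext (fun φ => Category.id_comp φ)
      rw [this]
      exact Function.bijective_id
    · exact subsingleton_of_shift_zero V K (hV 0 le_rfl)
  | cons f l ih =>
    obtain ⟨K₁, η₁, h1, h2, h3⟩ := ih
    obtain ⟨K₂, η₂, p1, p2, p3⟩ := exists_principal hpow f K₁
    refine ⟨K₂, η₁ ≫ η₂, ?_, ?_, ?_⟩
    · intro g hg
      rcases List.mem_cons.mp hg with rfl | hg'
      · exact p1
      · intro X hX
        exact p3 X (h1 g hg' X hX)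
          (subsingleton_shift_of_neg X K₁ 1 (h1 g hg' _ (hX.shift (-1))))
    · intro E hE
      have hb2 := p2 E (hE f (List.mem_cons_self))
      have hb1 := h2 E (fun g hg => hE g (List.mem_cons_of_mem f hg))
      have : (fun φ : K₂ ⟶ E => (η₁ ≫ η₂) ≫ φ) =
          (fun φ : K₁ ⟶ E => η₁ ≫ φ) ∘ (fun φ : K₂ ⟶ E => η₂ ≫ φ) :=
        funext (fun φ => Category.assoc _ _ _)
      rw [this]
      exact hb1.comp hb2
    · intro V hV
      have hV' : Van V K (l.length + 1) := hV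
      exact p3 V (h3 V (hV'.mono (Nat.le_succ _)))
        (subsingleton_shift_of_neg V K₁ 1 (h3 _ hV'.shift))

end Tri

end Groth.Agent.Helper11.DCP
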