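import Groth.Agent.Lib.Helper11.DCP5

/-!
# Existence of derived completion for finitely generated ideals (helper11)
-/

set_option autoImplicit false

open CategoryTheory CategoryTheory.Limits Pretriangulated DerivedCategory

universe u

attribute [local instance] HasDerivedCategory.standard

namespace Groth.Agent.Helper11.DCP

variable {A : Type u} [CommRing A]

theorem isDerivedComplete_iff_list (l : List A) (I : Ideal A)
    (hI : Ideal.span {x : A | x ∈ l} = I) (K : Dual.D A) :
    DRing.IsDerivedComplete I K ↔ ∀ f ∈ l, ROrth f K := by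
  constructor
  · intro h f hf
    apply rOrth_of_fComplete
    exact h f (hI ▸ Ideal.subset_span hf)
  · intro h
    rw [Groth.Agent.Helper11.DC.isDerivedComplete_iff_homology]
    intro i g hg
    refine Groth.Agent.Helper11.DC.tf_of_mem_span (Dual.HD A K i) {x : A | x ∈ l} ?_ g
      (hI ▸ hg)
    intro f hf
    exact (Groth.Agent.Helper11.DC.away_hom_vanish_iff_all f K).mp
      (fComplete_of_rOrth f K (h f hf)) i

/-- derived completion along the ideal generated by a list, with universal property and
Hom-vanishing bounds -/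
theorem exists_completion_of_list (l : List A) (I : Ideal A)
    (hI : Ideal.span {x : A | x ∈ l} = I) (K : Dual.D A) :
    ∃ (K' : Dual.D A) (η : K ⟶ K'), DRing.IsDerivedComplete I K' ∧
      (∀ E : Dual.D A, DRing.IsDerivedComplete I E →
        Function.Bijective (fun φ : K' ⟶ E => η ≫ φ)) ∧
      (∀ V : Dual.D A, Van V K l.length → Subsingleton (V ⟶ K')) := by
  obtain ⟨K', η, h1, h2, h3⟩ := exists_completion_list (A := A) hasPow l K
  refine ⟨K', η, (isDerivedComplete_iff_list l I hI K').mpr h1, fun E hE => ?_, h3⟩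
  exact h2 E ((isDerivedComplete_iff_list l I hI E).mp hE)

/-- statement S7096 -/
theorem hasDerivedCompletion_of_fg (I : Ideal A) (hI : I.FG) : DRing.HasDerivedCompletion I := by
  obtain ⟨s, hs⟩ := hI
  have hl : Ideal.span {x : A | x ∈ s.toList} = I := by
    rw [← hs]
    congr 1
    ext x
    simp
  choose K' η hc hu _ using fun K => exists_completion_of_list s.toList I hl K
  let Fobj : Dual.D A → DRing.DComp I := fun K => ⟨K' K, hc K⟩
  let e : ∀ (X : Dual.D A) (Y : DRing.DComp I),
      (Fobj X ⟶ Y) ≃ (X ⟶ (ObjectProperty.ι (DRing.IsDerivedComplete I)).obj Y) := fun X Y =>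
    { toFun := fun ψ => η X ≫ ψ.hom
      invFun := fun φ => ObjectProperty.homMk ((hu X Y.obj Y.property).2 φ).choose
      left_inv := fun ψ => by
        apply ObjectProperty.hom_ext
        exact (hu X Y.obj Y.property).1 ((hu X Y.obj Y.property).2 (η X ≫ ψ.hom)).choose_spec
      right_inv := fun φ => ((hu X Y.obj Y.property).2 φ).choose_spec }
  exact ⟨_, ⟨Adjunction.adjunctionOfEquivLeft e (fun X Y Y' g h => by
    show η X ≫ (h ≫ g).hom = (η X ≫ h.hom) ≫ g.hom
    rw [Category.assoc]
    rfl)⟩⟩

/-- any universal arrow to a derived complete object is the derived completion -/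
theorem exists_iso_completion (I : Ideal A) [DRing.HasDerivedCompletion I] (K K' : Dual.D A)
    (η : K ⟶ K') (hc : DRing.IsDerivedComplete I K')
    (hu : ∀ E : Dual.D A, DRing.IsDerivedComplete I E →
      Function.Bijective (fun φ : K' ⟶ E => η ≫ φ)) :
    ∃ e : ((DRing.derivedCompletion I).obj K).obj ≅ K',
      DRing.toDerivedCompletion I K ≫ e.hom = η := by
  let adj := DRing.derivedCompletionAdj I
  let LK := (DRing.derivedCompletion I).obj K
  let η₀ : K ⟶ LK.obj := adj.unit.app K
  have huniq : ∀ (E : DRing.DComp I) (g₁ g₂ : LK.obj ⟶ E.obj), η₀ ≫ g₁ = η₀ ≫ g₂ → g₁ = g₂ := by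
    intro E g₁ g₂ h
    have h' : (adj.homEquiv K E) (ObjectProperty.homMk g₁) =
        (adj.homEquiv K E) (ObjectProperty.homMk g₂) := by
      rw [Adjunction.homEquiv_unit, Adjunction.homEquiv_unit]
      exact h
    have := (adj.homEquiv K E).injective h'
    exact congrArg (fun g => g.hom) this
  have hex : ∀ (E : DRing.DComp I) (h' : K ⟶ E.obj), ∃ k : LK.obj ⟶ E.obj, η₀ ≫ k = h' := by
    intro E h'
    refine ⟨((adj.homEquiv K E).symm h').hom, ?_⟩
    have := (adj.homEquiv K E).apply_symm_apply h'
    rw [Adjunction.homEquiv_unit] at this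
    exact this
  obtain ⟨u, hu1⟩ := hex ⟨K', hc⟩ η
  obtain ⟨v, hv1⟩ := (hu LK.obj LK.property).2 η₀
  have hv1' : η ≫ v = η₀ := hv1
  refine ⟨⟨u, v, ?_, ?_⟩, hu1⟩
  · apply huniq LK
    rw [← Category.assoc, hu1, hv1', Category.comp_id]
  · apply (hu K' hc).1
    show η ≫ v ≫ u = η ≫ 𝟙 K'
    rw [← Category.assoc, hv1', hu1, Category.comp_id]

end Groth.Agent.Helper11.DCP
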