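import Groth.Agent.Lib.Helper11.DCRegular
import Groth.Agent.Lib.Helper11.DCGlDim
import Groth.Agent.Lib.Helper11.DCProjAmp

/-!
# Global dimension of regular rings of finite Krull dimension; vanishing of `Hom` across a gap
-/

set_option autoImplicit false
universe u

open CategoryTheory Limits DerivedCategory Pretriangulated

attribute [local instance] HasDerivedCategory.standard

namespace Groth.Agent.Helper11.DC

variable {R : Type u} [CommRing R]

/-- A regular ring of Krull dimension `d` has global dimension `≤ d`. -/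
theorem glDim_of_isRegularRing [IsRegularRing R] (d : ℕ) (hd : ringKrullDim R = d)
    (M : ModuleCat.{u} R) : HasProjectiveDimensionLT M (d + 1) := by
  refine Groth.Agent.Lead.Hom.hasProjectiveDimensionLT_of_quotient d (fun I => ?_) M
  change HasProjectiveDimensionLE (ModuleCat.of R (R ⧸ I)) d
  rw [ModuleCat.hasProjectiveDimensionLE_iff_forall_primeSpectrum]
  intro p
  haveI : IsRegularLocalRing (Localization.AtPrime p.asIdeal) :=
    IsRegularRing.isRegularLocalRing_localization p.asIdeal
  have hdim : ringKrullDim (Localization.AtPrime p.asIdeal) = p.asIdeal.height :=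
    IsLocalization.AtPrime.ringKrullDim_eq_height p.asIdeal (Localization.AtPrime p.asIdeal)
  have hle : (p.asIdeal.height : WithBot ℕ∞) ≤ ringKrullDim R :=
    Ideal.height_le_ringKrullDim_of_ne_top p.2.ne_top
  rw [hd] at hle
  have hle' : p.asIdeal.height ≤ (d : ℕ∞) := by exact_mod_cast hle
  obtain ⟨e, he⟩ : ∃ e : ℕ, p.asIdeal.height = e := by
    have : p.asIdeal.height ≠ ⊤ := Ideal.height_ne_top_of_isPrime
    exact ⟨p.asIdeal.height.toNat, (ENat.natCast_toNat this).symm⟩
  have hed : e ≤ d := by
    rw [he] at hle'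
    exact_mod_cast hle'
  haveI := Groth.Agent.Lead.Hom.hasProjectiveDimensionLT_of_isRegularLocalRing (d := e)
    (by rw [hdim, he]; rfl)
    ((ModuleCat.of R (R ⧸ I)).localizedModule p.asIdeal.primeCompl)
  exact hasProjectiveDimensionLT_of_ge _ (e + 1) (d + 1) (by omega)

/-- Vanishing of `Hom(K, L)` when `K` lives in degrees `> k` and `L` in degrees `≤ k - d`, over a
ring of global dimension `≤ d`. -/
theorem hom_eq_zero_of_gap (d : ℕ)
    (hgl : ∀ M : ModuleCat.{u} R, HasProjectiveDimensionLT M (d + 1)) (K L : Dual.D R) (k b : ℤ)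
    (hKb : ∀ i : ℤ, b < i → IsZero ((homologyFunctor (ModuleCat.{u} R) i).obj K))
    (hK : ∀ i : ℤ, i ≤ k → IsZero ((homologyFunctor (ModuleCat.{u} R) i).obj K))
    (hL : ∀ i : ℤ, k - d + 1 ≤ i → IsZero ((homologyFunctor (ModuleCat.{u} R) i).obj L))
    (g : K ⟶ L) : g = 0 := by
  have hP := projAmp_of_homology d hgl K (k + 1) b (fun i hi => by
    rcases hi with hi | hi
    · exact hK i (by omega)
    · exact hKb i hi)
  haveI : L.IsLE (k + 1 - d - 1) := by
    rw [isLE_iff]
    intro i hi
    exact hL i (by omega)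
  exact hom_eq_zero_of_projAmp' (k + 1 - d) b K hP L g

end Groth.Agent.Helper11.DC
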