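import Groth.Agent.Lib.Helper11.DCRegular2
import Groth.Agent.Lib.Helper11.DCTopHom

/-!
Splitting a complex across a cohomological gap, over a ring of finite global dimension.
-/

open CategoryTheory Category Limits Pretriangulated DerivedCategory ZeroObject

attribute [local instance] HasDerivedCategory.standard

universe u

namespace Groth.Agent.Helper11.DC

variable {R : Type u} [CommRing R]

/-- the triangle `τ_{<n} K → K → τ_{≥m} K` when `H^i(K) = 0` for `n ≤ i < m`. -/
theorem exists_gap_triangle (K : Dual.D R) (n m : ℤ) (hnm : n ≤ m)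
    (hgap : ∀ i : ℤ, n ≤ i → i < m → IsZero ((homologyFunctor (ModuleCat.{u} R) i).obj K)) :
    ∃ δ : ((TStructure.t : Triangulated.TStructure (Dual.D R)).truncGE m).obj K ⟶
        (((TStructure.t : Triangulated.TStructure (Dual.D R)).truncLT n).obj K)⟦(1 : ℤ)⟧,
      Triangle.mk (((TStructure.t : Triangulated.TStructure (Dual.D R)).truncLTι n).app K)
        (((TStructure.t : Triangulated.TStructure (Dual.D R)).truncGEπ m).app K) δ ∈
          distTriang (Dual.D R) := by
  let t : Triangulated.TStructure (Dual.D R) := TStructure.t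
  let Tn : Triangle (Dual.D R) := Triangle.mk ((t.truncLTι n).app K) ((t.truncGEπ n).app K)
    ((t.truncGEδLT n).app K)
  let Tm : Triangle (Dual.D R) := Triangle.mk ((t.truncLTι m).app K) ((t.truncGEπ m).app K)
    ((t.truncGEδLT m).app K)
  have hTn : Tn ∈ distTriang _ := t.triangleLTGE_distinguished n K
  have hTm : Tm ∈ distTriang _ := t.triangleLTGE_distinguished m K
  have h1 : t.IsLE ((t.truncLT m).obj K) (n - 1) := by
    change DerivedCategory.IsLE ((t.truncLT m).obj K) (n - 1)
    rw [DerivedCategory.isLE_iff]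
    intro i hi
    by_cases him : i < m
    · haveI hmono : Mono ((homologyFunctor (ModuleCat.{u} R) i).map ((t.truncLTι m).app K)) := by
        refine (HomologySequence.mono_homologyMap_mor₁_iff Tm hTm (i - 1) i (by omega)).mpr ?_
        have hz : IsZero ((homologyFunctor (ModuleCat.{u} R) (i - 1)).obj
            ((t.truncGE m).obj K)) := by
          haveI : DerivedCategory.IsGE ((t.truncGE m).obj K) m :=
            inferInstanceAs (t.IsGE ((t.truncGE m).obj K) m)
          exact isZero_of_isGE _ m (i - 1) (by omega)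
        exact hz.eq_of_src _ _
      exact IsZero.of_mono ((homologyFunctor (ModuleCat.{u} R) i).map ((t.truncLTι m).app K))
        (hgap i (by omega) him)
    · haveI : DerivedCategory.IsLE ((t.truncLT m).obj K) (m - 1) :=
        inferInstanceAs (t.IsLE ((t.truncLT m).obj K) (m - 1))
      exact isZero_of_isLE _ (m - 1) i (by omega)
  have h3 : t.IsGE ((t.truncGE m).obj K) n := t.isGE_of_ge _ n m hnm
  have h1' : t.IsLE ((t.truncLT n).obj K) (n - 1) := inferInstance
  have h3' : t.IsGE ((t.truncGE n).obj K) n := inferInstance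
  obtain ⟨e', he'⟩ := t.triangle_iso_exists hTn hTm (Iso.refl K) (n - 1) n
    h1' h3' h1 h3 (by omega)
  let e₁ : (t.truncLT n).obj K ≅ (t.truncLT m).obj K := Triangle.π₁.mapIso e'
  have hc : (t.truncLTι n).app K = e₁.hom ≫ (t.truncLTι m).app K :=
    (comp_id _).symm.trans ((congrArg (fun x => (t.truncLTι n).app K ≫ x) he'.symm).trans
      e'.hom.comm₁)
  refine ⟨(t.truncGEδLT m).app K ≫ e₁.inv⟦(1 : ℤ)⟧', ?_⟩
  refine isomorphic_distinguished _ hTm _ ?_
  refine Triangle.isoMk _ _ e₁ (Iso.refl _) (Iso.refl _) ?_ ?_ ?_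
  · exact (comp_id _).trans hc
  · exact (comp_id _).trans (id_comp _).symm
  · refine (assoc _ _ _).trans ((congrArg (fun x => (t.truncGEδLT m).app K ≫ x) ?_).trans
      ((comp_id _).trans (id_comp _).symm))
    exact ((shiftFunctor (Dual.D R) (1 : ℤ)).map_comp e₁.inv e₁.hom).symm.trans
      ((congrArg (fun x => (shiftFunctor (Dual.D R) (1 : ℤ)).map x) e₁.inv_hom_id).trans
        (CategoryTheory.Functor.map_id _ _))

theorem split_of_gap (d : ℕ)
    (hgl : ∀ M : ModuleCat.{u} R, HasProjectiveDimensionLT M (d + 1)) (K : Dual.D R)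
    (hKb : ∃ b : ℤ, ∀ i : ℤ, b < i → IsZero ((homologyFunctor (ModuleCat.{u} R) i).obj K))
    (n m : ℤ) (hnm : n ≤ m) (hd : n + d - 1 ≤ m)
    (hgap : ∀ i : ℤ, n ≤ i → i < m → IsZero ((homologyFunctor (ModuleCat.{u} R) i).obj K))
    [HasBinaryBiproduct
      (((TStructure.t : Triangulated.TStructure (Dual.D R)).truncLT n).obj K)
      (((TStructure.t : Triangulated.TStructure (Dual.D R)).truncGE m).obj K)] :
    ∃ e : K ≅
      ((TStructure.t : Triangulated.TStructure (Dual.D R)).truncLT n).obj K ⊞
        ((TStructure.t : Triangulated.TStructure (Dual.D R)).truncGE m).obj K,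
      ((TStructure.t : Triangulated.TStructure (Dual.D R)).truncLTι n).app K ≫ e.hom =
          biprod.inl ∧
        e.hom ≫ biprod.snd =
          ((TStructure.t : Triangulated.TStructure (Dual.D R)).truncGEπ m).app K := by
  let t : Triangulated.TStructure (Dual.D R) := TStructure.t
  obtain ⟨δ, hT⟩ := exists_gap_triangle K n m hnm hgap
  obtain ⟨b, hb⟩ := hKb
  have hδ : δ = 0 := by
    refine hom_eq_zero_of_gap d hgl _ _ (m - 1) (max b m) ?_ ?_ ?_ δ
    · intro i hi
      haveI hepi : Epi ((homologyFunctor (ModuleCat.{u} R) i).map ((t.truncGEπ m).app K)) := by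
        refine (HomologySequence.epi_homologyMap_mor₂_iff _ hT i (i + 1) rfl).mpr ?_
        have hz : IsZero ((homologyFunctor (ModuleCat.{u} R) (i + 1)).obj
            ((t.truncLT n).obj K)) := by
          haveI : DerivedCategory.IsLE ((t.truncLT n).obj K) (n - 1) :=
            inferInstanceAs (t.IsLE ((t.truncLT n).obj K) (n - 1))
          exact isZero_of_isLE _ (n - 1) (i + 1) (by omega)
        exact hz.eq_of_tgt _ _
      exact IsZero.of_epi ((homologyFunctor (ModuleCat.{u} R) i).map ((t.truncGEπ m).app K))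
        (hb i (by omega))
    · intro i hi
      haveI : DerivedCategory.IsGE ((t.truncGE m).obj K) m :=
        inferInstanceAs (t.IsGE ((t.truncGE m).obj K) m)
      exact isZero_of_isGE _ m i (by omega)
    · intro i hi
      haveI : DerivedCategory.IsLE (((t.truncLT n).obj K)⟦(1 : ℤ)⟧) (n - 2) :=
        t.isLE_shift _ (n - 1) 1 (n - 2) (by omega)
      exact isZero_of_isLE _ (n - 2) i (by omega)
  obtain ⟨e, he1, he2⟩ := exists_iso_binaryBiproduct_of_distTriang _ hT hδ
  exact ⟨e, he1, he2.symm⟩

end Groth.Agent.Helper11.DC
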