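import Groth.Agent.Lib.Helper11.DCSplit
import Groth.Agent.Lib.Helper11.DCProjTFAE
import Mathlib.Algebra.Homology.DerivedCategory.Ext.EnoughInjectives
import Mathlib.Algebra.Category.ModuleCat.EnoughInjectives

/-!
Splitting off a top part of projective amplitude from Ext-vanishing hypotheses.
-/

open CategoryTheory Category Limits Pretriangulated DerivedCategory ZeroObject

attribute [local instance] HasDerivedCategory.standard

universe u

namespace Groth.Agent.Helper11.DC

variable {R : Type u} [CommRing R]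

theorem hom_to_injective_single_eq_zero (Z : Dual.D R) (n : ℤ) [Z.IsGE n] (I : ModuleCat.{u} R)
    [Injective I] (i : ℤ) (hi : i < n) (g : Z ⟶ (singleFunctor (ModuleCat.{u} R) i).obj I) :
    g = 0 := by
  obtain ⟨Z', _, ⟨e⟩⟩ := exists_iso_Q_obj_of_isGE Z n
  let e2 := (singleFunctorIsoCompQ (ModuleCat.{u} R) i).app I
  have h0 := to_singleFunctor_obj_eq_zero_of_injective (K := Z') (i := i)
    (e.inv ≫ g ≫ e2.hom) n hi
  have h1 : g ≫ e2.hom = 0 := by
    rw [← cancel_epi e.inv, h0, comp_zero]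
  rw [← cancel_mono e2.hom, h1, zero_comp]

theorem split_of_extVan (K : Dual.D R)
    (hKb : ∃ b : ℤ, ∀ i : ℤ, b < i → IsZero ((homologyFunctor (ModuleCat.{u} R) i).obj K))
    (n m : ℤ) (hnm : n ≤ m)
    (hgap : ∀ i : ℤ, n ≤ i → i < m → IsZero ((homologyFunctor (ModuleCat.{u} R) i).obj K))
    (hext : ∀ (N : ModuleCat.{u} R)
      (g : ((TStructure.t : Triangulated.TStructure (Dual.D R)).truncGE m).obj K ⟶
        ((singleFunctor (ModuleCat.{u} R) 0).obj N)⟦1 - m⟧),
      ((TStructure.t : Triangulated.TStructure (Dual.D R)).truncGEπ m).app K ≫ g = 0)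
    [HasBinaryBiproduct
      (((TStructure.t : Triangulated.TStructure (Dual.D R)).truncLT n).obj K)
      (((TStructure.t : Triangulated.TStructure (Dual.D R)).truncGE m).obj K)] :
    (∃ e : K ≅
      ((TStructure.t : Triangulated.TStructure (Dual.D R)).truncLT n).obj K ⊞
        ((TStructure.t : Triangulated.TStructure (Dual.D R)).truncGE m).obj K,
      ((TStructure.t : Triangulated.TStructure (Dual.D R)).truncLTι n).app K ≫ e.hom =
          biprod.inl ∧
        e.hom ≫ biprod.snd =
          ((TStructure.t : Triangulated.TStructure (Dual.D R)).truncGEπ m).app K) ∧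
      ∃ (P : DRing.Cx R) (b : ℤ), DRing.VanishesOutside P m b ∧
        (∀ i : ℤ, Module.Projective R (P.X i)) ∧
        Nonempty (DRing.toD P ≅
          ((TStructure.t : Triangulated.TStructure (Dual.D R)).truncGE m).obj K) := by
  let t : Triangulated.TStructure (Dual.D R) := TStructure.t
  obtain ⟨δ, hT⟩ := exists_gap_triangle K n m hnm hgap
  obtain ⟨b, hb⟩ := hKb
  haveI hX1 : t.IsLE (((t.truncLT n).obj K)⟦(1 : ℤ)⟧) (n - 2) :=
    t.isLE_shift _ (n - 1) 1 (n - 2) (by omega)
  have hZext : ExtVan ((t.truncGE m).obj K) (1 - m) := by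
    intro N g
    obtain ⟨g', hg'⟩ : ∃ g' : ((t.truncLT n).obj K)⟦(1 : ℤ)⟧ ⟶
        ((singleFunctor (ModuleCat.{u} R) 0).obj N)⟦1 - m⟧, g = δ ≫ g' :=
      Triangle.yoneda_exact₃ _ hT g (hext N g)
    haveI : t.IsGE (((singleFunctor (ModuleCat.{u} R) 0).obj N)⟦1 - m⟧) (m - 1) :=
      t.isGE_shift _ 0 (1 - m) (m - 1) (by omega)
    have h0 : g' = 0 := t.zero g' (n - 2) (m - 1) (by omega)
    rw [hg', h0]
    exact comp_zero
  have hZ : ∀ i : ℤ, (i < m - 1 ∨ max b m < i) →
      IsZero ((homologyFunctor (ModuleCat.{u} R) i).obj ((t.truncGE m).obj K)) := by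
    intro i hi
    rcases hi with hi | hi
    · haveI : DerivedCategory.IsGE ((t.truncGE m).obj K) m :=
        inferInstanceAs (t.IsGE ((t.truncGE m).obj K) m)
      exact isZero_of_isGE _ m i (by omega)
    · haveI hepi : Epi ((homologyFunctor (ModuleCat.{u} R) i).map ((t.truncGEπ m).app K)) := by
        refine (HomologySequence.epi_homologyMap_mor₂_iff _ hT i (i + 1) rfl).mpr ?_
        have hz : IsZero ((homologyFunctor (ModuleCat.{u} R) (i + 1)).obj
            ((t.truncLT n).obj K)) := by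
          haveI : DerivedCategory.IsLE ((t.truncLT n).obj K) (n - 1) :=
            inferInstanceAs (t.IsLE ((t.truncLT n).obj K) (n - 1))
          exact isZero_of_isLE _ (n - 1) (i + 1) (by omega)
        exact hz.eq_of_tgt _ _
      exact IsZero.of_epi ((homologyFunctor (ModuleCat.{u} R) i).map ((t.truncGEπ m).app K))
        (hb i (by omega))
  have hP : ProjAmp m (max b m) ((t.truncGE m).obj K) :=
    projAmp_of_extVan _ m (max b m) hZ hZext
  have hδ : δ = 0 := by
    haveI : DerivedCategory.IsLE (((t.truncLT n).obj K)⟦(1 : ℤ)⟧) (m - 1) :=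
      t.isLE_of_le _ (n - 2) (m - 1) (by omega)
    exact hom_eq_zero_of_projAmp' m (max b m) _ hP _ δ
  obtain ⟨e, he1, he2⟩ := exists_iso_binaryBiproduct_of_distTriang _ hT hδ
  obtain ⟨P, hP1, hP2, hP3⟩ := hP
  exact ⟨⟨e, he1, he2.symm⟩, P, max b m, hP1, hP2, hP3⟩

end Groth.Agent.Helper11.DC

namespace Groth.Agent.Helper11.DC

variable {R : Type u} [CommRing R]

theorem comp_eq_zero_of_mono_hyp (K : Dual.D R) (a j : ℤ) (hj : j + a = 0)
    (h : ∀ (N : ModuleCat.{u} R) (x : K ⟶ ((singleFunctor (ModuleCat.{u} R) 0).obj N)⟦j⟧),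
      x ≫ ((singleFunctor (ModuleCat.{u} R) 0).map (Injective.ι N))⟦j⟧' = 0 → x = 0)
    (N : ModuleCat.{u} R)
    (g : ((TStructure.t : Triangulated.TStructure (Dual.D R)).truncGE (a + 1)).obj K ⟶
      ((singleFunctor (ModuleCat.{u} R) 0).obj N)⟦j⟧) :
    ((TStructure.t : Triangulated.TStructure (Dual.D R)).truncGEπ (a + 1)).app K ≫ g = 0 := by
  let t : Triangulated.TStructure (Dual.D R) := TStructure.t
  apply h N
  have h0 : g ≫ ((singleFunctor (ModuleCat.{u} R) 0).map (Injective.ι N))⟦j⟧' = 0 := by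
    let e := ((singleFunctors (ModuleCat.{u} R)).shiftIso j a 0 hj).app (Injective.under N)
    haveI : DerivedCategory.IsGE ((t.truncGE (a + 1)).obj K) (a + 1) :=
      inferInstanceAs (t.IsGE ((t.truncGE (a + 1)).obj K) (a + 1))
    have h1 := hom_to_injective_single_eq_zero ((t.truncGE (a + 1)).obj K) (a + 1)
      (Injective.under N) a (by omega)
      ((g ≫ ((singleFunctor (ModuleCat.{u} R) 0).map (Injective.ι N))⟦j⟧') ≫ e.hom)
    rw [← cancel_mono e.hom, h1, zero_comp]
  rw [assoc, h0]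
  exact comp_zero

end Groth.Agent.Helper11.DC
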