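import Groth.Agent.Lib.Helper11.DCNak
import Groth.Agent.Lib.Helper11.DCPre

/-!
A derived complete power-torsion module (w.r.t. a finitely generated ideal) has bounded torsion.
-/

universe u

namespace Groth.Agent.Helper11.DC

open scoped Pointwise

variable {A : Type u} [CommRing A]

section

variable {M : Type u} [AddCommGroup M] [Module A M]

theorem pre_subseq (F : ℕ → Submodule A M) (hF : Antitone F) (hpre : Pre F) (a : ℕ → M)
    (n : ℕ → ℕ) (hn : StrictMono n) (ha : ∀ i, a (i + 1) - a i ∈ F (n i)) :
    ∃ L : M, ∀ i, L - a i ∈ F (n i) := by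
  have h1 : ∀ i k, i ≤ k → a k - a i ∈ F (n i) := by
    intro i k hik
    induction k, hik using Nat.le_induction with
    | base => rw [sub_self]; exact Submodule.zero_mem _
    | succ k hik ih =>
      have : a (k + 1) - a i = (a (k + 1) - a k) + (a k - a i) := by abel
      rw [this]
      exact Submodule.add_mem _ (hF (hn.monotone hik) (ha k)) ih
  obtain ⟨L, hL⟩ := hpre a (fun i => hF (hn.le_apply) (ha i))
  refine ⟨L, fun i => ?_⟩
  have : L - a i = (L - a (n i)) + (a (n i) - a i) := by abel
  rw [this]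
  exact Submodule.add_mem _ (hL (n i)) (h1 i (n i) hn.le_apply)

theorem mem_span_pow_smul_top (f : A) (k : ℕ) (x : M) :
    x ∈ ((Ideal.span {f}) ^ k • ⊤ : Submodule A M) ↔ ∃ y : M, f ^ k • y = x := by
  rw [Ideal.span_singleton_pow, Submodule.ideal_span_singleton_smul,
    Submodule.mem_smul_pointwise_iff_exists]
  constructor
  · rintro ⟨y, -, h⟩
    exact ⟨y, h⟩
  · rintro ⟨y, h⟩
    exact ⟨y, trivial, h⟩

theorem bounded_torsion_principal (f : A) (hT : Function.Bijective (Tf M f))
    (ht : ∀ x : M, ∃ n : ℕ, f ^ n • x = 0) : ∃ n : ℕ, ∀ x : M, f ^ n • x = 0 := by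
  classical
  set F : ℕ → Submodule A M := fun k => ((Ideal.span {f}) ^ k • ⊤ : Submodule A M) with hFdef
  have hFanti : Antitone F := fun a b hab =>
    Submodule.smul_mono_left (Ideal.pow_le_pow_right hab)
  have hpre : Pre F := by
    have := pre_of_finset ({f} : Finset A) M (fun g hg => by
      rw [Finset.mem_singleton] at hg
      subst hg
      exact hT.2)
    rwa [Finset.coe_singleton] at this
  -- Step A
  have stepA : ∃ n : ℕ, ∀ (z : M) (j : ℕ), f ^ n • z ∈ F j := by
    by_contra hH
    push Not at hH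
    have step : ∀ (i n : ℕ) (p : M), ∃ (p' : M) (j : ℕ), p' - p ∈ F n ∧ f ^ i • p' ∉ F j := by
      intro i n p
      by_cases h : ∃ j, f ^ i • p ∉ F j
      · obtain ⟨j, hj⟩ := h
        exact ⟨p, j, by rw [sub_self]; exact Submodule.zero_mem _, hj⟩
      · push Not at h
        obtain ⟨z, j, hz⟩ := hH (i + n)
        refine ⟨p + f ^ n • z, j, ?_, ?_⟩
        · rw [add_sub_cancel_left]
          exact (mem_span_pow_smul_top f n _).mpr ⟨z, rfl⟩
        · intro hmem
          apply hz
          have e : f ^ (i + n) • z = f ^ i • (p + f ^ n • z) - f ^ i • p := by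
            rw [smul_add, add_sub_cancel_left, pow_add, mul_smul]
          rw [e]
          exact Submodule.sub_mem _ hmem (h j)
    choose P J hP hJ using step
    let st : ℕ → ℕ × M := fun i =>
      Nat.rec (0, 0) (fun i s => (s.1 + 1 + J i s.1 s.2, P i s.1 s.2)) i
    have hst : ∀ i, st (i + 1) = ((st i).1 + 1 + J i (st i).1 (st i).2, P i (st i).1 (st i).2) :=
      fun i => rfl
    have hn : StrictMono (fun i => (st i).1) := by
      refine strictMono_nat_of_lt_succ fun i => ?_
      simp only [hst]
      omega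
    obtain ⟨x, hx⟩ := pre_subseq F hFanti hpre (fun i => (st i).2) (fun i => (st i).1) hn
      (fun i => by
        simp only [hst]
        exact hP i _ _)
    obtain ⟨N, hN⟩ := ht x
    have h1 := hJ N (st N).1 (st N).2
    have h2 := hx (N + 1)
    simp only [hst] at h2
    apply h1
    have h3 : x - P N (st N).1 (st N).2 ∈ F (J N (st N).1 (st N).2) :=
      hFanti (by omega) h2
    have e : f ^ N • P N (st N).1 (st N).2 = - (f ^ N • (x - P N (st N).1 (st N).2)) := by
      rw [smul_sub, hN, zero_sub, neg_neg]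
    rw [e]
    exact Submodule.neg_mem _ (Submodule.smul_mem _ _ h3)
  -- Step B
  obtain ⟨n, hn⟩ := stepA
  let P : Submodule A M := LinearMap.range ((f ^ n) • (LinearMap.id : M →ₗ[A] M))
  have hinj : Function.Injective (Tf P f) := by
    rw [Tf_injective_iff]
    intro x hx
    have h1 : Tf M f (fun i => (x i : M)) = 0 := by
      have := Tf_map f P.subtype x
      rw [hx] at this
      funext i
      have h2 := congrFun this i
      simpa using h2
    have h2 := (Tf_injective_iff f).mp hT.1 _ h1
    funext i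
    exact Subtype.ext (congrFun h2 i)
  have hdiv : ∀ m : P, ∃ m' : P, m = f • m' := by
    rintro ⟨m, z, rfl⟩
    have := hn z (n + 1)
    rw [hFdef, mem_span_pow_smul_top] at this
    obtain ⟨w, hw⟩ := this
    refine ⟨⟨f ^ n • w, ⟨w, rfl⟩⟩, ?_⟩
    apply Subtype.ext
    simp only [LinearMap.smul_apply, LinearMap.id_coe, id_eq]
    rw [← hw, pow_succ', mul_smul]
    rfl
  refine ⟨n, fun x => ?_⟩
  have := eq_zero_of_divisible f hinj hdiv ⟨f ^ n • x, ⟨x, rfl⟩⟩
  exact congrArg Subtype.val this

end

theorem bounded_torsion (s : Finset A) :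
    ∀ (M : Type u) [AddCommGroup M] [Module A M], (∀ g ∈ s, Function.Bijective (Tf M g)) →
      (∀ g ∈ s, ∀ x : M, ∃ n : ℕ, g ^ n • x = 0) →
      ∃ n : ℕ, (Ideal.span (s : Set A)) ^ n • (⊤ : Submodule A M) = ⊥ := by
  classical
  induction s using Finset.induction_on with
  | empty =>
    intro M _ _ _ _
    exact ⟨1, by rw [Finset.coe_empty, Ideal.span_empty, pow_one, Submodule.bot_smul]⟩
  | insert f s hfs ih =>
    intro M _ _ hT ht
    obtain ⟨a, ha⟩ := ih M (fun g hg => hT g (Finset.mem_insert_of_mem hg))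
      (fun g hg => ht g (Finset.mem_insert_of_mem hg))
    obtain ⟨b, hb⟩ := bounded_torsion_principal f (hT f (Finset.mem_insert_self f s))
      (ht f (Finset.mem_insert_self f s))
    refine ⟨b + a, ?_⟩
    rw [eq_bot_iff, Finset.coe_insert, Ideal.span_insert]
    refine (Submodule.smul_mono_left Ideal.sup_pow_add_le_pow_sup_pow).trans ?_
    rw [Submodule.sup_smul, ha, sup_bot_eq]
    intro x hx
    rw [mem_span_pow_smul_top] at hx
    obtain ⟨y, rfl⟩ := hx
    rw [hb y]
    exact Submodule.zero_mem _

end Groth.Agent.Helper11.DC
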