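import Groth.Agent.Lib.Helper11.DCTwoTerm
import Groth.Agent.Lib.Helper11.DCBridge2
import Mathlib.Algebra.Category.ModuleCat.Projective

/-!
Two-term objects of `D(R)`: `H⁻¹ = 0` and `H⁰` projective iff `Ext¹(K, M) = 0` for all `M`.
-/

open CategoryTheory Category Limits Pretriangulated DerivedCategory

attribute [local instance] HasDerivedCategory.standard

universe u

namespace Groth.Agent.Helper11.DC

variable {R : Type u} [CommRing R]

theorem twoTerm_mp (K : Dual.D R)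
    (hK : ∀ i : ℤ, i ≠ -1 → i ≠ 0 → Subsingleton (Dual.HD R K i))
    (h1 : Subsingleton (Dual.HD R K (-1))) (hP : Module.Projective R (Dual.HD R K 0))
    (M : Type u) [AddCommGroup M] [Module R M] :
    Subsingleton (K ⟶ (Dual.inD R M)⟦(1 : ℤ)⟧) := by
  have hle : K.IsLE 0 := by
    rw [isLE_iff]
    intro i hi
    have := hK i (by omega) (by omega)
    exact ModuleCat.isZero_of_subsingleton _
  have hge : K.IsGE 0 := by
    rw [isGE_iff]
    intro i hi
    by_cases h : i = -1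
    · subst h
      exact ModuleCat.isZero_of_subsingleton _
    · have := hK i h (by omega)
      exact ModuleCat.isZero_of_subsingleton _
  obtain ⟨N, ⟨e⟩⟩ := exists_iso_singleFunctor_obj_of_isGE_of_isLE K 0
  have eN : (homologyFunctor (ModuleCat.{u} R) 0).obj K ≅ N :=
    (homologyFunctor (ModuleCat.{u} R) 0).mapIso e ≪≫ homologySingleIso N
  have hP' : Projective ((homologyFunctor (ModuleCat.{u} R) 0).obj K) :=
    (IsProjective.iff_projective (Dual.HD R K 0)).mp hP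
  have hN : Projective N := Projective.of_iso eN hP'
  refine ⟨fun g₁ g₂ => ?_⟩
  have h0 : ∀ g : K ⟶ (Dual.inD R M)⟦(1 : ℤ)⟧, g = 0 := by
    intro g
    have := single_hom_pos N (ModuleCat.of R M) 1 (by norm_num) (e.inv ≫ g)
    rw [← cancel_epi e.inv, this, comp_zero]
  rw [h0 g₁, h0 g₂]

theorem twoTerm_mpr (K : Dual.D R)
    (hK : ∀ i : ℤ, i ≠ -1 → i ≠ 0 → Subsingleton (Dual.HD R K i))
    (hext : ∀ (M : Type u) [AddCommGroup M] [Module R M],
      Subsingleton (K ⟶ (Dual.inD R M)⟦(1 : ℤ)⟧)) :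
    Subsingleton (Dual.HD R K (-1)) ∧ Module.Projective R (Dual.HD R K 0) := by
  have hK' : ∀ i : ℤ, i ≠ -1 → i ≠ 0 →
      IsZero ((homologyFunctor (ModuleCat.{u} R) i).obj K) := by
    intro i h1 h2
    have := hK i h1 h2
    exact ModuleCat.isZero_of_subsingleton _
  obtain ⟨N', N, X, Y, a, b, c, hT, ⟨eX⟩, ⟨eY⟩, ⟨e0⟩, ⟨e1⟩⟩ := exists_twoTerm_triangle K hK'
  have hext0 : ∀ (M : ModuleCat.{u} R)
      (g : K ⟶ ((singleFunctor (ModuleCat.{u} R) 0).obj M)⟦(1 : ℤ)⟧), g = 0 := by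
    intro M g
    exact (hext M).elim g 0
  have hXle : X.IsLE (-1) := by
    have : (((singleFunctor (ModuleCat.{u} R) 0).obj N')⟦(1 : ℤ)⟧).IsLE (-1) :=
      TStructure.t.isLE_shift _ 0 1 (-1) (by norm_num)
    exact TStructure.t.isLE_of_iso eX.symm (-1)
  -- Step 1
  have hN : Projective N := by
    apply projective_of_ext_one_vanish
    intro M g
    have h1 : b ≫ (eY.hom ≫ g) = 0 := hext0 M _
    obtain ⟨k, hk⟩ : ∃ k : X⟦(1 : ℤ)⟧ ⟶
        ((singleFunctor (ModuleCat.{u} R) 0).obj M)⟦(1 : ℤ)⟧, eY.hom ≫ g = c ≫ k :=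
      Triangle.yoneda_exact₃ (Triangle.mk a b c) hT (eY.hom ≫ g) h1
    have hk0 : k = 0 := by
      have : (X⟦(1 : ℤ)⟧).IsLE (-2) := TStructure.t.isLE_shift X (-1) 1 (-2) (by norm_num)
      have : (((singleFunctor (ModuleCat.{u} R) 0).obj M)⟦(1 : ℤ)⟧).IsGE (-1) :=
        TStructure.t.isGE_shift _ 0 1 (-1) (by norm_num)
      exact TStructure.t.zero k (-2) (-1) (by norm_num)
    have hg0 : eY.hom ≫ g = 0 := by rw [hk, hk0, comp_zero]
    exact (cancel_epi eY.hom).mp (hg0.trans comp_zero.symm)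
  -- Step 2
  have hm : ∀ m : Y⟦(-1 : ℤ)⟧ ⟶ ((singleFunctor (ModuleCat.{u} R) 0).obj N')⟦(1 : ℤ)⟧, m = 0 := by
    intro m
    apply (shiftFunctor (Dual.D R) (1 : ℤ)).map_injective
    rw [Functor.map_zero]
    let ε : (Y⟦(-1 : ℤ)⟧)⟦(1 : ℤ)⟧ ≅ Y := (shiftFunctorCompIsoId (Dual.D R) (-1) 1 (by norm_num)).app Y
    have hle2 : ((((singleFunctor (ModuleCat.{u} R) 0).obj N')⟦(1 : ℤ)⟧)⟦(1 : ℤ)⟧).IsLE (-2) := by
      have : (((singleFunctor (ModuleCat.{u} R) 0).obj N')⟦(1 : ℤ)⟧).IsLE (-1) :=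
        TStructure.t.isLE_shift _ 0 1 (-1) (by norm_num)
      exact TStructure.t.isLE_shift _ (-1) 1 (-2) (by norm_num)
    have h0 := single_proj_to_isLE_eq_zero N _ (-2) (by norm_num)
      (eY.inv ≫ ε.inv ≫ (shiftFunctor (Dual.D R) (1 : ℤ)).map m)
    rw [← cancel_epi ε.inv, ← cancel_epi eY.inv, h0, comp_zero, comp_zero]
  have hX0 : eX.hom = 0 := by
    have h1 : (Triangle.mk a b c).invRotate.mor₁ ≫ eX.hom = 0 := hm _
    obtain ⟨ψ, hψ⟩ := Triangle.yoneda_exact₂ (Triangle.mk a b c).invRotate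
      (inv_rot_of_distTriang _ hT) eX.hom h1
    have hψ0 : ψ = 0 := hext0 N' ψ
    rw [hψ0, comp_zero] at hψ
    exact hψ
  have hXz : IsZero X := by
    rw [IsZero.iff_id_eq_zero, ← eX.hom_inv_id, hX0, zero_comp]
  have hHz : IsZero ((homologyFunctor (ModuleCat.{u} R) (-1)).obj K) :=
    ((homologyFunctor (ModuleCat.{u} R) (-1)).map_isZero hXz).of_iso e1
  constructor
  · exact ModuleCat.subsingleton_of_isZero hHz
  · have hP' : Projective ((homologyFunctor (ModuleCat.{u} R) 0).obj K) :=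
      Projective.of_iso e0.symm hN
    exact (IsProjective.iff_projective (Dual.HD R K 0)).mpr hP'

end Groth.Agent.Helper11.DC
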