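import Mathlib
import Groth.Prelude.Def_ArtFun4

/-!
# Ring-level facts for the deformations `xy = a` of the node (helper11)
-/

set_option autoImplicit false
universe u
open MvPolynomial

namespace Groth.Agent.Helper11.DefNode

section Base
variable (k : Type u) [Field k]

/-- `t ↦ xy`. -/
noncomputable def wHom : Polynomial k →+* MvPolynomial (Fin 2) k :=
  Polynomial.eval₂RingHom C (X 0 * X 1)

theorem wHom_injective : Function.Injective (wHom k) := by
  let r : MvPolynomial (Fin 2) k →+* Polynomial k :=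
    MvPolynomial.eval₂Hom Polynomial.C ![Polynomial.X, 1]
  have h : r.comp (wHom k) = RingHom.id _ := by
    apply Polynomial.ringHom_ext
    · intro c; simp [wHom, r]
    · simp [wHom, r]
  intro p q hpq
  have := congrArg r hpq
  rwa [← RingHom.comp_apply, ← RingHom.comp_apply, h] at this

theorem wHom_flat : (wHom k).Flat := by
  letI := (wHom k).toAlgebra
  change Module.Flat (Polynomial k) (MvPolynomial (Fin 2) k)
  rw [Module.Flat.flat_iff_torsion_eq_bot_of_isBezout]
  have h : Module.IsTorsionFree (Polynomial k) (MvPolynomial (Fin 2) k) :=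
    Module.isTorsionFree_iff_algebraMap_injective.mpr (wHom_injective k)
  exact Submodule.isTorsionFree_iff_torsion_eq_bot.mp h

end Base

section Quot
variable {k : Type u} [Field k] {A : Type u} [CommRing A] [Algebra k A]

/-- The node relation `xy - a`. -/
noncomputable def rel (a : A) : MvPolynomial (Fin 2) A := X 0 * X 1 - C a

/-- `A → A[x,y]/I`. -/
noncomputable def αI (I : Ideal (MvPolynomial (Fin 2) A)) : A →+* MvPolynomial (Fin 2) A ⧸ I :=
  (Ideal.Quotient.mk I).comp C

variable (k) in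
/-- `k[x,y] → A[x,y]/I`. -/
noncomputable def βI (I : Ideal (MvPolynomial (Fin 2) A)) :
    MvPolynomial (Fin 2) k →+* MvPolynomial (Fin 2) A ⧸ I :=
  (Ideal.Quotient.mk I).comp (MvPolynomial.map (algebraMap k A))

variable (k) in
/-- `k[t] → A`, `t ↦ a`. -/
noncomputable def aHom (a : A) : Polynomial k →+* A := Polynomial.eval₂RingHom (algebraMap k A) a

theorem mk_rel {a : A} {I : Ideal (MvPolynomial (Fin 2) A)} (ha : rel a ∈ I) :
    Ideal.Quotient.mk I (X 0) * Ideal.Quotient.mk I (X 1) = Ideal.Quotient.mk I (C a) := by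
  rw [← map_mul, ← sub_eq_zero, ← map_sub]
  exact Ideal.Quotient.eq_zero_iff_mem.mpr ha

theorem comm_sq (a : A) (I : Ideal (MvPolynomial (Fin 2) A)) (ha : rel a ∈ I) :
    (βI k I).comp (wHom k) = (αI I).comp (aHom k a) := by
  apply Polynomial.ringHom_ext
  · intro c; simp [βI, αI, wHom, aHom]
  · simp only [βI, αI, wHom, aHom, RingHom.comp_apply, Polynomial.coe_eval₂RingHom,
      Polynomial.eval₂_X, map_mul, MvPolynomial.map_X]
    exact mk_rel ha

end Quot


section Pushout
open CategoryTheory CategoryTheory.Limits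
variable {k : Type u} [Field k] {A : Type u} [CommRing A] [Algebra k A]

/-- The descent map from `A[x,y]/I` for a cocone. -/
noncomputable def descHom {S : Type u} [CommRing S] (a : A) (I : Ideal (MvPolynomial (Fin 2) A))
    (hI : I = Ideal.span {rel a})
    (f : MvPolynomial (Fin 2) k →+* S) (g : A →+* S) (h : f.comp (wHom k) = g.comp (aHom k a)) :
    MvPolynomial (Fin 2) A ⧸ I →+* S :=
  Ideal.Quotient.lift I (MvPolynomial.eval₂Hom g (fun i => f (X i))) (by
    have hle : I ≤ RingHom.ker (MvPolynomial.eval₂Hom g (fun i => f (X i))) := by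
      rw [hI, Ideal.span_le, Set.singleton_subset_iff, SetLike.mem_coe, RingHom.mem_ker]
      have h1 := congrArg (fun φ => φ Polynomial.X) h
      simp only [RingHom.comp_apply, wHom, aHom, Polynomial.coe_eval₂RingHom, Polynomial.eval₂_X,
        map_mul] at h1
      simp [rel, h1]
    intro p hp
    exact hle hp)

theorem descHom_mk {S : Type u} [CommRing S] (a : A) (I : Ideal (MvPolynomial (Fin 2) A))
    (hI : I = Ideal.span {rel a})
    (f : MvPolynomial (Fin 2) k →+* S) (g : A →+* S) (h : f.comp (wHom k) = g.comp (aHom k a))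
    (p : MvPolynomial (Fin 2) A) :
    descHom a I hI f g h (Ideal.Quotient.mk I p) = MvPolynomial.eval₂Hom g (fun i => f (X i)) p :=
  Ideal.Quotient.lift_mk _ _ _

theorem descHom_β {S : Type u} [CommRing S] (a : A) (I : Ideal (MvPolynomial (Fin 2) A))
    (hI : I = Ideal.span {rel a})
    (f : MvPolynomial (Fin 2) k →+* S) (g : A →+* S) (h : f.comp (wHom k) = g.comp (aHom k a)) :
    (descHom a I hI f g h).comp (βI k I) = f := by
  apply MvPolynomial.ringHom_ext
  · intro c
    have h1 := congrArg (fun φ => φ (Polynomial.C c)) h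
    simp only [RingHom.comp_apply, wHom, aHom, Polynomial.coe_eval₂RingHom, Polynomial.eval₂_C] at h1
    simp [βI, descHom_mk, h1]
  · intro i
    simp [βI, descHom_mk]

theorem descHom_α {S : Type u} [CommRing S] (a : A) (I : Ideal (MvPolynomial (Fin 2) A))
    (hI : I = Ideal.span {rel a})
    (f : MvPolynomial (Fin 2) k →+* S) (g : A →+* S) (h : f.comp (wHom k) = g.comp (aHom k a)) :
    (descHom a I hI f g h).comp (αI I) = g := by
  ext r
  simp [αI, descHom_mk]

theorem descHom_uniq {S : Type u} [CommRing S] (a : A) (I : Ideal (MvPolynomial (Fin 2) A))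
    (hI : I = Ideal.span {rel a})
    (f : MvPolynomial (Fin 2) k →+* S) (g : A →+* S) (h : f.comp (wHom k) = g.comp (aHom k a))
    (m : MvPolynomial (Fin 2) A ⧸ I →+* S) (h1 : m.comp (βI k I) = f) (h2 : m.comp (αI I) = g) :
    m = descHom a I hI f g h := by
  apply Ideal.Quotient.ringHom_ext
  apply MvPolynomial.ringHom_ext
  · intro r
    have := congrArg (fun φ => φ r) h2
    simp only [RingHom.comp_apply, αI] at this
    simp [descHom_mk, this]
  · intro i
    have := congrArg (fun φ => φ (X i)) h1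
    simp only [RingHom.comp_apply, βI, MvPolynomial.map_X] at this
    simp [descHom_mk, this]

/-- The pushout square `k[t] → k[x,y]`, `k[t] → A`, with pushout `A[x,y]/(xy - a)`. -/
theorem isPushout_node (a : A) (I : Ideal (MvPolynomial (Fin 2) A)) (hI : I = Ideal.span {rel a}) :
    IsPushout (CommRingCat.ofHom (wHom k)) (CommRingCat.ofHom (aHom k a))
      (CommRingCat.ofHom (βI k I)) (CommRingCat.ofHom (αI I)) := by
  have hmem : rel a ∈ I := hI ▸ Ideal.subset_span rfl
  have hw : CommRingCat.ofHom (wHom k) ≫ CommRingCat.ofHom (βI k I) =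
      CommRingCat.ofHom (aHom k a) ≫ CommRingCat.ofHom (αI I) := by
    rw [← CommRingCat.ofHom_comp, ← CommRingCat.ofHom_comp, comm_sq a I hmem]
  have hcond : ∀ s : PushoutCocone (CommRingCat.ofHom (wHom k)) (CommRingCat.ofHom (aHom k a)),
      s.inl.hom.comp (wHom k) = s.inr.hom.comp (aHom k a) := by
    intro s
    have := congrArg CommRingCat.Hom.hom s.condition
    simpa using this
  refine ⟨⟨hw⟩, ⟨PushoutCocone.IsColimit.mk hw
    (fun s => CommRingCat.ofHom (descHom a I hI s.inl.hom s.inr.hom (hcond s))) ?_ ?_ ?_⟩⟩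
  · intro s
    apply CommRingCat.hom_ext
    simp only [CommRingCat.hom_comp, CommRingCat.hom_ofHom]
    exact descHom_β a I hI _ _ _
  · intro s
    apply CommRingCat.hom_ext
    simp only [CommRingCat.hom_comp, CommRingCat.hom_ofHom]
    exact descHom_α a I hI _ _ _
  · intro s m h1 h2
    apply CommRingCat.hom_ext
    simp only [CommRingCat.hom_ofHom]
    apply descHom_uniq a I hI
    · have := congrArg CommRingCat.Hom.hom h1
      simpa using this
    · have := congrArg CommRingCat.Hom.hom h2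
      simpa using this

end Pushout


section Maps
variable {k : Type u} [Field k] {A B D : Type u} [CommRing A] [CommRing B] [CommRing D]

theorem map_rel (φ : A →+* B) (a : A) : MvPolynomial.map φ (rel a) = rel (φ a) := by
  simp [rel]

/-- The map `A[x,y]/I → B[x,y]/J` induced by `φ : A → B`. -/
noncomputable def qMap (φ : A →+* B) (a : A) (I : Ideal (MvPolynomial (Fin 2) A))
    (hI : I = Ideal.span {rel a}) (J : Ideal (MvPolynomial (Fin 2) B)) (hJ : rel (φ a) ∈ J) :
    MvPolynomial (Fin 2) A ⧸ I →+* MvPolynomial (Fin 2) B ⧸ J :=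
  Ideal.quotientMap J (MvPolynomial.map φ) (by
    rw [hI, Ideal.span_le, Set.singleton_subset_iff]
    change MvPolynomial.map φ (rel a) ∈ J
    rw [map_rel]; exact hJ)

@[simp] theorem qMap_mk (φ : A →+* B) (a : A) (I : Ideal (MvPolynomial (Fin 2) A))
    (hI : I = Ideal.span {rel a}) (J : Ideal (MvPolynomial (Fin 2) B)) (hJ : rel (φ a) ∈ J)
    (p : MvPolynomial (Fin 2) A) :
    qMap φ a I hI J hJ (Ideal.Quotient.mk I p) = Ideal.Quotient.mk J (MvPolynomial.map φ p) :=
  Ideal.quotientMap_mk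

theorem qMap_α (φ : A →+* B) (a : A) (I : Ideal (MvPolynomial (Fin 2) A))
    (hI : I = Ideal.span {rel a}) (J : Ideal (MvPolynomial (Fin 2) B)) (hJ : rel (φ a) ∈ J) :
    (qMap φ a I hI J hJ).comp (αI I) = (αI J).comp φ := by
  ext r
  simp [αI]

theorem qMap_β [Algebra k A] [Algebra k B] (φ : A →+* B)
    (hφ : φ.comp (algebraMap k A) = algebraMap k B) (a : A) (I : Ideal (MvPolynomial (Fin 2) A))
    (hI : I = Ideal.span {rel a}) (J : Ideal (MvPolynomial (Fin 2) B)) (hJ : rel (φ a) ∈ J) :
    (qMap φ a I hI J hJ).comp (βI k I) = βI k J := by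
  apply MvPolynomial.ringHom_ext
  · intro c
    have := congrArg (fun ψ => ψ c) hφ
    simp only [RingHom.comp_apply] at this
    simp [βI, this]
  · intro i
    simp [βI]

theorem qMap_comp (φ : A →+* B) (ψ : B →+* D) (a : A) (I : Ideal (MvPolynomial (Fin 2) A))
    (hI : I = Ideal.span {rel a}) (J : Ideal (MvPolynomial (Fin 2) B)) (hJ : rel (φ a) ∈ J)
    (hJ' : J = Ideal.span {rel (φ a)})
    (K : Ideal (MvPolynomial (Fin 2) D)) (hK : rel (ψ (φ a)) ∈ K) :
    (qMap ψ (φ a) J hJ' K hK).comp (qMap φ a I hI J hJ) = qMap (ψ.comp φ) a I hI K hK := by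
  apply Ideal.Quotient.ringHom_ext
  apply MvPolynomial.ringHom_ext
  · intro r; simp
  · intro i; simp

/-- `x ↦ c x`, `y ↦ y`. -/
noncomputable def twist (c : A) : MvPolynomial (Fin 2) A →+* MvPolynomial (Fin 2) A :=
  MvPolynomial.eval₂Hom C ![C c * X 0, X 1]

@[simp] theorem twist_C (c r : A) : twist c (C r) = C r := by simp [twist]
@[simp] theorem twist_X0 (c : A) : twist c (X 0) = C c * X 0 := by simp [twist]
@[simp] theorem twist_X1 (c : A) : twist c (X 1) = X 1 := by simp [twist]

/-- The map `A[x,y]/(xy - ca) → A[x,y]/(xy - a)`, `x ↦ c x`. -/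
noncomputable def tw (c a b : A) (hb : b = c * a) (I : Ideal (MvPolynomial (Fin 2) A))
    (hI : I = Ideal.span {rel b}) (J : Ideal (MvPolynomial (Fin 2) A)) (hJ : rel a ∈ J) :
    MvPolynomial (Fin 2) A ⧸ I →+* MvPolynomial (Fin 2) A ⧸ J :=
  Ideal.quotientMap J (twist c) (by
    rw [hI, Ideal.span_le, Set.singleton_subset_iff]
    change twist c (rel b) ∈ J
    have : twist c (rel b) = C c * rel a := by
      simp only [rel, map_sub, map_mul, twist_X0, twist_X1, twist_C, hb]
      ring
    rw [this]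
    exact J.mul_mem_left _ hJ)

@[simp] theorem tw_mk (c a b : A) (hb : b = c * a) (I : Ideal (MvPolynomial (Fin 2) A))
    (hI : I = Ideal.span {rel b}) (J : Ideal (MvPolynomial (Fin 2) A)) (hJ : rel a ∈ J)
    (p : MvPolynomial (Fin 2) A) :
    tw c a b hb I hI J hJ (Ideal.Quotient.mk I p) = Ideal.Quotient.mk J (twist c p) :=
  Ideal.quotientMap_mk

theorem tw_α (c a b : A) (hb : b = c * a) (I : Ideal (MvPolynomial (Fin 2) A))
    (hI : I = Ideal.span {rel b}) (J : Ideal (MvPolynomial (Fin 2) A)) (hJ : rel a ∈ J) :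
    (tw c a b hb I hI J hJ).comp (αI I) = αI J := by
  ext r
  simp [αI]

theorem tw_tw (c d a b : A) (hb : b = c * a) (ha : a = d * b) (hcd : c * d = 1)
    (I : Ideal (MvPolynomial (Fin 2) A))
    (hI : I = Ideal.span {rel b}) (J : Ideal (MvPolynomial (Fin 2) A)) (hJ : J = Ideal.span {rel a}) :
    (tw c a b hb I hI J (hJ ▸ Ideal.subset_span rfl)).comp
      (tw d b a ha J hJ I (hI ▸ Ideal.subset_span rfl)) = RingHom.id _ := by
  apply Ideal.Quotient.ringHom_ext
  apply MvPolynomial.ringHom_ext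
  · intro r; simp
  · intro i
    fin_cases i
    · simp only [RingHom.comp_apply, tw_mk, Fin.zero_eta, twist_X0, map_mul, twist_C, RingHom.id_apply]
      rw [← mul_assoc, ← map_mul, ← C_mul, mul_comm d c, hcd, C_1, map_one, one_mul]
    · simp

theorem qMap_tw (φ : A →+* B) (c a b : A) (hb : b = c * a) (hc : φ c = 1)
    (I : Ideal (MvPolynomial (Fin 2) A))
    (hI : I = Ideal.span {rel b}) (J : Ideal (MvPolynomial (Fin 2) A)) (hJ : J = Ideal.span {rel a})
    (K : Ideal (MvPolynomial (Fin 2) B)) (hK : rel (φ a) ∈ K) (hK' : rel (φ b) ∈ K) :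
    (qMap φ a J hJ K hK).comp (tw c a b hb I hI J (hJ ▸ Ideal.subset_span rfl)) =
      qMap φ b I hI K hK' := by
  apply Ideal.Quotient.ringHom_ext
  apply MvPolynomial.ringHom_ext
  · intro r; simp
  · intro i
    fin_cases i
    · simp [hc]
    · simp

/-- The zero section `A[x,y]/I → A`, `x, y ↦ 0`. -/
noncomputable def zeroSec (I : Ideal (MvPolynomial (Fin 2) A))
    (hI : ∀ p ∈ I, MvPolynomial.eval₂Hom (RingHom.id A) (fun _ => (0 : A)) p = 0) :
    MvPolynomial (Fin 2) A ⧸ I →+* A :=
  Ideal.Quotient.lift I _ hI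

@[simp] theorem zeroSec_mk (I : Ideal (MvPolynomial (Fin 2) A))
    (hI : ∀ p ∈ I, MvPolynomial.eval₂Hom (RingHom.id A) (fun _ => (0 : A)) p = 0)
    (p : MvPolynomial (Fin 2) A) :
    zeroSec I hI (Ideal.Quotient.mk I p) = MvPolynomial.eval₂Hom (RingHom.id A) (fun _ => (0 : A)) p :=
  Ideal.Quotient.lift_mk _ _ _

theorem zeroSec_cond_rel : ∀ p ∈ Ideal.span {rel (0 : A)},
    MvPolynomial.eval₂Hom (RingHom.id A) (fun _ => (0 : A)) p = 0 := by
  have hle : Ideal.span {rel (0 : A)} ≤
      RingHom.ker (MvPolynomial.eval₂Hom (RingHom.id A) (fun _ => (0 : A))) := by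
    rw [Ideal.span_le, Set.singleton_subset_iff, SetLike.mem_coe, RingHom.mem_ker]
    simp [rel]
  intro p hp
  exact hle hp

theorem zeroSec_cond_node : ∀ p ∈ Ideal.span {(X 0 * X 1 : MvPolynomial (Fin 2) A)},
    MvPolynomial.eval₂Hom (RingHom.id A) (fun _ => (0 : A)) p = 0 := by
  have hle : Ideal.span {(X 0 * X 1 : MvPolynomial (Fin 2) A)} ≤
      RingHom.ker (MvPolynomial.eval₂Hom (RingHom.id A) (fun _ => (0 : A))) := by
    rw [Ideal.span_le, Set.singleton_subset_iff, SetLike.mem_coe, RingHom.mem_ker]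
    simp
  intro p hp
  exact hle hp

theorem zeroSec_α (I : Ideal (MvPolynomial (Fin 2) A))
    (hI : ∀ p ∈ I, MvPolynomial.eval₂Hom (RingHom.id A) (fun _ => (0 : A)) p = 0) :
    (zeroSec I hI).comp (αI I) = RingHom.id A := by
  ext r
  simp [αI]

theorem zeroSec_qMap (φ : A →+* B) (a : A) (I : Ideal (MvPolynomial (Fin 2) A))
    (hI : I = Ideal.span {rel a}) (J : Ideal (MvPolynomial (Fin 2) B)) (hJ : rel (φ a) ∈ J)
    (hI0 : ∀ p ∈ I, MvPolynomial.eval₂Hom (RingHom.id A) (fun _ => (0 : A)) p = 0)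
    (hJ0 : ∀ p ∈ J, MvPolynomial.eval₂Hom (RingHom.id B) (fun _ => (0 : B)) p = 0) :
    (zeroSec J hJ0).comp (qMap φ a I hI J hJ) = φ.comp (zeroSec I hI0) := by
  apply Ideal.Quotient.ringHom_ext
  apply MvPolynomial.ringHom_ext
  · intro r; simp
  · intro i; simp

end Maps

end Groth.Agent.Helper11.DefNode
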