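import Mathlib
import Groth.Prelude.Def_ArtFun4

/-!
# The Artinian ring `k[ε, η]/(ε², η²)` as an object of `Art k k` (helper11)
-/

set_option autoImplicit false
universe u
open CategoryTheory ArtFun ArtFun.Art

namespace Groth.Agent.Helper11.DefNode

variable (k : Type u) [Field k]

/-- `k[ε,η]/(ε²,η²)`. -/
abbrev A4c : Type u := TrivSqZeroExt (DualNumber k) (DualNumber k)

instance : IsLocalRing (DualNumber k) := isLocalRing_tsze k k

theorem isLocalRing_A4c : IsLocalRing (A4c k) := by
  refine IsLocalRing.of_nonunits_add fun a b ha hb => ?_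
  rw [mem_nonunits_iff, TrivSqZeroExt.isUnit_iff_isUnit_fst] at ha hb ⊢
  rw [TrivSqZeroExt.fst_add]
  exact IsLocalRing.nonunits_add ha hb

instance : IsLocalRing (A4c k) := isLocalRing_A4c k

noncomputable instance : Algebra k (A4c k) := TrivSqZeroExt.algebra' k (DualNumber k) (DualNumber k)

theorem isArtinianRing_A4c : IsArtinianRing (A4c k) := by
  haveI : Module.Finite k (DualNumber k) := inferInstanceAs (Module.Finite k (k × k))
  haveI : Module.Finite k (A4c k) := inferInstanceAs (Module.Finite k (DualNumber k × DualNumber k))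
  exact IsArtinianRing.of_finite k _

instance : IsArtinianRing (A4c k) := isArtinianRing_A4c k

/-- The augmentation. -/
noncomputable def res4 : A4c k →ₐ[k] k :=
  (TrivSqZeroExt.fstHom k k k).comp (TrivSqZeroExt.fstHom k (DualNumber k) (DualNumber k))

/-- `k[ε,η]/(ε²,η²)` as an object of `Art k k`. -/
noncomputable def A4 : Art k k :=
  Art.of (A4c k) (res4 k) (fun a => ⟨TrivSqZeroExt.inl (TrivSqZeroExt.inl a), rfl⟩)


/-- The endomorphism `ε ↦ ε(1+η)`, `η ↦ η`. -/
noncomputable def sFun (z : A4c k) : A4c k :=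
  z + TrivSqZeroExt.inr (TrivSqZeroExt.inr z.fst.snd)

@[simp] theorem sFun_fst (z : A4c k) : (sFun k z).fst = z.fst := by simp [sFun]
@[simp] theorem sFun_snd_fst (z : A4c k) : (sFun k z).snd.fst = z.snd.fst := by simp [sFun]
@[simp] theorem sFun_snd_snd (z : A4c k) : (sFun k z).snd.snd = z.snd.snd + z.fst.snd := by
  simp [sFun]

theorem A4c_ext {x y : A4c k} (h1 : x.fst.fst = y.fst.fst) (h2 : x.fst.snd = y.fst.snd)
    (h3 : x.snd.fst = y.snd.fst) (h4 : x.snd.snd = y.snd.snd) : x = y :=
  TrivSqZeroExt.ext (TrivSqZeroExt.ext h1 h2) (TrivSqZeroExt.ext h3 h4)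

/-- The endomorphism `ε ↦ ε(1+η)`, `η ↦ η` as an algebra map. -/
noncomputable def sAlg : A4c k →ₐ[k] A4c k where
  toFun := sFun k
  map_one' := by
    apply A4c_ext <;> simp
  map_mul' x y := by
    apply A4c_ext <;> simp <;> ring
  map_zero' := by
    apply A4c_ext <;> simp
  map_add' x y := by
    apply A4c_ext <;> simp <;> ring
  commutes' r := by
    apply A4c_ext <;> simp [TrivSqZeroExt.algebraMap_eq_inl']


@[simp] theorem sAlg_apply (z : A4c k) : sAlg k z = sFun k z := rfl

theorem res4_apply (z : A4c k) : res4 k z = z.fst.fst := rfl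

/-- `s` as a morphism of `Art k k`. -/
noncomputable def sHom : A4 k ⟶ A4 k :=
  Art.homMk (sAlg k) (AlgHom.ext fun (z : A4c k) =>
    show res4 k (sFun k z) = res4 k z by rw [res4_apply, res4_apply, sFun_fst])

/-- `η ↦ 0` as a morphism of `Art k k`. -/
noncomputable def πHom : A4 k ⟶ dual k k :=
  Art.homMk (TrivSqZeroExt.fstHom k (DualNumber k) (DualNumber k)) rfl

/-- `ε` in `A4`. -/
noncomputable def a4 : A4c k := TrivSqZeroExt.inl (TrivSqZeroExt.inr 1)

/-- `1 + η`. -/
noncomputable def u4 : A4c k := 1 + TrivSqZeroExt.inr 1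

/-- `1 - η`. -/
noncomputable def v4 : A4c k := 1 - TrivSqZeroExt.inr 1

theorem u4_mul_v4 : u4 k * v4 k = 1 := by
  apply A4c_ext <;> simp [u4, v4]

theorem res_u4 : res4 k (u4 k) = 1 := by
  simp [res4_apply, u4]

theorem res_a4 : res4 k (a4 k) = 0 := by
  simp [res4_apply, a4]

theorem s_a4 : sAlg k (a4 k) = u4 k * a4 k := by
  apply A4c_ext <;> simp [u4, a4]

theorem π_a4 : TrivSqZeroExt.fstHom k (DualNumber k) (DualNumber k) (a4 k) = (DualNumber.eps : DualNumber k) := rfl

theorem fst_snd_eq_zero_of_fixed (z : A4c k) (hz : sAlg k z = z) : z.fst.snd = 0 := by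
  have := congrArg (fun w : A4c k => w.snd.snd) hz
  simpa using this

theorem scale_zero_apply (e : DualNumber k) (he : e.snd = 0) :
    (scale (Λ := k) (k := k) (0 : k)) e = e := by
  apply TrivSqZeroExt.ext
  · rfl
  · change (0 : k) • e.snd = e.snd
    rw [he, smul_zero]

theorem scale_zero_eps : (scale (Λ := k) (k := k) (0 : k)) (DualNumber.eps : DualNumber k) = 0 := by
  apply TrivSqZeroExt.ext
  · rfl
  · change (0 : k) • (DualNumber.eps : DualNumber k).snd = 0
    rw [zero_smul]

theorem dual_res_eps : (dual k k).res (DualNumber.eps : DualNumber k) = 0 := rfl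

theorem dual_mul_eq_zero (p q : DualNumber k) (hp : p.fst = 0) (hq : q.fst = 0) : p * q = 0 := by
  apply TrivSqZeroExt.ext <;> simp [hp, hq]

theorem eps_ne_zero : (DualNumber.eps : DualNumber k) ≠ 0 := by
  intro h
  have := congrArg TrivSqZeroExt.snd h
  rw [DualNumber.snd_eps, TrivSqZeroExt.snd_zero] at this
  exact one_ne_zero this

end Groth.Agent.Helper11.DefNode
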