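import Groth.Agent.Lib.Helper11.DefNodeA
import Groth.Agent.Lib.Helper11.DefNodeB

/-!
# The deformations `xy = a` of the node as `DefSch` (helper11)
-/

set_option autoImplicit false
universe u
open CategoryTheory CategoryTheory.Limits AlgebraicGeometry MvPolynomial ArtFun ArtFun.Art

namespace Groth.Agent.Helper11.DefNode

variable (k : Type u) [Field k]

/-- The ideal `(xy)` of `k[x,y]`. -/
noncomputable abbrev In : Ideal (MvPolynomial (Fin 2) k) := Ideal.span {(X 0 * X 1 : MvPolynomial (Fin 2) k)}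

/-- The node ring. -/
abbrev Qn : Type u := MvPolynomial (Fin 2) k ⧸ In k

/-- The node. -/
noncomputable abbrev XQ : Scheme.{u} := Spec (CommRingCat.of (Qn k))

/-- Its structure morphism. -/
noncomputable abbrev xQ : XQ k ⟶ specPt k := Spec.map (CommRingCat.ofHom (algebraMap k (Qn k)))

theorem In_eq : In k = Ideal.span {rel (0 : k)} := by
  simp [rel]

theorem rel_mem_In (c : k) (hc : c = 0) : rel c ∈ In k := by
  subst hc
  rw [In_eq]
  exact Ideal.subset_span rfl

/-- The ideal `(xy - a)`. -/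
noncomputable abbrev Ia (A : Art k k) (a : A) : Ideal (MvPolynomial (Fin 2) A) := Ideal.span {rel a}

/-- Reduction `A[x,y]/(xy - a) → k[x,y]/(xy)`. -/
noncomputable def ιA (A : Art k k) (a : A) (ha : A.res a = 0) :
    MvPolynomial (Fin 2) A ⧸ Ia k A a →+* Qn k :=
  qMap A.res.toRingHom a (Ia k A a) rfl (In k) (rel_mem_In k _ ha)

theorem isPullback_A (A : Art k k) (a : A) :
    IsPullback (Spec.map (CommRingCat.ofHom (βI k (Ia k A a))))
      (Spec.map (CommRingCat.ofHom (αI (Ia k A a))))
      (Spec.map (CommRingCat.ofHom (wHom k))) (Spec.map (CommRingCat.ofHom (aHom k a))) :=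
  isPullback_SpecMap_of_isPushout _ _ _ _ (isPushout_node a _ rfl)

theorem isPullback_node :
    IsPullback (Spec.map (CommRingCat.ofHom (βI k (In k))))
      (Spec.map (CommRingCat.ofHom (αI (In k))))
      (Spec.map (CommRingCat.ofHom (wHom k))) (Spec.map (CommRingCat.ofHom (aHom k (0 : k)))) :=
  isPullback_SpecMap_of_isPushout _ _ _ _ (isPushout_node (0 : k) _ (In_eq k))

theorem res_comp_algebraMap (A : Art k k) :
    A.res.toRingHom.comp (algebraMap k A) = algebraMap k k := by
  ext c
  exact A.res.commutes c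

theorem res_comp_aHom (A : Art k k) (a : A) (ha : A.res a = 0) :
    A.res.toRingHom.comp (aHom k a) = aHom k (0 : k) := by
  apply Polynomial.ringHom_ext
  · intro c
    simp [aHom]
  · simp only [aHom, RingHom.comp_apply, Polynomial.coe_eval₂RingHom, Polynomial.eval₂_X]
    exact ha

theorem αI_In : αI (In k) = algebraMap k (Qn k) := rfl

/-- The deformation `xy = a` over `A`. -/
@[reducible] noncomputable def D (A : Art k k) (a : A) (ha : A.res a = 0) : DefSch (XQ k) (xQ k) A where
  total := Spec (CommRingCat.of (MvPolynomial (Fin 2) A ⧸ Ia k A a))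
  f := Spec.map (CommRingCat.ofHom (αI (Ia k A a)))
  flat := MorphismProperty.of_isPullback (P := @Flat) (isPullback_A k A a)
    (Flat.SpecMap_iff.mpr (wHom_flat k))
  i := Spec.map (CommRingCat.ofHom (ιA k A a ha))
  isPullback := by
    refine IsPullback.of_right ?_ ?_ (isPullback_A k A a)
    · have h1 : Spec.map (CommRingCat.ofHom (ιA k A a ha)) ≫
          Spec.map (CommRingCat.ofHom (βI k (Ia k A a))) =
          Spec.map (CommRingCat.ofHom (βI k (In k))) := by
        rw [← Spec.map_comp, ← CommRingCat.ofHom_comp]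
        congr 2
        exact qMap_β _ (res_comp_algebraMap k A) _ _ _ _ _
      have h2 : specRes A ≫ Spec.map (CommRingCat.ofHom (aHom k a)) =
          Spec.map (CommRingCat.ofHom (aHom k (0 : k))) := by
        rw [← Spec.map_comp, ← CommRingCat.ofHom_comp]
        congr 2
        exact res_comp_aHom k A a ha
      rw [h1, h2]
      exact isPullback_node k
    · rw [← Spec.map_comp, ← Spec.map_comp, ← CommRingCat.ofHom_comp, ← CommRingCat.ofHom_comp]
      congr 2
      exact qMap_α _ _ _ _ _ _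


theorem hom_comp_algebraMap {A B : Art k k} (g : A ⟶ B) :
    g.toAlgHom.toRingHom.comp (algebraMap k A) = algebraMap k B := by
  ext c
  exact g.toAlgHom.commutes c

theorem hom_comp_aHom {A B : Art k k} (g : A ⟶ B) (a : A) :
    g.toAlgHom.toRingHom.comp (aHom k a) = aHom k (g.toAlgHom.toRingHom a) := by
  apply Polynomial.ringHom_ext
  · intro c
    simp [aHom]
  · simp only [aHom, RingHom.comp_apply, Polynomial.coe_eval₂RingHom, Polynomial.eval₂_X]

/-- The map `A[x,y]/(xy - a) → B[x,y]/(xy - g a)`. -/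
noncomputable def γAB {A B : Art k k} (g : A ⟶ B) (a : A) :
    MvPolynomial (Fin 2) A ⧸ Ia k A a →+* MvPolynomial (Fin 2) B ⧸ Ia k B (g.toAlgHom.toRingHom a) :=
  qMap g.toAlgHom.toRingHom a (Ia k A a) rfl (Ia k B (g.toAlgHom.toRingHom a)) (Ideal.subset_span rfl)

theorem isPullback_γ {A B : Art k k} (g : A ⟶ B) (a : A) :
    IsPullback (Spec.map (CommRingCat.ofHom (γAB k g a)))
      (Spec.map (CommRingCat.ofHom (αI (Ia k B (g.toAlgHom.toRingHom a)))))
      (Spec.map (CommRingCat.ofHom (αI (Ia k A a)))) (specMap g) := by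
  refine IsPullback.of_right ?_ ?_ (isPullback_A k A a)
  · have h1 : Spec.map (CommRingCat.ofHom (γAB k g a)) ≫
        Spec.map (CommRingCat.ofHom (βI k (Ia k A a))) =
        Spec.map (CommRingCat.ofHom (βI k (Ia k B (g.toAlgHom.toRingHom a)))) := by
      rw [← Spec.map_comp, ← CommRingCat.ofHom_comp]
      congr 2
      exact qMap_β _ (hom_comp_algebraMap k g) _ _ _ _ _
    have h2 : specMap g ≫ Spec.map (CommRingCat.ofHom (aHom k a)) =
        Spec.map (CommRingCat.ofHom (aHom k (g.toAlgHom.toRingHom a))) := by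
      rw [← Spec.map_comp, ← CommRingCat.ofHom_comp]
      congr 2
      exact hom_comp_aHom k g a
    rw [h1, h2]
    exact isPullback_A k B _
  · rw [← Spec.map_comp, ← Spec.map_comp, ← CommRingCat.ofHom_comp, ← CommRingCat.ofHom_comp]
    congr 2
    exact qMap_α _ _ _ _ _ _

theorem res_hom {A B : Art k k} (g : A ⟶ B) (a : A) (ha : A.res a = 0) :
    B.res (g.toAlgHom.toRingHom a) = 0 := by
  have := Art.res_app g a
  rw [ha] at this
  exact this

/-- Base change of `xy = a` along `g` is `xy = g a`. -/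
noncomputable def baseChangeIso {A B : Art k k} (g : A ⟶ B) (a : A) (ha : A.res a = 0) :
    DefSch.Iso (D k B (g.toAlgHom.toRingHom a) (res_hom k g a ha)) ((D k A a ha).baseChange g) where
  iso := (isPullback_γ k g a).isoPullback
  hom_f := (isPullback_γ k g a).isoPullback_hom_snd
  i_hom := by
    apply pullback.hom_ext
    · rw [Category.assoc, (isPullback_γ k g a).isoPullback_hom_fst, DefSch.baseChange_i_fst]
      change Spec.map _ ≫ Spec.map _ = Spec.map _
      rw [← Spec.map_comp, ← CommRingCat.ofHom_comp]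
      congr 2
      have := qMap_comp g.toAlgHom.toRingHom B.res.toRingHom a (Ia k A a) rfl
        (Ia k B (g.toAlgHom.toRingHom a)) (Ideal.subset_span rfl) rfl (In k)
        (rel_mem_In k _ (res_hom k g a ha))
      rw [ιA, γAB, this]
      have hres : B.res.toRingHom.comp g.toAlgHom.toRingHom = A.res.toRingHom := by
        ext z
        exact Art.res_app g z
      simp only [ιA, hres]
    · rw [Category.assoc, (isPullback_γ k g a).isoPullback_hom_snd]
      exact (DefSch.i_f (D k B _ _)).trans (DefSch.baseChange_i_f (D k A a ha) g).symm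

theorem cl_baseChange {A B : Art k k} (g : A ⟶ B) (a : A) (ha : A.res a = 0) (b : B)
    (hb : B.res b = 0) (hab : g.toAlgHom.toRingHom a = b) :
    (defFunctor (XQ k) (xQ k)).map g (D k A a ha).cl = (D k B b hb).cl := by
  subst hab
  rw [defFunctor_map_cl]
  have h : Nonempty (DefSch.Iso ((D k A a ha).baseChange g)
      (D k B (g.toAlgHom.toRingHom a) (res_hom k g a ha))) := ⟨(baseChangeIso k g a ha).symm⟩
  exact Quotient.sound h

/-- `xy = a` and `xy = ca` are isomorphic deformations for `c ≡ 1`. -/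
noncomputable def twistIso (A : Art k k) (a b c d : A) (ha : A.res a = 0) (hb : A.res b = 0)
    (hcb : b = c * a) (hda : a = d * b) (hcd : c * d = 1) (hc : A.res c = 1) :
    DefSch.Iso (D k A a ha) (D k A b hb) where
  iso :=
    { hom := Spec.map (CommRingCat.ofHom (tw c a b hcb (Ia k A b) rfl (Ia k A a) (Ideal.subset_span rfl)))
      inv := Spec.map (CommRingCat.ofHom (tw d b a hda (Ia k A a) rfl (Ia k A b) (Ideal.subset_span rfl)))
      hom_inv_id := by
        change Spec.map _ ≫ Spec.map _ = 𝟙 (Spec _)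
        rw [← Spec.map_comp, ← CommRingCat.ofHom_comp,
          tw_tw c d a b hcb hda hcd (Ia k A b) rfl (Ia k A a) rfl, CommRingCat.ofHom_id, Spec.map_id]
      inv_hom_id := by
        change Spec.map _ ≫ Spec.map _ = 𝟙 (Spec _)
        rw [← Spec.map_comp, ← CommRingCat.ofHom_comp,
          tw_tw d c b a hda hcb (by rw [mul_comm]; exact hcd) (Ia k A a) rfl (Ia k A b) rfl,
          CommRingCat.ofHom_id, Spec.map_id] }
  hom_f := by
    change Spec.map _ ≫ Spec.map _ = Spec.map _
    rw [← Spec.map_comp, ← CommRingCat.ofHom_comp]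
    congr 2
    exact tw_α _ _ _ _ _ _ _ _
  i_hom := by
    change Spec.map _ ≫ Spec.map _ = Spec.map _
    rw [← Spec.map_comp, ← CommRingCat.ofHom_comp]
    congr 2
    exact qMap_tw A.res.toRingHom c a b hcb hc (Ia k A b) rfl (Ia k A a) rfl (In k) _ _

theorem cl_twist (A : Art k k) (a b c d : A) (ha : A.res a = 0) (hb : A.res b = 0)
    (hcb : b = c * a) (hda : a = d * b) (hcd : c * d = 1) (hc : A.res c = 1) :
    (D k A a ha).cl = (D k A b hb).cl := by
  have h : Nonempty (DefSch.Iso (D k A a ha) (D k A b hb)) :=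
    ⟨twistIso k A a b c d ha hb hcb hda hcd hc⟩
  exact Quotient.sound h


/-- `xy = 0` and `xy = ε` are not isomorphic deformations over a ring with `m² = 0`, `ε ≠ 0`. -/
theorem no_iso_gen (E : Art k k) (hE : ∀ p q : E, E.res p = 0 → E.res q = 0 → p * q = 0)
    (ε : E) (hε0 : ε ≠ 0) (h0 : E.res (0 : E) = 0) (hε : E.res ε = 0) :
    ¬ Nonempty (DefSch.Iso (D k E (0 : E) h0) (D k E ε hε)) := by
  rintro ⟨e⟩
  let σ : MvPolynomial (Fin 2) E ⧸ Ia k E (0 : E) →+* E :=
    zeroSec (Ia k E (0 : E)) zeroSec_cond_rel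
  have hσα : σ.comp (αI (Ia k E (0 : E))) = RingHom.id _ := zeroSec_α _ _
  let o : Qn k →+* k := zeroSec (In k) zeroSec_cond_node
  have hoσ : E.res.toRingHom.comp σ = o.comp (ιA k E (0 : E) h0) :=
    (zeroSec_qMap E.res.toRingHom (0 : E) (Ia k E 0) rfl (In k)
      (rel_mem_In k _ h0) zeroSec_cond_rel zeroSec_cond_node).symm
  let τ : spec E ⟶ Spec (CommRingCat.of (MvPolynomial (Fin 2) E ⧸ Ia k E ε)) :=
    Spec.map (CommRingCat.ofHom σ) ≫ e.iso.hom
  let ρ := Spec.preimage τ
  have hρ : Spec.map ρ = τ := Spec.map_preimage τ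
  have h1 : CommRingCat.ofHom (αI (Ia k E ε)) ≫ ρ = 𝟙 _ := by
    apply Spec.map_injective
    rw [Spec.map_comp, hρ, Spec.map_id]
    change (Spec.map (CommRingCat.ofHom σ) ≫ e.iso.hom) ≫ (D k E ε hε).f = 𝟙 _
    rw [Category.assoc, e.hom_f]
    change Spec.map _ ≫ Spec.map _ = _
    rw [← Spec.map_comp, ← CommRingCat.ofHom_comp, hσα, CommRingCat.ofHom_id, Spec.map_id]
  have h2 : ρ ≫ CommRingCat.ofHom E.res.toRingHom =
      CommRingCat.ofHom (ιA k E ε hε) ≫ CommRingCat.ofHom o := by
    apply Spec.map_injective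
    rw [Spec.map_comp, Spec.map_comp, hρ]
    change specRes E ≫ (Spec.map (CommRingCat.ofHom σ) ≫ e.iso.hom) =
      Spec.map (CommRingCat.ofHom o) ≫ (D k E ε hε).i
    rw [← e.i_hom, ← Category.assoc, ← Category.assoc]
    congr 1
    change Spec.map _ ≫ Spec.map _ = Spec.map _ ≫ Spec.map _
    rw [← Spec.map_comp, ← Spec.map_comp, ← CommRingCat.ofHom_comp, ← CommRingCat.ofHom_comp]
    congr 2
  have hρα : ∀ r : E, ρ.hom (αI (Ia k E ε) r) = r := fun r => by
    have := congrArg (fun f => f.hom r) h1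
    exact this
  have hres : ∀ z, E.res (ρ.hom z) = o (ιA k E ε hε z) := fun z => by
    have := congrArg (fun f => f.hom z) h2
    exact this
  have hfst : ∀ i : Fin 2, E.res (ρ.hom (Ideal.Quotient.mk (Ia k E ε) (X i))) = 0 := fun i => by
    rw [hres]
    simp only [ιA, qMap_mk, MvPolynomial.map_X, o, zeroSec_mk, MvPolynomial.eval₂Hom_X']
  have hpq : ρ.hom (Ideal.Quotient.mk (Ia k E ε) (X 0)) * ρ.hom (Ideal.Quotient.mk (Ia k E ε) (X 1)) =
      ε := by
    have hm : rel ε ∈ Ia k E ε := Ideal.subset_span rfl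
    rw [← map_mul, mk_rel hm]
    exact hρα _
  exact hε0 (hpq.symm.trans (hE _ _ (hfst 0) (hfst 1)))

/-- `xy = 0` and `xy = ε` are not isomorphic deformations over the dual numbers. -/
theorem no_iso (h0 : (dual k k).res (0 : DualNumber k) = 0)
    (hε : (dual k k).res (DualNumber.eps : DualNumber k) = 0) :
    ¬ Nonempty (DefSch.Iso (D k (dual k k) (0 : DualNumber k) h0)
      (D k (dual k k) (DualNumber.eps : DualNumber k) hε)) :=
  no_iso_gen k (dual k k) (fun p q hp hq => dual_mul_eq_zero k p q hp hq)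
    (DualNumber.eps : DualNumber k) (eps_ne_zero k) h0 hε

end Groth.Agent.Helper11.DefNode
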