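import Groth.Agent.Lib.Helper11.DefNodeC

/-!
# The deformation functor of the node is not prorepresentable (helper11)
-/

set_option autoImplicit false
universe u
open CategoryTheory CategoryTheory.Limits AlgebraicGeometry MvPolynomial ArtFun ArtFun.Art

namespace Groth.Agent.Helper11.DefNode

variable (k : Type u) [Field k]

theorem not_prorep : ¬ IsProrepresentable (defFunctor (Λ := k) (XQ k) (xQ k)) := by
  rintro ⟨P⟩
  have huniv := P.universal
  have ha4 : (A4 k).res (a4 k) = 0 := res_a4 k
  obtain ⟨φ, hφ⟩ := (huniv (A4 k)).2 (D k (A4 k) (a4 k) ha4).cl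
  have hb : (A4 k).res (u4 k * a4 k) = 0 := by
    have h : res4 k (u4 k * a4 k) = 0 := by rw [map_mul, res_a4, mul_zero]
    exact h
  have hda : a4 k = v4 k * (u4 k * a4 k) := by
    rw [← mul_assoc, mul_comm (v4 k), u4_mul_v4, one_mul]
  have hs : (defFunctor (Λ := k) (XQ k) (xQ k)).map (sHom k) (D k (A4 k) (a4 k) ha4).cl =
      (D k (A4 k) (a4 k) ha4).cl := by
    rw [cl_baseChange k (sHom k) (a4 k) ha4 (u4 k * a4 k) hb (s_a4 k)]
    exact (cl_twist k (A4 k) (a4 k) (u4 k * a4 k) (u4 k) (v4 k) ha4 hb rfl hda (u4_mul_v4 k)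
      (res_u4 k)).symm
  have hfix : HomSet.map (sHom k) φ = φ := by
    apply (huniv (A4 k)).1
    rw [P.family.natural, hφ, hs]
  have hz : ∀ r, ((φ.1 r : A4c k)).fst.snd = 0 := fun r => by
    apply fst_snd_eq_zero_of_fixed
    have := congrArg (fun ψ : HomSet _ _ (A4 k) => ψ.1 r) hfix
    exact this
  have hε : (dual k k).res (DualNumber.eps : DualNumber k) = 0 := rfl
  have h0 : (dual k k).res (0 : DualNumber k) = 0 := map_zero _
  have hφ2 : P.family.app (dual k k) (HomSet.map (πHom k) φ) =
      (D k (dual k k) (DualNumber.eps : DualNumber k) hε).cl := by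
    rw [P.family.natural, hφ]
    exact cl_baseChange k (πHom k) (a4 k) ha4 _ hε (π_a4 k)
  have hφ2' : HomSet.map (scale (0 : k)) (HomSet.map (πHom k) φ) = HomSet.map (πHom k) φ := by
    apply Subtype.ext
    apply AlgHom.ext
    intro r
    exact scale_zero_apply k _ (hz r)
  have hcl : (D k (dual k k) (DualNumber.eps : DualNumber k) hε).cl =
      (D k (dual k k) (0 : DualNumber k) h0).cl := by
    calc (D k (dual k k) (DualNumber.eps : DualNumber k) hε).cl
        = P.family.app (dual k k) (HomSet.map (πHom k) φ) := hφ2.symm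
      _ = P.family.app (dual k k) (HomSet.map (scale (0 : k)) (HomSet.map (πHom k) φ)) := by
          rw [hφ2']
      _ = (defFunctor (Λ := k) (XQ k) (xQ k)).map (scale (0 : k))
            (P.family.app (dual k k) (HomSet.map (πHom k) φ)) := P.family.natural _ _
      _ = (defFunctor (Λ := k) (XQ k) (xQ k)).map (scale (0 : k))
            (D k (dual k k) (DualNumber.eps : DualNumber k) hε).cl := by rw [hφ2]
      _ = (D k (dual k k) (0 : DualNumber k) h0).cl :=
          cl_baseChange k (scale (0 : k)) _ hε _ h0 (scale_zero_eps k)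
  obtain ⟨e⟩ := Quotient.exact hcl
  exact no_iso k h0 hε ⟨e.symm⟩

end Groth.Agent.Helper11.DefNode
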