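import Groth.Agent.Lib.Helper11.Shr8

/-!
# The dimension function of `RHom_A(B, ω)` for a surjection `A → B` (helper11)
-/

set_option autoImplicit false
set_option linter.unusedSectionVars false
set_option linter.unusedVariables false
set_option linter.style.haveILetI false

open CategoryTheory CategoryTheory.Limits DerivedCategory Pretriangulated

attribute [local instance] HasDerivedCategory.standard

universe u v w

namespace Groth.Agent.Helper11.DeltaSurj

open Groth.Agent.Helper8.LOC Groth.Agent.Helper11.Shr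

section Loc

variable {A B : Type u} [CommRing A] [CommRing B] (φ : A →+* B)
  {NB : Type v} {NA : Type w} [AddCommGroup NB] [Module B NB] [AddCommGroup NA] [Module A NA]

theorem subsingleton_localizedModule_iff (hφ : Function.Surjective φ) (Φ : NB → NA)
    (hΦ : Function.Bijective Φ) (h0 : Φ 0 = 0)
    (hsl : ∀ (a : A) (n : NB), Φ (φ a • n) = a • Φ n) (q : Ideal B) [q.IsPrime] :
    Subsingleton (LocalizedModule q.primeCompl NB) ↔
      Subsingleton (LocalizedModule (q.comap φ).primeCompl NA) := by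
  rw [LocalizedModule.subsingleton_iff, LocalizedModule.subsingleton_iff]
  constructor
  · intro h m
    obtain ⟨n, rfl⟩ := hΦ.2 m
    obtain ⟨s, hs, hsn⟩ := h n
    obtain ⟨a, rfl⟩ := hφ s
    refine ⟨a, fun ha => hs ha, ?_⟩
    rw [← hsl, hsn, h0]
  · intro h n
    obtain ⟨a, ha, han⟩ := h (Φ n)
    refine ⟨φ a, fun h' => ha h', ?_⟩
    apply hΦ.1
    rw [hsl, han, h0]

end Loc

section Main

variable {A B : Type u} [CommRing A] [CommRing B] [Algebra A B]
  (hs : Function.Surjective (algebraMap A B))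
  (R : Dual.D A ⥤ Dual.D B) (adj : Rd (algebraMap A B) ⊣ R) (ω : Dual.D A)
  (q : Ideal B) [q.IsPrime] (i : ℤ)

/-- `A/p → B/q` as an `A`-linear map -/
noncomputable def quotLin :
    (A ⧸ q.comap (algebraMap A B)) →ₗ[A]
      ((Rfun (algebraMap A B)).obj (ModuleCat.of B (B ⧸ q))) where
  toFun x := Ideal.quotientMap q (algebraMap A B) le_rfl x
  map_add' x y := map_add (Ideal.quotientMap q (algebraMap A B) le_rfl) x y
  map_smul' a x := by
    obtain ⟨y, rfl⟩ := Ideal.Quotient.mk_surjective x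
    show Ideal.quotientMap q (algebraMap A B) le_rfl
        (a • Ideal.Quotient.mk (q.comap (algebraMap A B)) y) =
      algebraMap A B a • Ideal.quotientMap q (algebraMap A B) le_rfl
        (Ideal.Quotient.mk (q.comap (algebraMap A B)) y)
    have h1 : a • Ideal.Quotient.mk (q.comap (algebraMap A B)) y =
        Ideal.Quotient.mk (q.comap (algebraMap A B)) (a * y) := rfl
    rw [h1, Ideal.quotientMap_mk, Ideal.quotientMap_mk, map_mul]
    rfl

include hs in
theorem quotLin_bijective : Function.Bijective (quotLin (A := A) q) :=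
  ⟨Ideal.quotientMap_injective, Ideal.quotientMap_surjective (H := le_rfl) hs⟩

/-- `A/p ≅ B/q` restricted to `A` -/
noncomputable def quotIso : ModuleCat.of A (A ⧸ q.comap (algebraMap A B)) ≅
    (Rfun (algebraMap A B)).obj (ModuleCat.of B (B ⧸ q)) :=
  (LinearEquiv.ofBijective (quotLin (A := A) q) (quotLin_bijective hs q)).toModuleIso

/-- `(A/p)[0] ≅ res((B/q)[0])` -/
noncomputable def eIso : Dual.inD A (A ⧸ q.comap (algebraMap A B)) ≅
    (Rd (algebraMap A B)).obj (Dual.inD B (B ⧸ q)) :=
  (DerivedCategory.singleFunctor (ModuleCat.{u} A) 0).mapIso (quotIso hs q) ≪≫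
    (((Rfun (algebraMap A B)).mapDerivedCategorySingleFunctor 0).app
      (ModuleCat.of B (B ⧸ q))).symm

/-- the comparison of Hom groups -/
noncomputable def PhiFun (f : Dual.inD B (B ⧸ q) ⟶ (R.obj ω)⟦i⟧) :
    Dual.inD A (A ⧸ q.comap (algebraMap A B)) ⟶ ω⟦i⟧ :=
  (eIso hs q).hom ≫ (adj.homEquiv _ _).symm
    (f ≫ ((Adjunction.RightAdjointCommShift.iso adj i).app ω).inv)

theorem PhiFun_zero : PhiFun hs R adj ω q i 0 = 0 := by
  unfold PhiFun
  rw [zero_comp, adj.homAddEquiv_symm_zero, comp_zero]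

theorem PhiFun_smul (a : A) (f : Dual.inD B (B ⧸ q) ⟶ (R.obj ω)⟦i⟧) :
    PhiFun hs R adj ω q i (algebraMap A B a • f) = a • PhiFun hs R adj ω q i f := by
  unfold PhiFun
  rw [Linear.smul_comp, homEquiv_symm_smul (algebraMap A B) R adj, Linear.comp_smul]

theorem PhiFun_bijective : Function.Bijective (PhiFun hs R adj ω q i) := by
  have h1 : Function.Bijective (fun f : Dual.inD B (B ⧸ q) ⟶ (R.obj ω)⟦i⟧ =>
      f ≫ ((Adjunction.RightAdjointCommShift.iso adj i).app ω).inv) :=
    ⟨fun f g h => (cancel_mono _).mp h,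
      fun g => ⟨g ≫ ((Adjunction.RightAdjointCommShift.iso adj i).app ω).hom, by simp⟩⟩
  have h2 := (adj.homEquiv (Dual.inD B (B ⧸ q)) (ω⟦i⟧)).symm.bijective
  have h3 : Function.Bijective
      (fun g : (Rd (algebraMap A B)).obj (Dual.inD B (B ⧸ q)) ⟶ ω⟦i⟧ =>
        (eIso hs q).hom ≫ g) :=
    ⟨fun f g h => (cancel_epi _).mp h, fun g => ⟨(eIso hs q).inv ≫ g, by simp⟩⟩
  exact h3.comp (h2.comp h1)

include hs adj in
theorem nontrivial_iff :
    Nontrivial (LocalizedModule q.primeCompl (Dual.inD B (B ⧸ q) ⟶ (R.obj ω)⟦i⟧)) ↔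
      Nontrivial (LocalizedModule (q.comap (algebraMap A B)).primeCompl
        (Dual.inD A (A ⧸ q.comap (algebraMap A B)) ⟶ ω⟦i⟧)) := by
  rw [← not_subsingleton_iff_nontrivial, ← not_subsingleton_iff_nontrivial]
  exact not_congr (subsingleton_localizedModule_iff (algebraMap A B) hs
    (PhiFun hs R adj ω q i) (PhiFun_bijective hs R adj ω q i) (PhiFun_zero hs R adj ω q i)
    (PhiFun_smul hs R adj ω q i) q)

end Main

end Groth.Agent.Helper11.DeltaSurj
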