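import Mathlib
import Groth.Agent.Lib.Helper9.Depth2

set_option autoImplicit false

namespace Groth.Agent.Helper11.DepthFlat

universe u
open IsLocalRing RingTheory.Sequence Groth.Agent.Helper9.Depth

section

variable {A B : Type u} [CommRing A] [CommRing B] [IsLocalRing A] [IsLocalRing B]
  [IsNoetherianRing A] [IsNoetherianRing B] [Algebra A B] [IsLocalHom (algebraMap A B)]
  [Module.Flat A B]

theorem injective_of_isBaseChange {M N : Type u} [AddCommGroup M] [Module A M]
    [AddCommGroup N] [Module A N] [Module B N] [IsScalarTower A B N] (f : M →ₗ[A] N)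
    (hf : IsBaseChange B f) : Function.Injective f := by
  haveI : Module.FaithfullyFlat A B := Module.FaithfullyFlat.of_flat_of_isLocalHom
  have h1 : Function.Injective (TensorProduct.mk A B M 1) :=
    Module.FaithfullyFlat.tensorProduct_mk_injective (A := A) (B := B) M
  have h2 : ⇑f = ⇑hf.equiv ∘ ⇑(TensorProduct.mk A B M 1) := by
    funext x
    simp [IsBaseChange.equiv_tmul]
  rw [h2]
  exact hf.equiv.injective.comp h1

theorem finite_of_isBaseChange {M N : Type u} [AddCommGroup M] [Module A M] [Module.Finite A M]
    [AddCommGroup N] [Module A N] [Module B N] [IsScalarTower A B N] (f : M →ₗ[A] N)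
    (hf : IsBaseChange B f) : Module.Finite B N :=
  Module.Finite.equiv hf.equiv

/-- depth zero transfers along flat local maps with zero dimensional closed fibre -/
theorem depth_eq_zero_of_isBaseChange (n : ℕ)
    (hn : maximalIdeal B ^ n ≤ (maximalIdeal A).map (algebraMap A B))
    {M N : Type u} [AddCommGroup M] [Module A M] [Module.Finite A M]
    [AddCommGroup N] [Module A N] [Module B N] [IsScalarTower A B N] (f : M →ₗ[A] N)
    (hf : IsBaseChange B f) (h0 : LocCoh.depth A M = 0) : LocCoh.depth B N = 0 := by
  haveI := finite_of_isBaseChange f hf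
  rw [depth_eq_zero_iff_mem_associatedPrimes] at h0 ⊢
  rw [AssociatedPrimes.mem_iff, isAssociatedPrime_iff] at h0 ⊢
  obtain ⟨-, x, hx⟩ := h0
  have hxa : ∀ a ∈ maximalIdeal A, a • x = 0 := by
    intro a ha
    rw [hx, Submodule.mem_colon_singleton] at ha
    simpa using ha
  have hx0 : x ≠ 0 := by
    intro h
    have : (1 : A) ∈ maximalIdeal A := by
      rw [hx, Submodule.mem_colon_singleton, h]
      simp
    exact (Ideal.ne_top_iff_one _).mp (Ideal.IsMaximal.ne_top inferInstance) this
  set y := f x with hy
  have hy0 : y ≠ 0 := by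
    intro h
    apply hx0
    apply injective_of_isBaseChange f hf
    rw [map_zero]
    exact h
  have hmy : ∀ b ∈ (maximalIdeal A).map (algebraMap A B), b • y = 0 := by
    intro b hb
    refine Submodule.span_induction (p := fun b _ => b • y = 0) ?_ ?_ ?_ ?_ hb
    · rintro _ ⟨a, ha, rfl⟩
      rw [algebraMap_smul, hy, ← map_smul, hxa a ha, map_zero]
    · simp
    · intro b c _ _ hb hc
      rw [add_smul, hb, hc, add_zero]
    · intro c b _ hb
      rw [smul_eq_mul, mul_smul, hb, smul_zero]
  have hPn : ∀ b ∈ maximalIdeal B ^ n, b • y = 0 := fun b hb => hmy b (hn hb)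
  classical
  let P : ℕ → Prop := fun j => ∀ b ∈ maximalIdeal B ^ j, b • y = 0
  have hP : ∃ j, P j := ⟨n, hPn⟩
  have hP0 : ¬ P 0 := by
    intro h
    apply hy0
    have := h 1 (by simp)
    simpa using this
  have hj1 : 1 ≤ Nat.find hP := by
    by_contra hlt
    have : Nat.find hP = 0 := by omega
    exact hP0 (this ▸ Nat.find_spec hP)
  have hmin : ¬ P (Nat.find hP - 1) := Nat.find_min hP (by omega)
  simp only [P, not_forall] at hmin
  obtain ⟨b, hb, hbz⟩ := hmin
  refine ⟨inferInstance, b • y, ?_⟩
  ext c
  rw [Submodule.mem_colon_singleton]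
  constructor
  · intro hc
    have h1 : c * b ∈ maximalIdeal B ^ (Nat.find hP) := by
      have : Nat.find hP = (Nat.find hP - 1) + 1 := by omega
      rw [this, pow_succ']
      exact Ideal.mul_mem_mul hc hb
    have := Nat.find_spec hP (c * b) h1
    rw [mul_smul] at this
    simpa using this
  · intro hc
    by_contra hcm
    have hu : IsUnit c := by
      by_contra hnu
      exact hcm ((IsLocalRing.mem_maximalIdeal c).mpr hnu)
    apply hbz
    have h2 : c • (b • y) = 0 := by simpa using hc
    exact (hu.smul_eq_zero).mp h2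

/-- depth does not go up along a flat local map with zero dimensional closed fibre -/
theorem depth_le_of_isBaseChange (n : ℕ)
    (hn : maximalIdeal B ^ n ≤ (maximalIdeal A).map (algebraMap A B)) (d : ℕ) :
    ∀ {M N : Type u} [AddCommGroup M] [Module A M] [Module.Finite A M]
    [AddCommGroup N] [Module A N] [Module B N] [IsScalarTower A B N] (f : M →ₗ[A] N)
    (_ : IsBaseChange B f), LocCoh.depth A M = d → LocCoh.depth B N ≤ d := by
  induction d with
  | zero =>
    intro M N _ _ _ _ _ _ _ f hf h0
    have := depth_eq_zero_of_isBaseChange n hn f hf (by simpa using h0)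
    rw [this]
    simp
  | succ d ih =>
    intro M N _ _ _ _ _ _ _ f hf hd
    haveI hNfin := finite_of_isBaseChange f hf
    rcases subsingleton_or_nontrivial M with hM | hM
    · rw [depth_eq_top_of_subsingleton] at hd
      exact absurd hd (ENat.top_ne_natCast (d + 1))
    have hne0 : LocCoh.depth A M ≠ 0 := by
      rw [hd]
      exact_mod_cast Nat.succ_ne_zero d
    rw [Ne, depth_eq_zero_iff_forall_not_regular] at hne0
    push Not at hne0
    obtain ⟨x, hx, hreg⟩ := hne0
    have hfinj := injective_of_isBaseChange f hf
    haveI : Nontrivial N := by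
      obtain ⟨a, b, hab⟩ := exists_pair_ne M
      exact ⟨⟨f a, f b, fun h => hab (hfinj h)⟩⟩
    have hq : LocCoh.depth A (QuotSMulTop x M) = d := by
      have h1 := depth_quotSMulTop_succ hx hreg
      rw [hd] at h1
      have h2 : LocCoh.depth A (QuotSMulTop x M) + 1 = (d : ℕ∞) + 1 := by
        rw [h1]; push_cast; rfl
      exact ENat.add_left_injective_of_ne_top (n := 1) (by simp) h2
    have hx' : algebraMap A B x ∈ maximalIdeal B := by
      rw [IsLocalRing.mem_maximalIdeal] at hx ⊢
      exact fun h => hx ((isUnit_map_iff (algebraMap A B) x).mp h)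
    have hreg' : IsSMulRegular N (algebraMap A B x) := hreg.of_flat_of_isBaseChange hf
    let e := (QuotSMulTop.algebraMapTensorEquivTensorQuotSMulTop x M B).symm ≪≫ₗ
      QuotSMulTop.congr ((algebraMap A B) x) hf.equiv
    have hg : IsBaseChange B <|
        e.toLinearMap.restrictScalars A ∘ₗ TensorProduct.mk A B (QuotSMulTop x M) 1 :=
      IsBaseChange.of_equiv e (fun _ ↦ by simp)
    have h3 := ih _ hg hq
    have h4 := depth_quotSMulTop_succ hx' hreg'
    rw [← h4]
    push_cast
    exact add_le_add h3 le_rfl

theorem depth_le_depth_of_isBaseChange (n : ℕ)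
    (hn : maximalIdeal B ^ n ≤ (maximalIdeal A).map (algebraMap A B))
    {M N : Type u} [AddCommGroup M] [Module A M] [Module.Finite A M]
    [AddCommGroup N] [Module A N] [Module B N] [IsScalarTower A B N] (f : M →ₗ[A] N)
    (hf : IsBaseChange B f) : LocCoh.depth B N ≤ LocCoh.depth A M := by
  rcases subsingleton_or_nontrivial M with hM | hM
  · rw [depth_eq_top_of_subsingleton (A := A) (M := M)]
    exact le_top
  · obtain ⟨d, hd⟩ := exists_depth_eq_nat (A := A) (M := M)
    rw [hd]
    exact depth_le_of_isBaseChange n hn d f hf hd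

end

/-- depth is invariant under linear equivalences -/
theorem depth_congr {B : Type u} [CommRing B] [IsLocalRing B] {N N' : Type u} [AddCommGroup N]
    [Module B N] [AddCommGroup N'] [Module B N'] (e : N ≃ₗ[B] N') :
    LocCoh.depth B N = LocCoh.depth B N' := by
  unfold LocCoh.depth LocCoh.idealDepth
  have h1 : (maximalIdeal B • (⊤ : Submodule B N) = ⊤) ↔
      (maximalIdeal B • (⊤ : Submodule B N') = ⊤) := by
    constructor
    · intro h
      have := congrArg (Submodule.map e.toLinearMap) h
      rwa [Submodule.map_smul'', Submodule.map_top, LinearMap.range_eq_top.mpr e.surjective] at this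
    · intro h
      have := congrArg (Submodule.map e.symm.toLinearMap) h
      rwa [Submodule.map_smul'', Submodule.map_top,
        LinearMap.range_eq_top.mpr e.symm.surjective] at this
  have h2 : ∀ rs : List B, IsWeaklyRegular N rs ↔ IsWeaklyRegular N' rs :=
    fun rs => e.isWeaklyRegular_congr rs
  simp only [h1, h2]

end Groth.Agent.Helper11.DepthFlat
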