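import Mathlib
import Groth.Agent.Lib.Helper11.DepthFlat

set_option autoImplicit false

namespace Groth.Agent.Helper11.DepthFlat

universe u
open IsLocalRing TensorProduct

section

variable {A R' : Type u} [CommRing A] [CommRing R'] [IsNoetherianRing A] [IsNoetherianRing R']
  [Algebra A R'] [Module.Flat A R'] (p : Ideal A) [p.IsPrime] (p' : Ideal R') [p'.IsPrime]
  [p'.LiesOver p]

/-- a power of the maximal ideal of `R'_{p'}` lies in `p R'_{p'}` when `p'` is minimal over `pR'` -/
theorem exists_pow_le_of_minimal
    (hmin : p' ∈ (p.map (algebraMap A R')).minimalPrimes) :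
    letI := Localization.AtPrime.algebraOfLiesOver p p'
    ∃ n : ℕ, maximalIdeal (Localization.AtPrime p') ^ n ≤
      (maximalIdeal (Localization.AtPrime p)).map
        (algebraMap (Localization.AtPrime p) (Localization.AtPrime p')) := by
  letI := Localization.AtPrime.algebraOfLiesOver p p'
  have h1 : (maximalIdeal (Localization.AtPrime p)).map
      (algebraMap (Localization.AtPrime p) (Localization.AtPrime p')) =
      (p.map (algebraMap A R')).map (algebraMap R' (Localization.AtPrime p')) := by
    rw [← Localization.AtPrime.map_eq_maximalIdeal, Ideal.map_map, Ideal.map_map,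
      ← IsScalarTower.algebraMap_eq, ← IsScalarTower.algebraMap_eq]
  rw [h1]
  apply Ideal.exists_pow_le_of_le_radical_of_fg _ (IsNoetherian.noetherian _)
  rw [Ideal.radical_eq_sInf]
  apply le_sInf
  rintro Q ⟨hKQ, hQ⟩
  haveI := hQ
  have h2 : p.map (algebraMap A R') ≤ Q.comap (algebraMap R' (Localization.AtPrime p')) :=
    Ideal.map_le_iff_le_comap.mp hKQ
  have h3 : Q.comap (algebraMap R' (Localization.AtPrime p')) ≤ p' := by
    have := Ideal.comap_mono (f := algebraMap R' (Localization.AtPrime p'))
      (IsLocalRing.le_maximalIdeal hQ.ne_top)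
    have h5 : (maximalIdeal (Localization.AtPrime p')).comap
        (algebraMap R' (Localization.AtPrime p')) = p' :=
      Localization.AtPrime.under_maximalIdeal
    rwa [h5] at this
  have h4 : p' ≤ Q.comap (algebraMap R' (Localization.AtPrime p')) :=
    hmin.2 ⟨inferInstance, h2⟩ h3
  rw [← Localization.AtPrime.map_eq_maximalIdeal]
  exact Ideal.map_le_iff_le_comap.mpr h4

/-- depth does not go up when passing to the localization at a prime minimal over `pR'`
of a flat base change -/
theorem depth_localization_le
    (hmin : p' ∈ (p.map (algebraMap A R')).minimalPrimes)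
    {M X : Type u} [AddCommGroup M] [Module A M] [Module.Finite A M] [AddCommGroup X]
    [Module A X] [Module R' X] [IsScalarTower A R' X]
    (g : M →ₗ[A] X) (hg : IsBaseChange R' g) :
    LocCoh.depth (Localization.AtPrime p') (LocalizedModule p'.primeCompl X) ≤
      LocCoh.depth (Localization.AtPrime p) (LocalizedModule p.primeCompl M) := by
  letI := Localization.AtPrime.algebraOfLiesOver p p'
  haveI : IsScalarTower A (Localization.AtPrime p) (Localization.AtPrime p') := inferInstance
  haveI : IsLocalHom (algebraMap (Localization.AtPrime p) (Localization.AtPrime p')) := by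
    show IsLocalHom (Localization.localRingHom p p' (algebraMap A R') Ideal.LiesOver.over)
    infer_instance
  haveI : Module.Flat (Localization.AtPrime p) (Localization.AtPrime p') :=
    RingHom.Flat.localRingHom (f := algebraMap A R')
      (by rw [RingHom.flat_algebraMap_iff]; infer_instance) p' p Ideal.LiesOver.over
  obtain ⟨n, hn⟩ := exists_pow_le_of_minimal p p' hmin
  let e1 : LocalizedModule p'.primeCompl X ≃ₗ[Localization.AtPrime p']
      (Localization.AtPrime p') ⊗[R'] X :=
    (IsLocalizedModule.isBaseChange p'.primeCompl (Localization.AtPrime p')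
      (LocalizedModule.mkLinearMap p'.primeCompl X)).equiv.symm
  let e2 : (Localization.AtPrime p') ⊗[R'] X ≃ₗ[Localization.AtPrime p']
      (Localization.AtPrime p') ⊗[R'] (R' ⊗[A] M) :=
    TensorProduct.AlgebraTensorModule.congr
      (LinearEquiv.refl (Localization.AtPrime p') (Localization.AtPrime p')) hg.equiv.symm
  let e3 := TensorProduct.AlgebraTensorModule.cancelBaseChange A R' (Localization.AtPrime p')
    (Localization.AtPrime p') M
  let e4 := TensorProduct.AlgebraTensorModule.cancelBaseChange A (Localization.AtPrime p)
    (Localization.AtPrime p') (Localization.AtPrime p') M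
  let e5 : (Localization.AtPrime p') ⊗[Localization.AtPrime p] ((Localization.AtPrime p) ⊗[A] M)
      ≃ₗ[Localization.AtPrime p']
      (Localization.AtPrime p') ⊗[Localization.AtPrime p] (LocalizedModule p.primeCompl M) :=
    TensorProduct.AlgebraTensorModule.congr
      (LinearEquiv.refl (Localization.AtPrime p') (Localization.AtPrime p'))
      (IsLocalizedModule.isBaseChange p.primeCompl (Localization.AtPrime p)
        (LocalizedModule.mkLinearMap p.primeCompl M)).equiv
  let e := e1 ≪≫ₗ e2 ≪≫ₗ e3 ≪≫ₗ e4.symm ≪≫ₗ e5
  rw [depth_congr e]
  haveI : Module.Finite (Localization.AtPrime p) (LocalizedModule p.primeCompl M) :=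
    Module.Finite.of_isLocalizedModule p.primeCompl (LocalizedModule.mkLinearMap p.primeCompl M)
  exact depth_le_depth_of_isBaseChange n hn
    (TensorProduct.mk (Localization.AtPrime p) (Localization.AtPrime p')
      (LocalizedModule p.primeCompl M) 1)
    (TensorProduct.isBaseChange (Localization.AtPrime p) (LocalizedModule p.primeCompl M)
      (Localization.AtPrime p'))

end

end Groth.Agent.Helper11.DepthFlat
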