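import Mathlib
import Groth.Agent.Lib.Helper11.DepthFlat2
import Groth.Agent.Lib.Helper1.AdicNoeth

set_option autoImplicit false

namespace Groth.Agent.Helper11.DepthFlat

universe u
open IsLocalRing TensorProduct

section V

variable {R : Type u} [CommRing R] [IsNoetherianRing R] [IsLocalRing R] (J : Ideal R)

theorem isNoetherianRing_adicCompletion : IsNoetherianRing (AdicCompletion J R) :=
  Groth.Agent.Helper1.isNoetherianRing_adicCompletion_of_fg R J (IsNoetherian.noetherian J)

theorem faithfullyFlat_adicCompletion (hJ : J ≤ maximalIdeal R) :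
    Module.FaithfullyFlat R (AdicCompletion J R) := by
  refine ⟨fun m hm => ?_⟩
  have hm' : m = maximalIdeal R := IsLocalRing.eq_maximalIdeal hm
  subst hm'
  intro h
  rw [Ideal.smul_top_eq_map] at h
  have h1 := AdicCompletion.isMaximal_map_of_le J (maximalIdeal R) hJ (IsNoetherian.noetherian J)
  exact h1.ne_top ((Submodule.restrictScalars_eq_top_iff _ _ _).mp h)

/-- existence of a good prime of the completion over a prime `P` such that the maximal ideal is
the only prime containing `P + J` -/
theorem exists_prime_completion (hJ : J ≤ maximalIdeal R) (P : Ideal R) [P.IsPrime]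
    (hP : ∀ Q : Ideal R, Q.IsPrime → P ≤ Q → J ≤ Q → Q = maximalIdeal R) :
    ∃ p' : Ideal (AdicCompletion J R), p'.IsPrime ∧ p'.LiesOver P ∧
      p' ∈ (P.map (algebraMap R (AdicCompletion J R))).minimalPrimes ∧
      ∀ q' : Ideal (AdicCompletion J R), q'.IsPrime → p' ≤ q' →
        J.map (algebraMap R (AdicCompletion J R)) ≤ q' → q'.IsMaximal := by
  haveI := faithfullyFlat_adicCompletion J hJ
  obtain ⟨p'', hp''prime, hp''over⟩ :=
    Ideal.exists_isPrime_liesOver_of_faithfullyFlat (B := AdicCompletion J R) P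
  have hp''c : p''.comap (algebraMap R (AdicCompletion J R)) = P := hp''over.over.symm
  have h1 : P.map (algebraMap R (AdicCompletion J R)) ≤ p'' := by
    rw [Ideal.map_le_iff_le_comap, hp''c]
  obtain ⟨p', hp'min, hp'le⟩ := Ideal.exists_minimalPrimes_le h1
  haveI hp'prime : p'.IsPrime := hp'min.1.1
  have hp'c : p'.comap (algebraMap R (AdicCompletion J R)) = P := by
    apply le_antisymm
    · rw [← hp''c]
      exact Ideal.comap_mono hp'le
    · exact Ideal.map_le_iff_le_comap.mp hp'min.1.2
  refine ⟨p', hp'prime, ⟨hp'c.symm⟩, hp'min, ?_⟩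
  intro q' hq' hpq hJq
  haveI := hq'
  have hQ : q'.comap (algebraMap R (AdicCompletion J R)) = maximalIdeal R := by
    apply hP _ (Ideal.comap_isPrime _ _)
    · rw [← hp'c]
      exact Ideal.comap_mono hpq
    · exact Ideal.map_le_iff_le_comap.mp hJq
  have h2 : (maximalIdeal R).map (algebraMap R (AdicCompletion J R)) ≤ q' := by
    rw [Ideal.map_le_iff_le_comap, hQ]
  have h3 := AdicCompletion.isMaximal_map_of_le J (maximalIdeal R) hJ (IsNoetherian.noetherian J)
  rw [← h3.eq_of_le hq'.ne_top h2]
  exact h3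

end V

theorem map_map_tower {A R R' : Type*} [CommRing A] [CommRing R] [CommRing R'] [Algebra A R]
    [Algebra R R'] [Algebra A R'] [IsScalarTower A R R'] (I : Ideal A) :
    (I.map (algebraMap A R)).map (algebraMap R R') = I.map (algebraMap A R') := by
  rw [Ideal.map_map, ← IsScalarTower.algebraMap_eq]

theorem comap_comap_tower {A R R' : Type*} [CommRing A] [CommRing R] [CommRing R'] [Algebra A R]
    [Algebra R R'] [Algebra A R'] [IsScalarTower A R R'] (p' : Ideal R') :
    (p'.comap (algebraMap R R')).comap (algebraMap A R) = p'.comap (algebraMap A R') := by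
  rw [Ideal.comap_comap, ← IsScalarTower.algebraMap_eq]

theorem S8796_core (A : Type u) [CommRing A] [IsNoetherianRing A] (I : Ideal A)
    (M : Type u) [AddCommGroup M] [Module A M] [Module.Finite A M] (T : Set (PrimeSpectrum A))
    (s : ℕ)
    (h6 : ∀ q : PrimeSpectrum A, q ∈ T → ∀ p' : PrimeSpectrum (AdicCompletion (I.map (algebraMap A (Localization.AtPrime q.asIdeal))) (Localization.AtPrime q.asIdeal)), ¬ (I.map (algebraMap A (AdicCompletion (I.map (algebraMap A (Localization.AtPrime q.asIdeal))) (Localization.AtPrime q.asIdeal)))) ≤ p'.asIdeal → (∀ q' : PrimeSpectrum (AdicCompletion (I.map (algebraMap A (Localization.AtPrime q.asIdeal))) (Localization.AtPrime q.asIdeal)), p' ≤ q' → (I.map (algebraMap A (AdicCompletion (I.map (algebraMap A (Localization.AtPrime q.asIdeal))) (Localization.AtPrime q.asIdeal)))) ≤ q'.asIdeal → q'.asIdeal.IsMaximal) → (s : ℕ∞) < LocCoh.depth (Localization.AtPrime p'.asIdeal) (LocalizedModule p'.asIdeal.primeCompl (AdicCompletion (I.map (algebraMap A (Localization.AtPrime q.asIdeal))) (LocalizedModule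 q.asIdeal.primeCompl M))))
    (p q : PrimeSpectrum A) (hpq : p ≤ q) (hp : ¬ I ≤ p.asIdeal) (hIq : I ≤ q.asIdeal)
    (hr : ∀ r : PrimeSpectrum A, p ≤ r → r ≤ q → I ≤ r.asIdeal → r ∈ T) :
    (s : ℕ∞) < LocCoh.depth (Localization.AtPrime p.asIdeal)
      (LocalizedModule p.asIdeal.primeCompl M) := by
  have hle : p.asIdeal ⊔ I ≤ q.asIdeal := sup_le hpq hIq
  obtain ⟨Q, hQmin, hQq⟩ := Ideal.exists_minimalPrimes_le hle
  haveI hQprime : Q.IsPrime := hQmin.1.1
  obtain ⟨q0, hq0⟩ : ∃ q0 : PrimeSpectrum A, q0.asIdeal = Q := ⟨⟨Q, hQprime⟩, rfl⟩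
  subst hq0
  have hpq0 : p ≤ q0 := (le_sup_left : p.asIdeal ≤ p.asIdeal ⊔ I).trans hQmin.1.2
  have hIq0 : I ≤ q0.asIdeal := (le_sup_right : I ≤ p.asIdeal ⊔ I).trans hQmin.1.2
  have hq0T : q0 ∈ T := hr q0 hpq0 hQq hIq0
  have hJ : I.map (algebraMap A (Localization.AtPrime q0.asIdeal)) ≤
      maximalIdeal (Localization.AtPrime q0.asIdeal) := by
    rw [← Localization.AtPrime.map_eq_maximalIdeal]
    exact Ideal.map_mono hIq0
  have hdisj : Disjoint (q0.asIdeal.primeCompl : Set A) (p.asIdeal : Set A) := by
    rw [Set.disjoint_left]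
    intro x hx hxp
    exact hx (hpq0 hxp)
  haveI hPprime : (p.asIdeal.map (algebraMap A (Localization.AtPrime q0.asIdeal))).IsPrime :=
    IsLocalization.isPrime_of_isPrime_disjoint q0.asIdeal.primeCompl _ p.asIdeal p.isPrime hdisj
  have hPc : (p.asIdeal.map (algebraMap A (Localization.AtPrime q0.asIdeal))).comap
      (algebraMap A (Localization.AtPrime q0.asIdeal)) = p.asIdeal :=
    IsLocalization.under_map_of_isPrime_disjoint q0.asIdeal.primeCompl _ p.isPrime hdisj
  haveI hPover : (p.asIdeal.map (algebraMap A (Localization.AtPrime q0.asIdeal))).LiesOver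
      p.asIdeal := ⟨hPc.symm⟩
  have hP : ∀ Q' : Ideal (Localization.AtPrime q0.asIdeal), Q'.IsPrime →
      p.asIdeal.map (algebraMap A (Localization.AtPrime q0.asIdeal)) ≤ Q' →
      I.map (algebraMap A (Localization.AtPrime q0.asIdeal)) ≤ Q' →
      Q' = maximalIdeal (Localization.AtPrime q0.asIdeal) := by
    intro Q' hQ' hPQ hJQ
    haveI := hQ'
    have h1 : p.asIdeal ⊔ I ≤ Q'.comap (algebraMap A (Localization.AtPrime q0.asIdeal)) :=
      sup_le (Ideal.map_le_iff_le_comap.mp hPQ) (Ideal.map_le_iff_le_comap.mp hJQ)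
    have h2 : Q'.comap (algebraMap A (Localization.AtPrime q0.asIdeal)) ≤ q0.asIdeal := by
      have h5 := Ideal.comap_mono (f := algebraMap A (Localization.AtPrime q0.asIdeal))
        (IsLocalRing.le_maximalIdeal hQ'.ne_top)
      have h6 : (maximalIdeal (Localization.AtPrime q0.asIdeal)).comap
          (algebraMap A (Localization.AtPrime q0.asIdeal)) = q0.asIdeal :=
        Localization.AtPrime.under_maximalIdeal
      rwa [h6] at h5
    have h3 : q0.asIdeal ≤ Q'.comap (algebraMap A (Localization.AtPrime q0.asIdeal)) :=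
      hQmin.2 ⟨Ideal.comap_isPrime _ _, h1⟩ h2
    have h4 : Q'.comap (algebraMap A (Localization.AtPrime q0.asIdeal)) = q0.asIdeal :=
      le_antisymm h2 h3
    have h8 : Q' = (Q'.comap (algebraMap A (Localization.AtPrime q0.asIdeal))).map
        (algebraMap A (Localization.AtPrime q0.asIdeal)) :=
      (IsLocalization.map_under q0.asIdeal.primeCompl (Localization.AtPrime q0.asIdeal) Q').symm
    rw [h8, h4, Localization.AtPrime.map_eq_maximalIdeal]
  obtain ⟨p', hp'prime, hp'over, hp'min, hp'max⟩ :=
    exists_prime_completion (I.map (algebraMap A (Localization.AtPrime q0.asIdeal))) hJ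
      (p.asIdeal.map (algebraMap A (Localization.AtPrime q0.asIdeal))) hP
  haveI := hp'prime
  haveI := hp'over
  have hcond1 : ¬ I.map (algebraMap A (AdicCompletion
      (I.map (algebraMap A (Localization.AtPrime q0.asIdeal)))
      (Localization.AtPrime q0.asIdeal))) ≤ p' := by
    intro h
    apply hp
    have h1 := Ideal.map_le_iff_le_comap.mp h
    have h2 : p'.comap (algebraMap A (AdicCompletion
        (I.map (algebraMap A (Localization.AtPrime q0.asIdeal)))
        (Localization.AtPrime q0.asIdeal))) = p.asIdeal := by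
      rw [← comap_comap_tower (R := Localization.AtPrime q0.asIdeal)]
      have h7 : p'.comap (algebraMap (Localization.AtPrime q0.asIdeal) (AdicCompletion
        (I.map (algebraMap A (Localization.AtPrime q0.asIdeal)))
        (Localization.AtPrime q0.asIdeal))) =
          p.asIdeal.map (algebraMap A (Localization.AtPrime q0.asIdeal)) := hp'over.over.symm
      rw [h7, hPc]
    rwa [h2] at h1
  have hd := h6 q0 hq0T ⟨p', hp'prime⟩ hcond1 (by
    intro q' hle hI
    apply hp'max q'.asIdeal q'.isPrime hle
    rw [map_map_tower]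
    exact hI)
  haveI := isNoetherianRing_adicCompletion (I.map (algebraMap A (Localization.AtPrime q0.asIdeal)))
  haveI : Module.Finite (Localization.AtPrime q0.asIdeal)
      (LocalizedModule q0.asIdeal.primeCompl M) :=
    Module.Finite.of_isLocalizedModule q0.asIdeal.primeCompl
      (LocalizedModule.mkLinearMap q0.asIdeal.primeCompl M)
  have hbc : IsBaseChange (AdicCompletion (I.map (algebraMap A (Localization.AtPrime q0.asIdeal)))
      (Localization.AtPrime q0.asIdeal))
      (AdicCompletion.of (I.map (algebraMap A (Localization.AtPrime q0.asIdeal)))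
        (LocalizedModule q0.asIdeal.primeCompl M)) :=
    IsBaseChange.of_equiv (AdicCompletion.ofTensorProductEquivOfFiniteNoetherian _ _)
      (fun x => by simp)
  have hU1 := depth_localization_le
    (p.asIdeal.map (algebraMap A (Localization.AtPrime q0.asIdeal))) p' hp'min
    (AdicCompletion.of (I.map (algebraMap A (Localization.AtPrime q0.asIdeal)))
      (LocalizedModule q0.asIdeal.primeCompl M)) hbc
  have hPmin : p.asIdeal.map (algebraMap A (Localization.AtPrime q0.asIdeal)) ∈
      (p.asIdeal.map (algebraMap A (Localization.AtPrime q0.asIdeal))).minimalPrimes := by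
    rw [Ideal.minimalPrimes_eq_subsingleton_self]
    rfl
  have hU2 := depth_localization_le p.asIdeal
    (p.asIdeal.map (algebraMap A (Localization.AtPrime q0.asIdeal))) hPmin
    (LocalizedModule.mkLinearMap q0.asIdeal.primeCompl M)
    (IsLocalizedModule.isBaseChange q0.asIdeal.primeCompl (Localization.AtPrime q0.asIdeal)
      (LocalizedModule.mkLinearMap q0.asIdeal.primeCompl M))
  exact lt_of_lt_of_le hd (hU1.trans hU2)

end Groth.Agent.Helper11.DepthFlat
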