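import Mathlib

set_option autoImplicit false

namespace Groth.Agent.Helper11.DerExt

universe u
open Polynomial IntermediateField

section Poly

variable {L K : Type u} [Field L] [Field K] [Algebra L K]

/-- coefficientwise application of a derivation `D : L → K`, evaluated at `x` -/
noncomputable def tcoef (D : Derivation ℤ L K) (x : K) : L[X] →+ K where
  toFun P := P.sum fun i a => D a * x ^ i
  map_zero' := Polynomial.sum_zero_index _
  map_add' P Q := Polynomial.sum_add_index P Q _ (fun i => by rw [map_zero, zero_mul])
    (fun i a b => by rw [map_add, add_mul])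

theorem tcoef_monomial (D : Derivation ℤ L K) (x : K) (i : ℕ) (a : L) :
    tcoef D x (monomial i a) = D a * x ^ i := by
  show (monomial i a).sum (fun i a => D a * x ^ i) = D a * x ^ i
  exact Polynomial.sum_monomial_index a (fun i a => D a * x ^ i) (by rw [map_zero, zero_mul])

theorem tcoef_mul (D : Derivation ℤ L K) (x : K) (P Q : L[X]) :
    tcoef D x (P * Q) = aeval x P * tcoef D x Q + aeval x Q * tcoef D x P := by
  induction P using Polynomial.induction_on' with
  | add P₁ P₂ h₁ h₂ =>
    rw [add_mul, map_add, h₁, h₂, map_add, map_add]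
    ring
  | monomial i a =>
    induction Q using Polynomial.induction_on' with
    | add Q₁ Q₂ h₁ h₂ =>
      rw [mul_add, map_add, h₁, h₂, map_add, map_add]
      ring
    | monomial j b =>
      rw [monomial_mul_monomial, tcoef_monomial, tcoef_monomial, tcoef_monomial, aeval_monomial,
        aeval_monomial, Derivation.leibniz, Algebra.smul_def, Algebra.smul_def, pow_add]
      ring

theorem tcoef_add_left (D D' : Derivation ℤ L K) (x : K) (P : L[X]) :
    tcoef (D + D') x P = tcoef D x P + tcoef D' x P := by
  induction P using Polynomial.induction_on' with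
  | add P₁ P₂ h₁ h₂ =>
    rw [map_add, map_add, map_add, h₁, h₂]
    ring
  | monomial i a =>
    rw [tcoef_monomial, tcoef_monomial, tcoef_monomial, Derivation.add_apply, add_mul]

theorem tcoef_smul_left (c : K) (D : Derivation ℤ L K) (x : K) (P : L[X]) :
    tcoef (c • D) x P = c * tcoef D x P := by
  induction P using Polynomial.induction_on' with
  | add P₁ P₂ h₁ h₂ =>
    rw [map_add, map_add, h₁, h₂]
    ring
  | monomial i a =>
    rw [tcoef_monomial, tcoef_monomial, Derivation.smul_apply, smul_eq_mul, mul_assoc]

/-- the candidate extension of `D` with value `v` at `x`, on polynomials -/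
noncomputable def dtil (D : Derivation ℤ L K) (x v : K) : L[X] →+ K where
  toFun P := tcoef D x P + aeval x (derivative P) * v
  map_zero' := by rw [map_zero, map_zero, map_zero, zero_mul, add_zero]
  map_add' P Q := by
    rw [map_add, map_add, map_add, add_mul]
    ring

theorem dtil_apply (D : Derivation ℤ L K) (x v : K) (P : L[X]) :
    dtil D x v P = tcoef D x P + aeval x (derivative P) * v := rfl

theorem dtil_mul (D : Derivation ℤ L K) (x v : K) (P Q : L[X]) :
    dtil D x v (P * Q) = aeval x P * dtil D x v Q + aeval x Q * dtil D x v P := by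
  rw [dtil_apply, dtil_apply, dtil_apply, tcoef_mul, derivative_mul, map_add, map_mul, map_mul]
  ring

theorem dtil_add (D D' : Derivation ℤ L K) (x v v' : K) (P : L[X]) :
    dtil (D + D') x (v + v') P = dtil D x v P + dtil D' x v' P := by
  rw [dtil_apply, dtil_apply, dtil_apply, tcoef_add_left]
  ring

theorem dtil_smul (c : K) (D : Derivation ℤ L K) (x v : K) (P : L[X]) :
    dtil (c • D) x (c * v) P = c * dtil D x v P := by
  rw [dtil_apply, dtil_apply, tcoef_smul_left]
  ring

theorem dtil_C (D : Derivation ℤ L K) (x v : K) (a : L) : dtil D x v (C a) = D a := by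
  rw [dtil_apply, derivative_C, map_zero, zero_mul, add_zero, ← monomial_zero_left, tcoef_monomial,
    pow_zero, mul_one]

theorem dtil_X (D : Derivation ℤ L K) (x v : K) : dtil D x v X = v := by
  rw [dtil_apply, derivative_X, map_one, one_mul, ← monomial_one_one_eq_X, tcoef_monomial,
    Derivation.map_one_eq_zero, zero_mul, zero_add]

theorem dtil_eq_of_aeval_eq (D : Derivation ℤ L K) (x v : K)
    (h0 : dtil D x v (minpoly L x) = 0) {P Q : L[X]} (h : aeval x P = aeval x Q) :
    dtil D x v P = dtil D x v Q := by
  have h1 : aeval x (P - Q) = 0 := by rw [map_sub, h, sub_self]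
  obtain ⟨g, hg⟩ := minpoly.dvd L x h1
  have h2 : dtil D x v (P - Q) = 0 := by
    rw [hg, dtil_mul, h0, minpoly.aeval, mul_zero, zero_mul, add_zero]
  rw [map_sub, sub_eq_zero] at h2
  exact h2

end Poly

section Ext

variable {L K : Type u} [Field L] [Field K] [Algebra L K]

theorem exists_aeval_eq {x : K} (hx : IsIntegral L x) (y : L⟮x⟯) :
    ∃ P : L[X], aeval x P = (y : K) := by
  have h1 : (y : K) ∈ L⟮x⟯.toSubalgebra := y.2
  rw [IntermediateField.adjoin_simple_toSubalgebra_of_isAlgebraic hx.isAlgebraic,
    Algebra.adjoin_singleton_eq_range_aeval] at h1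
  exact h1

/-- a chosen polynomial representative of an element of `L⟮x⟯` -/
noncomputable def rep {x : K} (hx : IsIntegral L x) (y : L⟮x⟯) : L[X] :=
  (exists_aeval_eq hx y).choose

theorem aeval_rep {x : K} (hx : IsIntegral L x) (y : L⟮x⟯) : aeval x (rep hx y) = (y : K) :=
  (exists_aeval_eq hx y).choose_spec

theorem smul_eq_coe_mul {x : K} (y : L⟮x⟯) (z : K) : y • z = (y : K) * z := by
  rw [Algebra.smul_def, IntermediateField.algebraMap_apply]

/-- the extension of `D` to `L⟮x⟯` with value `v` at `x` -/
noncomputable def ext {x : K} (hx : IsIntegral L x) (D : Derivation ℤ L K) (v : K)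
    (h0 : dtil D x v (minpoly L x) = 0) : Derivation ℤ L⟮x⟯ K where
  toLinearMap := AddMonoidHom.toIntLinearMap
    { toFun := fun y => dtil D x v (rep hx y)
      map_zero' := by
        have h : aeval x (rep hx (0 : L⟮x⟯)) = aeval x (0 : L[X]) := by
          rw [aeval_rep, map_zero]
          rfl
        rw [dtil_eq_of_aeval_eq D x v h0 h, map_zero]
      map_add' := fun y z => by
        have h : aeval x (rep hx (y + z)) = aeval x (rep hx y + rep hx z) := by
          rw [aeval_rep, map_add, aeval_rep, aeval_rep]
          rfl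
        rw [dtil_eq_of_aeval_eq D x v h0 h, map_add] }
  map_one_eq_zero' := by
    show dtil D x v (rep hx (1 : L⟮x⟯)) = 0
    have h : aeval x (rep hx (1 : L⟮x⟯)) = aeval x (C (1 : L)) := by
      rw [aeval_rep, aeval_C, map_one]
      rfl
    rw [dtil_eq_of_aeval_eq D x v h0 h, dtil_C, Derivation.map_one_eq_zero]
  leibniz' := fun y z => by
    show dtil D x v (rep hx (y * z)) = y • dtil D x v (rep hx z) + z • dtil D x v (rep hx y)
    have h : aeval x (rep hx (y * z)) = aeval x (rep hx y * rep hx z) := by
      rw [aeval_rep, map_mul, aeval_rep, aeval_rep]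
      rfl
    rw [dtil_eq_of_aeval_eq D x v h0 h, dtil_mul, aeval_rep, aeval_rep, smul_eq_coe_mul,
      smul_eq_coe_mul]

theorem ext_apply {x : K} (hx : IsIntegral L x) (D : Derivation ℤ L K) (v : K)
    (h0 : dtil D x v (minpoly L x) = 0) (y : L⟮x⟯) :
    ext hx D v h0 y = dtil D x v (rep hx y) := rfl

theorem ext_eq {x : K} (hx : IsIntegral L x) (D : Derivation ℤ L K) (v : K)
    (h0 : dtil D x v (minpoly L x) = 0) (y : L⟮x⟯) (P : L[X]) (hP : aeval x P = (y : K)) :
    ext hx D v h0 y = dtil D x v P := by
  rw [ext_apply]
  exact dtil_eq_of_aeval_eq D x v h0 ((aeval_rep hx y).trans hP.symm)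

theorem ext_algebraMap {x : K} (hx : IsIntegral L x) (D : Derivation ℤ L K) (v : K)
    (h0 : dtil D x v (minpoly L x) = 0) (a : L) :
    ext hx D v h0 (algebraMap L L⟮x⟯ a) = D a := by
  rw [ext_eq hx D v h0 _ (C a) (by rw [aeval_C]; rfl), dtil_C]

theorem ext_gen {x : K} (hx : IsIntegral L x) (D : Derivation ℤ L K) (v : K)
    (h0 : dtil D x v (minpoly L x) = 0) :
    ext hx D v h0 (AdjoinSimple.gen L x) = v := by
  rw [ext_eq hx D v h0 _ X (by rw [aeval_X]; rfl), dtil_X]

theorem compAlgebraMap_ext {x : K} (hx : IsIntegral L x) (D : Derivation ℤ L K) (v : K)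
    (h0 : dtil D x v (minpoly L x) = 0) :
    (ext hx D v h0).compAlgebraMap L = D := by
  ext a
  exact ext_algebraMap hx D v h0 a

end Ext

section Abstract

/-- abstract linear algebra behind the extension step -/
theorem rank_le_comap_of_ext {K : Type u} [Field K] {V V' : Type u} [AddCommGroup V] [Module K V]
    [AddCommGroup V'] [Module K V'] (res : V' →ₗ[K] V) (val : V' →ₗ[K] K) (Ψ₀ : V →ₗ[K] K) (e : K)
    (hext : ∀ (D : V) (v : K), Ψ₀ D + e * v = 0 → ∃ D' : V', res D' = D ∧ val D' = v)
    (S : Submodule K V) : Module.rank K S ≤ Module.rank K (S.comap res) := by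
  let Ψ : (S × K) →ₗ[K] K :=
    (Ψ₀ ∘ₗ S.subtype ∘ₗ LinearMap.fst K S K) + e • LinearMap.snd K S K
  have hΨ : ∀ w : S × K, Ψ w = Ψ₀ (w.1 : V) + e * w.2 := fun _ => rfl
  let Φ : S.comap res →ₗ[K] (S × K) :=
    LinearMap.prod ((res.domRestrict (S.comap res)).codRestrict S (fun D' => D'.2))
      (val.domRestrict (S.comap res))
  have hΦ1 : ∀ D' : S.comap res, ((Φ D').1 : V) = res (D' : V') := fun _ => rfl
  have hΦ2 : ∀ D' : S.comap res, (Φ D').2 = val (D' : V') := fun _ => rfl
  have h1 : Module.rank K S ≤ Module.rank K (LinearMap.ker Ψ) := by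
    have h2 := LinearMap.rank_range_add_rank_ker Ψ
    rw [rank_prod', Module.rank_self] at h2
    have h3 : Module.rank K (LinearMap.range Ψ) ≤ 1 := by
      have := Submodule.rank_le (LinearMap.range Ψ)
      rwa [Module.rank_self] at this
    rw [← Cardinal.add_one_le_add_one_iff, ← h2, add_comm]
    exact add_le_add_right h3 _
  have h4 : LinearMap.ker Ψ ≤ LinearMap.range Φ := by
    intro w hw
    rw [LinearMap.mem_ker, hΨ] at hw
    obtain ⟨D', hD'1, hD'2⟩ := hext (w.1 : V) w.2 hw
    have hmem : D' ∈ S.comap res := by
      rw [Submodule.mem_comap, hD'1]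
      exact w.1.2
    refine ⟨⟨D', hmem⟩, ?_⟩
    apply Prod.ext
    · apply Subtype.ext
      rw [hΦ1]
      exact hD'1
    · rw [hΦ2]
      exact hD'2
  exact h1.trans ((Submodule.rank_mono h4).trans (rank_range_le Φ))

end Abstract

section Step

variable {L K : Type u} [Field L] [Field K] [Algebra L K]

/-- restriction of derivations to a subfield, as a `K`-linear map -/
noncomputable def resLin (F F' K : Type u) [Field F] [Field F'] [Field K] [Algebra F F']
    [Algebra F' K] [Algebra F K] [IsScalarTower F F' K] :
    Derivation ℤ F' K →ₗ[K] Derivation ℤ F K where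
  toFun D := D.compAlgebraMap F
  map_add' _ _ := rfl
  map_smul' _ _ := rfl

theorem resLin_apply (F F' K : Type u) [Field F] [Field F'] [Field K] [Algebra F F']
    [Algebra F' K] [Algebra F K] [IsScalarTower F F' K] (D : Derivation ℤ F' K) (a : F) :
    resLin F F' K D a = D (algebraMap F F' a) := rfl

/-- a subspace of derivations `L → K` extends to a subspace of derivations `L⟮x⟯ → K` of at
least the same dimension -/
theorem step {x : K} (hx : IsIntegral L x) (S : Submodule K (Derivation ℤ L K)) :
    Module.rank K S ≤ Module.rank K (S.comap (resLin L L⟮x⟯ K)) := by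
  let val : Derivation ℤ L⟮x⟯ K →ₗ[K] K :=
    { toFun := fun D => D (AdjoinSimple.gen L x)
      map_add' := fun _ _ => rfl
      map_smul' := fun _ _ => rfl }
  let Ψ₀ : Derivation ℤ L K →ₗ[K] K :=
    { toFun := fun D => tcoef D x (minpoly L x)
      map_add' := fun D D' => tcoef_add_left D D' x _
      map_smul' := fun c D => tcoef_smul_left c D x _ }
  refine rank_le_comap_of_ext (resLin L L⟮x⟯ K) val Ψ₀ (aeval x (derivative (minpoly L x))) ?_ S
  intro D v h
  have h0 : dtil D x v (minpoly L x) = 0 := h
  refine ⟨ext hx D v h0, ?_, ?_⟩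
  · exact compAlgebraMap_ext hx D v h0
  · exact ext_gen hx D v h0

end Step

section Tower

/-- transport of derivations along a bijective algebra map -/
theorem exists_of_bijective {F K : Type u} [Field F] [Field K] [Algebra F K]
    (hb : Function.Bijective (algebraMap F K)) (D : Derivation ℤ F K) :
    ∃ D' : Derivation ℤ K K, resLin F K K D' = D := by
  obtain ⟨e, he⟩ : ∃ e : F ≃+* K, ∀ a, e a = algebraMap F K a :=
    ⟨RingEquiv.ofBijective (algebraMap F K) hb, fun _ => rfl⟩
  have hes : ∀ y : K, algebraMap F K (e.symm y) = y := by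
    intro y
    rw [← he, RingEquiv.apply_symm_apply]
  refine ⟨{ toLinearMap := AddMonoidHom.toIntLinearMap
              { toFun := fun y => D (e.symm y)
                map_zero' := by rw [map_zero, map_zero]
                map_add' := fun y z => by rw [map_add, map_add] }
            map_one_eq_zero' := by
              show D (e.symm 1) = 0
              rw [map_one, Derivation.map_one_eq_zero]
            leibniz' := fun y z => by
              show D (e.symm (y * z)) = y • D (e.symm z) + z • D (e.symm y)
              rw [map_mul, Derivation.leibniz, Algebra.smul_def, Algebra.smul_def, hes, hes,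
                smul_eq_mul, smul_eq_mul] }, ?_⟩
  ext a
  show D (e.symm (algebraMap F K a)) = D a
  rw [← he, RingEquiv.symm_apply_apply]

theorem resLin_comp (F F' K : Type u) [Field F] [Field F'] [Field K] [Algebra F F']
    [Algebra F' K] [Algebra F K] [IsScalarTower F F' K] :
    (resLin F F' K) ∘ₗ (resLin F' K K) = resLin F K K := by
  ext D a
  show D (algebraMap F' K (algebraMap F F' a)) = D (algebraMap F K a)
  rw [← IsScalarTower.algebraMap_apply]

/-- **Extension of derivations along finite field extensions**: a subspace of derivations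
`F → K` is dominated in dimension by the subspace of derivations `K → K` restricting into it -/
theorem rank_le_comap_resLin_aux (K : Type u) [Field K] : ∀ (d : ℕ) (F : Type u) [Field F]
    [Algebra F K] [FiniteDimensional F K], Module.finrank F K ≤ d →
    ∀ S : Submodule K (Derivation ℤ F K),
      Module.rank K S ≤ Module.rank K (S.comap (resLin F K K)) := by
  intro d
  induction d with
  | zero =>
    intro F _ _ _ h S
    have := Module.finrank_pos (R := F) (M := K)
    omega
  | succ d ih =>
    intro F _ _ _ h S
    by_cases hsurj : ∀ y : K, y ∈ (⊥ : IntermediateField F K)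
    · have hb : Function.Bijective (algebraMap F K) := by
        refine ⟨(algebraMap F K).injective, fun y => ?_⟩
        exact IntermediateField.mem_bot.1 (hsurj y)
      let f : S.comap (resLin F K K) →ₗ[K] S :=
        ((resLin F K K).domRestrict (S.comap (resLin F K K))).codRestrict S (fun D' => D'.2)
      have hf : Function.Surjective f := by
        intro D
        obtain ⟨D', hD'⟩ := exists_of_bijective hb (D : Derivation ℤ F K)
        have hmem : D' ∈ S.comap (resLin F K K) := by
          rw [Submodule.mem_comap, hD']
          exact D.2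
        exact ⟨⟨D', hmem⟩, Subtype.ext hD'⟩
      exact LinearMap.rank_le_of_surjective f hf
    · push Not at hsurj
      obtain ⟨x, hx⟩ := hsurj
      have hxi : IsIntegral F x := IsIntegral.of_finite F x
      have h1 : Module.finrank F F⟮x⟯ ≠ 1 := by
        rw [Ne, IntermediateField.finrank_adjoin_simple_eq_one_iff]
        exact hx
      have h2 : 0 < Module.finrank F F⟮x⟯ := Module.finrank_pos
      have h3 := Module.finrank_mul_finrank F F⟮x⟯ K
      have h4 : Module.finrank F⟮x⟯ K ≤ d := by
        have h5 : 2 * Module.finrank F⟮x⟯ K ≤ Module.finrank F F⟮x⟯ * Module.finrank F⟮x⟯ K :=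
          Nat.mul_le_mul_right _ (by omega)
        have h6 : 0 < Module.finrank F⟮x⟯ K := Module.finrank_pos
        omega
      have h7 := step hxi S
      have h8 := ih F⟮x⟯ h4 (S.comap (resLin F F⟮x⟯ K))
      rw [← Submodule.comap_comp, resLin_comp] at h8
      exact h7.trans h8

theorem rank_le_comap_resLin {F K : Type u} [Field F] [Field K] [Algebra F K]
    [FiniteDimensional F K] (S : Submodule K (Derivation ℤ F K)) :
    Module.rank K S ≤ Module.rank K (S.comap (resLin F K K)) :=
  rank_le_comap_resLin_aux K (Module.finrank F K) F le_rfl S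

end Tower

end Groth.Agent.Helper11.DerExt
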