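import Groth.Agent.Lib.Helper11.Tel7
import Groth.Agent.Lib.Helper11.LDer4
import Groth.Agent.Lib.Helper11.DCRestrict

/-!
Dévissage for derived tensor products computed on a K-projective representative (helper11).
-/

set_option autoImplicit false

open CategoryTheory CategoryTheory.Limits MonoidalCategory

universe u

namespace Groth.Agent.Helper11.Dev

open Groth.Agent.Helper11.DC Groth.Agent.Helper11.TA Groth.Agent.Helper11.LDer

attribute [local instance] HasDerivedCategory.standard

variable {A : Type u} [CommRing A]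

/-- the natural transformation `- ⊗ M₁ ⟶ - ⊗ M₂` on complexes induced by `f : M₁ ⟶ M₂` -/
noncomputable def tensMap {M₁ M₂ : ModuleCat.{u} A} (f : M₁ ⟶ M₂) : tens M₁ ⟶ tens M₂ :=
  NatTrans.mapHomologicalComplex ((tensoringRight (ModuleCat.{u} A)).map f) (ComplexShape.up ℤ)

theorem tensMap_app_f {M₁ M₂ : ModuleCat.{u} A} (f : M₁ ⟶ M₂) (T : DRing.Cx A) (i : ℤ) :
    ((tensMap f).app T).f i = T.X i ◁ f := rfl

theorem tensMap_app_f_hom {M₁ M₂ : ModuleCat.{u} A} (f : M₁ ⟶ M₂) (T : DRing.Cx A) (i : ℤ) :
    (((tensMap f).app T).f i).hom = f.hom.lTensor (T.X i) := rfl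

/-- `- ⊗ M₁ ≅ - ⊗ M₂` on complexes for `M₁ ≅ M₂` -/
noncomputable def tensIso {M₁ M₂ : ModuleCat.{u} A} (e : M₁ ≅ M₂) : tens M₁ ≅ tens M₂ :=
  NatIso.mapHomologicalComplex ((tensoringRight (ModuleCat.{u} A)).mapIso e) (ComplexShape.up ℤ)

/-- dévissage: vanishing of `H^i(T ⊗ -)` passes to the middle term of a short exact sequence of
modules when `T` is termwise flat -/
theorem isZero_homology_tens_of_ses (T : DRing.Cx A) (hT : ∀ i, Module.Flat A (T.X i))
    {M₁ M₂ M₃ : ModuleCat.{u} A} (f : M₁ ⟶ M₂) (g : M₂ ⟶ M₃)
    (hf : Function.Injective f.hom) (hg : Function.Surjective g.hom)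
    (hfg : Function.Exact f.hom g.hom) (i : ℤ)
    (h1 : IsZero (((tens M₁).obj T).homology i)) (h3 : IsZero (((tens M₃).obj T).homology i)) :
    IsZero (((tens M₂).obj T).homology i) := by
  have hzero : (tensMap f).app T ≫ (tensMap g).app T = 0 := by
    ext j : 1
    rw [HomologicalComplex.comp_f, tensMap_app_f, tensMap_app_f, HomologicalComplex.zero_f]
    apply ModuleCat.hom_ext
    apply LinearMap.ext
    intro x
    have h : (LinearMap.lTensor (T.X j) g.hom ∘ₗ LinearMap.lTensor (T.X j) f.hom) x = 0 := by
      have := (lTensor_exact (T.X j) hfg hg).linearMap_comp_eq_zero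
      rw [this]
      rfl
    exact h
  let S : ShortComplex (DRing.Cx A) := ShortComplex.mk _ _ hzero
  have hS : S.ShortExact := by
    apply HomologicalComplex.shortExact_of_degreewise_shortExact
    intro j
    haveI := hT j
    have hmono : Mono (S.map (HomologicalComplex.eval _ _ j)).f := by
      rw [ModuleCat.mono_iff_injective]
      exact Module.Flat.lTensor_preserves_injective_linearMap (M := T.X j) f.hom hf
    have hepi : Epi (S.map (HomologicalComplex.eval _ _ j)).g := by
      rw [ModuleCat.epi_iff_surjective]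
      exact LinearMap.lTensor_surjective (T.X j) hg
    have hex : (S.map (HomologicalComplex.eval _ _ j)).Exact := by
      rw [ShortComplex.ShortExact.moduleCat_exact_iff_function_exact]
      exact lTensor_exact (T.X j) hfg hg
    exact { exact := hex, mono_f := hmono, epi_g := hepi }
  have hex := hS.homology_exact₂ i
  exact hex.isZero_of_both_isZero h1 h3

end Groth.Agent.Helper11.Dev
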