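import Groth.Agent.Lib.Helper11.TorAmp10
import Mathlib.Algebra.Module.LocalizedModule.Basic
import Mathlib.RingTheory.Localization.Away.Basic
import Mathlib.RingTheory.Ideal.Operations

/-!
# Tor amplitude is local on the spectrum
-/

set_option autoImplicit false
universe u

open CategoryTheory Limits DerivedCategory Pretriangulated MonoidalCategory

attribute [local instance] HasDerivedCategory.standard

namespace Groth.Agent.Helper11.TA

open Groth.Agent.Helper11.DC

variable {R : Type u} [CommRing R]

/-- if `R_f ⊗ H = 0` then every element of `H` is killed by a power of `f`. -/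
theorem exists_pow_smul_eq_zero_of_es_isZero (f : R) (H : ModuleCat.{u} R)
    (h : IsZero ((es (algebraMap R (Localization.Away f))).obj H)) (x : H) :
    ∃ n : ℕ, f ^ n • x = 0 := by
  let φ := algebraMap R (Localization.Away f)
  let N : ModuleCat.{u} (Localization.Away f) :=
    ModuleCat.of (Localization.Away f) (LocalizedModule (Submonoid.powers f) H)
  let g : H ⟶ (ModuleCat.restrictScalars φ).obj N := ModuleCat.ofHom
    (Y := (ModuleCat.restrictScalars φ).obj N)
    { toFun := fun y => LocalizedModule.mk y 1
      map_add' := fun y z => by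
        exact (LocalizedModule.mkLinearMap (Submonoid.powers f) H).map_add y z
      map_smul' := fun r y => by
        change LocalizedModule.mk (r • y) 1 = (algebraMap R (Localization.Away f) r) •
          (LocalizedModule.mk y 1 : LocalizedModule (Submonoid.powers f) H)
        rw [algebraMap_smul]
        exact (LocalizedModule.mkLinearMap (Submonoid.powers f) H).map_smul r y }
  have adj := ModuleCat.extendRestrictScalarsAdj.{u, u, u} φ
  have hg : g = 0 := (adj.homEquiv H N).symm.injective (h.eq_of_src _ _)
  have hx : LocalizedModule.mkLinearMap (Submonoid.powers f) H x = 0 := by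
    have := congr($(hg).hom x)
    exact this
  obtain ⟨⟨s, ⟨n, rfl⟩⟩, hs⟩ :=
    (IsLocalizedModule.eq_zero_iff (Submonoid.powers f)
      (LocalizedModule.mkLinearMap (Submonoid.powers f) H)).mp hx
  exact ⟨n, hs⟩

theorem isZero_of_es_away {r : ℕ} (f : Fin r → R) (hf : Ideal.span (Set.range f) = ⊤)
    (H : ModuleCat.{u} R)
    (h : ∀ i, IsZero ((es (algebraMap R (Localization.Away (f i)))).obj H)) : IsZero H := by
  suffices hsub : Subsingleton H from ModuleCat.isZero_of_subsingleton _
  refine ⟨fun x y => ?_⟩
  suffices hz : ∀ z : H, z = 0 by rw [hz x, hz y]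
  intro z
  choose n hn using fun i => exists_pow_smul_eq_zero_of_es_isZero (f i) H (h i) z
  let m := Finset.univ.sup n
  have hpow : ∀ i, f i ^ m • z = 0 := by
    intro i
    have hle : n i ≤ m := Finset.le_sup (Finset.mem_univ i)
    obtain ⟨k, hk⟩ := Nat.exists_eq_add_of_le hle
    rw [hk, pow_add, mul_comm, mul_smul, hn i, smul_zero]
  have htop := Ideal.span_pow_eq_top _ hf m
  let I : Ideal R := LinearMap.ker (LinearMap.toSpanSingleton R H z)
  have hI : Ideal.span ((fun x => x ^ m) '' Set.range f) ≤ I := by
    rw [Ideal.span_le]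
    rintro _ ⟨_, ⟨i, rfl⟩, rfl⟩
    change LinearMap.toSpanSingleton R H z (f i ^ m) = 0
    rw [LinearMap.toSpanSingleton_apply]
    exact hpow i
  rw [htop] at hI
  have h1 : (1 : R) ∈ I := hI Submodule.mem_top
  have : LinearMap.toSpanSingleton R H z 1 = 0 := h1
  rw [LinearMap.toSpanSingleton_apply, one_smul] at this
  exact this

end Groth.Agent.Helper11.TA
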