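import Groth.Agent.Lib.Helper11.LocalPerf5
import Groth.Agent.Lib.Helper11.TorAmp11
import Mathlib.RingTheory.Localization.AtPrime.Basic

/-!
Globalisation: fibres at all maximal ideals control the tor amplitude (helper11).
-/

set_option autoImplicit false

open CategoryTheory Category Limits Pretriangulated DerivedCategory ZeroObject

attribute [local instance] HasDerivedCategory.standard

universe u

namespace Groth.Agent.Helper11.LocalPerf

open Groth.Agent.Helper11.DC Groth.Agent.Helper11.MPC Groth.Agent.Helper11.TA
  Groth.Agent.Helper11.LDer Groth.Agent.Helper11.SubCx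

section Comp

variable {A B C : Type u} [CommRing A] [CommRing B] [CommRing C]

/-- extension of scalars of complexes along a composition -/
noncomputable def esCCompIso (f : A →+* B) (g : B →+* C) (E : DRing.Cx A) :
    (esC (g.comp f)).obj E ≅ (esC g).obj ((esC f).obj E) :=
  HomologicalComplex.Hom.isoOfComponents
    (fun i => (ModuleCat.extendScalarsComp.{u} f g).app (E.X i))
    (fun i j _ => ((ModuleCat.extendScalarsComp.{u} f g).hom.naturality (E.d i j)).symm)

theorem isZero_homology_esC_of_flat (ψ : B →+* C) (hψ : ψ.Flat) (X : DRing.Cx B) (i : ℤ)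
    (h : IsZero ((homologyFunctor (ModuleCat.{u} B) i).obj (Q.obj X))) :
    IsZero ((homologyFunctor (ModuleCat.{u} C) i).obj (Q.obj ((esC ψ).obj X))) := by
  rw [isZero_homology_Q_iff_exactAt, HomologicalComplex.exactAt_iff_isZero_homology] at h ⊢
  exact ((es ψ).map_isZero h).of_iso (esHomologyIso ψ hψ X i)

theorem isZero_homology_esC_of_comm {R R₁ R₂ K : Type u} [CommRing R] [CommRing R₁]
    [CommRing R₂] [CommRing K] (φ : R →+* R₁) (ρ : R₁ →+* K) (q : R →+* R₂) (ψ : R₂ →+* K)
    (hcomm : ψ.comp q = ρ.comp φ) (hψ : ψ.Flat) (E : DRing.Cx R) (i : ℤ)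
    (h : IsZero ((homologyFunctor (ModuleCat.{u} R₂) i).obj (Q.obj ((esC q).obj E)))) :
    IsZero ((homologyFunctor (ModuleCat.{u} K) i).obj
      (Q.obj ((esC ρ).obj ((esC φ).obj E)))) := by
  have e : (esC ρ).obj ((esC φ).obj E) ≅ (esC ψ).obj ((esC q).obj E) :=
    (esCCompIso φ ρ E).symm ≪≫ eqToIso (by rw [hcomm]) ≪≫ esCCompIso q ψ E
  exact (isZero_homology_esC_of_flat ψ hψ _ i h).of_iso
    ((homologyFunctor (ModuleCat.{u} K) i).mapIso (Q.mapIso e))

end Comp

section Global

variable {R : Type u} [CommRing R]

/-- the map from the residue field of `R` at a maximal ideal to the residue field of the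
localisation -/
noncomputable def resMap (m : Ideal R) [m.IsMaximal] :
    R ⧸ m →+* IsLocalRing.ResidueField (Localization.AtPrime m) :=
  Ideal.Quotient.lift m ((IsLocalRing.residue (Localization.AtPrime m)).comp
    (algebraMap R (Localization.AtPrime m))) (fun a ha => by
      rw [RingHom.comp_apply, IsLocalRing.residue_eq_zero_iff]
      exact (IsLocalization.AtPrime.to_map_mem_maximal_iff (Localization.AtPrime m) m a).mpr ha)

theorem resMap_comp (m : Ideal R) [m.IsMaximal] :
    (resMap m).comp (Ideal.Quotient.mk m) = (IsLocalRing.residue (Localization.AtPrime m)).comp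
      (algebraMap R (Localization.AtPrime m)) :=
  Ideal.Quotient.lift_comp_mk _ _ _

theorem resMap_flat (m : Ideal R) [m.IsMaximal] : (resMap m).Flat := by
  letI : Field (R ⧸ m) := Ideal.Quotient.field m
  letI := (resMap m).toAlgebra
  show Module.Flat (R ⧸ m) (IsLocalRing.ResidueField (Localization.AtPrime m))
  infer_instance

/-- a module vanishing at all maximal ideals is zero -/
theorem isZero_of_es_maximal (H : ModuleCat.{u} R)
    (h : ∀ m : MaximalSpectrum R,
      IsZero ((es (algebraMap R (Localization.AtPrime m.asIdeal))).obj H)) : IsZero H := by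
  suffices hsub : Subsingleton H from ModuleCat.isZero_of_subsingleton _
  refine ⟨fun x y => ?_⟩
  suffices hz : ∀ z : H, z = 0 by rw [hz x, hz y]
  intro z
  let I : Ideal R := LinearMap.ker (LinearMap.toSpanSingleton R H z)
  by_contra hne
  have hI : I ≠ ⊤ := by
    intro hI
    have h1 : (1 : R) ∈ I := hI ▸ Submodule.mem_top
    have : LinearMap.toSpanSingleton R H z 1 = 0 := h1
    rw [LinearMap.toSpanSingleton_apply, one_smul] at this
    exact hne this
  obtain ⟨m, hm, hIm⟩ := Ideal.exists_le_maximal I hI
  let φ := algebraMap R (Localization.AtPrime m)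
  let N : ModuleCat.{u} (Localization.AtPrime m) :=
    ModuleCat.of (Localization.AtPrime m) (LocalizedModule m.primeCompl H)
  let g : H ⟶ (ModuleCat.restrictScalars φ).obj N := ModuleCat.ofHom
    (Y := (ModuleCat.restrictScalars φ).obj N)
    { toFun := fun y => LocalizedModule.mk y 1
      map_add' := fun y z => by
        exact (LocalizedModule.mkLinearMap m.primeCompl H).map_add y z
      map_smul' := fun r y => by
        change LocalizedModule.mk (r • y) 1 = (algebraMap R (Localization.AtPrime m) r) •
          (LocalizedModule.mk y 1 : LocalizedModule m.primeCompl H)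
        rw [algebraMap_smul]
        exact (LocalizedModule.mkLinearMap m.primeCompl H).map_smul r y }
  have adj := ModuleCat.extendRestrictScalarsAdj.{u, u, u} φ
  have hg : g = 0 := (adj.homEquiv H N).symm.injective ((h ⟨m, hm⟩).eq_of_src _ _)
  have hx : LocalizedModule.mkLinearMap m.primeCompl H z = 0 := by
    have := congr($(hg).hom z)
    exact this
  obtain ⟨⟨s, hs⟩, hsz⟩ :=
    (IsLocalizedModule.eq_zero_iff m.primeCompl
      (LocalizedModule.mkLinearMap m.primeCompl H)).mp hx
  have hsI : s ∈ I := by
    show LinearMap.toSpanSingleton R H z s = 0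
    rw [LinearMap.toSpanSingleton_apply]
    exact hsz
  exact hs (hIm hsI)

/-- a bounded above complex of finite free modules whose fibres at all maximal ideals have
cohomology only in `[a, b]` has tor amplitude in `[a, b]` -/
theorem hasTorAmplitudeIn_of_fibres (E : DRing.Cx R) (b₀ : ℤ) (hEb : DRing.VanishesAbove E b₀)
    (hproj : ∀ i, Module.Projective R (E.X i)) (hfin : ∀ i, Module.Finite R (E.X i)) (a b : ℤ)
    (hH : ∀ (m : Ideal R), m.IsMaximal → ∀ i : ℤ, (i < a ∨ b < i) →
      IsZero ((homologyFunctor (ModuleCat.{u} (R ⧸ m)) i).obj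
        (Q.obj ((esC (Ideal.Quotient.mk m)).obj E)))) :
    DRing.HasTorAmplitudeIn R a b (Q.obj E) := by
  refine hasTorAmplitudeIn_of_torVan (torVan_descent
    (fun m : MaximalSpectrum R => Localization.AtPrime m.asIdeal)
    (fun m => algebraMap R (Localization.AtPrime m.asIdeal))
    (fun m => RingHom.flat_algebraMap_iff.mpr
      (IsLocalization.flat (Localization.AtPrime m.asIdeal) m.asIdeal.primeCompl))
    isZero_of_es_maximal E a b (fun m => torVan_of_hasTorAmplitudeIn ?_))
  haveI := m.isMaximal
  refine hasTorAmplitudeIn_of_fibre _ b₀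
    (fun i hi => (es (algebraMap R (Localization.AtPrime m.asIdeal))).map_isZero (hEb i hi))
    (fun i => by haveI := hproj i; exact es_projective _ (E.X i))
    (fun i => by haveI := hfin i; exact es_finite _ (E.X i)) a b (fun i hi => ?_)
  exact isZero_homology_esC_of_comm (algebraMap R (Localization.AtPrime m.asIdeal))
    (IsLocalRing.residue (Localization.AtPrime m.asIdeal)) (Ideal.Quotient.mk m.asIdeal)
    (resMap m.asIdeal) (resMap_comp m.asIdeal) (resMap_flat m.asIdeal) E i
    (hH m.asIdeal m.isMaximal i hi)

end Global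

end Groth.Agent.Helper11.LocalPerf
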