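import Groth.Agent.Lib.Helper11.Dev9
import Groth.Agent.Lib.Helper11.LocalPerf6
import Groth.Agent.Lib.Helper11.DCFlatBC

/-!
Pseudo-coherence along nilpotent surjections (helper11).
-/

set_option autoImplicit false

open CategoryTheory CategoryTheory.Limits TensorProduct

universe u

namespace Groth.Agent.Helper11.Dev

open Groth.Agent.Helper11.DC Groth.Agent.Helper11.TA Groth.Agent.Helper11.LDer
  Groth.Agent.Helper11.Lift Groth.Agent.Helper11.PRT Groth.Agent.Helper11.LocalPerf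

attribute [local instance] HasDerivedCategory.standard

variable {R' R : Type u} [CommRing R'] [CommRing R] (φ : R' →+* R) (hφ : Function.Surjective φ)

/-- the inverse of the canonical isomorphism `R' ⧸ ker φ ≃ R` -/
noncomputable def ψs : R →+* R' ⧸ RingHom.ker φ :=
  (RingHom.quotientKerEquivOfSurjective hφ).symm.toRingHom

theorem ψs_comp : (ψs φ hφ).comp φ = Ideal.Quotient.mk (RingHom.ker φ) := by
  ext x
  show (RingHom.quotientKerEquivOfSurjective hφ).symm (φ x) = _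
  rw [RingEquiv.symm_apply_eq]
  rfl

theorem ψs_flat : (ψs φ hφ).Flat :=
  RingHom.Flat.of_bijective (RingHom.quotientKerEquivOfSurjective hφ).symm.bijective

theorem nonempty_Q_iso_quot (T : DRing.Cx R') (E : DRing.Cx R) (b : ℤ)
    (hEb : DRing.VanishesAbove E b) (hEp : ∀ i, Module.Projective R (E.X i))
    (e : DerivedCategory.Q.obj E ≅ DerivedCategory.Q.obj ((esC φ).obj T)) :
    Nonempty (DerivedCategory.Q.obj ((esC (ψs φ hφ)).obj E) ≅
      DerivedCategory.Q.obj ((esC (Ideal.Quotient.mk (RingHom.ker φ))).obj T)) := by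
  haveI : E.IsKProjective := isKProjective_of_vanishesAbove E b hEb hEp
  obtain ⟨α, hα⟩ := exists_lift_of_isKProjective E ((esC φ).obj T) e.hom
  have hiso : IsIso (DerivedCategory.Q.map α) := by
    rw [hα]
    infer_instance
  haveI := isIso_Q_map_esC (ψs φ hφ) (ψs_flat φ hφ) α hiso
  have e2 : (esC (ψs φ hφ)).obj ((esC φ).obj T) ≅
      (esC (Ideal.Quotient.mk (RingHom.ker φ))).obj T :=
    (esCCompIso φ (ψs φ hφ) T).symm ≪≫ eqToIso (by rw [ψs_comp])
  exact ⟨asIso (DerivedCategory.Q.map ((esC (ψs φ hφ)).map α)) ≪≫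
    DerivedCategory.Q.mapIso e2⟩

/-- base change preserves pseudo-coherence -/
theorem isPseudoCoherent'_LBaseChange [DRing.HasLBaseChange φ] (K' : Dual.D R')
    (h : DRing.IsPseudoCoherent' R' K') :
    DRing.IsPseudoCoherent' R ((DRing.LBaseChange φ).obj K') := by
  obtain ⟨E, b, hv, hff, ⟨e⟩⟩ := h
  obtain ⟨eL⟩ := nonempty_LBaseChange_iso_of_projRes φ K' E b hv (fun i => by
    haveI := (hff i).2
    infer_instance) e
  refine ⟨(esC φ).obj E, b, fun i hi => (es φ).map_isZero (hv i hi), fun i => ?_, ⟨eL.symm⟩⟩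
  haveI := (hff i).1
  haveI := (hff i).2
  exact ⟨es_finite φ (E.X i), es_free φ (E.X i)⟩

include hφ in
/-- S6971 -/
theorem isPseudoCoherent'_iff_of_nilpotent (hnil : IsNilpotent (RingHom.ker φ))
    [DRing.HasLBaseChange φ] (K' : Dual.D R') :
    DRing.IsPseudoCoherent' R ((DRing.LBaseChange φ).obj K') ↔ DRing.IsPseudoCoherent' R' K' := by
  refine ⟨fun h => ?_, isPseudoCoherent'_LBaseChange φ K'⟩
  obtain ⟨E, b, hv, hff, ⟨e⟩⟩ := h
  obtain ⟨T, hTk, hTp, ⟨eT⟩⟩ := Groth.Agent.Helper11.Tel.exists_kprojective_rep K'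
  haveI := hTk
  have hEp : ∀ i, Module.Projective R (E.X i) := fun i => by
    haveI := (hff i).2
    infer_instance
  have e1 : DerivedCategory.Q.obj E ≅ DerivedCategory.Q.obj ((esC φ).obj T) :=
    e ≪≫ (DRing.LBaseChange φ).mapIso eT.symm ≪≫ LBaseChangeIso φ T
  obtain ⟨e2⟩ := nonempty_Q_iso_quot φ hφ T E b hv hEp e1
  have hff₀ : ∀ i, Module.Finite (R' ⧸ RingHom.ker φ) (((esC (ψs φ hφ)).obj E).X i) ∧
      Module.Free (R' ⧸ RingHom.ker φ) (((esC (ψs φ hφ)).obj E).X i) := fun i => by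
    haveI := (hff i).1
    haveI := (hff i).2
    exact ⟨es_finite (ψs φ hφ) (E.X i), es_free (ψs φ hφ) (E.X i)⟩
  obtain ⟨P, b', hPv, hPp, ⟨eP⟩, ⟨ered⟩⟩ := exists_projective_representative' hnil T hTp
    ((esC (ψs φ hφ)).obj E) b (fun i hi => (es (ψs φ hφ)).map_isZero (hv i hi))
    (fun i => by
      haveI := (hff₀ i).2
      infer_instance) ⟨e2⟩
  refine ⟨P, b', hPv, fun i => ?_, ⟨eP ≪≫ eT⟩⟩
  haveI := hPp i
  haveI := (hff₀ i).1
  haveI := (hff₀ i).2
  exact finite_free_of_tensor hnil (P.X i) (((esC (ψs φ hφ)).obj E).X i)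
    ((esEquiv (I := RingHom.ker φ) (P.X i)).symm ≪≫ₗ
      ((HomologicalComplex.eval _ _ i).mapIso ered).toLinearEquiv)

end Groth.Agent.Helper11.Dev
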