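import Groth.Agent.Lib.Helper11.Dev10

/-!
Tor-vanishing over `R` from tor-vanishing over `R ⧸ I` for modules killed by `I` (helper11).
-/

set_option autoImplicit false

open CategoryTheory CategoryTheory.Limits MonoidalCategory

universe u

namespace Groth.Agent.Helper11.Dev

open Groth.Agent.Helper11.DC Groth.Agent.Helper11.TA Groth.Agent.Helper11.LDer
  Groth.Agent.Helper11.PRT

attribute [local instance] HasDerivedCategory.standard

variable {R : Type u} [CommRing R] (I : Ideal R)

/-- Lemma BC, two-sided form -/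
theorem isZero_homology_tens_of_killed' (T : DRing.Cx R) [T.IsKProjective]
    (E' : DRing.Cx (R ⧸ I)) (c : ℤ) (hE'c : DRing.VanishesAbove E' c)
    (hE'p : ∀ i, Module.Projective (R ⧸ I) (E'.X i))
    (e : DerivedCategory.Q.obj ((esC (Ideal.Quotient.mk I)).obj T) ≅ DerivedCategory.Q.obj E')
    (a b : ℤ) (hE' : TorVanCx a b E')
    (N : ModuleCat.{u} R) (hN : I • (⊤ : Submodule R N) = ⊥) (i : ℤ) (hi : i < a ∨ b < i) :
    IsZero (((tens N).obj T).homology i) := by
  haveI := isKProjective_esC (Ideal.Quotient.mk I) T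
  haveI : E'.IsKProjective := isKProjective_of_vanishesAbove E' c hE'c hE'p
  obtain ⟨he⟩ := nonempty_homotopyEquiv_of_Q_iso _ _ e
  have he2 := (tensorRight ((es (Ideal.Quotient.mk I)).obj N)).mapHomotopyEquiv he
  have hz : IsZero (((tens ((es (Ideal.Quotient.mk I)).obj N)).obj E').homology i) :=
    (hE' _ i hi).of_iso
      ((DerivedCategory.homologyFunctorFactors (ModuleCat.{u} (R ⧸ I)) i).app _).symm
  have h1 : IsZero (((tens ((es (Ideal.Quotient.mk I)).obj N)).obj
      ((esC (Ideal.Quotient.mk I)).obj T)).homology i) := hz.of_iso (he2.toHomologyIso i)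
  have h2 := (isZero_homology_rsC_iff (Ideal.Quotient.mk I) _ i).mpr h1
  let eN' : N ≅ N ⊗ Bm (Ideal.Quotient.mk I) :=
    ((β_ N (Bm (Ideal.Quotient.mk I))) ≪≫ BmTensorIso I N hN).symm
  let ι1 : (tens N).obj T ≅ (tens (N ⊗ Bm (Ideal.Quotient.mk I))).obj T := (tensIso eN').app T
  let ι2 : (tens (N ⊗ Bm (Ideal.Quotient.mk I))).obj T ≅
      (tens (Bm (Ideal.Quotient.mk I))).obj ((tens N).obj T) :=
    ((Functor.mapHomologicalComplexCompIso
      (tensorRightTensor N (Bm (Ideal.Quotient.mk I))).symm (ComplexShape.up ℤ)).app T).symm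
  let ι3 : (tens (Bm (Ideal.Quotient.mk I))).obj ((tens N).obj T) ≅
      (rsC (Ideal.Quotient.mk I)).obj ((esC (Ideal.Quotient.mk I)).obj ((tens N).obj T)) :=
    tensBmIso (Ideal.Quotient.mk I) ((tens N).obj T)
  let ι4 : (rsC (Ideal.Quotient.mk I)).obj ((esC (Ideal.Quotient.mk I)).obj ((tens N).obj T)) ≅
      (rsC (Ideal.Quotient.mk I)).obj ((tens ((es (Ideal.Quotient.mk I)).obj N)).obj
        ((esC (Ideal.Quotient.mk I)).obj T)) :=
    (rsC (Ideal.Quotient.mk I)).mapIso (esTensIso (Ideal.Quotient.mk I) T N).symm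
  exact h2.of_iso ((HomologicalComplex.homologyFunctor _ _ i).mapIso (ι1 ≪≫ ι2 ≪≫ ι3 ≪≫ ι4))

/-- dévissage for modules killed by a power of `I`, one degree at a time -/
theorem isZero_homology_tens_of_pow_killed' (T : DRing.Cx R)
    (hTf : ∀ i, Module.Flat R (T.X i)) (i : ℤ)
    (hbase : ∀ N : ModuleCat.{u} R, I • (⊤ : Submodule R N) = ⊥ →
      IsZero (((tens N).obj T).homology i)) :
    ∀ (n : ℕ) (N : Type u) [AddCommGroup N] [Module R N],
      I ^ n • (⊤ : Submodule R N) = ⊥ →
      IsZero (((tens (ModuleCat.of R N)).obj T).homology i) := by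
  intro n
  induction n with
  | zero =>
    intro N _ _ hN
    haveI : Subsingleton N := by
      rw [pow_zero, Ideal.one_eq_top, Submodule.top_smul] at hN
      exact (Submodule.subsingleton_iff R).mp (subsingleton_of_bot_eq_top hN.symm)
    exact isZero_homology_tens_of_subsingleton T (ModuleCat.of R N) i
  | succ n ih =>
    intro N _ _ hN
    let N' : Submodule R N := I ^ n • (⊤ : Submodule R N)
    have hkill : I • N' = ⊥ := by
      show I • (I ^ n • (⊤ : Submodule R N)) = ⊥
      rw [← Submodule.mul_smul, ← pow_succ']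
      exact hN
    have h1 : IsZero (((tens (ModuleCat.of R N')).obj T).homology i) :=
      hbase (ModuleCat.of R N') (smul_top_sub_eq_bot N I N' hkill)
    have h3 : IsZero (((tens (ModuleCat.of R (N ⧸ N'))).obj T).homology i) :=
      ih (N ⧸ N') (smul_top_quot_eq_bot N (I ^ n))
    exact isZero_homology_tens_of_ses T hTf (ModuleCat.ofHom N'.subtype)
      (ModuleCat.ofHom N'.mkQ) N'.injective_subtype N'.mkQ_surjective
      (LinearMap.exact_subtype_mkQ N') i h1 h3

end Groth.Agent.Helper11.Dev
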