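import Groth.Agent.Lib.Helper11.Dev11

/-!
Tor amplitude along nilpotent surjections (helper11).
-/

set_option autoImplicit false

open CategoryTheory CategoryTheory.Limits MonoidalCategory

universe u

namespace Groth.Agent.Helper11.Dev

open Groth.Agent.Helper11.DC Groth.Agent.Helper11.TA Groth.Agent.Helper11.LDer
  Groth.Agent.Helper11.PRT Groth.Agent.Helper11.LocalPerf

attribute [local instance] HasDerivedCategory.standard

variable {R' R : Type u} [CommRing R'] [CommRing R] (φ : R' →+* R) (hφ : Function.Surjective φ)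

/-- base change preserves tor amplitude -/
theorem hasTorAmplitudeIn_LBaseChange [DRing.HasLBaseChange φ] (K' : Dual.D R') (a b : ℤ)
    (h : DRing.HasTorAmplitudeIn R' a b K') :
    DRing.HasTorAmplitudeIn R a b ((DRing.LBaseChange φ).obj K') := by
  obtain ⟨F, hF, hflat, ⟨e⟩⟩ := h
  obtain ⟨eL⟩ := nonempty_LBaseChange_iso_of_flat φ F b (fun i hi => hF i (Or.inr hi)) hflat
    (hasProjRes_of_bounded F a b hF)
  exact ⟨(esC φ).obj F, fun i hi => (es φ).map_isZero (hF i hi),
    fun i => by haveI := hflat i; exact es_flat φ (F.X i),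
    ⟨eL.symm ≪≫ (DRing.LBaseChange φ).mapIso e⟩⟩

include hφ in
theorem hasTorAmplitudeIn_of_LBaseChange (hnil : IsNilpotent (RingHom.ker φ))
    [DRing.HasLBaseChange φ] (K' : Dual.D R') (a b : ℤ)
    (h : DRing.HasTorAmplitudeIn R a b ((DRing.LBaseChange φ).obj K')) :
    DRing.HasTorAmplitudeIn R' a b K' := by
  obtain ⟨F, hF, hflat, ⟨eF⟩⟩ := h
  obtain ⟨T, hTk, hTp, ⟨eT⟩⟩ := Groth.Agent.Helper11.Tel.exists_kprojective_rep K'
  haveI := hTk
  have hTf : ∀ i, Module.Flat R' (T.X i) := fun i => by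
    haveI := hTp i
    infer_instance
  have e1 : DerivedCategory.Q.obj ((esC φ).obj T) ≅ DerivedCategory.Q.obj F :=
    (LBaseChangeIso φ T).symm ≪≫ (DRing.LBaseChange φ).mapIso eT ≪≫ eF.symm
  haveI := isKProjective_esC φ T
  obtain ⟨β, hβ⟩ := exists_lift_of_isKProjective ((esC φ).obj T) F e1.hom
  have hiso : IsIso (DerivedCategory.Q.map β) := by
    rw [hβ]
    infer_instance
  haveI := isIso_Q_map_esC (ψs φ hφ) (ψs_flat φ hφ) β hiso
  let e2 : (esC (ψs φ hφ)).obj ((esC φ).obj T) ≅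
      (esC (Ideal.Quotient.mk (RingHom.ker φ))).obj T :=
    (esCCompIso φ (ψs φ hφ) T).symm ≪≫ eqToIso (by rw [ψs_comp])
  have e3 : DerivedCategory.Q.obj ((esC (Ideal.Quotient.mk (RingHom.ker φ))).obj T) ≅
      DerivedCategory.Q.obj ((esC (ψs φ hφ)).obj F) :=
    DerivedCategory.Q.mapIso e2.symm ≪≫ asIso (DerivedCategory.Q.map ((esC (ψs φ hφ)).map β))
  have hta : DRing.HasTorAmplitudeIn (R' ⧸ RingHom.ker φ) a b
      (DerivedCategory.Q.obj ((esC (Ideal.Quotient.mk (RingHom.ker φ))).obj T)) :=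
    ⟨(esC (ψs φ hφ)).obj F, fun i hi => (es (ψs φ hφ)).map_isZero (hF i hi),
      fun i => by haveI := hflat i; exact es_flat (ψs φ hφ) (F.X i), ⟨e3.symm⟩⟩
  obtain ⟨E', c, hE'c, hE'p, ⟨eE'⟩, hE'v⟩ := torVan_of_hasTorAmplitudeIn hta
  obtain ⟨n, hn⟩ := hnil
  have hvan : ∀ (M : ModuleCat.{u} R') (i : ℤ), (i < a ∨ b < i) →
      IsZero (((tens M).obj T).homology i) := by
    intro M i hi
    exact isZero_homology_tens_of_pow_killed' (RingHom.ker φ) T hTf i
      (fun N hN => isZero_homology_tens_of_killed' (RingHom.ker φ) T E' c hE'c hE'p eE'.symm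
        a b hE'v N hN i hi) n M (by rw [hn, Submodule.zero_eq_bot, Submodule.bot_smul])
  have hK : ∀ i : ℤ, b < i →
      IsZero ((DerivedCategory.homologyFunctor (ModuleCat.{u} R') i).obj K') := by
    intro i hi
    have h0 : IsZero (T.homology i) := (hvan (𝟙_ _) i (Or.inr hi)).of_iso
      ((HomologicalComplex.homologyFunctor _ _ i).mapIso ((tensUnitIso (R := R')).app T)).symm
    have h1 := h0.of_iso ((DerivedCategory.homologyFunctorFactors (ModuleCat.{u} R') i).app T)
    exact h1.of_iso ((DerivedCategory.homologyFunctor (ModuleCat.{u} R') i).mapIso eT.symm)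
  obtain ⟨P, hPb, hPp, ⟨eP⟩⟩ := exists_projRes_vanishesAbove K' b hK
  haveI : P.IsKProjective := isKProjective_of_vanishesAbove P b hPb hPp
  obtain ⟨he⟩ := nonempty_homotopyEquiv_of_Q_iso P T (eP ≪≫ eT.symm)
  refine hasTorAmplitudeIn_of_torVan ⟨P, b, hPb, hPp, ⟨eP⟩, fun M i hi => ?_⟩
  have h1 := (hvan M i hi).of_iso (((tensorRight M).mapHomotopyEquiv he).toHomologyIso i)
  exact h1.of_iso ((DerivedCategory.homologyFunctorFactors (ModuleCat.{u} R') i).app _)

include hφ in
/-- S6952 -/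
theorem hasTorAmplitudeIn_iff_of_nilpotent (hnil : IsNilpotent (RingHom.ker φ))
    [DRing.HasLBaseChange φ] (K' : Dual.D R') (a b : ℤ) :
    DRing.HasTorAmplitudeIn R a b ((DRing.LBaseChange φ).obj K') ↔
      DRing.HasTorAmplitudeIn R' a b K' :=
  ⟨hasTorAmplitudeIn_of_LBaseChange φ hφ hnil K' a b, hasTorAmplitudeIn_LBaseChange φ K' a b⟩

end Groth.Agent.Helper11.Dev
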