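import Groth.Agent.Lib.Helper11.Lift3

/-!
Lifting acyclic complexes modulo an ideal: assembling the complex (helper11).
-/

set_option autoImplicit false

open CategoryTheory TensorProduct

universe u

namespace Groth.Agent.Helper11.Lift

open Groth.Agent.Helper11.TA

variable {R : Type u} [CommRing R] {I : Ideal R}

section Bridge

/-- identity equivalence between the two `R`-module structures on `R ⧸ I` -/
noncomputable def e₁ :
    ((ModuleCat.restrictScalars.{u} (Ideal.Quotient.mk I)).obj (ModuleCat.of (R ⧸ I) (R ⧸ I)))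
      ≃ₗ[R] (R ⧸ I) :=
  { toFun := fun x => x
    invFun := fun x => x
    map_add' := fun _ _ => rfl
    map_smul' := fun r x => by
      show Ideal.Quotient.mk I r * (show R ⧸ I from x) = r • (show R ⧸ I from x)
      rw [Algebra.smul_def]
      rfl
    left_inv := fun _ => rfl
    right_inv := fun _ => rfl }

/-- comparison of the two tensor products -/
noncomputable def eT (M : ModuleCat.{u} R) :
    TensorProduct R ((ModuleCat.restrictScalars.{u} (Ideal.Quotient.mk I)).obj
      (ModuleCat.of (R ⧸ I) (R ⧸ I))) M ≃ₗ[R] (R ⧸ I) ⊗[R] M :=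
  TensorProduct.congr e₁ (LinearEquiv.refl R M)

set_option backward.isDefEq.respectTransparency false in
/-- extension of scalars along `R → R ⧸ I` is the tensor product -/
noncomputable def esEquiv (M : ModuleCat.{u} R) :
    ((es (Ideal.Quotient.mk I)).obj M) ≃ₗ[R ⧸ I] (R ⧸ I) ⊗[R] M where
  toFun := eT M
  invFun := (eT M).symm
  map_add' := (eT M).map_add
  map_smul' := fun c x => by
    induction x using TensorProduct.induction_on with
    | zero =>
      rw [smul_zero]
      exact ((eT (I := I) M).map_zero).trans (smul_zero _).symm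
    | tmul s m => rfl
    | add x y hx hy =>
      rw [smul_add]
      refine ((eT (I := I) M).map_add _ _).trans ?_
      rw [hx, hy]
      refine Eq.trans ?_ (congrArg _ ((eT (I := I) M).map_add _ _).symm)
      exact (smul_add _ _ _).symm
  left_inv := (eT M).left_inv
  right_inv := (eT M).right_inv

set_option backward.isDefEq.respectTransparency false in
theorem esEquiv_tmul (M : ModuleCat.{u} R) (s : R ⧸ I) (m : M) :
    esEquiv (I := I) M (s ⊗ₜ[R] m) = s ⊗ₜ[R] m := rfl

end Bridge

section Assemble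

variable (E : DRing.Cx (R ⧸ I)) (X : ℤ → ModuleCat.{u} R)
  (e : ∀ i, (R ⧸ I) ⊗[R] X i ≃ₗ[R ⧸ I] E.X i) (d : ∀ i, X i ⟶ X (i + 1))
  (sq : ∀ i, d i ≫ d (i + 1) = 0)

set_option backward.isDefEq.respectTransparency false in
/-- the reduction of a lift is isomorphic to the original complex -/
theorem nonempty_iso
    (hlift : ∀ i x, red (X (i + 1)) (E.X (i + 1)) (e (i + 1)) ((d i).hom x) =
      (E.d i (i + 1)).hom (red (X i) (E.X i) (e i) x)) :
    Nonempty ((esC (Ideal.Quotient.mk I)).obj (CochainComplex.of X d sq) ≅ E) := by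
  refine ⟨HomologicalComplex.Hom.isoOfComponents
    (fun i => ((esEquiv (I := I) (X i)).trans (e i)).toModuleIso) ?_⟩
  intro i j hij
  obtain rfl : i + 1 = j := hij
  apply ModuleCat.hom_ext
  apply LinearMap.ext
  intro x
  induction x using TensorProduct.induction_on with
  | zero => rw [map_zero, map_zero]
  | tmul s m =>
    show (E.d i (i + 1)).hom (e i (esEquiv (I := I) (X i) (s ⊗ₜ[R] m))) =
      e (i + 1) (esEquiv (I := I) (X (i + 1))
        (((es (Ideal.Quotient.mk I)).map ((CochainComplex.of X d sq).d i (i + 1))).hom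
          (s ⊗ₜ[R] m)))
    have h0 : (CochainComplex.of X d sq).d i (i + 1) = d i := CochainComplex.of_d X d i
    rw [h0, esEquiv_tmul]
    have h1 : ((es (Ideal.Quotient.mk I)).map (d i)).hom (s ⊗ₜ[R] m) = s ⊗ₜ[R] (d i).hom m := rfl
    rw [h1, esEquiv_tmul, e_tmul, e_tmul (X (i + 1)), map_smul]
    congr 1
    exact (hlift i m).symm
  | add x y hx hy => rw [map_add, map_add, hx, hy]

end Assemble

section Main

variable (Pc : ObjectProperty (ModuleCat.{u} R)) [Pc.IsClosedUnderIsomorphisms]

/-- lifting a bounded above acyclic complex modulo `I` -/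
theorem lift_acyclic
    (h1 : ∀ X : ModuleCat.{u} R, Pc X → Module.Projective R X)
    (h2 : ∀ X Y : ModuleCat.{u} R, Pc X → Pc (ModuleCat.of R (X × Y)) → Pc Y)
    (h3 : ∀ (X Y : ModuleCat.{u} R) (f : X ⟶ Y), Pc X → Pc Y →
      LinearMap.range f.hom ⊔ I • (⊤ : Submodule R Y) = ⊤ → Function.Surjective f.hom)
    (E : DRing.Cx (R ⧸ I)) (b : ℤ) (hEb : DRing.VanishesAbove E b) (hEa : E.Acyclic)
    (hEt : ∀ i : ℤ, ∃ X : ModuleCat.{u} R, Pc X ∧
      Nonempty (TensorProduct R (R ⧸ I) X ≃ₗ[R ⧸ I] E.X i)) :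
    ∃ (P : DRing.Cx R) (b' : ℤ), DRing.VanishesAbove P b' ∧ P.Acyclic ∧ (∀ i : ℤ, Pc (P.X i)) ∧
      Nonempty ((esC (Ideal.Quotient.mk I)).obj P ≅ E) := by
  choose X hX he using hEt
  obtain ⟨hsub, d, hsq, hex, hlift⟩ := exists_lift_d Pc h1 h2 h3 E b hEb hEa X hX
    (fun i => (he i).some)
  have sq : ∀ i, ModuleCat.ofHom (d i) ≫ ModuleCat.ofHom (d (i + 1)) = 0 := fun i => by
    ext x
    exact hsq i x
  refine ⟨CochainComplex.of X (fun i => ModuleCat.ofHom (d i)) sq, b, ?_, ?_, fun i => hX i,
    nonempty_iso E X (fun i => (he i).some) _ sq hlift⟩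
  · intro i hi
    haveI := hsub i hi
    exact ModuleCat.isZero_of_subsingleton (X i)
  · intro i
    obtain ⟨j, rfl⟩ : ∃ j, i = j + 1 := ⟨i - 1, by omega⟩
    apply exactAt_of_ker_le_range _ j (j + 1) (j + 1 + 1) rfl rfl
    have h0 : (CochainComplex.of X (fun i => ModuleCat.ofHom (d i)) sq).d j (j + 1) =
        ModuleCat.ofHom (d j) := CochainComplex.of_d X (fun i => ModuleCat.ofHom (d i)) j
    have h1 : (CochainComplex.of X (fun i => ModuleCat.ofHom (d i)) sq).d (j + 1) (j + 1 + 1) =
        ModuleCat.ofHom (d (j + 1)) := CochainComplex.of_d X (fun i => ModuleCat.ofHom (d i)) (j + 1)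
    rw [h0, h1]
    exact hex j

end Main

end Groth.Agent.Helper11.Lift
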