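import Groth.Agent.Lib.Helper11.Dev1
import Groth.Agent.Lib.Helper11.Lift4

/-!
Cohomology of derived tensor products / base change on K-projective representatives (helper11).
-/

set_option autoImplicit false

open CategoryTheory CategoryTheory.Limits MonoidalCategory

universe u

namespace Groth.Agent.Helper11.Dev

open Groth.Agent.Helper11.DC Groth.Agent.Helper11.TA Groth.Agent.Helper11.LDer

attribute [local instance] HasDerivedCategory.standard

variable {A B : Type u} [CommRing A] [CommRing B]

/-- cohomology of the derived tensor product computed on a K-projective representative -/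
noncomputable def homologyLTensorIso (M : ModuleCat.{u} A) [DRing.HasLTensor A M]
    (T : DRing.Cx A) [T.IsKProjective] (K : Dual.D A) (e : DerivedCategory.Q.obj T ≅ K) (i : ℤ) :
    (DerivedCategory.homologyFunctor (ModuleCat.{u} A) i).obj ((DRing.LTensor A M).obj K) ≅
      ((tens M).obj T).homology i :=
  (DerivedCategory.homologyFunctor (ModuleCat.{u} A) i).mapIso
      ((DRing.LTensor A M).mapIso e.symm ≪≫ LTensorIso M T) ≪≫
    (DerivedCategory.homologyFunctorFactors (ModuleCat.{u} A) i).app _

/-- cohomology of the derived base change computed on a K-projective representative -/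
noncomputable def homologyLBaseChangeIso (φ : A →+* B) [DRing.HasLBaseChange φ]
    (T : DRing.Cx A) [T.IsKProjective] (K : Dual.D A) (e : DerivedCategory.Q.obj T ≅ K) (i : ℤ) :
    (DerivedCategory.homologyFunctor (ModuleCat.{u} B) i).obj ((DRing.LBaseChange φ).obj K) ≅
      ((esC φ).obj T).homology i :=
  (DerivedCategory.homologyFunctor (ModuleCat.{u} B) i).mapIso
      ((DRing.LBaseChange φ).mapIso e.symm ≪≫ LBaseChangeIso φ T) ≪≫
    (DerivedCategory.homologyFunctorFactors (ModuleCat.{u} B) i).app _

theorem subsingleton_HD_LTensor_iff (M : ModuleCat.{u} A) [DRing.HasLTensor A M]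
    (T : DRing.Cx A) [T.IsKProjective] (K : Dual.D A) (e : DerivedCategory.Q.obj T ≅ K) (i : ℤ) :
    Subsingleton (Dual.HD A ((DRing.LTensor A M).obj K) i) ↔
      IsZero (((tens M).obj T).homology i) := by
  rw [← ModuleCat.isZero_iff_subsingleton]
  exact (homologyLTensorIso M T K e i).isZero_iff

theorem subsingleton_HD_LBaseChange_iff (φ : A →+* B) [DRing.HasLBaseChange φ]
    (T : DRing.Cx A) [T.IsKProjective] (K : Dual.D A) (e : DerivedCategory.Q.obj T ≅ K) (i : ℤ) :
    Subsingleton (Dual.HD B ((DRing.LBaseChange φ).obj K) i) ↔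
      IsZero (((esC φ).obj T).homology i) := by
  rw [← ModuleCat.isZero_iff_subsingleton]
  exact (homologyLBaseChangeIso φ T K e i).isZero_iff

/-- restriction of scalars on complexes -/
noncomputable abbrev rsC (φ : A →+* B) : DRing.Cx B ⥤ DRing.Cx A :=
  (ModuleCat.restrictScalars.{u} φ).mapHomologicalComplex (ComplexShape.up ℤ)

/-- `T ⊗_A B`, as a complex of `A`-modules, is the restriction of the base change -/
noncomputable def tensBmIso (φ : A →+* B) (T : DRing.Cx A) :
    (tens (Bm φ)).obj T ≅ (rsC φ).obj ((esC φ).obj T) :=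
  ((NatIso.mapHomologicalComplex (esRes φ ≪≫ BraidedCategory.tensorLeftIsoTensorRight (Bm φ))
    (ComplexShape.up ℤ)).app T).symm ≪≫
    HomologicalComplex.Hom.isoOfComponents (fun i => Iso.refl _) (fun i j _ => by
      simp only [Iso.refl_hom, Category.comp_id, Category.id_comp]
      rfl)

theorem isZero_restrictScalars_iff (φ : A →+* B) (X : ModuleCat.{u} B) :
    IsZero ((ModuleCat.restrictScalars.{u} φ).obj X) ↔ IsZero X := by
  rw [ModuleCat.isZero_iff_subsingleton, ModuleCat.isZero_iff_subsingleton]
  exact Iff.rfl

theorem isZero_homology_rsC_iff (φ : A →+* B) (E : DRing.Cx B) (i : ℤ) :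
    IsZero (((rsC φ).obj E).homology i) ↔ IsZero (E.homology i) := by
  rw [← isZero_restrictScalars_iff φ (E.homology i)]
  exact ((E.sc i).mapHomologyIso (ModuleCat.restrictScalars.{u} φ)).isZero_iff

theorem isZero_homology_tens_Bm_iff (φ : A →+* B) (T : DRing.Cx A) (i : ℤ) :
    IsZero (((tens (Bm φ)).obj T).homology i) ↔ IsZero (((esC φ).obj T).homology i) := by
  rw [← isZero_homology_rsC_iff φ]
  exact ((HomologicalComplex.homologyFunctor _ _ i).mapIso (tensBmIso φ T)).isZero_iff

/-- tensoring with the quotient module `A ⧸ I` computes the base change -/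
theorem isZero_homology_tens_quot_iff (I : Ideal A) (T : DRing.Cx A) (i : ℤ) :
    IsZero (((tens (ModuleCat.of A (A ⧸ I))).obj T).homology i) ↔
      IsZero (((esC (Ideal.Quotient.mk I)).obj T).homology i) := by
  rw [← isZero_homology_tens_Bm_iff]
  exact ((HomologicalComplex.homologyFunctor _ _ i).mapIso
    ((tensIso (Groth.Agent.Helper11.Lift.e₁ (I := I)).toModuleIso).app T)).symm.isZero_iff

end Groth.Agent.Helper11.Dev
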