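import Groth.Agent.Lib.Helper11.Dev2
import Mathlib.RingTheory.FiniteLength

/-!
Dévissage over finite length modules on a local ring (helper11).
-/

set_option autoImplicit false

open CategoryTheory CategoryTheory.Limits MonoidalCategory

universe u

namespace Groth.Agent.Helper11.Dev

open Groth.Agent.Helper11.DC Groth.Agent.Helper11.TA Groth.Agent.Helper11.LDer

attribute [local instance] HasDerivedCategory.standard

variable {A : Type u} [CommRing A]

theorem isZero_homology_of_isZero_X (C : DRing.Cx A) (i : ℤ) (h : IsZero (C.X i)) :
    IsZero (C.homology i) := by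
  rw [← HomologicalComplex.exactAt_iff_isZero_homology]
  exact ShortComplex.exact_of_isZero_X₂ _ h

theorem isZero_homology_tens_of_subsingleton (T : DRing.Cx A) (N : ModuleCat.{u} A)
    [Subsingleton N] (i : ℤ) : IsZero (((tens N).obj T).homology i) := by
  apply isZero_homology_of_isZero_X
  rw [ModuleCat.isZero_iff_subsingleton]
  refine ⟨fun x y => ?_⟩
  have h0 : ∀ z : TensorProduct A (T.X i) N, z = 0 := fun z => by
    induction z using TensorProduct.induction_on with
    | zero => rfl
    | tmul a n => rw [Subsingleton.elim n 0, TensorProduct.tmul_zero]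
    | add a b ha hb => rw [ha, hb, add_zero]
  exact (h0 x).trans (h0 y).symm

/-- dévissage over a local ring: vanishing of `H^i(T ⊗ κ)` gives vanishing of `H^i(T ⊗ N)` for
`N` of finite length -/
theorem isZero_homology_tens_of_finiteLength [IsLocalRing A] (T : DRing.Cx A)
    (hT : ∀ i, Module.Flat A (T.X i)) (i : ℤ)
    (hκ : IsZero (((esC (Ideal.Quotient.mk (IsLocalRing.maximalIdeal A))).obj T).homology i))
    (N : Type u) [AddCommGroup N] [Module A N] (hN : IsFiniteLength A N) :
    IsZero (((tens (ModuleCat.of A N)).obj T).homology i) := by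
  induction hN with
  | of_subsingleton => exact isZero_homology_tens_of_subsingleton T _ i
  | @of_simple_quotient M _ _ N' hs _ ih =>
    obtain ⟨J, hJ, ⟨eJ⟩⟩ := isSimpleModule_iff_quot_maximal.mp hs
    have hJm : J = IsLocalRing.maximalIdeal A := IsLocalRing.eq_maximalIdeal hJ
    subst hJm
    have h3 : IsZero (((tens (ModuleCat.of A (M ⧸ N'))).obj T).homology i) := by
      have h := (isZero_homology_tens_quot_iff (IsLocalRing.maximalIdeal A) T i).mpr hκ
      exact ((HomologicalComplex.homologyFunctor _ _ i).mapIso
        ((tensIso eJ.toModuleIso).app T)).isZero_iff.mpr h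
    exact isZero_homology_tens_of_ses T hT (ModuleCat.ofHom N'.subtype)
      (ModuleCat.ofHom N'.mkQ) N'.injective_subtype N'.mkQ_surjective
      (LinearMap.exact_subtype_mkQ N') i ih h3

end Groth.Agent.Helper11.Dev
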