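import Groth.Agent.Lib.Helper11.Dev4
import Mathlib.LinearAlgebra.TensorProduct.Quotient

/-!
Lemma BC: cohomology of `T ⊗ N` for `N` killed by `I` is controlled by the base change of `T`
to `R ⧸ I` (helper11).
-/

set_option autoImplicit false

open CategoryTheory CategoryTheory.Limits MonoidalCategory

universe u

namespace Groth.Agent.Helper11.Dev

open Groth.Agent.Helper11.DC Groth.Agent.Helper11.TA Groth.Agent.Helper11.LDer

attribute [local instance] HasDerivedCategory.standard

variable {R : Type u} [CommRing R] (I : Ideal R)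

/-- `(R ⧸ I) ⊗ N ≅ N` when `I` kills `N` -/
noncomputable def BmTensorIso (N : ModuleCat.{u} R) (hN : I • (⊤ : Submodule R N) = ⊥) :
    (Bm (Ideal.Quotient.mk I)) ⊗ N ≅ N :=
  ((TensorProduct.congr (Groth.Agent.Helper11.Lift.e₁ (I := I)) (LinearEquiv.refl R N)) ≪≫ₗ
    (TensorProduct.quotTensorEquivQuotSMul N I) ≪≫ₗ
    (Submodule.quotEquivOfEqBot _ hN)).toModuleIso

/-- Lemma BC -/
theorem isZero_homology_tens_of_killed (T : DRing.Cx R) [T.IsKProjective]
    (E' : DRing.Cx (R ⧸ I)) (b : ℤ) (hE'b : DRing.VanishesAbove E' b)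
    (hE'p : ∀ i, Module.Projective (R ⧸ I) (E'.X i))
    (e : DerivedCategory.Q.obj ((esC (Ideal.Quotient.mk I)).obj T) ≅ DerivedCategory.Q.obj E')
    (N : ModuleCat.{u} R) (hN : I • (⊤ : Submodule R N) = ⊥) (i : ℤ) (hi : b < i) :
    IsZero (((tens N).obj T).homology i) := by
  haveI := isKProjective_esC (Ideal.Quotient.mk I) T
  haveI : E'.IsKProjective := isKProjective_of_vanishesAbove E' b hE'b hE'p
  obtain ⟨he⟩ := nonempty_homotopyEquiv_of_Q_iso _ _ e
  have he1 := (ModuleCat.restrictScalars.{u} (Ideal.Quotient.mk I)).mapHomotopyEquiv he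
  have he2 := (tensorRight N).mapHomotopyEquiv he1
  have hz : IsZero (((tens N).obj ((rsC (Ideal.Quotient.mk I)).obj E')).homology i) :=
    isZero_homology_of_isZero_X _ i (tens_isZero N _ i
      ((isZero_restrictScalars_iff (Ideal.Quotient.mk I) (E'.X i)).mpr (hE'b i hi)))
  have h1 : IsZero (((tens N).obj ((rsC (Ideal.Quotient.mk I)).obj
      ((esC (Ideal.Quotient.mk I)).obj T))).homology i) := hz.of_iso (he2.toHomologyIso i)
  let ι1 : (tens N).obj ((rsC (Ideal.Quotient.mk I)).obj ((esC (Ideal.Quotient.mk I)).obj T)) ≅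
      (tens N).obj ((tens (Bm (Ideal.Quotient.mk I))).obj T) :=
    (tens N).mapIso (tensBmIso (Ideal.Quotient.mk I) T).symm
  let ι2 : (tens N).obj ((tens (Bm (Ideal.Quotient.mk I))).obj T) ≅
      (tens (Bm (Ideal.Quotient.mk I) ⊗ N)).obj T :=
    (Functor.mapHomologicalComplexCompIso
      (tensorRightTensor (Bm (Ideal.Quotient.mk I)) N).symm (ComplexShape.up ℤ)).app T
  let ι3 : (tens (Bm (Ideal.Quotient.mk I) ⊗ N)).obj T ≅ (tens N).obj T :=
    (tensIso (BmTensorIso I N hN)).app T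
  exact h1.of_iso ((HomologicalComplex.homologyFunctor _ _ i).mapIso (ι1 ≪≫ ι2 ≪≫ ι3).symm)

end Groth.Agent.Helper11.Dev
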