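/-
The Eilenberg swindle and consequences for projective modules (helper11).
-/
import Mathlib.LinearAlgebra.Finsupp.SumProd
import Mathlib.LinearAlgebra.Finsupp.Pi
import Mathlib.LinearAlgebra.Finsupp.LSum
import Mathlib.LinearAlgebra.Finsupp.LinearCombination
import Mathlib.LinearAlgebra.Finsupp.VectorSpace
import Mathlib.Algebra.Module.Projective
import Mathlib.LinearAlgebra.FreeModule.Basic
import Mathlib.LinearAlgebra.Prod
import Mathlib.SetTheory.Cardinal.Arithmetic
import Mathlib.LinearAlgebra.StdBasis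
import Mathlib.RingTheory.Finiteness.Basic

set_option autoImplicit false

namespace Groth.Agent.Helper11

universe u v w

variable {R : Type u} [CommRing R]

/-- Splitting a surjection with a section. -/
def equivProdKerOfSection {M : Type v} {N : Type w} [AddCommGroup M] [Module R M]
    [AddCommGroup N] [Module R N] (f : M →ₗ[R] N) (s : N →ₗ[R] M)
    (h : f ∘ₗ s = LinearMap.id) : (N × LinearMap.ker f) ≃ₗ[R] M :=
  LinearEquiv.ofLinear
    (LinearMap.coprod s (LinearMap.ker f).subtype)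
    (LinearMap.prod f (LinearMap.codRestrict (LinearMap.ker f) (LinearMap.id - s ∘ₗ f) (by
      intro m
      have h1 : f (s (f m)) = f m := LinearMap.congr_fun h (f m)
      simp [LinearMap.mem_ker, h1])))
    (by
      ext m
      simp)
    (by
      have h1 : ∀ n, f (s n) = n := fun n => LinearMap.congr_fun h n
      apply LinearMap.ext
      rintro ⟨n, ⟨k, hk⟩⟩
      have hk' : f k = 0 := hk
      ext
      · simp [h1, hk']
      · simp [h1, hk'])

/-- Finitely supported functions into a product. -/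
noncomputable def finsuppProdCodLEquiv (α : Type*) (P Q : Type*) [AddCommMonoid P] [Module R P]
    [AddCommMonoid Q] [Module R Q] : (α →₀ P × Q) ≃ₗ[R] (α →₀ P) × (α →₀ Q) :=
  LinearEquiv.ofLinear
    (LinearMap.prod (Finsupp.mapRange.linearMap (LinearMap.fst R P Q))
      (Finsupp.mapRange.linearMap (LinearMap.snd R P Q)))
    (LinearMap.coprod (Finsupp.mapRange.linearMap (LinearMap.inl R P Q))
      (Finsupp.mapRange.linearMap (LinearMap.inr R P Q)))
    (by
      apply LinearMap.ext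
      rintro ⟨f, g⟩
      ext a <;> simp)
    (by
      apply LinearMap.ext
      intro f
      ext a <;> simp)

/-- `ℕ →₀ P ≃ P × (ℕ →₀ P)`. -/
noncomputable def finsuppNatShift (P : Type*) [AddCommMonoid P] [Module R P] :
    (ℕ →₀ P) ≃ₗ[R] P × (ℕ →₀ P) :=
  Finsupp.domLCongr ((Equiv.sumComm PUnit.{1} ℕ).trans Equiv.natSumPUnitEquivNat).symm ≪≫ₗ
    Finsupp.sumFinsuppLEquivProdFinsupp R ≪≫ₗ
    LinearEquiv.prodCongr (Finsupp.LinearEquiv.finsuppUnique R P PUnit.{1}) (LinearEquiv.refl R _)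

/-- The Eilenberg swindle. -/
theorem swindle {P Q F₀ : Type*} [AddCommMonoid P] [Module R P] [AddCommMonoid Q] [Module R Q]
    [AddCommMonoid F₀] [Module R F₀] (e : (P × Q) ≃ₗ[R] F₀) :
    Nonempty ((P × (ℕ →₀ F₀)) ≃ₗ[R] (ℕ →₀ F₀)) := by
  let a : (ℕ →₀ F₀) ≃ₗ[R] (ℕ →₀ P) × (ℕ →₀ Q) :=
    Finsupp.mapRange.linearEquiv e.symm ≪≫ₗ finsuppProdCodLEquiv ℕ P Q
  exact ⟨LinearEquiv.prodCongr (LinearEquiv.refl R P) a ≪≫ₗ
    (LinearEquiv.prodAssoc R P (ℕ →₀ P) (ℕ →₀ Q)).symm ≪≫ₗ
    LinearEquiv.prodCongr (finsuppNatShift P).symm (LinearEquiv.refl R _) ≪≫ₗ a.symm⟩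

theorem nonempty_equiv_nat_prod (ι : Type u) [Infinite ι] : Nonempty (ι ≃ ℕ × ι) := by
  apply Cardinal.eq.mp
  rw [Cardinal.mk_prod, Cardinal.mk_nat, Cardinal.lift_aleph0, Cardinal.lift_uzero,
    Cardinal.aleph0_mul_eq (Cardinal.aleph0_le_mk ι)]

/-- S7107-style swindle: `P ⊕ Q ≅ F` free on an infinite basis implies `P ⊕ F ≅ F`. -/
theorem swindle_infinite (P Q : Type*) [AddCommMonoid P] [Module R P]
    [AddCommMonoid Q] [Module R Q] (ι : Type*) [Infinite ι] (e : (P × Q) ≃ₗ[R] (ι →₀ R)) :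
    Nonempty ((P × (ι →₀ R)) ≃ₗ[R] (ι →₀ R)) := by
  obtain ⟨σ⟩ := nonempty_equiv_nat_prod ι
  let b : (ι →₀ R) ≃ₗ[R] (ℕ →₀ ι →₀ R) :=
    Finsupp.domLCongr σ ≪≫ₗ Finsupp.curryLinearEquiv R
  obtain ⟨c⟩ := swindle e
  exact ⟨LinearEquiv.prodCongr (LinearEquiv.refl R P) b ≪≫ₗ c ≪≫ₗ b.symm⟩

/-- A projective module becomes free after adding a free module. -/
theorem exists_free_prod_of_projective (P : Type u) [AddCommGroup P] [Module R P]
    [Module.Projective R P] : ∃ ι : Type u, Module.Free R (P × (ι →₀ R)) := by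
  obtain ⟨s, hs⟩ := Module.projective_def'.mp (inferInstance : Module.Projective R P)
  let e := equivProdKerOfSection (Finsupp.linearCombination R (id : P → P)) s hs
  obtain ⟨c⟩ := swindle e
  refine ⟨ℕ × P, ?_⟩
  let b : (ℕ × P →₀ R) ≃ₗ[R] (ℕ →₀ P →₀ R) := Finsupp.curryLinearEquiv R
  exact Module.Free.of_equiv
    (LinearEquiv.prodCongr (LinearEquiv.refl R P) b ≪≫ₗ c ≪≫ₗ b.symm).symm

end Groth.Agent.Helper11

namespace Groth.Agent.Helper11

universe u

variable {R : Type u} [CommRing R]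

theorem isCompl_range_ker_of_comp_eq_id {M N : Type*} [AddCommGroup M] [Module R M]
    [AddCommGroup N] [Module R N] (ψ : M →ₗ[R] N) (r : N →ₗ[R] M)
    (h : r ∘ₗ ψ = LinearMap.id) : IsCompl (LinearMap.range ψ) (LinearMap.ker r) := by
  have h1 : ∀ x, r (ψ x) = x := fun x => LinearMap.congr_fun h x
  constructor
  · rw [Submodule.disjoint_def]
    rintro _ ⟨y, rfl⟩ hy
    rw [LinearMap.mem_ker, h1] at hy
    rw [hy, map_zero]
  · rw [Submodule.codisjoint_iff_exists_add_eq]
    intro z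
    refine ⟨ψ (r z), z - ψ (r z), ⟨r z, rfl⟩, ?_, by abel⟩
    rw [LinearMap.mem_ker, map_sub, h1, sub_self]

/-- Local dual basis: a projective module element is hit through a finite free module. -/
theorem exists_fin_maps_of_projective (P : Type*) [AddCommGroup P] [Module R P]
    [Module.Projective R P] (s : P) :
    ∃ (n : ℕ) (g : (Fin n → R) →ₗ[R] P) (h : P →ₗ[R] (Fin n → R)), g (h s) = s := by
  classical
  obtain ⟨σ, hσ⟩ := Module.projective_def'.mp (inferInstance : Module.Projective R P)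
  have hσ' : ∀ p, Finsupp.linearCombination R (id : P → P) (σ p) = p :=
    fun p => LinearMap.congr_fun hσ p
  let T := (σ s).support
  let enum : Fin T.card ≃ T := T.equivFin.symm
  refine ⟨T.card, Fintype.linearCombination R (fun i => ((enum i : T) : P)),
    LinearMap.pi (fun i => (Finsupp.lapply ((enum i : T) : P)) ∘ₗ σ), ?_⟩
  rw [Fintype.linearCombination_apply]
  simp only [LinearMap.pi_apply, LinearMap.coe_comp, Function.comp_apply, Finsupp.lapply_apply]
  rw [Equiv.sum_comp enum (fun t : T => (σ s) (t : P) • (t : P)),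
    Finset.sum_coe_sort T (fun t => (σ s) t • t)]
  conv_rhs => rw [← hσ' s]
  rw [Finsupp.linearCombination_apply, Finsupp.sum]
  rfl

theorem exists_finite_free_summand_containing (P : Type*) [AddCommGroup P] [Module R P]
    [Module.Projective R P] (s : P) :
    ∃ (n : ℕ) (K K' : Submodule R ((Fin n → R) × P)), IsCompl K K' ∧ Module.Free R K ∧
      Module.Finite R K ∧ ((0, s) : (Fin n → R) × P) ∈ K := by
  obtain ⟨n, g, h, hgh⟩ := exists_fin_maps_of_projective (R := R) P s
  let ψ : (Fin n → R) →ₗ[R] (Fin n → R) × P := LinearMap.prod (LinearMap.id - h ∘ₗ g) g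
  let r : (Fin n → R) × P →ₗ[R] (Fin n → R) := LinearMap.coprod LinearMap.id h
  have hrψ : r ∘ₗ ψ = LinearMap.id := by
    ext x i
    simp [ψ, r]
  have hinj : Function.Injective ψ := by
    intro x y hxy
    have := congrArg r hxy
    rwa [← LinearMap.comp_apply, ← LinearMap.comp_apply, hrψ] at this
  let e : (Fin n → R) ≃ₗ[R] LinearMap.range ψ := LinearEquiv.ofInjective ψ hinj
  refine ⟨n, LinearMap.range ψ, LinearMap.ker r, isCompl_range_ker_of_comp_eq_id ψ r hrψ,
    Module.Free.of_equiv e, Module.Finite.equiv e, ⟨h s, ?_⟩⟩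
  show (((LinearMap.id : (Fin n → R) →ₗ[R] (Fin n → R)) - h ∘ₗ g) (h s), g (h s)) = (0, s)
  simp only [LinearMap.sub_apply, LinearMap.id_coe, id_eq,
    LinearMap.coe_comp, Function.comp_apply, hgh, sub_self]

end Groth.Agent.Helper11
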