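import Groth.Agent.Lib.Helper11.Lift9
import Groth.Agent.Lib.Helper11.Swindle
import Mathlib.LinearAlgebra.DirectSum.Finsupp

/-!
Lifting projective modules modulo a nilpotent ideal (helper11).
-/

set_option autoImplicit false

open CategoryTheory CategoryTheory.Limits TensorProduct

universe u

namespace Groth.Agent.Helper11.Lift

variable {R : Type u} [CommRing R] {I : Ideal R}

/-- Nakayama for nilpotent ideals -/
theorem surjective_of_nilpotent (hI : IsNilpotent I) {A B : Type*}
    [AddCommGroup A] [Module R A] [AddCommGroup B] [Module R B]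
    (f : A →ₗ[R] B) (h : LinearMap.range f ⊔ I • (⊤ : Submodule R B) = ⊤) :
    Function.Surjective f := by
  have key : ∀ k : ℕ, LinearMap.range f ⊔ I ^ k • (⊤ : Submodule R B) = ⊤ := by
    intro k
    induction k with
    | zero => rw [pow_zero, Ideal.one_eq_top, Submodule.top_smul, sup_top_eq]
    | succ k ih =>
      have h2 : I ^ k • (⊤ : Submodule R B) ≤
          LinearMap.range f ⊔ I ^ (k + 1) • (⊤ : Submodule R B) :=
        calc I ^ k • (⊤ : Submodule R B)
            = I ^ k • (LinearMap.range f ⊔ I • (⊤ : Submodule R B)) := by rw [h]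
          _ = I ^ k • LinearMap.range f ⊔ I ^ k • (I • (⊤ : Submodule R B)) :=
              Submodule.smul_sup _ _ _
          _ ≤ LinearMap.range f ⊔ I ^ (k + 1) • (⊤ : Submodule R B) :=
              sup_le_sup Submodule.smul_le_right (by rw [← Submodule.mul_smul, ← pow_succ])
      apply eq_top_iff.mpr
      calc (⊤ : Submodule R B) = LinearMap.range f ⊔ I ^ k • (⊤ : Submodule R B) := ih.symm
        _ ≤ _ := sup_le le_sup_left h2
  obtain ⟨n, hn⟩ := hI
  have h1 := key n
  rw [hn, Submodule.zero_eq_bot, Submodule.bot_smul, sup_bot_eq] at h1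
  exact LinearMap.range_eq_top.mp h1

/-- lifting free modules -/
theorem exists_free_lift' (L : ModuleCat.{u} (R ⧸ I)) [Module.Free (R ⧸ I) L] :
    ∃ F : ModuleCat.{u} R, Module.Free R F ∧ Nonempty ((R ⧸ I) ⊗[R] F ≃ₗ[R ⧸ I] L) := by
  classical
  let ι := Module.Free.ChooseBasisIndex (R ⧸ I) L
  refine ⟨ModuleCat.of R (ι →₀ R), inferInstanceAs (Module.Free R (ι →₀ R)), ⟨?_⟩⟩
  exact (TensorProduct.finsuppScalarRight R (R ⧸ I) (R ⧸ I) ι) ≪≫ₗ
    (Module.Free.chooseBasis (R ⧸ I) L).repr.symm

/-- lifting projective modules modulo a nilpotent ideal -/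
theorem exists_projective_lift (hI : IsNilpotent I)
    (M : ModuleCat.{u} (R ⧸ I)) [Module.Projective (R ⧸ I) M] :
    ∃ X : ModuleCat.{u} R, Module.Projective R X ∧
      Nonempty ((R ⧸ I) ⊗[R] X ≃ₗ[R ⧸ I] M) := by
  obtain ⟨ι, hfree⟩ := Groth.Agent.Helper11.exists_free_prod_of_projective (R := R ⧸ I) M
  let N : Type u := ι →₀ (R ⧸ I)
  let L : ModuleCat.{u} (R ⧸ I) := ModuleCat.of (R ⧸ I) (M × N)
  haveI : Module.Free (R ⧸ I) L := hfree
  haveI : Module.Free (R ⧸ I) (ModuleCat.of (R ⧸ I) N) :=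
    inferInstanceAs (Module.Free (R ⧸ I) (ι →₀ (R ⧸ I)))
  obtain ⟨F, hFfree, ⟨eF⟩⟩ := exists_free_lift' (I := I) L
  obtain ⟨G, hGfree, ⟨eG⟩⟩ := exists_free_lift' (I := I) (ModuleCat.of (R ⧸ I) N)
  let ρF : F →ₗ[R] rs I L := red F L eF
  let ρG : G →ₗ[R] rs I (ModuleCat.of (R ⧸ I) N) := red G (ModuleCat.of (R ⧸ I) N) eG
  let sndR : rs I L →ₗ[R] rs I (ModuleCat.of (R ⧸ I) N) :=
    rsm (ModuleCat.ofHom (LinearMap.snd (R ⧸ I) M N))
  let fstR : rs I L →ₗ[R] rs I M := rsm (ModuleCat.ofHom (LinearMap.fst (R ⧸ I) M N))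
  have hρFs : Function.Surjective ρF := red_surjective F L eF
  have hρGs : Function.Surjective ρG := red_surjective G _ eG
  have hρFk : LinearMap.ker ρF = I • ⊤ := ker_red F L eF
  have hρGk : LinearMap.ker ρG = I • ⊤ := ker_red G _ eG
  obtain ⟨p, hp⟩ := Module.projective_lifting_property ρG (sndR ∘ₗ ρF) hρGs
  have hp' : ∀ f, ρG (p f) = sndR (ρF f) := fun f => congr($hp f)
  have hps : Function.Surjective p := by
    apply surjective_of_nilpotent hI
    rw [eq_top_iff]
    intro g _
    obtain ⟨f, hf⟩ := hρFs (show rs I L from ((0 : M), (show N from ρG g)))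
    have h1 : g - p f ∈ I • (⊤ : Submodule R G) := by
      rw [← hρGk, LinearMap.mem_ker, map_sub, hp', hf]
      exact sub_self _
    have h2 : g = p f + (g - p f) := by abel
    rw [h2]
    exact Submodule.add_mem_sup ⟨f, rfl⟩ h1
  obtain ⟨s, hs⟩ := Module.projective_lifting_property p LinearMap.id hps
  have hs' : ∀ g, p (s g) = g := fun g => congr($hs g)
  let π : F →ₗ[R] LinearMap.ker p := LinearMap.codRestrict (LinearMap.ker p)
    (LinearMap.id - s ∘ₗ p) (fun f => by
      rw [LinearMap.mem_ker]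
      show p (f - s (p f)) = 0
      rw [map_sub, hs', sub_self])
  have hπ : ∀ x : LinearMap.ker p, π x.1 = x := fun x => by
    apply Subtype.ext
    show x.1 - s (p x.1) = x.1
    rw [LinearMap.mem_ker.mp x.2, map_zero, sub_zero]
  haveI : Module.Projective R (LinearMap.ker p) :=
    Module.Projective.of_split (LinearMap.ker p).subtype π (by
      ext x
      exact congrArg Subtype.val (hπ x))
  let X : ModuleCat.{u} R := ModuleCat.of R (LinearMap.ker p)
  let ρ : X →ₗ[R] rs I M := fstR ∘ₗ ρF ∘ₗ (LinearMap.ker p).subtype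
  have hρs : Function.Surjective ρ := by
    intro μ
    obtain ⟨f, hf⟩ := hρFs (show rs I L from ((show M from μ), (0 : N)))
    have h1 : p f ∈ I • (⊤ : Submodule R G) := by
      rw [← hρGk, LinearMap.mem_ker, hp', hf]
      rfl
    obtain ⟨f', hf', hpf'⟩ := exists_of_mem_smul_top I p hps h1
    have h2 : ρF f' = 0 := by
      rw [← LinearMap.mem_ker, hρFk]
      exact hf'
    refine ⟨⟨f - f', by rw [LinearMap.mem_ker, map_sub, hpf', sub_self]⟩, ?_⟩
    show fstR (ρF (f - f')) = μ
    rw [map_sub, h2, sub_zero, hf]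
    rfl
  have hρk : LinearMap.ker ρ = I • (⊤ : Submodule R X) := by
    apply le_antisymm
    · intro x hx
      have h1 : fstR (ρF x.1) = 0 := hx
      have h2 : sndR (ρF x.1) = 0 := by
        rw [← hp', LinearMap.mem_ker.mp x.2, map_zero]
      have h3 : ρF x.1 = 0 := Prod.ext h1 h2
      have h4 : x.1 ∈ I • (⊤ : Submodule R F) := by
        rw [← hρFk, LinearMap.mem_ker]
        exact h3
      have h5 := map_mem_smul_top I π h4
      rw [hπ] at h5
      exact h5
    · intro x hx
      have := map_mem_smul_top I ρ hx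
      rw [smul_top_rs, Submodule.mem_bot] at this
      exact this
  exact ⟨X, inferInstanceAs (Module.Projective R (LinearMap.ker p)),
    ⟨equivOfRed X M ρ hρs hρk⟩⟩

end Groth.Agent.Helper11.Lift
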