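import Groth.Agent.Lib.Helper11.TorAmp4
import Mathlib.Algebra.Homology.Embedding.CochainComplex

/-!
# Tor-vanishing implies a flat representative (canonical truncation), flat cokernels
-/

set_option autoImplicit false
universe u

open CategoryTheory Limits DerivedCategory Pretriangulated MonoidalCategory

attribute [local instance] HasDerivedCategory.standard

namespace Groth.Agent.Helper11.TA

variable {R : Type u} [CommRing R]

open Groth.Agent.Helper11.DC

/-- `- ⊗ R` is the identity on complexes. -/
noncomputable def tensUnitIso : tens (𝟙_ (ModuleCat.{u} R)) ≅ 𝟭 (DRing.Cx R) :=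
  NatIso.mapHomologicalComplex (rightUnitorNatIso _) _ ≪≫
    Functor.mapHomologicalComplexIdIso _ _

theorem isZero_homology_of_torVanCx {a b : ℤ} (F : DRing.Cx R) (h : TorVanCx a b F) (i : ℤ)
    (hi : i < a ∨ b < i) : IsZero ((homologyFunctor (ModuleCat.{u} R) i).obj (Q.obj F)) :=
  IsZero.of_iso (h (𝟙_ _) i hi)
    ((homologyFunctor (ModuleCat.{u} R) i).mapIso (Q.mapIso (tensUnitIso.app F).symm))

/-- the flat cokernel statement. -/
theorem flat_coker_of_torVanCx {a b : ℤ} (F : DRing.Cx R) (hFf : ∀ i, Module.Flat R (F.X i))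
    (h : TorVanCx a b F) : Module.Flat R (F.X a ⧸ LinearMap.range (F.d (a - 1) a).hom) := by
  haveI := hFf a
  refine flat_coker_of_exact (F.d (a - 2) (a - 1)).hom (F.d (a - 1) a).hom ?_ ?_
  · ext x
    exact congr($(F.d_comp_d (a - 2) (a - 1) a) x)
  · intro A _ _
    have hex := exactAt_of_homology_isZero ((tens (ModuleCat.of R A)).obj F) (a - 1)
      (h _ (a - 1) (Or.inl (by omega)))
    have := range_eq_ker_of_exactAt ((tens (ModuleCat.of R A)).obj F) (a - 2) (a - 1) a
      (by omega) (by omega) hex
    rw [tens_d_hom, tens_d_hom] at this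
    exact this.ge

noncomputable def truncGEXIsoQuot (F : DRing.Cx R) (a : ℤ) :
    (CochainComplex.truncGE F a).X a ≅
      ModuleCat.of R (F.X a ⧸ LinearMap.range (F.d (a - 1) a).hom) :=
  CochainComplex.truncGEXIsoOpcycles F a ≪≫
    F.opcyclesIsoSc' (a - 1) a (a + 1) (by simp) (by simp) ≪≫
    (F.sc' (a - 1) a (a + 1)).moduleCatOpcyclesIso

/-- (L4) Tor-vanishing implies flat-representative tor amplitude. -/
theorem hasTorAmplitudeIn_of_torVan {a b : ℤ} {K : Dual.D R} (h : TorVan a b K) :
    DRing.HasTorAmplitudeIn R a b K := by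
  obtain ⟨P, c, hc, hp, ⟨e⟩, hv⟩ := h
  have hH : ∀ i : ℤ, b < i → IsZero ((homologyFunctor (ModuleCat.{u} R) i).obj (Q.obj P)) :=
    fun i hi => isZero_homology_of_torVanCx P hv i (Or.inr hi)
  obtain ⟨P', π, hπ, hP'z, -⟩ := trim_to (c - b).toNat P b c (by omega) hc hp hH
  have hP'p : ∀ i, Module.Projective R (P'.X i) := fun i => hπ.projective i (hp i)
  have hP'f : ∀ i, Module.Flat R (P'.X i) := fun i => by
    haveI := hP'p i
    infer_instance
  haveI : IsIso (Q.map π) := hπ.iso
  have e' : Q.obj P ≅ Q.obj P' := asIso (Q.map π)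
  have hv' : TorVanCx a b P' := (torVanCx_iff a b P P' c b hc hP'z hp hP'f e').mp hv
  have hGE : P'.IsGE a := by
    rw [CochainComplex.isGE_iff]
    intro i hi
    exact exactAt_of_homology_isZero P' i (isZero_homology_of_torVanCx P' hv' i (Or.inl hi))
  haveI : QuasiIso (CochainComplex.πTruncGE P' a) :=
    (CochainComplex.quasiIso_πTruncGE_iff P' a).mpr hGE
  haveI : IsIso (Q.map (CochainComplex.πTruncGE P' a)) := by
    rw [isIso_Q_map_iff_quasiIso]
    infer_instance
  have hquot : Module.Flat R (P'.X a ⧸ LinearMap.range (P'.d (a - 1) a).hom) :=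
    flat_coker_of_torVanCx P' hP'f hv'
  refine ⟨CochainComplex.truncGE P' a, ?_, ?_,
    ⟨(asIso (Q.map (CochainComplex.πTruncGE P' a))).symm ≪≫ e'.symm ≪≫ e⟩⟩
  · intro i hi
    by_cases hia : i < a
    · exact CochainComplex.isZero_of_isStrictlyGE _ a i hia
    · have hbi : b < i := by omega
      by_cases hia' : a < i
      · exact IsZero.of_iso (hP'z i hbi) (CochainComplex.truncGEXIso P' a i hia')
      · obtain rfl : i = a := by omega
        refine IsZero.of_iso ?_ (truncGEXIsoQuot P' i)
        haveI : Subsingleton (P'.X i) := ModuleCat.subsingleton_of_isZero (hP'z i hbi)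
        haveI : Subsingleton (P'.X i ⧸ LinearMap.range (P'.d (i - 1) i).hom) :=
          Quotient.instSubsingletonQuotient _
        exact ModuleCat.isZero_of_subsingleton _
  · intro i
    by_cases hia : i < a
    · have hz : IsZero ((CochainComplex.truncGE P' a).X i) :=
        CochainComplex.isZero_of_isStrictlyGE _ a i hia
      haveI : Subsingleton ((CochainComplex.truncGE P' a).X i) :=
        ModuleCat.subsingleton_of_isZero hz
      infer_instance
    · by_cases hia' : a < i
      · haveI := hP'f i
        exact Module.Flat.of_linearEquiv (CochainComplex.truncGEXIso P' a i hia').toLinearEquiv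
      · obtain rfl : i = a := by omega
        haveI := hquot
        exact Module.Flat.of_linearEquiv (truncGEXIsoQuot P' i).toLinearEquiv

theorem hasTorAmplitudeIn_iff_torVan {a b : ℤ} {K : Dual.D R} :
    DRing.HasTorAmplitudeIn R a b K ↔ TorVan a b K :=
  ⟨torVan_of_hasTorAmplitudeIn, hasTorAmplitudeIn_of_torVan⟩

end Groth.Agent.Helper11.TA
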