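import Groth.Agent.Lib.Helper11.Dev6
import Groth.Agent.Lib.Helper11.Lift10
import Groth.Agent.Lib.Helper11.TorAmp5

/-!
Lifting projective representatives along a nilpotent ideal, for arbitrary objects (helper11).
-/

set_option autoImplicit false

open CategoryTheory CategoryTheory.Limits MonoidalCategory

universe u

namespace Groth.Agent.Helper11.Dev

open Groth.Agent.Helper11.DC Groth.Agent.Helper11.TA Groth.Agent.Helper11.LDer
  Groth.Agent.Helper11.PRT

attribute [local instance] HasDerivedCategory.standard

variable {R : Type u} [CommRing R]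

/-- the class of projective modules -/
def projProp : ObjectProperty (ModuleCat.{u} R) := fun X => Module.Projective R X

instance : (projProp (R := R)).IsClosedUnderIsomorphisms where
  of_iso {X Y} e (_hX : Module.Projective R X) :=
    (Module.Projective.of_equiv e.toLinearEquiv : Module.Projective R Y)

theorem projProp_prod_iff (X Y : ModuleCat.{u} R) (hX : projProp X) :
    projProp (ModuleCat.of R (X × Y)) ↔ projProp Y := by
  haveI : Module.Projective R X := hX
  constructor
  · intro (h : Module.Projective R (X × Y))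
    exact (Module.Projective.of_split (LinearMap.inr R X Y) (LinearMap.snd R X Y) (by
      ext y
      rfl) : Module.Projective R Y)
  · intro (h : Module.Projective R Y)
    exact (inferInstance : Module.Projective R (X × Y))

/-- cohomology vanishing of `T` above `b` from that of its reduction modulo a nilpotent ideal -/
theorem isZero_homology_of_nilpotent (I : Ideal R) (hI : IsNilpotent I) (T : DRing.Cx R)
    [T.IsKProjective] (hTf : ∀ i, Module.Flat R (T.X i)) (b : ℤ)
    (hb : ∀ i : ℤ, b < i → IsZero (((esC (Ideal.Quotient.mk I)).obj T).homology i))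
    (i : ℤ) (hi : b < i) : IsZero (T.homology i) := by
  obtain ⟨n, hn⟩ := hI
  have h := isZero_homology_tens_of_pow_killed I T hTf b hb n R (by
    rw [hn, Submodule.zero_eq_bot, Submodule.bot_smul]) i hi
  exact h.of_iso ((HomologicalComplex.homologyFunctor _ _ i).mapIso
    ((tensUnitIso (R := R)).app T)).symm

/-- S6970 -/
theorem exists_projective_representative (I : Ideal R) (hI : IsNilpotent I)
    [DRing.HasLBaseChange (Ideal.Quotient.mk I)] (K : Dual.D R)
    (E : DRing.Cx (R ⧸ I)) (b : ℤ) (hEb : DRing.VanishesAbove E b)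
    (hEp : ∀ i : ℤ, Module.Projective (R ⧸ I) (E.X i))
    (hE : Nonempty (DRing.toD E ≅ (DRing.LBaseChange (Ideal.Quotient.mk I)).obj K)) :
    ∃ (P : DRing.Cx R) (b' : ℤ), DRing.VanishesAbove P b' ∧
      (∀ i : ℤ, Module.Projective R (P.X i)) ∧
      Nonempty (DRing.toD P ≅ K) ∧ Nonempty ((esC (Ideal.Quotient.mk I)).obj P ≅ E) := by
  obtain ⟨T, hTk, hTp, ⟨eT⟩⟩ := Groth.Agent.Helper11.Tel.exists_kprojective_rep K
  haveI := hTk
  obtain ⟨eE⟩ := hE
  have hb : ∀ i : ℤ, b < i → IsZero (((esC (Ideal.Quotient.mk I)).obj T).homology i) := by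
    intro i hi
    have h0 : IsZero (E.homology i) := isZero_homology_of_isZero_X E i (hEb i hi)
    have h1 : IsZero ((DerivedCategory.homologyFunctor (ModuleCat.{u} (R ⧸ I)) i).obj
        (DRing.toD E)) :=
      h0.of_iso ((DerivedCategory.homologyFunctorFactors (ModuleCat.{u} (R ⧸ I)) i).app E)
    have h2 := h1.of_iso ((DerivedCategory.homologyFunctor (ModuleCat.{u} (R ⧸ I)) i).mapIso eE.symm)
    exact h2.of_iso (homologyLBaseChangeIso (Ideal.Quotient.mk I) T K eT i).symm
  have hTf : ∀ i, Module.Flat R (T.X i) := fun i => by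
    haveI := hTp i
    infer_instance
  have hK : ∀ i : ℤ, b < i →
      IsZero ((DerivedCategory.homologyFunctor (ModuleCat.{u} R) i).obj K) := by
    intro i hi
    have h0 := isZero_homology_of_nilpotent I hI T hTf b hb i hi
    have h1 := h0.of_iso ((DerivedCategory.homologyFunctorFactors (ModuleCat.{u} R) i).app T)
    exact h1.of_iso ((DerivedCategory.homologyFunctor (ModuleCat.{u} R) i).mapIso eT.symm)
  obtain ⟨Q₀, hQ₀b, hQ₀p, ⟨eQ₀⟩⟩ := exists_projRes_vanishesAbove K b hK
  have hlift : ∀ i : ℤ, ∃ X : ModuleCat.{u} R, Module.Projective R X ∧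
      Nonempty (TensorProduct R (R ⧸ I) X ≃ₗ[R ⧸ I] E.X i) := fun i => by
    haveI := hEp i
    exact Groth.Agent.Helper11.Lift.exists_projective_lift hI (E.X i)
  choose X hX he using hlift
  obtain ⟨d, sq, hv, hiso, hred⟩ := Groth.Agent.Helper11.Lift.exists_representative
    (projProp (R := R)) Q₀ E X (fun i => (he i).some) (fun X hX => hX)
    (fun X Y hX => projProp_prod_iff X Y hX)
    (fun X Y f _ _ h => Groth.Agent.Helper11.Lift.surjective_of_nilpotent hI f.hom h)
    K b hQ₀b hQ₀p eQ₀ b hEb hX ⟨eE⟩
  exact ⟨CochainComplex.of X d sq, max b (b + 1), hv, fun i => hX i, hiso, hred⟩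

end Groth.Agent.Helper11.Dev
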