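import Groth.Agent.Lib.Helper11.Dev7

/-!
Perfectness descends along nilpotent thickenings (helper11).
-/

set_option autoImplicit false

open CategoryTheory CategoryTheory.Limits TensorProduct

universe u

namespace Groth.Agent.Helper11.Dev

open Groth.Agent.Helper11.DC Groth.Agent.Helper11.TA Groth.Agent.Helper11.LDer
  Groth.Agent.Helper11.Lift

attribute [local instance] HasDerivedCategory.standard

variable {R : Type u} [CommRing R] {I : Ideal R}

theorem subsingleton_of_tensor_subsingleton (hI : IsNilpotent I) (X : Type u) [AddCommGroup X]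
    [Module R X] (h : Subsingleton ((R ⧸ I) ⊗[R] X)) : Subsingleton X := by
  have h1 : Subsingleton (X ⧸ (I • (⊤ : Submodule R X))) :=
    (quotTensorEquivQuotSMul X I).symm.toEquiv.subsingleton
  have h2 : I • (⊤ : Submodule R X) = ⊤ := Submodule.Quotient.subsingleton_iff.mp h1
  have h3 := surjective_of_nilpotent hI (0 : PUnit.{u + 1} →ₗ[R] X) (by
    rw [h2, sup_top_eq])
  refine ⟨fun x y => ?_⟩
  obtain ⟨_, hx⟩ := h3 x
  obtain ⟨_, hy⟩ := h3 y
  rw [← hx, ← hy]

theorem finite_of_tensor_finite (hI : IsNilpotent I) (X : Type u) [AddCommGroup X]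
    [Module R X] (h : Module.Finite (R ⧸ I) ((R ⧸ I) ⊗[R] X)) : Module.Finite R X := by
  haveI : Module.Finite R ((R ⧸ I) ⊗[R] X) := Module.Finite.trans (R ⧸ I) _
  haveI : Module.Finite R (X ⧸ (I • (⊤ : Submodule R X))) :=
    Module.Finite.equiv (quotTensorEquivQuotSMul X I)
  obtain ⟨n, s, hs⟩ := Module.Finite.exists_fin (R := R) (M := X ⧸ (I • (⊤ : Submodule R X)))
  have hlift : ∀ j, ∃ x : X, (I • (⊤ : Submodule R X)).mkQ x = s j := fun j =>
    (I • (⊤ : Submodule R X)).mkQ_surjective (s j)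
  choose x hx using hlift
  let f : (Fin n → R) →ₗ[R] X := Fintype.linearCombination R x
  have hr : LinearMap.range f = Submodule.span R (Set.range x) :=
    Fintype.range_linearCombination R x
  have hmap : (LinearMap.range f).map (I • (⊤ : Submodule R X)).mkQ = ⊤ := by
    rw [hr, Submodule.map_span, ← Set.range_comp]
    have : (⇑(I • (⊤ : Submodule R X)).mkQ ∘ x) = s := funext hx
    rw [this]
    exact hs
  have hsup : LinearMap.range f ⊔ I • (⊤ : Submodule R X) = ⊤ := by
    have h1 := Submodule.comap_map_eq (I • (⊤ : Submodule R X)).mkQ (LinearMap.range f)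
    rw [hmap, Submodule.comap_top, Submodule.ker_mkQ] at h1
    exact h1.symm
  exact Module.Finite.of_surjective f (surjective_of_nilpotent hI f hsup)

/-- S6979 -/
theorem isPerfect_of_nilpotent (hI : IsNilpotent I) [DRing.HasLBaseChange (Ideal.Quotient.mk I)]
    (K : Dual.D R)
    (hK : DRing.IsPerfect (R ⧸ I) ((DRing.LBaseChange (Ideal.Quotient.mk I)).obj K)) :
    DRing.IsPerfect R K := by
  obtain ⟨E, a, b, hEab, hEfp, hE⟩ := hK
  obtain ⟨P, b', -, hPp, hP, ⟨ered⟩⟩ := exists_projective_representative I hI K E b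
    (fun i hi => hEab i (Or.inr hi)) (fun i => (hEfp i).2) hE
  have he : ∀ i : ℤ, Nonempty ((R ⧸ I) ⊗[R] (P.X i) ≃ₗ[R ⧸ I] E.X i) := fun i =>
    ⟨(esEquiv (I := I) (P.X i)).symm ≪≫ₗ
      ((HomologicalComplex.eval _ _ i).mapIso ered).toLinearEquiv⟩
  refine ⟨P, a, b, fun i hi => ?_, fun i => ⟨?_, hPp i⟩, hP⟩
  · obtain ⟨e⟩ := he i
    haveI : Subsingleton (E.X i) := ModuleCat.subsingleton_of_isZero (hEab i hi)
    haveI : Subsingleton (P.X i) :=
      subsingleton_of_tensor_subsingleton hI (P.X i) e.toEquiv.subsingleton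
    exact ModuleCat.isZero_of_subsingleton _
  · obtain ⟨e⟩ := he i
    haveI := (hEfp i).1
    exact finite_of_tensor_finite hI (P.X i) (Module.Finite.equiv e.symm)

end Groth.Agent.Helper11.Dev
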