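import Groth.Agent.Lib.Helper11.Lift10

/-!
Projective modules with isomorphic reductions modulo a nilpotent ideal are isomorphic
(helper11).
-/

set_option autoImplicit false

open CategoryTheory CategoryTheory.Limits TensorProduct

universe u

namespace Groth.Agent.Helper11.Lift

variable {R : Type u} [CommRing R] {I : Ideal R}

/-- a map between modules lifting an identification of the reductions modulo a nilpotent ideal
is bijective when the target is projective -/
theorem bijective_of_red (hI : IsNilpotent I) {F P N : Type u} [AddCommGroup F] [Module R F]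
    [AddCommGroup P] [Module R P] [AddCommGroup N] [Module R N] [Module.Projective R P]
    (ρF : F →ₗ[R] N) (ρP : P →ₗ[R] N) (hρFs : Function.Surjective ρF)
    (hρFk : LinearMap.ker ρF = I • (⊤ : Submodule R F))
    (hρPk : LinearMap.ker ρP = I • (⊤ : Submodule R P))
    (p : F →ₗ[R] P) (hp : ∀ x, ρP (p x) = ρF x) : Function.Bijective p := by
  have hps : Function.Surjective p := by
    apply surjective_of_nilpotent hI
    rw [eq_top_iff]
    intro y _
    obtain ⟨x, hx⟩ := hρFs (ρP y)
    have h1 : y - p x ∈ I • (⊤ : Submodule R P) := by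
      rw [← hρPk, LinearMap.mem_ker, map_sub, hp, hx, sub_self]
    have h2 : y = p x + (y - p x) := by abel
    rw [h2]
    exact Submodule.add_mem_sup ⟨x, rfl⟩ h1
  refine ⟨?_, hps⟩
  obtain ⟨s, hs⟩ := Module.projective_lifting_property p LinearMap.id hps
  have hs' : ∀ y, p (s y) = y := fun y => congr($hs y)
  let πC : F →ₗ[R] F := LinearMap.id - s ∘ₗ p
  have hπC : ∀ v, πC v ∈ LinearMap.ker p := fun v => by
    rw [LinearMap.mem_ker]
    show p (v - s (p v)) = 0
    rw [map_sub, hs', sub_self]
  have hπC' : ∀ c ∈ LinearMap.ker p, πC c = c := fun c hc => by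
    show c - s (p c) = c
    rw [LinearMap.mem_ker.mp hc, map_zero, sub_zero]
  have hrange : (⊤ : Submodule R F).map πC ≤ LinearMap.ker p := by
    rintro _ ⟨v, -, rfl⟩
    exact hπC v
  have hCI : LinearMap.ker p ≤ I • (⊤ : Submodule R F) := by
    intro c hc
    rw [← hρFk, LinearMap.mem_ker, ← hp, LinearMap.mem_ker.mp hc, map_zero]
  have key : ∀ k : ℕ, LinearMap.ker p ≤ I ^ k • (⊤ : Submodule R F) := by
    intro k
    induction k with
    | zero => rw [pow_zero, Ideal.one_eq_top, Submodule.top_smul]; exact le_top
    | succ k ih =>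
      intro c hc
      have h1 : c ∈ (I • (⊤ : Submodule R F)).map πC := ⟨c, hCI hc, hπC' c hc⟩
      rw [Submodule.map_smul''] at h1
      have h2 : I • (⊤ : Submodule R F).map πC ≤ I ^ (k + 1) • (⊤ : Submodule R F) := by
        rw [pow_succ', Submodule.mul_smul]
        exact Submodule.smul_mono le_rfl (hrange.trans ih)
      exact h2 h1
  obtain ⟨n, hn⟩ := hI
  have h0 := key n
  rw [hn, Submodule.zero_eq_bot, Submodule.bot_smul] at h0
  rw [← LinearMap.ker_eq_bot]
  exact le_bot_iff.mp h0

/-- a projective module whose reduction modulo a nilpotent ideal is finite free is finite free -/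
theorem finite_free_of_tensor (hI : IsNilpotent I) (P : ModuleCat.{u} R) [Module.Projective R P]
    (L : ModuleCat.{u} (R ⧸ I)) [Module.Finite (R ⧸ I) L] [Module.Free (R ⧸ I) L]
    (e : (R ⧸ I) ⊗[R] P ≃ₗ[R ⧸ I] L) : Module.Finite R P ∧ Module.Free R P := by
  obtain ⟨F, hFfin, hFfree, ⟨eF⟩⟩ := exists_free_lift (I := I) L
  obtain ⟨p, hp⟩ := Module.projective_lifting_property (red P L e) (red F L eF)
    (red_surjective P L e)
  have hb := bijective_of_red hI (red F L eF) (red P L e) (red_surjective F L eF)
    (ker_red F L eF) (ker_red P L e) p (fun x => congr($hp x))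
  let eq : F ≃ₗ[R] P := LinearEquiv.ofBijective p hb
  exact ⟨Module.Finite.equiv eq, Module.Free.of_equiv eq⟩

end Groth.Agent.Helper11.Lift
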