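import Groth.Agent.Lib.Helper11.Dev8
import Groth.Agent.Lib.Helper11.Lift11

/-!
Lifting representatives modulo an ideal without assuming the derived base change functor
(helper11).
-/

set_option autoImplicit false

open CategoryTheory CategoryTheory.Limits TensorProduct

universe u

namespace Groth.Agent.Helper11.Dev

open Groth.Agent.Helper11.DC Groth.Agent.Helper11.TA Groth.Agent.Helper11.LDer
  Groth.Agent.Helper11.Lift Groth.Agent.Helper11.PRT

attribute [local instance] HasDerivedCategory.standard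

section General

variable {A B : Type u} [CommRing A] [CommRing B]

/-- homotopy equivalent complexes are isomorphic in the derived category -/
noncomputable def QIsoOfHomotopyEquiv {K L : DRing.Cx A} (e : HomotopyEquiv K L) :
    DerivedCategory.Q.obj K ≅ DerivedCategory.Q.obj L :=
  haveI : IsIso (DerivedCategory.Q.map e.hom) := by
    rw [DerivedCategory.isIso_Q_map_iff_quasiIso]
    infer_instance
  asIso (DerivedCategory.Q.map e.hom)

theorem nonempty_Q_esC_iso (φ : A →+* B) (T₁ T₂ : DRing.Cx A) [T₁.IsKProjective]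
    [T₂.IsKProjective] (e : DerivedCategory.Q.obj T₁ ≅ DerivedCategory.Q.obj T₂) :
    Nonempty (DerivedCategory.Q.obj ((esC φ).obj T₁) ≅ DerivedCategory.Q.obj ((esC φ).obj T₂)) := by
  obtain ⟨he⟩ := nonempty_homotopyEquiv_of_Q_iso T₁ T₂ e
  exact ⟨QIsoOfHomotopyEquiv ((es φ).mapHomotopyEquiv he)⟩

end General

variable {R : Type u} [CommRing R] {I : Ideal R}

/-- the representative-lifting theorem, relative to a K-projective representative -/
theorem exists_representative' (Pc : ObjectProperty (ModuleCat.{u} R))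
    [Pc.IsClosedUnderIsomorphisms] (Q₀ : DRing.Cx R) (E : DRing.Cx (R ⧸ I))
    (X : ℤ → ModuleCat.{u} R) (e : ∀ i, (R ⧸ I) ⊗[R] X i ≃ₗ[R ⧸ I] E.X i)
    (h1 : ∀ X : ModuleCat.{u} R, Pc X → Module.Projective R X)
    (h2 : ∀ X Y : ModuleCat.{u} R, Pc X → (Pc (ModuleCat.of R (X × Y)) ↔ Pc Y))
    (h3 : ∀ (X Y : ModuleCat.{u} R) (f : X ⟶ Y), Pc X → Pc Y →
      LinearMap.range f.hom ⊔ I • (⊤ : Submodule R Y) = ⊤ → Function.Surjective f.hom)
    (c : ℤ) (hQc : DRing.VanishesAbove Q₀ c) (hQ : ∀ i, Pc (Q₀.X i))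
    (b : ℤ) (hEb : DRing.VanishesAbove E b) (hX : ∀ i, Pc (X i))
    (T : DRing.Cx R) [T.IsKProjective]
    (eQT : DerivedCategory.Q.obj Q₀ ≅ DerivedCategory.Q.obj T)
    (hE : Nonempty (DerivedCategory.Q.obj E ≅
      DerivedCategory.Q.obj ((esC (Ideal.Quotient.mk I)).obj T))) :
    ∃ (d : ∀ i, X i ⟶ X (i + 1)) (sq : ∀ i, d i ≫ d (i + 1) = 0),
      DRing.VanishesAbove (CochainComplex.of X d sq) (max b (c + 1)) ∧
      Nonempty (DerivedCategory.Q.obj (CochainComplex.of X d sq) ≅ DerivedCategory.Q.obj Q₀) ∧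
      Nonempty ((esC (Ideal.Quotient.mk I)).obj (CochainComplex.of X d sq) ≅ E) := by
  haveI : E.IsKProjective := isKProjective_of_vanishesAbove E b hEb (fun i => by
    haveI := h1 _ (hX i)
    exact Module.Projective.of_equiv (e i))
  haveI : Q₀.IsKProjective := isKProjective_of_vanishesAbove Q₀ c hQc (fun i => h1 _ (hQ i))
  obtain ⟨eL⟩ := nonempty_Q_esC_iso (Ideal.Quotient.mk I) Q₀ T eQT
  obtain ⟨eE⟩ := hE
  obtain ⟨α, hα⟩ := exists_lift_of_isKProjective E ((esC (Ideal.Quotient.mk I)).obj Q₀)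
    (eE ≪≫ eL.symm).hom
  have hiso : IsIso (DerivedCategory.Q.map α) := by
    rw [hα]
    infer_instance
  obtain ⟨d, sq, hlift, hsub, ⟨eP⟩⟩ :=
    exists_lift_qis Pc Q₀ E X e h1 h2 h3 c hQc hQ b hEb hX α hiso
  refine ⟨d, sq, ?_, ⟨eP⟩, nonempty_iso E X e d sq hlift⟩
  intro i hi
  haveI := hsub i hi
  exact ModuleCat.isZero_of_subsingleton (X i)

/-- lifting projective representatives along a nilpotent ideal, relative to a K-projective
representative -/
theorem exists_projective_representative' (hI : IsNilpotent I) (T : DRing.Cx R)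
    [T.IsKProjective] (hTp : ∀ i, Module.Projective R (T.X i))
    (E : DRing.Cx (R ⧸ I)) (b : ℤ) (hEb : DRing.VanishesAbove E b)
    (hEp : ∀ i : ℤ, Module.Projective (R ⧸ I) (E.X i))
    (hE : Nonempty (DerivedCategory.Q.obj E ≅
      DerivedCategory.Q.obj ((esC (Ideal.Quotient.mk I)).obj T))) :
    ∃ (P : DRing.Cx R) (b' : ℤ), DRing.VanishesAbove P b' ∧
      (∀ i : ℤ, Module.Projective R (P.X i)) ∧
      Nonempty (DerivedCategory.Q.obj P ≅ DerivedCategory.Q.obj T) ∧
      Nonempty ((esC (Ideal.Quotient.mk I)).obj P ≅ E) := by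
  obtain ⟨eE⟩ := hE
  have hb : ∀ i : ℤ, b < i → IsZero (((esC (Ideal.Quotient.mk I)).obj T).homology i) := by
    intro i hi
    have h0 : IsZero (E.homology i) := isZero_homology_of_isZero_X E i (hEb i hi)
    have h1 : IsZero ((DerivedCategory.homologyFunctor (ModuleCat.{u} (R ⧸ I)) i).obj
        (DerivedCategory.Q.obj E)) :=
      h0.of_iso ((DerivedCategory.homologyFunctorFactors (ModuleCat.{u} (R ⧸ I)) i).app E)
    have h2 := h1.of_iso
      ((DerivedCategory.homologyFunctor (ModuleCat.{u} (R ⧸ I)) i).mapIso eE.symm)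
    exact h2.of_iso ((DerivedCategory.homologyFunctorFactors (ModuleCat.{u} (R ⧸ I)) i).app
      ((esC (Ideal.Quotient.mk I)).obj T)).symm
  have hTf : ∀ i, Module.Flat R (T.X i) := fun i => by
    haveI := hTp i
    infer_instance
  have hK : ∀ i : ℤ, b < i →
      IsZero ((DerivedCategory.homologyFunctor (ModuleCat.{u} R) i).obj
        (DerivedCategory.Q.obj T)) := by
    intro i hi
    have h0 := isZero_homology_of_nilpotent I hI T hTf b hb i hi
    exact h0.of_iso ((DerivedCategory.homologyFunctorFactors (ModuleCat.{u} R) i).app T)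
  obtain ⟨Q₀, hQ₀b, hQ₀p, ⟨eQ₀⟩⟩ := exists_projRes_vanishesAbove (DerivedCategory.Q.obj T) b hK
  have hlift : ∀ i : ℤ, ∃ X : ModuleCat.{u} R, Module.Projective R X ∧
      Nonempty (TensorProduct R (R ⧸ I) X ≃ₗ[R ⧸ I] E.X i) := fun i => by
    haveI := hEp i
    exact exists_projective_lift hI (E.X i)
  choose X hX he using hlift
  obtain ⟨d, sq, hv, ⟨hiso⟩, hred⟩ := exists_representative'
    (projProp (R := R)) Q₀ E X (fun i => (he i).some) (fun X hX => hX)
    (fun X Y hX => projProp_prod_iff X Y hX)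
    (fun X Y f _ _ h => surjective_of_nilpotent hI f.hom h)
    b hQ₀b hQ₀p b hEb hX T eQ₀ ⟨eE⟩
  exact ⟨CochainComplex.of X d sq, max b (b + 1), hv, fun i => hX i, ⟨hiso ≪≫ eQ₀⟩, hred⟩

end Groth.Agent.Helper11.Dev
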