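import Groth.Agent.Lib.Helper11.AWNRing
import Mathlib.AlgebraicGeometry.ResidueField
import Mathlib.RingTheory.RingHom.PurelyInseparable

/-!
Evaluation maps `C → κ(x)` for points `x` of `Spec C`, and a ring-theoretic description of the image of
the residue field maps of `Spec C → Spec A`.
-/

open CategoryTheory AlgebraicGeometry

universe u

namespace Groth.Agent.Helper11.UH

variable {A C : Type u} [CommRing A] [CommRing C]

/-- Evaluation of ring elements at a point of `Spec`. -/
noncomputable def ev (x : Spec (CommRingCat.of C)) :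
    C →+* (Spec (CommRingCat.of C)).residueField x :=
  ((Scheme.ΓSpecIso (CommRingCat.of C)).inv ≫ (Spec (CommRingCat.of C)).Γevaluation x).hom

theorem ev_eq (x : Spec (CommRingCat.of C)) :
    ev x = ((Scheme.Spec.residueFieldIso (CommRingCat.of C) x).inv).hom.comp
      (algebraMap C x.asIdeal.ResidueField) := by
  have := Scheme.Spec.algebraMap_residueFieldIso_inv (CommRingCat.of C) x
  have h2 := congrArg CommRingCat.Hom.hom this
  simp only [CommRingCat.hom_comp, CommRingCat.hom_ofHom] at h2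
  rw [h2]
  rfl

theorem ev_eq_zero_iff (x : Spec (CommRingCat.of C)) (c : C) :
    ev x c = 0 ↔ c ∈ x.asIdeal := by
  have hinj : Function.Injective ((Scheme.Spec.residueFieldIso (CommRingCat.of C) x).inv).hom :=
    (ConcreteCategory.bijective_of_isIso
      (Scheme.Spec.residueFieldIso (CommRingCat.of C) x).inv).1
  rw [ev_eq, RingHom.comp_apply, map_eq_zero_iff _ hinj]
  exact Ideal.algebraMap_residueField_eq_zero

theorem ev_surj (x : Spec (CommRingCat.of C)) (θ : (Spec (CommRingCat.of C)).residueField x) :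
    ∃ r d : C, d ∉ x.asIdeal ∧ θ * ev x d = ev x r := by
  let e := Scheme.Spec.residueFieldIso (CommRingCat.of C) x
  obtain ⟨⟨a, s⟩, has⟩ := IsLocalization.surj (nonZeroDivisors (C ⧸ x.asIdeal))
    (e.hom.hom θ)
  obtain ⟨r, rfl⟩ := Ideal.Quotient.mk_surjective a
  obtain ⟨d, hd⟩ := Ideal.Quotient.mk_surjective (s : C ⧸ x.asIdeal)
  refine ⟨r, d, ?_, ?_⟩
  · intro hmem
    have : (s : C ⧸ x.asIdeal) = 0 := by
      rw [← hd]
      exact Ideal.Quotient.eq_zero_iff_mem.mpr hmem
    exact nonZeroDivisors.ne_zero s.2 this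
  · dsimp only at has
    rw [← hd, Ideal.algebraMap_quotient_residueField_mk,
      Ideal.algebraMap_quotient_residueField_mk] at has
    have h2 := congrArg e.inv.hom has
    rw [map_mul] at h2
    have h3 : e.inv.hom (e.hom.hom θ) = θ := by
      have := e.hom_inv_id
      exact congrFun (congrArg (fun f => (CommRingCat.Hom.hom f : _ → _)) this) θ
    rw [h3] at h2
    rw [ev_eq]
    exact h2

theorem ev_naturality (ψ : A →+* C) (y : Spec (CommRingCat.of C)) (a : A) :
    (Spec.map (CommRingCat.ofHom ψ)).residueFieldMap y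
      (ev ((Spec.map (CommRingCat.ofHom ψ)) y) a) = ev y (ψ a) := by
  unfold ev
  simp only [CommRingCat.hom_comp, RingHom.comp_apply]
  rw [Scheme.Γevaluation_naturality_apply]
  congr 1
  have := Scheme.ΓSpecIso_inv_naturality (CommRingCat.ofHom ψ)
  exact (congrFun (congrArg (fun f => (CommRingCat.Hom.hom f : _ → _)) this) a).symm

/-- The element `c` lies, modulo `q`, in the residue field of the prime below `q`. -/
def InK (ψ : A →+* C) (q : PrimeSpectrum C) (c : C) : Prop :=
  ∃ a s : A, ψ s ∉ q.asIdeal ∧ ψ s * c - ψ a ∈ q.asIdeal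

theorem ev_mem_range_iff (ψ : A →+* C) (y : Spec (CommRingCat.of C)) (c : C) :
    ev y c ∈ ((Spec.map (CommRingCat.ofHom ψ)).residueFieldMap y).hom.range ↔ InK ψ y c := by
  constructor
  · rintro ⟨θ, hθ⟩
    obtain ⟨r, d, hd, hrd⟩ := ev_surj ((Spec.map (CommRingCat.ofHom ψ)) y) θ
    refine ⟨r, d, hd, ?_⟩
    rw [← ev_eq_zero_iff]
    have h2 := congrArg ((Spec.map (CommRingCat.ofHom ψ)).residueFieldMap y).hom hrd
    rw [map_mul] at h2
    erw [ev_naturality, ev_naturality] at h2
    erw [hθ] at h2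
    rw [map_sub, map_mul, mul_comm, h2, sub_self]
  · rintro ⟨a, s, hs, hsa⟩
    have h0 : ev y (ψ s) ≠ 0 := fun h => hs ((ev_eq_zero_iff y _).mp h)
    have h1 : ev y (ψ s) * ev y c = ev y (ψ a) := by
      have := (ev_eq_zero_iff y _).mpr hsa
      rw [map_sub, map_mul] at this
      exact sub_eq_zero.mp this
    refine ⟨ev ((Spec.map (CommRingCat.ofHom ψ)) y) a / ev ((Spec.map (CommRingCat.ofHom ψ)) y) s, ?_⟩
    rw [map_div₀]
    erw [ev_naturality, ev_naturality]
    rw [div_eq_iff h0, mul_comm]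
    exact h1.symm

/-- Trivial residue field extensions, ring-theoretically. -/
def RFTriv (ψ : A →+* C) : Prop := ∀ (q : PrimeSpectrum C) (c : C), InK ψ q c

theorem rftriv_iff (ψ : A →+* C) :
    (∀ x : Spec (CommRingCat.of C),
      Function.Surjective ((Spec.map (CommRingCat.ofHom ψ)).residueFieldMap x)) ↔ RFTriv ψ := by
  constructor
  · intro h q c
    rw [← ev_mem_range_iff ψ q c]
    obtain ⟨θ, hθ⟩ := h q (ev q c)
    exact ⟨θ, hθ⟩
  · intro h x θ
    obtain ⟨r, d, hd, hrd⟩ := ev_surj x θ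
    have h0 : ev x d ≠ 0 := fun h => hd ((ev_eq_zero_iff x _).mp h)
    obtain ⟨tr, htr⟩ := (ev_mem_range_iff ψ x r).mpr (h x r)
    obtain ⟨td, htd⟩ := (ev_mem_range_iff ψ x d).mpr (h x d)
    refine ⟨tr / td, ?_⟩
    have : ((Spec.map (CommRingCat.ofHom ψ)).residueFieldMap x).hom (tr / td) = θ := by
      rw [map_div₀, htr, htd, div_eq_iff h0]
      exact hrd.symm
    exact this

/-- Universal homeomorphisms have purely inseparable residue field extensions, elementwise. -/
theorem exists_pow_inK {ψ : A →+* C} (h : UHom ψ) (q : PrimeSpectrum C) (c : C) :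
    ∃ ℓ : ℕ, (ℓ = 1 ∨ (ℓ.Prime ∧ ψ (ℓ : A) ∈ q.asIdeal)) ∧ ∃ n : ℕ, InK ψ q (c ^ (ℓ ^ n)) := by
  have hUH := (isUnivHomeo_spec_iff' ψ).mpr h
  have hUI : UniversallyInjective (Spec.map (CommRingCat.ofHom ψ)) :=
    ((isUnivHomeo_iff _).mp hUH).2.1
  have htfae := (tfae_universallyInjective (Spec.map (CommRingCat.ofHom ψ))).out 0 2
  have hpi := (htfae.mp hUI).2 q
  set f := Spec.map (CommRingCat.ofHom ψ) with hf
  set ρ := (f.residueFieldMap q).hom with hρ
  let _ : Algebra ((Spec (CommRingCat.of A)).residueField (f q))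
      ((Spec (CommRingCat.of C)).residueField q) := ρ.toAlgebra
  have hpi' : IsPurelyInseparable ((Spec (CommRingCat.of A)).residueField (f q))
      ((Spec (CommRingCat.of C)).residueField q) := hpi
  obtain ⟨ℓ, hℓ⟩ : ∃ ℓ, ExpChar ((Spec (CommRingCat.of A)).residueField (f q)) ℓ :=
    ⟨ringExpChar ((Spec (CommRingCat.of A)).residueField (f q)), inferInstance⟩
  obtain ⟨n, hn⟩ := IsPurelyInseparable.pow_mem
    ((Spec (CommRingCat.of A)).residueField (f q)) ℓ (ev q c)
  refine ⟨ℓ, ?_, n, ?_⟩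
  · rcases hℓ with _ | ⟨hprime⟩
    · exact Or.inl rfl
    · refine Or.inr ⟨hprime, ?_⟩
      have h0 : ev (f q) ((ℓ : ℕ) : A) = 0 := by
        rw [map_natCast]
        exact CharP.cast_eq_zero _ _
      have h1 : ((ℓ : ℕ) : A) ∈ (f q).asIdeal := (ev_eq_zero_iff _ _).mp h0
      exact h1
  · rw [← ev_mem_range_iff, map_pow]
    exact hn

end Groth.Agent.Helper11.UH
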