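import Groth.Agent.Lib.Helper3.HT4
import Groth.Agent.Lib.Helper5.KFlat1
import Mathlib.LinearAlgebra.Contraction
import Mathlib.LinearAlgebra.TensorProduct.Finiteness

/-!
# Exact pairings of complexes: algebraic core and unitors on elements (helper11)
-/

set_option autoImplicit false

open CategoryTheory CategoryTheory.Limits MonoidalCategory
open scoped TensorProduct

universe u

namespace Groth.Agent.Helper11.ExPair

variable {A : Type u} [CommRing A]

/-- if the identity of `V` is a finite sum of rank one endomorphisms, then `V` is finite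
projective -/
theorem finite_projective_of_id_mem (V : Type u) [AddCommGroup V] [Module A V]
    (h : (LinearMap.id : V →ₗ[A] V) ∈ LinearMap.range (dualTensorHom A V V)) :
    Module.Finite A V ∧ Module.Projective A V := by
  classical
  obtain ⟨t, ht⟩ := h
  obtain ⟨S, hS⟩ := TensorProduct.exists_finset t
  have hz : ∀ z : V, z = ∑ i ∈ S, (i.1 z) • i.2 := by
    intro z
    have h1 : (dualTensorHom A V V t) z = z := by rw [ht]; rfl
    refine h1.symm.trans ?_
    rw [hS, map_sum, LinearMap.sum_apply]
    refine Finset.sum_congr rfl (fun i _ => ?_)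
    rw [dualTensorHom_apply]
  let incl : V →ₗ[A] (S → A) :=
    { toFun := fun z i => i.1.1 z
      map_add' := fun z z' => by funext i; simp
      map_smul' := fun a z => by funext i; simp }
  let s : (S → A) →ₗ[A] V :=
    { toFun := fun c => ∑ i : S, c i • i.1.2
      map_add' := fun c c' => by simp [add_smul, Finset.sum_add_distrib]
      map_smul' := fun a c => by simp [mul_smul, Finset.smul_sum] }
  have hsi : ∀ z, s (incl z) = z := by
    intro z
    change ∑ i : S, (i.1.1 z) • i.1.2 = z
    rw [Finset.sum_coe_sort S (fun i => (i.1 z) • i.2)]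
    exact (hz z).symm
  have hsurj : Function.Surjective s := fun z => ⟨incl z, hsi z⟩
  exact ⟨Module.Finite.of_surjective s hsurj,
    Module.Projective.of_split incl s (LinearMap.ext hsi)⟩


open Groth.Agent.Helper5.KF in
/-- a submodule of `(K ⊗ L).X n` containing the images of all pure tensors is everything -/
theorem mem_of_pure (K L : DRing.Cx A) {n : ℤ} (S : Submodule A ((K ⊗ L).X n))
    (h : ∀ (p q : ℤ) (hpq : p + q = n) (x : K.X p) (y : L.X q),
      (HomologicalComplex.ιTensorObj K L p q n hpq).hom (x ⊗ₜ[A] y) ∈ S)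
    (z : (K ⊗ L).X n) : z ∈ S := by
  refine mem_of_components K L S z (fun p q hpq => ?_)
  generalize pr K L p q n z = t
  induction t using TensorProduct.induction_on with
  | zero => rw [map_zero]; exact S.zero_mem
  | tmul x y => exact h p q hpq x y
  | add a b ha hb => rw [map_add]; exact S.add_mem ha hb

/-- the algebraic core of the argument -/
theorem core (K L : DRing.Cx A) (W : ℤ → Type u) [∀ n, AddCommGroup (W n)]
    [∀ n, Module A (W n)] (Ψ : ∀ n, (K ⊗ L).X 0 →ₗ[A] (W n →ₗ[A] W n)) (u : (K ⊗ L).X 0)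
    (c : ℤ → ℤ → ℤ) (h1 : ∀ n, Ψ n u = LinearMap.id)
    (h2 : ∀ (n p q : ℤ) (hpq : p + q = 0) (x : K.X p) (y : L.X q),
      Ψ n ((HomologicalComplex.ιTensorObj K L p q 0 hpq).hom (x ⊗ₜ[A] y)) ∈
        LinearMap.range (dualTensorHom A (W n) (W n)))
    (h3 : ∀ (n p q : ℤ) (hpq : p + q = 0) (x : K.X p) (y : L.X q), c p q ≠ n →
      Ψ n ((HomologicalComplex.ιTensorObj K L p q 0 hpq).hom (x ⊗ₜ[A] y)) = 0) :
    (∀ n, Module.Finite A (W n) ∧ Module.Projective A (W n)) ∧
      ∃ a b : ℤ, ∀ i : ℤ, i < a ∨ b < i → Subsingleton (W i) := by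
  classical
  constructor
  · intro n
    apply finite_projective_of_id_mem
    rw [← h1 n]
    exact mem_of_pure K L (Submodule.comap (Ψ n) (LinearMap.range (dualTensorHom A (W n) (W n))))
      (fun p q hpq x y => h2 n p q hpq x y) u
  · let T : Submodule A ((K ⊗ L).X 0) :=
      { carrier := {v | ∃ F : Finset ℤ, ∀ n, n ∉ F → Ψ n v = 0}
        add_mem' := by
          rintro v v' ⟨F, hF⟩ ⟨F', hF'⟩
          refine ⟨F ∪ F', fun n hn => ?_⟩
          rw [Finset.mem_union, not_or] at hn
          rw [map_add, hF n hn.1, hF' n hn.2, add_zero]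
        zero_mem' := ⟨∅, fun n _ => map_zero _⟩
        smul_mem' := by
          rintro a v ⟨F, hF⟩
          exact ⟨F, fun n hn => by rw [map_smul, hF n hn, smul_zero]⟩ }
    have hu : u ∈ T := mem_of_pure K L T (fun p q hpq x y =>
      ⟨{c p q}, fun n hn => h3 n p q hpq x y (fun h => hn (by rw [h]; exact Finset.mem_singleton_self _))⟩) u
    obtain ⟨F, hF⟩ := hu
    obtain ⟨B, hB⟩ : ∃ B : ℤ, ∀ p ∈ F, |p| ≤ B := by
      refine ⟨∑ p ∈ F, |p|, fun p hp => ?_⟩
      exact Finset.single_le_sum (f := fun p : ℤ => |p|) (fun i _ => abs_nonneg i) hp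
    refine ⟨-B, B, fun i hi => ?_⟩
    have hi' : i ∉ F := by
      intro h
      have := hB i h
      rw [abs_le] at this
      omega
    have h0 : (LinearMap.id : W i →ₗ[A] W i) = 0 := by rw [← h1 i, hF i hi']
    exact ⟨fun x y => by
      have hx : x = 0 := congrArg (fun φ : W i →ₗ[A] W i => φ x) h0
      have hy : y = 0 := congrArg (fun φ : W i →ₗ[A] W i => φ y) h0
      rw [hx, hy]⟩

end Groth.Agent.Helper11.ExPair
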