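import Groth.Agent.Lib.Helper11.ExPair2

/-!
# Exact pairings of complexes: the first factor (helper11)
-/

set_option autoImplicit false

open CategoryTheory CategoryTheory.Limits MonoidalCategory
open scoped TensorProduct

universe u

namespace Groth.Agent.Helper11.ExPair

open Groth.Agent.Helper3.HT

variable {A : Type u} [CommRing A] (M N : DRing.Cx A) (η : U A ⟶ M ⊗ N) (ε : N ⊗ M ⟶ U A)

/-- the linear map underlying the first triangle identity -/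
noncomputable def LM (n : ℤ) : ((M ⊗ N).X 0 ⊗ M.X n : ModuleCat.{u} A) ⟶ M.X n :=
  HomologicalComplex.ιTensorObj (M ⊗ N) M 0 n n (zero_add n) ≫ (α_ M N M).hom.f n ≫
    (M ◁ ε).f n ≫ (ρ_ M).hom.f n

/-- the family of endomorphisms attached to an element of `(M ⊗ N)^0` -/
noncomputable def ΨM (n : ℤ) : (M ⊗ N).X 0 →ₗ[A] (M.X n →ₗ[A] M.X n) :=
  (TensorProduct.mk A ((M ⊗ N).X 0) (M.X n)).compr₂ (LM M N ε n).hom

theorem ΨM_apply (n : ℤ) (v : (M ⊗ N).X 0) (z : M.X n) :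
    ΨM M N ε n v z = (LM M N ε n).hom (v ⊗ₜ[A] z) := rfl

theorem LM_pure (n p q : ℤ) (hpq : p + q = 0) (x : M.X p) (y : N.X q) (z : M.X n) :
    (LM M N ε n).hom ((HomologicalComplex.ιTensorObj M N p q 0 hpq).hom (x ⊗ₜ[A] y) ⊗ₜ[A] z) =
      ((ρ_ M).hom.f n).hom ((HomologicalComplex.ιTensorObj M (U A) p (q + n) n (by omega)).hom
        (x ⊗ₜ[A] (ε.f (q + n)).hom
          ((HomologicalComplex.ιTensorObj N M q n (q + n) rfl).hom (y ⊗ₜ[A] z)))) := by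
  change ((ρ_ M).hom.f n).hom (((M ◁ ε).f n).hom (((α_ M N M).hom.f n).hom
    ((HomologicalComplex.ιTensorObj (M ⊗ N) M 0 n n (zero_add n)).hom
      ((HomologicalComplex.ιTensorObj M N p q 0 hpq).hom (x ⊗ₜ[A] y) ⊗ₜ[A] z)))) = _
  rw [associator_hom_apply M N M p q n 0 (q + n) n hpq rfl (zero_add n) (by omega),
    whiskerLeft_ι_tmul]

theorem ΨM_pure_zero (n p q : ℤ) (hpq : p + q = 0) (x : M.X p) (y : N.X q) (hq : q + n ≠ 0) :
    ΨM M N ε n ((HomologicalComplex.ιTensorObj M N p q 0 hpq).hom (x ⊗ₜ[A] y)) = 0 := by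
  ext z
  rw [ΨM_apply, LM_pure, eq_zero_of_ne (q + n) hq ((ε.f (q + n)).hom _), TensorProduct.tmul_zero,
    map_zero, map_zero]
  rfl

theorem ΨM_pure_mem (n p q : ℤ) (hpq : p + q = 0) (x : M.X p) (y : N.X q) :
    ΨM M N ε n ((HomologicalComplex.ιTensorObj M N p q 0 hpq).hom (x ⊗ₜ[A] y)) ∈
      LinearMap.range (dualTensorHom A (M.X n) (M.X n)) := by
  by_cases hq : q + n = 0
  · obtain rfl : p = n := by omega
    let f : M.X p →ₗ[A] A := (coordJ A (q + p) hq) ∘ₗ (ε.f (q + p)).hom ∘ₗ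
      (HomologicalComplex.ιTensorObj N M q p (q + p) rfl).hom ∘ₗ (TensorProduct.mk A _ _ y)
    refine ⟨f ⊗ₜ[A] x, ?_⟩
    ext z
    rw [dualTensorHom_apply, ΨM_apply, LM_pure, rightUnitor_hom_apply M p (q + p) hq]
    rfl
  · rw [ΨM_pure_zero M N ε n p q hpq x y hq]
    exact Submodule.zero_mem _

include η in
theorem ΨM_unit (hT : (η ▷ M) ≫ (α_ M N M).hom ≫ (M ◁ ε) = (λ_ M).hom ≫ (ρ_ M).inv) (n : ℤ) :
    ΨM M N ε n ((η.f 0).hom (one0 A)) = LinearMap.id := by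
  ext z
  rw [ΨM_apply]
  have h1 : (HomologicalComplex.ιTensorObj (M ⊗ N) M 0 n n (zero_add n)).hom
      ((η.f 0).hom (one0 A) ⊗ₜ[A] z) = ((η ▷ M).f n).hom (((λ_ M).inv.f n).hom z) := by
    rw [leftUnitor_inv_apply, whiskerRight_ι_tmul]
  have hT' : (λ_ M).inv ≫ (η ▷ M) ≫ (α_ M N M).hom ≫ (M ◁ ε) ≫ (ρ_ M).hom = 𝟙 M := by
    have h2 : (η ▷ M) ≫ (α_ M N M).hom ≫ (M ◁ ε) ≫ (ρ_ M).hom =
        ((η ▷ M) ≫ (α_ M N M).hom ≫ (M ◁ ε)) ≫ (ρ_ M).hom := by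
      simp only [Category.assoc]
    rw [h2, hT]
    simp
  change ((ρ_ M).hom.f n).hom (((M ◁ ε).f n).hom (((α_ M N M).hom.f n).hom
    ((HomologicalComplex.ιTensorObj (M ⊗ N) M 0 n n (zero_add n)).hom
      ((η.f 0).hom (one0 A) ⊗ₜ[A] z)))) = z
  rw [h1]
  exact congrArg (fun φ => (φ.f n).hom z) hT'

include η in
/-- the first factor of an exact pairing is bounded with finite projective terms -/
theorem first_factor (hT : (η ▷ M) ≫ (α_ M N M).hom ≫ (M ◁ ε) = (λ_ M).hom ≫ (ρ_ M).inv) :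
    (∀ n, Module.Finite A (M.X n) ∧ Module.Projective A (M.X n)) ∧
      ∃ a b : ℤ, ∀ i : ℤ, i < a ∨ b < i → Subsingleton (M.X i) := by
  refine core M N (fun n => M.X n) (ΨM M N ε) ((η.f 0).hom (one0 A)) (fun p _ => p)
    (ΨM_unit M N η ε hT) (fun n p q hpq x y => ΨM_pure_mem M N ε n p q hpq x y)
    (fun n p q hpq x y hne => ΨM_pure_zero M N ε n p q hpq x y (by omega))

end Groth.Agent.Helper11.ExPair
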