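import Groth.Agent.Lib.Helper11.ExPair3

/-!
# Exact pairings of complexes: the second factor and the main theorem (helper11)
-/

set_option autoImplicit false

open CategoryTheory CategoryTheory.Limits MonoidalCategory
open scoped TensorProduct

universe u

namespace Groth.Agent.Helper11.ExPair

open Groth.Agent.Helper3.HT

variable {A : Type u} [CommRing A] (M N : DRing.Cx A) (η : U A ⟶ M ⊗ N) (ε : N ⊗ M ⟶ U A)

/-- the linear map underlying the second triangle identity -/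
noncomputable def LN (n : ℤ) : (N.X n ⊗ (M ⊗ N).X 0 : ModuleCat.{u} A) ⟶ N.X n :=
  HomologicalComplex.ιTensorObj N (M ⊗ N) n 0 n (add_zero n) ≫ (α_ N M N).inv.f n ≫
    (ε ▷ N).f n ≫ (λ_ N).hom.f n

/-- the family of endomorphisms attached to an element of `(M ⊗ N)^0` -/
noncomputable def ΨN (n : ℤ) : (M ⊗ N).X 0 →ₗ[A] (N.X n →ₗ[A] N.X n) :=
  (TensorProduct.mk A (N.X n) ((M ⊗ N).X 0)).flip.compr₂ (LN M N ε n).hom

theorem ΨN_apply (n : ℤ) (v : (M ⊗ N).X 0) (z : N.X n) :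
    ΨN M N ε n v z = (LN M N ε n).hom (z ⊗ₜ[A] v) := rfl

theorem LN_pure (n p q : ℤ) (hpq : p + q = 0) (x : M.X p) (y : N.X q) (z : N.X n) :
    (LN M N ε n).hom (z ⊗ₜ[A] (HomologicalComplex.ιTensorObj M N p q 0 hpq).hom (x ⊗ₜ[A] y)) =
      ((λ_ N).hom.f n).hom ((HomologicalComplex.ιTensorObj (U A) N (n + p) q n (by omega)).hom
        ((ε.f (n + p)).hom ((HomologicalComplex.ιTensorObj N M n p (n + p) rfl).hom (z ⊗ₜ[A] x))
          ⊗ₜ[A] y)) := by
  change ((λ_ N).hom.f n).hom (((ε ▷ N).f n).hom (((α_ N M N).inv.f n).hom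
    ((HomologicalComplex.ιTensorObj N (M ⊗ N) n 0 n (add_zero n)).hom
      (z ⊗ₜ[A] (HomologicalComplex.ιTensorObj M N p q 0 hpq).hom (x ⊗ₜ[A] y))))) = _
  rw [associator_inv_apply N M N n p q (n + p) 0 n rfl hpq (by omega) (add_zero n),
    whiskerRight_ι_tmul]

theorem ΨN_pure_zero (n p q : ℤ) (hpq : p + q = 0) (x : M.X p) (y : N.X q) (hq : n + p ≠ 0) :
    ΨN M N ε n ((HomologicalComplex.ιTensorObj M N p q 0 hpq).hom (x ⊗ₜ[A] y)) = 0 := by
  ext z
  rw [ΨN_apply, LN_pure, eq_zero_of_ne (n + p) hq ((ε.f (n + p)).hom _), TensorProduct.zero_tmul,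
    map_zero, map_zero]
  rfl

theorem ΨN_pure_mem (n p q : ℤ) (hpq : p + q = 0) (x : M.X p) (y : N.X q) :
    ΨN M N ε n ((HomologicalComplex.ιTensorObj M N p q 0 hpq).hom (x ⊗ₜ[A] y)) ∈
      LinearMap.range (dualTensorHom A (N.X n) (N.X n)) := by
  by_cases hq : n + p = 0
  · obtain rfl : q = n := by omega
    let f : N.X q →ₗ[A] A := (coordJ A (q + p) hq) ∘ₗ (ε.f (q + p)).hom ∘ₗ
      (HomologicalComplex.ιTensorObj N M q p (q + p) rfl).hom ∘ₗ (TensorProduct.mk A _ _).flip x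
    refine ⟨f ⊗ₜ[A] y, ?_⟩
    ext z
    rw [dualTensorHom_apply, ΨN_apply, LN_pure, leftUnitor_hom_apply N q (q + p) hq]
    rfl
  · rw [ΨN_pure_zero M N ε n p q hpq x y hq]
    exact Submodule.zero_mem _

include η in
theorem ΨN_unit (hT : (N ◁ η) ≫ (α_ N M N).inv ≫ (ε ▷ N) = (ρ_ N).hom ≫ (λ_ N).inv) (n : ℤ) :
    ΨN M N ε n ((η.f 0).hom (one0 A)) = LinearMap.id := by
  ext z
  rw [ΨN_apply]
  have h1 : (HomologicalComplex.ιTensorObj N (M ⊗ N) n 0 n (add_zero n)).hom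
      (z ⊗ₜ[A] (η.f 0).hom (one0 A)) = ((N ◁ η).f n).hom (((ρ_ N).inv.f n).hom z) := by
    rw [rightUnitor_inv_apply, whiskerLeft_ι_tmul]
  have hT' : (ρ_ N).inv ≫ (N ◁ η) ≫ (α_ N M N).inv ≫ (ε ▷ N) ≫ (λ_ N).hom = 𝟙 N := by
    have h2 : (N ◁ η) ≫ (α_ N M N).inv ≫ (ε ▷ N) ≫ (λ_ N).hom =
        ((N ◁ η) ≫ (α_ N M N).inv ≫ (ε ▷ N)) ≫ (λ_ N).hom := by
      simp only [Category.assoc]
    rw [h2, hT]
    simp
  change ((λ_ N).hom.f n).hom (((ε ▷ N).f n).hom (((α_ N M N).inv.f n).hom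
    ((HomologicalComplex.ιTensorObj N (M ⊗ N) n 0 n (add_zero n)).hom
      (z ⊗ₜ[A] (η.f 0).hom (one0 A))))) = z
  rw [h1]
  exact congrArg (fun φ => (φ.f n).hom z) hT'

include η in
/-- the second factor of an exact pairing is bounded with finite projective terms -/
theorem second_factor (hT : (N ◁ η) ≫ (α_ N M N).inv ≫ (ε ▷ N) = (ρ_ N).hom ≫ (λ_ N).inv) :
    (∀ n, Module.Finite A (N.X n) ∧ Module.Projective A (N.X n)) ∧
      ∃ a b : ℤ, ∀ i : ℤ, i < a ∨ b < i → Subsingleton (N.X i) := by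
  refine core M N (fun n => N.X n) (ΨN M N ε) ((η.f 0).hom (one0 A)) (fun _ q => q)
    (ΨN_unit M N η ε hT) (fun n p q hpq x y => ΨN_pure_mem M N ε n p q hpq x y)
    (fun n p q hpq x y hne => ΨN_pure_zero M N ε n p q hpq x y (by omega))

/-- an exact pairing of complexes of modules: both are bounded with finite projective terms -/
theorem main [ExactPairing M N] :
    (∃ a b : ℤ, DRing.VanishesOutside M a b) ∧ (∃ a b : ℤ, DRing.VanishesOutside N a b) ∧
      DRing.TermwiseFiniteProjective M ∧ DRing.TermwiseFiniteProjective N := by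
  obtain ⟨hM1, a, b, hM2⟩ := first_factor M N (η_ M N) (ε_ M N)
    (ExactPairing.evaluation_coevaluation M N)
  obtain ⟨hN1, a', b', hN2⟩ := second_factor M N (η_ M N) (ε_ M N)
    (ExactPairing.coevaluation_evaluation M N)
  refine ⟨⟨a, b, fun i hi => ?_⟩, ⟨a', b', fun i hi => ?_⟩, hM1, hN1⟩
  · haveI := hM2 i hi
    exact ModuleCat.isZero_of_subsingleton _
  · haveI := hN2 i hi
    exact ModuleCat.isZero_of_subsingleton _

end Groth.Agent.Helper11.ExPair
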