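import Mathlib
import Groth.Agent.Lib.Helper17.EX4
import Groth.Agent.Lib.Helper17.EX5
import Groth.Agent.Lib.Helper1.AdicNoeth

set_option autoImplicit false

namespace Groth.Agent.Helper11.ExalCompl

universe u
open IsLocalRing

attribute [local instance] Exal.opModule Exal.isCentralScalar_opModule

/-- uniform power of the maximal ideal splitting off the kernel, for a kernel killed by the maximal
ideal (adapted from Helper17.EX.exists_uniform_pow) -/
theorem exists_uniform_pow' {Λ : Type*} {R : Type u} [CommRing Λ] [CommRing R] [Algebra Λ R]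
    [IsLocalRing R] [IsNoetherianRing R] (L : Type u) [AddCommGroup L] [Module R L]
    (hL : ∀ r ∈ maximalIdeal R, ∀ z : L, r • z = 0) :
    ∃ n : ℕ, ∀ X : Exal.Ext Λ R L,
      ∃ I : Ideal X.E, (∀ x ∈ I, X.proj x = 0 → x = 0) ∧
        Ideal.map X.proj I = maximalIdeal R ^ (n + 1) := by
  classical
  obtain ⟨s, hs⟩ := (IsNoetherian.noetherian (maximalIdeal R) : (maximalIdeal R).FG)
  let x : s → R := Subtype.val
  have hxspan : Ideal.span (Set.range x) = maximalIdeal R := by
    rw [← hs]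
    congr 1
    exact Subtype.range_coe
  have hxm : ∀ i, x i ∈ maximalIdeal R := fun i => by
    rw [← hxspan]
    exact Ideal.subset_span (Set.mem_range_self i)
  let 𝔐 : Ideal (MvPolynomial s R) :=
    Ideal.span (Set.range (MvPolynomial.X : s → MvPolynomial s R))
  let 𝒦 : Ideal (MvPolynomial s R) := RingHom.ker (MvPolynomial.eval x)
  obtain ⟨c, hc⟩ := Ideal.exists_pow_inf_eq_pow_smul 𝔐
    (𝒦 : Submodule (MvPolynomial s R) (MvPolynomial s R))
  have hAR : ∀ F ∈ 𝔐 ^ (c + 1), MvPolynomial.eval x F = 0 →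
      ∃ G : s → MvPolynomial s R, (∀ i, MvPolynomial.eval x (G i) = 0) ∧
        F = ∑ i, MvPolynomial.X i * G i := by
    intro F hF hF0
    have h1 : F ∈ 𝔐 ^ (c + 1) • (⊤ : Submodule (MvPolynomial s R) (MvPolynomial s R)) ⊓ 𝒦 := by
      have h : F * 1 ∈ 𝔐 ^ (c + 1) • (⊤ : Submodule (MvPolynomial s R) (MvPolynomial s R)) :=
        Submodule.smul_mem_smul hF (Submodule.mem_top : (1 : MvPolynomial s R) ∈ ⊤)
      rw [mul_one] at h
      exact ⟨h, RingHom.mem_ker.2 hF0⟩
    rw [hc (c + 1) (Nat.le_succ c), Nat.add_sub_cancel_left, pow_one] at h1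
    have h2 : F ∈ 𝔐 • (𝒦 : Submodule (MvPolynomial s R) (MvPolynomial s R)) :=
      Submodule.smul_mono le_rfl inf_le_right h1
    obtain ⟨G, hG, hFG⟩ := Groth.Agent.Helper17.EX.exists_sum_of_mem_smul MvPolynomial.X 𝒦 h2
    exact ⟨G, fun i => RingHom.mem_ker.1 (hG i), hFG⟩
  refine ⟨c, fun X => ?_⟩
  have hX := X.isExtension
  have hsurj : Function.Surjective (X.proj : X.E →+* R) := hX.proj_surjective
  choose y hy using fun i : s => hX.proj_surjective (x i)
  have hxy : (⇑(X.proj : X.E →+* R) ∘ y) = x := funext hy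
  have hkill : ∀ (i : s) (e : X.E), X.proj e = 0 → y i * e = 0 := by
    intro i e he
    obtain ⟨z, rfl⟩ := (hX.exact e).1 he
    rw [hX.mul_incl, hy, hL _ (hxm i), map_zero]
  have hev : ∀ Ft : MvPolynomial s X.E, X.proj (MvPolynomial.eval y Ft) =
      MvPolynomial.eval x (MvPolynomial.map (X.proj : X.E →+* R) Ft) := by
    intro Ft
    show (X.proj : X.E →+* R) (MvPolynomial.eval₂ (RingHom.id X.E) y Ft) = _
    rw [MvPolynomial.eval₂_comp_left, MvPolynomial.eval_map, RingHom.comp_id, hxy]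
  refine ⟨Ideal.span (Set.range y) ^ (c + 1), ?_, ?_⟩
  · intro e he hpe
    have hevsurj : Function.Surjective (MvPolynomial.eval y) :=
      fun a => ⟨MvPolynomial.C a, MvPolynomial.eval_C a⟩
    have hmapev : Ideal.map (MvPolynomial.eval y)
        (Ideal.span (Set.range (MvPolynomial.X : s → MvPolynomial s X.E))) =
        Ideal.span (Set.range y) := by
      rw [Ideal.map_span, ← Set.range_comp]
      congr 2
      funext i
      exact MvPolynomial.eval_X i
    rw [← hmapev, ← Ideal.map_pow] at he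
    obtain ⟨Ft, hFt, rfl⟩ := (Ideal.mem_map_iff_of_surjective (MvPolynomial.eval y) hevsurj).1 he
    have hF0 : MvPolynomial.eval x (MvPolynomial.map (X.proj : X.E →+* R) Ft) = 0 := by
      rw [← hev]
      exact hpe
    have hFmem : MvPolynomial.map (X.proj : X.E →+* R) Ft ∈ 𝔐 ^ (c + 1) := by
      have hle : Ideal.span (Set.range (MvPolynomial.X : s → MvPolynomial s X.E)) ≤
          Ideal.comap (MvPolynomial.map (X.proj : X.E →+* R)) 𝔐 := by
        rw [Ideal.span_le]
        rintro _ ⟨i, rfl⟩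
        show MvPolynomial.map (X.proj : X.E →+* R) (MvPolynomial.X i) ∈ 𝔐
        rw [MvPolynomial.map_X]
        exact Ideal.subset_span (Set.mem_range_self i)
      exact Ideal.le_comap_pow _ (c + 1) (Ideal.pow_right_mono hle (c + 1) hFt)
    obtain ⟨G, hG0, hFG⟩ := hAR _ hFmem hF0
    choose Gt hGt using fun i => MvPolynomial.map_surjective (X.proj : X.E →+* R) hsurj (G i)
    have hQ0 : MvPolynomial.map (X.proj : X.E →+* R) (Ft - ∑ i, MvPolynomial.X i * Gt i) = 0 := by
      rw [map_sub, map_sum, hFG, sub_eq_zero]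
      refine Finset.sum_congr rfl (fun i _ => ?_)
      rw [map_mul, MvPolynomial.map_X, hGt]
    have hQcoeff : ∀ m, X.proj (MvPolynomial.coeff m (Ft - ∑ i, MvPolynomial.X i * Gt i)) = 0 := by
      intro m
      have h := MvPolynomial.coeff_map (X.proj : X.E →+* R) (Ft - ∑ i, MvPolynomial.X i * Gt i) m
      rw [hQ0, MvPolynomial.coeff_zero] at h
      exact h.symm
    have hcc𝔐 : ∀ P ∈ Ideal.span (Set.range (MvPolynomial.X : s → MvPolynomial s X.E)),
        MvPolynomial.constantCoeff P = 0 := by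
      intro P hP
      obtain ⟨c', rfl⟩ := Ideal.mem_span_range_iff_exists_fun.1 hP
      rw [map_sum]
      refine Finset.sum_eq_zero (fun i _ => ?_)
      rw [map_mul, MvPolynomial.constantCoeff_X, mul_zero]
    have hQcc : MvPolynomial.constantCoeff (Ft - ∑ i, MvPolynomial.X i * Gt i) = 0 := by
      rw [map_sub, hcc𝔐 Ft (Ideal.pow_le_self (Nat.succ_ne_zero c) hFt), map_sum, zero_sub,
        neg_eq_zero]
      refine Finset.sum_eq_zero (fun i _ => ?_)
      rw [map_mul, MvPolynomial.constantCoeff_X, zero_mul]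
    have hQev : MvPolynomial.eval y (Ft - ∑ i, MvPolynomial.X i * Gt i) = 0 := by
      rw [MvPolynomial.eval_eq]
      refine Finset.sum_eq_zero (fun m _ => ?_)
      by_cases hm : m = 0
      · have h0 : MvPolynomial.coeff 0 (Ft - ∑ i, MvPolynomial.X i * Gt i) = 0 := hQcc
        rw [hm, h0, zero_mul]
      · obtain ⟨i, hi⟩ : ∃ i, m i ≠ 0 := by
          by_contra hcon
          push Not at hcon
          exact hm (Finsupp.ext hcon)
        have hi' : i ∈ m.support := Finsupp.mem_support_iff.2 hi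
        obtain ⟨w, hw⟩ : y i ∣ ∏ j ∈ m.support, y j ^ m j :=
          (dvd_pow_self (y i) hi).trans (Finset.dvd_prod_of_mem (fun j => y j ^ m j) hi')
        rw [hw, ← mul_assoc, mul_comm _ (y i), hkill i _ (hQcoeff m), zero_mul]
    have hsum : MvPolynomial.eval y (∑ i, MvPolynomial.X i * Gt i) = 0 := by
      rw [map_sum]
      refine Finset.sum_eq_zero (fun i _ => ?_)
      rw [map_mul, MvPolynomial.eval_X]
      apply hkill
      rw [hev, hGt]
      exact hG0 i
    have hsplit : Ft = (Ft - ∑ i, MvPolynomial.X i * Gt i) + ∑ i, MvPolynomial.X i * Gt i := by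
      ring
    rw [hsplit, map_add, hQev, hsum, add_zero]
  · rw [Ideal.map_pow, Ideal.map_span, ← Set.range_comp, ← hxspan]
    have hxy' : (⇑X.proj ∘ y) = x := funext hy
    rw [hxy']


section Simple

theorem smul_eq_zero_of_simple {S : Type u} [CommRing S] [IsLocalRing S] (L : Type u)
    [AddCommGroup L] [Module S L] [IsSimpleModule S L] {s : S} (hs : s ∈ maximalIdeal S) (z : L) :
    s • z = 0 := by
  obtain ⟨M, hM, ⟨e⟩⟩ := isSimpleModule_iff_quot_maximal.mp (inferInstance : IsSimpleModule S L)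
  have h1 : M = maximalIdeal S := IsLocalRing.eq_maximalIdeal hM
  apply e.injective
  rw [map_zero, map_smul]
  obtain ⟨r, hr⟩ := Ideal.Quotient.mk_surjective (e z)
  rw [← hr]
  have h3 : s • Ideal.Quotient.mk M r = Ideal.Quotient.mk M (s * r) := rfl
  rw [h1] at h3 ⊢
  exact h3.trans (Ideal.Quotient.eq_zero_iff_mem.mpr (Ideal.mul_mem_right _ _ hs))

end Simple

section Compl

variable {R : Type u} [CommRing R] [IsLocalRing R] [IsNoetherianRing R]

instance isNoetherianRing_compl : IsNoetherianRing (AdicCompletion (maximalIdeal R) R) :=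
  Groth.Agent.Helper1.isNoetherianRing_adicCompletion_of_fg R (maximalIdeal R)
    (IsNoetherian.noetherian (maximalIdeal R))

/-- an element of the completion differs from a representative of its class mod `m^N` by an
element of `m^N R̂` -/
theorem sub_of_mem (N : ℕ) (x : AdicCompletion (maximalIdeal R) R) (r : R)
    (h : AdicCompletion.evalₐ (maximalIdeal R) N x = Ideal.Quotient.mk _ r) :
    x - AdicCompletion.of (maximalIdeal R) R r ∈
      (maximalIdeal R ^ N • ⊤ : Submodule R (AdicCompletion (maximalIdeal R) R)) := by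
  rw [AdicCompletion.pow_smul_top_eq_ker_eval (IsNoetherian.noetherian (maximalIdeal R)),
    LinearMap.mem_ker]
  have h1 : AdicCompletion.evalₐ (maximalIdeal R) N
      (x - AdicCompletion.of (maximalIdeal R) R r) = 0 := by
    rw [map_sub, h, AdicCompletion.evalₐ_of, sub_self]
  have h2 := AdicCompletion.factor_evalₐ_eq_eval (I := maximalIdeal R) (n := N)
    (x - AdicCompletion.of (maximalIdeal R) R r) (by rw [smul_eq_mul, Ideal.mul_top])
  rw [← h2, h1, map_zero]

/-- uniqueness of `R`-algebra maps from the completion into algebras killed by a power of `m` -/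
theorem algHom_compl_ext {A : Type*} [CommRing A] [Algebra R A] (N : ℕ)
    (hA : ∀ a ∈ maximalIdeal R ^ N, algebraMap R A a = 0)
    (φ ψ : AdicCompletion (maximalIdeal R) R →ₐ[R] A) : φ = ψ := by
  have hkill : ∀ (χ : AdicCompletion (maximalIdeal R) R →ₐ[R] A),
      ∀ x ∈ (maximalIdeal R ^ N • ⊤ : Submodule R (AdicCompletion (maximalIdeal R) R)),
        χ x = 0 := by
    intro χ x hx
    refine Submodule.smul_induction_on hx ?_ ?_
    · intro a ha y _
      rw [map_smul, Algebra.smul_def, hA a ha, zero_mul]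
    · intro y y' hy hy'
      rw [map_add, hy, hy', add_zero]
  apply AlgHom.ext
  intro x
  obtain ⟨r, hr⟩ := Ideal.Quotient.mk_surjective (AdicCompletion.evalₐ (maximalIdeal R) N x)
  have hx := sub_of_mem N x r hr.symm
  have h1 : x = AdicCompletion.of (maximalIdeal R) R r +
      (x - AdicCompletion.of (maximalIdeal R) R r) := by abel
  have hof : AdicCompletion.of (maximalIdeal R) R r =
      algebraMap R (AdicCompletion (maximalIdeal R) R) r := rfl
  rw [h1, map_add, map_add, hkill φ _ hx, hkill ψ _ hx, hof, AlgHom.commutes, AlgHom.commutes]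

variable (L : Type u) [AddCommGroup L] [Module (AdicCompletion (maximalIdeal R) R) L] [Module R L]
  [IsScalarTower R (AdicCompletion (maximalIdeal R) R) L]

theorem of_smul (r : R) (z : L) : AdicCompletion.of (maximalIdeal R) R r • z = r • z := by
  have hof : AdicCompletion.of (maximalIdeal R) R r =
      algebraMap R (AdicCompletion (maximalIdeal R) R) r := rfl
  rw [hof, algebraMap_smul]

theorem compl_smul_eq_zero [IsSimpleModule R L] {x : AdicCompletion (maximalIdeal R) R}
    (hx : x ∈ maximalIdeal (AdicCompletion (maximalIdeal R) R)) (z : L) : x • z = 0 := by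
  rw [AdicCompletion.maximalIdeal_eq_map, Ideal.map] at hx
  revert z
  refine Submodule.span_induction (p := fun y _ => ∀ z : L, y • z = 0) ?_ ?_ ?_ ?_ hx
  · rintro _ ⟨a, ha, rfl⟩ z
    show AdicCompletion.of (maximalIdeal R) R a • z = 0
    rw [of_smul]
    exact smul_eq_zero_of_simple L ha z
  · intro z; rw [zero_smul]
  · intro y y' _ _ hy hy' z
    rw [add_smul, hy, hy', add_zero]
  · intro t y _ hy z
    rw [smul_eq_mul, mul_smul, hy, smul_zero]

/-- if `x ≡ r` modulo `m^(n+1)` then `x` and `r` act in the same way on `L` -/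
theorem compl_smul_eq [IsSimpleModule R L] (n : ℕ) (x : AdicCompletion (maximalIdeal R) R) (r : R)
    (h : AdicCompletion.evalₐ (maximalIdeal R) (n + 1) x = Ideal.Quotient.mk _ r) (z : L) :
    x • z = r • z := by
  have hx := sub_of_mem (n + 1) x r h
  have hkill : ∀ y ∈ (maximalIdeal R ^ (n + 1) • ⊤ :
      Submodule R (AdicCompletion (maximalIdeal R) R)), y • z = 0 := by
    intro y hy
    refine Submodule.smul_induction_on hy ?_ ?_
    · intro a ha y _
      rw [smul_assoc]
      exact smul_eq_zero_of_simple L (Ideal.pow_le_self (Nat.succ_ne_zero n) ha) _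
    · intro y y' hy hy'
      rw [add_smul, hy, hy', add_zero]
  have h1 : x = AdicCompletion.of (maximalIdeal R) R r +
      (x - AdicCompletion.of (maximalIdeal R) R r) := by abel
  rw [h1, add_smul, hkill _ hx, add_zero, of_smul]

end Compl

section Glue

variable {A : Type*} {B L : Type u} [CommRing A] [CommRing B] [Algebra A B] [AddCommGroup L]
  [Module B L]

/-- gluing a lift modulo an ideal `I` meeting the kernel trivially with a map to the base -/
theorem exists_glue (X : Exal.Ext A B L) (I : Ideal X.E) (𝔟 : Ideal B)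
    (hI0 : ∀ x ∈ I, X.proj x = 0 → x = 0) (hIb : Ideal.map X.proj I = 𝔟)
    {C : Type*} [CommRing C] [Algebra A C]
    (σb : C →ₐ[A] X.E ⧸ I) (τ : C →ₐ[A] B)
    (hcomp : ∀ (c : C) (f : X.E), Ideal.Quotient.mk I f = σb c → X.proj f - τ c ∈ 𝔟) :
    ∃ σ : C →ₐ[A] X.E, (∀ c, X.proj (σ c) = τ c) ∧ ∀ c, Ideal.Quotient.mk I (σ c) = σb c := by
  obtain ⟨Ψ, hΨ1, hΨ2⟩ : ∃ Ψ : X.E →ₐ[A] (X.E ⧸ I) × B,
      (∀ x, (Ψ x).1 = Ideal.Quotient.mk I x) ∧ (∀ x, (Ψ x).2 = X.proj x) :=
    ⟨AlgHom.prod (Ideal.Quotient.mkₐ A I) X.proj, fun _ => rfl, fun _ => rfl⟩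
  have hinj : Function.Injective Ψ := by
    rw [injective_iff_map_eq_zero]
    intro x hx
    have h1 : Ideal.Quotient.mk I x = 0 := by
      rw [← hΨ1, hx]
      rfl
    have h2 : X.proj x = 0 := by
      rw [← hΨ2, hx]
      rfl
    exact hI0 x (Ideal.Quotient.eq_zero_iff_mem.1 h1) h2
  obtain ⟨g, hg1, hg2⟩ : ∃ g : C →ₐ[A] (X.E ⧸ I) × B,
      (∀ c, (g c).1 = σb c) ∧ (∀ c, (g c).2 = τ c) :=
    ⟨AlgHom.prod σb τ, fun _ => rfl, fun _ => rfl⟩
  have hmem : ∀ c : C, g c ∈ Ψ.range := by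
    intro c
    obtain ⟨f₁, hf₁⟩ := Ideal.Quotient.mk_surjective (σb c)
    have h1 := hcomp c f₁ hf₁
    rw [← hIb] at h1
    obtain ⟨ι, hι, hιp⟩ :=
      (Ideal.mem_map_iff_of_surjective X.proj X.isExtension.proj_surjective).1 h1
    rw [AlgHom.mem_range]
    refine ⟨f₁ - ι, ?_⟩
    apply Prod.ext
    · rw [hΨ1, hg1, map_sub, Ideal.Quotient.eq_zero_iff_mem.2 hι, sub_zero, hf₁]
    · rw [hΨ2, hg2, map_sub, hιp]
      abel
  refine ⟨(AlgEquiv.ofInjective Ψ hinj).symm.toAlgHom.comp (g.codRestrict Ψ.range hmem), ?_, ?_⟩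
  · intro c
    have h2 := (AlgEquiv.ofInjective Ψ hinj).apply_symm_apply (g.codRestrict Ψ.range hmem c)
    have h3 := congrArg Subtype.val h2
    have h4 : Ψ ((AlgEquiv.ofInjective Ψ hinj).symm (g.codRestrict Ψ.range hmem c)) = g c := h3
    show X.proj ((AlgEquiv.ofInjective Ψ hinj).symm (g.codRestrict Ψ.range hmem c)) = τ c
    rw [← hΨ2, h4, hg2]
  · intro c
    have h2 := (AlgEquiv.ofInjective Ψ hinj).apply_symm_apply (g.codRestrict Ψ.range hmem c)
    have h3 := congrArg Subtype.val h2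
    have h4 : Ψ ((AlgEquiv.ofInjective Ψ hinj).symm (g.codRestrict Ψ.range hmem c)) = g c := h3
    show Ideal.Quotient.mk I
      ((AlgEquiv.ofInjective Ψ hinj).symm (g.codRestrict Ψ.range hmem c)) = σb c
    rw [← hΨ1, h4, hg1]

end Glue

section Triv

variable {R : Type u} [CommRing R] [IsLocalRing R] [IsNoetherianRing R]
variable (L : Type u) [AddCommGroup L] [Module (AdicCompletion (maximalIdeal R) R) L] [Module R L]
  [IsScalarTower R (AdicCompletion (maximalIdeal R) R) L] [IsSimpleModule R L]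

theorem map_pow_mem (n : ℕ) {a : R} (ha : a ∈ maximalIdeal R ^ n) :
    algebraMap R (AdicCompletion (maximalIdeal R) R) a ∈
      maximalIdeal (AdicCompletion (maximalIdeal R) R) ^ n := by
  rw [AdicCompletion.maximalIdeal_eq_map, ← Ideal.map_pow]
  exact Ideal.mem_map_of_mem _ ha

/-- every `R`-extension of the completion `R̂` by a simple module is trivial -/
theorem compl_ext_isTrivial (X : Exal.Ext R (AdicCompletion (maximalIdeal R) R) L) :
    X.IsTrivial := by
  obtain ⟨n, hn⟩ := exists_uniform_pow' (Λ := R) (R := AdicCompletion (maximalIdeal R) R) L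
    (fun r hr z => compl_smul_eq_zero L hr z)
  obtain ⟨I, hI0, hIb⟩ := hn X
  have hX := X.isExtension
  -- elements of `m^(n+1)` land in `I + incl L`
  have h1 : ∀ a ∈ maximalIdeal R ^ (n + 1), ∃ ι ∈ I, ∃ z : L,
      algebraMap R X.E a = ι + X.incl z := by
    intro a ha
    have h2 : X.proj (algebraMap R X.E a) ∈
        maximalIdeal (AdicCompletion (maximalIdeal R) R) ^ (n + 1) := by
      rw [AlgHom.commutes]
      exact map_pow_mem (n + 1) ha
    rw [← hIb] at h2
    obtain ⟨ι, hι, hιp⟩ := (Ideal.mem_map_iff_of_surjective X.proj hX.proj_surjective).1 h2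
    have h3 : X.proj (algebraMap R X.E a - ι) = 0 := by rw [map_sub, hιp, sub_self]
    obtain ⟨z, hz⟩ := (hX.exact _).1 h3
    refine ⟨ι, hι, z, ?_⟩
    rw [hz]
    abel
  have hkill : ∀ a ∈ maximalIdeal R ^ (n + 1 + 1), algebraMap R X.E a ∈ I := by
    intro a ha
    rw [pow_succ'] at ha
    refine Submodule.mul_induction_on ha ?_ ?_
    · intro b hb a' ha'
      obtain ⟨ι, hι, z, hz⟩ := h1 a' ha'
      rw [map_mul, hz, mul_add, hX.mul_incl, AlgHom.commutes, algebraMap_smul,
        smul_eq_zero_of_simple L hb z, map_zero, add_zero]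
      exact Ideal.mul_mem_left _ _ hι
    · intro x y hx hy
      rw [map_add]
      exact Ideal.add_mem _ hx hy
  have hkill' : ∀ a ∈ maximalIdeal R ^ (n + 1 + 1), Algebra.ofId R (X.E ⧸ I) a = 0 := by
    intro a ha
    have h : Algebra.ofId R (X.E ⧸ I) a = Ideal.Quotient.mk I (algebraMap R X.E a) := rfl
    rw [h]
    exact Ideal.Quotient.eq_zero_iff_mem.2 (hkill a ha)
  obtain ⟨σb, hσb⟩ : ∃ σb : AdicCompletion (maximalIdeal R) R →ₐ[R] X.E ⧸ I, True :=
    ⟨(Ideal.Quotient.liftₐ (maximalIdeal R ^ (n + 1 + 1)) (Algebra.ofId R (X.E ⧸ I)) hkill').comp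
      (AdicCompletion.evalₐ (maximalIdeal R) (n + 1 + 1)), trivial⟩
  have hle : I ≤ Ideal.comap X.proj
      (maximalIdeal (AdicCompletion (maximalIdeal R) R) ^ (n + 1)) := by
    rw [← hIb]
    exact Ideal.le_comap_map
  have hA : ∀ a ∈ maximalIdeal R ^ (n + 1),
      algebraMap R (AdicCompletion (maximalIdeal R) R ⧸
        maximalIdeal (AdicCompletion (maximalIdeal R) R) ^ (n + 1)) a = 0 := by
    intro a ha
    have h : algebraMap R (AdicCompletion (maximalIdeal R) R ⧸
        maximalIdeal (AdicCompletion (maximalIdeal R) R) ^ (n + 1)) a =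
        Ideal.Quotient.mk _ (algebraMap R (AdicCompletion (maximalIdeal R) R) a) := rfl
    rw [h]
    exact Ideal.Quotient.eq_zero_iff_mem.2 (map_pow_mem (n + 1) ha)
  have hcompat := algHom_compl_ext (n + 1) hA
    ((Ideal.quotientMapₐ (maximalIdeal (AdicCompletion (maximalIdeal R) R) ^ (n + 1)) X.proj
      hle).comp σb)
    (Ideal.Quotient.mkₐ R (maximalIdeal (AdicCompletion (maximalIdeal R) R) ^ (n + 1)))
  obtain ⟨σ, hσ, -⟩ := exists_glue X I
    (maximalIdeal (AdicCompletion (maximalIdeal R) R) ^ (n + 1)) hI0 hIb σb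
    (AlgHom.id R (AdicCompletion (maximalIdeal R) R)) (by
      intro c f hf
      have h2 := DFunLike.congr_fun hcompat c
      rw [AlgHom.comp_apply, ← hf, Ideal.quotient_map_mkₐ] at h2
      have h3 : Ideal.Quotient.mk
          (maximalIdeal (AdicCompletion (maximalIdeal R) R) ^ (n + 1)) (X.proj f) =
          Ideal.Quotient.mk _ c := h2
      rw [Ideal.Quotient.eq] at h3
      exact h3)
  exact ⟨σ, hσ⟩

end Triv

section GlueExt

variable {A : Type*} {B B' L : Type u} [CommRing A] [CommRing B] [Algebra A B] [CommRing B']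
  [Algebra A B'] [AddCommGroup L] [Module B L] [Module B' L]

/-- the fibre product of `E ⧸ I` and `B'` over `B ⧸ 𝔟` -/
def glueSub (Y : Exal.Ext A B L) (I : Ideal Y.E) (𝔟 : Ideal B)
    (hle : I ≤ Ideal.comap Y.proj 𝔟) (ε : B' →ₐ[A] B ⧸ 𝔟) : Subalgebra A ((Y.E ⧸ I) × B') :=
  AlgHom.equalizer ((Ideal.quotientMapₐ 𝔟 Y.proj hle).comp (AlgHom.fst A (Y.E ⧸ I) B'))
    (ε.comp (AlgHom.snd A (Y.E ⧸ I) B'))

theorem mem_glueSub (Y : Exal.Ext A B L) (I : Ideal Y.E) (𝔟 : Ideal B)
    (hle : I ≤ Ideal.comap Y.proj 𝔟) (ε : B' →ₐ[A] B ⧸ 𝔟) (e : Y.E) (x : B') :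
    ((Ideal.Quotient.mk I e, x) : (Y.E ⧸ I) × B') ∈ glueSub Y I 𝔟 hle ε ↔
      Ideal.Quotient.mk 𝔟 (Y.proj e) = ε x := Iff.rfl

/-- the extension of `B'` by `L` glued from `E ⧸ I` and `B'` -/
noncomputable def glueExt (Y : Exal.Ext A B L) (I : Ideal Y.E) (𝔟 : Ideal B)
    (hle : I ≤ Ideal.comap Y.proj 𝔟)
    (hI0 : ∀ x ∈ I, Y.proj x = 0 → x = 0) (hIb : Ideal.map Y.proj I = 𝔟)
    (ε : B' →ₐ[A] B ⧸ 𝔟)
    (hact : ∀ (x : B') (r : B), ε x = Ideal.Quotient.mk 𝔟 r → ∀ z : L, x • z = r • z) :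
    Exal.Ext A B' L where
  E := glueSub Y I 𝔟 hle ε
  proj := (AlgHom.snd A (Y.E ⧸ I) B').comp (glueSub Y I 𝔟 hle ε).val
  incl :=
    { toFun := fun z => ⟨(Ideal.Quotient.mk I (Y.incl z), 0), by
        rw [mem_glueSub, Groth.Agent.Helper17.EX5.proj_incl, map_zero, map_zero]⟩
      map_zero' := by
        apply Subtype.ext
        apply Prod.ext <;> simp
      map_add' := fun z z' => by
        apply Subtype.ext
        apply Prod.ext <;> simp }
  isExtension :=
    { proj_surjective := fun x => by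
        obtain ⟨r, hr⟩ := Ideal.Quotient.mk_surjective (ε x)
        obtain ⟨e, he⟩ := Y.isExtension.proj_surjective r
        exact ⟨⟨(Ideal.Quotient.mk I e, x), (mem_glueSub Y I 𝔟 hle ε e x).2 (by rw [he, hr])⟩, rfl⟩
      incl_injective := fun z z' h => by
        have h1 : Ideal.Quotient.mk I (Y.incl z) = Ideal.Quotient.mk I (Y.incl z') :=
          congrArg (fun e : glueSub Y I 𝔟 hle ε => e.1.1) h
        rw [Ideal.Quotient.eq, ← map_sub] at h1
        have h2 := hI0 _ h1 (Groth.Agent.Helper17.EX5.proj_incl Y _)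
        have h3 : z - z' = 0 := Y.isExtension.incl_injective (h2.trans (map_zero _).symm)
        exact sub_eq_zero.1 h3
      exact := fun x => by
        obtain ⟨⟨eb, x'⟩, hx⟩ := x
        obtain ⟨e, rfl⟩ := Ideal.Quotient.mk_surjective eb
        have hx' := (mem_glueSub Y I 𝔟 hle ε e x').1 hx
        constructor
        · intro hb
          change x' = 0 at hb
          subst hb
          rw [map_zero, Ideal.Quotient.eq_zero_iff_mem, ← hIb] at hx'
          obtain ⟨ι, hι, hιp⟩ :=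
            (Ideal.mem_map_iff_of_surjective Y.proj Y.isExtension.proj_surjective).1 hx'
          have h3 : Y.proj (e - ι) = 0 := by rw [map_sub, hιp, sub_self]
          obtain ⟨z, hz⟩ := (Y.isExtension.exact _).1 h3
          refine ⟨z, Subtype.ext (Prod.ext ?_ rfl)⟩
          show Ideal.Quotient.mk I (Y.incl z) = Ideal.Quotient.mk I e
          rw [hz, map_sub, Ideal.Quotient.eq_zero_iff_mem.2 hι, sub_zero]
        · rintro ⟨z, hz⟩
          have := congrArg (fun e : glueSub Y I 𝔟 hle ε => e.1.2) hz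
          exact this.symm
      mul_incl := fun x z => by
        obtain ⟨⟨eb, x'⟩, hx⟩ := x
        obtain ⟨e, rfl⟩ := Ideal.Quotient.mk_surjective eb
        have hx' := (mem_glueSub Y I 𝔟 hle ε e x').1 hx
        apply Subtype.ext
        apply Prod.ext
        · change Ideal.Quotient.mk I e * Ideal.Quotient.mk I (Y.incl z) =
            Ideal.Quotient.mk I (Y.incl (x' • z))
          rw [← map_mul, Y.isExtension.mul_incl, hact x' (Y.proj e) hx'.symm z]
        · change x' * 0 = 0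
          exact mul_zero _ }

end GlueExt

section GluePullback

variable {A : Type u} {B B' L : Type u} [CommRing A] [CommRing B] [Algebra A B] [CommRing B']
  [Algebra A B'] [AddCommGroup L] [Module B L] [Module B' L] [Algebra B B'] [IsScalarTower A B B']
  [IsScalarTower B B' L]

theorem glueExt_pullback_equiv (Y : Exal.Ext A B L) (I : Ideal Y.E) (𝔟 : Ideal B)
    (hle : I ≤ Ideal.comap Y.proj 𝔟)
    (hI0 : ∀ x ∈ I, Y.proj x = 0 → x = 0) (hIb : Ideal.map Y.proj I = 𝔟)
    (ε : B' →ₐ[A] B ⧸ 𝔟)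
    (hact : ∀ (x : B') (r : B), ε x = Ideal.Quotient.mk 𝔟 r → ∀ z : L, x • z = r • z)
    (hεalg : ∀ b : B, ε (algebraMap B B' b) = Ideal.Quotient.mk 𝔟 b) :
    Nonempty (((glueExt Y I 𝔟 hle hI0 hIb ε hact).pullback B).Equiv Y) := by
  obtain ⟨g₁, hg₁⟩ : ∃ g₁ : Y.E →ₐ[A] (Y.E ⧸ I) × B',
      ∀ e, g₁ e = (Ideal.Quotient.mk I e, algebraMap B B' (Y.proj e)) :=
    ⟨AlgHom.prod (Ideal.Quotient.mkₐ A I) ((IsScalarTower.toAlgHom A B B').comp Y.proj),
      fun _ => rfl⟩
  have hmem1 : ∀ e, g₁ e ∈ glueSub Y I 𝔟 hle ε := by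
    intro e
    rw [hg₁, mem_glueSub, hεalg]
  obtain ⟨g₁', hg₁'⟩ : ∃ g₁' : Y.E →ₐ[A] ↥(glueSub Y I 𝔟 hle ε),
      ∀ e, ((g₁' e : glueSub Y I 𝔟 hle ε) : (Y.E ⧸ I) × B') =
        (Ideal.Quotient.mk I e, algebraMap B B' (Y.proj e)) :=
    ⟨g₁.codRestrict (glueSub Y I 𝔟 hle ε) hmem1, fun e => hg₁ e⟩
  obtain ⟨g₂, hg₂⟩ : ∃ g₂ : Y.E →ₐ[A] (glueExt Y I 𝔟 hle hI0 hIb ε hact).E × B,
      ∀ e, g₂ e = ((g₁' e : (glueExt Y I 𝔟 hle hI0 hIb ε hact).E), Y.proj e) :=
    ⟨AlgHom.prod (g₁' : Y.E →ₐ[A] (glueExt Y I 𝔟 hle hI0 hIb ε hact).E) Y.proj, fun _ => rfl⟩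
  have hmem2 : ∀ e, g₂ e ∈ (glueExt Y I 𝔟 hle hI0 hIb ε hact).fiberProd B := by
    intro e
    rw [hg₂]
    show ((g₁' e : glueSub Y I 𝔟 hle ε) : (Y.E ⧸ I) × B').2 = algebraMap B B' (Y.proj e)
    rw [hg₁']
  have hequiv := Groth.Agent.Helper17.EX5.equiv_of_hom Y
    ((glueExt Y I 𝔟 hle hI0 hIb ε hact).pullback B)
    (g₂.codRestrict ((glueExt Y I 𝔟 hle hI0 hIb ε hact).fiberProd B) hmem2)
    (fun e => by
      show (g₂ e).2 = Y.proj e
      rw [hg₂])
    (fun z => by
      apply Subtype.ext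
      show g₂ (Y.incl z) = ((glueExt Y I 𝔟 hle hI0 hIb ε hact).incl z, 0)
      rw [hg₂, Groth.Agent.Helper17.EX5.proj_incl]
      refine Prod.ext ?_ rfl
      apply Subtype.ext
      show ((g₁' (Y.incl z) : glueSub Y I 𝔟 hle ε) : (Y.E ⧸ I) × B') =
        (Ideal.Quotient.mk I (Y.incl z), 0)
      rw [hg₁', Groth.Agent.Helper17.EX5.proj_incl, map_zero])
  obtain ⟨e⟩ := hequiv
  exact ⟨e.symm⟩

end GluePullback

section Final

variable {Λ : Type u} [CommRing Λ] {R : Type u} [CommRing R] [Algebra Λ R] [IsLocalRing R]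
  [IsNoetherianRing R]
variable (L : Type u) [AddCommGroup L] [Module (AdicCompletion (maximalIdeal R) R) L] [Module R L]
  [IsScalarTower R (AdicCompletion (maximalIdeal R) R) L] [IsSimpleModule R L]

/-- every `Λ`-extension of `R` by a simple module is the inverse image of one of `R̂` -/
theorem exists_ext_compl (Y : Exal.Ext Λ R L) :
    ∃ X : Exal.Ext Λ (AdicCompletion (maximalIdeal R) R) L,
      Nonempty ((X.pullback R).Equiv Y) := by
  obtain ⟨n, hn⟩ := exists_uniform_pow' (Λ := Λ) (R := R) L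
    (fun r hr z => smul_eq_zero_of_simple L hr z)
  obtain ⟨I, hI0, hIb⟩ := hn Y
  have hle : I ≤ Ideal.comap Y.proj (maximalIdeal R ^ (n + 1)) := by
    rw [← hIb]
    exact Ideal.le_comap_map
  obtain ⟨ε, hε⟩ : ∃ ε : AdicCompletion (maximalIdeal R) R →ₐ[Λ] R ⧸ maximalIdeal R ^ (n + 1),
      ∀ x, ε x = AdicCompletion.evalₐ (maximalIdeal R) (n + 1) x :=
    ⟨(AdicCompletion.evalₐ (maximalIdeal R) (n + 1)).restrictScalars Λ, fun _ => rfl⟩
  have hact : ∀ (x : AdicCompletion (maximalIdeal R) R) (r : R),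
      ε x = Ideal.Quotient.mk (maximalIdeal R ^ (n + 1)) r → ∀ z : L, x • z = r • z := by
    intro x r h z
    rw [hε] at h
    exact compl_smul_eq L n x r h z
  have hεalg : ∀ b : R, ε (algebraMap R (AdicCompletion (maximalIdeal R) R) b) =
      Ideal.Quotient.mk (maximalIdeal R ^ (n + 1)) b := by
    intro b
    rw [hε]
    exact AdicCompletion.evalₐ_of (maximalIdeal R) (n + 1) b
  exact ⟨glueExt Y I (maximalIdeal R ^ (n + 1)) hle hI0 hIb ε hact,
    glueExt_pullback_equiv Y I (maximalIdeal R ^ (n + 1)) hle hI0 hIb ε hact hεalg⟩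

theorem S11283_statement :
    (∀ X X' : Exal.Ext Λ (AdicCompletion (IsLocalRing.maximalIdeal R) R) L,
        Nonempty ((X.pullback R).Equiv (X'.pullback R)) → Nonempty (X.Equiv X')) ∧
    (∀ Y : Exal.Ext Λ R L, ∃ X : Exal.Ext Λ (AdicCompletion (IsLocalRing.maximalIdeal R) R) L,
        Nonempty ((X.pullback R).Equiv Y)) := by
  refine ⟨?_, fun Y => exists_ext_compl L Y⟩
  rintro X X' ⟨θ⟩
  exact Groth.Agent.Helper17.EX5.equiv_of_pullback_equiv (B₀ := R)
    (fun Z => compl_ext_isTrivial L Z) X X' θ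

end Final

end Groth.Agent.Helper11.ExalCompl
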