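import Mathlib
import Groth.Agent.Lib.Helper17.EX3
import Groth.Agent.Lib.Helper17.EX5
import Groth.Agent.Lib.Helper18.Schl.PSEval

set_option autoImplicit false

namespace Groth.Agent.Helper11.ExalPS

universe u
open IsLocalRing MvPowerSeries

attribute [local instance] Exal.opModule Exal.isCentralScalar_opModule

section Lift

variable {k Λ : Type u} [Field k] [CommRing Λ] [Algebra k Λ] [IsLocalRing Λ]

/-- power series rings lift along small extensions of local Artinian algebras -/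
theorem ps_hlift (d : ℕ)
    (B : Type u) [CommRing B] [Algebra Λ B] [IsLocalRing B] [IsArtinianRing B]
    (hB : ∀ b : B, ∃ c : k, b - algebraMap Λ B (algebraMap k Λ c) ∈ maximalIdeal B)
    (t : B) (ht : t ∈ maximalIdeal B)
    (φ : MvPowerSeries (Fin d) Λ →ₐ[Λ] B ⧸ Ideal.span {t}) :
    ∃ φ' : MvPowerSeries (Fin d) Λ →ₐ[Λ] B,
      (Ideal.Quotient.mkₐ Λ (Ideal.span {t})).comp φ' = φ := by
  have hspan : Ideal.span {t} ≤ maximalIdeal B := by
    rw [Ideal.span_le, Set.singleton_subset_iff]; exact ht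
  choose b hb using fun i => Ideal.Quotient.mk_surjective (I := Ideal.span {t}) (φ (X i))
  have hbm : ∀ i, b i ∈ maximalIdeal B := by
    intro i
    by_contra hcon
    have hu : IsUnit (b i) := by
      by_contra h
      exact hcon ((IsLocalRing.mem_maximalIdeal _).mpr h)
    obtain ⟨v, hv⟩ := hu.exists_right_inv
    obtain ⟨c, hc⟩ := hB v
    -- the unit `1 - X_i * C λ`
    have hg : IsUnit (1 - X i * C (algebraMap k Λ c) : MvPowerSeries (Fin d) Λ) := by
      rw [MvPowerSeries.isUnit_iff_constantCoeff, map_sub, map_one, map_mul, constantCoeff_X,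
        zero_mul, sub_zero]
      exact isUnit_one
    have hφg : IsUnit (φ (1 - X i * C (algebraMap k Λ c))) := hg.map φ
    have hCalg : (C (algebraMap k Λ c) : MvPowerSeries (Fin d) Λ) =
        algebraMap Λ (MvPowerSeries (Fin d) Λ) (algebraMap k Λ c) := by
      rw [MvPowerSeries.algebraMap_apply, Algebra.algebraMap_self, RingHom.id_apply]
    have h1 : φ (1 - X i * C (algebraMap k Λ c)) =
        Ideal.Quotient.mk (Ideal.span {t}) (1 - b i * algebraMap Λ B (algebraMap k Λ c)) := by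
      rw [map_sub, map_one, map_mul, hCalg, AlgHom.commutes, ← hb i, map_sub, map_one, map_mul]
      rfl
    rw [h1] at hφg
    have hy : 1 - b i * algebraMap Λ B (algebraMap k Λ c) ∈ maximalIdeal B := by
      have h2 : 1 - b i * algebraMap Λ B (algebraMap k Λ c) =
          b i * (v - algebraMap Λ B (algebraMap k Λ c)) := by
        rw [mul_sub, hv]
      rw [h2]
      exact Ideal.mul_mem_left _ _ hc
    obtain ⟨w, hw⟩ := hφg.exists_right_inv
    obtain ⟨w', rfl⟩ := Ideal.Quotient.mk_surjective w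
    rw [← map_mul, ← map_one (Ideal.Quotient.mk (Ideal.span {t})), Ideal.Quotient.eq] at hw
    have h3 := hspan hw
    have h4 : (1 : B) ∈ maximalIdeal B := by
      have h5 : (1 : B) = (1 - b i * algebraMap Λ B (algebraMap k Λ c)) * w' -
          ((1 - b i * algebraMap Λ B (algebraMap k Λ c)) * w' - 1) := by ring
      rw [h5]
      exact sub_mem (Ideal.mul_mem_right _ _ hy) h3
    exact (Ideal.ne_top_iff_one _).mp (IsLocalRing.maximalIdeal.isMaximal B).ne_top h4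
  obtain ⟨N, hN⟩ := IsArtinianRing.isNilpotent_jacobson_bot (R := B)
  rw [IsLocalRing.jacobson_eq_maximalIdeal ⊥ bot_ne_top, Ideal.zero_eq_bot] at hN
  refine ⟨Groth.Agent.Helper18.psEvalHom b (maximalIdeal B) N hN hbm, ?_⟩
  refine Groth.Agent.Helper18.ps_algHom_ext _ _
    ((maximalIdeal B).map (Ideal.Quotient.mk (Ideal.span {t}))) N ?_ ?_ ?_
  · rw [← Ideal.map_pow, hN, Ideal.map_bot]
  · intro i
    rw [AlgHom.comp_apply, Groth.Agent.Helper18.psEvalHom_X]
    exact Ideal.mem_map_of_mem _ (hbm i)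
  · intro i
    rw [AlgHom.comp_apply, Groth.Agent.Helper18.psEvalHom_X]
    exact hb i

theorem ps_residue (hΛ : ∀ a : Λ, ∃ c : k, a - algebraMap k Λ c ∈ maximalIdeal Λ) (d : ℕ)
    (r : MvPowerSeries (Fin d) Λ) :
    ∃ c : k, r - algebraMap Λ (MvPowerSeries (Fin d) Λ) (algebraMap k Λ c) ∈
      maximalIdeal (MvPowerSeries (Fin d) Λ) := by
  obtain ⟨c, hc⟩ := hΛ (constantCoeff r)
  refine ⟨c, ?_⟩
  rw [Groth.Agent.Helper18.ps_mem_maximalIdeal_iff, map_sub, MvPowerSeries.algebraMap_apply,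
    Algebra.algebraMap_self, RingHom.id_apply, constantCoeff_C]
  exact hc

theorem ps_ext_isTrivial [IsNoetherianRing Λ]
    (hΛ : ∀ a : Λ, ∃ c : k, a - algebraMap k Λ c ∈ maximalIdeal Λ) (d : ℕ)
    (X : Exal.Ext Λ (MvPowerSeries (Fin d) Λ) (ResidueField (MvPowerSeries (Fin d) Λ))) :
    X.IsTrivial :=
  Groth.Agent.Helper17.EX.isTrivial_of_lifting (k := k) (ps_residue hΛ d)
    (fun B _ _ _ _ hB t ht _ φ => ps_hlift d B hB t ht φ) X

end Lift

section Simple

theorem smul_eq_zero_of_mem_maximalIdeal {P : Type u} [CommRing P] [IsLocalRing P] (J : Ideal P)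
    (L : Type u) [AddCommGroup L]
    [Module (P ⧸ J) L] [Module P L] [IsScalarTower P (P ⧸ J) L] [IsSimpleModule (P ⧸ J) L]
    {p : P} (hp : p ∈ maximalIdeal P) (z : L) :
    p • z = 0 := by
  obtain ⟨M, hM, ⟨e⟩⟩ := isSimpleModule_iff_quot_maximal.mp
    (inferInstance : IsSimpleModule (P ⧸ J) L)
  have h1 : M.comap (Ideal.Quotient.mk J) = maximalIdeal P := by
    haveI := Ideal.comap_isMaximal_of_surjective (Ideal.Quotient.mk J)
      Ideal.Quotient.mk_surjective (K := M)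
    exact IsLocalRing.eq_maximalIdeal this
  have h2 : Ideal.Quotient.mk J p ∈ M := by
    rw [← h1] at hp; exact hp
  apply e.injective
  rw [map_zero, ← algebraMap_smul (P ⧸ J) p z, map_smul]
  obtain ⟨r, hr⟩ := Ideal.Quotient.mk_surjective (e z)
  rw [← hr]
  have h3 : Ideal.Quotient.mk J p • Ideal.Quotient.mk M r =
      Ideal.Quotient.mk M (Ideal.Quotient.mk J p * r) := rfl
  exact h3.trans (Ideal.Quotient.eq_zero_iff_mem.mpr (M.mul_mem_right _ h2))

theorem exists_linearEquiv_residueField {P : Type u} [CommRing P] [IsLocalRing P] (J : Ideal P)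
    (L : Type u) [AddCommGroup L]
    [Module (P ⧸ J) L] [Module P L] [IsScalarTower P (P ⧸ J) L] [IsSimpleModule (P ⧸ J) L] :
    Nonempty (ResidueField P ≃ₗ[P] L) := by
  haveI : Nontrivial L := IsSimpleModule.nontrivial (P ⧸ J) L
  obtain ⟨z₀, hz₀⟩ := exists_ne (0 : L)
  let f : P →ₗ[P] L := LinearMap.toSpanSingleton P L z₀
  have hker : LinearMap.ker f = maximalIdeal P := by
    have h1 : maximalIdeal P ≤ LinearMap.ker f := fun p hp => by
      rw [LinearMap.mem_ker, LinearMap.toSpanSingleton_apply]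
      exact smul_eq_zero_of_mem_maximalIdeal J L hp z₀
    have h2 : LinearMap.ker f ≠ ⊤ := by
      intro h
      have h3 : (1 : P) ∈ LinearMap.ker f := by rw [h]; trivial
      rw [LinearMap.mem_ker, LinearMap.toSpanSingleton_apply, one_smul] at h3
      exact hz₀ h3
    exact ((maximalIdeal.isMaximal P).eq_of_le h2 h1).symm
  have hsurj : Function.Surjective f := by
    let N : Submodule (P ⧸ J) L :=
      { carrier := LinearMap.range f
        add_mem' := fun ha hb => (LinearMap.range f).add_mem ha hb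
        zero_mem' := (LinearMap.range f).zero_mem
        smul_mem' := fun r x hx => by
          obtain ⟨p, rfl⟩ := Ideal.Quotient.mk_surjective r
          have h : Ideal.Quotient.mk J p • x = p • x := algebraMap_smul (P ⧸ J) p x
          rw [h]
          exact (LinearMap.range f).smul_mem p hx }
    have hz₀N : z₀ ∈ N := ⟨1, by rw [LinearMap.toSpanSingleton_apply, one_smul]⟩
    have hN : N = ⊤ := (eq_bot_or_eq_top N).resolve_left (fun h => hz₀ (by
      rw [h] at hz₀N; exact hz₀N))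
    intro z
    have hz : z ∈ N := by rw [hN]; trivial
    exact hz
  exact ⟨(Submodule.quotEquivOfEq _ _ hker.symm).trans (f.quotKerEquivOfSurjective hsurj)⟩

end Simple

section Transport

variable {A : Type u} {B L L' : Type u} [CommRing A] [CommRing B] [Algebra A B] [AddCommGroup L]
  [Module B L] [AddCommGroup L'] [Module B L']

/-- transport of an extension along an isomorphism of the kernel modules -/
def transport (X : Exal.Ext A B L) (e : L' ≃ₗ[B] L) : Exal.Ext A B L' where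
  E := X.E
  commRing := X.commRing
  algebra := X.algebra
  proj := X.proj
  incl := X.incl.comp e.toLinearMap.toAddMonoidHom
  isExtension :=
    { proj_surjective := X.isExtension.proj_surjective
      incl_injective := X.isExtension.incl_injective.comp e.injective
      exact := fun x => by
        rw [X.isExtension.exact]
        constructor
        · rintro ⟨z, rfl⟩
          exact ⟨e.symm z, by simp⟩
        · rintro ⟨z, rfl⟩
          exact ⟨e z, rfl⟩
      mul_incl := fun x z => by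
        show x * X.incl (e z) = X.incl (e (X.proj x • z))
        rw [X.isExtension.mul_incl, e.map_smul] }

end Transport

section LiftA

variable {k Λ : Type u} [Field k] [CommRing Λ] [Algebra k Λ] [IsLocalRing Λ] [IsNoetherianRing Λ]

theorem exists_lift (hΛ : ∀ a : Λ, ∃ c : k, a - algebraMap k Λ c ∈ maximalIdeal Λ) (d : ℕ)
    (J : Ideal (MvPowerSeries (Fin d) Λ)) (L : Type u) [AddCommGroup L]
    [Module (MvPowerSeries (Fin d) Λ ⧸ J) L] [Module (MvPowerSeries (Fin d) Λ) L]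
    [IsScalarTower (MvPowerSeries (Fin d) Λ) (MvPowerSeries (Fin d) Λ ⧸ J) L]
    [IsSimpleModule (MvPowerSeries (Fin d) Λ ⧸ J) L]
    (X : Exal.Ext Λ (MvPowerSeries (Fin d) Λ ⧸ J) L) :
    ∃ u : MvPowerSeries (Fin d) Λ →ₐ[Λ] X.E, ∀ p, X.proj (u p) = Ideal.Quotient.mk J p := by
  obtain ⟨e⟩ := exists_linearEquiv_residueField J L
  obtain ⟨s, hs⟩ := ps_ext_isTrivial (k := k) hΛ d
    (transport (X.pullback (MvPowerSeries (Fin d) Λ)) e)
  let s' : MvPowerSeries (Fin d) Λ →ₐ[Λ] ↥(X.fiberProd (MvPowerSeries (Fin d) Λ)) := s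
  have hs' : ∀ p, ((s' p : ↥(X.fiberProd (MvPowerSeries (Fin d) Λ))) :
      X.E × MvPowerSeries (Fin d) Λ).2 = p := hs
  refine ⟨(AlgHom.fst Λ X.E (MvPowerSeries (Fin d) Λ)).comp
    ((X.fiberProd (MvPowerSeries (Fin d) Λ)).val.comp s'), fun p => ?_⟩
  have h1 : X.proj ((s' p : ↥(X.fiberProd (MvPowerSeries (Fin d) Λ))) :
      X.E × MvPowerSeries (Fin d) Λ).1 =
      algebraMap (MvPowerSeries (Fin d) Λ) (MvPowerSeries (Fin d) Λ ⧸ J)
        ((s' p : ↥(X.fiberProd (MvPowerSeries (Fin d) Λ))) :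
          X.E × MvPowerSeries (Fin d) Λ).2 :=
    (s' p).2
  rw [hs' p] at h1
  exact h1

end LiftA

section Model

variable (Λ : Type u) {P : Type u} [CommRing Λ] [CommRing P] [Algebra Λ P] {L : Type u}
  [AddCommGroup L] [Module P L]

/-- first component -/
def f1 (t : Exal.Ext.TrivCarrier Λ P L) : P := TrivSqZeroExt.fst t
/-- second component -/
def f2 (t : Exal.Ext.TrivCarrier Λ P L) : L := TrivSqZeroExt.snd t
/-- the element `(p, z)` -/
def tmk (p : P) (z : L) : Exal.Ext.TrivCarrier Λ P L :=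
  (TrivSqZeroExt.inl p + TrivSqZeroExt.inr z : TrivSqZeroExt P L)

theorem f1_tmk (p : P) (z : L) : f1 Λ (tmk Λ p z) = p := by
  simp [f1, tmk]
theorem f2_tmk (p : P) (z : L) : f2 Λ (tmk Λ p z) = z := by
  simp [f2, tmk]
theorem t_ext {s t : Exal.Ext.TrivCarrier Λ P L} (h1 : f1 Λ s = f1 Λ t) (h2 : f2 Λ s = f2 Λ t) :
    s = t := TrivSqZeroExt.ext h1 h2
theorem f1_one : f1 Λ (1 : Exal.Ext.TrivCarrier Λ P L) = 1 := rfl
theorem f2_one : f2 Λ (1 : Exal.Ext.TrivCarrier Λ P L) = 0 := rfl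
theorem f1_zero : f1 Λ (0 : Exal.Ext.TrivCarrier Λ P L) = 0 := rfl
theorem f2_zero : f2 Λ (0 : Exal.Ext.TrivCarrier Λ P L) = 0 := rfl
theorem f1_add (s t : Exal.Ext.TrivCarrier Λ P L) : f1 Λ (s + t) = f1 Λ s + f1 Λ t := rfl
theorem f2_add (s t : Exal.Ext.TrivCarrier Λ P L) : f2 Λ (s + t) = f2 Λ s + f2 Λ t := rfl
theorem f1_neg (s : Exal.Ext.TrivCarrier Λ P L) : f1 Λ (-s) = - f1 Λ s := rfl
theorem f2_neg (s : Exal.Ext.TrivCarrier Λ P L) : f2 Λ (-s) = - f2 Λ s := rfl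
theorem f1_sub (s t : Exal.Ext.TrivCarrier Λ P L) : f1 Λ (s - t) = f1 Λ s - f1 Λ t := rfl
theorem f2_sub (s t : Exal.Ext.TrivCarrier Λ P L) : f2 Λ (s - t) = f2 Λ s - f2 Λ t := rfl
theorem f1_mul (s t : Exal.Ext.TrivCarrier Λ P L) : f1 Λ (s * t) = f1 Λ s * f1 Λ t := rfl
theorem f2_mul (s t : Exal.Ext.TrivCarrier Λ P L) :
    f2 Λ (s * t) = f1 Λ s • f2 Λ t + f1 Λ t • f2 Λ s := rfl
theorem f1_algebraMap (a : Λ) :
    f1 Λ (algebraMap Λ (Exal.Ext.TrivCarrier Λ P L) a) = algebraMap Λ P a := rfl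
theorem f2_algebraMap (a : Λ) :
    f2 Λ (algebraMap Λ (Exal.Ext.TrivCarrier Λ P L) a) = 0 := rfl

end Model

section PhiSec

variable {Λ P : Type u} [CommRing Λ] [CommRing P] [Algebra Λ P] (J : Ideal P) {L : Type u}
  [AddCommGroup L] [Module (P ⧸ J) L] [Module P L] [IsScalarTower P (P ⧸ J) L]

theorem mk_smul' (p : P) (z : L) : Ideal.Quotient.mk J p • z = p • z :=
  algebraMap_smul (P ⧸ J) p z

/-- the map `(p, z) ↦ u p + incl z` -/
noncomputable def Phi (X : Exal.Ext Λ (P ⧸ J) L) (u : P →ₐ[Λ] X.E)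
    (hu : ∀ p, X.proj (u p) = Ideal.Quotient.mk J p) :
    Exal.Ext.TrivCarrier Λ P L →ₐ[Λ] X.E where
  toFun t := u (f1 Λ t) + X.incl (f2 Λ t)
  map_one' := by
    rw [f1_one, f2_one, map_one, map_zero, add_zero]
  map_mul' s t := by
    rw [f1_mul, f2_mul, map_mul, map_add, add_mul, mul_add, mul_add,
      X.isExtension.mul_incl, hu, mul_comm (X.incl (f2 Λ s)) (u (f1 Λ t)),
      X.isExtension.mul_incl, hu, Groth.Agent.Helper17.EX5.incl_mul_incl, mk_smul', mk_smul']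
    abel
  map_zero' := by
    rw [f1_zero, f2_zero, map_zero, map_zero, add_zero]
  map_add' s t := by
    rw [f1_add, f2_add, map_add, map_add]
    abel
  commutes' a := by
    rw [f1_algebraMap, f2_algebraMap, map_zero, add_zero, AlgHom.commutes]

theorem Phi_apply (X : Exal.Ext Λ (P ⧸ J) L) (u : P →ₐ[Λ] X.E)
    (hu : ∀ p, X.proj (u p) = Ideal.Quotient.mk J p) (t : Exal.Ext.TrivCarrier Λ P L) :
    Phi J X u hu t = u (f1 Λ t) + X.incl (f2 Λ t) := rfl

theorem Phi_surjective (X : Exal.Ext Λ (P ⧸ J) L) (u : P →ₐ[Λ] X.E)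
    (hu : ∀ p, X.proj (u p) = Ideal.Quotient.mk J p) : Function.Surjective (Phi J X u hu) := by
  intro e
  obtain ⟨p, hp⟩ := Ideal.Quotient.mk_surjective (X.proj e)
  have h1 : X.proj (e - u p) = 0 := by rw [map_sub, hu, hp, sub_self]
  obtain ⟨z, hz⟩ := (X.isExtension.exact _).1 h1
  refine ⟨tmk Λ p z, ?_⟩
  rw [Phi_apply, f1_tmk, f2_tmk, hz]
  abel

theorem proj_Phi (X : Exal.Ext Λ (P ⧸ J) L) (u : P →ₐ[Λ] X.E)
    (hu : ∀ p, X.proj (u p) = Ideal.Quotient.mk J p) (t : Exal.Ext.TrivCarrier Λ P L) :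
    X.proj (Phi J X u hu t) = Ideal.Quotient.mk J (f1 Λ t) := by
  rw [Phi_apply, map_add, hu, Groth.Agent.Helper17.EX5.proj_incl, add_zero]

/-- two extensions with lifts inducing the same map on `J` are equivalent -/
theorem equiv_of_forall_mem (X X' : Exal.Ext Λ (P ⧸ J) L) (u : P →ₐ[Λ] X.E) (u' : P →ₐ[Λ] X'.E)
    (hu : ∀ p, X.proj (u p) = Ideal.Quotient.mk J p)
    (hu' : ∀ p, X'.proj (u' p) = Ideal.Quotient.mk J p)
    (H : ∀ j ∈ J, ∃ z : L, X.incl z = u j ∧ X'.incl z = u' j) : Nonempty (X.Equiv X') := by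
  have hker : RingHom.ker (Phi J X u hu).toRingHom ≤ RingHom.ker (Phi J X' u' hu').toRingHom := by
    intro t ht
    rw [RingHom.mem_ker] at ht ⊢
    change Phi J X u hu t = 0 at ht
    change Phi J X' u' hu' t = 0
    have h1 : Ideal.Quotient.mk J (f1 Λ t) = 0 := by
      rw [← proj_Phi J X u hu t, ht, map_zero]
    obtain ⟨z, hz, hz'⟩ := H _ (Ideal.Quotient.eq_zero_iff_mem.mp h1)
    rw [Phi_apply, ← hz, ← map_add] at ht
    have h2 : z + f2 Λ t = 0 :=
      X.isExtension.incl_injective (ht.trans (map_zero X.incl).symm)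
    rw [Phi_apply, ← hz', ← map_add, h2, map_zero]
  let θ := AlgHom.liftOfSurjective (Phi J X u hu) (Phi_surjective J X u hu) (Phi J X' u' hu') hker
  have hθ : ∀ t, θ (Phi J X u hu t) = Phi J X' u' hu' t := fun t =>
    AlgHom.liftOfSurjective_apply _ _ _ hker t
  refine Groth.Agent.Helper17.EX5.equiv_of_hom X X' θ ?_ ?_
  · intro x
    obtain ⟨t, rfl⟩ := Phi_surjective J X u hu x
    rw [hθ, proj_Phi, proj_Phi]
  · intro z
    have h1 : X.incl z = Phi J X u hu (tmk Λ 0 z) := by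
      rw [Phi_apply, f1_tmk, f2_tmk, map_zero, zero_add]
    rw [h1, hθ, Phi_apply, f1_tmk, f2_tmk, map_zero, zero_add]

end PhiSec

section Converse

variable {Λ P : Type u} [CommRing Λ] [CommRing P] [Algebra Λ P] (J : Ideal P) {L : Type u}
  [AddCommGroup L] [Module (P ⧸ J) L] [Module P L] [IsScalarTower P (P ⧸ J) L]

theorem forall_mem_of_equiv (I₁ : Ideal P) (hI₁ : ∀ a ∈ I₁, ∀ z : L, a • z = 0) (hJ : J ≤ I₁ ^ 2)
    (X X' : Exal.Ext Λ (P ⧸ J) L) (u : P →ₐ[Λ] X.E) (u' : P →ₐ[Λ] X'.E)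
    (hu : ∀ p, X.proj (u p) = Ideal.Quotient.mk J p)
    (hu' : ∀ p, X'.proj (u' p) = Ideal.Quotient.mk J p) (e : X.Equiv X') :
    ∀ j ∈ J, ∃ z : L, X.incl z = u j ∧ X'.incl z = u' j := by
  have hdiff : ∀ p, ∃ α : L, e.toAlgEquiv (u p) = u' p + X'.incl α := by
    intro p
    have h1 : X'.proj (e.toAlgEquiv (u p) - u' p) = 0 := by
      rw [map_sub, e.proj_apply, hu, hu', sub_self]
    obtain ⟨α, hα⟩ := (X'.isExtension.exact _).1 h1
    exact ⟨α, by rw [hα]; abel⟩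
  have hprod : ∀ a ∈ I₁, ∀ b ∈ I₁, e.toAlgEquiv (u (a * b)) = u' (a * b) := by
    intro a ha b hb
    obtain ⟨α, hα⟩ := hdiff a
    obtain ⟨β, hβ⟩ := hdiff b
    rw [map_mul, map_mul, hα, hβ, map_mul, add_mul, mul_add, mul_add, X'.isExtension.mul_incl, hu',
      mk_smul', hI₁ a ha, mul_comm (X'.incl α) (u' b), X'.isExtension.mul_incl, hu', mk_smul',
      hI₁ b hb, Groth.Agent.Helper17.EX5.incl_mul_incl, map_zero]
    abel
  have hsq : ∀ x ∈ I₁ ^ 2, e.toAlgEquiv (u x) = u' x := by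
    intro x hx
    rw [pow_two] at hx
    refine Submodule.smul_induction_on hx ?_ ?_
    · intro a ha b hb
      rw [smul_eq_mul]
      exact hprod a ha b hb
    · intro x y hx hy
      rw [map_add, map_add, map_add, hx, hy]
  intro j hj
  have h1 : X.proj (u j) = 0 := by
    rw [hu]; exact Ideal.Quotient.eq_zero_iff_mem.mpr hj
  obtain ⟨z, hz⟩ := (X.isExtension.exact _).1 h1
  refine ⟨z, hz, ?_⟩
  rw [← e.apply_incl, hz, hsq j (hJ hj)]

end Converse

section ModelC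

variable {Λ P : Type u} [CommRing Λ] [CommRing P] [Algebra Λ P] (J : Ideal P) {L : Type u}
  [AddCommGroup L] [Module (P ⧸ J) L] [Module P L] [IsScalarTower P (P ⧸ J) L]

theorem smul_eq_zero_of_mem (j : P) (hj : j ∈ J) (z : L) : j • z = 0 := by
  rw [← mk_smul' J, Ideal.Quotient.eq_zero_iff_mem.mpr hj, zero_smul]

/-- the ideal `{(j, -δ j)}` -/
def Kδ (δ : J →ₗ[P] L) : Ideal (Exal.Ext.TrivCarrier Λ P L) where
  carrier := {t | ∃ j : J, f1 Λ t = j ∧ f2 Λ t = - δ j}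
  add_mem' := by
    rintro s t ⟨js, hs1, hs2⟩ ⟨jt, ht1, ht2⟩
    refine ⟨js + jt, ?_, ?_⟩
    · rw [f1_add, hs1, ht1]; rfl
    · rw [f2_add, hs2, ht2, map_add, neg_add]
  zero_mem' := ⟨0, rfl, by rw [f2_zero, map_zero, neg_zero]⟩
  smul_mem' := by
    rintro s t ⟨j, ht1, ht2⟩
    refine ⟨f1 Λ s • j, ?_, ?_⟩
    · rw [smul_eq_mul, f1_mul, ht1]; rfl
    · rw [smul_eq_mul, f2_mul, ht2, ht1, smul_eq_zero_of_mem J _ j.2, add_zero, map_smul, smul_neg]

theorem mem_Kδ (δ : J →ₗ[P] L) (t : Exal.Ext.TrivCarrier Λ P L) :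
    t ∈ Kδ (Λ := Λ) J δ ↔ ∃ j : J, f1 Λ t = j ∧ f2 Λ t = - δ j := Iff.rfl

theorem tmk_zero_add (z z' : L) : tmk Λ (0 : P) (z + z') = tmk Λ 0 z + tmk Λ 0 z' := by
  apply t_ext
  · rw [f1_add, f1_tmk, f1_tmk, f1_tmk, add_zero]
  · rw [f2_add, f2_tmk, f2_tmk, f2_tmk]

theorem tmk_zero_zero : tmk Λ (0 : P) (0 : L) = 0 := by
  apply t_ext
  · rw [f1_tmk, f1_zero]
  · rw [f2_tmk, f2_zero]

/-- the projection of the model extension -/
noncomputable def modelProj (δ : J →ₗ[P] L) :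
    (Exal.Ext.TrivCarrier Λ P L ⧸ Kδ (Λ := Λ) J δ) →ₐ[Λ] P ⧸ J :=
  Ideal.Quotient.liftₐ (Kδ (Λ := Λ) J δ)
    ((Ideal.Quotient.mkₐ Λ J).comp (Exal.Ext.trivial Λ P L).proj) (by
      rintro t ⟨j, h1, -⟩
      show Ideal.Quotient.mk J (f1 Λ t) = 0
      rw [h1]
      exact Ideal.Quotient.eq_zero_iff_mem.mpr j.2)

theorem modelProj_mk (δ : J →ₗ[P] L) (t : Exal.Ext.TrivCarrier Λ P L) :
    modelProj J δ (Ideal.Quotient.mk (Kδ (Λ := Λ) J δ) t) = Ideal.Quotient.mk J (f1 Λ t) := rfl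

/-- the model extension attached to `δ : J → L` -/
noncomputable def modelExt (δ : J →ₗ[P] L) : Exal.Ext Λ (P ⧸ J) L where
  E := Exal.Ext.TrivCarrier Λ P L ⧸ Kδ (Λ := Λ) J δ
  proj := modelProj J δ
  incl :=
    { toFun := fun z => Ideal.Quotient.mk (Kδ (Λ := Λ) J δ) (tmk Λ 0 z)
      map_zero' := by rw [tmk_zero_zero, map_zero]
      map_add' := fun z z' => by rw [tmk_zero_add, map_add] }
  isExtension :=
    { proj_surjective := fun b => by
        obtain ⟨p, rfl⟩ := Ideal.Quotient.mk_surjective b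
        exact ⟨Ideal.Quotient.mk _ (tmk Λ p 0), by rw [modelProj_mk, f1_tmk]⟩
      incl_injective := fun z z' h => by
        have h' : Ideal.Quotient.mk (Kδ (Λ := Λ) J δ) (tmk Λ 0 z) =
            Ideal.Quotient.mk (Kδ (Λ := Λ) J δ) (tmk Λ 0 z') := h
        rw [Ideal.Quotient.eq] at h'
        obtain ⟨j, h1, h2⟩ := h'
        rw [f1_sub, f1_tmk, f1_tmk, sub_zero] at h1
        have hj : j = 0 := Subtype.ext h1.symm
        rw [f2_sub, f2_tmk, f2_tmk, hj, map_zero, neg_zero] at h2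
        exact sub_eq_zero.mp h2
      exact := fun x => by
        obtain ⟨t, rfl⟩ := Ideal.Quotient.mk_surjective x
        rw [modelProj_mk]
        constructor
        · intro h
          have hj := Ideal.Quotient.eq_zero_iff_mem.mp h
          refine ⟨f2 Λ t + δ ⟨f1 Λ t, hj⟩, ?_⟩
          show Ideal.Quotient.mk (Kδ (Λ := Λ) J δ) (tmk Λ 0 _) = Ideal.Quotient.mk _ t
          rw [Ideal.Quotient.eq]
          refine ⟨-⟨f1 Λ t, hj⟩, ?_, ?_⟩
          · rw [f1_sub, f1_tmk, zero_sub]; rfl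
          · rw [f2_sub, f2_tmk, map_neg, neg_neg]; abel
        · rintro ⟨z, hz⟩
          have hz' : Ideal.Quotient.mk (Kδ (Λ := Λ) J δ) (tmk Λ 0 z) = Ideal.Quotient.mk _ t := hz
          rw [Ideal.Quotient.eq] at hz'
          obtain ⟨j, h1, -⟩ := hz'
          rw [f1_sub, f1_tmk, zero_sub] at h1
          rw [Ideal.Quotient.eq_zero_iff_mem]
          have h2 : f1 Λ t = -(j : P) := by rw [← h1, neg_neg]
          rw [h2]
          exact J.neg_mem j.2
      mul_incl := fun x z => by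
        obtain ⟨t, rfl⟩ := Ideal.Quotient.mk_surjective x
        show Ideal.Quotient.mk (Kδ (Λ := Λ) J δ) t * Ideal.Quotient.mk _ (tmk Λ 0 z) =
          Ideal.Quotient.mk _ (tmk Λ 0 (modelProj J δ (Ideal.Quotient.mk _ t) • z))
        rw [← map_mul, modelProj_mk, mk_smul']
        congr 1
        apply t_ext
        · rw [f1_mul, f1_tmk, f1_tmk, mul_zero]
        · rw [f2_mul, f2_tmk, f1_tmk, f2_tmk, zero_smul, add_zero] }

theorem trivSection_apply (p : P) :
    (show Exal.Ext.TrivCarrier Λ P L from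
      (Groth.Agent.Helper17.EX5.trivSection (A := Λ) (B := P) (L := L)) p) = tmk Λ p 0 := by
  apply t_ext
  · rw [f1_tmk]; rfl
  · rw [f2_tmk]; rfl

theorem mk_tmk_eq (δ : J →ₗ[P] L) (j : J) :
    Ideal.Quotient.mk (Kδ (Λ := Λ) J δ) (tmk Λ 0 (δ j)) =
      Ideal.Quotient.mk (Kδ (Λ := Λ) J δ) (tmk Λ (j : P) 0) := by
  rw [Ideal.Quotient.eq]
  refine ⟨-j, ?_, ?_⟩
  · rw [f1_sub, f1_tmk, f1_tmk, zero_sub]; rfl
  · rw [f2_sub, f2_tmk, f2_tmk, map_neg, neg_neg, sub_zero]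

theorem exists_model (δ : J →ₗ[P] L) :
    ∃ (X : Exal.Ext Λ (P ⧸ J) L) (u : P →ₐ[Λ] X.E),
      (∀ p, X.proj (u p) = Ideal.Quotient.mk J p) ∧ ∀ j : J, X.incl (δ j) = u j := by
  refine ⟨modelExt J δ, (Ideal.Quotient.mkₐ Λ (Kδ (Λ := Λ) J δ)).comp
    (Groth.Agent.Helper17.EX5.trivSection (A := Λ) (B := P) (L := L)), ?_, ?_⟩
  · intro p
    have h1 : modelProj J δ (Ideal.Quotient.mk (Kδ (Λ := Λ) J δ) (tmk Λ p 0)) =
        Ideal.Quotient.mk J p := by rw [modelProj_mk, f1_tmk]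
    exact (congrArg (fun t => modelProj J δ (Ideal.Quotient.mk (Kδ (Λ := Λ) J δ) t))
      (trivSection_apply (Λ := Λ) (L := L) p)).trans h1
  · intro j
    exact (mk_tmk_eq J δ j).trans (congrArg (Ideal.Quotient.mk (Kδ (Λ := Λ) J δ))
      (trivSection_apply (Λ := Λ) (L := L) (j : P)).symm)

end ModelC

theorem S11287_statement
    {k : Type u} [Field k]
    {Λ : Type u} [CommRing Λ] [Algebra k Λ] [IsLocalRing Λ] [IsNoetherianRing Λ]
    (hΛ : ∀ a : Λ, ∃ c : k, a - algebraMap k Λ c ∈ IsLocalRing.maximalIdeal Λ)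
    (d : ℕ) (J : Ideal (MvPowerSeries (Fin d) Λ))
    (hJ : J ≤ Ideal.span (Set.range (MvPowerSeries.X : Fin d → MvPowerSeries (Fin d) Λ)) ^ 2)
    (L : Type u) [AddCommGroup L] [Module (MvPowerSeries (Fin d) Λ ⧸ J) L]
    [Module (MvPowerSeries (Fin d) Λ) L]
    [IsScalarTower (MvPowerSeries (Fin d) Λ) (MvPowerSeries (Fin d) Λ ⧸ J) L]
    [IsSimpleModule (MvPowerSeries (Fin d) Λ ⧸ J) L] :
    (∀ X : Exal.Ext Λ (MvPowerSeries (Fin d) Λ ⧸ J) L,
        ∃ u : MvPowerSeries (Fin d) Λ →ₐ[Λ] X.E, ∀ p, X.proj (u p) = Ideal.Quotient.mk J p) ∧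
    (∀ (X X' : Exal.Ext Λ (MvPowerSeries (Fin d) Λ ⧸ J) L)
        (u : MvPowerSeries (Fin d) Λ →ₐ[Λ] X.E) (u' : MvPowerSeries (Fin d) Λ →ₐ[Λ] X'.E),
        (∀ p, X.proj (u p) = Ideal.Quotient.mk J p) →
        (∀ p, X'.proj (u' p) = Ideal.Quotient.mk J p) →
        (Nonempty (X.Equiv X') ↔ ∀ j ∈ J, ∃ z : L, X.incl z = u j ∧ X'.incl z = u' j)) ∧
    (∀ δ : J →ₗ[MvPowerSeries (Fin d) Λ] L,
      ∃ (X : Exal.Ext Λ (MvPowerSeries (Fin d) Λ ⧸ J) L)
        (u : MvPowerSeries (Fin d) Λ →ₐ[Λ] X.E),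
        (∀ p, X.proj (u p) = Ideal.Quotient.mk J p) ∧ ∀ j : J, X.incl (δ j) = u j) := by
  refine ⟨fun X => exists_lift (k := k) hΛ d J L X, ?_, fun δ => exists_model J δ⟩
  intro X X' u u' hu hu'
  constructor
  · rintro ⟨e⟩
    refine forall_mem_of_equiv J
      (Ideal.span (Set.range (MvPowerSeries.X : Fin d → MvPowerSeries (Fin d) Λ))) ?_ hJ
      X X' u u' hu hu' e
    intro a ha z
    refine smul_eq_zero_of_mem_maximalIdeal J L ?_ z
    have hle : Ideal.span (Set.range (MvPowerSeries.X : Fin d → MvPowerSeries (Fin d) Λ)) ≤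
        maximalIdeal (MvPowerSeries (Fin d) Λ) := by
      rw [Ideal.span_le]
      rintro _ ⟨i, rfl⟩
      exact Groth.Agent.Helper18.ps_X_mem_maximalIdeal i
    exact hle ha
  · intro H
    exact equiv_of_forall_mem J X X' u u' hu hu' H

end Groth.Agent.Helper11.ExalPS
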