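import Groth.Agent.Lib.Helper11.DCHomK3
import Groth.Agent.Lib.Helper11.DCCone2
import Mathlib.Algebra.Homology.DerivedCategory.Linear

/-!
# Morphisms `Q E ⟶ X[p]` out of a K-projective complex, in terms of cocycles (helper11)
-/

set_option autoImplicit false
universe u

open CategoryTheory Limits DerivedCategory Pretriangulated

attribute [local instance] HasDerivedCategory.standard

namespace Groth.Agent.Helper11.ExtRep

variable {R : Type u} [CommRing R]

/-- the complex with `X` in degree `q` -/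
noncomputable abbrev Sq (q : ℤ) (X : ModuleCat.{u} R) : DRing.Cx R :=
  (HomologicalComplex.single (ModuleCat.{u} R) (ComplexShape.up ℤ) q).obj X

/-- the chain map `E → X[-q]` given by `f : E^q → X` killing boundaries. -/
noncomputable def toSq {E : DRing.Cx R} {q : ℤ} {X : ModuleCat.{u} R} (f : E.X q ⟶ X)
    (hf : E.d (q - 1) q ≫ f = 0) : E ⟶ Sq q X :=
  HomologicalComplex.mkHomToSingle f (fun i hi => by
    obtain rfl : i = q - 1 := by
      have : i + 1 = q := hi
      omega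
    exact hf)

theorem toSq_f {E : DRing.Cx R} {q : ℤ} {X : ModuleCat.{u} R} (f : E.X q ⟶ X)
    (hf : E.d (q - 1) q ≫ f = 0) :
    (toSq f hf).f q = f ≫ (HomologicalComplex.singleObjXSelf (ComplexShape.up ℤ) q X).inv :=
  HomologicalComplex.mkHomToSingle_f _ _

theorem toSq_surj {E : DRing.Cx R} {q : ℤ} {X : ModuleCat.{u} R} (x : E ⟶ Sq q X) :
    ∃ (f : E.X q ⟶ X) (hf : E.d (q - 1) q ≫ f = 0), x = toSq f hf := by
  refine ⟨x.f q ≫ (HomologicalComplex.singleObjXSelf (ComplexShape.up ℤ) q X).hom, ?_, ?_⟩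
  · rw [← Category.assoc, ← x.comm, HomologicalComplex.single_obj_d, comp_zero, zero_comp]
  · apply HomologicalComplex.to_single_hom_ext
    rw [toSq_f, Category.assoc, Iso.hom_inv_id, Category.comp_id]

theorem toSq_comp {E : DRing.Cx R} {q : ℤ} {X Y : ModuleCat.{u} R} (f : E.X q ⟶ X)
    (hf : E.d (q - 1) q ≫ f = 0) (u : X ⟶ Y) :
    toSq f hf ≫ (HomologicalComplex.single (ModuleCat.{u} R) (ComplexShape.up ℤ) q).map u =
      toSq (f ≫ u) (by rw [← Category.assoc, hf, zero_comp]) := by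
  apply HomologicalComplex.to_single_hom_ext
  rw [HomologicalComplex.comp_f, toSq_f, toSq_f, HomologicalComplex.single_map_f_self,
    Category.assoc, Iso.inv_hom_id_assoc, Category.assoc]

theorem smul_toSq {E : DRing.Cx R} {q : ℤ} {X : ModuleCat.{u} R} (a : R) (f : E.X q ⟶ X)
    (hf : E.d (q - 1) q ≫ f = 0) :
    a • toSq f hf = toSq (a • f) (by rw [Linear.comp_smul, hf, smul_zero]) := by
  apply HomologicalComplex.to_single_hom_ext
  rw [HomologicalComplex.smul_f_apply, toSq_f, toSq_f, Linear.smul_comp]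

theorem add_toSq {E : DRing.Cx R} {q : ℤ} {X : ModuleCat.{u} R} (f g : E.X q ⟶ X)
    (hf : E.d (q - 1) q ≫ f = 0) (hg : E.d (q - 1) q ≫ g = 0) :
    toSq f hf + toSq g hg = toSq (f + g) (by rw [Preadditive.comp_add, hf, hg, add_zero]) := by
  apply HomologicalComplex.to_single_hom_ext
  rw [HomologicalComplex.add_f_apply, toSq_f, toSq_f, toSq_f, Preadditive.add_comp]

/-- cocycles: linear maps `E^q → X` vanishing on boundaries -/
def Zq (E : DRing.Cx R) (q : ℤ) (X : ModuleCat.{u} R) : Submodule R (E.X q →ₗ[R] X) :=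
  LinearMap.ker (LinearMap.lcomp R X (E.d (q - 1) q).hom)

theorem mem_Zq {E : DRing.Cx R} {q : ℤ} {X : ModuleCat.{u} R} (f : E.X q →ₗ[R] X) :
    f ∈ Zq E q X ↔ E.d (q - 1) q ≫ ModuleCat.ofHom f = 0 := by
  rw [Zq, LinearMap.mem_ker]
  constructor
  · intro h
    apply ModuleCat.hom_ext
    exact h
  · intro h
    exact congrArg ModuleCat.Hom.hom h

/-- the map from cocycles to morphisms in the derived category (into the single complex). -/
noncomputable def Phi (E : DRing.Cx R) (q : ℤ) (X : ModuleCat.{u} R) :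
    Zq E q X →ₗ[R] (Q.obj E ⟶ Q.obj (Sq q X)) where
  toFun z := Q.map (toSq (ModuleCat.ofHom z.1) ((mem_Zq z.1).1 z.2))
  map_add' z z' := by
    rw [← Functor.map_add, add_toSq]
    rfl
  map_smul' a z := by
    rw [RingHom.id_apply, ← Functor.map_smul, smul_toSq]
    rfl

theorem Phi_surjective (E : DRing.Cx R) [E.IsKProjective] (q : ℤ) (X : ModuleCat.{u} R) :
    Function.Surjective (Phi E q X) := by
  intro ξ
  obtain ⟨x, rfl⟩ := DC.exists_lift_of_isKProjective E (Sq q X) ξ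
  obtain ⟨f, hf, rfl⟩ := toSq_surj x
  exact ⟨⟨f.hom, (mem_Zq f.hom).2 hf⟩, rfl⟩

/-- `X[p] ≅ Sq q X` for `p + q = 0` -/
noncomputable def iotaQ (p q : ℤ) (h : p + q = 0) (X : ModuleCat.{u} R) :
    ((DerivedCategory.singleFunctor (ModuleCat.{u} R) 0).obj X)⟦p⟧ ≅ Q.obj (Sq q X) :=
  ((singleFunctors (ModuleCat.{u} R)).shiftIso p q 0 h).app X

theorem iotaQ_inv_naturality (p q : ℤ) (h : p + q = 0) {X Y : ModuleCat.{u} R} (u : X ⟶ Y) :
    Q.map ((HomologicalComplex.single (ModuleCat.{u} R) (ComplexShape.up ℤ) q).map u) ≫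
        (iotaQ p q h Y).inv =
      (iotaQ p q h X).inv ≫ ((DerivedCategory.singleFunctor (ModuleCat.{u} R) 0).map u)⟦p⟧' :=
  ((singleFunctors (ModuleCat.{u} R)).shiftIso p q 0 h).inv.naturality u

/-- the map from cocycles to `Ext^p`. -/
noncomputable def Psi (E : DRing.Cx R) (p q : ℤ) (h : p + q = 0) (X : ModuleCat.{u} R) :
    Zq E q X →ₗ[R] (Q.obj E ⟶ ((DerivedCategory.singleFunctor (ModuleCat.{u} R) 0).obj X)⟦p⟧) :=
  (Linear.rightComp R (Q.obj E) (iotaQ p q h X).inv) ∘ₗ Phi E q X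

theorem Psi_surjective (E : DRing.Cx R) [E.IsKProjective] (p q : ℤ) (h : p + q = 0)
    (X : ModuleCat.{u} R) : Function.Surjective (Psi E p q h X) := by
  intro ξ
  obtain ⟨z, hz⟩ := Phi_surjective E q X (ξ ≫ (iotaQ p q h X).hom)
  refine ⟨z, ?_⟩
  show Phi E q X z ≫ (iotaQ p q h X).inv = ξ
  rw [hz, Category.assoc, Iso.hom_inv_id, Category.comp_id]

/-- post-composition on cocycles -/
def ZqMap (E : DRing.Cx R) (q : ℤ) {X Y : ModuleCat.{u} R} (u : X ⟶ Y) :
    Zq E q X →ₗ[R] Zq E q Y where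
  toFun z := ⟨u.hom ∘ₗ z.1, by
    have h := (mem_Zq z.1).1 z.2
    rw [mem_Zq]
    have : ModuleCat.ofHom (u.hom ∘ₗ z.1) = ModuleCat.ofHom z.1 ≫ u := rfl
    rw [this, ← Category.assoc, h, zero_comp]⟩
  map_add' z z' := by
    apply Subtype.ext
    exact LinearMap.comp_add _ _ _
  map_smul' a z := by
    apply Subtype.ext
    exact LinearMap.comp_smul _ _ _

theorem Psi_naturality (E : DRing.Cx R) (p q : ℤ) (h : p + q = 0) {X Y : ModuleCat.{u} R}
    (u : X ⟶ Y) (z : Zq E q X) :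
    Psi E p q h Y (ZqMap E q u z) =
      Psi E p q h X z ≫ ((DerivedCategory.singleFunctor (ModuleCat.{u} R) 0).map u)⟦p⟧' := by
  show Q.map (toSq (ModuleCat.ofHom (u.hom ∘ₗ z.1)) _) ≫ (iotaQ p q h Y).inv =
    (Q.map (toSq (ModuleCat.ofHom z.1) _) ≫ (iotaQ p q h X).inv) ≫ _
  rw [Category.assoc, ← iotaQ_inv_naturality, ← Category.assoc, ← Functor.map_comp, toSq_comp]
  rfl

end Groth.Agent.Helper11.ExtRep
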