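import Groth.Agent.Lib.Helper11.MPC4
import Groth.Agent.Lib.Helper11.DCTopHom
import Groth.Agent.Lib.Helper11.DCTrim
import Groth.Agent.Lib.Helper11.DCPc0

/-!
Killing the top cohomology of a complex all of whose truncations are pseudo-coherent: the
chain-level step of the construction of a bounded above finite free resolution.
-/

open CategoryTheory Category Limits Pretriangulated DerivedCategory ZeroObject

attribute [local instance] HasDerivedCategory.standard

universe u

namespace Groth.Agent.Helper11.MPC

open Groth.Agent.Helper11.DC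

variable {R : Type u} [CommRing R]

/-- top cohomology of an `m`-pseudo-coherent object of `D^{≤ m}` is a finite module -/
theorem finite_top_homology {m : ℤ} {K : Dual.D R} [K.IsLE m]
    (h : DRing.IsPseudoCoherent R m K) : Module.Finite R ((Hf R m).obj K) := by
  obtain ⟨E, b, α, hE, hff, hiso, hepi⟩ := normalize h
  have hproj : ∀ i, Module.Projective R (E.X i) := fun i => by
    haveI := (hff i).2
    infer_instance
  have hK : ∀ i : ℤ, m < i → IsZero ((homologyFunctor (ModuleCat.{u} R) i).obj K) :=
    (isLE_iff K m).mp inferInstance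
  have hH : ∀ i : ℤ, m < i → IsZero ((homologyFunctor (ModuleCat.{u} R) i).obj (Q.obj E)) := by
    intro i hi
    haveI := hiso i hi
    exact IsZero.of_iso (hK i hi) (asIso ((Hf R i).map α))
  obtain ⟨E', π, hπ, hz, -⟩ := trim_to (b - m).toNat E m b (by omega)
    (fun i hi => hE i (Or.inr hi)) hproj hH
  have hfin : Module.Finite R (E'.X m) := hπ.finite m (hff m).1
  have h1 := topH_finite E' m hz hfin
  obtain ⟨e⟩ := hπ.homology_iso m
  haveI h2 : Module.Finite R ((Hf R m).obj (Q.obj E)) :=
    Module.Finite.equiv e.symm.toLinearEquiv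
  exact Module.Finite.of_surjective ((Hf R m).map α).hom
    ((ModuleCat.epi_iff_surjective _).mp hepi)

/-- a variant of `cone_isLE` for a triangle -/
theorem cone_isLE' {m : ℤ} (T : Triangle (Dual.D R)) (hT : T ∈ distTriang (Dual.D R))
    (hiso : ∀ i : ℤ, m < i → IsIso ((Hf R i).map T.mor₁)) (hepi : Epi ((Hf R m).map T.mor₁)) :
    T.obj₃.IsLE (m - 1) :=
  cone_isLE T.mor₁ T.mor₂ T.mor₃ hT hiso hepi

section Single

variable (m : ℤ) (F : ModuleCat.{u} R)

/-- the complex with `F` in degree `m` -/
noncomputable abbrev sgl : DRing.Cx R :=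
  (HomologicalComplex.single (ModuleCat.{u} R) (ComplexShape.up ℤ) m).obj F

theorem sgl_isZero (j : ℤ) (hj : j ≠ m) : IsZero ((sgl m F).X j) :=
  HomologicalComplex.isZero_single_obj_X _ _ _ _ hj

theorem sgl_finite_free [Module.Finite R F] [Module.Free R F] (j : ℤ) :
    Module.Finite R ((sgl m F).X j) ∧ Module.Free R ((sgl m F).X j) := by
  by_cases hj : j = m
  · subst hj
    let e : (sgl j F).X j ≃ₗ[R] F :=
      (HomologicalComplex.singleObjXSelf (ComplexShape.up ℤ) j F).toLinearEquiv
    exact ⟨Module.Finite.equiv e.symm, Module.Free.of_equiv e.symm⟩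
  · haveI : Subsingleton ((sgl m F).X j) := ModuleCat.subsingleton_of_isZero (sgl_isZero m F j hj)
    exact ⟨inferInstance, inferInstance⟩

theorem sgl_termwiseFiniteFree [Module.Finite R F] [Module.Free R F] :
    DRing.TermwiseFiniteFree (sgl m F) := fun j => sgl_finite_free m F j

theorem sgl_vanishesOutside : DRing.VanishesOutside (sgl m F) m m := fun j hj =>
  sgl_isZero m F j (by omega)

theorem sgl_isZero_homology (j : ℤ) (hj : j ≠ m) :
    IsZero ((Hf R j).obj (Q.obj (sgl m F))) :=
  isZero_homology_of_isZero_X _ j (sgl_isZero m F j hj)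

end Single

/-- chain-level top cover -/
theorem exists_top_cover_cx (C : DRing.Cx R) (m : ℤ) (hfin : Module.Finite R (C.homology m)) :
    ∃ (k : ℕ) (τ : sgl m (ModuleCat.of R (Fin k → R)) ⟶ C),
      Epi (HomologicalComplex.homologyMap τ m) := by
  obtain ⟨k, p, hp⟩ := Module.Finite.exists_fin' R (C.homology m)
  let F : ModuleCat.{u} R := ModuleCat.of R (Fin k → R)
  haveI : Projective F := (IsProjective.iff_projective (R := R) (P := Fin k → R)).mp inferInstance
  let p' : F ⟶ C.homology m := ModuleCat.ofHom p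
  haveI : Epi p' := (ModuleCat.epi_iff_surjective _).mpr hp
  let l : F ⟶ C.cycles m := Projective.factorThru p' (C.homologyπ m)
  have hl : l ≫ C.homologyπ m = p' := Projective.factorThru_comp _ _
  let φ : F ⟶ C.X m := l ≫ C.iCycles m
  let τ : sgl m F ⟶ C := HomologicalComplex.mkHomFromSingle φ (by
    intro j _
    simp [φ])
  refine ⟨k, τ, ?_⟩
  have hτ : τ.f m = (HomologicalComplex.singleObjXSelf (ComplexShape.up ℤ) m F).hom ≫ φ :=
    HomologicalComplex.mkHomFromSingle_f _ _
  haveI : IsIso ((sgl m F).iCycles m) :=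
    HomologicalComplex.isIso_iCycles _ m (m + 1) (by simp) (by simp)
  have h1 : HomologicalComplex.cyclesMap τ m =
      ((sgl m F).iCycles m ≫ (HomologicalComplex.singleObjXSelf (ComplexShape.up ℤ) m F).hom) ≫
        l := by
    rw [← cancel_mono (C.iCycles m), HomologicalComplex.cyclesMap_i, hτ]
    simp [φ]
  have h2 : (sgl m F).homologyπ m ≫ HomologicalComplex.homologyMap τ m =
      ((sgl m F).iCycles m ≫ (HomologicalComplex.singleObjXSelf (ComplexShape.up ℤ) m F).hom) ≫
        p' := by
    rw [HomologicalComplex.homologyπ_naturality, h1, assoc, hl]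
  haveI : Epi ((sgl m F).homologyπ m ≫ HomologicalComplex.homologyMap τ m) := by
    rw [h2]
    infer_instance
  exact epi_of_epi_fac (f := (sgl m F).homologyπ m) rfl

/-- the step: killing the top cohomology -/
theorem step_exists (C : DRing.Cx R) (m : ℤ) (hle : (Q.obj C).IsLE m)
    (hpc : ∀ j : ℤ, DRing.IsPseudoCoherent R j (Q.obj C)) :
    ∃ (k : ℕ) (τ : sgl m (ModuleCat.of R (Fin k → R)) ⟶ C),
      (Q.obj (CochainComplex.mappingCone τ)).IsLE (m - 1) ∧
        ∀ j : ℤ, DRing.IsPseudoCoherent R j (Q.obj (CochainComplex.mappingCone τ)) := by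
  have hfin0 := finite_top_homology (hpc m)
  haveI : Module.Finite R ↑((Q ⋙ homologyFunctor (ModuleCat.{u} R) m).obj C) := hfin0
  have hfin : Module.Finite R (C.homology m) :=
    Module.Finite.equiv ((homologyFunctorFactors (ModuleCat.{u} R) m).app C).toLinearEquiv
  obtain ⟨k, τ, hτ⟩ := exists_top_cover_cx C m hfin
  refine ⟨k, τ, ?_, ?_⟩
  · have hT := DerivedCategory.mappingCone_triangle_distinguished τ
    refine cone_isLE' _ hT (fun i hi => ?_) ?_
    · exact isIso_of_isZero' _ (sgl_isZero_homology m _ i (by omega))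
        ((isLE_iff (Q.obj C) m).mp hle i hi)
    · exact (epi_map_iff_of_natIso (homologyFunctorFactors (ModuleCat.{u} R) m) τ).mpr hτ
  · intro j
    have hT := DerivedCategory.mappingCone_triangle_distinguished τ
    exact mpc_third _ hT j
      (mpc_of_bounded_free _ m m (sgl_vanishesOutside m _) (sgl_termwiseFiniteFree m _) (j + 1))
      (hpc j)

section ConeEquiv

variable {F₁ F₂ : DRing.Cx R} (φ : F₁ ⟶ F₂) (i : ℤ)

open CochainComplex HomComplex in
/-- terms of the mapping cone as a product -/
noncomputable def coneEquiv :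
    (CochainComplex.mappingCone φ).X i ≃ₗ[R] (F₁.X (i + 1) × F₂.X i) :=
  LinearEquiv.ofLinearMap
    (LinearMap.prod ((mappingCone.fst φ).1.v i (i + 1) rfl).hom
      ((mappingCone.snd φ).v i i (add_zero i)).hom)
    (LinearMap.coprod ((mappingCone.inl φ).v (i + 1) i (by omega)).hom
      ((mappingCone.inr φ).f i).hom)
    (by
      apply LinearMap.ext
      rintro ⟨y, z⟩
      have h1 := congr($(mappingCone.inl_v_fst_v φ (i + 1) i rfl).hom y)
      have h2 := congr($(mappingCone.inl_v_snd_v φ (i + 1) i (by omega)).hom y)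
      have h3 := congr($(mappingCone.inr_f_fst_v φ i (i + 1) rfl).hom z)
      have h4 := congr($(mappingCone.inr_f_snd_v φ i).hom z)
      simp only [ModuleCat.hom_comp, LinearMap.comp_apply, ModuleCat.hom_id, LinearMap.id_apply,
        ModuleCat.hom_zero, LinearMap.zero_apply] at h1 h2 h3 h4
      simp [h1, h2, h3, h4])
    (by
      apply LinearMap.ext
      intro x
      have h := congr($(mappingCone.id_X φ i (i + 1) rfl).hom x)
      simpa using h)

open CochainComplex in
theorem coneEquiv_inr (z : F₂.X i) :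
    coneEquiv φ i (((mappingCone.inr φ).f i).hom z) = (0, z) := by
  have h3 := congr($(mappingCone.inr_f_fst_v φ i (i + 1) rfl).hom z)
  have h4 := congr($(mappingCone.inr_f_snd_v φ i).hom z)
  simp only [ModuleCat.hom_comp, LinearMap.comp_apply, ModuleCat.hom_id, LinearMap.id_apply,
    ModuleCat.hom_zero, LinearMap.zero_apply] at h3 h4
  simp [coneEquiv, LinearEquiv.ofLinearMap, h3, h4]

open CochainComplex in
theorem isIso_inr_f (h : IsZero (F₁.X (i + 1))) : IsIso ((mappingCone.inr φ).f i) := by
  refine ⟨⟨(mappingCone.snd φ).v i i (add_zero i), mappingCone.inr_f_snd_v φ i, ?_⟩⟩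
  have h1 := mappingCone.id_X φ i (i + 1) rfl
  rw [h.eq_of_tgt ((mappingCone.fst φ).1.v i (i + 1) rfl) 0, zero_comp, zero_add] at h1
  exact h1

end ConeEquiv

end Groth.Agent.Helper11.MPC
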