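import Groth.Agent.Lib.Helper11.FiltColim
import Groth.Agent.Lib.Helper11.ExtRep1
import Groth.Agent.Lib.Helper11.MPC5
import Groth.Agent.Lib.Helper11.DCHomK2
import Mathlib.Algebra.Homology.DerivedCategory.KProjective

/-!
`Ext` out of an `m`-pseudo-coherent complex commutes with filtered colimits of modules in a
range of degrees (helper11).
-/

set_option autoImplicit false

open CategoryTheory Category Limits Pretriangulated DerivedCategory

attribute [local instance] HasDerivedCategory.standard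

universe u

namespace Groth.Agent.Helper11.ExtColim

open Groth.Agent.Helper11.DC Groth.Agent.Helper11.MPC Groth.Agent.Helper11.ExtRep
  Groth.Agent.Helper11.FiltColim

variable {R : Type u} [CommRing R]

theorem Sq_isZero (q : ℤ) (X : ModuleCat.{u} R) (i : ℤ) (hi : i ≠ q) : IsZero ((Sq q X).X i) :=
  HomologicalComplex.isZero_single_obj_X _ _ _ _ hi

theorem Phi_eq_zero_iff (E : DRing.Cx R) [E.IsKProjective] (q : ℤ) (X : ModuleCat.{u} R)
    (z : Zq E q X) :
    Phi E q X z = 0 ↔ ∃ h : E.X (q + 1) →ₗ[R] X, z.1 = h ∘ₗ (E.d q (q + 1)).hom := by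
  constructor
  · intro hz
    have h0 : Qh.map ((HomotopyCategory.quotient (ModuleCat.{u} R) (ComplexShape.up ℤ)).map
        (toSq (ModuleCat.ofHom z.1) ((mem_Zq z.1).1 z.2))) =
        Qh.map ((HomotopyCategory.quotient (ModuleCat.{u} R) (ComplexShape.up ℤ)).map 0) := by
      rw [Qh_quot_map, Qh_quot_map, Functor.map_zero]
      exact hz
    have h1 := (CochainComplex.IsKProjective.Qh_map_bijective E _).injective h0
    have H := HomotopyCategory.homotopyOfEq _ _ h1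
    have h2 := homotopy_component (toSq (ModuleCat.ofHom z.1) ((mem_Zq z.1).1 z.2)) (q + 1) q rfl
      (Sq_isZero q X) H
    rw [toSq_f] at h2
    refine ⟨(H.hom (q + 1) q ≫
      (HomologicalComplex.singleObjXSelf (ComplexShape.up ℤ) q X).hom).hom, ?_⟩
    have h3 : ModuleCat.ofHom z.1 = E.d q (q + 1) ≫ H.hom (q + 1) q ≫
        (HomologicalComplex.singleObjXSelf (ComplexShape.up ℤ) q X).hom := by
      rw [← Category.assoc, ← h2, Category.assoc, Iso.inv_hom_id, Category.comp_id]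
    exact congrArg ModuleCat.Hom.hom h3
  · rintro ⟨h, hh⟩
    obtain ⟨H⟩ := single_homotopy (toSq (ModuleCat.ofHom z.1) ((mem_Zq z.1).1 z.2)) (q + 1) q rfl
      (Sq_isZero q X)
      (ModuleCat.ofHom h ≫ (HomologicalComplex.singleObjXSelf (ComplexShape.up ℤ) q X).inv) (by
        rw [toSq_f, ← Category.assoc]
        congr 1
        ext x
        exact LinearMap.congr_fun hh x)
    show Q.map _ = 0
    rw [Q_map_eq_of_homotopy _ H, Functor.map_zero]

theorem Psi_eq_zero_iff (E : DRing.Cx R) [E.IsKProjective] (p q : ℤ) (h : p + q = 0)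
    (X : ModuleCat.{u} R) (z : Zq E q X) :
    Psi E p q h X z = 0 ↔ ∃ h : E.X (q + 1) →ₗ[R] X, z.1 = h ∘ₗ (E.d q (q + 1)).hom := by
  rw [← Phi_eq_zero_iff]
  show Phi E q X z ≫ (iotaQ p q h X).inv = 0 ↔ _
  constructor
  · intro h0
    have h1 : (Phi E q X z ≫ (iotaQ p q h X).inv) ≫ (iotaQ p q h X).hom =
        0 ≫ (iotaQ p q h X).hom := by rw [h0]
    rw [Category.assoc, Iso.inv_hom_id, Category.comp_id, zero_comp] at h1
    exact h1
  · intro h0
    rw [h0, zero_comp]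

/-- the shifted single-module object -/
noncomputable abbrev sh (n : ℤ) (N : ModuleCat.{u} R) : Dual.D R :=
  ((DerivedCategory.singleFunctor (ModuleCat.{u} R) 0).obj N)⟦n⟧

/-- the shifted single-module morphism -/
noncomputable abbrev shMap (n : ℤ) {N N' : ModuleCat.{u} R} (u : N ⟶ N') : sh n N ⟶ sh n N' :=
  ((DerivedCategory.singleFunctor (ModuleCat.{u} R) 0).map u)⟦n⟧'

theorem sh_isGE (n : ℤ) (N : ModuleCat.{u} R) : (sh n N).IsGE (-n) :=
  TStructure.t.isGE_shift _ 0 n (-n) (by omega)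

section Main

variable (m : ℤ) (K : Dual.D R) (E : DRing.Cx R) (α : Q.obj E ⟶ K) [E.IsKProjective]
  (C : Dual.D R) (g : K ⟶ C) (h : C ⟶ (Q.obj E)⟦(1 : ℤ)⟧)
  (hT : Triangle.mk α g h ∈ distTriang (Dual.D R)) (hC : C.IsLE (m - 1))

include hT hC in
theorem eq_zero_of_comp (n : ℤ) (hn : n ≤ -m) (N : ModuleCat.{u} R) (f : K ⟶ sh n N)
    (hf : α ≫ f = 0) : f = 0 := by
  obtain ⟨w, hw⟩ : ∃ w : C ⟶ sh n N, f = g ≫ w := Triangle.yoneda_exact₂ _ hT f hf
  haveI := hC
  haveI := sh_isGE n N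
  have hw0 : w = 0 := TStructure.t.zero w (m - 1) (-n) (by omega)
  rw [hw, hw0, comp_zero]

include hT hC in
theorem exists_extension (n : ℤ) (hn : n < -m) (N : ModuleCat.{u} R) (f : Q.obj E ⟶ sh n N) :
    ∃ y : K ⟶ sh n N, α ≫ y = f := by
  have hT' := inv_rot_of_distTriang _ hT
  haveI := hC
  haveI : (C⟦(-1 : ℤ)⟧).IsLE m := TStructure.t.isLE_shift C (m - 1) (-1) m (by omega)
  haveI := sh_isGE n N
  have h0 : (Triangle.mk α g h).invRotate.mor₁ ≫ f = 0 :=
    TStructure.t.zero_of_isLE_of_isGE _ m (-n) (by omega)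
      (inferInstance : (C⟦(-1 : ℤ)⟧).IsLE m) (sh_isGE n N)
  obtain ⟨y, hy⟩ : ∃ y : K ⟶ sh n N, f = α ≫ y := Triangle.yoneda_exact₂ _ hT' f h0
  exact ⟨y, hy.symm⟩

variable {J : Type u} [SmallCategory J] [IsFiltered J]
  (F : J ⥤ ModuleCat.{u} R) (c : Cocone F) (hc : IsColimit c)

/-- the coprojections, with codomain `c.pt` -/
abbrev cι (j : J) : F.obj j ⟶ c.pt := c.ι.app j

omit [IsFiltered J] in
theorem cι_map {j j' : J} (t : j ⟶ j') (x : F.obj j) :
    (cι F c j').hom ((F.map t).hom x) = (cι F c j).hom x := ι_map F c t x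

variable (hfin : ∀ i, Module.Finite R (E.X i)) (hfree : ∀ i, Module.Free R (E.X i))

include hT hC hc hfin hfree in
theorem part_a (n : ℤ) (hn : n < -m) (x : K ⟶ sh n c.pt) :
    ∃ (j : J) (y : K ⟶ sh n (F.obj j)), y ≫ shMap n (cι F c j) = x := by
  have hpq : n + (-n) = 0 := by omega
  obtain ⟨z, hz⟩ := Psi_surjective E n (-n) hpq c.pt (α ≫ x)
  haveI := hfin (-n)
  haveI := hfree (-n)
  haveI := hfin (-n - 1)
  obtain ⟨j, g₀, hg₀⟩ := exists_lift_of_finite_free F c hc (E.X (-n)) z.1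
  have hz0 : z.1 ∘ₗ (E.d (-n - 1) (-n)).hom = 0 := z.2
  have hu : (cι F c j).hom ∘ₗ (g₀ ∘ₗ (E.d (-n - 1) (-n)).hom) =
      (cι F c j).hom ∘ₗ (0 : E.X (-n - 1) →ₗ[R] F.obj j) := by
    rw [← LinearMap.comp_assoc, hg₀, hz0, LinearMap.comp_zero]
  obtain ⟨j', t, ht⟩ := exists_eq_of_finite F c hc (E.X (-n - 1)) j _ _ hu
  rw [LinearMap.comp_zero] at ht
  let z' : Zq E (-n) (F.obj j') := ⟨(F.map t).hom ∘ₗ g₀, by
    show ((F.map t).hom ∘ₗ g₀) ∘ₗ (E.d (-n - 1) (-n)).hom = 0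
    rw [LinearMap.comp_assoc]
    exact ht⟩
  have hzz : ZqMap E (-n) (cι F c j') z' = z := by
    apply Subtype.ext
    show (cι F c j').hom ∘ₗ ((F.map t).hom ∘ₗ g₀) = z.1
    rw [← hg₀]
    ext v
    exact cι_map F c t (g₀ v)
  have hy_E : Psi E n (-n) hpq (F.obj j') z' ≫ shMap n (cι F c j') = α ≫ x := by
    rw [← Psi_naturality, hzz, hz]
  obtain ⟨y, hy⟩ := exists_extension m K E α C g h hT hC n hn (F.obj j')
    (Psi E n (-n) hpq (F.obj j') z')
  refine ⟨j', y, ?_⟩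
  have hd : y ≫ shMap n (cι F c j') - x = 0 :=
    eq_zero_of_comp m K E α C g h hT hC n (by omega) c.pt _ (by
      rw [Preadditive.comp_sub, ← Category.assoc, hy, hy_E, sub_self])
  exact sub_eq_zero.mp hd

include hT hC hc hfin hfree in
theorem part_b (n : ℤ) (hn : n ≤ -m) (j : J) (y : K ⟶ sh n (F.obj j))
    (hy : y ≫ shMap n (cι F c j) = 0) :
    ∃ (j' : J) (f : j ⟶ j'), y ≫ shMap n (F.map f) = 0 := by
  have hpq : n + (-n) = 0 := by omega
  obtain ⟨z, hz⟩ := Psi_surjective E n (-n) hpq (F.obj j) (α ≫ y)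
  haveI := hfin (-n)
  haveI := hfin (-n + 1)
  haveI := hfree (-n + 1)
  have h1 : Psi E n (-n) hpq c.pt (ZqMap E (-n) (cι F c j) z) = 0 := by
    rw [Psi_naturality, hz, Category.assoc, hy, comp_zero]
  obtain ⟨h₀, hh₀⟩ := (Psi_eq_zero_iff E n (-n) hpq c.pt _).mp h1
  have hh₀' : (cι F c j).hom ∘ₗ z.1 = h₀ ∘ₗ (E.d (-n) (-n + 1)).hom := hh₀
  obtain ⟨j₁, h₁, hh₁⟩ := exists_lift_of_finite_free F c hc (E.X (-n + 1)) h₀
  let a : j ⟶ IsFiltered.max j j₁ := IsFiltered.leftToMax j j₁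
  let b : j₁ ⟶ IsFiltered.max j j₁ := IsFiltered.rightToMax j j₁
  have huv : (cι F c (IsFiltered.max j j₁)).hom ∘ₗ ((F.map a).hom ∘ₗ z.1) =
      (cι F c (IsFiltered.max j j₁)).hom ∘ₗ
        ((F.map b).hom ∘ₗ (h₁ ∘ₗ (E.d (-n) (-n + 1)).hom)) := by
    ext v
    show (cι F c _).hom ((F.map a).hom (z.1 v)) =
      (cι F c _).hom ((F.map b).hom (h₁ ((E.d (-n) (-n + 1)).hom v)))
    rw [cι_map, cι_map]
    have e1 := LinearMap.congr_fun hh₀' v
    have e2 := LinearMap.congr_fun hh₁ ((E.d (-n) (-n + 1)).hom v)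
    exact e1.trans e2.symm
  obtain ⟨j', t, ht⟩ := exists_eq_of_finite F c hc (E.X (-n)) _ _ _ huv
  refine ⟨j', a ≫ t, ?_⟩
  apply eq_zero_of_comp m K E α C g h hT hC n hn (F.obj j')
  rw [← Category.assoc, ← hz, ← Psi_naturality, Psi_eq_zero_iff]
  refine ⟨(F.map t).hom ∘ₗ ((F.map b).hom ∘ₗ h₁), ?_⟩
  show (F.map (a ≫ t)).hom ∘ₗ z.1 = _
  rw [F.map_comp, ModuleCat.hom_comp, LinearMap.comp_assoc, ht]
  rfl

end Main

/-- `Ext` out of an `m`-pseudo-coherent complex and filtered colimits of modules -/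
theorem main (m : ℤ) (K : Dual.D R) (hK : DRing.IsPseudoCoherent R m K) {J : Type u}
    [SmallCategory J] [IsFiltered J] (F : J ⥤ ModuleCat.{u} R) (c : Cocone F) (hc : IsColimit c) :
    (∀ n : ℤ, n < -m → ∀ x : K ⟶ sh n c.pt,
      ∃ (j : J) (y : K ⟶ sh n (F.obj j)), y ≫ shMap n (c.ι.app j) = x) ∧
    (∀ n : ℤ, n ≤ -m → ∀ (j : J) (y : K ⟶ sh n (F.obj j)),
      y ≫ shMap n (c.ι.app j) = 0 → ∃ (j' : J) (f : j ⟶ j'), y ≫ shMap n (F.map f) = 0) := by
  obtain ⟨E, a, b, α, hE, hEff, hiso, hepi⟩ := hK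
  haveI : E.IsKProjective := isKProjective_of_vanishesAbove E b (fun i hi => hE i (Or.inr hi))
    (fun i => by
      haveI := (hEff i).2
      infer_instance)
  obtain ⟨C, g, h, hT⟩ := distinguished_cocone_triangle α
  have hC : C.IsLE (m - 1) := cone_isLE' (Triangle.mk α g h) hT hiso hepi
  exact ⟨fun n hn x => part_a m K E α C g h hT hC F c hc (fun i => (hEff i).1)
      (fun i => (hEff i).2) n hn x,
    fun n hn j y hy => part_b m K E α C g h hT hC F c hc (fun i => (hEff i).1)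
      (fun i => (hEff i).2) n hn j y hy⟩

end Groth.Agent.Helper11.ExtColim
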