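import Groth.Agent.Lib.Helper11.ExtRep1
import Mathlib.RingTheory.Filtration
import Mathlib.LinearAlgebra.FreeModule.Finite.Matrix

/-!
# Artin–Rees for `Ext` out of a pseudo-coherent complex (helper11)
-/

set_option autoImplicit false
universe u

open CategoryTheory Limits DerivedCategory Pretriangulated

attribute [local instance] HasDerivedCategory.standard

namespace Groth.Agent.Helper11.ExtRep

section Alg

variable {R : Type u} [CommRing R] {P M : Type u} [AddCommGroup P] [Module R P]
  [AddCommGroup M] [Module R M]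

theorem smulRight_mem (I : Ideal R) (φ : P →ₗ[R] R) (y : M)
    (hy : y ∈ (I • ⊤ : Submodule R M)) :
    φ.smulRight y ∈ (I • ⊤ : Submodule R (P →ₗ[R] M)) := by
  refine Submodule.smul_induction_on hy ?_ ?_
  · intro r hr m _
    have : φ.smulRight (r • m) = r • φ.smulRight m := by
      ext v
      simp only [LinearMap.smulRight_apply, LinearMap.smul_apply]
      rw [smul_comm]
    rw [this]
    exact Submodule.smul_mem_smul hr Submodule.mem_top
  · intro x y hx hy
    have : φ.smulRight (x + y) = φ.smulRight x + φ.smulRight y := by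
      ext v
      simp only [LinearMap.smulRight_apply, LinearMap.add_apply, smul_add]
    rw [this]
    exact add_mem hx hy

theorem mem_smul_top_of_forall_mem [Module.Free R P] [Module.Finite R P] (I : Ideal R)
    (g : P →ₗ[R] M) (hg : ∀ v, g v ∈ (I • ⊤ : Submodule R M)) :
    g ∈ (I • ⊤ : Submodule R (P →ₗ[R] M)) := by
  classical
  let b := Module.Free.chooseBasis R P
  have : g = ∑ k, (b.coord k).smulRight (g (b k)) := by
    apply b.ext
    intro j
    rw [LinearMap.sum_apply]
    simp only [LinearMap.smulRight_apply, Module.Basis.coord_apply, Module.Basis.repr_self]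
    rw [Finset.sum_eq_single j]
    · simp
    · intro k _ hk
      rw [Finsupp.single_apply, if_neg (Ne.symm hk), zero_smul]
    · intro hj
      exact absurd (Finset.mem_univ j) hj
  rw [this]
  exact Submodule.sum_mem _ fun k _ => smulRight_mem I _ _ (hg _)

end Alg

variable {R : Type u} [CommRing R]

/-- Artin–Rees for `Ext^p(E, -)`, `E` K-projective with `E^q` finite free (`p + q = 0`). -/
theorem exists_artinRees_ext [IsNoetherianRing R] (I : Ideal R) (E : DRing.Cx R)
    [E.IsKProjective] (p q : ℤ) (h : p + q = 0) [Module.Free R (E.X q)]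
    [Module.Finite R (E.X q)] (M : Type u) [AddCommGroup M] [Module R M] [Module.Finite R M] :
    ∃ c : ℕ, ∀ n : ℕ, c ≤ n →
      ∀ e : Q.obj E ⟶ (Dual.inD R ↥(I ^ n • ⊤ : Submodule R M))⟦p⟧,
        e ≫ ((DerivedCategory.singleFunctor (ModuleCat.{u} R) 0).map
              (ModuleCat.ofHom (I ^ n • ⊤ : Submodule R M).subtype))⟦p⟧' ∈
          (I ^ (n - c) • ⊤ : Submodule R (Q.obj E ⟶ (Dual.inD R M)⟦p⟧)) := by
  haveI : Module.Finite R (E.X q →ₗ[R] M) := Module.Finite.linearMap R R (E.X q) M
  obtain ⟨c, hc⟩ := Ideal.exists_pow_inf_eq_pow_smul I (Zq E q (ModuleCat.of R M))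
  refine ⟨c, fun n hn e => ?_⟩
  obtain ⟨z, rfl⟩ := Psi_surjective E p q h (ModuleCat.of R ↥(I ^ n • ⊤ : Submodule R M)) e
  rw [← Psi_naturality]
  set g := ZqMap E q (ModuleCat.ofHom (I ^ n • ⊤ : Submodule R M).subtype) z with hg
  have h1 : g.1 ∈ (I ^ n • ⊤ : Submodule R (E.X q →ₗ[R] M)) :=
    mem_smul_top_of_forall_mem (I ^ n) g.1 (fun v => (z.1 v).2)
  have h2 : g.1 ∈ I ^ (n - c) • (I ^ c • ⊤ ⊓ Zq E q (ModuleCat.of R M)) := by
    rw [← hc n hn]
    exact ⟨h1, g.2⟩
  have h3 : g.1 ∈ I ^ (n - c) • Zq E q (ModuleCat.of R M) :=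
    Submodule.smul_mono le_rfl inf_le_right h2
  have h4 : g ∈ (I ^ (n - c) • ⊤ : Submodule R (Zq E q (ModuleCat.of R M))) := by
    have : (I ^ (n - c) • ⊤ : Submodule R (Zq E q (ModuleCat.of R M))).map
        (Zq E q (ModuleCat.of R M)).subtype = I ^ (n - c) • Zq E q (ModuleCat.of R M) := by
      rw [Submodule.map_smul'', Submodule.map_top, Submodule.range_subtype]
    rw [← this] at h3
    obtain ⟨g', hg', hgg'⟩ := h3
    have : g' = g := Subtype.ext hgg'
    rwa [this] at hg'
  have h5 := Submodule.mem_map_of_mem (f := Psi E p q h (ModuleCat.of R M)) h4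
  rw [Submodule.map_smul''] at h5
  exact Submodule.smul_mono le_rfl le_top h5

/-- Finiteness of `Ext^p(E, M)`. -/
theorem finite_ext [IsNoetherianRing R] (E : DRing.Cx R)
    [E.IsKProjective] (p q : ℤ) (h : p + q = 0) [Module.Free R (E.X q)]
    [Module.Finite R (E.X q)] (M : Type u) [AddCommGroup M] [Module R M] [Module.Finite R M] :
    Module.Finite R (Q.obj E ⟶ (Dual.inD R M)⟦p⟧) := by
  haveI : Module.Finite R (E.X q →ₗ[R] M) := Module.Finite.linearMap R R (E.X q) M
  haveI : IsNoetherian R (E.X q →ₗ[R] M) := isNoetherian_of_isNoetherianRing_of_finite R _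
  exact Module.Finite.of_surjective (Psi E p q h (ModuleCat.of R M))
    (Psi_surjective E p q h (ModuleCat.of R M))

end Groth.Agent.Helper11.ExtRep
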