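import Groth.Agent.Lib.Helper11.ExtRep2
import Mathlib.Algebra.Homology.DerivedCategory.SingleTriangle
import Mathlib.CategoryTheory.Triangulated.TriangleShift

/-!
# Shifted exactness of `Hom(X, -)` on distinguished triangles; the triangle of a quotient
(helper11)
-/

set_option autoImplicit false
universe u

open CategoryTheory Limits DerivedCategory Pretriangulated

attribute [local instance] HasDerivedCategory.standard

namespace Groth.Agent.Helper11.ExtRep

section General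

variable {C : Type*} [Category C] [Preadditive C] [HasZeroObject C] [HasShift C ℤ]
  [∀ n : ℤ, (shiftFunctor C n).Additive] [Pretriangulated C]

theorem exact₂_shift (T : Triangle C) (hT : T ∈ distTriang C) (i : ℤ) {X : C}
    (f : X ⟶ T.obj₂⟦i⟧) (hf : f ≫ T.mor₂⟦i⟧' = 0) :
    ∃ g : X ⟶ T.obj₁⟦i⟧, f = g ≫ T.mor₁⟦i⟧' := by
  have hT' := Triangle.shift_distinguished T hT i
  obtain ⟨g, hg⟩ : ∃ g : X ⟶ T.obj₁⟦i⟧, f = g ≫ (i.negOnePow • T.mor₁⟦i⟧') :=
    Triangle.coyoneda_exact₂ _ hT' f (by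
      show f ≫ (i.negOnePow • T.mor₂⟦i⟧') = 0
      rw [Linear.comp_units_smul, hf, smul_zero])
  refine ⟨i.negOnePow • g, ?_⟩
  rw [hg, Linear.comp_units_smul, Linear.units_smul_comp]

theorem exact₃_shift (T : Triangle C) (hT : T ∈ distTriang C) (i : ℤ) {X : C}
    (f : X ⟶ T.obj₃⟦i⟧) (hf : f ≫ T.mor₃⟦i⟧' = 0) :
    ∃ g : X ⟶ T.obj₂⟦i⟧, f = g ≫ T.mor₂⟦i⟧' := by
  have hT' := Triangle.shift_distinguished T hT i
  obtain ⟨g, hg⟩ : ∃ g : X ⟶ T.obj₂⟦i⟧, f = g ≫ (i.negOnePow • T.mor₂⟦i⟧') :=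
    Triangle.coyoneda_exact₃ _ hT' f (by
      show f ≫ (i.negOnePow • T.mor₃⟦i⟧' ≫ (shiftFunctorComm C 1 i).hom.app T.obj₁) = 0
      rw [Linear.comp_units_smul, ← Category.assoc, hf, zero_comp, smul_zero])
  refine ⟨i.negOnePow • g, ?_⟩
  rw [hg, Linear.comp_units_smul, Linear.units_smul_comp]

end General

variable {A : Type u} [CommRing A] {M : Type u} [AddCommGroup M] [Module A M]

/-- the short complex `0 → N → M → M/N → 0`. -/
noncomputable def quotSC (N : Submodule A M) : ShortComplex (ModuleCat.{u} A) :=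
  ShortComplex.mk (ModuleCat.ofHom N.subtype) (ModuleCat.ofHom N.mkQ) (by
    apply ModuleCat.hom_ext
    apply LinearMap.ext
    intro x
    exact (Submodule.Quotient.mk_eq_zero N).2 x.2)

theorem quotSC_shortExact (N : Submodule A M) : (quotSC N).ShortExact where
  exact := by
    rw [ShortComplex.moduleCat_exact_iff_range_eq_ker]
    show LinearMap.range N.subtype = LinearMap.ker N.mkQ
    rw [Submodule.range_subtype, Submodule.ker_mkQ]
  mono_f := (ModuleCat.mono_iff_injective _).2 N.injective_subtype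
  epi_g := (ModuleCat.epi_iff_surjective _).2 N.mkQ_surjective

/-- the connecting morphism `M/N → N[1]`. -/
noncomputable def quotδ (N : Submodule A M) :
    Dual.inD A (M ⧸ N) ⟶ (Dual.inD A N)⟦(1 : ℤ)⟧ :=
  (quotSC_shortExact N).singleδ

/-- the morphism of short complexes induced by `N' ≤ N`. -/
noncomputable def quotSCMap {N' N : Submodule A M} (h : N' ≤ N) : quotSC N' ⟶ quotSC N where
  τ₁ := ModuleCat.ofHom (Submodule.inclusion h)
  τ₂ := 𝟙 _
  τ₃ := ModuleCat.ofHom (Submodule.mapQ N' N LinearMap.id h)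
  comm₁₂ := by
    apply ModuleCat.hom_ext
    apply LinearMap.ext
    intro x
    rfl
  comm₂₃ := by
    apply ModuleCat.hom_ext
    apply LinearMap.ext
    intro x
    rfl

theorem quotδ_naturality {N' N : Submodule A M} (h : N' ≤ N) :
    (DerivedCategory.singleFunctor (ModuleCat.{u} A) 0).map
        (ModuleCat.ofHom (Submodule.mapQ N' N LinearMap.id h)) ≫ quotδ N =
      quotδ N' ≫ ((DerivedCategory.singleFunctor (ModuleCat.{u} A) 0).map
        (ModuleCat.ofHom (Submodule.inclusion h)))⟦(1 : ℤ)⟧' :=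
  ((ShortComplex.ShortExact.singleTriangle.map (quotSC_shortExact N') (quotSC_shortExact N)
    (quotSCMap h)).comm₃).symm

theorem ext_exact₂ (N : Submodule A M) (i : ℤ) {K : Dual.D A} (f : K ⟶ (Dual.inD A M)⟦i⟧)
    (hf : f ≫ ((DerivedCategory.singleFunctor (ModuleCat.{u} A) 0).map
      (ModuleCat.ofHom N.mkQ))⟦i⟧' = 0) :
    ∃ g : K ⟶ (Dual.inD A N)⟦i⟧, f = g ≫ ((DerivedCategory.singleFunctor (ModuleCat.{u} A) 0).map
      (ModuleCat.ofHom N.subtype))⟦i⟧' :=
  exact₂_shift _ (quotSC_shortExact N).singleTriangle_distinguished i f hf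

theorem ext_exact₃ (N : Submodule A M) (i : ℤ) {K : Dual.D A}
    (f : K ⟶ (Dual.inD A (M ⧸ N))⟦i⟧) (hf : f ≫ (quotδ N)⟦i⟧' = 0) :
    ∃ g : K ⟶ (Dual.inD A M)⟦i⟧, f = g ≫ ((DerivedCategory.singleFunctor (ModuleCat.{u} A) 0).map
      (ModuleCat.ofHom N.mkQ))⟦i⟧' :=
  exact₃_shift _ (quotSC_shortExact N).singleTriangle_distinguished i f hf

end Groth.Agent.Helper11.ExtRep
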