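import Groth.Agent.Lib.Helper11.ExtRep3
import Groth.Agent.S7149

/-!
# `Ext` from a pseudo-coherent complex into the quotients `M/IⁿM` (helper11)
-/

set_option autoImplicit false
universe u

open CategoryTheory Limits DerivedCategory Pretriangulated

attribute [local instance] HasDerivedCategory.standard

namespace Groth.Agent.Helper11.ExtRep

variable {A : Type u} [CommRing A] [IsNoetherianRing A]

/-- finiteness of `Ext^j(K, N)` for `K` pseudo-coherent -/
theorem finite_hom_of_pc (K : Dual.D A) (hK : DRing.IsPseudoCoherent' A K) (N : Type u)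
    [AddCommGroup N] [Module A N] [Module.Finite A N] (j : ℤ) :
    Module.Finite A (K ⟶ (Dual.inD A N)⟦j⟧) := by
  obtain ⟨E, b, hb, hff, ⟨e⟩⟩ := hK
  haveI : E.IsKProjective := Groth.Agent.Helper11.DC.isKProjective_of_vanishesAbove E b hb
    (fun i => by haveI := (hff i).2; infer_instance)
  haveI : Module.Free A (E.X (-j)) := (hff _).2
  haveI : Module.Finite A (E.X (-j)) := (hff _).1
  haveI := finite_ext E j (-j) (by omega) N
  exact Module.Finite.of_surjective (Linear.leftComp A ((Dual.inD A N)⟦j⟧) e.inv)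
    (fun f => ⟨e.hom ≫ f, by
      show e.inv ≫ e.hom ≫ f = f
      rw [Iso.inv_hom_id_assoc]⟩)

/-- the submodule of elements killed by `I^n` -/
def torsBy (I : Ideal A) (H : Type*) [AddCommGroup H] [Module A H] (n : ℕ) : Submodule A H where
  carrier := {e | ∀ x ∈ I ^ n, x • e = 0}
  add_mem' := by
    intro a b ha hb x hx
    rw [smul_add, ha x hx, hb x hx, add_zero]
  zero_mem' := by
    intro x _
    exact smul_zero x
  smul_mem' := by
    intro c e he x hx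
    rw [smul_comm, he x hx, smul_zero]

theorem uniform_torsion (I : Ideal A) (H : Type*) [AddCommGroup H] [Module A H]
    [Module.Finite A H] (h : ∀ e : H, ∃ n : ℕ, ∀ x ∈ I ^ n, x • e = 0) :
    ∃ n0 : ℕ, ∀ x ∈ I ^ n0, ∀ e : H, x • e = 0 := by
  haveI : IsNoetherian A H := isNoetherian_of_isNoetherianRing_of_finite A H
  let f : ℕ →o Submodule A H :=
    ⟨torsBy I H, fun n m hnm e he x hx => he x (Ideal.pow_le_pow_right hnm hx)⟩
  obtain ⟨n0, hn0⟩ := monotone_stabilizes_iff_noetherian.2 ‹_› f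
  refine ⟨n0, fun x hx e => ?_⟩
  obtain ⟨k, hk⟩ := h e
  have h1 : e ∈ torsBy I H (max k n0) := fun y hy =>
    hk y (Ideal.pow_le_pow_right (le_max_left _ _) hy)
  have h2 : f n0 = f (max k n0) := hn0 _ (le_max_right _ _)
  have h3 : e ∈ f n0 := by
    rw [h2]
    exact h1
  exact h3 x hx

theorem exists_vanishing (I : Ideal A) (K : Dual.D A) (hK : DRing.IsPseudoCoherent' A K) (a : ℤ)
    (htors : ∀ (M : Type u) [AddCommGroup M] [Module A M], Module.Finite A M → ∀ i : ℤ, a ≤ i →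
      ∀ e : K ⟶ (Dual.inD A M)⟦i⟧, ∃ n : ℕ, ∀ x ∈ I ^ n, x • e = 0)
    (N : Type u) [AddCommGroup N] [Module A N] [Module.Finite A N] (j : ℤ) (hj : a ≤ j) :
    ∃ k0 : ℕ, ∀ k, k0 ≤ k → ∀ e : K ⟶ (Dual.inD A ↥(I ^ k • ⊤ : Submodule A N))⟦j⟧,
      e ≫ ((DerivedCategory.singleFunctor (ModuleCat.{u} A) 0).map
        (ModuleCat.ofHom (I ^ k • ⊤ : Submodule A N).subtype))⟦j⟧' = 0 := by
  obtain ⟨c, hc⟩ := Groth.Agent.S7149.result A I K hK N j
  haveI := finite_hom_of_pc K hK N j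
  obtain ⟨n0, hn0⟩ := uniform_torsion I (K ⟶ (Dual.inD A N)⟦j⟧) (htors N inferInstance j hj)
  refine ⟨c + n0, fun k hk e => ?_⟩
  have h1 := hc k (by omega) e
  have h2 : (I ^ (k - c) • ⊤ : Submodule A (K ⟶ (Dual.inD A N)⟦j⟧)) ≤ ⊥ := by
    rw [Submodule.smul_le]
    intro r hr e' _
    rw [Submodule.mem_bot]
    exact hn0 r (Ideal.pow_le_pow_right (by omega) hr) e'
  exact (Submodule.mem_bot A).1 (h2 h1)

theorem part1 (I : Ideal A) (K : Dual.D A) (hK : DRing.IsPseudoCoherent' A K) (a : ℤ)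
    (htors : ∀ (M : Type u) [AddCommGroup M] [Module A M], Module.Finite A M → ∀ i : ℤ, a ≤ i →
      ∀ e : K ⟶ (Dual.inD A M)⟦i⟧, ∃ n : ℕ, ∀ x ∈ I ^ n, x • e = 0)
    (M : Type u) [AddCommGroup M] [Module A M] [Module.Finite A M] (i : ℤ) (hi : a ≤ i) :
    ∃ m : ℕ, Function.Injective (fun e : K ⟶ (Dual.inD A M)⟦i⟧ =>
      e ≫ ((DerivedCategory.singleFunctor (ModuleCat.{u} A) 0).map
        (ModuleCat.ofHom (I ^ m • ⊤ : Submodule A M).mkQ))⟦i⟧') := by
  obtain ⟨k0, hk0⟩ := exists_vanishing I K hK a htors M i hi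
  refine ⟨k0, fun e e' h => ?_⟩
  have h' : (e - e') ≫ ((DerivedCategory.singleFunctor (ModuleCat.{u} A) 0).map
      (ModuleCat.ofHom (I ^ k0 • ⊤ : Submodule A M).mkQ))⟦i⟧' = 0 := by
    rw [Preadditive.sub_comp]
    exact sub_eq_zero.2 h
  obtain ⟨g, hg⟩ := ext_exact₂ _ i (e - e') h'
  rw [hk0 k0 le_rfl g] at hg
  exact sub_eq_zero.1 hg

theorem part2_aux {M : Type u} [AddCommGroup M] [Module A M] {K : Dual.D A} (i : ℤ)
    (N' N : Submodule A M) (hle : N' ≤ N)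
    (hvan : ∀ w : K ⟶ (Dual.inD A ↥N')⟦i + 1⟧,
      w ≫ ((DerivedCategory.singleFunctor (ModuleCat.{u} A) 0).map
        (ModuleCat.ofHom (Submodule.inclusion hle)))⟦i + 1⟧' = 0)
    (x : K ⟶ (Dual.inD A (M ⧸ N'))⟦i⟧) :
    ∃ e : K ⟶ (Dual.inD A M)⟦i⟧,
      e ≫ ((DerivedCategory.singleFunctor (ModuleCat.{u} A) 0).map
        (ModuleCat.ofHom N.mkQ))⟦i⟧' =
      x ≫ ((DerivedCategory.singleFunctor (ModuleCat.{u} A) 0).map (ModuleCat.ofHom
        (Submodule.mapQ N' N (LinearMap.id : M →ₗ[A] M) hle)))⟦i⟧' := by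
  suffices hsuff : (x ≫ ((DerivedCategory.singleFunctor (ModuleCat.{u} A) 0).map (ModuleCat.ofHom
      (Submodule.mapQ N' N (LinearMap.id : M →ₗ[A] M) hle)))⟦i⟧') ≫ (quotδ N)⟦i⟧' = 0 by
    obtain ⟨g, hg⟩ := ext_exact₃ N i _ hsuff
    exact ⟨g, hg.symm⟩
  have nat := quotδ_naturality hle
  have e1 : (x ≫ ((DerivedCategory.singleFunctor (ModuleCat.{u} A) 0).map (ModuleCat.ofHom
      (Submodule.mapQ N' N (LinearMap.id : M →ₗ[A] M) hle)))⟦i⟧') ≫ (quotδ N)⟦i⟧' =
      (x ≫ (quotδ N')⟦i⟧') ≫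
      (((DerivedCategory.singleFunctor (ModuleCat.{u} A) 0).map
        (ModuleCat.ofHom (Submodule.inclusion hle)))⟦(1 : ℤ)⟧')⟦i⟧' := by
    rw [Category.assoc, ← Functor.map_comp, nat, Functor.map_comp, Category.assoc]
  rw [e1]
  let α := shiftFunctorAdd' (Dual.D A) 1 i (i + 1) (by omega)
  have hα := α.hom.naturality ((DerivedCategory.singleFunctor (ModuleCat.{u} A) 0).map
        (ModuleCat.ofHom (Submodule.inclusion hle)))
  have e2 : (((DerivedCategory.singleFunctor (ModuleCat.{u} A) 0).map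
        (ModuleCat.ofHom (Submodule.inclusion hle)))⟦(1 : ℤ)⟧')⟦i⟧' =
      α.inv.app _ ≫ ((DerivedCategory.singleFunctor (ModuleCat.{u} A) 0).map
        (ModuleCat.ofHom (Submodule.inclusion hle)))⟦i + 1⟧' ≫ α.hom.app _ := by
    rw [hα]
    simp
  rw [e2]
  have e3 := hvan ((x ≫ (quotδ N')⟦i⟧') ≫ α.inv.app _)
  simp only [Category.assoc] at e3 ⊢
  rw [reassoc_of% e3, zero_comp]

theorem part2 (I : Ideal A) (K : Dual.D A) (hK : DRing.IsPseudoCoherent' A K) (a : ℤ)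
    (htors : ∀ (M : Type u) [AddCommGroup M] [Module A M], Module.Finite A M → ∀ i : ℤ, a ≤ i →
      ∀ e : K ⟶ (Dual.inD A M)⟦i⟧, ∃ n : ℕ, ∀ x ∈ I ^ n, x • e = 0)
    (M : Type u) [AddCommGroup M] [Module A M] [Module.Finite A M] (i : ℤ) (hi : a ≤ i) (n : ℕ) :
    ∃ (m' : ℕ) (hnm : n ≤ m'),
      ∀ x : K ⟶ (Dual.inD A (M ⧸ (I ^ m' • ⊤ : Submodule A M)))⟦i⟧,
        ∃ e : K ⟶ (Dual.inD A M)⟦i⟧,
          e ≫ ((DerivedCategory.singleFunctor (ModuleCat.{u} A) 0).map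
            (ModuleCat.ofHom (I ^ n • ⊤ : Submodule A M).mkQ))⟦i⟧' =
          x ≫ ((DerivedCategory.singleFunctor (ModuleCat.{u} A) 0).map (ModuleCat.ofHom
            (Submodule.mapQ (I ^ m' • ⊤ : Submodule A M) (I ^ n • ⊤ : Submodule A M)
              (LinearMap.id : M →ₗ[A] M)
              (Submodule.smul_mono_left (Ideal.pow_le_pow_right hnm)))))⟦i⟧' := by
  haveI : IsNoetherian A M := isNoetherian_of_isNoetherianRing_of_finite A M
  haveI : Module.Finite A ↥(I ^ n • ⊤ : Submodule A M) := inferInstance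
  obtain ⟨k0, hk0⟩ := exists_vanishing I K hK a htors ↥(I ^ n • ⊤ : Submodule A M) (i + 1)
    (by omega)
  have hnm : n ≤ n + k0 := by omega
  refine ⟨n + k0, hnm, ?_⟩
  have hle : (I ^ (n + k0) • ⊤ : Submodule A M) ≤ I ^ n • ⊤ :=
    Submodule.smul_mono_left (Ideal.pow_le_pow_right hnm)
  -- the factorization of the inclusion through `S`
  have hmap : (I ^ k0 • ⊤ : Submodule A ↥(I ^ n • ⊤ : Submodule A M)).map
      (I ^ n • ⊤ : Submodule A M).subtype = I ^ (n + k0) • ⊤ := by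
    rw [Submodule.map_smul'', Submodule.map_top, Submodule.range_subtype,
      ← Submodule.mul_smul, ← pow_add, add_comm]
  have hmem : ∀ v : ↥(I ^ (n + k0) • ⊤ : Submodule A M), Submodule.inclusion hle v ∈
      (I ^ k0 • ⊤ : Submodule A ↥(I ^ n • ⊤ : Submodule A M)) := by
    intro v
    have hv : (v : M) ∈ (I ^ k0 • ⊤ : Submodule A ↥(I ^ n • ⊤ : Submodule A M)).map
        (I ^ n • ⊤ : Submodule A M).subtype := by
      rw [hmap]
      exact v.2
    obtain ⟨s, hs, hsv⟩ := hv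
    have : s = Submodule.inclusion hle v := Subtype.ext hsv
    rwa [← this]
  let θ : ↥(I ^ (n + k0) • ⊤ : Submodule A M) →ₗ[A]
      ↥(I ^ k0 • ⊤ : Submodule A ↥(I ^ n • ⊤ : Submodule A M)) :=
    LinearMap.codRestrict _ (Submodule.inclusion hle) hmem
  have hθ : ModuleCat.ofHom (Submodule.inclusion hle) =
      ModuleCat.ofHom θ ≫ ModuleCat.ofHom
        (I ^ k0 • ⊤ : Submodule A ↥(I ^ n • ⊤ : Submodule A M)).subtype := rfl
  refine fun x => part2_aux i _ _ hle (fun w => ?_) x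
  rw [hθ, Functor.map_comp, Functor.map_comp, ← Category.assoc]
  rw [hk0 k0 le_rfl (w ≫ ((DerivedCategory.singleFunctor (ModuleCat.{u} A) 0).map
    (ModuleCat.ofHom θ))⟦i + 1⟧')]

end Groth.Agent.Helper11.ExtRep
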