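import Groth.Agent.Lib.Helper11.UHRing
import Mathlib.Algebra.MvPolynomial.Supported
import Mathlib.RingTheory.FinitePresentation

/-!
Finitely presented approximations of an algebra by quotients of finitely supported polynomial
subalgebras of the big polynomial ring `MvPolynomial B A`.
-/

open CategoryTheory AlgebraicGeometry MvPolynomial

universe u

namespace Groth.Agent.Helper11.UH

section FPA

variable (A B : Type u) [CommRing A] [CommRing B] [Algebra A B]

/-- The big polynomial ring with one variable for each element of `B`. -/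
abbrev PP : Type u := MvPolynomial B A

/-- The tautological surjection. -/
noncomputable def piB : PP A B →+* B := (MvPolynomial.aeval (R := A) (fun b : B => b)).toRingHom

theorem piB_X (b : B) : piB A B (X b) = b := by
  simp [piB]

theorem piB_C (a : A) : piB A B (C a) = algebraMap A B a := by
  simp [piB]

/-- Pre-indices: a finite set of variables and a finite set of polynomials. -/
abbrev PreIdx : Type u := Finset B × Finset (PP A B)

variable {A B}

/-- The polynomial subalgebra on the chosen variables. -/
noncomputable def RR (j : PreIdx A B) : Subalgebra A (PP A B) := supported A (j.1 : Set B)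

/-- The effective relations. -/
noncomputable def rels (j : PreIdx A B) : Set (RR j) := {x | (x : PP A B) ∈ j.2 ∧ piB A B x = 0}

/-- The ideal of relations. -/
noncomputable def II (j : PreIdx A B) : Ideal (RR j) := Ideal.span (rels j)

/-- The finitely presented algebra attached to a pre-index. -/
def QQ (j : PreIdx A B) : Type u := RR j ⧸ II j

noncomputable instance instCommRingQQ (j : PreIdx A B) : CommRing (QQ j) :=
  Ideal.Quotient.commRing (II j)

/-- The quotient map. -/
noncomputable def mkQ (j : PreIdx A B) : RR j →+* QQ j := Ideal.Quotient.mk (II j)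

noncomputable instance instAlgebraQQ (j : PreIdx A B) : Algebra A (QQ j) :=
  ((mkQ j).comp (algebraMap A (RR j))).toAlgebra

theorem mkQ_surjective (j : PreIdx A B) : Function.Surjective (mkQ j) :=
  Ideal.Quotient.mk_surjective

theorem mkQ_eq_zero_iff (j : PreIdx A B) (x : RR j) : mkQ j x = 0 ↔ x ∈ II j :=
  Ideal.Quotient.eq_zero_iff_mem

theorem II_le_ker (j : PreIdx A B) (x : RR j) (hx : x ∈ II j) :
    ((piB A B).comp (RR j).val.toRingHom) x = 0 := by
  have : II j ≤ RingHom.ker ((piB A B).comp (RR j).val.toRingHom) := by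
    unfold II
    rw [Ideal.span_le]
    intro y hy
    exact hy.2
  exact this hx

/-- The map to `B`. -/
noncomputable def gam (j : PreIdx A B) : QQ j →+* B :=
  Ideal.Quotient.lift (II j) ((piB A B).comp (RR j).val.toRingHom) (II_le_ker j)

theorem gam_mk (j : PreIdx A B) (x : RR j) :
    gam j (mkQ j x) = piB A B x := rfl

theorem algebraMap_QQ (j : PreIdx A B) (a : A) :
    algebraMap A (QQ j) a = mkQ j (algebraMap A (RR j) a) := rfl

theorem gam_algebraMap (j : PreIdx A B) (a : A) :
    gam j (algebraMap A (QQ j) a) = algebraMap A B a := by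
  rw [algebraMap_QQ, gam_mk]
  exact piB_C A B a

theorem gam_comp (j : PreIdx A B) : (gam j).comp (algebraMap A (QQ j)) = algebraMap A B :=
  RingHom.ext (gam_algebraMap j)

theorem RR_mono {j j' : PreIdx A B} (h : j ≤ j') : RR j ≤ RR j' :=
  supported_mono (Finset.coe_subset.mpr h.1)

/-- Inclusion of polynomial subalgebras. -/
noncomputable def incl {j j' : PreIdx A B} (h : j ≤ j') : RR j →+* RR j' :=
  (Subalgebra.inclusion (RR_mono h)).toRingHom

theorem incl_coe {j j' : PreIdx A B} (h : j ≤ j') (x : RR j) :
    ((incl h x : RR j') : PP A B) = x :=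
  Subalgebra.coe_inclusion _ x

theorem incl_algebraMap {j j' : PreIdx A B} (h : j ≤ j') (a : A) :
    incl h (algebraMap A (RR j) a) = algebraMap A (RR j') a :=
  Subtype.ext (by rw [incl_coe, Subalgebra.coe_algebraMap, Subalgebra.coe_algebraMap])

theorem II_le {j j' : PreIdx A B} (h : j ≤ j') : II j ≤ (II j').comap (incl h) := by
  unfold II
  rw [Ideal.span_le]
  intro x hx
  rw [SetLike.mem_coe, Ideal.mem_comap]
  apply Ideal.subset_span
  refine ⟨?_, ?_⟩
  · rw [incl_coe]
    exact h.2 hx.1
  · rw [incl_coe]
    exact hx.2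

/-- The transition maps. -/
noncomputable def trans {j j' : PreIdx A B} (h : j ≤ j') : QQ j →+* QQ j' :=
  Ideal.quotientMap (II j') (incl h) (II_le h)

theorem trans_mk {j j' : PreIdx A B} (h : j ≤ j') (x : RR j) :
    trans h (mkQ j x) = mkQ j' (incl h x) :=
  Ideal.quotientMap_mk

theorem gam_trans {j j' : PreIdx A B} (h : j ≤ j') (y : QQ j) : gam j' (trans h y) = gam j y := by
  obtain ⟨x, rfl⟩ := mkQ_surjective j y
  rw [trans_mk, gam_mk, gam_mk, incl_coe]

theorem trans_algebraMap {j j' : PreIdx A B} (h : j ≤ j') (a : A) :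
    trans h (algebraMap A (QQ j) a) = algebraMap A (QQ j') a := by
  rw [algebraMap_QQ, trans_mk, incl_algebraMap]
  exact (algebraMap_QQ j' a).symm

theorem trans_comp_algebraMap {j j' : PreIdx A B} (h : j ≤ j') :
    (trans h).comp (algebraMap A (QQ j)) = algebraMap A (QQ j') :=
  RingHom.ext (trans_algebraMap h)

theorem trans_refl (j : PreIdx A B) (y : QQ j) : trans (le_refl j) y = y := by
  obtain ⟨x, rfl⟩ := mkQ_surjective j y
  rw [trans_mk]
  exact congrArg _ (Subtype.ext (incl_coe _ x))

theorem trans_trans {j j' j'' : PreIdx A B} (h : j ≤ j') (h' : j' ≤ j'') (y : QQ j) :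
    trans h' (trans h y) = trans (h.trans h') y := by
  obtain ⟨x, rfl⟩ := mkQ_surjective j y
  rw [trans_mk, trans_mk, trans_mk]
  exact congrArg _ (Subtype.ext (by rw [incl_coe, incl_coe, incl_coe]))

theorem X_mem_RR (j : PreIdx A B) (s : B) (hs : s ∈ j.1) : (X s : PP A B) ∈ RR j :=
  Algebra.subset_adjoin ⟨s, hs, rfl⟩

/-- The generators. -/
noncomputable def gen (j : PreIdx A B) (s : B) (hs : s ∈ j.1) : QQ j :=
  mkQ j ⟨X s, X_mem_RR j s hs⟩

theorem gam_gen (j : PreIdx A B) (s : B) (hs : s ∈ j.1) : gam j (gen j s hs) = s := by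
  unfold gen
  rw [gam_mk]
  exact piB_X A B s

theorem trans_gen {j j' : PreIdx A B} (h : j ≤ j') (s : B) (hs : s ∈ j.1) :
    trans h (gen j s hs) = gen j' s (h.1 hs) := by
  unfold gen
  rw [trans_mk]
  exact congrArg _ (Subtype.ext (incl_coe h _))

/-- Induction on the generators. -/
theorem gen_induction (j : PreIdx A B) (p : QQ j → Prop)
    (halg : ∀ a, p (algebraMap A (QQ j) a)) (hadd : ∀ x y, p x → p y → p (x + y))
    (hmul : ∀ x y, p x → p y → p (x * y)) (hgen : ∀ s hs, p (gen j s hs)) : ∀ y, p y := by
  have key : ∀ (x : PP A B) (hx : x ∈ Algebra.adjoin A (X '' (j.1 : Set B))),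
      p (mkQ j (⟨x, hx⟩ : RR j)) := by
    intro x hx
    induction hx using Algebra.adjoin_induction with
    | mem x hx =>
      obtain ⟨s, hs, rfl⟩ := hx
      exact hgen s hs
    | algebraMap a =>
      have e : (⟨algebraMap A (PP A B) a, Subalgebra.algebraMap_mem _ a⟩ : RR j) =
          algebraMap A (RR j) a := Subtype.ext (Subalgebra.coe_algebraMap _ a).symm
      have := halg a
      rw [algebraMap_QQ, ← e] at this
      exact this
    | add x y hx hy ihx ihy =>
      have e : (⟨x + y, Subalgebra.add_mem _ hx hy⟩ : RR j) = ⟨x, hx⟩ + ⟨y, hy⟩ := rfl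
      have := hadd _ _ ihx ihy
      rw [← map_add, ← e] at this
      exact this
    | mul x y hx hy ihx ihy =>
      have e : (⟨x * y, Subalgebra.mul_mem _ hx hy⟩ : RR j) = ⟨x, hx⟩ * ⟨y, hy⟩ := rfl
      have := hmul _ _ ihx ihy
      rw [← map_mul, ← e] at this
      exact this
  intro y
  obtain ⟨⟨x, hx⟩, rfl⟩ := mkQ_surjective j y
  exact key x hx

end FPA

end Groth.Agent.Helper11.UH
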