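import Groth.Agent.Lib.Helper11.FPApprox

/-!
Good pre-indices: those whose algebra is integral, radicial (and with trivial residue field
extensions) over the base; the master lemma for checking goodness on generators.
-/

open CategoryTheory AlgebraicGeometry MvPolynomial

universe u

namespace Groth.Agent.Helper11.UH

section InKMore

variable {A C : Type u} [CommRing A] [CommRing C] (ψ : A →+* C) (q : PrimeSpectrum C)

theorem inK_of_mem {c : C} (hc : c ∈ q.asIdeal) : InK ψ q c := by
  refine ⟨0, 1, ?_, ?_⟩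
  · rw [map_one]
    exact fun h1 => q.isPrime.ne_top ((Ideal.eq_top_iff_one _).mpr h1)
  · rw [map_one, one_mul, map_zero, sub_zero]
    exact hc

theorem inK_div {x y c : C} (hx : InK ψ q x) (hy : InK ψ q y) (hxq : x ∉ q.asIdeal)
    (hc : x * c - y ∈ q.asIdeal) : InK ψ q c := by
  obtain ⟨a₁, s₁, hs₁, h₁⟩ := hx
  obtain ⟨a₂, s₂, hs₂, h₂⟩ := hy
  have hprime := q.isPrime
  have ha₁ : ψ a₁ ∉ q.asIdeal := by
    intro hmem
    have : ψ s₁ * x ∈ q.asIdeal := by
      have := Ideal.add_mem _ h₁ hmem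
      rwa [sub_add_cancel] at this
    exact (hprime.mem_or_mem this).elim hs₁ hxq
  refine ⟨a₂ * s₁, s₂ * a₁, ?_, ?_⟩
  · rw [map_mul]
    exact fun hmem => (hprime.mem_or_mem hmem).elim hs₂ ha₁
  · have e : ψ (s₂ * a₁) * c - ψ (a₂ * s₁) =
        ψ s₂ * ψ s₁ * (x * c - y) + ψ s₁ * (ψ s₂ * y - ψ a₂) - ψ s₂ * c * (ψ s₁ * x - ψ a₁) := by
      simp only [map_mul]
      ring
    rw [e]
    exact Ideal.sub_mem _ (Ideal.add_mem _ (Ideal.mul_mem_left _ _ hc)
      (Ideal.mul_mem_left _ _ h₂)) (Ideal.mul_mem_left _ _ h₁)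

end InKMore

section Good

variable {A B : Type u} [CommRing A] [CommRing B] [Algebra A B]

/-- Good pre-indices. -/
def Good (c : Prop) (j : PreIdx A B) : Prop :=
  (algebraMap A (QQ j)).IsIntegral ∧ Radicial (algebraMap A (QQ j)) ∧
    (c → RFTriv (algebraMap A (QQ j)))

theorem isIntegralElem_trans {j j' : PreIdx A B} (h : j ≤ j') (x : QQ j)
    (hx : (algebraMap A (QQ j)).IsIntegralElem x) :
    (algebraMap A (QQ j')).IsIntegralElem (trans h x) := by
  obtain ⟨P, hP, hPx⟩ := hx
  refine ⟨P, hP, ?_⟩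
  rw [← trans_comp_algebraMap h, ← Polynomial.hom_eval₂, hPx, map_zero]

theorem inK_trans {j j' : PreIdx A B} (h : j ≤ j') (q : PrimeSpectrum (QQ j')) (y : QQ j)
    (hy : InK (algebraMap A (QQ j)) (PrimeSpectrum.comap (trans h) q) y) :
    InK (algebraMap A (QQ j')) q (trans h y) := by
  obtain ⟨a, s, hs, hsa⟩ := hy
  rw [PrimeSpectrum.comap_asIdeal, Ideal.mem_comap] at hs hsa
  refine ⟨a, s, ?_, ?_⟩
  · rw [← trans_algebraMap h]
    exact hs
  · rw [← trans_algebraMap h, ← trans_algebraMap h, ← map_mul, ← map_sub]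
    exact hsa

/-- The ways a generator of `j'` can be controlled by a smaller good index. -/
inductive Step (c : Prop) (j' : PreIdx A B) (s : B) (hs : s ∈ j'.1) : Prop
  | old (j : PreIdx A B) (h : j ≤ j') (hg : Good c j) (hsj : s ∈ j.1)
  | sqcube (j : PreIdx A B) (h : j ≤ j') (hg : Good c j) (x y : QQ j)
      (hx : gen j' s hs ^ 2 = trans h x) (hy : gen j' s hs ^ 3 = trans h y)
  | prime (hc : ¬ c) (p : ℕ) (hp : p.Prime) (j : PreIdx A B) (h : j ≤ j') (hg : Good c j)
      (x y : QQ j) (hy : (p : QQ j') * gen j' s hs = trans h y)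
      (hx : gen j' s hs ^ p = trans h x)

theorem good_of_steps_int (c : Prop) (j' : PreIdx A B) (H : ∀ s hs, Step c j' s hs) :
    (algebraMap A (QQ j')).IsIntegral := by
  apply gen_induction j' (fun y => (algebraMap A (QQ j')).IsIntegralElem y)
  · intro a
    exact (algebraMap A (QQ j')).isIntegralElem_map
  · intro x y hx hy
    exact RingHom.IsIntegralElem.add _ hx hy
  · intro x y hx hy
    exact RingHom.IsIntegralElem.mul _ hx hy
  · intro s hs
    rcases H s hs with ⟨j, h, hg, hsj⟩ | ⟨j, h, hg, x, y, hx, hy⟩ |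
      ⟨hc, p, hp, j, h, hg, x, y, hy, hx⟩
    · rw [← trans_gen h s hsj]
      exact isIntegralElem_trans h _ (hg.1 _)
    · have h2 : IsIntegral A (gen j' s hs ^ 2) := by
        rw [hx]
        exact isIntegralElem_trans h _ (hg.1 _)
      exact IsIntegral.of_pow (by norm_num : 0 < 2) h2
    · have h2 : IsIntegral A (gen j' s hs ^ p) := by
        rw [hx]
        exact isIntegralElem_trans h _ (hg.1 _)
      exact IsIntegral.of_pow hp.pos h2


theorem good_of_steps_rad (c : Prop) (j' : PreIdx A B) (H : ∀ s hs, Step c j' s hs) :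
    Radicial (algebraMap A (QQ j')) := by
  intro K _ g₁ g₂ hg12
  have hcomp : ∀ (j : PreIdx A B) (h : j ≤ j'), Good c j →
      g₁.comp (trans h) = g₂.comp (trans h) := by
    intro j h hg
    apply hg.2.1 K
    rw [RingHom.comp_assoc, RingHom.comp_assoc, trans_comp_algebraMap, hg12]
  apply RingHom.ext
  apply gen_induction j' (fun y => g₁ y = g₂ y)
  · intro a
    exact RingHom.congr_fun hg12 a
  · intro x y hx hy
    rw [map_add, map_add, hx, hy]
  · intro x y hx hy
    rw [map_mul, map_mul, hx, hy]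
  · intro s hs
    rcases H s hs with ⟨j, h, hg, hsj⟩ | ⟨j, h, hg, x, y, hx, hy⟩ |
      ⟨hc, p, hp, j, h, hg, x, y, hy, hx⟩
    · rw [← trans_gen h s hsj]
      exact RingHom.congr_fun (hcomp j h hg) _
    · apply eq_of_sq_cube
      · rw [← map_pow, ← map_pow, hx]
        exact RingHom.congr_fun (hcomp j h hg) _
      · rw [← map_pow, ← map_pow, hy]
        exact RingHom.congr_fun (hcomp j h hg) _
    · apply eq_of_prime_pow p hp
      · have := RingHom.congr_fun (hcomp j h hg) y
        simp only [RingHom.comp_apply] at this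
        rw [← hy, map_mul, map_mul, map_natCast, map_natCast] at this
        exact this
      · rw [← map_pow, ← map_pow, hx]
        exact RingHom.congr_fun (hcomp j h hg) _

theorem good_of_steps_rf (c : Prop) (j' : PreIdx A B) (H : ∀ s hs, Step c j' s hs) (hc : c) :
    RFTriv (algebraMap A (QQ j')) := by
  intro q
  apply gen_induction j' (fun y => InK (algebraMap A (QQ j')) q y)
  · intro a
    exact inK_map _ q a
  · intro x y hx hy
    exact inK_add _ q hx hy
  · intro x y hx hy
    exact inK_mul _ q hx hy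
  · intro s hs
    rcases H s hs with ⟨j, h, hg, hsj⟩ | ⟨j, h, hg, x, y, hx, hy⟩ |
      ⟨hc', p, hp, j, h, hg, x, y, hy, hx⟩
    · rw [← trans_gen h s hsj]
      exact inK_trans h q _ (hg.2.2 hc _ _)
    · have hx' : InK (algebraMap A (QQ j')) q (trans h x) := inK_trans h q _ (hg.2.2 hc _ _)
      have hy' : InK (algebraMap A (QQ j')) q (trans h y) := inK_trans h q _ (hg.2.2 hc _ _)
      by_cases hxq : trans h x ∈ q.asIdeal
      · apply inK_of_mem
        rw [← hx] at hxq
        exact q.isPrime.mem_of_pow_mem 2 hxq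
      · apply inK_div _ q hx' hy' hxq
        rw [← hx, ← hy]
        have : gen j' s hs ^ 2 * gen j' s hs - gen j' s hs ^ 3 = 0 := by ring
        rw [this]
        exact Ideal.zero_mem _
    · exact absurd hc hc'

theorem good_of_steps (c : Prop) (j' : PreIdx A B) (H : ∀ s hs, Step c j' s hs) :
    Good c j' :=
  ⟨good_of_steps_int c j' H, good_of_steps_rad c j' H, good_of_steps_rf c j' H⟩

end Good

end Groth.Agent.Helper11.UH
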