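import Groth.Agent.Lib.Helper11.FPApprox2

/-!
Constructions of good pre-indices: the base index, suprema, adding relations, and elementary
extensions.
-/

open CategoryTheory AlgebraicGeometry MvPolynomial

universe u

namespace Groth.Agent.Helper11.UH

section Constr

variable {A B : Type u} [CommRing A] [CommRing B] [Algebra A B]

variable (A B) in
/-- The base index. -/
def j0 : PreIdx A B := (∅, ∅)

theorem good_j0 (c : Prop) : Good c (j0 A B) := by
  apply good_of_steps
  intro s hs
  exact absurd hs (Finset.notMem_empty s)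

open Classical in
/-- Supremum of pre-indices. -/
noncomputable def jsup (j₁ j₂ : PreIdx A B) : PreIdx A B := (j₁.1 ∪ j₂.1, j₁.2 ∪ j₂.2)

theorem le_jsup_left (j₁ j₂ : PreIdx A B) : j₁ ≤ jsup j₁ j₂ := by
  classical
  exact ⟨Finset.subset_union_left, Finset.subset_union_left⟩

theorem le_jsup_right (j₁ j₂ : PreIdx A B) : j₂ ≤ jsup j₁ j₂ := by
  classical
  exact ⟨Finset.subset_union_right, Finset.subset_union_right⟩

theorem good_jsup (c : Prop) (j₁ j₂ : PreIdx A B) (h₁ : Good c j₁) (h₂ : Good c j₂) :
    Good c (jsup j₁ j₂) := by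
  classical
  apply good_of_steps
  intro s hs
  rcases Finset.mem_union.mp hs with h | h
  · exact Step.old j₁ (le_jsup_left j₁ j₂) h₁ h
  · exact Step.old j₂ (le_jsup_right j₁ j₂) h₂ h

open Classical in
/-- Adding relations. -/
noncomputable def jrel (j : PreIdx A B) (T : Finset (PP A B)) : PreIdx A B := (j.1, j.2 ∪ T)

theorem le_jrel (j : PreIdx A B) (T : Finset (PP A B)) : j ≤ jrel j T := by
  classical
  exact ⟨Finset.Subset.refl _, Finset.subset_union_left⟩

theorem good_jrel (c : Prop) (j : PreIdx A B) (T : Finset (PP A B)) (h : Good c j) :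
    Good c (jrel j T) := by
  apply good_of_steps
  intro s hs
  exact Step.old j (le_jrel j T) h hs

theorem mkQ_eq_zero_of_rel {j j' : PreIdx A B} (h : j ≤ j') (r : RR j)
    (hr : (r : PP A B) ∈ j'.2) (hr0 : piB A B r = 0) : trans h (mkQ j r) = 0 := by
  rw [trans_mk, mkQ_eq_zero_iff]
  apply Ideal.subset_span
  refine ⟨?_, ?_⟩
  · rw [incl_coe]
    exact hr
  · rw [incl_coe]
    exact hr0

theorem mkQ_eq_of_rel (j' : PreIdx A B) (u v : RR j')
    (hr : ((u : PP A B) - v) ∈ j'.2) (hr0 : piB A B u = piB A B v) : mkQ j' u = mkQ j' v := by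
  rw [← sub_eq_zero, ← map_sub, mkQ_eq_zero_iff]
  apply Ideal.subset_span
  refine ⟨?_, ?_⟩
  · rw [Subalgebra.coe_sub]
    exact hr
  · rw [Subalgebra.coe_sub, map_sub, hr0, sub_self]

open Classical in
/-- Adding a generator with two relations. -/
noncomputable def jext (j : PreIdx A B) (b : B) (r₁ r₂ : PP A B) : PreIdx A B :=
  (insert b j.1, insert r₁ (insert r₂ j.2))

theorem le_jext (j : PreIdx A B) (b : B) (r₁ r₂ : PP A B) : j ≤ jext j b r₁ r₂ := by
  classical
  refine ⟨Finset.subset_insert _ _, ?_⟩
  exact (Finset.subset_insert _ _).trans (Finset.subset_insert _ _)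

theorem mem_jext (j : PreIdx A B) (b : B) (r₁ r₂ : PP A B) : b ∈ (jext j b r₁ r₂).1 := by
  classical
  exact Finset.mem_insert_self _ _

/-- The square-cube extension is good. -/
theorem good_jext_sqcube (c : Prop) (j : PreIdx A B) (hg : Good c j) (b : B) (x y : RR j)
    (hx : piB A B x = b ^ 2) (hy : piB A B y = b ^ 3) :
    Good c (jext j b ((X b : PP A B) ^ 2 - (x : PP A B)) ((X b : PP A B) ^ 3 - (y : PP A B))) := by
  classical
  set j' := jext j b ((X b : PP A B) ^ 2 - (x : PP A B)) ((X b : PP A B) ^ 3 - (y : PP A B))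
    with hj'
  have hle : j ≤ j' := le_jext j b _ _
  apply good_of_steps
  intro s hs
  by_cases hsb : s = b
  · subst hsb
    refine Step.sqcube j hle hg (mkQ j x) (mkQ j y) ?_ ?_
    · unfold gen
      rw [trans_mk, ← map_pow]
      apply mkQ_eq_of_rel
      · rw [Subalgebra.coe_pow, incl_coe]
        exact Finset.mem_insert_self _ _
      · rw [Subalgebra.coe_pow, incl_coe, map_pow, piB_X, hx]
    · unfold gen
      rw [trans_mk, ← map_pow]
      apply mkQ_eq_of_rel
      · rw [Subalgebra.coe_pow, incl_coe]
        exact Finset.mem_insert_of_mem (Finset.mem_insert_self _ _)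
      · rw [Subalgebra.coe_pow, incl_coe, map_pow, piB_X, hy]
  · have hs' : s ∈ j.1 := by
      rcases Finset.mem_insert.mp hs with h | h
      · exact absurd h hsb
      · exact h
    exact Step.old j hle hg hs'

/-- The prime extension is good. -/
theorem good_jext_prime (c : Prop) (hc : ¬ c) (j : PreIdx A B) (hg : Good c j) (b : B)
    (p : ℕ) (hp : p.Prime) (x y : RR j)
    (hy : piB A B y = (p : B) * b) (hx : piB A B x = b ^ p) :
    Good c (jext j b ((p : PP A B) * (X b : PP A B) - (y : PP A B))
      ((X b : PP A B) ^ p - (x : PP A B))) := by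
  classical
  set j' := jext j b ((p : PP A B) * (X b : PP A B) - (y : PP A B))
    ((X b : PP A B) ^ p - (x : PP A B)) with hj'
  have hle : j ≤ j' := le_jext j b _ _
  apply good_of_steps
  intro s hs
  by_cases hsb : s = b
  · subst hsb
    refine Step.prime hc p hp j hle hg (mkQ j x) (mkQ j y) ?_ ?_
    · unfold gen
      rw [trans_mk, ← map_natCast (mkQ j'), ← map_mul]
      apply mkQ_eq_of_rel
      · rw [Subalgebra.coe_mul, SubringClass.coe_natCast, incl_coe]
        exact Finset.mem_insert_self _ _
      · rw [Subalgebra.coe_mul, SubringClass.coe_natCast, incl_coe, map_mul, map_natCast, piB_X,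
          hy]
    · unfold gen
      rw [trans_mk, ← map_pow]
      apply mkQ_eq_of_rel
      · rw [Subalgebra.coe_pow, incl_coe]
        exact Finset.mem_insert_of_mem (Finset.mem_insert_self _ _)
      · rw [Subalgebra.coe_pow, incl_coe, map_pow, piB_X, hx]
  · have hs' : s ∈ j.1 := by
      rcases Finset.mem_insert.mp hs with h | h
      · exact absurd h hsb
      · exact h
    exact Step.old j hle hg hs'

end Constr

end Groth.Agent.Helper11.UH
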