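import Groth.Agent.Lib.Helper11.UHRing
import Mathlib.CategoryTheory.Limits.Preserves.Over
import Mathlib.Algebra.Category.Ring.FilteredColimits
import Mathlib.CategoryTheory.Limits.Types.Filtered

/-!
Filtered colimits of algebras inherit integrality, radiciality, surjectivity on spectra and
triviality of residue field extensions.
-/

open CategoryTheory AlgebraicGeometry Limits

universe u

namespace Groth.Agent.Helper11.UH

/-- A jointly surjective directed system of `A`-algebras mapping to `B`. -/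
structure DirSys {A B : Type u} [CommRing A] [CommRing B] (ψ : A →+* B) {J : Type u}
    (Bj : J → Type u) [∀ j, CommRing (Bj j)] (ψj : ∀ j, A →+* Bj j)
    (ιj : ∀ j, Bj j →+* B) : Prop where
  comp : ∀ j, (ιj j).comp (ψj j) = ψ
  surj : ∀ b : B, ∃ (j : J) (y : Bj j), ιj j y = b
  ker : ∀ (j : J) (y : Bj j), ιj j y = 0 →
    ∃ (k : J) (g : Bj j →+* Bj k), g.comp (ψj j) = ψj k ∧ g y = 0
  ne : Nonempty J

namespace DirSys

variable {A B : Type u} [CommRing A] [CommRing B] {ψ : A →+* B} {J : Type u}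
  {Bj : J → Type u} [∀ j, CommRing (Bj j)] {ψj : ∀ j, A →+* Bj j} {ιj : ∀ j, Bj j →+* B}

theorem isIntegral (h : DirSys ψ Bj ψj ιj) (hj : ∀ j, (ψj j).IsIntegral) : ψ.IsIntegral := by
  intro b
  obtain ⟨j, y, rfl⟩ := h.surj b
  obtain ⟨P, hP, hPy⟩ := hj j y
  refine ⟨P, hP, ?_⟩
  rw [← h.comp j, ← Polynomial.hom_eval₂, hPy, map_zero]

theorem radicial (h : DirSys ψ Bj ψj ιj) (hj : ∀ j, Radicial (ψj j)) : Radicial ψ := by
  intro K _ g₁ g₂ hg
  ext b
  obtain ⟨j, y, rfl⟩ := h.surj b
  have : g₁.comp (ιj j) = g₂.comp (ιj j) := by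
    apply hj j K
    rw [RingHom.comp_assoc, RingHom.comp_assoc, h.comp j, hg]
  exact RingHom.congr_fun this y

theorem surjective (h : DirSys ψ Bj ψj ιj) (hint : ∀ j, (ψj j).IsIntegral)
    (hj : ∀ j, Function.Surjective (PrimeSpectrum.comap (ψj j))) :
    Function.Surjective (PrimeSpectrum.comap ψ) := by
  intro p
  have hint' := h.isIntegral hint
  let _ : Algebra A B := ψ.toAlgebra
  have : Algebra.IsIntegral A B := ⟨hint'⟩
  have hle : (⊥ : Ideal B).comap (algebraMap A B) ≤ p.asIdeal := by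
    intro a ha
    have h0 : ψ a = 0 := ha
    obtain ⟨j⟩ := h.ne
    have h1 : ιj j (ψj j a) = 0 := by
      rw [← RingHom.comp_apply, h.comp, h0]
    obtain ⟨k, g, hg, hgy⟩ := h.ker j _ h1
    have hk : ψj k a = 0 := by
      rw [← hg]
      exact hgy
    obtain ⟨Q, hQ⟩ := hj k p
    rw [← hQ]
    change ψj k a ∈ Q.asIdeal
    rw [hk]
    exact Ideal.zero_mem _
  obtain ⟨Q, -, hQ, hQq⟩ := Ideal.exists_ideal_over_prime_of_isIntegral p.asIdeal
    (⊥ : Ideal B) hle
  refine ⟨⟨Q, hQ⟩, ?_⟩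
  ext x
  rw [← hQq]
  rfl

theorem rftriv (h : DirSys ψ Bj ψj ιj) (hj : ∀ j, RFTriv (ψj j)) : RFTriv ψ := by
  intro q c
  obtain ⟨j, y, rfl⟩ := h.surj c
  obtain ⟨a, s, hs, hsa⟩ := hj j (PrimeSpectrum.comap (ιj j) q) y
  refine ⟨a, s, ?_, ?_⟩
  · rw [← h.comp j]
    exact hs
  · rw [← h.comp j]
    have : ιj j (ψj j s * y - ψj j a) ∈ q.asIdeal := hsa
    rwa [map_sub, map_mul] at this

theorem uhom (h : DirSys ψ Bj ψj ιj) (hj : ∀ j, UHom (ψj j)) : UHom ψ :=
  ⟨h.isIntegral fun j => (hj j).1, h.surjective (fun j => (hj j).1) fun j => (hj j).2.1,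
    h.radicial fun j => (hj j).2.2⟩

end DirSys

theorem dirSys_of_isColimit (A : CommRingCat.{u}) {J : Type u} [SmallCategory J] [IsFiltered J]
    (F : J ⥤ Under A) (c : Cocone F) (hc : IsColimit c) :
    DirSys c.pt.hom.hom (fun j => (F.obj j).right) (fun j => (F.obj j).hom.hom)
      (fun j => (c.ι.app j).right.hom) := by
  have hc1 : IsColimit ((Under.forget A).mapCocone c) := isColimitOfPreserves _ hc
  have hc2 : IsColimit ((forget CommRingCat).mapCocone ((Under.forget A).mapCocone c)) :=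
    isColimitOfPreserves _ hc1
  refine ⟨?_, ?_, ?_, IsFiltered.nonempty⟩
  · intro j
    have := Under.w (c.ι.app j)
    have h2 := congrArg CommRingCat.Hom.hom this
    rw [CommRingCat.hom_comp] at h2
    exact h2
  · intro b
    obtain ⟨j, y, hy⟩ := Types.jointly_surjective_of_isColimit hc2 b
    exact ⟨j, y, hy⟩
  · intro j y hy
    have := (Types.FilteredColimit.isColimit_eq_iff' hc2 (i := j) y
      (0 : (F.obj j).right)).mp (by
        change (c.ι.app j).right.hom y = (c.ι.app j).right.hom 0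
        rw [hy, map_zero])
    obtain ⟨k, f, hf⟩ := this
    refine ⟨k, (F.map f).right.hom, ?_, ?_⟩
    · have := Under.w (F.map f)
      have h2 := congrArg CommRingCat.Hom.hom this
      rw [CommRingCat.hom_comp] at h2
      exact h2
    · have h0 : (F.map f).right.hom (0 : (F.obj j).right) = 0 := map_zero _
      rw [← h0]
      exact hf

end Groth.Agent.Helper11.UH
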