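import Groth.Agent.Lib.Helper11.FPApprox3
import Groth.Agent.Lib.Helper11.UHColim

/-!
Every element is reached by a good pre-index (using the key lemma), and properties of the
algebras attached to good pre-indices.
-/

open CategoryTheory AlgebraicGeometry MvPolynomial

universe u

namespace Groth.Agent.Helper11.UH

section Closure

variable (A : Type u) {B : Type u} [CommRing A] [CommRing B] [Algebra A B]

/-- Elements reached by good indices. -/
def Reach (c : Prop) (b : B) : Prop := ∃ j : PreIdx A B, Good c j ∧ ∃ y : QQ j, gam j y = b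

variable {A}

theorem reach_two (c : Prop) {b b' : B} (h : Reach A c b) (h' : Reach A c b') :
    ∃ j : PreIdx A B, Good c j ∧ ∃ y y' : QQ j, gam j y = b ∧ gam j y' = b' := by
  obtain ⟨j₁, hg₁, y₁, rfl⟩ := h
  obtain ⟨j₂, hg₂, y₂, rfl⟩ := h'
  exact ⟨jsup j₁ j₂, good_jsup c j₁ j₂ hg₁ hg₂, trans (le_jsup_left j₁ j₂) y₁,
    trans (le_jsup_right j₁ j₂) y₂, gam_trans _ _, gam_trans _ _⟩

variable (A B) in
/-- The subalgebra of reached elements. -/
def SS (c : Prop) : Subalgebra A B where
  carrier := {b | Reach A c b}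
  mul_mem' := by
    intro b b' h h'
    obtain ⟨j, hg, y, y', rfl, rfl⟩ := reach_two c h h'
    exact ⟨j, hg, y * y', map_mul _ _ _⟩
  add_mem' := by
    intro b b' h h'
    obtain ⟨j, hg, y, y', rfl, rfl⟩ := reach_two c h h'
    exact ⟨j, hg, y + y', map_add _ _ _⟩
  algebraMap_mem' := fun a => ⟨j0 A B, good_j0 c, algebraMap A _ a, gam_algebraMap _ a⟩

theorem mem_SS (c : Prop) (b : B) : b ∈ SS A B c ↔ Reach A c b := Iff.rfl

theorem reach_all (c : Prop) (hU : UHom (algebraMap A B)) (hc : c → RFTriv (algebraMap A B))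
    (b : B) : Reach A c b := by
  by_contra hb
  have hb' : b ∉ (SS A B c).val.toRingHom.range := by
    rw [mem_range_val, mem_SS]
    exact hb
  obtain ⟨b', hb'n, hcases⟩ :=
    KL_general (SS A B c).val.toRingHom (uhom_val hU (SS A B c)) ⟨b, hb'⟩
  rw [mem_range_val, mem_SS] at hb'n
  apply hb'n
  rcases hcases with ⟨h2, h3⟩ | ⟨q, hq, ℓ, hℓ, h1, h2⟩
  · rw [mem_range_val, mem_SS] at h2 h3
    obtain ⟨j, hg, y2, y3, hy2, hy3⟩ := reach_two c h2 h3
    obtain ⟨x, rfl⟩ := mkQ_surjective j y2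
    obtain ⟨y, rfl⟩ := mkQ_surjective j y3
    rw [gam_mk] at hy2 hy3
    exact ⟨_, good_jext_sqcube c j hg b' x y hy2 hy3, gen _ b' (mem_jext _ _ _ _),
      gam_gen _ _ _⟩
  · by_cases hcc : c
    · exact absurd (rftriv_val (hc hcc) (SS A B c) q b') hq
    · rw [mem_range_val, mem_SS] at h1 h2
      obtain ⟨j, hg, y1, y2, hy1, hy2⟩ := reach_two c h1 h2
      obtain ⟨y, rfl⟩ := mkQ_surjective j y1
      obtain ⟨x, rfl⟩ := mkQ_surjective j y2
      rw [gam_mk] at hy1 hy2
      exact ⟨_, good_jext_prime c hcc j hg b' ℓ hℓ x y hy1 hy2, gen _ b' (mem_jext _ _ _ _),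
        gam_gen _ _ _⟩

end Closure

section Props

variable {A B : Type u} [CommRing A] [CommRing B] [Algebra A B]

theorem uhom_of_good (c : Prop) (j : PreIdx A B) (hg : Good c j)
    (hU : UHom (algebraMap A B)) : UHom (algebraMap A (QQ j)) := by
  refine ⟨hg.1, ?_, hg.2.1⟩
  intro p
  have : Algebra.IsIntegral A (QQ j) := ⟨hg.1⟩
  have hle : (⊥ : Ideal (QQ j)).comap (algebraMap A (QQ j)) ≤ p.asIdeal := by
    intro a ha
    rw [Ideal.mem_comap, Ideal.mem_bot] at ha
    have h0 : algebraMap A B a = 0 := by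
      rw [← gam_algebraMap j a, ha, map_zero]
    obtain ⟨Q, hQ⟩ := hU.2.1 p
    rw [← hQ]
    change algebraMap A B a ∈ Q.asIdeal
    rw [h0]
    exact Ideal.zero_mem _
  obtain ⟨Q, -, hQ, hQq⟩ := Ideal.exists_ideal_over_prime_of_isIntegral p.asIdeal
    (⊥ : Ideal (QQ j)) hle
  refine ⟨⟨Q, hQ⟩, ?_⟩
  ext x
  rw [← hQq]
  rfl

theorem rels_finite (j : PreIdx A B) : (rels j).Finite := by
  have h1 : ((fun x : RR j => (x : PP A B)) ⁻¹' (j.2 : Set (PP A B))).Finite :=
    Set.Finite.preimage (Set.injOn_of_injective Subtype.val_injective) j.2.finite_toSet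
  exact h1.subset fun x hx => hx.1

theorem finitePresentation_QQ (j : PreIdx A B) : (algebraMap A (QQ j)).FinitePresentation := by
  have e : algebraMap A (QQ j) = (mkQ j).comp (algebraMap A (RR j)) := rfl
  rw [e]
  apply RingHom.FinitePresentation.comp
  · apply RingHom.FinitePresentation.of_surjective _ (mkQ_surjective j)
    have hk : RingHom.ker (mkQ j) = II j := Ideal.mk_ker
    rw [hk]
    exact Submodule.fg_span (rels_finite j)
  · rw [RingHom.finitePresentation_algebraMap]
    have : Finite ↥(j.1 : Set B) := j.1.finite_toSet.to_subtype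
    exact Algebra.FinitePresentation.equiv (supportedEquivMvPolynomial (j.1 : Set B)).symm

end Props

end Groth.Agent.Helper11.UH
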