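import Groth.Agent.Lib.Helper11.FPApprox4

/-!
The filtered diagram of good finitely presented approximations and its colimit.
-/

open CategoryTheory AlgebraicGeometry Limits

universe u

namespace Groth.Agent.Helper11.UH

section Cat

variable (A B : Type u) [CommRing A] [CommRing B] [Algebra A B] (c : Prop)

/-- The index type of good pre-indices. -/
structure JJ : Type u where
  /-- the underlying pre-index -/
  idx : PreIdx A B
  /-- goodness -/
  good : Good c idx

instance : Preorder (JJ A B c) := Preorder.lift (JJ.idx (A := A) (B := B) (c := c))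

instance : Nonempty (JJ A B c) := ⟨⟨j0 A B, good_j0 c⟩⟩

instance : IsDirectedOrder (JJ A B c) :=
  ⟨fun a b => ⟨⟨jsup a.idx b.idx, good_jsup c _ _ a.good b.good⟩,
    le_jsup_left a.idx b.idx, le_jsup_right a.idx b.idx⟩⟩

variable {A B c}

theorem JJ_le {j j' : JJ A B c} (f : j ⟶ j') : j.idx ≤ j'.idx := leOfHom f

variable (A B c)

/-- The diagram of approximations. -/
noncomputable def FF : JJ A B c ⥤ Under (CommRingCat.of A) where
  obj j := Under.mk (CommRingCat.ofHom (algebraMap A (QQ j.idx)))
  map {j j'} f := Under.homMk (CommRingCat.ofHom (trans (JJ_le f))) (by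
    apply CommRingCat.hom_ext
    apply RingHom.ext
    intro a
    exact trans_algebraMap _ a)
  map_id j := by
    apply Under.UnderMorphism.ext
    apply CommRingCat.hom_ext
    apply RingHom.ext
    intro y
    exact trans_refl _ y
  map_comp f g := by
    apply Under.UnderMorphism.ext
    apply CommRingCat.hom_ext
    apply RingHom.ext
    intro y
    exact (trans_trans _ _ y).symm

/-- The vertex. -/
noncomputable def vertex : Under (CommRingCat.of A) :=
  Under.mk (CommRingCat.ofHom (algebraMap A B))

/-- The legs of the cocone. -/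
noncomputable def leg (j : JJ A B c) : (FF A B c).obj j ⟶ vertex A B :=
  Under.homMk (CommRingCat.ofHom (gam j.idx)) (by
    apply CommRingCat.hom_ext
    apply RingHom.ext
    intro a
    have h := gam_algebraMap j.idx a
    exact h)

/-- The cocone with vertex `B`. -/
noncomputable def CCone : Cocone (FF A B c) where
  pt := vertex A B
  ι :=
    { app := fun j => leg A B c j
      naturality := by
        intro j j' f
        apply Under.UnderMorphism.ext
        apply CommRingCat.hom_ext
        apply RingHom.ext
        intro y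
        exact gam_trans _ y }

theorem mem_jrel (j : PreIdx A B) (T : Finset (PP A B)) (t : PP A B) (ht : t ∈ T) :
    t ∈ (jrel j T).2 := by
  classical
  unfold jrel
  exact Finset.mem_union_right _ ht

theorem exists_coeq (i : JJ A B c) (x y : QQ i.idx) (hxy : gam i.idx x = gam i.idx y) :
    ∃ (k : JJ A B c) (f : i ⟶ k), trans (JJ_le f) x = trans (JJ_le f) y := by
  obtain ⟨r, hr⟩ := mkQ_surjective i.idx (x - y)
  have hr0 : piB A B r = 0 := by
    rw [← gam_mk, hr, map_sub, hxy, sub_self]
  let k : JJ A B c := ⟨jrel i.idx {(r : PP A B)}, good_jrel c _ _ i.good⟩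
  have hle : i.idx ≤ k.idx := le_jrel _ _
  have hle' : i ≤ k := hle
  refine ⟨k, homOfLE hle', ?_⟩
  have h0 : trans hle (x - y) = 0 := by
    rw [← hr]
    apply mkQ_eq_zero_of_rel
    · exact mem_jrel A B _ _ _ (Finset.mem_singleton_self _)
    · exact hr0
  rw [map_sub] at h0
  exact sub_eq_zero.mp h0

/-- The cocone is a colimit cocone. -/
noncomputable def isColimitCCone (hsurj : ∀ b : B, Reach A c b) : IsColimit (CCone A B c) := by
  haveI : IsConnected (JJ A B c) := IsFiltered.isConnected _
  haveI : ReflectsColimitsOfShape (JJ A B c) (forget CommRingCat.{u}) :=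
    reflectsColimitsOfShape_of_reflectsIsomorphisms
  apply isColimitOfReflects (Under.forget (CommRingCat.of A))
  apply isColimitOfReflects (forget CommRingCat.{u})
  apply Types.FilteredColimit.isColimitOf'
  · intro b
    obtain ⟨j, hg, y, hy⟩ := hsurj b
    exact ⟨⟨j, hg⟩, y, hy.symm⟩
  · intro i x y hxy
    obtain ⟨k, f, hk⟩ := exists_coeq A B c i x y hxy
    exact ⟨k, f, hk⟩

theorem exists_fp_approx (hU : UHom (algebraMap A B)) (hc : c → RFTriv (algebraMap A B)) :
    ∃ (J : Type u) (_ : SmallCategory J) (_ : IsFiltered J)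
      (F : J ⥤ Under (CommRingCat.of A)) (cc : Cocone F) (_ : IsColimit cc),
      (∀ j, (F.obj j).hom.hom.FinitePresentation ∧ UHom (F.obj j).hom.hom ∧
        (c → RFTriv (F.obj j).hom.hom)) ∧
      cc.pt = Under.mk (CommRingCat.ofHom (algebraMap A B)) := by
  refine ⟨JJ A B c, inferInstance, inferInstance, FF A B c, CCone A B c,
    isColimitCCone A B c (reach_all c hU hc), ?_, rfl⟩
  intro j
  exact ⟨finitePresentation_QQ j.idx, uhom_of_good c j.idx j.good hU, j.good.2.2⟩

end Cat

end Groth.Agent.Helper11.UH
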