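import Groth.Agent.Lib.Helper11.MPC9
import Mathlib.Algebra.MvPolynomial.Equiv
import Mathlib.Algebra.Homology.DerivedCategory.SingleTriangle
import Mathlib.Algebra.Polynomial.Monic
import Mathlib.Algebra.Polynomial.Roots

/-!
Restriction of scalars along composites and along `S[y_1, …, y_k] → S`: the ring `S` is a
pseudo-coherent module over the polynomial ring.
-/

open CategoryTheory Category Limits Pretriangulated DerivedCategory ZeroObject

attribute [local instance] HasDerivedCategory.standard

universe u

namespace Groth.Agent.Helper11.MPC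

open Groth.Agent.Helper11.DC Groth.Agent.Helper11.GenRes Groth.Agent.Helper11.TA

section Comp

variable {A B C : Type u} [CommRing A] [CommRing B] [CommRing C] (f : A →+* B) (g : B →+* C)

/-- restriction along a composite, on complexes -/
noncomputable def resCxCompIso (K' : DRing.Cx C) :
    ((ModuleCat.restrictScalars.{u} (g.comp f)).mapHomologicalComplex (ComplexShape.up ℤ)).obj K' ≅
      ((ModuleCat.restrictScalars.{u} f).mapHomologicalComplex (ComplexShape.up ℤ)).obj
        (((ModuleCat.restrictScalars.{u} g).mapHomologicalComplex (ComplexShape.up ℤ)).obj K') :=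
  HomologicalComplex.Hom.isoOfComponents
    (fun i => ModuleCat.restrictScalarsComp'App f g (g.comp f) rfl (K'.X i))
    (fun i j _ => ModuleCat.restrictScalarsComp'App_hom_naturality f g (g.comp f) rfl (K'.d i j))

/-- restriction along a composite -/
theorem nonempty_restrictCompIso (K : Dual.D C) :
    Nonempty ((DRing.restrictD (g.comp f)).obj K ≅
      (DRing.restrictD f).obj ((DRing.restrictD g).obj K)) := by
  let K' := Q.objPreimage K
  let e : Q.obj K' ≅ K := Q.objObjPreimageIso K
  let Fgf := ModuleCat.restrictScalars.{u} (g.comp f)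
  let Ff := ModuleCat.restrictScalars.{u} f
  let Fg := ModuleCat.restrictScalars.{u} g
  exact ⟨(DRing.restrictD (g.comp f)).mapIso e.symm ≪≫ Fgf.mapDerivedCategoryFactors.app K' ≪≫
    Q.mapIso (resCxCompIso f g K') ≪≫ (Ff.mapDerivedCategoryFactors.app _).symm ≪≫
    (DRing.restrictD f).mapIso (Fg.mapDerivedCategoryFactors.app K').symm ≪≫
    (DRing.restrictD f).mapIso ((DRing.restrictD g).mapIso e)⟩

theorem mpc_restrict_comp (m : ℤ) (K : Dual.D C) :
    DRing.IsPseudoCoherent A m ((DRing.restrictD (g.comp f)).obj K) ↔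
      DRing.IsPseudoCoherent A m ((DRing.restrictD f).obj ((DRing.restrictD g).obj K)) := by
  obtain ⟨e⟩ := nonempty_restrictCompIso f g K
  exact ⟨mpc_of_iso e, mpc_of_iso e.symm⟩

variable {f g}

theorem baseIsPc_comp (hf : BaseIsPc f) (hg : BaseIsPc g) : BaseIsPc (g.comp f) := by
  have h1 : DRing.IsPseudoCoherent' A ((DRing.restrictD f).obj
      ((singleFunctor (ModuleCat.{u} B) 0).obj
        ((ModuleCat.restrictScalars.{u} g).obj (ModuleCat.of C C)))) :=
    (pc'_restrict_iff hf _).mp hg
  have h2 := thickLike_pc.iso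
    (((ModuleCat.restrictScalars.{u} f).mapDerivedCategorySingleFunctor 0).app
      ((ModuleCat.restrictScalars.{u} g).obj (ModuleCat.of C C))) h1
  exact thickLike_pc.iso ((singleFunctor (ModuleCat.{u} A) 0).mapIso
    (ModuleCat.restrictScalarsComp'App f g (g.comp f) rfl (ModuleCat.of C C)).symm) h2

end Comp

section Bij

variable {T S : Type u} [CommRing T] [CommRing S]

theorem baseIsPc_of_bijective (φ : T →+* S) (h : Function.Bijective φ) : BaseIsPc φ := by
  let X₂ : ModuleCat.{u} T := (ModuleCat.restrictScalars.{u} φ).obj (ModuleCat.of S S)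
  let j : ModuleCat.of T T ⟶ X₂ := ModuleCat.ofHom (X := ModuleCat.of T T) (Y := X₂)
    { toFun := fun t => φ t
      map_add' := fun a b => map_add φ a b
      map_smul' := fun a b => map_mul φ a b }
  haveI : IsIso j := (ConcreteCategory.isIso_iff_bijective j).mpr h
  exact thickLike_pc.iso ((singleFunctor (ModuleCat.{u} T) 0).mapIso (asIso j))
    (pc_of_finite_projective (ModuleCat.of T T))

end Bij

section OneVar

open Polynomial

variable (S : Type u) [CommRing S] (s : S)

/-- the short complex `S[X] → S[X] → S` -/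
noncomputable def evalSC : ShortComplex (ModuleCat.{u} S[X]) :=
  ShortComplex.mk
    (X₁ := ModuleCat.of S[X] S[X]) (X₂ := ModuleCat.of S[X] S[X])
    (X₃ := (ModuleCat.restrictScalars.{u} (Polynomial.evalRingHom s)).obj (ModuleCat.of S S))
    (ModuleCat.ofHom (LinearMap.mulLeft S[X] (X - C s)))
    (ModuleCat.ofHom (X := ModuleCat.of S[X] S[X])
      (Y := (ModuleCat.restrictScalars.{u} (Polynomial.evalRingHom s)).obj (ModuleCat.of S S))
      { toFun := fun p => (Polynomial.eval s p : S)
        map_add' := fun p q => Polynomial.eval_add (R := S) (p := p) (q := q) (x := s)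
        map_smul' := fun q p => Polynomial.eval_mul (R := S) (p := q) (q := p) (x := s) })
    (by
      apply ModuleCat.hom_ext
      apply LinearMap.ext
      intro p
      change Polynomial.eval s ((X - C s) * p) = 0
      simp)

theorem evalSC_shortExact : (evalSC S s).ShortExact := by
  refine ShortComplex.ShortExact.mk' ?_ ?_ ?_
  · rw [ShortComplex.moduleCat_exact_iff]
    intro p hp
    have hp' : Polynomial.eval s (p : S[X]) = 0 := hp
    obtain ⟨q, hq⟩ := Polynomial.dvd_iff_isRoot.mpr hp'
    exact ⟨q, hq.symm⟩
  · rw [ModuleCat.mono_iff_injective]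
    intro p q hpq
    exact (Polynomial.monic_X_sub_C s).isRegular.left hpq
  · rw [ModuleCat.epi_iff_surjective]
    intro a
    exact ⟨(C a : S[X]), (Polynomial.eval_C (R := S) (a := a) (x := s))⟩

theorem baseIsPc_eval : BaseIsPc (Polynomial.evalRingHom s) := by
  have hT := (evalSC_shortExact S s).singleTriangle_distinguished
  have h := pc_of_finite_projective (ModuleCat.of S[X] S[X])
  exact (pc_two_of_three _ hT).1 h h

end OneVar

section MvPoly

theorem aeval_succ_eq {k : ℕ} {S : Type u} [CommRing S] (f : Fin (k + 1) → S) :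
    ((MvPolynomial.aeval f : MvPolynomial (Fin (k + 1)) S →ₐ[S] S) :
        MvPolynomial (Fin (k + 1)) S →+* S) =
      ((MvPolynomial.aeval (fun j : Fin k => f j.succ) : MvPolynomial (Fin k) S →ₐ[S] S) :
        MvPolynomial (Fin k) S →+* S).comp
        ((Polynomial.evalRingHom (MvPolynomial.C (f 0) : MvPolynomial (Fin k) S)).comp
          ((MvPolynomial.finSuccEquiv S k : MvPolynomial (Fin (k + 1)) S ≃ₐ[S] _) :
            MvPolynomial (Fin (k + 1)) S →+* _)) := by
  apply MvPolynomial.ringHom_ext
  · intro r
    simp [MvPolynomial.finSuccEquiv_apply]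
  · intro i
    refine Fin.cases ?_ (fun j => ?_) i
    · simp [MvPolynomial.finSuccEquiv_X_zero]
    · simp [MvPolynomial.finSuccEquiv_X_succ]

theorem baseIsPc_aeval : ∀ (k : ℕ) (S : Type u) [CommRing S] (f : Fin k → S),
    BaseIsPc ((MvPolynomial.aeval f : MvPolynomial (Fin k) S →ₐ[S] S) :
      MvPolynomial (Fin k) S →+* S) := by
  intro k
  induction k with
  | zero =>
    intro S _ f
    apply baseIsPc_of_bijective
    have h : (MvPolynomial.aeval f : MvPolynomial (Fin 0) S →ₐ[S] S) =
        (MvPolynomial.isEmptyAlgEquiv S (Fin 0)).toAlgHom := by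
      apply MvPolynomial.algHom_ext
      intro i
      exact Fin.elim0 i
    change Function.Bijective (MvPolynomial.aeval f : MvPolynomial (Fin 0) S →ₐ[S] S)
    rw [h]
    exact (MvPolynomial.isEmptyAlgEquiv S (Fin 0)).bijective
  | succ k ih =>
    intro S _ f
    rw [aeval_succ_eq]
    refine baseIsPc_comp (baseIsPc_comp ?_ (baseIsPc_eval _ _)) (ih S _)
    apply baseIsPc_of_bijective
    exact (MvPolynomial.finSuccEquiv S k).bijective

end MvPoly

end Groth.Agent.Helper11.MPC
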