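import Groth.Agent.Lib.Helper11.FibTor2
import Groth.Agent.Lib.Helper11.MPC10

/-!
Local fibre criterion over a localization of a ring with fibres of finite global dimension:
tor amplitude of a complex over `P_q` from the cohomology of its fibre over `R_p` (helper11).
-/

set_option autoImplicit false

open CategoryTheory CategoryTheory.Limits MonoidalCategory TensorProduct

universe u

namespace Groth.Agent.Helper11.FibLoc

open Groth.Agent.Helper11.DC Groth.Agent.Helper11.TA Groth.Agent.Helper11.LDer
  Groth.Agent.Helper11.Dev Groth.Agent.Helper11.Glue Groth.Agent.Helper11.ProjF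
  Groth.Agent.Helper11.FibTor

attribute [local instance] HasDerivedCategory.standard

section Loc

variable {A B : Type u} [CommRing A] [CommRing B] [Algebra A B] (S : Submonoid A)
  [IsLocalization S B]

/-- for a localization `B` of `A`, the base change of the restriction of a `B`-module is the
module itself -/
noncomputable def bcRsIso (N : ModuleCat.{u} B) :
    bc ((ModuleCat.restrictScalars.{u} (algebraMap A B)).obj N) ≅ N := by
  letI : Module A N := ((ModuleCat.restrictScalars.{u} (algebraMap A B)).obj N).isModule
  haveI hST : IsScalarTower A B N := ⟨fun r a m => by rw [Algebra.smul_def, mul_smul]; rfl⟩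
  haveI := isLocalizedModule_id S N B
  exact ((IsLocalizedModule.isBaseChange S B (LinearMap.id : N →ₗ[A] N)).equiv).toModuleIso

include S in
/-- tensor products over a ring and over its localization agree, on cohomology of complexes -/
theorem isZero_homology_tens_rs_iff (X : DRing.Cx B) (N : ModuleCat.{u} B) (i : ℤ) :
    IsZero (((tens ((ModuleCat.restrictScalars.{u} (algebraMap A B)).obj N)).obj
      ((rsC (algebraMap A B)).obj X)).homology i) ↔
      IsZero (((tens N).obj X).homology i) := by
  rw [← isZero_homology_rsC_iff (algebraMap A B) ((tens N).obj X) i]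
  exact ((HomologicalComplex.homologyFunctor _ _ i).mapIso
    (rsTensIso X _ ≪≫ (rsC (algebraMap A B)).mapIso ((tensIso (bcRsIso S N)).app X))).isZero_iff

end Loc

/-- restriction of scalars of complexes along two factorizations of the same ring map -/
theorem nonempty_rsC_comp_iso {A B B' C : Type u} [CommRing A] [CommRing B] [CommRing B']
    [CommRing C] (f : A →+* B) (g : B →+* C) (f' : A →+* B') (g' : B' →+* C)
    (h : g.comp f = g'.comp f') (X : DRing.Cx C) :
    Nonempty ((rsC f).obj ((rsC g).obj X) ≅ (rsC f').obj ((rsC g').obj X)) :=
  ⟨(Groth.Agent.Helper11.MPC.resCxCompIso f g X).symm ≪≫ eqToIso (by rw [h]) ≪≫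
    Groth.Agent.Helper11.MPC.resCxCompIso f' g' X⟩

/-- dévissage along the projective dimension over the fibre ring `κ ⊗_A B` -/
theorem isZero_homology_tens_of_fibre_pdLT {A B : Type u} [CommRing A] [CommRing B] [Algebra A B]
    (κ : Type u) [CommRing κ] [Algebra A κ] (T : DRing.Cx B) (hT : ∀ i, Module.Flat B (T.X i))
    (a b : ℤ)
    (h : ∀ i : ℤ, (i < a ∨ b < i) →
      IsZero (((tens (ModuleCat.of A κ)).obj ((rsC (algebraMap A B)).obj T)).homology i))
    (d : ℕ) (N : ModuleCat.{u} (κ ⊗[A] B)) (hN : HasProjectiveDimensionLT N (d + 1)) (i : ℤ)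
    (hi : i < a - d ∨ b < i) :
    IsZero (((tens ((ModuleCat.restrictScalars.{u} (incB (A := A) (B := B) κ)).obj N)).obj
      T).homology i) := by
  have hfree : ∀ (J : Type u) (j : ℤ), (j < a ∨ b < j) →
      IsZero (((tens ((ModuleCat.restrictScalars.{u} (incB (A := A) (B := B) κ)).obj
        (ModuleCat.of (κ ⊗[A] B) (J →₀ κ ⊗[A] B)))).obj T).homology j) := by
    intro J j hj
    have h0 := isZero_homology_tens_finsupp ((rsC (algebraMap A B)).obj T)
      (ModuleCat.of A κ) J j (h j hj)
    have h1 := isZero_homology_tens_bc' T (ModuleCat.of A (J →₀ κ)) j h0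
    exact h1.of_iso ((HomologicalComplex.homologyFunctor _ _ j).mapIso
      ((tensIso (freeEquiv κ J).toModuleIso).app T)).symm
  exact isZero_homology_tens_of_pdLT (incB (A := A) (B := B) κ) T hT a b hfree d N hN i hi

section Residue

variable {R P : Type u} [CommRing R] [CommRing P] [Algebra R P] (p : Ideal R) [p.IsPrime]
  (q : Ideal P) [q.IsPrime] (hpq : p = q.comap (algebraMap R P))

/-- the ring map `κ(p) ⊗_R P → κ(q)` for a prime `q` of `P` over the prime `p` of `R` -/
noncomputable def fibToResP : (p.ResidueField ⊗[R] P) →ₐ[R] q.ResidueField :=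
  Algebra.TensorProduct.lift (Ideal.ResidueField.mapₐ p q (Algebra.ofId R P) hpq)
    (IsScalarTower.toAlgHom R P q.ResidueField) (fun _ _ => Commute.all _ _)

theorem fibToResP_incB (x : P) :
    fibToResP p q hpq (incB (A := R) p.ResidueField x) = algebraMap P q.ResidueField x := by
  show fibToResP p q hpq ((1 : p.ResidueField) ⊗ₜ[R] x) = _
  rw [fibToResP, Algebra.TensorProduct.lift_tmul, map_one, one_mul]
  rfl

/-- the residue field of `q` as a module over the fibre ring -/
noncomputable abbrev resModP : ModuleCat.{u} (p.ResidueField ⊗[R] P) :=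
  (ModuleCat.restrictScalars.{u} (fibToResP p q hpq).toRingHom).obj
    (ModuleCat.of q.ResidueField q.ResidueField)

/-- the residue field of `q` as a `P`-module, in two ways -/
noncomputable def quotEquivP :
    ((ModuleCat.restrictScalars.{u} (algebraMap P (Localization.AtPrime q))).obj
      (ModuleCat.of (Localization.AtPrime q) q.ResidueField)) ≃ₗ[P]
    ((ModuleCat.restrictScalars.{u} (incB (A := R) (B := P) p.ResidueField)).obj
      (resModP p q hpq)) :=
  { toFun := fun x => x
    invFun := fun y => y
    map_add' := fun _ _ => rfl
    map_smul' := fun x y => by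
      show (algebraMap P (Localization.AtPrime q) x) • (show q.ResidueField from y) =
        fibToResP p q hpq (incB (A := R) p.ResidueField x) * (show q.ResidueField from y)
      rw [fibToResP_incB, Algebra.smul_def,
        ← IsScalarTower.algebraMap_apply P (Localization.AtPrime q) q.ResidueField]
    left_inv := fun _ => rfl
    right_inv := fun _ => rfl }

/-- the residue field of `p` as an `R`-module, in two ways -/
noncomputable def resEquivP :
    ((ModuleCat.restrictScalars.{u} (algebraMap R (Localization.AtPrime p))).obj
      (ModuleCat.of (Localization.AtPrime p) p.ResidueField)) ≃ₗ[R]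
    (ModuleCat.of R p.ResidueField) :=
  { toFun := fun x => x
    invFun := fun y => y
    map_add' := fun _ _ => rfl
    map_smul' := fun x y => by
      show (algebraMap R (Localization.AtPrime p) x) • (show p.ResidueField from y) =
        x • (show p.ResidueField from y)
      rw [algebraMap_smul]
    left_inv := fun _ => rfl
    right_inv := fun _ => rfl }

end Residue

end Groth.Agent.Helper11.FibLoc
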