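import Groth.Agent.Lib.Helper11.FibLoc1

/-!
Local fibre criterion over a localization `P_q` of a ring `P` whose fibres over `R` have finite
global dimension (helper11).
-/

set_option autoImplicit false

open CategoryTheory CategoryTheory.Limits MonoidalCategory TensorProduct

universe u

namespace Groth.Agent.Helper11.FibLoc

open Groth.Agent.Helper11.DC Groth.Agent.Helper11.TA Groth.Agent.Helper11.LDer
  Groth.Agent.Helper11.Dev Groth.Agent.Helper11.Glue Groth.Agent.Helper11.ProjF
  Groth.Agent.Helper11.FibTor Groth.Agent.Helper11.LocalPerf

attribute [local instance] HasDerivedCategory.standard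

variable {R P : Type u} [CommRing R] [CommRing P] [Algebra R P]

/-- Let `q` be a prime of `P` over the prime `p` of `R`, where the fibre rings of `R → P` have
global dimension `≤ d`. A bounded above complex `T'` of finite projective `P_q`-modules whose
fibre `T' ⊗_{R_p} κ(p)` has cohomology only in `[a, b]` has tor amplitude in `[a - d, b]`
over `P_q`. -/
theorem hasTorAmplitudeIn_of_local_fibre (d : ℕ)
    (hgl : ∀ (p : PrimeSpectrum R) (M : Type u) [AddCommGroup M]
      [Module (TensorProduct R p.asIdeal.ResidueField P) M],
      HasProjectiveDimensionLT (ModuleCat.of (TensorProduct R p.asIdeal.ResidueField P) M) (d + 1))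
    (p : Ideal R) [p.IsPrime] (q : Ideal P) [q.IsPrime] (hpq : p = q.comap (algebraMap R P))
    (T' : DRing.Cx (Localization.AtPrime q)) (b₀ : ℤ) (hb₀ : DRing.VanishesAbove T' b₀)
    (hproj : ∀ i, Module.Projective (Localization.AtPrime q) (T'.X i))
    (hfin : ∀ i, Module.Finite (Localization.AtPrime q) (T'.X i)) (a b : ℤ)
    (h : ∀ i : ℤ, (i < a ∨ b < i) →
      IsZero (((tens (ModuleCat.of (Localization.AtPrime p) p.ResidueField)).obj
        ((rsC (Localization.localRingHom p q (algebraMap R P) hpq)).obj T')).homology i)) :
    DRing.HasTorAmplitudeIn (Localization.AtPrime q) (a - d) b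
      (DerivedCategory.Q.obj T') := by
  have hcomm : (Localization.localRingHom p q (algebraMap R P) hpq).comp
      (algebraMap R (Localization.AtPrime p)) =
      (algebraMap P (Localization.AtPrime q)).comp (algebraMap R P) :=
    RingHom.ext fun r => Localization.localRingHom_to_map p q (algebraMap R P) hpq r
  -- step 1: the fibre over `R`
  have h1 : ∀ i : ℤ, (i < a ∨ b < i) →
      IsZero (((tens (ModuleCat.of R p.ResidueField)).obj
        ((rsC (algebraMap R P)).obj
          ((rsC (algebraMap P (Localization.AtPrime q))).obj T'))).homology i) := by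
    intro i hi
    have h2 := (isZero_homology_tens_rs_iff p.primeCompl
      ((rsC (Localization.localRingHom p q (algebraMap R P) hpq)).obj T')
      (ModuleCat.of (Localization.AtPrime p) p.ResidueField) i).mpr (h i hi)
    obtain ⟨e1⟩ := nonempty_rsC_comp_iso (algebraMap R (Localization.AtPrime p))
      (Localization.localRingHom p q (algebraMap R P) hpq) (algebraMap R P)
      (algebraMap P (Localization.AtPrime q)) hcomm T'
    exact h2.of_iso ((HomologicalComplex.homologyFunctor _ _ i).mapIso
      ((tensIso (resEquivP p).toModuleIso.symm).app _ ≪≫ (tens _).mapIso e1.symm))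
  -- step 2: dévissage over the fibre ring
  have hflat : ∀ i, Module.Flat P
      (((rsC (algebraMap P (Localization.AtPrime q))).obj T').X i) := fun i => by
    haveI := hproj i
    haveI : Module.Flat (Localization.AtPrime q) (T'.X i) := inferInstance
    exact Groth.Agent.Helper11.RPBC.flat_restrictScalars P (Localization.AtPrime q) (T'.X i)
  have h3 := isZero_homology_tens_of_fibre_pdLT (A := R) (B := P) p.ResidueField
    ((rsC (algebraMap P (Localization.AtPrime q))).obj T') hflat a b h1 d (resModP p q hpq)
    (@hgl ⟨p, inferInstance⟩ q.ResidueField _ (resModP p q hpq).isModule)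
  -- step 3: back to the localization
  have h4 : ∀ i : ℤ, (i < a - d ∨ b < i) →
      IsZero (((tens (ModuleCat.of (Localization.AtPrime q) q.ResidueField)).obj
        T').homology i) := by
    intro i hi
    rw [← isZero_homology_tens_rs_iff q.primeCompl T'
      (ModuleCat.of (Localization.AtPrime q) q.ResidueField) i]
    exact (h3 i hi).of_iso ((HomologicalComplex.homologyFunctor _ _ i).mapIso
      ((tensIso (quotEquivP p q hpq).toModuleIso).app _))
  -- step 4: the local fibre criterion
  refine hasTorAmplitudeIn_of_fibre T' b₀ hb₀ hproj hfin (a - d) b (fun i hi => ?_)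
  refine IsZero.of_iso ?_ ((DerivedCategory.homologyFunctorFactors _ i).app _)
  show IsZero (((esC (IsLocalRing.residue (Localization.AtPrime q))).obj T').homology i)
  exact (isZero_homology_tens_quot_iff
    (IsLocalRing.maximalIdeal (Localization.AtPrime q)) T' i).mp (h4 i hi)

end Groth.Agent.Helper11.FibLoc
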