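import Groth.Agent.Lib.Helper11.FlatPc4

/-!
Tor-independent base change along an abstract pushout square, and projective dimension of
the base change of a flat module (helper11).
-/

set_option autoImplicit false

open CategoryTheory Category Limits DerivedCategory

attribute [local instance] HasDerivedCategory.standard

universe u

namespace Groth.Agent.Helper11.FlatPc

open Groth.Agent.Helper11.DC Groth.Agent.Helper11.TA Groth.Agent.Helper11.Dev
  Groth.Agent.Helper11.RPBC Groth.Agent.Helper11.PairPerf Groth.Agent.Helper11.MPC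

section PO

open TensorProduct ChangeOfRings

variable (P S A T : Type u) [CommRing P] [CommRing S] [CommRing A] [CommRing T]
  [Algebra P S] [Algebra P A] [Algebra P T] [Algebra A T] [Algebra S T]
  [IsScalarTower P A T] [IsScalarTower P S T]

theorem po_comm : (algebraMap S T).comp (algebraMap P S) =
    (algebraMap A T).comp (algebraMap P A) := by
  rw [← IsScalarTower.algebraMap_eq P S T, ← IsScalarTower.algebraMap_eq P A T]

set_option backward.isDefEq.respectTransparency false in
theorem bcHom_po_bijective [Algebra.IsPushout P S A T] (M : ModuleCat.{u} A) :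
    Function.Bijective (bcHom (algebraMap P A) (algebraMap P S) (algebraMap A T)
      (algebraMap S T) (po_comm P S A T) M).hom := by
  letI : Module P M := Module.compHom M (algebraMap P A)
  haveI : IsScalarTower P A M := ⟨fun p a m => by
    show (p • a) • m = algebraMap P A p • (a • m)
    rw [Algebra.smul_def, mul_smul]⟩
  let E := Algebra.IsPushout.cancelBaseChange P S A T M
  let e₂ := TensorProduct.congr (e₁ (R := P) (S := S)) (LinearEquiv.refl P M)
  let e₃ := TensorProduct.congr (e₁ (R := A) (S := T)) (LinearEquiv.refl A M)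
  have key : ∀ x, e₃ ((bcHom (algebraMap P A) (algebraMap P S) (algebraMap A T)
        (algebraMap S T) (po_comm P S A T) M).hom x) = E.symm (e₂ x) := by
    intro x
    induction x using TensorProduct.induction_on with
    | zero => rw [map_zero, map_zero, map_zero, map_zero]
    | tmul s m =>
      have h1 : e₂ (s ⊗ₜ m) = (show S from s) ⊗ₜ[P] (show M from m) := rfl
      rw [h1, Algebra.IsPushout.cancelBaseChange_symm_tmul]
      have h2 := bcHom_tmul (algebraMap P A) (algebraMap P S) (algebraMap A T)
        (algebraMap S T) (po_comm P S A T) M (show S from s) m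
      exact (congrArg e₃ h2).trans rfl
    | add x y hx hy => rw [map_add, map_add, map_add, map_add, hx, hy]
  have hfun : ⇑(bcHom (algebraMap P A) (algebraMap P S) (algebraMap A T)
      (algebraMap S T) (po_comm P S A T) M).hom = ⇑e₃.symm ∘ ⇑E.symm ∘ ⇑e₂ := funext (fun x => by
    rw [Function.comp_apply, Function.comp_apply, ← key x, LinearEquiv.symm_apply_apply])
  rw [hfun]
  exact e₃.symm.bijective.comp (E.symm.bijective.comp e₂.bijective)

theorem bcHom_po_isIso [Algebra.IsPushout P S A T] (M : ModuleCat.{u} A) :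
    IsIso (bcHom (algebraMap P A) (algebraMap P S) (algebraMap A T)
      (algebraMap S T) (po_comm P S A T) M) :=
  (ConcreteCategory.isIso_iff_bijective _).mpr (bcHom_po_bijective P S A T M)

/-- the comparison on complexes -/
noncomputable def bcCxIso_po [Algebra.IsPushout P S A T] (K : DRing.Cx A) :
    (esC (algebraMap P S)).obj ((rsC (algebraMap P A)).obj K) ≅
      (rsC (algebraMap S T)).obj ((esC (algebraMap A T)).obj K) :=
  HomologicalComplex.Hom.isoOfComponents
    (fun i => @asIso _ _ _ _ (bcHom (algebraMap P A) (algebraMap P S) (algebraMap A T)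
      (algebraMap S T) (po_comm P S A T) (K.X i)) (bcHom_po_isIso P S A T (K.X i)))
    (fun i j _ => (bcHom_naturality (algebraMap P A) (algebraMap P S) (algebraMap A T)
      (algebraMap S T) (po_comm P S A T) (K.d i j)).symm)

/-- Tor-independence: a flat resolution of a `P`-flat `A`-module stays a resolution after the
base change `A → T = S ⊗_P A`. -/
theorem tor_indep [Algebra.IsPushout P S A T] [Module.Flat P A] (E : DRing.Cx A)
    (hE0 : DRing.VanishesAbove E 0) (hfl : ∀ i, Module.Flat A (E.X i)) (M : ModuleCat.{u} A)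
    (e : Q.obj E ≅ (singleFunctor (ModuleCat.{u} A) 0).obj M)
    (hM : Module.Flat P ((ModuleCat.restrictScalars.{u} (algebraMap P A)).obj M)) :
    Nonempty (Q.obj ((esC (algebraMap A T)).obj E) ≅
      (singleFunctor (ModuleCat.{u} T) 0).obj ((es (algebraMap A T)).obj M)) := by
  let rs := ModuleCat.restrictScalars.{u} (algebraMap P A)
  let resE : DRing.Cx P := (rs.mapHomologicalComplex (ComplexShape.up ℤ)).obj E
  have hflat : ∀ i, Module.Flat P (resE.X i) := fun i => by
    haveI := hfl i
    exact flat_restrictScalars P A (E.X i)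
  have h1 : DRing.HasTorAmplitudeIn P 0 0 (Q.obj resE) := by
    haveI := hM
    obtain ⟨F, hF, hFflat, ⟨eF⟩⟩ :=
      Groth.Agent.Helper11.Glue.hasTorAmplitudeIn_inD_of_flat (B := P) (rs.obj M)
    exact ⟨F, hF, hFflat, ⟨eF ≪≫ ((rs.mapDerivedCategorySingleFunctor 0).app M).symm ≪≫
      (DRing.restrictD (algebraMap P A)).mapIso e.symm ≪≫ (rs.mapDerivedCategoryFactors.app E)⟩⟩
  have h2 := torAmp_esC_of_flat (algebraMap P S) resE 0 0 0
    (fun i hi => rs.map_isZero (hE0 i hi)) hflat h1
  let E' : DRing.Cx T := (esC (algebraMap A T)).obj E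
  have h4 : ∀ i : ℤ, i ≠ 0 → IsZero (E'.homology i) := by
    intro i hi
    have h3 := Groth.Agent.Helper11.LocalPerf.isZero_homology_of_hasTorAmplitudeIn _ 0 0 h2 i
      (by omega)
    have h3' : IsZero (((esC (algebraMap P S)).obj resE).homology i) :=
      h3.of_iso ((homologyFunctorFactors (ModuleCat.{u} S) i).app _).symm
    have h3'' : IsZero (((rsC (algebraMap S T)).obj E').homology i) :=
      h3'.of_iso ((HomologicalComplex.homologyFunctor _ _ i).mapIso (bcCxIso_po P S A T E)).symm
    exact (isZero_homology_rsC_iff _ E' i).mp h3''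
  haveI hLE : (Q.obj E').IsLE 0 := by
    rw [DerivedCategory.isLE_iff]
    intro i hi
    exact (h4 i (by omega)).of_iso ((homologyFunctorFactors (ModuleCat.{u} T) i).app E')
  haveI hGE : (Q.obj E').IsGE 0 := by
    rw [DerivedCategory.isGE_iff]
    intro i hi
    exact (h4 i (by omega)).of_iso ((homologyFunctorFactors (ModuleCat.{u} T) i).app E')
  obtain ⟨N, ⟨eN⟩⟩ := DerivedCategory.exists_iso_singleFunctor_obj_of_isGE_of_isLE (Q.obj E') 0
  obtain ⟨eTop⟩ := nonempty_top_homology_esC_iso (algebraMap A T) E 0 hE0
  have eM : E.homology 0 ≅ M :=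
    ((homologyFunctorFactors (ModuleCat.{u} A) 0).app E).symm ≪≫
      (homologyFunctor (ModuleCat.{u} A) 0).mapIso e ≪≫
      (singleFunctorCompHomologyFunctorIso (ModuleCat.{u} A) 0).app M
  have eNM : N ≅ (es (algebraMap A T)).obj M :=
    ((singleFunctorCompHomologyFunctorIso (ModuleCat.{u} T) 0).app N).symm ≪≫
      (homologyFunctor (ModuleCat.{u} T) 0).mapIso eN.symm ≪≫
      (homologyFunctorFactors (ModuleCat.{u} T) 0).app E' ≪≫ eTop ≪≫
      (es (algebraMap A T)).mapIso eM
  exact ⟨eN ≪≫ (singleFunctor (ModuleCat.{u} T) 0).mapIso eNM⟩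

/-- base change of a `P`-flat module along `A → S ⊗_P A` does not raise the projective
dimension -/
theorem pdLT_es_of_flat [Algebra.IsPushout P S A T] [Module.Flat P A] (M : ModuleCat.{u} A)
    (hM : Module.Flat P ((ModuleCat.restrictScalars.{u} (algebraMap P A)).obj M)) (k : ℕ)
    (h : HasProjectiveDimensionLT M (k + 1)) :
    HasProjectiveDimensionLT ((es (algebraMap A T)).obj M) (k + 1) := by
  obtain ⟨E, hE, hproj, ⟨e⟩⟩ := projAmp_of_hasProjectiveDimensionLT k M h
  have hfl : ∀ i, Module.Flat A (E.X i) := fun i => by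
    haveI := hproj i
    infer_instance
  obtain ⟨e'⟩ := tor_indep P S A T E (fun i hi => hE i (Or.inr hi)) hfl M e hM
  have hPA : ProjAmp (-(k : ℤ)) 0
      ((singleFunctor (ModuleCat.{u} T) 0).obj ((es (algebraMap A T)).obj M)) :=
    ⟨(esC (algebraMap A T)).obj E, fun i hi => (es (algebraMap A T)).map_isZero (hE i hi),
      fun i => by
        haveI := hproj i
        exact es_projective (algebraMap A T) (E.X i), ⟨e'⟩⟩
  refine pdLT_of_extVan _ k (fun j hj => ?_)
  exact extVan_of_projAmp _ (-(k : ℤ)) 0 hPA j (Or.inr (by omega))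

end PO

section Fibre

variable {C F : Type u} [CommRing C] [CommRing F]

/-- if `N` has projective dimension `≤ k` and `G` is a flat resolution of `N`, then every base
change of `G` is exact below degree `-k` -/
theorem isZero_homology_esC_of_pdLT (N : ModuleCat.{u} C) (k : ℕ)
    (h : HasProjectiveDimensionLT N (k + 1)) (G : DRing.Cx C) (hG0 : DRing.VanishesAbove G 0)
    (hGfl : ∀ i, Module.Flat C (G.X i))
    (e : Q.obj G ≅ (singleFunctor (ModuleCat.{u} C) 0).obj N) (χ : C →+* F) (i : ℤ)
    (hi : i < -(k : ℤ)) : IsZero (((esC χ).obj G).homology i) := by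
  have hv : TorVan (-(k : ℤ)) 0 ((singleFunctor (ModuleCat.{u} C) 0).obj N) :=
    (torVan_single_iff N k).mpr
      (fun N' p hp => isZero_tor_of_hasProjectiveDimensionLT k N h p hp N')
  have hcx : TorVanCx (-(k : ℤ)) 0 G := torVanCx_of_torVan hv G 0 hG0 hGfl e
  have h1 := hcx (Groth.Agent.Helper11.LDer.Bm χ) i (Or.inl hi)
  have h2 : IsZero (((tens (Groth.Agent.Helper11.LDer.Bm χ)).obj G).homology i) :=
    h1.of_iso ((homologyFunctorFactors (ModuleCat.{u} C) i).app _).symm
  exact (isZero_homology_tens_Bm_iff χ G i).mp h2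

end Fibre

end Groth.Agent.Helper11.FlatPc
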