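import Groth.Agent.Lib.Helper11.RelLoc3
import Groth.Agent.Lib.Helper11.PcBC
import Groth.Prelude.Def_DualSh

/-!
Base change of relatively perfect complexes along a tensor product square (helper11).
-/

set_option autoImplicit false

open CategoryTheory Category Limits Pretriangulated DerivedCategory ZeroObject

attribute [local instance] HasDerivedCategory.standard

universe u

namespace Groth.Agent.Helper11.RPBC

open Groth.Agent.Helper11.DC Groth.Agent.Helper11.MPC Groth.Agent.Helper11.TA
  Groth.Agent.Helper11.LDer Groth.Agent.Helper11.PRT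

section TP

open TensorProduct

attribute [local instance] Algebra.TensorProduct.rightAlgebra

variable (R A R' : Type u) [CommRing R] [CommRing A] [CommRing R'] [Algebra R A] [Algebra R R']

/-- `A → R' ⊗_R A` -/
noncomputable abbrev incR : A →+* R' ⊗[R] A :=
  (Algebra.TensorProduct.includeRight : A →ₐ[R] R' ⊗[R] A).toRingHom

theorem tp_comm : (algebraMap R' (R' ⊗[R] A)).comp (algebraMap R R') =
    (incR R A R').comp (algebraMap R A) := by
  ext r
  show (algebraMap R R' r) ⊗ₜ[R] (1 : A) = (1 : R') ⊗ₜ[R] (algebraMap R A r)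
  rw [Algebra.algebraMap_eq_smul_one, Algebra.algebraMap_eq_smul_one, TensorProduct.smul_tmul]

set_option backward.isDefEq.respectTransparency false in
theorem bcHom_tp_bijective (M : ModuleCat.{u} A) :
    Function.Bijective (bcHom (algebraMap R A) (algebraMap R R') (incR R A R')
      (algebraMap R' (R' ⊗[R] A)) (tp_comm R A R') M).hom := by
  letI : Module R M := Module.compHom M (algebraMap R A)
  haveI : IsScalarTower R A M := ⟨fun p a m => by
    show (p • a) • m = algebraMap R A p • (a • m)
    rw [Algebra.smul_def, mul_smul]⟩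
  let E := Algebra.IsPushout.cancelBaseChange R R' A (R' ⊗[R] A) M
  let e₁ : ((ModuleCat.restrictScalars.{u} (algebraMap R R')).obj (ModuleCat.of R' R')) ≃ₗ[R] R' :=
    { toFun := fun x => x
      invFun := fun x => x
      map_add' := fun _ _ => rfl
      map_smul' := fun r x => (Algebra.smul_def r (show R' from x)).symm
      left_inv := fun _ => rfl
      right_inv := fun _ => rfl }
  let e₂ := TensorProduct.congr e₁ (LinearEquiv.refl R M)
  have key : ∀ x, (bcHom (algebraMap R A) (algebraMap R R') (incR R A R')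
        (algebraMap R' (R' ⊗[R] A)) (tp_comm R A R') M).hom x = E.symm (e₂ x) := by
    intro x
    induction x using TensorProduct.induction_on with
    | zero => rw [map_zero, map_zero, map_zero]
    | tmul s m =>
      have h1 : e₂ (s ⊗ₜ m) = (show R' from s) ⊗ₜ[R] (show M from m) := rfl
      rw [h1, Algebra.IsPushout.cancelBaseChange_symm_tmul]
      exact bcHom_tmul _ _ _ _ _ M (show R' from s) m
    | add x y hx hy => rw [map_add, map_add, map_add, hx, hy]
  have hfun : ⇑(bcHom (algebraMap R A) (algebraMap R R') (incR R A R')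
      (algebraMap R' (R' ⊗[R] A)) (tp_comm R A R') M).hom = ⇑E.symm ∘ ⇑e₂ := funext key
  rw [hfun]
  exact E.symm.bijective.comp e₂.bijective

theorem bcHom_tp_isIso (M : ModuleCat.{u} A) :
    IsIso (bcHom (algebraMap R A) (algebraMap R R') (incR R A R')
      (algebraMap R' (R' ⊗[R] A)) (tp_comm R A R') M) :=
  (ConcreteCategory.isIso_iff_bijective _).mpr (bcHom_tp_bijective R A R' M)

/-- the comparison on complexes -/
noncomputable def bcCxIso_tp (K : DRing.Cx A) :
    (esC (algebraMap R R')).obj (((ModuleCat.restrictScalars.{u} (algebraMap R A)).mapHomologicalComplex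
        (ComplexShape.up ℤ)).obj K) ≅
      ((ModuleCat.restrictScalars.{u} (algebraMap R' (R' ⊗[R] A))).mapHomologicalComplex
        (ComplexShape.up ℤ)).obj ((esC (incR R A R')).obj K) :=
  HomologicalComplex.Hom.isoOfComponents
    (fun i => @asIso _ _ _ _ (bcHom (algebraMap R A) (algebraMap R R') (incR R A R')
      (algebraMap R' (R' ⊗[R] A)) (tp_comm R A R') (K.X i)) (bcHom_tp_isIso R A R' (K.X i)))
    (fun i j _ => (bcHom_naturality (algebraMap R A) (algebraMap R R') (incR R A R')
      (algebraMap R' (R' ⊗[R] A)) (tp_comm R A R') (K.d i j)).symm)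

theorem flat_restrictScalars (M : ModuleCat.{u} A) [Module.Flat R A] [Module.Flat A M] :
    Module.Flat R ((ModuleCat.restrictScalars.{u} (algebraMap R A)).obj M) := by
  letI : Module R M := Module.compHom M (algebraMap R A)
  haveI : IsScalarTower R A M := ⟨fun p a m => by
    show (p • a) • m = algebraMap R A p • (a • m)
    rw [Algebra.smul_def, mul_smul]⟩
  exact Module.Flat.trans R A M

end TP

section TorAmp

variable {A B : Type u} [CommRing A] [CommRing B] (φ : A →+* B)

/-- base change of a bounded above flat complex of tor amplitude `[a, b]` -/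
theorem torAmp_esC_of_flat (E : DRing.Cx A) (c a b : ℤ)
    (hE : DRing.VanishesAbove E c) (hflat : ∀ i, Module.Flat A (E.X i))
    (h : DRing.HasTorAmplitudeIn A a b (Q.obj E)) :
    DRing.HasTorAmplitudeIn B a b (Q.obj ((esC φ).obj E)) := by
  obtain ⟨F, hF, hFflat, ⟨eF⟩⟩ := h
  obtain ⟨P, cP, hP, hproj, ⟨e⟩⟩ :=
    hasProjRes_of_isLE (Q.obj E) c (Groth.Agent.Helper11.PcBC.isLE_of_vanishesAbove E c hE)
  haveI : P.IsKProjective := isKProjective_of_vanishesAbove P cP hP hproj
  obtain ⟨f, hf⟩ := exists_lift_of_isKProjective P E e.hom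
  obtain ⟨g, hg⟩ := exists_lift_of_isKProjective P F (e.hom ≫ eF.inv)
  have hfi : IsIso (Q.map f) := by
    rw [hf]
    infer_instance
  have hgi : IsIso (Q.map g) := by
    rw [hg]
    infer_instance
  haveI := isIso_Q_map_esC_of_flat φ P E cP c hP hE
    (fun i => by haveI := hproj i; infer_instance) hflat f hfi
  haveI := isIso_Q_map_esC_of_flat φ P F cP b hP (fun i hi => hF i (Or.inr hi))
    (fun i => by haveI := hproj i; infer_instance) hFflat g hgi
  exact ⟨(esC φ).obj F, fun i hi => (es φ).map_isZero (hF i hi),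
    fun i => by haveI := hFflat i; exact es_flat φ (F.X i),
    ⟨(asIso (Q.map ((esC φ).map g))).symm ≪≫ asIso (Q.map ((esC φ).map f))⟩⟩

end TorAmp

section Main

open TensorProduct

/-- relative perfectness is stable under base change -/
theorem isRelPerfect_LBaseChange (R A R' : Type u) [CommRing R] [CommRing A] [Algebra R A]
    [CommRing R'] [Algebra R R'] [Module.Flat R A]
    [DRing.HasLBaseChange (incR R A R')]
    (K : Dual.D A) (hK : Dual2.IsRelPerfect R A K) :
    Dual2.IsRelPerfect R' (R' ⊗[R] A) ((DRing.LBaseChange (incR R A R')).obj K) := by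
  obtain ⟨⟨E, b, hEb, hEff, ⟨e⟩⟩, ⟨a', b', hTA⟩⟩ := hK
  have hEproj : ∀ i, Module.Projective A (E.X i) := fun i => by
    haveI := (hEff i).2
    infer_instance
  obtain ⟨eL⟩ := nonempty_LBaseChange_iso_of_projRes (incR R A R') K E b hEb hEproj e
  refine ⟨⟨(esC (incR R A R')).obj E, b, fun i hi => (es (incR R A R')).map_isZero (hEb i hi),
    fun i => ?_, ⟨eL.symm⟩⟩, ⟨a', b', ?_⟩⟩
  · haveI := (hEff i).1
    haveI := (hEff i).2
    exact ⟨es_finite (incR R A R') (E.X i), es_free (incR R A R') (E.X i)⟩
  · let resE := ((ModuleCat.restrictScalars.{u} (algebraMap R A)).mapHomologicalComplex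
      (ComplexShape.up ℤ)).obj E
    have h1 : DRing.HasTorAmplitudeIn R a' b' (Q.obj resE) := by
      obtain ⟨F, hF, hFflat, ⟨eF⟩⟩ := hTA
      exact ⟨F, hF, hFflat, ⟨eF ≪≫ (DRing.restrictD (algebraMap R A)).mapIso e.symm ≪≫
        ((ModuleCat.restrictScalars.{u} (algebraMap R A)).mapDerivedCategoryFactors.app E)⟩⟩
    have h2 := torAmp_esC_of_flat (algebraMap R R') resE b a' b'
      (fun i hi => (ModuleCat.restrictScalars.{u} (algebraMap R A)).map_isZero (hEb i hi))
      (fun i => by
        haveI : Module.Flat A (E.X i) := by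
          haveI := (hEff i).2
          infer_instance
        exact flat_restrictScalars R A (E.X i)) h1
    obtain ⟨F', hF', hF'flat, ⟨eF'⟩⟩ := h2
    exact ⟨F', hF', hF'flat, ⟨eF' ≪≫ Q.mapIso (bcCxIso_tp R A R' E) ≪≫
      ((ModuleCat.restrictScalars.{u} (algebraMap R' (R' ⊗[R] A))).mapDerivedCategoryFactors.app
        ((esC (incR R A R')).obj E)).symm ≪≫
      (DRing.restrictD (algebraMap R' (R' ⊗[R] A))).mapIso eL.symm⟩⟩

end Main

end Groth.Agent.Helper11.RPBC
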