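import Groth.Agent.Lib.Helper11.TorAmp9
import Groth.Agent.Lib.Helper11.DCRestrict
import Groth.Agent.Lib.Helper11.ProjResTower

/-!
# Tor amplitude along a flat ring map along which flatness of modules ascends (helper11)

For a flat ring map `A → B` : tor amplitude over `B` gives tor amplitude over `A` for the
restriction; conversely if flatness over `A` of `B`-modules implies flatness over `B`
(e.g. `A → B` weakly étale), tor amplitude over `A` of the restriction gives tor amplitude
over `B`.
-/

set_option autoImplicit false
universe u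

open CategoryTheory Limits DerivedCategory Pretriangulated MonoidalCategory

attribute [local instance] HasDerivedCategory.standard

namespace Groth.Agent.Helper11.TA

open Groth.Agent.Helper11.DC

variable {A B : Type u} [CommRing A] [CommRing B] [Algebra A B]

/-- descent direction: for flat `A → B`, tor amplitude over `B` gives tor amplitude over `A`. -/
theorem hasTorAmplitudeIn_restrict_of_flat [Module.Flat A B] (K : Dual.D B) (a b : ℤ)
    (hK : DRing.HasTorAmplitudeIn B a b K) :
    DRing.HasTorAmplitudeIn A a b ((DRing.restrictD (algebraMap A B)).obj K) := by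
  obtain ⟨E, hE, hflat, ⟨e⟩⟩ := hK
  let E' : DRing.Cx A :=
    ((ModuleCat.restrictScalars (algebraMap A B)).mapHomologicalComplex (ComplexShape.up ℤ)).obj E
  refine ⟨E', fun i hi => (ModuleCat.restrictScalars (algebraMap A B)).map_isZero (hE i hi), ?_,
    ⟨((ModuleCat.restrictScalars (algebraMap A B)).mapDerivedCategoryFactors.app E).symm ≪≫
      (DRing.restrictD (algebraMap A B)).mapIso e⟩⟩
  intro i
  haveI := hflat i
  letI : Module A (E.X i) := Module.compHom (E.X i) (algebraMap A B)
  haveI : IsScalarTower A B (E.X i) := ⟨fun r a m => by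
    rw [Algebra.smul_def, mul_smul]; rfl⟩
  have : Module.Flat A (E.X i) := Module.Flat.trans A B (E.X i)
  exact this

/-- flatness over `B` of a cokernel from flatness over `A` of the restricted cokernel. -/
theorem flat_quot_of_restrict_of_ascent
    (hasc : ∀ (M : Type u) [AddCommGroup M] [Module B M] [Module A M] [IsScalarTower A B M],
      Module.Flat A M → Module.Flat B M)
    {X Y : ModuleCat.{u} B} (f : X ⟶ Y)
    (h : Module.Flat A (↑((ModuleCat.restrictScalars (algebraMap A B)).obj Y) ⧸
      LinearMap.range ((ModuleCat.restrictScalars (algebraMap A B)).map f).hom)) :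
    Module.Flat B (Y ⧸ LinearMap.range f.hom) := by
  letI : Module A Y := Module.compHom Y (algebraMap A B)
  haveI : IsScalarTower A B Y := ⟨fun r a m => by
    rw [Algebra.smul_def, mul_smul]; rfl⟩
  have heq : (LinearMap.range ((ModuleCat.restrictScalars (algebraMap A B)).map f).hom :
      Submodule A Y) = (LinearMap.range f.hom).restrictScalars A := by
    ext y
    rfl
  have e1 := Submodule.quotEquivOfEq _ _ heq
  have e2 := Submodule.Quotient.restrictScalarsEquiv A (LinearMap.range f.hom)
  haveI h' : Module.Flat A (Y ⧸ (LinearMap.range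
      ((ModuleCat.restrictScalars (algebraMap A B)).map f).hom : Submodule A Y)) := h
  have : Module.Flat A (Y ⧸ LinearMap.range f.hom) :=
    Module.Flat.of_linearEquiv (e1.trans e2).symm
  exact hasc _ this

/-- restriction of scalars reflects zero objects. -/
theorem isZero_of_restrictScalars_isZero (H : ModuleCat.{u} B)
    (h : IsZero ((ModuleCat.restrictScalars (algebraMap A B)).obj H)) : IsZero H := by
  haveI : Subsingleton ((ModuleCat.restrictScalars (algebraMap A B)).obj H) :=
    ModuleCat.subsingleton_of_isZero h
  haveI : Subsingleton H := ‹Subsingleton ((ModuleCat.restrictScalars (algebraMap A B)).obj H)›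
  exact ModuleCat.isZero_of_subsingleton _

/-- ascent direction. -/
theorem hasTorAmplitudeIn_of_restrict [Module.Flat A B]
    (hasc : ∀ (M : Type u) [AddCommGroup M] [Module B M] [Module A M] [IsScalarTower A B M],
      Module.Flat A M → Module.Flat B M)
    (K : Dual.D B) (a b : ℤ)
    (hK : DRing.HasTorAmplitudeIn A a b ((DRing.restrictD (algebraMap A B)).obj K)) :
    DRing.HasTorAmplitudeIn B a b K := by
  have hTV : TorVan a b ((DRing.restrictD (algebraMap A B)).obj K) :=
    torVan_of_hasTorAmplitudeIn hK
  have hH : ∀ i : ℤ, (i < a ∨ b < i) →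
      IsZero ((homologyFunctor (ModuleCat.{u} B) i).obj K) := by
    intro i hi
    obtain ⟨E, hE, -, ⟨e⟩⟩ := hK
    have h1 : IsZero ((homologyFunctor (ModuleCat.{u} A) i).obj
        ((DRing.restrictD (algebraMap A B)).obj K)) := by
      refine IsZero.of_iso ?_ ((homologyFunctor (ModuleCat.{u} A) i).mapIso e.symm)
      refine IsZero.of_iso ?_ ((homologyFunctorFactors (ModuleCat.{u} A) i).app E)
      exact (HomologicalComplex.ExactAt.of_isZero (hE i hi)).isZero_homology
    have h2 := IsZero.of_iso h1 (homologyRestrictIso (algebraMap A B) K i).symm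
    exact isZero_of_restrictScalars_isZero _ h2
  have hLE : K.IsLE b := by
    rw [DerivedCategory.isLE_iff]
    intro i hi
    exact hH i (Or.inr hi)
  obtain ⟨P, c, hc, hp, ⟨e⟩⟩ := PRT.hasProjRes_of_isLE K b hLE
  have hHP : ∀ i : ℤ, b < i →
      IsZero ((homologyFunctor (ModuleCat.{u} B) i).obj (Q.obj P)) :=
    fun i hi => IsZero.of_iso (hH i (Or.inr hi)) ((homologyFunctor _ i).mapIso e)
  obtain ⟨P', π, hπ, hP'z, -⟩ := trim_to (c - b).toNat P b c (by omega) hc hp hHP
  have hP'p : ∀ i, Module.Projective B (P'.X i) := fun i => hπ.projective i (hp i)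
  have hP'f : ∀ i, Module.Flat B (P'.X i) := fun i => by
    haveI := hP'p i
    infer_instance
  haveI : IsIso (Q.map π) := hπ.iso
  have e' : Q.obj P ≅ Q.obj P' := asIso (Q.map π)
  -- restriction
  let E' : DRing.Cx A :=
    ((ModuleCat.restrictScalars (algebraMap A B)).mapHomologicalComplex (ComplexShape.up ℤ)).obj P'
  have hE'1 : DRing.VanishesAbove E' b := fun i hi =>
    (ModuleCat.restrictScalars (algebraMap A B)).map_isZero (hP'z i hi)
  have hE'f : ∀ i, Module.Flat A (E'.X i) := by
    intro i
    haveI := hP'f i
    letI : Module A (P'.X i) := Module.compHom (P'.X i) (algebraMap A B)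
    haveI : IsScalarTower A B (P'.X i) := ⟨fun r a m => by
      rw [Algebra.smul_def, mul_smul]; rfl⟩
    have : Module.Flat A (P'.X i) := Module.Flat.trans A B (P'.X i)
    exact this
  have iso : Q.obj E' ≅ (DRing.restrictD (algebraMap A B)).obj K :=
    ((ModuleCat.restrictScalars (algebraMap A B)).mapDerivedCategoryFactors.app P').symm ≪≫
      (DRing.restrictD (algebraMap A B)).mapIso (e'.symm ≪≫ e)
  have hv : TorVanCx a b E' := torVanCx_of_torVan hTV E' b hE'1 hE'f iso
  have hq := flat_coker_of_torVanCx E' hE'f hv
  have hquot : Module.Flat B (P'.X a ⧸ LinearMap.range (P'.d (a - 1) a).hom) :=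
    flat_quot_of_restrict_of_ascent hasc (P'.d (a - 1) a) hq
  have hGE : P'.IsGE a := by
    rw [CochainComplex.isGE_iff]
    intro i hi
    apply exactAt_of_homology_isZero P' i
    exact IsZero.of_iso (hH i (Or.inl hi)) ((homologyFunctor _ i).mapIso (e'.symm ≪≫ e))
  haveI : QuasiIso (CochainComplex.πTruncGE P' a) :=
    (CochainComplex.quasiIso_πTruncGE_iff P' a).mpr hGE
  haveI : IsIso (Q.map (CochainComplex.πTruncGE P' a)) := by
    rw [isIso_Q_map_iff_quasiIso]
    infer_instance
  refine ⟨CochainComplex.truncGE P' a, ?_, ?_,
    ⟨(asIso (Q.map (CochainComplex.πTruncGE P' a))).symm ≪≫ e'.symm ≪≫ e⟩⟩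
  · intro i hi
    by_cases hia : i < a
    · exact CochainComplex.isZero_of_isStrictlyGE _ a i hia
    · have hbi : b < i := by omega
      by_cases hia' : a < i
      · exact IsZero.of_iso (hP'z i hbi) (CochainComplex.truncGEXIso P' a i hia')
      · obtain rfl : i = a := by omega
        refine IsZero.of_iso ?_ (truncGEXIsoQuot P' i)
        haveI : Subsingleton (P'.X i) := ModuleCat.subsingleton_of_isZero (hP'z i hbi)
        haveI : Subsingleton (P'.X i ⧸ LinearMap.range (P'.d (i - 1) i).hom) :=
          Quotient.instSubsingletonQuotient _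
        exact ModuleCat.isZero_of_subsingleton _
  · intro i
    by_cases hia : i < a
    · have hz : IsZero ((CochainComplex.truncGE P' a).X i) :=
        CochainComplex.isZero_of_isStrictlyGE _ a i hia
      haveI : Subsingleton ((CochainComplex.truncGE P' a).X i) :=
        ModuleCat.subsingleton_of_isZero hz
      infer_instance
    · by_cases hia' : a < i
      · haveI := hP'f i
        exact Module.Flat.of_linearEquiv (CochainComplex.truncGEXIso P' a i hia').toLinearEquiv
      · obtain rfl : i = a := by omega
        haveI := hquot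
        exact Module.Flat.of_linearEquiv (truncGEXIsoQuot P' i).toLinearEquiv

end Groth.Agent.Helper11.TA
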