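import Groth.Agent.Lib.Helper11.TorAmp6
import Mathlib.RingTheory.Flat.EquationalCriterion
import Mathlib.Algebra.Module.FinitePresentation

/-!
# Pseudo-coherent + tor amplitude `[a,b]` ⟹ finite projective representative in `[a,b]`
-/

set_option autoImplicit false
universe u

open CategoryTheory Limits DerivedCategory Pretriangulated MonoidalCategory

attribute [local instance] HasDerivedCategory.standard

namespace Groth.Agent.Helper11.TA

variable {R : Type u} [CommRing R]

open Groth.Agent.Helper11.DC

theorem exists_proj_rep_of_pc_of_torVan {a b : ℤ} {K : Dual.D R}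
    (hK : DRing.IsPseudoCoherent' R K) (h : TorVan a b K) :
    ∃ P : DRing.Cx R, DRing.VanishesOutside P a b ∧ DRing.TermwiseFiniteProjective P ∧
      Nonempty (DRing.toD P ≅ K) := by
  obtain ⟨E, c, hc, hff, ⟨e⟩⟩ := hK
  have hp : ∀ i, Module.Projective R (E.X i) := fun i => by
    haveI := (hff i).2
    infer_instance
  have hfl : ∀ i, Module.Flat R (E.X i) := fun i => by
    haveI := hp i
    infer_instance
  have hv : TorVanCx a b E := torVanCx_of_torVan h E c hc hfl e
  have hH : ∀ i : ℤ, b < i → IsZero ((homologyFunctor (ModuleCat.{u} R) i).obj (Q.obj E)) :=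
    fun i hi => isZero_homology_of_torVanCx E hv i (Or.inr hi)
  obtain ⟨P', π, hπ, hP'z, -⟩ := trim_to (c - b).toNat E b c (by omega) hc hp hH
  have hP'p : ∀ i, Module.Projective R (P'.X i) := fun i => hπ.projective i (hp i)
  have hP'fin : ∀ i, Module.Finite R (P'.X i) := fun i => hπ.finite i (hff i).1
  have hP'f : ∀ i, Module.Flat R (P'.X i) := fun i => by
    haveI := hP'p i
    infer_instance
  haveI : IsIso (Q.map π) := hπ.iso
  have e' : Q.obj E ≅ Q.obj P' := asIso (Q.map π)
  have hv' : TorVanCx a b P' := (torVanCx_iff a b E P' c b hc hP'z hp hP'f e').mp hv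
  have hGE : P'.IsGE a := by
    rw [CochainComplex.isGE_iff]
    intro i hi
    exact exactAt_of_homology_isZero P' i (isZero_homology_of_torVanCx P' hv' i (Or.inl hi))
  haveI : QuasiIso (CochainComplex.πTruncGE P' a) :=
    (CochainComplex.quasiIso_πTruncGE_iff P' a).mpr hGE
  haveI : IsIso (Q.map (CochainComplex.πTruncGE P' a)) := by
    rw [isIso_Q_map_iff_quasiIso]
    infer_instance
  have hquot : Module.Flat R (P'.X a ⧸ LinearMap.range (P'.d (a - 1) a).hom) :=
    flat_coker_of_torVanCx P' hP'f hv'
  haveI := hP'fin a
  haveI := hP'p a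
  haveI := hP'fin (a - 1)
  haveI : Module.FinitePresentation R (P'.X a) := Module.finitePresentation_of_projective _ _
  have hfp : Module.FinitePresentation R (P'.X a ⧸ LinearMap.range (P'.d (a - 1) a).hom) := by
    refine Module.finitePresentation_of_surjective (LinearMap.range (P'.d (a - 1) a).hom).mkQ
      (Submodule.mkQ_surjective _) ?_
    rw [Submodule.ker_mkQ, LinearMap.range_eq_map]
    exact Submodule.FG.map _ Module.Finite.fg_top
  have hquotp : Module.Projective R (P'.X a ⧸ LinearMap.range (P'.d (a - 1) a).hom) :=
    Module.Flat.projective_of_finitePresentation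
  refine ⟨CochainComplex.truncGE P' a, ?_, ?_,
    ⟨(asIso (Q.map (CochainComplex.πTruncGE P' a))).symm ≪≫ e'.symm ≪≫ e⟩⟩
  · intro i hi
    by_cases hia : i < a
    · exact CochainComplex.isZero_of_isStrictlyGE _ a i hia
    · have hbi : b < i := by omega
      by_cases hia' : a < i
      · exact IsZero.of_iso (hP'z i hbi) (CochainComplex.truncGEXIso P' a i hia')
      · obtain rfl : i = a := by omega
        refine IsZero.of_iso ?_ (truncGEXIsoQuot P' i)
        haveI : Subsingleton (P'.X i) := ModuleCat.subsingleton_of_isZero (hP'z i hbi)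
        haveI : Subsingleton (P'.X i ⧸ LinearMap.range (P'.d (i - 1) i).hom) :=
          Quotient.instSubsingletonQuotient _
        exact ModuleCat.isZero_of_subsingleton _
  · intro i
    by_cases hia : i < a
    · have hz : IsZero ((CochainComplex.truncGE P' a).X i) :=
        CochainComplex.isZero_of_isStrictlyGE _ a i hia
      haveI : Subsingleton ((CochainComplex.truncGE P' a).X i) :=
        ModuleCat.subsingleton_of_isZero hz
      exact ⟨inferInstance, inferInstance⟩
    · by_cases hia' : a < i
      · haveI := hP'p i
        haveI := hP'fin i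
        have eq := (CochainComplex.truncGEXIso P' a i hia').toLinearEquiv
        exact ⟨Module.Finite.equiv eq.symm, Module.Projective.of_equiv eq.symm⟩
      · obtain rfl : i = a := by omega
        have eq := (truncGEXIsoQuot P' i).toLinearEquiv
        exact ⟨Module.Finite.equiv eq.symm, Module.Projective.of_equiv eq.symm⟩

theorem isPerfect_of_pc_of_torVan {a b : ℤ} {K : Dual.D R}
    (hK : DRing.IsPseudoCoherent' R K) (h : TorVan a b K) : DRing.IsPerfect R K := by
  obtain ⟨P, hP, hfp, e⟩ := exists_proj_rep_of_pc_of_torVan hK h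
  exact ⟨P, a, b, hP, hfp, e⟩

end Groth.Agent.Helper11.TA
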