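import Groth.Agent.Lib.Helper11.Proj3
import Groth.Agent.Lib.Helper11.RelPerfBC
import Groth.Agent.Lib.Helper11.LocalPerf6
import Groth.Agent.Lib.Helper11.DCRegular2
import Groth.Agent.Lib.Helper11.TorAscent
import Groth.Agent.S6954
import Mathlib.RingTheory.RegularLocalRing.Polynomial
import Mathlib.RingTheory.KrullDimension.Polynomial
import Mathlib.RingTheory.TensorProduct.MvPolynomial

/-!
Perfect ring maps: `A → B` is perfect iff `B` is a perfect module over a polynomial
presentation (helper11).
-/

set_option autoImplicit false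
universe u
open CategoryTheory CategoryTheory.Limits TensorProduct
attribute [local instance] HasDerivedCategory.standard

namespace Groth.Agent.Helper11.PerfHom

open DRing

/-- instance-free version of S7035: flat `A → B` with fibres of global dimension `≤ d`;
a pseudo-coherent object of `D(B)` of tor amplitude `[a, b]` over `A` is perfect over `B`. -/
theorem isPerfect_of_flat_fibres {A B : Type u} [CommRing A] [CommRing B] [Algebra A B]
    [Module.Flat A B] (d : ℕ)
    (hgl : ∀ (p : PrimeSpectrum A) (M : Type u) [AddCommGroup M]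
      [Module (TensorProduct A p.asIdeal.ResidueField B) M],
      HasProjectiveDimensionLT (ModuleCat.of (TensorProduct A p.asIdeal.ResidueField B) M) (d + 1))
    (a b : ℤ) (K : Dual.D B)
    (hK : DRing.IsPseudoCoherent' B K)
    (hKa : DRing.HasTorAmplitudeIn A a b ((DRing.restrictD (algebraMap A B)).obj K)) :
    DRing.IsPerfect B K ∧ DRing.HasTorAmplitudeIn B (a - d) b K := by
  obtain ⟨T, c, hTc, hTf, ⟨e⟩⟩ := hK
  have hTp : ∀ i, Module.Projective B (T.X i) := fun i => by
    haveI := (hTf i).2
    infer_instance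
  have hTflat : ∀ i, Module.Flat B (T.X i) := fun i => by
    haveI := hTp i
    infer_instance
  haveI : T.IsKProjective :=
    Groth.Agent.Helper11.DC.isKProjective_of_vanishesAbove T c hTc hTp
  have hrsflat : ∀ i, Module.Flat A (((Groth.Agent.Helper11.Dev.rsC (algebraMap A B)).obj T).X i) :=
    fun i => by
      haveI := hTflat i
      exact Groth.Agent.Helper11.RPBC.flat_restrictScalars A B (T.X i)
  have hrsc : DRing.VanishesAbove ((Groth.Agent.Helper11.Dev.rsC (algebraMap A B)).obj T) c :=
    fun i hi => (ModuleCat.restrictScalars.{u} (algebraMap A B)).map_isZero (hTc i hi)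
  have eR : DerivedCategory.Q.obj ((Groth.Agent.Helper11.Dev.rsC (algebraMap A B)).obj T) ≅
      (DRing.restrictD (algebraMap A B)).obj K :=
    ((ModuleCat.restrictScalars.{u} (algebraMap A B)).mapDerivedCategoryFactors.app T).symm ≪≫
      (DRing.restrictD (algebraMap A B)).mapIso e
  have hTV : Groth.Agent.Helper11.TA.TorVanCx a b
      ((Groth.Agent.Helper11.Dev.rsC (algebraMap A B)).obj T) :=
    Groth.Agent.Helper11.TA.torVanCx_of_torVan
      (Groth.Agent.Helper11.TA.torVan_of_hasTorAmplitudeIn hKa) _ c hrsc hrsflat eR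
  have hTA : DRing.HasTorAmplitudeIn B (a - d) b (DerivedCategory.Q.obj T) := by
    refine Groth.Agent.Helper11.LocalPerf.hasTorAmplitudeIn_of_fibres T c hTc hTp
      (fun i => (hTf i).1) (a - d) b (fun m hm i hi => ?_)
    haveI := hm
    refine IsZero.of_iso ?_ ((DerivedCategory.homologyFunctorFactors _ i).app _)
    show IsZero (((Groth.Agent.Helper11.TA.esC (Ideal.Quotient.mk m)).obj T).homology i)
    rw [← Groth.Agent.Helper11.Dev.isZero_homology_tens_quot_iff]
    exact Groth.Agent.Helper11.ProjF.isZero_homology_tens_quot_of_glDim d hgl T hTflat a b hTV m i hi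
  obtain ⟨F, hF, hFf, ⟨eF⟩⟩ := hTA
  have hTA' : DRing.HasTorAmplitudeIn B (a - d) b K := ⟨F, hF, hFf, ⟨eF ≪≫ e⟩⟩
  exact ⟨(Groth.Agent.S6954.result B K).mpr ⟨⟨T, c, hTc, hTf, ⟨e⟩⟩, ⟨a - d, b, hTA'⟩⟩, hTA'⟩

/-- the fibres of a polynomial ring in `n` variables have global dimension `≤ n` -/
theorem hgl_poly (A : Type u) [CommRing A] (n : ℕ) (p : PrimeSpectrum A) (M : Type u)
    [AddCommGroup M]
    [Module (TensorProduct A p.asIdeal.ResidueField (MvPolynomial (Fin n) A)) M] :
    HasProjectiveDimensionLT
      (ModuleCat.of (TensorProduct A p.asIdeal.ResidueField (MvPolynomial (Fin n) A)) M)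
      (n + 1) := by
  let e : MvPolynomial (Fin n) p.asIdeal.ResidueField ≃+*
      TensorProduct A p.asIdeal.ResidueField (MvPolynomial (Fin n) A) :=
    (MvPolynomial.algebraTensorAlgEquiv (σ := Fin n) A p.asIdeal.ResidueField).symm.toRingEquiv
  have : IsRegularRing (TensorProduct A p.asIdeal.ResidueField (MvPolynomial (Fin n) A)) :=
    IsRegularRing.of_ringEquiv e
  refine Groth.Agent.Helper11.DC.glDim_of_isRegularRing n ?_ _
  rw [← ringKrullDim_eq_of_ringEquiv e, MvPolynomial.ringKrullDim_of_isNoetherianRing,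
    ringKrullDim_eq_zero_of_field, Nat.card_fin, zero_add]

section Tower

variable {A P B : Type u} [CommRing A] [CommRing P] [CommRing B] [Algebra A P] [Algebra P B]
  [Algebra A B] [IsScalarTower A P B]

/-- restriction of scalars of `B` along `A → P` is the `A`-module `B` -/
noncomputable def rsIso :
    (ModuleCat.restrictScalars.{u} (algebraMap A P)).obj (ModuleCat.of P B) ≅ ModuleCat.of A B :=
  let X₁ : ModuleCat.{u} A := (ModuleCat.restrictScalars.{u} (algebraMap A P)).obj (ModuleCat.of P B)
  let j : X₁ ⟶ ModuleCat.of A B := ModuleCat.ofHom (X := X₁) (Y := ModuleCat.of A B)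
    { toFun := fun x => x
      map_add' := fun _ _ => rfl
      map_smul' := fun r x => by
        show (algebraMap A P r) • (show B from x) = r • (show B from x)
        rw [algebraMap_smul] }
  haveI : IsIso j := (ConcreteCategory.isIso_iff_bijective j).mpr Function.bijective_id
  asIso j

/-- restriction of `B[0]` from `D(P)` to `D(A)` is `B[0]` -/
noncomputable def restrictInD :
    (DRing.restrictD (algebraMap A P)).obj (Dual.inD P B) ≅ Dual.inD A B :=
  ((ModuleCat.restrictScalars.{u} (algebraMap A P)).mapDerivedCategorySingleFunctor 0).app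
      (ModuleCat.of P B) ≪≫
    (DerivedCategory.singleFunctor (ModuleCat.{u} A) 0).mapIso (rsIso (A := A) (P := P) (B := B))

theorem hasFiniteTorDim_iff :
    DRing.HasFiniteTorDim A B ↔
      ∃ d : ℕ, Groth.Agent.Helper11.TA.TorVan (-(d : ℤ)) 0 (Dual.inD A B) := by
  constructor
  · rintro ⟨d, hd⟩
    refine ⟨d, (Groth.Agent.Helper11.TA.torVan_single_iff (ModuleCat.of A B) d).mpr
      (fun N p hp => ?_)⟩
    haveI := hd N p hp
    exact ModuleCat.isZero_of_subsingleton _
  · rintro ⟨d, hd⟩
    refine ⟨d, fun N _ _ p hp => ?_⟩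
    exact ModuleCat.subsingleton_of_isZero
      ((Groth.Agent.Helper11.TA.torVan_single_iff (ModuleCat.of A B) d).mp hd (ModuleCat.of A N)
        p hp)

end Tower

section Main

theorem hasTorAmplitudeIn_of_iso {R : Type u} [CommRing R] {a b : ℤ} {K L : Dual.D R} (e : K ≅ L)
    (h : DRing.HasTorAmplitudeIn R a b K) : DRing.HasTorAmplitudeIn R a b L := by
  obtain ⟨E, hE, hEf, ⟨e'⟩⟩ := h
  exact ⟨E, hE, hEf, ⟨e' ≪≫ e⟩⟩

variable {A P B : Type u} [CommRing A] [CommRing P] [CommRing B] [Algebra A P] [Algebra P B]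
  [Algebra A B] [IsScalarTower A P B]

/-- (⇒) pseudo-coherent over `P` and finite tor dimension over `A` give perfect over `P` -/
theorem isPerfectModule_of_finiteTorDim [Module.Flat A P] (d : ℕ)
    (hgl : ∀ (p : PrimeSpectrum A) (M : Type u) [AddCommGroup M]
      [Module (TensorProduct A p.asIdeal.ResidueField P) M],
      HasProjectiveDimensionLT (ModuleCat.of (TensorProduct A p.asIdeal.ResidueField P) M) (d + 1))
    (hpc : DRing.IsPseudoCoherentModule' P B) (hft : DRing.HasFiniteTorDim A B) :
    DRing.IsPerfectModule P B := by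
  obtain ⟨n, hn⟩ := hasFiniteTorDim_iff.mp hft
  have h1 : DRing.HasTorAmplitudeIn A (-(n : ℤ)) 0 (Dual.inD A B) :=
    Groth.Agent.Helper11.TA.hasTorAmplitudeIn_of_torVan hn
  have h2 := hasTorAmplitudeIn_of_iso (restrictInD (A := A) (P := P) (B := B)).symm h1
  exact (isPerfect_of_flat_fibres d hgl _ _ _ hpc h2).1

/-- (⇐) perfect over `P` flat over `A` gives pseudo-coherent over `P` and finite tor dimension
over `A` -/
theorem finiteTorDim_of_isPerfectModule [Module.Flat A P] (h : DRing.IsPerfectModule P B) :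
    DRing.IsPseudoCoherentModule' P B ∧ DRing.HasFiniteTorDim A B := by
  obtain ⟨hpc, a, b, hab⟩ := (Groth.Agent.S6954.result P _).mp h
  refine ⟨hpc, ?_⟩
  have h1 := Groth.Agent.Helper11.TA.hasTorAmplitudeIn_restrict_of_flat (A := A) _ a b hab
  have h2 := hasTorAmplitudeIn_of_iso (restrictInD (A := A) (P := P) (B := B)) h1
  have h3 : Groth.Agent.Helper11.TA.TorVan a b (Dual.inD A B) :=
    Groth.Agent.Helper11.TA.torVan_of_hasTorAmplitudeIn h2
  obtain ⟨r1, r2, ⟨re⟩⟩ := Groth.Agent.Helper11.TA.projRes_spec (ModuleCat.of A B)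
  have hfl : ∀ i, Module.Flat A ((projectiveResolution (ModuleCat.of A B)).cochainComplex.X i) :=
    fun i => by
      haveI := r2 i
      infer_instance
  have hv := Groth.Agent.Helper11.TA.torVanCx_of_torVan h3 _ 0 r1 hfl re
  refine hasFiniteTorDim_iff.mpr ⟨(-a).toNat, ⟨_, 0, r1, r2, ⟨re⟩, fun N i hi => ?_⟩⟩
  rcases hi with hi | hi
  · exact hv N i (Or.inl (by omega))
  · exact Groth.Agent.Helper11.DC.isZero_homology_of_isZero_X _ i
      (Groth.Agent.Helper11.TA.tens_isZero N _ i (r1 i hi))

end Main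

end Groth.Agent.Helper11.PerfHom
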