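import Groth.Agent.Lib.Helper11.PerfMor2
import Groth.Agent.Lib.Helper11.FinProjRes
import Groth.Prelude.Def_RegImm
import Mathlib.RingTheory.Unramified.LocalStructure
import Mathlib.RingTheory.Smooth.Locus
import Mathlib.AlgebraicGeometry.Morphisms.Smooth

/-!
Smooth ring maps / morphisms are perfect; Koszul-regular immersions are perfect;
lci morphisms (factorisation form) are perfect (helper11).
-/

set_option autoImplicit false

open CategoryTheory Category Limits DerivedCategory AlgebraicGeometry TensorProduct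

attribute [local instance] HasDerivedCategory.standard

universe u

namespace Groth.Agent.Helper11.PerfMor

open Groth.Agent.Helper11.DC Groth.Agent.Helper11.MPC Groth.Agent.Helper11.TA
  Groth.Agent.Helper11.PcHom

theorem QP_algebraMap_iff {A B : Type u} [CommRing A] [CommRing B] [Algebra A B] :
    QP (algebraMap A B) ↔ MoreMor.IsPerfectHom A B := by
  rw [QP_iff, Q_algebraMap_iff, F_algebraMap_iff]
  rfl

theorem perfectHom_of_algEquiv {R S T : Type u} [CommRing R] [CommRing S] [CommRing T]
    [Algebra R S] [Algebra R T] (e : S ≃ₐ[R] T) (h : MoreMor.IsPerfectHom R S) :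
    MoreMor.IsPerfectHom R T := by
  rw [← QP_algebraMap_iff] at h ⊢
  have h2 : algebraMap R T = (e : S ≃+* T).toRingHom.comp (algebraMap R S) := by
    ext x
    exact (e.commutes x).symm
  rw [h2]
  exact QP_isLocal.respectsIso.1 _ (e : S ≃+* T) h

theorem perfectHom_of_finite_projective {A B : Type u} [CommRing A] [CommRing B] [Algebra A B]
    [Module.Finite A B] [Module.Projective A B] : MoreMor.IsPerfectHom A B := by
  refine ⟨hom_iff_module_of_finite.mpr ?_, ?_⟩
  · exact pc_of_finite_projective (ModuleCat.of A B)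
  · haveI : Module.Flat A B := inferInstance
    exact ftd_of_flat

theorem perfectHom_mvPolynomial (A : Type u) [CommRing A] (n : ℕ) :
    MoreMor.IsPerfectHom A (MvPolynomial (Fin n) A) := by
  refine ⟨⟨n, AlgHom.id _ _, Function.surjective_id, ?_⟩, ftd_of_flat⟩
  exact baseIsPc_of_bijective
    ((AlgHom.id A (MvPolynomial (Fin n) A) : MvPolynomial (Fin n) A →ₐ[A] MvPolynomial (Fin n) A) :
      MvPolynomial (Fin n) A →+* MvPolynomial (Fin n) A) Function.bijective_id

theorem perfectHom_standardEtalePair {R : Type u} [CommRing R] (P : StandardEtalePair R) :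
    MoreMor.IsPerfectHom R P.Ring := by
  haveI := P.monic_f.free_adjoinRoot
  haveI := P.monic_f.finite_adjoinRoot
  have h1 : MoreMor.IsPerfectHom R (AdjoinRoot P.f) := perfectHom_of_finite_projective
  have h2 : MoreMor.IsPerfectHom (AdjoinRoot P.f)
      (Localization.Away (AdjoinRoot.mk P.f P.g)) := by
    rw [← QP_algebraMap_iff]
    exact QP_holdsForLocalizationAway _ (AdjoinRoot.mk P.f P.g)
  have h3 : MoreMor.IsPerfectHom R (Localization.Away (AdjoinRoot.mk P.f P.g)) := by
    rw [← QP_algebraMap_iff] at h1 h2 ⊢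
    rw [IsScalarTower.algebraMap_eq R (AdjoinRoot P.f)
      (Localization.Away (AdjoinRoot.mk P.f P.g))]
    exact QP_stableUnderComposition _ _ h1 h2
  exact perfectHom_of_algEquiv P.equivAwayAdjoinRoot.symm h3

theorem perfectHom_of_isStandardEtale {R S : Type u} [CommRing R] [CommRing S] [Algebra R S]
    [Algebra.IsStandardEtale R S] : MoreMor.IsPerfectHom R S := by
  obtain ⟨⟨P⟩⟩ := ‹Algebra.IsStandardEtale R S›
  exact perfectHom_of_algEquiv P.equivRing.symm (perfectHom_standardEtalePair P.P)

/-- smooth ring maps are perfect -/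
theorem perfectHom_of_smooth {R S : Type u} [CommRing R] [CommRing S] [Algebra R S]
    [Algebra.Smooth R S] : MoreMor.IsPerfectHom R S := by
  rw [← QP_algebraMap_iff]
  have key : ∀ p : PrimeSpectrum S, ∃ f : S, f ∉ p.asIdeal ∧
      QP ((algebraMap S (Localization.Away f)).comp (algebraMap R S)) := by
    intro p
    haveI : Algebra.IsSmoothAt R p.asIdeal := by
      have h := Algebra.smoothLocus_eq_univ (R := R) (A := S)
      have hp : p ∈ Algebra.smoothLocus R S := by
        rw [h]
        trivial
      exact hp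
    obtain ⟨f, hf, n, inst, htower, hse⟩ :=
      Algebra.IsSmoothAt.exists_isStandardEtale_mvPolynomial (R := R) (S := S) (p := p.asIdeal)
    refine ⟨f, hf, ?_⟩
    letI := inst
    haveI := htower
    haveI := hse
    have h1 : QP (algebraMap R (MvPolynomial (Fin n) R)) :=
      QP_algebraMap_iff.mpr (perfectHom_mvPolynomial R n)
    have h2 : QP (algebraMap (MvPolynomial (Fin n) R) (Localization.Away f)) :=
      QP_algebraMap_iff.mpr perfectHom_of_isStandardEtale
    have h3 := QP_stableUnderComposition _ _ h1 h2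
    rw [← IsScalarTower.algebraMap_eq R (MvPolynomial (Fin n) R) (Localization.Away f)] at h3
    rwa [← IsScalarTower.algebraMap_eq R S (Localization.Away f)]
  choose f hf hQ using key
  refine QP_isLocal.ofLocalizationSpanTarget _ (Set.range f) ?_ ?_
  · by_contra hne
    obtain ⟨m, hm, hle⟩ := Ideal.exists_le_maximal _ hne
    exact hf ⟨m, hm.isPrime⟩ (hle (Ideal.subset_span ⟨_, rfl⟩))
  · rintro ⟨_, p, rfl⟩
    exact hQ p

/-- smooth morphisms are perfect -/
theorem perfMor_of_smooth {X Y : Scheme.{u}} (f : X ⟶ Y) [Smooth f] :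
    MoreMor.IsPerfectMor f := by
  intro U V hU hV e
  have h := Smooth.smooth_appLE f hV hU e
  letI := (f.appLE V U e).hom.toAlgebra
  haveI : Algebra.Smooth Γ(Y, V) Γ(X, U) := h
  exact perfectHom_of_smooth

theorem perfectHom_of_koszulRegular {A B : Type u} [CommRing A] [CommRing B] [Algebra A B]
    (rs : List A) (hK : LCI.IsKoszulRegularSeq A rs)
    (hsurj : Function.Surjective (algebraMap A B))
    (hker : RingHom.ker (algebraMap A B) = Ideal.ofList rs) : MoreMor.IsPerfectHom A B := by
  haveI : Module.Finite A B := Module.Finite.of_surjective (Algebra.linearMap A B) hsurj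
  have hk : LinearMap.ker (Algebra.linearMap A B) = Ideal.ofList rs := by
    rw [← hker]
    ext x
    rw [LinearMap.mem_ker, RingHom.mem_ker]
    rfl
  let e : B ≃ₗ[A] A ⧸ Ideal.ofList rs :=
    ((Algebra.linearMap A B).quotKerEquivOfSurjective hsurj).symm.trans
      (Submodule.quotEquivOfEq _ _ hk)
  have hperf : DRing.IsPerfectModule A B :=
    Groth.Agent.Helper11.KoszPerf.isPerfect_single_of_koszulRegular A rs hK (ModuleCat.of A B) e
  obtain ⟨hpc, hft⟩ := PerfHom.finiteTorDim_of_isPerfectModule (A := A) (P := A) (B := B) hperf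
  exact ⟨hom_iff_module_of_finite.mpr hpc, hft⟩

theorem app_surjective_of_eq {Z X : Scheme.{u}} (i : Z ⟶ X) {U U' : X.Opens} (h : U = U')
    (hs : Function.Surjective (i.app U).hom) : Function.Surjective (i.app U').hom := by
  subst h
  exact hs

/-- Koszul-regular immersions are perfect -/
theorem perfMor_of_koszulRegularImmersion {Z X : Scheme.{u}} (i : Z ⟶ X)
    (hi : RegImm.IsRegularImmersion .koszul i) : MoreMor.IsPerfectMor i := by
  rw [perfMor_iff_exists]
  intro z
  obtain ⟨U, hz, hci, rs, hrs, hker⟩ := hi.2 z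
  haveI := hci
  haveI : IsAffine (U.1 : Scheme.{u}) := U.2
  have hUaff : IsAffineOpen (i ⁻¹ᵁ U.1) := isAffine_of_isAffineHom (i ∣_ U.1)
  have hsurj : Function.Surjective (i.app U.1).hom := by
    have h1 : Function.Surjective ((i ∣_ U.1).app ⊤).hom :=
      (i ∣_ U.1).app_surjective ⊤ (isAffineOpen_top _)
    rw [morphismRestrict_app] at h1
    have h2 : Function.Injective
        (Z.presheaf.map (eqToHom (image_morphismRestrict_preimage i U.1 ⊤)).op).hom :=
      (ConcreteCategory.bijective_of_isIso
        (Z.presheaf.map (eqToHom (image_morphismRestrict_preimage i U.1 ⊤)).op)).injective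
    have h3 : Function.Surjective (i.app (U.1.ι ''ᵁ ⊤)).hom := by
      refine Function.Surjective.of_comp_left (f := (Z.presheaf.map
        (eqToHom (image_morphismRestrict_preimage i U.1 ⊤)).op).hom) ?_ h2
      exact h1
    exact app_surjective_of_eq i (by simp) h3
  refine ⟨i ⁻¹ᵁ U.1, U.1, le_rfl, hUaff, U.2, hz, ?_⟩
  letI := (i.appLE U.1 (i ⁻¹ᵁ U.1) le_rfl).hom.toAlgebra
  refine perfectHom_of_koszulRegular rs hrs ?_ ?_
  · show Function.Surjective (i.appLE U.1 (i ⁻¹ᵁ U.1) le_rfl).hom
    rw [Scheme.Hom.appLE_eq_app]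
    exact hsurj
  · show RingHom.ker (i.appLE U.1 (i ⁻¹ᵁ U.1) le_rfl).hom = Ideal.ofList rs
    rw [Scheme.Hom.appLE_eq_app]
    exact hker

/-- lci morphisms in the factorisation sense are perfect -/
theorem perfMor_of_forall_isKoszulAt {X Y : Scheme.{u}} (f : X ⟶ Y)
    (hf : ∀ x : X, Synt.IsKoszulAt f x) : MoreMor.IsPerfectMor f := by
  rw [perfMor_iff]
  choose U P i π hxU hlft hi hπ hcomp using hf
  refine IsZariskiLocalAtSource.of_iSup_eq_top (P := PP) U ?_ (fun x => ?_)
  · rw [eq_top_iff]
    intro x _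
    exact TopologicalSpace.Opens.mem_iSup.mpr ⟨x, hxU x⟩
  · rw [← hcomp x, ← perfMor_iff]
    haveI := hπ x
    exact perfMor_comp _ _ (perfMor_of_koszulRegularImmersion _ (hi x)) (perfMor_of_smooth _)

end Groth.Agent.Helper11.PerfMor
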