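import Groth.Agent.Lib.Helper11.FlatPc1
import Groth.Agent.Lib.Helper11.PerfMor5
import Groth.Agent.Lib.Helper21.FS11

/-!
Flat ring maps of finite presentation are pseudo-coherent and perfect (helper11).
-/

set_option autoImplicit false

open CategoryTheory Category Limits DerivedCategory

attribute [local instance] HasDerivedCategory.standard

universe u

namespace Groth.Agent.Helper11.FlatPc

open Groth.Agent.Helper11.DC Groth.Agent.Helper11.TA Groth.Agent.Helper11.MPC
  Groth.Agent.Helper11.PcHom Groth.Agent.Helper11.PerfMor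

section KL

open TensorProduct

attribute [local instance] Algebra.TensorProduct.rightAlgebra

/-- the descended situation -/
theorem pcHom_of_model (R₀ S₀ A B : Type u) [CommRing R₀] [CommRing S₀] [CommRing A] [CommRing B]
    [Algebra R₀ A] [Algebra R₀ S₀] [Algebra A B] [Algebra S₀ B] [Algebra R₀ B]
    [IsScalarTower R₀ A B] [IsScalarTower R₀ S₀ B] [Algebra.IsPushout R₀ A S₀ B]
    [IsNoetherianRing R₀] [Algebra.FiniteType R₀ S₀] [Module.Flat R₀ S₀] :
    MoreMor.IsPseudoCoherentHom A B := by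
  obtain ⟨n, φ₀, hφ₀⟩ := Algebra.FiniteType.iff_quotient_mvPolynomial''.mp
    (inferInstance : Algebra.FiniteType R₀ S₀)
  letI : Algebra (MvPolynomial (Fin n) R₀) S₀ := φ₀.toRingHom.toAlgebra
  haveI : IsScalarTower R₀ (MvPolynomial (Fin n) R₀) S₀ :=
    IsScalarTower.of_algebraMap_eq (fun r => (φ₀.commutes r).symm)
  letI : Algebra (MvPolynomial (Fin n) R₀) B :=
    ((algebraMap S₀ B).comp φ₀.toRingHom).toAlgebra
  haveI : IsScalarTower (MvPolynomial (Fin n) R₀) S₀ B :=
    IsScalarTower.of_algebraMap_eq (fun _ => rfl)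
  haveI : IsScalarTower R₀ (MvPolynomial (Fin n) R₀) B :=
    IsScalarTower.of_algebraMap_eq (fun r => by
      show algebraMap R₀ B r = algebraMap S₀ B (φ₀ (algebraMap R₀ (MvPolynomial (Fin n) R₀) r))
      rw [φ₀.commutes, ← IsScalarTower.algebraMap_apply])
  letI : Algebra (A ⊗[R₀] MvPolynomial (Fin n) R₀) B :=
    Groth.Agent.Helper21.FS.stageAlgebra R₀ (MvPolynomial (Fin n) R₀) B A
  haveI : IsScalarTower A (A ⊗[R₀] MvPolynomial (Fin n) R₀) B :=
    Groth.Agent.Helper21.FS.stage_tower_left R₀ (MvPolynomial (Fin n) R₀) B A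
  haveI : IsScalarTower (MvPolynomial (Fin n) R₀) (A ⊗[R₀] MvPolynomial (Fin n) R₀) B :=
    Groth.Agent.Helper21.FS.stage_tower_right R₀ (MvPolynomial (Fin n) R₀) B A
  haveI : IsScalarTower R₀ (A ⊗[R₀] MvPolynomial (Fin n) R₀) B :=
    Groth.Agent.Helper21.FS.stage_tower_base R₀ (MvPolynomial (Fin n) R₀) B A
  haveI : Module.Finite (MvPolynomial (Fin n) R₀) S₀ :=
    Module.Finite.of_surjective (Algebra.linearMap (MvPolynomial (Fin n) R₀) S₀) hφ₀
  obtain ⟨hmod, hfin⟩ := pc_module_of_isPushout R₀ (MvPolynomial (Fin n) R₀) S₀ A B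
  haveI := hfin
  have hQ1 : MoreMor.IsPseudoCoherentHom A (A ⊗[R₀] MvPolynomial (Fin n) R₀) :=
    (perfectHom_of_algEquiv (MvPolynomial.algebraTensorAlgEquiv R₀ A).symm
      (perfectHom_mvPolynomial A n)).1
  have hQ2 : MoreMor.IsPseudoCoherentHom (A ⊗[R₀] MvPolynomial (Fin n) R₀) B :=
    hom_iff_module_of_finite.mpr hmod
  exact hom_comp hQ1 hQ2

/-- a flat ring map of finite presentation is pseudo-coherent -/
theorem pcHom_of_flat_fp (A B : Type u) [CommRing A] [CommRing B] [Algebra A B]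
    [Module.Flat A B] [Algebra.FinitePresentation A B] : MoreMor.IsPseudoCoherentHom A B := by
  obtain ⟨R₀, _, _, S₀, _, _, _, _, _, _, hR₀, hS₀, hflat, hpush⟩ :=
    Groth.Agent.Helper21.FS.exists_flat_model A B
  haveI := hR₀
  haveI := hS₀
  haveI := hflat
  haveI := hpush
  haveI : IsNoetherianRing R₀ := Algebra.FiniteType.isNoetherianRing ℤ R₀
  exact pcHom_of_model R₀ S₀ A B

/-- a flat ring map of finite presentation is perfect -/
theorem perfectHom_of_flat_fp (A B : Type u) [CommRing A] [CommRing B] [Algebra A B]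
    [Module.Flat A B] [Algebra.FinitePresentation A B] : MoreMor.IsPerfectHom A B :=
  ⟨pcHom_of_flat_fp A B, ftd_of_flat⟩

end KL

end Groth.Agent.Helper11.FlatPc
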