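import Groth.Agent.Lib.Helper11.FibLoc2
import Groth.Agent.Lib.Helper11.FlatPc5
import Groth.Agent.Lib.Helper11.PerfHom
import Groth.Agent.Lib.Helper11.LDer4
import Groth.Agent.Lib.Helper11.PcBC
import Groth.Agent.S7100

/-!
Tor amplitude of the localization of a pseudo-coherent complex from the cohomology of its local
fibre (helper11): the derived category part.
-/

set_option autoImplicit false

open CategoryTheory Category Limits DerivedCategory TensorProduct

attribute [local instance] HasDerivedCategory.standard

universe u

namespace Groth.Agent.Helper11.FibLoc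

open Groth.Agent.Helper11.DC Groth.Agent.Helper11.TA Groth.Agent.Helper11.Dev
  Groth.Agent.Helper11.FlatPc Groth.Agent.Helper11.LocalPerf Groth.Agent.Helper11.LDer

section Square

variable {P A : Type u} [CommRing P] [CommRing A] [Algebra P A]

theorem algebraMapSubmonoid_primeCompl (hsurj : Function.Surjective (algebraMap P A))
    (q : Ideal A) [q.IsPrime] :
    Algebra.algebraMapSubmonoid A (q.comap (algebraMap P A)).primeCompl = q.primeCompl := by
  ext x
  constructor
  · rintro ⟨y, hy, rfl⟩
    exact hy
  · intro hx
    obtain ⟨y, rfl⟩ := hsurj x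
    exact ⟨y, hx, rfl⟩

/-- the map of localizations `P_{q'} → A_q` for `q' = q ∩ P` -/
noncomputable abbrev locHom (q : Ideal A) [q.IsPrime] :
    Localization.AtPrime (q.comap (algebraMap P A)) →+* Localization.AtPrime q :=
  Localization.localRingHom (q.comap (algebraMap P A)) q (algebraMap P A) rfl

/-- for a surjection `P → A` and a prime `q` of `A` with preimage `q'`, the restriction to
`P_{q'}` of the derived base change of `K` to `A_q` is computed by localizing a finite free
`P`-representative of `K` -/
theorem nonempty_restrict_LBaseChange_iso (hsurj : Function.Surjective (algebraMap P A))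
    (q : Ideal A) [q.IsPrime]
    [DRing.HasLBaseChange (algebraMap A (Localization.AtPrime q))]
    (K : Dual.D A) (TA : DRing.Cx A) (bA : ℤ) (hTA : DRing.VanishesAbove TA bA)
    (hTAp : ∀ i, Module.Projective A (TA.X i)) (eA : Q.obj TA ≅ K)
    (T : DRing.Cx P) (bT : ℤ) (hT : DRing.VanishesAbove T bT)
    (hTp : ∀ i, Module.Projective P (T.X i))
    (e : Q.obj T ≅ (DRing.restrictD (algebraMap P A)).obj K) :
    Nonempty ((DRing.restrictD (locHom (P := P) q)).obj
        ((DRing.LBaseChange (algebraMap A (Localization.AtPrime q))).obj K) ≅
      Q.obj ((esC (algebraMap P (Localization.AtPrime (q.comap (algebraMap P A))))).obj T)) := by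
  letI : Algebra (Localization.AtPrime (q.comap (algebraMap P A))) (Localization.AtPrime q) :=
    (locHom (P := P) q).toAlgebra
  haveI : IsScalarTower P (Localization.AtPrime (q.comap (algebraMap P A)))
      (Localization.AtPrime q) := IsScalarTower.of_algebraMap_eq (fun x => by
    rw [IsScalarTower.algebraMap_apply P A (Localization.AtPrime q)]
    exact (Localization.localRingHom_to_map _ q (algebraMap P A) rfl x).symm)
  haveI : IsLocalization (Algebra.algebraMapSubmonoid A (q.comap (algebraMap P A)).primeCompl)
      (Localization.AtPrime q) := by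
    rw [algebraMapSubmonoid_primeCompl hsurj q]
    infer_instance
  haveI hpo : Algebra.IsPushout P (Localization.AtPrime (q.comap (algebraMap P A))) A
      (Localization.AtPrime q) :=
    (Algebra.isPushout_of_isLocalization (q.comap (algebraMap P A)).primeCompl
      (Localization.AtPrime (q.comap (algebraMap P A))) A (Localization.AtPrime q)).symm
  haveI : TA.IsKProjective := isKProjective_of_vanishesAbove TA bA hTA hTAp
  haveI : T.IsKProjective := isKProjective_of_vanishesAbove T bT hT hTp
  have e1 : (DRing.LBaseChange (algebraMap A (Localization.AtPrime q))).obj K ≅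
      Q.obj ((esC (algebraMap A (Localization.AtPrime q))).obj TA) :=
    (DRing.LBaseChange (algebraMap A (Localization.AtPrime q))).mapIso eA.symm ≪≫
      LBaseChangeIso (algebraMap A (Localization.AtPrime q)) TA
  have e2 : (DRing.restrictD (locHom (P := P) q)).obj
      (Q.obj ((esC (algebraMap A (Localization.AtPrime q))).obj TA)) ≅
      Q.obj ((rsC (locHom (P := P) q)).obj
        ((esC (algebraMap A (Localization.AtPrime q))).obj TA)) :=
    (ModuleCat.restrictScalars.{u} (locHom (P := P) q)).mapDerivedCategoryFactors.app _
  have e3 := bcCxIso_po P (Localization.AtPrime (q.comap (algebraMap P A))) A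
    (Localization.AtPrime q) TA
  have iso0 : Q.obj T ≅ Q.obj ((rsC (algebraMap P A)).obj TA) :=
    e ≪≫ (DRing.restrictD (algebraMap P A)).mapIso eA.symm ≪≫
      (ModuleCat.restrictScalars.{u} (algebraMap P A)).mapDerivedCategoryFactors.app TA
  obtain ⟨f, hf⟩ := exists_lift_of_isKProjective T ((rsC (algebraMap P A)).obj TA) iso0.hom
  haveI hfq : QuasiIso f := by
    rw [← isIso_Q_map_iff_quasiIso, hf]
    infer_instance
  have hflat : (algebraMap P (Localization.AtPrime (q.comap (algebraMap P A)))).Flat :=
    RingHom.flat_algebraMap_iff.mpr
      (IsLocalization.flat (Localization.AtPrime (q.comap (algebraMap P A)))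
        (q.comap (algebraMap P A)).primeCompl)
  haveI := ModuleCat.preservesFiniteLimits_extendScalars_of_flat.{u} hflat
  have hfq' : QuasiIso ((esC (algebraMap P
      (Localization.AtPrime (q.comap (algebraMap P A))))).map f) := inferInstance
  haveI : IsIso (Q.map ((esC (algebraMap P
      (Localization.AtPrime (q.comap (algebraMap P A))))).map f)) := by
    rw [isIso_Q_map_iff_quasiIso]
    exact hfq'
  exact ⟨(DRing.restrictD (locHom (P := P) q)).mapIso e1 ≪≫ e2 ≪≫ Q.mapIso e3.symm ≪≫
    (asIso (Q.map ((esC (algebraMap P
      (Localization.AtPrime (q.comap (algebraMap P A))))).map f))).symm⟩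

end Square

end Groth.Agent.Helper11.FibLoc
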