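import Groth.Agent.Lib.Helper11.FibLoc3
import Groth.Agent.Lib.Helper11.TorAscent
import Groth.Agent.Lib.Helper11.ProjResTower

/-!
Tor amplitude of the localization of a pseudo-coherent complex from the cohomology of its local
fibre (helper11): the main statement.
-/

set_option autoImplicit false

open CategoryTheory Category Limits DerivedCategory TensorProduct

attribute [local instance] HasDerivedCategory.standard

universe u

namespace Groth.Agent.Helper11.FibLoc

open Groth.Agent.Helper11.DC Groth.Agent.Helper11.TA Groth.Agent.Helper11.Dev
  Groth.Agent.Helper11.FlatPc Groth.Agent.Helper11.LocalPerf Groth.Agent.Helper11.LDer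

section Tower

variable {R P A : Type u} [CommRing R] [CommRing P] [CommRing A] [Algebra R P] [Algebra P A]
  [Algebra R A] [IsScalarTower R P A]

/-- the tower version: `R → P` flat with fibres of global dimension `≤ d`, `P → A` surjective,
`K` pseudo-coherent over `A` and over `P` -/
theorem hasTorAmplitudeIn_localization_tower [Module.Flat R P]
    (hsurj : Function.Surjective (algebraMap P A)) (d : ℕ)
    (hgl : ∀ (p : PrimeSpectrum R) (M : Type u) [AddCommGroup M]
      [Module (TensorProduct R p.asIdeal.ResidueField P) M],
      HasProjectiveDimensionLT (ModuleCat.of (TensorProduct R p.asIdeal.ResidueField P) M) (d + 1))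
    (q : Ideal A) [q.IsPrime] (p : Ideal R) [p.IsPrime]
    (hpq : p = Ideal.comap (algebraMap R A) q)
    [DRing.HasLBaseChange (algebraMap A (Localization.AtPrime q))]
    [DRing.HasLTensor (Localization.AtPrime p)
      (ModuleCat.of (Localization.AtPrime p) p.ResidueField)]
    (K : Dual.D A) (hK : DRing.IsPseudoCoherent' A K)
    (hL : DRing.IsPseudoCoherent' P ((DRing.restrictD (algebraMap P A)).obj K)) (a b : ℤ)
    (hfib : ∀ i : ℤ, i < a ∨ b < i → Subsingleton (Dual.HD (Localization.AtPrime p)
      ((DRing.LTensor (Localization.AtPrime p)
        (ModuleCat.of (Localization.AtPrime p) p.ResidueField)).obj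
        ((DRing.restrictD (Localization.localRingHom p q (algebraMap R A) hpq)).obj
          ((DRing.LBaseChange (algebraMap A (Localization.AtPrime q))).obj K))) i)) :
    DRing.HasTorAmplitudeIn R (a - d) b
      ((DRing.restrictD (algebraMap R (Localization.AtPrime q))).obj
        ((DRing.LBaseChange (algebraMap A (Localization.AtPrime q))).obj K)) := by
  obtain ⟨TA, bA, hTA, hTAff, ⟨eA⟩⟩ := hK
  obtain ⟨T, bT, hT, hTff, ⟨e⟩⟩ := hL
  have hTAp : ∀ i, Module.Projective A (TA.X i) := fun i => by
    haveI := (hTAff i).2
    infer_instance
  have hTp : ∀ i, Module.Projective P (T.X i) := fun i => by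
    haveI := (hTff i).2
    infer_instance
  have hpq' : p = (q.comap (algebraMap P A)).comap (algebraMap R P) := by
    rw [Ideal.comap_comap, ← IsScalarTower.algebraMap_eq]
    exact hpq
  obtain ⟨e0⟩ := nonempty_restrict_LBaseChange_iso hsurj q K TA bA hTA hTAp eA T bT hT hTp e
  -- the structure map `R_p → A_q` factors through `P_{q'}`
  have hlam : Localization.localRingHom p q (algebraMap R A) hpq =
      (locHom (P := P) q).comp
        (Localization.localRingHom p (q.comap (algebraMap P A)) (algebraMap R P) hpq') := by
    refine Localization.localRingHom_unique _ _ _ _ (fun r => ?_)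
    rw [RingHom.comp_apply, Localization.localRingHom_to_map, Localization.localRingHom_to_map,
      ← IsScalarTower.algebraMap_apply R P A]
  obtain ⟨e2⟩ := Groth.Agent.Helper11.MPC.nonempty_restrictCompIso
    (Localization.localRingHom p (q.comap (algebraMap P A)) (algebraMap R P) hpq')
    (locHom (P := P) q)
    ((DRing.LBaseChange (algebraMap A (Localization.AtPrime q))).obj K)
  rw [← hlam] at e2
  have eC : Q.obj ((rsC (Localization.localRingHom p (q.comap (algebraMap P A))
      (algebraMap R P) hpq')).obj
        ((esC (algebraMap P (Localization.AtPrime (q.comap (algebraMap P A))))).obj T)) ≅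
      (DRing.restrictD (Localization.localRingHom p q (algebraMap R A) hpq)).obj
        ((DRing.LBaseChange (algebraMap A (Localization.AtPrime q))).obj K) :=
    ((ModuleCat.restrictScalars.{u} (Localization.localRingHom p (q.comap (algebraMap P A))
      (algebraMap R P) hpq')).mapDerivedCategoryFactors.app _).symm ≪≫
      (DRing.restrictD (Localization.localRingHom p (q.comap (algebraMap P A))
        (algebraMap R P) hpq')).mapIso e0.symm ≪≫ e2.symm
  -- properties of the localized complex
  have hT'b : DRing.VanishesAbove
      ((esC (algebraMap P (Localization.AtPrime (q.comap (algebraMap P A))))).obj T) bT :=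
    fun i hi => (es (algebraMap P (Localization.AtPrime (q.comap (algebraMap P A))))).map_isZero
      (hT i hi)
  have hT'proj : ∀ i, Module.Projective (Localization.AtPrime (q.comap (algebraMap P A)))
      (((esC (algebraMap P (Localization.AtPrime (q.comap (algebraMap P A))))).obj T).X i) :=
    fun i => by
      haveI := hTp i
      exact es_projective _ (T.X i)
  have hT'fin : ∀ i, Module.Finite (Localization.AtPrime (q.comap (algebraMap P A)))
      (((esC (algebraMap P (Localization.AtPrime (q.comap (algebraMap P A))))).obj T).X i) :=
    fun i => by
      haveI := (hTff i).1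
      exact es_finite _ (T.X i)
  have hlamflat : (Localization.localRingHom p (q.comap (algebraMap P A))
      (algebraMap R P) hpq').Flat :=
    RingHom.Flat.localRingHom (RingHom.flat_algebraMap_iff.mpr inferInstance)
      (q.comap (algebraMap P A)) p hpq'
  have hCf : ∀ i, Module.Flat (Localization.AtPrime p)
      (((rsC (Localization.localRingHom p (q.comap (algebraMap P A))
        (algebraMap R P) hpq')).obj
        ((esC (algebraMap P (Localization.AtPrime (q.comap (algebraMap P A))))).obj T)).X i) := by
    intro i
    letI : Algebra (Localization.AtPrime p)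
        (Localization.AtPrime (q.comap (algebraMap P A))) :=
      (Localization.localRingHom p (q.comap (algebraMap P A)) (algebraMap R P) hpq').toAlgebra
    haveI : Module.Flat (Localization.AtPrime p)
        (Localization.AtPrime (q.comap (algebraMap P A))) := hlamflat
    haveI := hT'proj i
    haveI : Module.Flat (Localization.AtPrime (q.comap (algebraMap P A)))
        (((esC (algebraMap P (Localization.AtPrime (q.comap (algebraMap P A))))).obj T).X i) :=
      inferInstance
    exact Groth.Agent.Helper11.RPBC.flat_restrictScalars (Localization.AtPrime p)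
      (Localization.AtPrime (q.comap (algebraMap P A)))
      (((esC (algebraMap P (Localization.AtPrime (q.comap (algebraMap P A))))).obj T).X i)
  have hCb : DRing.VanishesAbove
      ((rsC (Localization.localRingHom p (q.comap (algebraMap P A)) (algebraMap R P) hpq')).obj
        ((esC (algebraMap P (Localization.AtPrime (q.comap (algebraMap P A))))).obj T)) bT :=
    fun i hi => (ModuleCat.restrictScalars.{u} _).map_isZero (hT'b i hi)
  have hres : HasProjRes (Q.obj
      ((rsC (Localization.localRingHom p (q.comap (algebraMap P A)) (algebraMap R P) hpq')).obj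
        ((esC (algebraMap P (Localization.AtPrime (q.comap (algebraMap P A))))).obj T))) :=
    Groth.Agent.Helper11.PRT.hasProjRes_of_isLE _ bT
      (Groth.Agent.Helper11.PcBC.isLE_of_vanishesAbove _ bT hCb)
  obtain ⟨eL⟩ := nonempty_LTensor_iso_of_flat
    (ModuleCat.of (Localization.AtPrime p) p.ResidueField)
    ((rsC (Localization.localRingHom p (q.comap (algebraMap P A)) (algebraMap R P) hpq')).obj
      ((esC (algebraMap P (Localization.AtPrime (q.comap (algebraMap P A))))).obj T))
    bT hCb hCf hres
  have hvan : ∀ i : ℤ, (i < a ∨ b < i) →
      IsZero (((tens (ModuleCat.of (Localization.AtPrime p) p.ResidueField)).obj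
        ((rsC (Localization.localRingHom p (q.comap (algebraMap P A))
          (algebraMap R P) hpq')).obj
          ((esC (algebraMap P (Localization.AtPrime (q.comap (algebraMap P A))))).obj
            T))).homology i) := by
    intro i hi
    haveI := hfib i hi
    have h0 : IsZero ((homologyFunctor (ModuleCat.{u} (Localization.AtPrime p)) i).obj
        ((DRing.LTensor (Localization.AtPrime p)
          (ModuleCat.of (Localization.AtPrime p) p.ResidueField)).obj
          ((DRing.restrictD (Localization.localRingHom p q (algebraMap R A) hpq)).obj
            ((DRing.LBaseChange (algebraMap A (Localization.AtPrime q))).obj K)))) :=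
      ModuleCat.isZero_of_subsingleton _
    have h3 : IsZero ((homologyFunctor (ModuleCat.{u} (Localization.AtPrime p)) i).obj
        (Q.obj ((tens (ModuleCat.of (Localization.AtPrime p) p.ResidueField)).obj
          ((rsC (Localization.localRingHom p (q.comap (algebraMap P A))
            (algebraMap R P) hpq')).obj
            ((esC (algebraMap P (Localization.AtPrime (q.comap (algebraMap P A))))).obj
              T))))) :=
      h0.of_iso ((homologyFunctor (ModuleCat.{u} (Localization.AtPrime p)) i).mapIso
        (eL.symm ≪≫ (DRing.LTensor (Localization.AtPrime p)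
          (ModuleCat.of (Localization.AtPrime p) p.ResidueField)).mapIso eC))
    exact h3.of_iso ((homologyFunctorFactors (ModuleCat.{u} (Localization.AtPrime p)) i).app
      _).symm
  have hTA' := hasTorAmplitudeIn_of_local_fibre d hgl p (q.comap (algebraMap P A)) hpq'
    ((esC (algebraMap P (Localization.AtPrime (q.comap (algebraMap P A))))).obj T) bT hT'b
    hT'proj hT'fin a b hvan
  -- restriction to `R`
  haveI : Module.Flat R (Localization.AtPrime (q.comap (algebraMap P A))) :=
    Module.Flat.trans R P (Localization.AtPrime (q.comap (algebraMap P A)))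
  have h4 := hasTorAmplitudeIn_restrict_of_flat (A := R) _ (a - d) b hTA'
  have hcomp : (locHom (P := P) q).comp
      (algebraMap R (Localization.AtPrime (q.comap (algebraMap P A)))) =
      algebraMap R (Localization.AtPrime q) := by
    refine RingHom.ext (fun r => ?_)
    rw [RingHom.comp_apply,
      IsScalarTower.algebraMap_apply R P (Localization.AtPrime (q.comap (algebraMap P A))),
      Localization.localRingHom_to_map, ← IsScalarTower.algebraMap_apply R P A,
      ← IsScalarTower.algebraMap_apply R A (Localization.AtPrime q)]
  obtain ⟨e3⟩ := Groth.Agent.Helper11.MPC.nonempty_restrictCompIso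
    (algebraMap R (Localization.AtPrime (q.comap (algebraMap P A)))) (locHom (P := P) q)
    ((DRing.LBaseChange (algebraMap A (Localization.AtPrime q))).obj K)
  rw [hcomp] at e3
  exact Groth.Agent.Helper11.PerfHom.hasTorAmplitudeIn_of_iso
    ((DRing.restrictD (algebraMap R
      (Localization.AtPrime (q.comap (algebraMap P A))))).mapIso e0.symm ≪≫ e3.symm) h4

end Tower

/-- statement S7104 -/
theorem torAmplitude_localization_of_fibre_bounded (R A : Type u) [CommRing R] [CommRing A]
    [Algebra R A] [Module.Flat R A] [Algebra.FinitePresentation R A] (d : ℕ)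
    (ψ : MvPolynomial (Fin d) R →ₐ[R] A) (hψ : Function.Surjective ψ)
    (q : Ideal A) [q.IsPrime] (p : Ideal R) [p.IsPrime]
    (hpq : p = Ideal.comap (algebraMap R A) q)
    [DRing.HasLBaseChange (algebraMap A (Localization.AtPrime q))]
    [DRing.HasLTensor (Localization.AtPrime p)
      (ModuleCat.of (Localization.AtPrime p) p.ResidueField)]
    (K : Dual.D A) (hK : DRing.IsPseudoCoherent' A K) (a b : ℤ)
    (hfib : ∀ i : ℤ, i < a ∨ b < i → Subsingleton (Dual.HD (Localization.AtPrime p)
      ((DRing.LTensor (Localization.AtPrime p)
        (ModuleCat.of (Localization.AtPrime p) p.ResidueField)).obj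
        ((DRing.restrictD (Localization.localRingHom p q (algebraMap R A) hpq)).obj
          ((DRing.LBaseChange (algebraMap A (Localization.AtPrime q))).obj K))) i)) :
    DRing.HasTorAmplitudeIn R (a - d) b
      ((DRing.restrictD (algebraMap R (Localization.AtPrime q))).obj
        ((DRing.LBaseChange (algebraMap A (Localization.AtPrime q))).obj K)) := by
  letI : Algebra (MvPolynomial (Fin d) R) A := ψ.toRingHom.toAlgebra
  haveI : IsScalarTower R (MvPolynomial (Fin d) R) A :=
    IsScalarTower.of_algebraMap_eq (fun r => (ψ.commutes r).symm)
  have hsurj : Function.Surjective (algebraMap (MvPolynomial (Fin d) R) A) := hψ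
  have hL := ((Groth.Agent.S7100.result R (MvPolynomial (Fin d) R) A hsurj K).1).mp hK
  exact hasTorAmplitudeIn_localization_tower hsurj d
    (Groth.Agent.Helper11.PerfHom.hgl_poly R d) q p hpq K hK hL a b hfib

end Groth.Agent.Helper11.FibLoc
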