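import Groth.Agent.Lib.Helper11.DCPc0
import Groth.Prelude.Def_MoreMor

/-!
pseudo-coherent modules are finitely presented; pseudo-coherent ring maps are of finite presentation.
-/

open CategoryTheory Category Limits Pretriangulated DerivedCategory ZeroObject

attribute [local instance] HasDerivedCategory.standard

universe u

namespace Groth.Agent.Helper11.DC

section

variable {R : Type u} [CommRing R] (M : Type u) [AddCommGroup M] [Module R M]

theorem fp_of_pc' (h : DRing.IsPseudoCoherentModule' R M) :
    Module.FinitePresentation R M := by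
  obtain ⟨E, b, hb, hE, ⟨e⟩⟩ := h
  have hH : ∀ i : ℤ, 0 < i → IsZero ((homologyFunctor (ModuleCat.{u} R) i).obj (Q.obj E)) := by
    intro i hi
    exact (isZero_homology_single (ModuleCat.of R M) i (by omega)).of_iso
      ((homologyFunctor (ModuleCat.{u} R) i).mapIso e)
  obtain ⟨E', π, hπ, hz, -⟩ := trim_to (b - 0).toNat E 0 b (by omega)
    hb (fun i => by
      have := (hE i).2
      infer_instance) hH
  have hfp0 : Module.FinitePresentation R (E'.X 0) := by
    have := hπ.finite 0 (hE 0).1
    have := hπ.projective 0 (by
      have := (hE 0).2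
      infer_instance)
    exact Module.finitePresentation_of_projective R _
  have h1 := topH_fp E' 0 hz hfp0 (hπ.finite (0 - 1) (hE (0 - 1)).1)
  obtain ⟨e'⟩ := hπ.homology_iso 0
  have h2 : Module.FinitePresentation R ((homologyFunctor (ModuleCat.{u} R) 0).obj (Q.obj E)) :=
    Module.FinitePresentation.of_equiv e'.toLinearEquiv.symm
  have h3 : Module.FinitePresentation R ((homologyFunctor (ModuleCat.{u} R) 0).obj
      ((singleFunctor (ModuleCat.{u} R) 0).obj (ModuleCat.of R M))) :=
    Module.FinitePresentation.of_equiv
      ((homologyFunctor (ModuleCat.{u} R) 0).mapIso e).toLinearEquiv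
  exact Module.FinitePresentation.of_equiv (h0Single (ModuleCat.of R M)).toLinearEquiv

end

theorem finitePresentation_of_isPseudoCoherentHom (A B : Type u) [CommRing A] [CommRing B]
    [Algebra A B] (h : MoreMor.IsPseudoCoherentHom A B) : Algebra.FinitePresentation A B := by
  obtain ⟨n, φ, hφ, hpc⟩ := h
  letI := φ.toRingHom.toAlgebra
  haveI hfp : Module.FinitePresentation (MvPolynomial (Fin n) A) B := fp_of_pc' B hpc
  have hsurj : Function.Surjective (Algebra.linearMap (MvPolynomial (Fin n) A) B) := hφ
  have hk := Module.FinitePresentation.fg_ker (Algebra.linearMap (MvPolynomial (Fin n) A) B) hsurj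
  have hker : (RingHom.ker φ.toRingHom).FG := by
    have heq : (RingHom.ker φ.toRingHom : Submodule (MvPolynomial (Fin n) A) (MvPolynomial (Fin n) A))
        = LinearMap.ker (Algebra.linearMap (MvPolynomial (Fin n) A) B) := by
      ext x
      rfl
    change Submodule.FG (RingHom.ker φ.toRingHom : Submodule (MvPolynomial (Fin n) A) (MvPolynomial (Fin n) A))
    rw [heq]
    exact hk
  exact Algebra.FinitePresentation.of_surjective hφ hker

end Groth.Agent.Helper11.DC
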