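import Groth.Agent.Lib.Helper11.Proj4

/-!
Fibrewise Tor-vanishing: from the cohomology of the fibre `T ⊗_A κ(p)` to the cohomology of
`T ⊗_B κ(m)` when the fibre rings of `A → B` have finite global dimension (helper11).
-/

set_option autoImplicit false

open CategoryTheory CategoryTheory.Limits MonoidalCategory TensorProduct

universe u

namespace Groth.Agent.Helper11.FibTor

open Groth.Agent.Helper11.DC Groth.Agent.Helper11.TA Groth.Agent.Helper11.LDer
  Groth.Agent.Helper11.Dev Groth.Agent.Helper11.Glue Groth.Agent.Helper11.ProjF

attribute [local instance] HasDerivedCategory.standard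

section Finsupp

variable {R : Type u} [CommRing R] {X Y Z M : Type u} [AddCommGroup X] [AddCommGroup Y]
  [AddCommGroup Z] [AddCommGroup M] [Module R X] [Module R Y] [Module R Z] [Module R M]

/-- naturality of `TensorProduct.finsuppRight` in the first variable, componentwise -/
theorem finsuppRight_rTensor (J : Type u) [DecidableEq J] (f : X →ₗ[R] Y)
    (t : X ⊗[R] (J →₀ M)) (j : J) :
    TensorProduct.finsuppRight R R Y M J (LinearMap.rTensor (J →₀ M) f t) j =
      LinearMap.rTensor M f (TensorProduct.finsuppRight R R X M J t j) := by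
  rw [TensorProduct.finsuppRight_apply, TensorProduct.finsuppRight_apply,
    ← LinearMap.comp_apply, ← LinearMap.comp_apply, LinearMap.lTensor_comp_rTensor,
    LinearMap.rTensor_comp_lTensor]

/-- exactness of `- ⊗ M` at a spot gives exactness of `- ⊗ (J →₀ M)` -/
theorem ker_rTensor_finsupp_le (J : Type u) (f : X →ₗ[R] Y) (g : Y →ₗ[R] Z)
    (h : LinearMap.ker (LinearMap.rTensor M g) ≤ LinearMap.range (LinearMap.rTensor M f)) :
    LinearMap.ker (LinearMap.rTensor (J →₀ M) g) ≤
      LinearMap.range (LinearMap.rTensor (J →₀ M) f) := by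
  classical
  intro t ht
  rw [LinearMap.mem_ker] at ht
  have hcomp : ∀ j : J, TensorProduct.finsuppRight R R Y M J t j ∈
      LinearMap.range (LinearMap.rTensor M f) := by
    intro j
    apply h
    rw [LinearMap.mem_ker, ← finsuppRight_rTensor J g t j, ht, map_zero, Finsupp.zero_apply]
  choose c hc using hcomp
  let r : J →₀ X ⊗[R] M :=
    Finsupp.onFinset (TensorProduct.finsuppRight R R Y M J t).support
      (fun j => if TensorProduct.finsuppRight R R Y M J t j = 0 then 0 else c j) (by
        intro j hj
        rw [Finsupp.mem_support_iff]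
        intro h0
        exact hj (if_pos h0))
  have hr : ∀ j, LinearMap.rTensor M f (r j) = TensorProduct.finsuppRight R R Y M J t j := by
    intro j
    show LinearMap.rTensor M f
      (if TensorProduct.finsuppRight R R Y M J t j = 0 then 0 else c j) = _
    split_ifs with h0
    · rw [map_zero, h0]
    · exact hc j
  refine ⟨(TensorProduct.finsuppRight R R X M J).symm r, ?_⟩
  apply (TensorProduct.finsuppRight R R Y M J).injective
  refine Finsupp.ext (fun j => ?_)
  rw [finsuppRight_rTensor, LinearEquiv.apply_symm_apply]
  exact hr j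

end Finsupp

/-- vanishing of `H^i(C ⊗ M)` gives vanishing of `H^i(C ⊗ (J →₀ M))` -/
theorem isZero_homology_tens_finsupp {R : Type u} [CommRing R] (C : DRing.Cx R)
    (M : ModuleCat.{u} R) (J : Type u) (i : ℤ)
    (h : IsZero (((tens M).obj C).homology i)) :
    IsZero (((tens (ModuleCat.of R (J →₀ M))).obj C).homology i) := by
  rw [← HomologicalComplex.exactAt_iff_isZero_homology] at h ⊢
  have h1 := range_eq_ker_of_exactAt ((tens M).obj C) (i - 1) i (i + 1) (by omega) rfl h
  rw [tens_d_hom, tens_d_hom] at h1
  refine exactAt_of_ker_le_range _ (i - 1) i (i + 1) (by omega) rfl ?_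
  rw [tens_d_hom, tens_d_hom]
  exact ker_rTensor_finsupp_le J _ _ h1.ge

variable {A B : Type u} [CommRing A] [CommRing B] [Algebra A B]

/-- fibres of finite global dimension: if the fibre of `T` over the prime `p` of `A` below the
maximal ideal `m` of `B` has no cohomology below degree `a`, then `T ⊗_B B/m` has no cohomology
below degree `a - d` -/
theorem isZero_homology_tens_quot_of_fibre (d : ℕ)
    (hgl : ∀ (p : PrimeSpectrum A) (M : Type u) [AddCommGroup M]
      [Module (TensorProduct A p.asIdeal.ResidueField B) M],
      HasProjectiveDimensionLT (ModuleCat.of (TensorProduct A p.asIdeal.ResidueField B) M) (d + 1))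
    (T : DRing.Cx B) (hT : ∀ i, Module.Flat B (T.X i)) (b : ℤ) (hTb : DRing.VanishesAbove T b)
    (m : Ideal B) [m.IsMaximal] (a : ℤ)
    (h : ∀ i : ℤ, i < a →
      IsZero (((tens (ModuleCat.of A (below A m).asIdeal.ResidueField)).obj
        ((rsC (algebraMap A B)).obj T)).homology i))
    (i : ℤ) (hi : i < a - d) :
    IsZero (((tens (ModuleCat.of B (B ⧸ m))).obj T).homology i) := by
  have hfree : ∀ (J : Type u) (j : ℤ), (j < a ∨ b < j) →
      IsZero (((tens ((ModuleCat.restrictScalars.{u}
        (incB (A := A) (B := B) (below A m).asIdeal.ResidueField)).obj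
        (ModuleCat.of ((below A m).asIdeal.ResidueField ⊗[A] B)
          (J →₀ (below A m).asIdeal.ResidueField ⊗[A] B)))).obj T).homology j) := by
    intro J j hj
    rcases hj with hj | hj
    · have h0 := isZero_homology_tens_finsupp ((rsC (algebraMap A B)).obj T)
        (ModuleCat.of A (below A m).asIdeal.ResidueField) J j (h j hj)
      have h1 := isZero_homology_tens_bc' T
        (ModuleCat.of A (J →₀ (below A m).asIdeal.ResidueField)) j h0
      exact h1.of_iso ((HomologicalComplex.homologyFunctor _ _ j).mapIso
        ((tensIso (freeEquiv (below A m).asIdeal.ResidueField J).toModuleIso).app T)).symm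
    · exact Groth.Agent.Helper11.Dev.isZero_homology_of_isZero_X _ j
        (tens_isZero _ T j (hTb j hj))
  have h1 := isZero_homology_tens_of_pdLT
    (incB (A := A) (B := B) (below A m).asIdeal.ResidueField) T hT a b hfree
    d (resMod A m) (@hgl (below A m) m.ResidueField _ (resMod A m).isModule) i (Or.inl hi)
  exact h1.of_iso ((HomologicalComplex.homologyFunctor _ _ i).mapIso
    ((tensIso (quotEquiv A m).toModuleIso).app T))

end Groth.Agent.Helper11.FibTor
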