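import Groth.Agent.Lib.Helper11.FibTor1
import Groth.Agent.Lib.Helper11.FibPd3
import Groth.Agent.Lib.Helper11.LocalPerf6

/-!
Tor amplitude of a bounded above complex of finite projective modules which is bounded below
cohomologically: the loci where the localizations have tor amplitude in `[c, b]` are open, and
quasi-compactness of the spectrum gives a uniform bound (helper11).
-/

set_option autoImplicit false

open CategoryTheory Category Limits DerivedCategory TensorProduct

attribute [local instance] HasDerivedCategory.standard

universe u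

namespace Groth.Agent.Helper11.FibTor

open Groth.Agent.Helper11.DC Groth.Agent.Helper11.TA Groth.Agent.Helper11.Dev
  Groth.Agent.Helper11.FlatPc Groth.Agent.Helper11.LocalPerf Groth.Agent.Helper11.FibPd

section Local

variable {R : Type u} [CommRing R]

/-- fibre criterion at a maximal ideal: if `E ⊗ R/m` has no cohomology below degree `a`, the
localization of `E` at `m` has tor amplitude in `[a, b]` -/
theorem hasTorAmplitudeIn_localization_of_fibre (E : DRing.Cx R) (b : ℤ)
    (hEb : DRing.VanishesAbove E b) (hproj : ∀ i, Module.Projective R (E.X i))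
    (hfin : ∀ i, Module.Finite R (E.X i)) (m : Ideal R) [m.IsMaximal] (a : ℤ)
    (hH : ∀ i : ℤ, i < a → IsZero (((tens (ModuleCat.of R (R ⧸ m))).obj E).homology i)) :
    DRing.HasTorAmplitudeIn (Localization.AtPrime m) a b
      (Q.obj ((esC (algebraMap R (Localization.AtPrime m))).obj E)) := by
  refine hasTorAmplitudeIn_of_fibre _ b
    (fun i hi => (es (algebraMap R (Localization.AtPrime m))).map_isZero (hEb i hi))
    (fun i => by haveI := hproj i; exact es_projective _ (E.X i))
    (fun i => by haveI := hfin i; exact es_finite _ (E.X i)) a b (fun i hi => ?_)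
  rcases hi with hi | hi
  · refine isZero_homology_esC_of_comm (algebraMap R (Localization.AtPrime m))
      (IsLocalRing.residue (Localization.AtPrime m)) (Ideal.Quotient.mk m)
      (resMap m) (resMap_comp m) (resMap_flat m) E i ?_
    refine IsZero.of_iso ?_ ((DerivedCategory.homologyFunctorFactors _ i).app _)
    show IsZero (((esC (Ideal.Quotient.mk m)).obj E).homology i)
    rw [← Groth.Agent.Helper11.Dev.isZero_homology_tens_quot_iff]
    exact hH i hi
  · exact Groth.Agent.Helper11.DC.isZero_homology_of_isZero_X _ i
      ((es _).map_isZero ((es _).map_isZero (hEb i hi)))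

end Local

section Locus

variable (P : Type u) [CommRing P] (T : DRing.Cx P) (b : ℤ)

/-- the locus of primes where the localization of `T` has tor amplitude in `[c, b]` -/
def torLocus (c : ℤ) : Set (PrimeSpectrum P) :=
  {q | DRing.HasTorAmplitudeIn (Localization.AtPrime q.asIdeal) c b
    (Q.obj ((esC (algebraMap P (Localization.AtPrime q.asIdeal))).obj T))}

theorem torLocus_mono {c c' : ℤ} (h : c' ≤ c) : torLocus P T b c ⊆ torLocus P T b c' := by
  rintro q ⟨E, hE, hEf, e⟩
  exact ⟨E, fun i hi => hE i (by omega), hEf, e⟩

variable (hTb : DRing.VanishesAbove T b) (hproj : ∀ i, Module.Projective P (T.X i))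
  (hfin : ∀ i, Module.Finite P (T.X i)) (a₀ : ℤ)
  (hex : ∀ i : ℤ, i < a₀ → IsZero ((homologyFunctor (ModuleCat.{u} P) i).obj (Q.obj T)))

include hTb hproj hfin hex in
/-- below the cohomological lower bound, the tor amplitude locus is the free locus of a
cokernel of the differential -/
theorem torLocus_eq_freeLocus (c : ℤ) (hc : c ≤ a₀) :
    torLocus P T b c =
      Module.freeLocus P (T.X c ⧸ LinearMap.range (T.d (c - 1) c).hom) := by
  ext q
  have hψ : (algebraMap P (Localization.AtPrime q.asIdeal)).Flat :=
    RingHom.flat_algebraMap_iff.mpr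
      (IsLocalization.flat (Localization.AtPrime q.asIdeal) q.asIdeal.primeCompl)
  obtain ⟨ec⟩ := nonempty_coker_es_iso (algebraMap P (Localization.AtPrime q.asIdeal))
    (T.d (c - 1) c)
  have hE'b : DRing.VanishesAbove
      ((esC (algebraMap P (Localization.AtPrime q.asIdeal))).obj T) b :=
    fun i hi => (es (algebraMap P (Localization.AtPrime q.asIdeal))).map_isZero (hTb i hi)
  have hfl' : ∀ i, Module.Flat (Localization.AtPrime q.asIdeal)
      (((esC (algebraMap P (Localization.AtPrime q.asIdeal))).obj T).X i) := fun i => by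
    haveI := hproj i
    haveI : Module.Flat P (T.X i) := inferInstance
    exact es_flat (algebraMap P (Localization.AtPrime q.asIdeal)) (T.X i)
  haveI := hfin c
  rw [Module.mem_freeLocus_iff_tensor q (Localization.AtPrime q.asIdeal)]
  constructor
  · intro h
    have hv := torVan_of_hasTorAmplitudeIn h
    have hcx : TorVanCx c b ((esC (algebraMap P (Localization.AtPrime q.asIdeal))).obj T) :=
      torVanCx_of_torVan hv _ b hE'b hfl' (Iso.refl _)
    haveI hflat : Module.Flat (Localization.AtPrime q.asIdeal)
        (ModuleCat.of (Localization.AtPrime q.asIdeal)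
          (((es (algebraMap P (Localization.AtPrime q.asIdeal))).obj (T.X c)) ⧸
            LinearMap.range ((es (algebraMap P (Localization.AtPrime q.asIdeal))).map
              (T.d (c - 1) c)).hom)) :=
      flat_coker_of_torVanCx _ hfl' hcx
    haveI : Module.Flat (Localization.AtPrime q.asIdeal)
        ((es (algebraMap P (Localization.AtPrime q.asIdeal))).obj (ModuleCat.of P
          (T.X c ⧸ LinearMap.range (T.d (c - 1) c).hom))) :=
      Module.Flat.of_linearEquiv ec.toLinearEquiv
    haveI : Module.Flat (Localization.AtPrime q.asIdeal)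
        (Localization.AtPrime q.asIdeal ⊗[P]
          (T.X c ⧸ LinearMap.range (T.d (c - 1) c).hom)) :=
      Module.Flat.of_linearEquiv
        (esEquiv (R := P) (S := Localization.AtPrime q.asIdeal) (ModuleCat.of P
          (T.X c ⧸ LinearMap.range (T.d (c - 1) c).hom))).symm
    exact Module.free_of_flat_of_isLocalRing
  · intro h
    haveI := h
    haveI hZ : Module.Flat (Localization.AtPrime q.asIdeal)
        ((es (algebraMap P (Localization.AtPrime q.asIdeal))).obj (ModuleCat.of P
          (T.X c ⧸ LinearMap.range (T.d (c - 1) c).hom))) :=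
      Module.Flat.of_linearEquiv
        (esEquiv (R := P) (S := Localization.AtPrime q.asIdeal) (ModuleCat.of P
          (T.X c ⧸ LinearMap.range (T.d (c - 1) c).hom)))
    have hC : Module.Flat (Localization.AtPrime q.asIdeal)
        (((esC (algebraMap P (Localization.AtPrime q.asIdeal))).obj T).X c ⧸
          LinearMap.range
            (((esC (algebraMap P (Localization.AtPrime q.asIdeal))).obj T).d (c - 1) c).hom) :=
      Module.Flat.of_linearEquiv ec.symm.toLinearEquiv
    have hex' : ∀ k : ℤ, k < c →
        LinearMap.ker
          (((esC (algebraMap P (Localization.AtPrime q.asIdeal))).obj T).d k (k + 1)).hom ≤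
        LinearMap.range
          (((esC (algebraMap P (Localization.AtPrime q.asIdeal))).obj T).d (k - 1) k).hom := by
      intro k hk
      have h1 : IsZero ((homologyFunctor (ModuleCat.{u} (Localization.AtPrime q.asIdeal)) k).obj
          (Q.obj ((esC (algebraMap P (Localization.AtPrime q.asIdeal))).obj T))) :=
        isZero_homology_esC_of_flat _ hψ T k (hex k (by omega))
      exact (range_eq_ker_of_exactAt _ (k - 1) k (k + 1) (by omega) rfl
        (exactAt_of_homology_isZero _ k h1)).ge
    exact hasTorAmplitudeIn_of_exact_below _ c b hE'b hfl' hex' hC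

include hTb hproj hfin hex in
/-- quasi-compactness: if the localizations at all maximal ideals have tor amplitude bounded
below, then the complex has tor amplitude bounded below -/
theorem exists_hasTorAmplitudeIn_of_local
    (hloc : ∀ q : PrimeSpectrum P, q.asIdeal.IsMaximal → ∃ c : ℤ, q ∈ torLocus P T b c) :
    ∃ c : ℤ, DRing.HasTorAmplitudeIn P c b (Q.obj T) := by
  have hfp : ∀ c : ℤ, Module.FinitePresentation P
      (T.X c ⧸ LinearMap.range (T.d (c - 1) c).hom) := by
    intro c
    haveI := hproj c
    haveI := hfin c
    haveI := hfin (c - 1)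
    haveI : Module.FinitePresentation P (T.X c) := Module.finitePresentation_of_projective P _
    refine Module.finitePresentation_of_surjective
      (LinearMap.range (T.d (c - 1) c).hom).mkQ (Submodule.mkQ_surjective _) ?_
    rw [Submodule.ker_mkQ]
    exact (Module.Finite.iff_fg).mp (Module.Finite.range _)
  have hopen : ∀ k : ℕ, IsOpen (torLocus P T b (a₀ - k)) := by
    intro k
    rw [torLocus_eq_freeLocus P T b hTb hproj hfin a₀ hex (a₀ - k) (by omega)]
    haveI := hfp (a₀ - k)
    exact Module.isOpen_freeLocus
  have hcover : (Set.univ : Set (PrimeSpectrum P)) ⊆ ⋃ k : ℕ, torLocus P T b (a₀ - k) := by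
    intro q _
    obtain ⟨m, hm, hqm⟩ := Ideal.exists_le_maximal q.asIdeal q.isPrime.ne_top
    obtain ⟨c, hcm⟩ := hloc ⟨m, hm.isPrime⟩ hm
    have hmem : (⟨m, hm.isPrime⟩ : PrimeSpectrum P) ∈ ⋃ k : ℕ, torLocus P T b (a₀ - k) := by
      refine Set.mem_iUnion.mpr ⟨(a₀ - c).toNat, torLocus_mono P T b ?_ hcm⟩
      have := Int.self_le_toNat (a₀ - c)
      omega
    have hspec : q ⤳ (⟨m, hm.isPrime⟩ : PrimeSpectrum P) :=
      (PrimeSpectrum.le_iff_specializes _ _).mp hqm
    exact hspec.mem_open (isOpen_iUnion hopen) hmem
  have hdir : Directed (· ⊆ ·) (fun k : ℕ => torLocus P T b (a₀ - k)) := by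
    intro k k'
    exact ⟨k + k', torLocus_mono P T b (by push_cast; omega),
      torLocus_mono P T b (by push_cast; omega)⟩
  obtain ⟨k, hk⟩ := isCompact_univ.elim_directed_cover _ hopen hcover hdir
  have hfree : Module.freeLocus P
      (T.X (a₀ - k) ⧸ LinearMap.range (T.d (a₀ - k - 1) (a₀ - k)).hom) = Set.univ := by
    rw [← torLocus_eq_freeLocus P T b hTb hproj hfin a₀ hex (a₀ - k) (by omega)]
    exact Set.eq_univ_of_univ_subset hk
  haveI := hfp (a₀ - k)
  haveI : Module.Projective P
      (T.X (a₀ - k) ⧸ LinearMap.range (T.d (a₀ - k - 1) (a₀ - k)).hom) :=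
    Module.freeLocus_eq_univ_iff.mp hfree
  refine ⟨a₀ - k, hasTorAmplitudeIn_of_exact_below T (a₀ - k) b hTb
    (fun i => by haveI := hproj i; infer_instance) ?_ inferInstance⟩
  intro j hj
  exact (range_eq_ker_of_exactAt T (j - 1) j (j + 1) (by omega) rfl
    (exactAt_of_homology_isZero T j (hex j (by omega)))).ge

end Locus

end Groth.Agent.Helper11.FibTor
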