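import Groth.Agent.Lib.Helper11.LocalPerf6
import Groth.Agent.Lib.Helper11.RelPerfBC
import Mathlib.RingTheory.Jacobson.Ideal

/-!
Tor amplitude of a pseudo-coherent complex can be read off modulo an ideal contained in the
Jacobson radical (helper11).
-/

set_option autoImplicit false

open CategoryTheory Category Limits Pretriangulated DerivedCategory ZeroObject

attribute [local instance] HasDerivedCategory.standard

universe u

namespace Groth.Agent.Helper11.LocalPerf

open Groth.Agent.Helper11.DC Groth.Agent.Helper11.MPC Groth.Agent.Helper11.TA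
  Groth.Agent.Helper11.LDer Groth.Agent.Helper11.SubCx

section Jac

variable {R : Type u} [CommRing R]

theorem isZero_homology_of_hasTorAmplitudeIn {A : Type u} [CommRing A] (K : Dual.D A) (a b : ℤ)
    (h : DRing.HasTorAmplitudeIn A a b K) (i : ℤ) (hi : i < a ∨ b < i) :
    IsZero ((homologyFunctor (ModuleCat.{u} A) i).obj K) := by
  obtain ⟨F, hF, -, ⟨e⟩⟩ := h
  exact (isZero_homology_of_isZero_X F i (hF i hi)).of_iso
    ((homologyFunctor (ModuleCat.{u} A) i).mapIso e.symm)

/-- a bounded above complex of finite projectives whose reduction modulo an ideal `I` inside the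
Jacobson radical has tor amplitude in `[a, b]` has tor amplitude in `[a, b]` -/
theorem hasTorAmplitudeIn_of_jacobson (I : Ideal R) (hI : I ≤ Ideal.jacobson (⊥ : Ideal R))
    (E : DRing.Cx R) (b₀ : ℤ) (hEb : DRing.VanishesAbove E b₀)
    (hproj : ∀ i, Module.Projective R (E.X i)) (hfin : ∀ i, Module.Finite R (E.X i)) (a b : ℤ)
    (h : DRing.HasTorAmplitudeIn (R ⧸ I) a b (Q.obj ((esC (Ideal.Quotient.mk I)).obj E))) :
    DRing.HasTorAmplitudeIn R a b (Q.obj E) := by
  refine hasTorAmplitudeIn_of_fibres E b₀ hEb hproj hfin a b (fun m hm i hi => ?_)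
  have hIm : I ≤ m := hI.trans (sInf_le ⟨bot_le, hm⟩)
  have hcomp : (Ideal.Quotient.factor hIm).comp (Ideal.Quotient.mk I) = Ideal.Quotient.mk m :=
    Ideal.Quotient.factor_comp_mk hIm
  have h1 := Groth.Agent.Helper11.RPBC.torAmp_esC_of_flat (Ideal.Quotient.factor hIm)
    ((esC (Ideal.Quotient.mk I)).obj E) b₀ a b
    (fun i hi => (es (Ideal.Quotient.mk I)).map_isZero (hEb i hi))
    (fun i => by
      haveI := hproj i
      haveI : Module.Flat R (E.X i) := inferInstance
      exact es_flat _ (E.X i)) h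
  have e : (esC (Ideal.Quotient.mk m)).obj E ≅
      (esC (Ideal.Quotient.factor hIm)).obj ((esC (Ideal.Quotient.mk I)).obj E) :=
    eqToIso (by rw [hcomp]) ≪≫ esCCompIso (Ideal.Quotient.mk I) (Ideal.Quotient.factor hIm) E
  exact (isZero_homology_of_hasTorAmplitudeIn _ a b h1 i hi).of_iso
    ((homologyFunctor (ModuleCat.{u} (R ⧸ m)) i).mapIso (Q.mapIso e))

end Jac

end Groth.Agent.Helper11.LocalPerf
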