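import Groth.Agent.Lib.Helper11.MPC11
import Groth.Agent.Lib.Helper11.DCPc0
import Groth.Agent.Lib.Helper11.DCRegular
import Groth.Agent.Lib.Helper11.FinRes
import Mathlib.RingTheory.FiniteType
import Mathlib.RingTheory.Polynomial.Basic

/-!
Relative pseudo-coherence: transfer lemmas.
-/

open CategoryTheory Category Limits Pretriangulated DerivedCategory ZeroObject

attribute [local instance] HasDerivedCategory.standard

universe u

namespace Groth.Agent.Helper11.MPC

open Groth.Agent.Helper11.DC Groth.Agent.Helper11.GenRes Groth.Agent.Helper11.TA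

section Restrict

variable {P A : Type u} [CommRing P] [CommRing A] (φ : P →+* A)

theorem mpc_restrict_single_iff (N : ModuleCat.{u} A) (j : ℤ) :
    DRing.IsPseudoCoherent P j ((DRing.restrictD φ).obj
        ((singleFunctor (ModuleCat.{u} A) 0).obj N)) ↔
      DRing.IsPseudoCoherent P j ((singleFunctor (ModuleCat.{u} P) 0).obj
        ((ModuleCat.restrictScalars.{u} φ).obj N)) := by
  have e := ((ModuleCat.restrictScalars.{u} φ).mapDerivedCategorySingleFunctor 0).app N
  exact ⟨mpc_of_iso e, mpc_of_iso e.symm⟩

theorem finite_restrict_of_surjective (hφ : Function.Surjective φ) (N : ModuleCat.{u} A)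
    (h : Module.Finite A N) : Module.Finite P ((ModuleCat.restrictScalars.{u} φ).obj N) := by
  letI : Module P A := Module.compHom A φ
  letI : Module P N := Module.compHom N φ
  haveI : IsScalarTower P A N := ⟨fun a b n => by
    change (φ a * b) • n = φ a • (b • n)
    rw [mul_smul]⟩
  let l : P →ₗ[P] A :=
    { toFun := fun p => φ p
      map_add' := fun a b => map_add φ a b
      map_smul' := fun a b => map_mul φ a b }
  haveI : Module.Finite P A := Module.Finite.of_surjective l hφ
  have h' : Module.Finite P N := Module.Finite.trans A N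
  exact h'

theorem finite_restrict_iff (hφ : Function.Surjective φ) (N : ModuleCat.{u} A) :
    Module.Finite P ((ModuleCat.restrictScalars.{u} φ).obj N) ↔ Module.Finite A N :=
  ⟨finite_of_restrict φ N, finite_restrict_of_surjective φ hφ N⟩

theorem isZero_homology_restrict_iff (K : Dual.D A) (i : ℤ) :
    IsZero ((Hf P i).obj ((DRing.restrictD φ).obj K)) ↔ IsZero ((Hf A i).obj K) := by
  constructor
  · intro h
    have h1 : IsZero ((ModuleCat.restrictScalars.{u} φ).obj ((Hf A i).obj K)) :=
      IsZero.of_iso h (homologyRestrictIso φ K i).symm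
    have h2 : Subsingleton ((ModuleCat.restrictScalars.{u} φ).obj ((Hf A i).obj K)) :=
      ModuleCat.subsingleton_of_isZero h1
    haveI : Subsingleton ((Hf A i).obj K) := h2
    exact ModuleCat.isZero_of_subsingleton _
  · intro h
    exact IsZero.of_iso ((ModuleCat.restrictScalars.{u} φ).map_isZero h) (homologyRestrictIso φ K i)

end Restrict

section Noeth

variable {R : Type u} [CommRing R] [IsNoetherianRing R]

theorem mpc_iff_of_noetherian (m : ℤ) (K : Dual.D R) :
    DRing.IsPseudoCoherent R m K ↔
      (∃ b : ℤ, ∀ i : ℤ, b < i → IsZero ((Hf R i).obj K)) ∧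
        ∀ i : ℤ, m ≤ i → Module.Finite R ((Hf R i).obj K) := by
  constructor
  · intro h
    obtain ⟨b, hb⟩ := exists_isLE_of_mpc h
    refine ⟨⟨b, (isLE_iff K b).mp hb⟩, fun i hi => ?_⟩
    obtain ⟨E, a, c, α, hE, hff, hiso, hepi⟩ := h
    haveI hfin : Module.Finite R ((Hf R i).obj (Q.obj E)) :=
      homology_finite_of_finite_term E i (hff i).1
    have hepi' : Epi ((Hf R i).map α) := by
      by_cases him : i = m
      · subst him
        exact hepi
      · haveI := hiso i (by omega)
        infer_instance
    exact Module.Finite.of_surjective ((Hf R i).map α).hom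
      ((ModuleCat.epi_iff_surjective _).mp hepi')
  · rintro ⟨⟨b, hb⟩, hfin⟩
    refine mpc_of_homology K b hb (fun i hi => mpc_single_of_module _ ?_)
    haveI := hfin i hi
    exact mpc_of_pc' (isPseudoCoherentModule'_of_finite ((Hf R i).obj K)) (m - i)

end Noeth

section Rel

variable {R A : Type u} [CommRing R] [CommRing A] [Algebra R A]

theorem exists_presentation [Algebra.FiniteType R A] :
    ∃ (n : ℕ) (α : MvPolynomial (Fin n) R →ₐ[R] A), Function.Surjective α :=
  Algebra.FiniteType.iff_quotient_mvPolynomial''.mp inferInstance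

theorem rel_iff_via {n : ℕ} (α : MvPolynomial (Fin n) R →ₐ[R] A) (hα : Function.Surjective α)
    (m : ℤ) (K : Dual.D A) :
    DerCA.IsRelPseudoCoherent R A m K ↔ DerCA.IsRelPseudoCoherentVia α m K :=
  ⟨fun ⟨_, β, hβ, h⟩ => (via_iff β hβ α hα K m).mp h, fun h => ⟨n, α, hα, h⟩⟩

end Rel

end Groth.Agent.Helper11.MPC
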