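import Groth.Agent.Lib.Helper11.FibTor2
import Groth.Agent.Lib.Helper11.PerfHom
import Groth.Agent.Lib.Helper11.MPC12
import Groth.Agent.Lib.Helper11.LDer4
import Groth.Agent.Lib.Helper11.LocalPerf7
import Groth.Agent.Lib.Helper11.PcBC
import Groth.Agent.S7100
import Groth.Prelude.Def_DualSh

/-!
Relative perfectness from bounded below fibres (helper11): a pseudo-coherent complex over a flat
finitely presented `R`-algebra `A` is `R`-perfect iff it is bounded below and all its derived
fibres over `R` are bounded below.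
-/

set_option autoImplicit false

open CategoryTheory Category Limits DerivedCategory TensorProduct

attribute [local instance] HasDerivedCategory.standard

universe u

namespace Groth.Agent.Helper11.FibTor

open Groth.Agent.Helper11.DC Groth.Agent.Helper11.TA Groth.Agent.Helper11.Dev
  Groth.Agent.Helper11.FlatPc Groth.Agent.Helper11.LocalPerf Groth.Agent.Helper11.FibPd

section Main

variable {R P : Type u} [CommRing R] [CommRing P] [Algebra R P]

/-- a bounded above complex of finite projective `P`-modules, cohomologically bounded below, whose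
fibres over all primes of `R` are cohomologically bounded below has finite tor dimension over `P`,
provided the fibre rings of `R → P` have global dimension `≤ d` -/
theorem exists_hasTorAmplitudeIn_of_fibres (d : ℕ)
    (hgl : ∀ (p : PrimeSpectrum R) (M : Type u) [AddCommGroup M]
      [Module (TensorProduct R p.asIdeal.ResidueField P) M],
      HasProjectiveDimensionLT (ModuleCat.of (TensorProduct R p.asIdeal.ResidueField P) M) (d + 1))
    (T : DRing.Cx P) (b : ℤ) (hTb : DRing.VanishesAbove T b)
    (hproj : ∀ i, Module.Projective P (T.X i)) (hfin : ∀ i, Module.Finite P (T.X i)) (a₀ : ℤ)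
    (hex : ∀ i : ℤ, i < a₀ → IsZero ((homologyFunctor (ModuleCat.{u} P) i).obj (Q.obj T)))
    (hfib : ∀ p : PrimeSpectrum R, ∃ a : ℤ, ∀ i : ℤ, i < a →
      IsZero (((tens (ModuleCat.of R p.asIdeal.ResidueField)).obj
        ((rsC (algebraMap R P)).obj T)).homology i)) :
    ∃ c : ℤ, DRing.HasTorAmplitudeIn P c b (Q.obj T) := by
  refine exists_hasTorAmplitudeIn_of_local P T b hTb hproj hfin a₀ hex (fun q hq => ?_)
  haveI := hq
  obtain ⟨a, ha⟩ := hfib (Groth.Agent.Helper11.ProjF.below R q.asIdeal)
  exact ⟨a - d, hasTorAmplitudeIn_localization_of_fibre T b hTb hproj hfin q.asIdeal (a - d)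
    (fun i hi => isZero_homology_tens_quot_of_fibre d hgl T
      (fun i => by haveI := hproj i; infer_instance) b hTb q.asIdeal a ha i hi)⟩

end Main

section Tower

variable {R P A : Type u} [CommRing R] [CommRing P] [CommRing A] [Algebra R P] [Algebra P A]
  [Algebra R A] [IsScalarTower R P A]

/-- the tower version: `K` in `D(A)`, pseudo-coherent over `P`, with `R → P` flat with fibres of
global dimension `≤ d` -/
theorem hasFiniteTorDimCx_of_fibres [Module.Flat R P] (d : ℕ)
    (hgl : ∀ (p : PrimeSpectrum R) (M : Type u) [AddCommGroup M]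
      [Module (TensorProduct R p.asIdeal.ResidueField P) M],
      HasProjectiveDimensionLT (ModuleCat.of (TensorProduct R p.asIdeal.ResidueField P) M) (d + 1))
    [∀ p : PrimeSpectrum R, DRing.HasLTensor R (ModuleCat.of R p.asIdeal.ResidueField)]
    (K : Dual.D A)
    (hL : DRing.IsPseudoCoherent' P ((DRing.restrictD (algebraMap P A)).obj K))
    (h1 : ∃ a : ℤ, ∀ i : ℤ, i < a → Subsingleton (Dual.HD A K i))
    (h2 : ∀ p : PrimeSpectrum R, ∃ a : ℤ, ∀ i : ℤ, i < a →
      Subsingleton (Dual.HD R ((DRing.LTensor R (ModuleCat.of R p.asIdeal.ResidueField)).obj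
        ((DRing.restrictD (algebraMap R A)).obj K)) i)) :
    DRing.HasFiniteTorDimCx R ((DRing.restrictD (algebraMap R A)).obj K) := by
  obtain ⟨T, b, hTb, hff, ⟨e⟩⟩ := hL
  have hproj : ∀ i, Module.Projective P (T.X i) := fun i => by
    haveI := (hff i).2
    infer_instance
  have hfin : ∀ i, Module.Finite P (T.X i) := fun i => (hff i).1
  have hflat : ∀ i, Module.Flat P (T.X i) := fun i => by
    haveI := hproj i
    infer_instance
  have hcomp : (algebraMap P A).comp (algebraMap R P) = algebraMap R A :=
    (IsScalarTower.algebraMap_eq R P A).symm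
  obtain ⟨e2⟩ := Groth.Agent.Helper11.MPC.nonempty_restrictCompIso (algebraMap R P)
    (algebraMap P A) K
  rw [hcomp] at e2
  have eC : Q.obj ((rsC (algebraMap R P)).obj T) ≅ (DRing.restrictD (algebraMap R A)).obj K :=
    ((ModuleCat.restrictScalars.{u} (algebraMap R P)).mapDerivedCategoryFactors.app T).symm ≪≫
      (DRing.restrictD (algebraMap R P)).mapIso e ≪≫ e2.symm
  have hCb : DRing.VanishesAbove ((rsC (algebraMap R P)).obj T) b :=
    fun i hi => (ModuleCat.restrictScalars.{u} (algebraMap R P)).map_isZero (hTb i hi)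
  have hCf : ∀ i, Module.Flat R (((rsC (algebraMap R P)).obj T).X i) := fun i => by
    haveI := hflat i
    exact Groth.Agent.Helper11.RPBC.flat_restrictScalars R P (T.X i)
  have hres : HasProjRes (Q.obj ((rsC (algebraMap R P)).obj T)) :=
    Groth.Agent.Helper11.PRT.hasProjRes_of_isLE _ b
      (Groth.Agent.Helper11.PcBC.isLE_of_vanishesAbove _ b hCb)
  obtain ⟨a₀, ha₀⟩ := h1
  have hex : ∀ i : ℤ, i < a₀ →
      IsZero ((homologyFunctor (ModuleCat.{u} P) i).obj (Q.obj T)) := by
    intro i hi
    haveI := ha₀ i hi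
    have h0 : IsZero ((homologyFunctor (ModuleCat.{u} A) i).obj K) :=
      ModuleCat.isZero_of_subsingleton _
    have h3 := (Groth.Agent.Helper11.MPC.isZero_homology_restrict_iff (algebraMap P A) K i).mpr h0
    exact h3.of_iso ((homologyFunctor (ModuleCat.{u} P) i).mapIso e)
  have hfib : ∀ p : PrimeSpectrum R, ∃ a : ℤ, ∀ i : ℤ, i < a →
      IsZero (((tens (ModuleCat.of R p.asIdeal.ResidueField)).obj
        ((rsC (algebraMap R P)).obj T)).homology i) := by
    intro p
    obtain ⟨a, ha⟩ := h2 p
    refine ⟨a, fun i hi => ?_⟩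
    obtain ⟨eL⟩ := Groth.Agent.Helper11.LDer.nonempty_LTensor_iso_of_flat
      (ModuleCat.of R p.asIdeal.ResidueField) ((rsC (algebraMap R P)).obj T) b hCb hCf hres
    haveI := ha i hi
    have h0 : IsZero ((homologyFunctor (ModuleCat.{u} R) i).obj
        ((DRing.LTensor R (ModuleCat.of R p.asIdeal.ResidueField)).obj
          ((DRing.restrictD (algebraMap R A)).obj K))) :=
      ModuleCat.isZero_of_subsingleton _
    have h3 : IsZero ((homologyFunctor (ModuleCat.{u} R) i).obj
        (Q.obj ((tens (ModuleCat.of R p.asIdeal.ResidueField)).obj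
          ((rsC (algebraMap R P)).obj T)))) :=
      h0.of_iso ((homologyFunctor (ModuleCat.{u} R) i).mapIso
        (eL.symm ≪≫ (DRing.LTensor R (ModuleCat.of R p.asIdeal.ResidueField)).mapIso eC))
    exact h3.of_iso ((homologyFunctorFactors (ModuleCat.{u} R) i).app _).symm
  obtain ⟨c, hc⟩ := exists_hasTorAmplitudeIn_of_fibres d hgl T b hTb hproj hfin a₀ hex hfib
  have h4 := Groth.Agent.Helper11.TA.hasTorAmplitudeIn_restrict_of_flat (A := R) _ c b hc
  exact ⟨c, b, Groth.Agent.Helper11.PerfHom.hasTorAmplitudeIn_of_iso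
    ((DRing.restrictD (algebraMap R P)).mapIso e ≪≫ e2.symm) h4⟩

end Tower

/-- relative perfectness is equivalent to bounded below cohomology of the complex and of its
derived fibres (this is statement S7094) -/
theorem isRelPerfect_iff_bounded_below_fibres (R A : Type u) [CommRing R] [CommRing A]
    [Algebra R A] [Module.Flat R A] [Algebra.FinitePresentation R A]
    [∀ p : PrimeSpectrum R, DRing.HasLTensor R (ModuleCat.of R p.asIdeal.ResidueField)]
    (K : Dual.D A) (hK : DRing.IsPseudoCoherent' A K) :
    Dual2.IsRelPerfect R A K ↔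
      (∃ a : ℤ, ∀ i : ℤ, i < a → Subsingleton (Dual.HD A K i)) ∧
        ∀ p : PrimeSpectrum R, ∃ a : ℤ, ∀ i : ℤ, i < a →
          Subsingleton (Dual.HD R ((DRing.LTensor R (ModuleCat.of R p.asIdeal.ResidueField)).obj
            ((DRing.restrictD (algebraMap R A)).obj K)) i) := by
  constructor
  · rintro ⟨-, a, b, hab⟩
    refine ⟨⟨a, fun i hi => ?_⟩, fun p => ⟨a, fun i hi => ?_⟩⟩
    · have h0 := isZero_homology_of_hasTorAmplitudeIn _ a b hab i (Or.inl hi)
      have h3 := (Groth.Agent.Helper11.MPC.isZero_homology_restrict_iff (algebraMap R A) K i).mp h0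
      exact ModuleCat.subsingleton_of_isZero h3
    · obtain ⟨F, hF, hFf, ⟨eF⟩⟩ := hab
      obtain ⟨eL⟩ := Groth.Agent.Helper11.LDer.nonempty_LTensor_iso_of_flat
        (ModuleCat.of R p.asIdeal.ResidueField) F b (fun j hj => hF j (Or.inr hj)) hFf
        (hasProjRes_of_bounded F a b hF)
      have h0 : IsZero ((homologyFunctor (ModuleCat.{u} R) i).obj
          (Q.obj ((tens (ModuleCat.of R p.asIdeal.ResidueField)).obj F))) :=
        Groth.Agent.Helper11.DC.isZero_homology_of_isZero_X _ i
          (tens_isZero _ F i (hF i (Or.inl hi)))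
      have h3 : IsZero ((homologyFunctor (ModuleCat.{u} R) i).obj
          ((DRing.LTensor R (ModuleCat.of R p.asIdeal.ResidueField)).obj
            ((DRing.restrictD (algebraMap R A)).obj K))) :=
        h0.of_iso ((homologyFunctor (ModuleCat.{u} R) i).mapIso
          ((DRing.LTensor R (ModuleCat.of R p.asIdeal.ResidueField)).mapIso eF.symm ≪≫ eL))
      exact ModuleCat.subsingleton_of_isZero h3
  · rintro ⟨h1, h2⟩
    refine ⟨hK, ?_⟩
    obtain ⟨d, ψ, hψ⟩ := Algebra.FiniteType.iff_quotient_mvPolynomial''.mp
      (inferInstance : Algebra.FiniteType R A)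
    letI : Algebra (MvPolynomial (Fin d) R) A := ψ.toRingHom.toAlgebra
    haveI : IsScalarTower R (MvPolynomial (Fin d) R) A :=
      IsScalarTower.of_algebraMap_eq (fun r => (ψ.commutes r).symm)
    have hsurj : Function.Surjective (algebraMap (MvPolynomial (Fin d) R) A) := hψ
    have hL := ((Groth.Agent.S7100.result R (MvPolynomial (Fin d) R) A hsurj K).1).mp hK
    exact hasFiniteTorDimCx_of_fibres d (Groth.Agent.Helper11.PerfHom.hgl_poly R d) K hL h1 h2

end Groth.Agent.Helper11.FibTor
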