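import Mathlib.Algebra.Category.ModuleCat.FilteredColimits
import Mathlib.CategoryTheory.Limits.ConcreteCategory.Basic
import Mathlib.LinearAlgebra.FreeModule.Finite.Basic
import Mathlib.CategoryTheory.Filtered.Basic

/-!
Maps from finite (free) modules into filtered colimits of modules (helper11).
-/

set_option autoImplicit false

open CategoryTheory Limits

universe u

namespace Groth.Agent.Helper11.FiltColim

variable {R : Type u} [CommRing R] {J : Type u} [SmallCategory J] [IsFiltered J]
  (F : J ⥤ ModuleCat.{u} R) (c : Cocone F) (hc : IsColimit c)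

omit [IsFiltered J] in
theorem ι_map {j j' : J} (t : j ⟶ j') (x : F.obj j) :
    (c.ι.app j').hom ((F.map t).hom x) = (c.ι.app j).hom x := by
  have := c.w t
  exact congr($(this).hom x)

include hc in
/-- a map from a finite free module into a filtered colimit lifts to a finite stage -/
theorem exists_lift_of_finite_free (P : Type u) [AddCommGroup P] [Module R P] [Module.Finite R P]
    [Module.Free R P] (f : P →ₗ[R] c.pt) :
    ∃ (j : J) (g : P →ₗ[R] F.obj j), (c.ι.app j).hom ∘ₗ g = f := by
  classical
  let b := Module.Free.chooseBasis R P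
  have hrep : ∀ k, ∃ (j : J) (y : F.obj j), (c.ι.app j).hom y = f (b k) := fun k =>
    Concrete.isColimit_exists_rep F hc (f (b k))
  choose j y hy using hrep
  obtain ⟨S, hS⟩ := IsFiltered.sup_objs_exists (Finset.univ.image j)
  have t : ∀ k, j k ⟶ S := fun k => (hS (Finset.mem_image_of_mem j (Finset.mem_univ k))).some
  refine ⟨S, b.constr R (fun k => (F.map (t k)).hom (y k)), ?_⟩
  apply b.ext
  intro k
  rw [LinearMap.comp_apply, Module.Basis.constr_basis, ι_map]
  exact hy k

include hc in
theorem exists_eq_on_finset (P : Type u) [AddCommGroup P] [Module R P] (j : J)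
    (u v : P →ₗ[R] F.obj j) (h : (c.ι.app j).hom ∘ₗ u = (c.ι.app j).hom ∘ₗ v) (s : Finset P) :
    ∃ (j' : J) (t : j ⟶ j'), ∀ x ∈ s, (F.map t).hom (u x) = (F.map t).hom (v x) := by
  classical
  induction s using Finset.induction_on with
  | empty => exact ⟨j, 𝟙 j, fun x hx => absurd hx (Finset.notMem_empty x)⟩
  | insert a s _ ih =>
    obtain ⟨j', t, ht⟩ := ih
    have h1 : (c.ι.app j').hom ((F.map t).hom (u a)) = (c.ι.app j').hom ((F.map t).hom (v a)) := by
      rw [ι_map, ι_map]
      exact LinearMap.congr_fun h a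
    obtain ⟨k, f, g, hfg⟩ := Concrete.isColimit_exists_of_rep_eq F hc _ _ h1
    have hfg' : (F.map f).hom ((F.map t).hom (u a)) = (F.map g).hom ((F.map t).hom (v a)) := hfg
    have hcoeq : ∀ z : F.obj j', (F.map (IsFiltered.coeqHom f g)).hom ((F.map f).hom z) =
        (F.map (IsFiltered.coeqHom f g)).hom ((F.map g).hom z) := by
      intro z
      have h2 : F.map f ≫ F.map (IsFiltered.coeqHom f g) =
          F.map g ≫ F.map (IsFiltered.coeqHom f g) := by
        rw [← F.map_comp, ← F.map_comp, IsFiltered.coeq_condition]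
      exact congr($(h2).hom z)
    have hmap : ∀ z : P → F.obj j, ∀ x : P, (F.map (t ≫ f ≫ IsFiltered.coeqHom f g)).hom (z x) =
        (F.map (IsFiltered.coeqHom f g)).hom ((F.map f).hom ((F.map t).hom (z x))) := by
      intro z x
      rw [F.map_comp, F.map_comp]
      rfl
    refine ⟨IsFiltered.coeq f g, t ≫ f ≫ IsFiltered.coeqHom f g, ?_⟩
    intro x hx
    rw [hmap (fun x => u x), hmap (fun x => v x)]
    rw [Finset.mem_insert] at hx
    rcases hx with rfl | hx
    · rw [hfg', hcoeq]
    · rw [ht x hx]

include hc in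
/-- two maps from a finite module to a stage of a filtered colimit which agree in the colimit
agree at a later stage -/
theorem exists_eq_of_finite (P : Type u) [AddCommGroup P] [Module R P] [Module.Finite R P] (j : J)
    (u v : P →ₗ[R] F.obj j) (h : (c.ι.app j).hom ∘ₗ u = (c.ι.app j).hom ∘ₗ v) :
    ∃ (j' : J) (t : j ⟶ j'), (F.map t).hom ∘ₗ u = (F.map t).hom ∘ₗ v := by
  obtain ⟨s, hs⟩ := (Module.Finite.fg_top : (⊤ : Submodule R P).FG)
  obtain ⟨j', t, ht⟩ := exists_eq_on_finset F c hc P j u v h s
  exact ⟨j', t, LinearMap.ext_on hs (fun x hx => ht x hx)⟩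

end Groth.Agent.Helper11.FiltColim
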