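import Groth.Agent.Lib.Helper11.Glue1
import Mathlib.RingTheory.Localization.BaseChange
import Mathlib.Algebra.Module.LocalizedModule.Away

/-!
Glueing flatness along `R → R_f` and `R → R ⧸ f` (helper11).
-/

set_option autoImplicit false

open CategoryTheory CategoryTheory.Limits MonoidalCategory

universe u

namespace Groth.Agent.Helper11.Glue

open Groth.Agent.Helper11.DC Groth.Agent.Helper11.TA Groth.Agent.Helper11.LDer
  Groth.Agent.Helper11.PRT Groth.Agent.Helper11.Dev

attribute [local instance] HasDerivedCategory.standard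

section Single

variable {B : Type u} [CommRing B]

/-- a flat module placed in degree `0` has tor amplitude in `[0, 0]` -/
theorem hasTorAmplitudeIn_inD_of_flat (N : Type u) [AddCommGroup N] [Module B N]
    [Module.Flat B N] : DRing.HasTorAmplitudeIn B 0 0 (Dual.inD B N) := by
  refine ⟨(CochainComplex.singleFunctor (ModuleCat.{u} B) 0).obj (ModuleCat.of B N), ?_, ?_,
    ⟨((DerivedCategory.singleFunctorIsoCompQ (ModuleCat.{u} B) 0).app (ModuleCat.of B N)).symm⟩⟩
  · intro i hi
    exact HomologicalComplex.isZero_single_obj_X _ _ _ _ (by omega)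
  · intro i
    by_cases hi : i = 0
    · subst hi
      exact Module.Flat.of_linearEquiv
        (HomologicalComplex.singleObjXSelf (ComplexShape.up ℤ) 0 (ModuleCat.of B N)).toLinearEquiv
    · haveI : Subsingleton (((CochainComplex.singleFunctor (ModuleCat.{u} B) 0).obj
          (ModuleCat.of B N)).X i) :=
        ModuleCat.subsingleton_of_isZero (HomologicalComplex.isZero_single_obj_X _ _ _ _ hi)
      haveI := Module.Free.of_subsingleton B (((CochainComplex.singleFunctor (ModuleCat.{u} B) 0).obj
          (ModuleCat.of B N)).X i)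
      infer_instance

/-- an object of tor amplitude `[0, 0]` is a flat module in degree `0` -/
theorem exists_flat_of_hasTorAmplitudeIn_zero (M : Dual.D B)
    (h : DRing.HasTorAmplitudeIn B 0 0 M) :
    ∃ (N : Type u) (_ : AddCommGroup N) (_ : Module B N), Module.Flat B N ∧
      Nonempty (M ≅ Dual.inD B N) := by
  obtain ⟨E, hE, hflat, ⟨e⟩⟩ := h
  haveI : E.IsStrictlyGE 0 := by
    rw [CochainComplex.isStrictlyGE_iff]
    intro i hi
    exact hE i (Or.inl hi)
  haveI : E.IsStrictlyLE 0 := by
    rw [CochainComplex.isStrictlyLE_iff]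
    intro i hi
    exact hE i (Or.inr hi)
  obtain ⟨A, ⟨eA⟩⟩ := CochainComplex.exists_iso_single E 0
  have eX : E.X 0 ≅ A := (HomologicalComplex.eval _ _ 0).mapIso eA ≪≫
    HomologicalComplex.singleObjXSelf (ComplexShape.up ℤ) 0 A
  haveI := hflat 0
  refine ⟨A, inferInstance, inferInstance, Module.Flat.of_linearEquiv eX.toLinearEquiv.symm, ⟨?_⟩⟩
  exact e.symm ≪≫ DerivedCategory.Q.mapIso eA ≪≫
    ((DerivedCategory.singleFunctorIsoCompQ (ModuleCat.{u} B) 0).app A).symm

end Single

variable {R : Type u} [CommRing R] (f : R)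

/-- identity equivalence between the two `R`-module structures on `R_f` -/
noncomputable def eBm : (Bm (algebraMap R (Localization.Away f))) ≃ₗ[R] Localization.Away f :=
  { toFun := fun x => x
    invFun := fun x => x
    map_add' := fun _ _ => rfl
    map_smul' := fun r x => by
      show algebraMap R (Localization.Away f) r * (show Localization.Away f from x) =
        r • (show Localization.Away f from x)
      rw [Algebra.smul_def]
    left_inv := fun _ => rfl
    right_inv := fun _ => rfl }

/-- a module on which `f` acts invertibly is its own base change to `R_f` -/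
noncomputable def localTensorIso (L : Type u) [AddCommGroup L] [Module R L]
    (hL : IsUnit (algebraMap R (Module.End R L) f)) :
    ModuleCat.of R L ≅ (ModuleCat.of R L) ⊗ Bm (algebraMap R (Localization.Away f)) :=
  haveI : IsLocalizedModule (Submonoid.powers f) (LinearMap.id : L →ₗ[R] L) :=
    IsLocalizedModule.Away.mk_of_addCommGroup hL (fun x => ⟨0, x, by simp⟩)
      (fun x hx => ⟨0, by simpa using hx⟩)
  ((IsLocalizedModule.linearEquiv (Submonoid.powers f) (LinearMap.id : L →ₗ[R] L)
      (TensorProduct.mk R (Localization.Away f) L 1)) ≪≫ₗ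
    (TensorProduct.comm R (Localization.Away f) L) ≪≫ₗ
    (TensorProduct.congr (LinearEquiv.refl R L) (eBm f).symm)).toModuleIso

/-- Tor-vanishing glued from `R_f` and `R ⧸ f` -/
theorem torVanCx_of_away_and_quotient (P : DRing.Cx R) (hPb : DRing.VanishesAbove P 0)
    (hPp : ∀ i, Module.Projective R (P.X i))
    (E₁ : DRing.Cx (Localization.Away f)) (c₁ : ℤ) (hE₁c : DRing.VanishesAbove E₁ c₁)
    (hE₁p : ∀ i, Module.Projective (Localization.Away f) (E₁.X i))
    (e₁ : DerivedCategory.Q.obj ((esC (algebraMap R (Localization.Away f))).obj P) ≅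
      DerivedCategory.Q.obj E₁) (hE₁ : TorVanCx 0 0 E₁)
    (E₂ : DRing.Cx (R ⧸ Ideal.span ({f} : Set R))) (c₂ : ℤ) (hE₂c : DRing.VanishesAbove E₂ c₂)
    (hE₂p : ∀ i, Module.Projective (R ⧸ Ideal.span ({f} : Set R)) (E₂.X i))
    (e₂ : DerivedCategory.Q.obj ((esC (Ideal.Quotient.mk (Ideal.span ({f} : Set R)))).obj P) ≅
      DerivedCategory.Q.obj E₂) (hE₂ : TorVanCx 0 0 E₂) : TorVanCx 0 0 P := by
  haveI : P.IsKProjective := isKProjective_of_vanishesAbove P 0 hPb hPp
  have hPf : ∀ i, Module.Flat R (P.X i) := fun i => by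
    haveI := hPp i
    infer_instance
  intro N₀ i hi
  refine IsZero.of_iso ?_ ((DerivedCategory.homologyFunctorFactors (ModuleCat.{u} R) i).app _)
  rcases hi with hi | hi
  swap
  · exact isZero_homology_of_isZero_X _ i (tens_isZero N₀ P i (hPb i hi))
  -- negative degrees
  have hpow : ∀ j : ℤ, j < 0 → ∀ (n : ℕ) (N : Type u) [AddCommGroup N] [Module R N],
      (Ideal.span ({f} : Set R)) ^ n • (⊤ : Submodule R N) = ⊥ →
      IsZero (((tens (ModuleCat.of R N)).obj P).homology j) := by
    intro j hj
    exact isZero_homology_tens_of_pow_killed' (Ideal.span ({f} : Set R)) P hPf j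
      (fun N hN => isZero_homology_tens_of_esC (Ideal.Quotient.mk (Ideal.span ({f} : Set R))) P
        E₂ c₂ hE₂c hE₂p e₂ 0 0 hE₂ N
        ((β_ N (Bm (Ideal.Quotient.mk (Ideal.span ({f} : Set R))))) ≪≫
          BmTensorIso (Ideal.span ({f} : Set R)) N hN).symm j (Or.inl hj))
  have htors : ∀ j : ℤ, j < 0 → ∀ (N : Type u) [AddCommGroup N] [Module R N],
      (∀ x : N, ∃ k : ℕ, f ^ k • x = 0) →
      IsZero (((tens (ModuleCat.of R N)).obj P).homology j) := by
    intro j hj N _ _ hN
    exact isZero_homology_tens_of_torsion f P hPf j (hpow j hj) N hN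
  let S := Submonoid.powers f
  let L := LocalizedModule S N₀
  let ν : N₀ →ₗ[R] L := LocalizedModule.mkLinearMap S N₀
  have hLunit : IsUnit (algebraMap R (Module.End R L) f) :=
    IsLocalizedModule.map_units (S := S) ν ⟨f, ⟨1, pow_one f⟩⟩
  have hloc : ∀ j : ℤ, j < 0 → IsZero (((tens (ModuleCat.of R L)).obj P).homology j) := by
    intro j hj
    exact isZero_homology_tens_of_esC (algebraMap R (Localization.Away f)) P E₁ c₁ hE₁c hE₁p e₁
      0 0 hE₁ (ModuleCat.of R L) (localTensorIso f L hLunit) j (Or.inl hj)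
  -- kernel and cokernel of the localization map are torsion
  have hK : ∀ x : LinearMap.ker ν, ∃ k : ℕ, f ^ k • x = 0 := by
    intro x
    obtain ⟨⟨s, k, rfl⟩, hs⟩ := (IsLocalizedModule.eq_zero_iff S ν).mp (LinearMap.mem_ker.mp x.2)
    exact ⟨k, Subtype.ext hs⟩
  have hC : ∀ y : L ⧸ LinearMap.range ν, ∃ k : ℕ, f ^ k • y = 0 := by
    intro y
    obtain ⟨l, rfl⟩ := (LinearMap.range ν).mkQ_surjective y
    obtain ⟨n, x, hx⟩ := IsLocalizedModule.Away.surj ν f l
    refine ⟨n, ?_⟩
    rw [← map_smul, hx]
    exact (Submodule.Quotient.mk_eq_zero _).mpr ⟨x, rfl⟩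
  -- the image
  have hI : IsZero (((tens (ModuleCat.of R (LinearMap.range ν))).obj P).homology i) :=
    isZero_homology_tens_of_ses₁ P hPf (ModuleCat.ofHom (LinearMap.range ν).subtype)
      (ModuleCat.ofHom (LinearMap.range ν).mkQ) (Submodule.injective_subtype _)
      (Submodule.mkQ_surjective _) (LinearMap.exact_subtype_mkQ _) (i - 1) i (by omega)
      (htors (i - 1) (by omega) _ hC) (hloc i hi)
  have hex : Function.Exact (LinearMap.ker ν).subtype ν.rangeRestrict := by
    rw [LinearMap.exact_iff, LinearMap.ker_rangeRestrict, Submodule.range_subtype]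
  exact isZero_homology_tens_of_ses P hPf (ModuleCat.ofHom (LinearMap.ker ν).subtype)
    (ModuleCat.ofHom ν.rangeRestrict) (Submodule.injective_subtype _)
    ν.surjective_rangeRestrict hex i (htors i hi _ hK) hI

end Groth.Agent.Helper11.Glue
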