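import Groth.Agent.Lib.Helper11.MPC7
import Groth.Agent.Lib.Helper11.TorAmp11
import Mathlib.RingTheory.Finiteness.Descent
import Mathlib.RingTheory.RingHom.FaithfullyFlat
import Mathlib.RingTheory.Localization.Finiteness

/-!
Flat descent of `m`-pseudo-coherence.
-/

open CategoryTheory Category Limits Pretriangulated DerivedCategory ZeroObject

attribute [local instance] HasDerivedCategory.standard

universe u

namespace Groth.Agent.Helper11.MPC

open Groth.Agent.Helper11.DC Groth.Agent.Helper11.GenRes Groth.Agent.Helper11.TA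

variable {R : Type u} [CommRing R]

theorem finite_of_es_finite {R' : Type u} [CommRing R'] (φ : R →+* R') (hφ : φ.FaithfullyFlat)
    (H : ModuleCat.{u} R) (h : Module.Finite R' ((es φ).obj H)) : Module.Finite R H := by
  letI : Algebra R R' := φ.toAlgebra
  haveI : Module.FaithfullyFlat R R' := hφ
  haveI : Module.Finite R' (TensorProduct R R' H) := h
  exact Module.Finite.of_finite_tensorProduct_of_faithfullyFlat R'

theorem finite_localizedModule_of_es_finite (f : R) (H : ModuleCat.{u} R)
    (h : Module.Finite (Localization.Away f) ((es (algebraMap R (Localization.Away f))).obj H)) :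
    Module.Finite (Localization.Away f) (LocalizedModule (Submonoid.powers f) H) := by
  let φ := algebraMap R (Localization.Away f)
  let N : ModuleCat.{u} (Localization.Away f) :=
    ModuleCat.of (Localization.Away f) (LocalizedModule (Submonoid.powers f) H)
  let g : H ⟶ (ModuleCat.restrictScalars φ).obj N := ModuleCat.ofHom
    (Y := (ModuleCat.restrictScalars φ).obj N)
    { toFun := fun y => LocalizedModule.mk y 1
      map_add' := fun y z => by
        exact (LocalizedModule.mkLinearMap (Submonoid.powers f) H).map_add y z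
      map_smul' := fun r y => by
        change LocalizedModule.mk (r • y) 1 = (algebraMap R (Localization.Away f) r) •
          (LocalizedModule.mk y 1 : LocalizedModule (Submonoid.powers f) H)
        rw [algebraMap_smul]
        exact (LocalizedModule.mkLinearMap (Submonoid.powers f) H).map_smul r y }
  let adj := ModuleCat.extendRestrictScalarsAdj.{u, u, u} φ
  let g' : (es φ).obj H ⟶ N := (adj.homEquiv H N).symm g
  let un : H → (es φ).obj H := fun y => (adj.unit.app H).hom y
  have hg' : ∀ y : H, g'.hom (un y) = LocalizedModule.mk y 1 := by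
    intro y
    have h1 : (adj.homEquiv H N) g' = g := Equiv.apply_symm_apply _ _
    rw [Adjunction.homEquiv_unit] at h1
    exact congr($(h1).hom y)
  have hsurj : Function.Surjective g'.hom := by
    intro z
    induction z using LocalizedModule.induction_on with
    | h y s =>
      refine ⟨(Localization.mk 1 s : Localization.Away f) • un y, ?_⟩
      rw [map_smul, hg']
      change (Localization.mk 1 s : Localization (Submonoid.powers f)) •
        (LocalizedModule.mk y 1 : LocalizedModule (Submonoid.powers f) H) = LocalizedModule.mk y s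
      rw [LocalizedModule.mk_smul_mk, one_smul, mul_one]
  exact Module.Finite.of_surjective g'.hom hsurj

theorem finite_of_es_away {r : ℕ} (f : Fin r → R) (hf : Ideal.span (Set.range f) = ⊤)
    (H : ModuleCat.{u} R)
    (h : ∀ i, Module.Finite (Localization.Away (f i))
      ((es (algebraMap R (Localization.Away (f i)))).obj H)) : Module.Finite R H := by
  classical
  refine Module.Finite.of_localizationSpan_finite (Finset.univ.image f)
    (by rw [Finset.coe_image, Finset.coe_univ, Set.image_univ]; exact hf) ?_
  rintro ⟨g, hg⟩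
  obtain ⟨i, -, rfl⟩ := Finset.mem_image.mp hg
  exact finite_localizedModule_of_es_finite (f i) H (h i)

theorem cone_top_cover_isLE (C : DRing.Cx R) (m : ℤ) (hle : (Q.obj C).IsLE m)
    {F : ModuleCat.{u} R} (τ : sgl m F ⟶ C) (hτ : Epi (HomologicalComplex.homologyMap τ m)) :
    (Q.obj (CochainComplex.mappingCone τ)).IsLE (m - 1) := by
  have hT := DerivedCategory.mappingCone_triangle_distinguished τ
  refine cone_isLE' _ hT (fun i hi => ?_) ?_
  · exact isIso_of_isZero' _ (sgl_isZero_homology m _ i (by omega))
      ((isLE_iff (Q.obj C) m).mp hle i hi)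
  · exact (epi_map_iff_of_natIso (homologyFunctorFactors (ModuleCat.{u} R) m) τ).mpr hτ

section

variable {R' : Type u} [CommRing R'] (φ : R →+* R')

theorem mpc_esC_sgl (a : ℤ) (F : ModuleCat.{u} R) [Module.Finite R F] [Module.Free R F] (j : ℤ) :
    DRing.IsPseudoCoherent R' j (Q.obj ((esC φ).obj (sgl a F))) := by
  refine mpc_of_bounded_free _ a a (fun i hi => ?_) (fun i => ?_) j
  · exact (es φ).map_isZero (sgl_isZero a F i (by omega))
  · obtain ⟨h1, h2⟩ := sgl_finite_free a F i
    exact ⟨es_finite φ ((sgl a F).X i), es_free φ ((sgl a F).X i)⟩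

theorem isLE_esC (hφ : φ.Flat) (K : DRing.Cx R) (a : ℤ) (hK : (Q.obj K).IsLE a) :
    (Q.obj ((esC φ).obj K)).IsLE a := by
  rw [isLE_iff]
  intro i hi
  have h0 : IsZero (K.homology i) :=
    IsZero.of_iso ((isLE_iff _ a).mp hK i hi)
      ((homologyFunctorFactors (ModuleCat.{u} R) i).app K).symm
  refine IsZero.of_iso ?_ ((homologyFunctorFactors (ModuleCat.{u} R') i).app _)
  exact IsZero.of_iso ((es φ).map_isZero h0) (esHomologyIso φ hφ K i)

end

theorem mpc_descent_aux {ι : Type*} (R' : ι → Type u) [∀ i, CommRing (R' i)]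
    (φ : ∀ i, R →+* R' i) (hflat : ∀ i, (φ i).Flat)
    (hfin : ∀ H : ModuleCat.{u} R, (∀ i, Module.Finite (R' i) ((es (φ i)).obj H)) →
      Module.Finite R H) (m : ℤ) (n : ℕ) :
    ∀ (K : DRing.Cx R) (a : ℤ), a < m + n → (Q.obj K).IsLE a →
      (∀ i, DRing.IsPseudoCoherent (R' i) m (Q.obj ((esC (φ i)).obj K))) →
      DRing.IsPseudoCoherent R m (Q.obj K) := by
  induction n with
  | zero =>
    intro K a ha hK _
    exact mpc_of_isZero_homology _ (fun i hi => (isLE_iff _ a).mp hK i (by omega))
  | succ n ih =>
    intro K a ha hK h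
    by_cases ham : a < m
    · exact mpc_of_isZero_homology _ (fun i hi => (isLE_iff _ a).mp hK i (by omega))
    · have hfinK : Module.Finite R (K.homology a) := by
        apply hfin
        intro i
        haveI := isLE_esC (φ i) (hflat i) K a hK
        have h1 : Module.Finite (R' i) ((Hf (R' i) a).obj (Q.obj ((esC (φ i)).obj K))) :=
          finite_top_homology (mpc_of_le (by omega) (h i))
        haveI : Module.Finite (R' i)
            ↑((Q ⋙ homologyFunctor (ModuleCat.{u} (R' i)) a).obj ((esC (φ i)).obj K)) := h1
        exact Module.Finite.equiv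
          (((homologyFunctorFactors (ModuleCat.{u} (R' i)) a).app _) ≪≫
            esHomologyIso (φ i) (hflat i) K a).toLinearEquiv
      obtain ⟨k, τ, hτ⟩ := exists_top_cover_cx K a hfinK
      have hC := cone_top_cover_isLE K a hK τ hτ
      have hT := DerivedCategory.mappingCone_triangle_distinguished τ
      have hC' : DRing.IsPseudoCoherent R m (Q.obj (CochainComplex.mappingCone τ)) := by
        refine ih _ (a - 1) (by omega) hC (fun i => ?_)
        have hTi := DerivedCategory.mappingCone_triangle_distinguished ((esC (φ i)).map τ)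
        have h3 := mpc_third _ hTi m (mpc_esC_sgl (φ i) a _ (m + 1)) (h i)
        exact mpc_of_iso (Q.mapIso
          (CochainComplex.mappingCone.mapHomologicalComplexIso τ (es (φ i))).symm) h3
      exact (mpc_two_of_three _ hT m).2.1 (mpc_sgl a _ m) hC'

theorem mpc_descent {ι : Type*} [Finite ι] (R' : ι → Type u) [∀ i, CommRing (R' i)]
    (φ : ∀ i, R →+* R' i) (hflat : ∀ i, (φ i).Flat)
    (hrefl : ∀ H : ModuleCat.{u} R, (∀ i, IsZero ((es (φ i)).obj H)) → IsZero H)
    (hfin : ∀ H : ModuleCat.{u} R, (∀ i, Module.Finite (R' i) ((es (φ i)).obj H)) →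
      Module.Finite R H) (m : ℤ) (K : DRing.Cx R)
    (h : ∀ i, DRing.IsPseudoCoherent (R' i) m (Q.obj ((esC (φ i)).obj K))) :
    DRing.IsPseudoCoherent R m (Q.obj K) := by
  choose b hb using fun i => exists_isLE_of_mpc (h i)
  obtain ⟨B, hB⟩ := Finite.exists_le b
  have hK : (Q.obj K).IsLE B := by
    rw [isLE_iff]
    intro j hj
    refine IsZero.of_iso ?_ ((homologyFunctorFactors (ModuleCat.{u} R) j).app K)
    apply hrefl
    intro i
    refine IsZero.of_iso ?_ (esHomologyIso (φ i) (hflat i) K j).symm
    refine IsZero.of_iso ?_ ((homologyFunctorFactors (ModuleCat.{u} (R' i)) j).app _).symm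
    exact (isLE_iff _ (b i)).mp (hb i) j (by have := hB i; omega)
  exact mpc_descent_aux R' φ hflat hfin m (B - m + 1).toNat K B (by omega) hK h

/-- faithfully flat descent of `m`-pseudo-coherence -/
theorem mpc_descent_ff {R' : Type u} [CommRing R'] (φ : R →+* R') (hφ : φ.FaithfullyFlat)
    (m : ℤ) (K : DRing.Cx R) (h : DRing.IsPseudoCoherent R' m (Q.obj ((esC φ).obj K))) :
    DRing.IsPseudoCoherent R m (Q.obj K) :=
  mpc_descent (ι := Unit) (fun _ => R') (fun _ => φ) (fun _ => hφ.flat)
    (fun H hH => isZero_of_es_isZero φ hφ H (hH ()))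
    (fun H hH => finite_of_es_finite φ hφ H (hH ())) m K (fun _ => h)

/-- descent of `m`-pseudo-coherence along a principal open cover -/
theorem mpc_descent_away {r : ℕ} (f : Fin r → R) (hf : Ideal.span (Set.range f) = ⊤)
    (m : ℤ) (K : DRing.Cx R)
    (h : ∀ i, DRing.IsPseudoCoherent (Localization.Away (f i)) m
      (Q.obj ((esC (algebraMap R (Localization.Away (f i)))).obj K))) :
    DRing.IsPseudoCoherent R m (Q.obj K) :=
  mpc_descent (fun i => Localization.Away (f i)) (fun i => algebraMap R (Localization.Away (f i)))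
    (fun _ => (RingHom.flat_algebraMap_iff).mpr inferInstance)
    (fun H hH => isZero_of_es_away f hf H hH)
    (fun H hH => finite_of_es_away f hf H hH) m K h

end Groth.Agent.Helper11.MPC
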