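import Groth.Agent.Lib.Helper11.Dev12
import Groth.Agent.Lib.Helper11.MPC8
import Groth.Agent.Lib.Helper11.Tel7
import Groth.Agent.Lib.Helper11.TorAmp7
import Groth.Agent.Lib.Helper11.PcBC

/-!
Perfectness modulo `I * J` from perfectness modulo `I` and modulo `J` (helper11).
-/

set_option autoImplicit false

open CategoryTheory CategoryTheory.Limits MonoidalCategory DerivedCategory TensorProduct

universe u

namespace Groth.Agent.Helper11.PairPerf

open Groth.Agent.Helper11.DC Groth.Agent.Helper11.TA Groth.Agent.Helper11.LDer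
  Groth.Agent.Helper11.PRT Groth.Agent.Helper11.LocalPerf Groth.Agent.Helper11.MPC
  Groth.Agent.Helper11.Dev Groth.Agent.Helper11.Lift Groth.Agent.Helper11.PcBC

attribute [local instance] HasDerivedCategory.standard

/-- top cohomology commutes with extension of scalars -/
theorem nonempty_top_homology_esC_iso {A B : Type u} [CommRing A] [CommRing B] (φ : A →+* B)
    (E : DRing.Cx A) (b : ℤ) (hb : DRing.VanishesAbove E b) :
    Nonempty (((esC φ).obj E).homology b ≅ (es φ).obj (E.homology b)) := by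
  have hnext : b < (ComplexShape.up ℤ).next b := by
    rw [CochainComplex.next]
    omega
  have hg : (E.sc b).g = 0 := (hb _ hnext).eq_of_tgt _ _
  have hg' : (((esC φ).obj E).sc b).g = 0 :=
    ((es φ).map_isZero (hb _ hnext)).eq_of_tgt _ _
  haveI : PreservesColimitsOfSize.{0, 0} (es φ) :=
    (ModuleCat.extendRestrictScalarsAdj.{u, u, u} φ).leftAdjoint_preservesColimits
  let h₀ := ShortComplex.LeftHomologyData.ofHasCokernel (E.sc b) hg
  let h₁ := ShortComplex.LeftHomologyData.ofHasCokernel (((esC φ).obj E).sc b) hg'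
  let e₀ : E.homology b ≅ cokernel (E.sc b).f := h₀.homologyIso
  let e₁ : ((esC φ).obj E).homology b ≅ cokernel ((es φ).map (E.sc b).f) := h₁.homologyIso
  exact ⟨e₁ ≪≫ (PreservesCokernel.iso (es φ) (E.sc b).f).symm ≪≫ (es φ).mapIso e₀.symm⟩

variable {S : Type u} [CommRing S]

theorem exists_fg_sup_eq_top (I : Ideal S) (X : Type u) [AddCommGroup X] [Module S X]
    (h : Module.Finite (S ⧸ I) ((S ⧸ I) ⊗[S] X)) :
    ∃ N : Submodule S X, N.FG ∧ N ⊔ I • (⊤ : Submodule S X) = ⊤ := by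
  haveI : Module.Finite S ((S ⧸ I) ⊗[S] X) := Module.Finite.trans (S ⧸ I) _
  haveI : Module.Finite S (X ⧸ (I • (⊤ : Submodule S X))) :=
    Module.Finite.equiv (quotTensorEquivQuotSMul X I)
  obtain ⟨n, s, hs⟩ := Module.Finite.exists_fin (R := S) (M := X ⧸ (I • (⊤ : Submodule S X)))
  have hlift : ∀ j, ∃ x : X, (I • (⊤ : Submodule S X)).mkQ x = s j := fun j =>
    (I • (⊤ : Submodule S X)).mkQ_surjective (s j)
  choose x hx using hlift
  refine ⟨Submodule.span S (Set.range x), Submodule.fg_span (Set.finite_range x), ?_⟩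
  have hmap : (Submodule.span S (Set.range x)).map (I • (⊤ : Submodule S X)).mkQ = ⊤ := by
    rw [Submodule.map_span, ← Set.range_comp]
    have : (⇑(I • (⊤ : Submodule S X)).mkQ ∘ x) = s := funext hx
    rw [this]
    exact hs
  have h1 := Submodule.comap_map_eq (I • (⊤ : Submodule S X)).mkQ
    (Submodule.span S (Set.range x))
  rw [hmap, Submodule.comap_top, Submodule.ker_mkQ] at h1
  exact h1.symm

theorem finite_of_tensor_finite_pair (I₁ I₂ : Ideal S) (h12 : I₁ * I₂ = ⊥) (X : Type u)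
    [AddCommGroup X] [Module S X]
    (h1 : Module.Finite (S ⧸ I₁) ((S ⧸ I₁) ⊗[S] X))
    (h2 : Module.Finite (S ⧸ I₂) ((S ⧸ I₂) ⊗[S] X)) : Module.Finite S X := by
  obtain ⟨N₁, hN₁, hs₁⟩ := exists_fg_sup_eq_top I₁ X h1
  obtain ⟨N₂, hN₂, hs₂⟩ := exists_fg_sup_eq_top I₂ X h2
  have hle : I₁ • (⊤ : Submodule S X) ≤ N₁ ⊔ N₂ := by
    calc I₁ • (⊤ : Submodule S X) = I₁ • (N₂ ⊔ I₂ • (⊤ : Submodule S X)) := by rw [hs₂]
      _ = I₁ • N₂ ⊔ I₁ • (I₂ • (⊤ : Submodule S X)) := Submodule.smul_sup _ _ _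
      _ = I₁ • N₂ ⊔ ⊥ := by rw [← Submodule.mul_smul, h12, Submodule.bot_smul]
      _ ≤ N₁ ⊔ N₂ := by
        rw [sup_bot_eq]
        exact le_trans Submodule.smul_le_right le_sup_right
  have htop : N₁ ⊔ N₂ = ⊤ := by
    rw [eq_top_iff, ← hs₁]
    exact sup_le le_sup_left hle
  exact Module.finite_def.mpr (htop ▸ hN₁.sup hN₂)

theorem finite_top_homology_of_pair (I₁ I₂ : Ideal S) (h12 : I₁ * I₂ = ⊥) (E : DRing.Cx S)
    (b : ℤ) (hb : DRing.VanishesAbove E b)
    (h1 : Module.Finite (S ⧸ I₁) (((esC (Ideal.Quotient.mk I₁)).obj E).homology b))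
    (h2 : Module.Finite (S ⧸ I₂) (((esC (Ideal.Quotient.mk I₂)).obj E).homology b)) :
    Module.Finite S (E.homology b) := by
  obtain ⟨e₁⟩ := nonempty_top_homology_esC_iso (Ideal.Quotient.mk I₁) E b hb
  obtain ⟨e₂⟩ := nonempty_top_homology_esC_iso (Ideal.Quotient.mk I₂) E b hb
  have h1' : Module.Finite (S ⧸ I₁) ((S ⧸ I₁) ⊗[S] (E.homology b)) :=
    Module.Finite.equiv (e₁.toLinearEquiv ≪≫ₗ esEquiv (I := I₁) (E.homology b))
  have h2' : Module.Finite (S ⧸ I₂) ((S ⧸ I₂) ⊗[S] (E.homology b)) :=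
    Module.Finite.equiv (e₂.toLinearEquiv ≪≫ₗ esEquiv (I := I₂) (E.homology b))
  exact finite_of_tensor_finite_pair I₁ I₂ h12 (E.homology b) h1' h2'

theorem mpc_pair_aux (I₁ I₂ : Ideal S) (h12 : I₁ * I₂ = ⊥) (m : ℤ) (n : ℕ) :
    ∀ (K : DRing.Cx S) (a : ℤ), a < m + n → DRing.VanishesAbove K a →
      (∀ i, Module.Projective S (K.X i)) →
      DRing.IsPseudoCoherent (S ⧸ I₁) m (Q.obj ((esC (Ideal.Quotient.mk I₁)).obj K)) →
      DRing.IsPseudoCoherent (S ⧸ I₂) m (Q.obj ((esC (Ideal.Quotient.mk I₂)).obj K)) →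
      DRing.IsPseudoCoherent S m (Q.obj K) := by
  induction n with
  | zero =>
    intro K a ha hK _ _ _
    exact mpc_of_isZero_homology _ (fun i hi =>
      Groth.Agent.Helper11.DC.isZero_homology_of_isZero_X K i (hK i (by omega)))
  | succ n ih =>
    intro K a ha hK hKp h1 h2
    by_cases ham : a < m
    · exact mpc_of_isZero_homology _ (fun i hi =>
        Groth.Agent.Helper11.DC.isZero_homology_of_isZero_X K i (hK i (by omega)))
    · have hle : (Q.obj K).IsLE a := isLE_of_vanishesAbove K a hK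
      have hfin : ∀ (I : Ideal S), DRing.IsPseudoCoherent (S ⧸ I) m
          (Q.obj ((esC (Ideal.Quotient.mk I)).obj K)) →
          Module.Finite (S ⧸ I) (((esC (Ideal.Quotient.mk I)).obj K).homology a) := by
        intro I h
        haveI : (Q.obj ((esC (Ideal.Quotient.mk I)).obj K)).IsLE a :=
          isLE_of_vanishesAbove _ a
            (fun i hi => (es (Ideal.Quotient.mk I)).map_isZero (hK i hi))
        have h1 : Module.Finite (S ⧸ I)
            ((Hf (S ⧸ I) a).obj (Q.obj ((esC (Ideal.Quotient.mk I)).obj K))) :=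
          finite_top_homology (mpc_of_le (by omega) h)
        haveI : Module.Finite (S ⧸ I)
            ↑((Q ⋙ homologyFunctor (ModuleCat.{u} (S ⧸ I)) a).obj
              ((esC (Ideal.Quotient.mk I)).obj K)) := h1
        exact Module.Finite.equiv
          ((homologyFunctorFactors (ModuleCat.{u} (S ⧸ I)) a).app _).toLinearEquiv
      have hfinK : Module.Finite S (K.homology a) :=
        finite_top_homology_of_pair I₁ I₂ h12 K a hK (hfin I₁ h1) (hfin I₂ h2)
      obtain ⟨k, τ, hτ⟩ := exists_top_cover_cx K a hfinK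
      have hC := cone_top_cover_isLE K a hle τ hτ
      have hT := DerivedCategory.mappingCone_triangle_distinguished τ
      have hsglp : ∀ i, Module.Projective S ((sgl a (ModuleCat.of S (Fin k → S))).X i) :=
        fun i => by
          haveI := (sgl_finite_free a (ModuleCat.of S (Fin k → S)) i).2
          infer_instance
      have hCvan : DRing.VanishesAbove (CochainComplex.mappingCone τ) a := fun i hi =>
        mappingCone_isZero τ i (sgl_isZero a _ (i + 1) (by omega)) (hK i hi)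
      have hCp : ∀ i, Module.Projective S ((CochainComplex.mappingCone τ).X i) :=
        Groth.Agent.Helper11.Tel.projective_mappingCone τ hsglp hKp
      haveI : (CochainComplex.mappingCone τ).IsKProjective :=
        isKProjective_of_vanishesAbove _ a hCvan hCp
      obtain ⟨E', hE'v, hE'p, ⟨eE'⟩⟩ := exists_projRes_vanishesAbove
        (Q.obj (CochainComplex.mappingCone τ)) (a - 1) ((DerivedCategory.isLE_iff _ _).mp hC)
      haveI : E'.IsKProjective := isKProjective_of_vanishesAbove E' (a - 1) hE'v hE'p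
      have hcone : ∀ (I : Ideal S), DRing.IsPseudoCoherent (S ⧸ I) m
          (Q.obj ((esC (Ideal.Quotient.mk I)).obj K)) →
          DRing.IsPseudoCoherent (S ⧸ I) m (Q.obj ((esC (Ideal.Quotient.mk I)).obj E')) := by
        intro I h
        have hTi := DerivedCategory.mappingCone_triangle_distinguished
          ((esC (Ideal.Quotient.mk I)).map τ)
        have h3 := mpc_third _ hTi m (mpc_esC_sgl (Ideal.Quotient.mk I) a _ (m + 1)) h
        have h4 := mpc_of_iso (Q.mapIso
          (CochainComplex.mappingCone.mapHomologicalComplexIso τ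
            (es (Ideal.Quotient.mk I))).symm) h3
        obtain ⟨e⟩ := nonempty_Q_esC_iso (Ideal.Quotient.mk I) E'
          (CochainComplex.mappingCone τ) eE'
        exact mpc_of_iso e.symm h4
      have hE' : DRing.IsPseudoCoherent S m (Q.obj E') :=
        ih E' (a - 1) (by omega) hE'v hE'p (hcone I₁ h1) (hcone I₂ h2)
      have hC' : DRing.IsPseudoCoherent S m (Q.obj (CochainComplex.mappingCone τ)) :=
        mpc_of_iso eE' hE'
      exact (mpc_two_of_three _ hT m).2.1 (mpc_sgl a _ m) hC'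

theorem isPerfect_of_pair (I₁ I₂ : Ideal S) (h12 : I₁ * I₂ = ⊥) (T : DRing.Cx S)
    [T.IsKProjective] (hTp : ∀ i, Module.Projective S (T.X i))
    (h₁ : DRing.IsPerfect (S ⧸ I₁) (Q.obj ((esC (Ideal.Quotient.mk I₁)).obj T)))
    (h₂ : DRing.IsPerfect (S ⧸ I₂) (Q.obj ((esC (Ideal.Quotient.mk I₂)).obj T))) :
    DRing.IsPerfect S (Q.obj T) := by
  have hTf : ∀ i, Module.Flat S (T.X i) := fun i => by
    haveI := hTp i
    infer_instance
  obtain ⟨a₁, b₁, P₁, c₁, hc₁, hp₁, ⟨e₁⟩, hv₁⟩ := torVan_of_perfect h₁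
  obtain ⟨a₂, b₂, P₂, c₂, hc₂, hp₂, ⟨e₂⟩, hv₂⟩ := torVan_of_perfect h₂
  have ha1 : min a₁ a₂ ≤ a₁ := min_le_left _ _
  have ha2 : min a₁ a₂ ≤ a₂ := min_le_right _ _
  have hb1 : b₁ ≤ max b₁ b₂ := le_max_left _ _
  have hb2 : b₂ ≤ max b₁ b₂ := le_max_right _ _
  generalize min a₁ a₂ = a at ha1 ha2
  generalize max b₁ b₂ = b at hb1 hb2
  have hvan : ∀ (N : Type u) [AddCommGroup N] [Module S N] (i : ℤ), (i < a ∨ b < i) →
      IsZero (((tens (ModuleCat.of S N)).obj T).homology i) := by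
    intro N _ _ i hi
    let N' : Submodule S N := I₁ • (⊤ : Submodule S N)
    have hkill : I₂ • N' = ⊥ := by
      show I₂ • (I₁ • (⊤ : Submodule S N)) = ⊥
      rw [← Submodule.mul_smul, mul_comm, h12, Submodule.bot_smul]
    have h1 : IsZero (((tens (ModuleCat.of S N')).obj T).homology i) :=
      isZero_homology_tens_of_killed' I₂ T P₂ c₂ hc₂ hp₂ e₂.symm a₂ b₂ hv₂ (ModuleCat.of S N')
        (smul_top_sub_eq_bot N I₂ N' hkill) i (by omega)
    have h3 : IsZero (((tens (ModuleCat.of S (N ⧸ N'))).obj T).homology i) :=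
      isZero_homology_tens_of_killed' I₁ T P₁ c₁ hc₁ hp₁ e₁.symm a₁ b₁ hv₁
        (ModuleCat.of S (N ⧸ N')) (smul_top_quot_eq_bot N I₁) i (by omega)
    exact isZero_homology_tens_of_ses T hTf (ModuleCat.ofHom N'.subtype)
      (ModuleCat.ofHom N'.mkQ) N'.injective_subtype N'.mkQ_surjective
      (LinearMap.exact_subtype_mkQ N') i h1 h3
  have hvanM : ∀ (M : ModuleCat.{u} S) (i : ℤ), (i < a ∨ b < i) →
      IsZero (((tens M).obj T).homology i) := fun M i hi => hvan M i hi
  have hK : ∀ i : ℤ, b < i →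
      IsZero ((DerivedCategory.homologyFunctor (ModuleCat.{u} S) i).obj (Q.obj T)) := by
    intro i hi
    have h0 : IsZero (T.homology i) := (hvanM (𝟙_ _) i (Or.inr hi)).of_iso
      ((HomologicalComplex.homologyFunctor _ _ i).mapIso ((tensUnitIso (R := S)).app T)).symm
    exact h0.of_iso ((DerivedCategory.homologyFunctorFactors (ModuleCat.{u} S) i).app T)
  obtain ⟨P, hPb, hPp, ⟨eP⟩⟩ := exists_projRes_vanishesAbove (Q.obj T) b hK
  haveI : P.IsKProjective := isKProjective_of_vanishesAbove P b hPb hPp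
  obtain ⟨he⟩ := nonempty_homotopyEquiv_of_Q_iso P T eP
  have htv : TorVan a b (Q.obj T) := ⟨P, b, hPb, hPp, ⟨eP⟩, fun M i hi => by
    have h1 := (hvanM M i hi).of_iso (((tensorRight M).mapHomotopyEquiv he).toHomologyIso i)
    exact h1.of_iso ((DerivedCategory.homologyFunctorFactors (ModuleCat.{u} S) i).app _)⟩
  have hpcj : ∀ (I : Ideal S),
      DRing.IsPerfect (S ⧸ I) (Q.obj ((esC (Ideal.Quotient.mk I)).obj T)) →
      DRing.IsPseudoCoherent (S ⧸ I) (a - 1) (Q.obj ((esC (Ideal.Quotient.mk I)).obj P)) := by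
    intro I h
    obtain ⟨e⟩ := nonempty_Q_esC_iso (Ideal.Quotient.mk I) P T eP
    exact mpc_of_iso e.symm (mpc_of_pc' (pc_of_perfect h) (a - 1))
  have hpc : DRing.IsPseudoCoherent S (a - 1) (Q.obj P) :=
    mpc_pair_aux I₁ I₂ h12 (a - 1) (b - (a - 1) + 1).toNat P b (by omega) hPb hPp
      (hpcj I₁ h₁) (hpcj I₂ h₂)
  exact isPerfect_of_mpc_of_torVan (mpc_of_iso eP hpc) htv

/-- S6980 -/
theorem isPerfect_LBaseChange_quotient_mul (R : Type u) [CommRing R] (I J : Ideal R)
    [DRing.HasLBaseChange (Ideal.Quotient.mk I)] [DRing.HasLBaseChange (Ideal.Quotient.mk J)]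
    [DRing.HasLBaseChange (Ideal.Quotient.mk (I * J))] (K : Dual.D R)
    (hI : DRing.IsPerfect (R ⧸ I) ((DRing.LBaseChange (Ideal.Quotient.mk I)).obj K))
    (hJ : DRing.IsPerfect (R ⧸ J) ((DRing.LBaseChange (Ideal.Quotient.mk J)).obj K)) :
    DRing.IsPerfect (R ⧸ (I * J)) ((DRing.LBaseChange (Ideal.Quotient.mk (I * J))).obj K) := by
  obtain ⟨T, hTk, hTp, ⟨eT⟩⟩ := Groth.Agent.Helper11.Tel.exists_kprojective_rep K
  haveI := hTk
  haveI := isKProjective_esC (Ideal.Quotient.mk (I * J)) T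
  have hTbp : ∀ i, Module.Projective (R ⧸ (I * J))
      (((esC (Ideal.Quotient.mk (I * J))).obj T).X i) := fun i => by
    haveI := hTp i
    exact es_projective (Ideal.Quotient.mk (I * J)) (T.X i)
  have key : ∀ (L : Ideal R) (hL : I * J ≤ L) [DRing.HasLBaseChange (Ideal.Quotient.mk L)],
      DRing.IsPerfect (R ⧸ L) ((DRing.LBaseChange (Ideal.Quotient.mk L)).obj K) →
      DRing.IsPerfect ((R ⧸ (I * J)) ⧸ RingHom.ker (Ideal.Quotient.factor hL))
        (Q.obj ((esC (Ideal.Quotient.mk (RingHom.ker (Ideal.Quotient.factor hL)))).obj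
          ((esC (Ideal.Quotient.mk (I * J))).obj T))) := by
    intro L hL _ h
    obtain ⟨E, a, b, hEab, hEfp, ⟨e⟩⟩ := h
    have hφ := Ideal.Quotient.factor_surjective hL
    have e' : Q.obj E ≅ Q.obj ((esC (Ideal.Quotient.factor hL)).obj
        ((esC (Ideal.Quotient.mk (I * J))).obj T)) :=
      e ≪≫ (DRing.LBaseChange (Ideal.Quotient.mk L)).mapIso eT.symm ≪≫
        LBaseChangeIso (Ideal.Quotient.mk L) T ≪≫
        Q.mapIso (eqToIso (by rw [Ideal.Quotient.factor_comp_mk]) ≪≫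
          esCCompIso (Ideal.Quotient.mk (I * J)) (Ideal.Quotient.factor hL) T)
    obtain ⟨e2⟩ := nonempty_Q_iso_quot (Ideal.Quotient.factor hL) hφ
      ((esC (Ideal.Quotient.mk (I * J))).obj T) E b
      (fun i hi => hEab i (Or.inr hi)) (fun i => (hEfp i).2) e'
    refine ⟨(esC (ψs _ hφ)).obj E, a, b, fun i hi => (es _).map_isZero (hEab i hi),
      fun i => ?_, ⟨e2⟩⟩
    haveI := (hEfp i).1
    haveI := (hEfp i).2
    exact ⟨es_finite _ (E.X i), es_projective _ (E.X i)⟩
  have h12 : RingHom.ker (Ideal.Quotient.factor (Ideal.mul_le_left : I * J ≤ I)) *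
      RingHom.ker (Ideal.Quotient.factor (Ideal.mul_le_right : I * J ≤ J)) = ⊥ := by
    rw [eq_bot_iff, Ideal.mul_le]
    intro x hx y hy
    obtain ⟨x, rfl⟩ := Ideal.Quotient.mk_surjective x
    obtain ⟨y, rfl⟩ := Ideal.Quotient.mk_surjective y
    rw [RingHom.mem_ker, Ideal.Quotient.factor_mk, Ideal.Quotient.eq_zero_iff_mem] at hx hy
    rw [Ideal.mem_bot, ← map_mul, Ideal.Quotient.eq_zero_iff_mem]
    exact Ideal.mul_mem_mul hx hy
  have hS := isPerfect_of_pair _ _ h12 ((esC (Ideal.Quotient.mk (I * J))).obj T) hTbp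
    (key I Ideal.mul_le_left hI) (key J Ideal.mul_le_right hJ)
  exact isPerfect_of_iso ((LBaseChangeIso (Ideal.Quotient.mk (I * J)) T).symm ≪≫
    (DRing.LBaseChange (Ideal.Quotient.mk (I * J))).mapIso eT) hS

end Groth.Agent.Helper11.PairPerf
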