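import Groth.Agent.Lib.Helper11.RelPerfBC
import Groth.Agent.Lib.Helper11.FinRes
import Groth.Agent.Lib.Helper11.PairPerf1
import Groth.Agent.Lib.Helper11.LocalPerf7
import Groth.Agent.Lib.Helper11.Glue2
import Groth.Agent.Lib.Helper11.Dev2
import Groth.Agent.Lib.Helper11.MPC12

/-!
Tor-independent base change of pseudo-coherent modules: a finite module over a noetherian
`R`-algebra `A` which is flat over `R` stays pseudo-coherent after any base change `R → R'`
(helper11).
-/

set_option autoImplicit false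

open CategoryTheory Category Limits DerivedCategory

attribute [local instance] HasDerivedCategory.standard

universe u

namespace Groth.Agent.Helper11.FlatPc

open Groth.Agent.Helper11.DC Groth.Agent.Helper11.TA Groth.Agent.Helper11.Dev
  Groth.Agent.Helper11.RPBC Groth.Agent.Helper11.PairPerf

section Res

variable {R : Type u} [CommRing R]

/-- a finite module over a noetherian ring has a finite free resolution placed in degrees `≤ 0` -/
theorem exists_resolution_zero [IsNoetherianRing R] (M : ModuleCat.{u} R) [Module.Finite R M] :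
    ∃ E : DRing.Cx R, DRing.VanishesAbove E 0 ∧ DRing.TermwiseFiniteFree E ∧
      Nonempty (DRing.toD E ≅ (singleFunctor (ModuleCat.{u} R) 0).obj M) := by
  obtain ⟨K, π, hπ, hK⟩ := exists_finite_free_resolution M
  have hproj : ∀ n, Projective (K.X n) := fun n => by
    haveI := (hK n).2
    haveI : Module.Projective R (K.X n) := Module.Projective.of_free
    exact (IsProjective.iff_projective (R := R) (K.X n)).mp this
  let P : ProjectiveResolution M :=
    { complex := K
      projective := hproj
      π := π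
      quasiIso := hπ }
  refine ⟨P.cochainComplex, ?_, ?_, ⟨?_⟩⟩
  · intro i hi
    exact CochainComplex.isZero_of_isStrictlyLE _ 0 _ hi
  · intro i
    by_cases hi : i ≤ 0
    · obtain ⟨k, rfl⟩ := Int.exists_eq_neg_ofNat hi
      have e := (P.cochainComplexXIso (-k) k).symm
      haveI := (hK k).1
      haveI := (hK k).2
      exact ⟨Module.Finite.equiv e.toLinearEquiv, Module.Free.of_equiv e.toLinearEquiv⟩
    · have hz : IsZero (P.cochainComplex.X i) :=
        CochainComplex.isZero_of_isStrictlyLE _ 0 _ (by omega)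
      have : Subsingleton (P.cochainComplex.X i) := ModuleCat.subsingleton_of_isZero hz
      exact ⟨inferInstance, inferInstance⟩
  · haveI : IsIso (Q.map P.π') := by
      rw [isIso_Q_map_iff_quasiIso]
      infer_instance
    exact asIso (Q.map P.π') ≪≫
      ((DerivedCategory.singleFunctorIsoCompQ (ModuleCat.{u} R) 0).app M).symm

end Res

section TI

open TensorProduct

variable (R A R' : Type u) [CommRing R] [CommRing A] [CommRing R'] [Algebra R A] [Algebra R R']

attribute [local instance] Algebra.TensorProduct.rightAlgebra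

/-- Tor-independent base change: if `A` is a flat noetherian `R`-algebra and `M` a finite `A`-module
flat over `R`, then `(R' ⊗ A) ⊗_A M` is pseudo-coherent over `R' ⊗_R A` for every `R`-algebra `R'`. -/
theorem pc_es_of_flat [Module.Flat R A] [IsNoetherianRing A] (M : ModuleCat.{u} A)
    [Module.Finite A M]
    (hM : Module.Flat R ((ModuleCat.restrictScalars.{u} (algebraMap R A)).obj M)) :
    DRing.IsPseudoCoherent' (R' ⊗[R] A)
      ((singleFunctor (ModuleCat.{u} (R' ⊗[R] A)) 0).obj ((es (incR R A R')).obj M)) := by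
  obtain ⟨E, hE0, hEff, ⟨e⟩⟩ := exists_resolution_zero M
  let rs := ModuleCat.restrictScalars.{u} (algebraMap R A)
  let resE : DRing.Cx R := (rs.mapHomologicalComplex (ComplexShape.up ℤ)).obj E
  have hflat : ∀ i, Module.Flat R (resE.X i) := fun i => by
    haveI : Module.Flat A (E.X i) := by
      haveI := (hEff i).2
      infer_instance
    exact flat_restrictScalars R A (E.X i)
  have h1 : DRing.HasTorAmplitudeIn R 0 0 (Q.obj resE) := by
    haveI := hM
    obtain ⟨F, hF, hFflat, ⟨eF⟩⟩ :=
      Groth.Agent.Helper11.Glue.hasTorAmplitudeIn_inD_of_flat (B := R) (rs.obj M)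
    exact ⟨F, hF, hFflat, ⟨eF ≪≫ ((rs.mapDerivedCategorySingleFunctor 0).app M).symm ≪≫
      (DRing.restrictD (algebraMap R A)).mapIso e.symm ≪≫ (rs.mapDerivedCategoryFactors.app E)⟩⟩
  have h2 := torAmp_esC_of_flat (algebraMap R R') resE 0 0 0
    (fun i hi => rs.map_isZero (hE0 i hi)) hflat h1
  let E' : DRing.Cx (R' ⊗[R] A) := (esC (incR R A R')).obj E
  have h4 : ∀ i : ℤ, i ≠ 0 → IsZero (E'.homology i) := by
    intro i hi
    have h3 := Groth.Agent.Helper11.LocalPerf.isZero_homology_of_hasTorAmplitudeIn _ 0 0 h2 i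
      (by omega)
    have h3' : IsZero (((esC (algebraMap R R')).obj resE).homology i) :=
      h3.of_iso ((homologyFunctorFactors (ModuleCat.{u} R') i).app _).symm
    have h3'' : IsZero (((rsC (algebraMap R' (R' ⊗[R] A))).obj E').homology i) :=
      h3'.of_iso ((HomologicalComplex.homologyFunctor _ _ i).mapIso (bcCxIso_tp R A R' E)).symm
    exact (isZero_homology_rsC_iff _ E' i).mp h3''
  haveI hLE : (Q.obj E').IsLE 0 := by
    rw [DerivedCategory.isLE_iff]
    intro i hi
    exact (h4 i (by omega)).of_iso ((homologyFunctorFactors (ModuleCat.{u} (R' ⊗[R] A)) i).app E')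
  haveI hGE : (Q.obj E').IsGE 0 := by
    rw [DerivedCategory.isGE_iff]
    intro i hi
    exact (h4 i (by omega)).of_iso ((homologyFunctorFactors (ModuleCat.{u} (R' ⊗[R] A)) i).app E')
  obtain ⟨N, ⟨eN⟩⟩ := DerivedCategory.exists_iso_singleFunctor_obj_of_isGE_of_isLE (Q.obj E') 0
  obtain ⟨eTop⟩ := nonempty_top_homology_esC_iso (incR R A R') E 0 hE0
  have eM : E.homology 0 ≅ M :=
    ((homologyFunctorFactors (ModuleCat.{u} A) 0).app E).symm ≪≫
      (homologyFunctor (ModuleCat.{u} A) 0).mapIso e ≪≫
      (singleFunctorCompHomologyFunctorIso (ModuleCat.{u} A) 0).app M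
  have eNM : N ≅ (es (incR R A R')).obj M :=
    ((singleFunctorCompHomologyFunctorIso (ModuleCat.{u} (R' ⊗[R] A)) 0).app N).symm ≪≫
      (homologyFunctor (ModuleCat.{u} (R' ⊗[R] A)) 0).mapIso eN.symm ≪≫
      (homologyFunctorFactors (ModuleCat.{u} (R' ⊗[R] A)) 0).app E' ≪≫ eTop ≪≫
      (es (incR R A R')).mapIso eM
  refine ⟨E', 0, fun i hi => (es (incR R A R')).map_isZero (hE0 i hi), fun i => ?_,
    ⟨eN ≪≫ (singleFunctor (ModuleCat.{u} (R' ⊗[R] A)) 0).mapIso eNM⟩⟩
  haveI := (hEff i).1
  haveI := (hEff i).2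
  exact ⟨es_finite (incR R A R') (E.X i), es_free (incR R A R') (E.X i)⟩

end TI

section Bridge

open TensorProduct

variable {R S : Type u} [CommRing R] [CommRing S] [Algebra R S]

/-- identity equivalence between the two `R`-module structures on `S` -/
noncomputable def e₁ :
    ((ModuleCat.restrictScalars.{u} (algebraMap R S)).obj (ModuleCat.of S S)) ≃ₗ[R] S :=
  { toFun := fun x => x
    invFun := fun x => x
    map_add' := fun _ _ => rfl
    map_smul' := fun r x => by
      show algebraMap R S r * (show S from x) = r • (show S from x)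
      rw [Algebra.smul_def]
    left_inv := fun _ => rfl
    right_inv := fun _ => rfl }

/-- comparison of the two tensor products -/
noncomputable def eT (M : ModuleCat.{u} R) :
    TensorProduct R ((ModuleCat.restrictScalars.{u} (algebraMap R S)).obj
      (ModuleCat.of S S)) M ≃ₗ[R] S ⊗[R] M :=
  TensorProduct.congr e₁ (LinearEquiv.refl R M)

set_option backward.isDefEq.respectTransparency false in
/-- extension of scalars along `algebraMap R S` is the tensor product -/
noncomputable def esEquiv (M : ModuleCat.{u} R) :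
    ((es (algebraMap R S)).obj M) ≃ₗ[S] S ⊗[R] M where
  toFun := eT M
  invFun := (eT M).symm
  map_add' := (eT M).map_add
  map_smul' := fun c x => by
    induction x using TensorProduct.induction_on with
    | zero =>
      rw [smul_zero]
      exact ((eT (S := S) M).map_zero).trans (smul_zero _).symm
    | tmul s m => rfl
    | add x y hx hy =>
      rw [smul_add]
      refine ((eT (S := S) M).map_add _ _).trans ?_
      rw [hx, hy]
      refine Eq.trans ?_ (congrArg _ ((eT (S := S) M).map_add _ _).symm)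
      exact (smul_add _ _ _).symm
  left_inv := (eT M).left_inv
  right_inv := (eT M).right_inv

end Bridge

section Pushout

open TensorProduct

attribute [local instance] Algebra.TensorProduct.rightAlgebra

/-- the module-level statement: in a pushout situation over a noetherian polynomial-like model,
`B` is a finite pseudo-coherent module over `A ⊗ P₀` -/
theorem pc_module_of_isPushout (R₀ P₀ S₀ A B : Type u) [CommRing R₀] [CommRing P₀] [CommRing S₀]
    [CommRing A] [CommRing B]
    [Algebra R₀ P₀] [Algebra R₀ A] [Algebra P₀ S₀] [Algebra R₀ S₀] [IsScalarTower R₀ P₀ S₀]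
    [Algebra A B] [Algebra S₀ B] [Algebra R₀ B] [IsScalarTower R₀ A B] [IsScalarTower R₀ S₀ B]
    [Algebra P₀ B] [IsScalarTower P₀ S₀ B]
    [Algebra (A ⊗[R₀] P₀) B] [IsScalarTower A (A ⊗[R₀] P₀) B] [IsScalarTower P₀ (A ⊗[R₀] P₀) B]
    [IsScalarTower R₀ (A ⊗[R₀] P₀) B]
    [Algebra.IsPushout R₀ A S₀ B]
    [Module.Flat R₀ P₀] [IsNoetherianRing P₀] [Module.Finite P₀ S₀] [Module.Flat R₀ S₀] :
    DRing.IsPseudoCoherentModule' (A ⊗[R₀] P₀) B ∧ Module.Finite (A ⊗[R₀] P₀) B := by
  have h1 : Algebra.IsPushout R₀ S₀ A B := Algebra.IsPushout.symm inferInstance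
  have h2 : Algebra.IsPushout P₀ S₀ (A ⊗[R₀] P₀) B :=
    (Algebra.IsPushout.comp_iff R₀ P₀ A (S' := A ⊗[R₀] P₀) (T := S₀) (T' := B)).mp h1
  have h3 : Algebra.IsPushout P₀ (A ⊗[R₀] P₀) S₀ B := h2.symm
  have hbc : IsBaseChange (A ⊗[R₀] P₀) (IsScalarTower.toAlgHom P₀ S₀ B).toLinearMap := h3.out
  let Φ : (A ⊗[R₀] P₀) ⊗[P₀] S₀ ≃ₗ[A ⊗[R₀] P₀] B := hbc.equiv
  have hfl : Module.Flat R₀
      ((ModuleCat.restrictScalars.{u} (algebraMap R₀ P₀)).obj (ModuleCat.of P₀ S₀)) := by
    let e : ((ModuleCat.restrictScalars.{u} (algebraMap R₀ P₀)).obj (ModuleCat.of P₀ S₀))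
        ≃ₗ[R₀] S₀ :=
      { toFun := fun x => x
        invFun := fun x => x
        map_add' := fun _ _ => rfl
        map_smul' := fun r x => by
          show algebraMap R₀ P₀ r • (show S₀ from x) = r • (show S₀ from x)
          rw [algebraMap_smul]
        left_inv := fun _ => rfl
        right_inv := fun _ => rfl }
    exact Module.Flat.of_linearEquiv e
  haveI : Module.Finite P₀ (ModuleCat.of P₀ S₀) := ‹Module.Finite P₀ S₀›
  have hpc := pc_es_of_flat R₀ P₀ A (ModuleCat.of P₀ S₀) hfl
  let Ψ : ((es (incR R₀ P₀ A)).obj (ModuleCat.of P₀ S₀)) ≃ₗ[A ⊗[R₀] P₀] B :=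
    (esEquiv (R := P₀) (S := A ⊗[R₀] P₀) (ModuleCat.of P₀ S₀)).trans Φ
  constructor
  · obtain ⟨E, b, hEb, hEff, ⟨e⟩⟩ := hpc
    exact ⟨E, b, hEb, hEff,
      ⟨e ≪≫ (singleFunctor (ModuleCat.{u} (A ⊗[R₀] P₀)) 0).mapIso Ψ.toModuleIso⟩⟩
  · exact Module.Finite.equiv Φ

end Pushout

end Groth.Agent.Helper11.FlatPc
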