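import Groth.Agent.Lib.Helper11.FlatPc2
import Groth.Agent.Lib.Helper11.MPC9
import Groth.Agent.Lib.Helper11.TorAmp2
import Mathlib.Algebra.TrivSqZeroExt.Basic
import Mathlib.RingTheory.Finiteness.ModuleFinitePresentation

/-!
Finitely presented modules over a flat finitely presented algebra which are flat over the base are
pseudo-coherent (helper11).  The proof applies the ring statement to the trivial square zero
extension.
-/

set_option autoImplicit false

open CategoryTheory Category Limits DerivedCategory

attribute [local instance] HasDerivedCategory.standard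

universe u

namespace Groth.Agent.Helper11.FlatPc

open Groth.Agent.Helper11.DC Groth.Agent.Helper11.TA Groth.Agent.Helper11.MPC
  Groth.Agent.Helper11.PcHom Groth.Agent.Helper11.PerfMor

/-- a finitely presented module over a flat finitely presented `R`-algebra `A` which is flat over
`R` is pseudo-coherent over `A` -/
theorem pc_module_of_flat_fp (R A M : Type u) [CommRing R] [CommRing A] [Algebra R A]
    [AddCommGroup M] [Module A M] [Module R M] [IsScalarTower R A M]
    [Module.Flat R A] [Algebra.FinitePresentation R A]
    [Module.FinitePresentation A M] [Module.Flat R M] : DRing.IsPseudoCoherentModule' A M := by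
  letI : Module Aᵐᵒᵖ M :=
    Module.compHom M ((RingHom.id A).fromOpposite fun _ _ => Commute.all _ _)
  haveI : IsCentralScalar A M := ⟨fun _ _ => rfl⟩
  haveI hfpm : Module.FinitePresentation A (TrivSqZeroExt A M) :=
    (inferInstance : Module.FinitePresentation A (A × M))
  haveI hfpB : Algebra.FinitePresentation A (TrivSqZeroExt A M) :=
    Algebra.FinitePresentation.of_finitePresentation A (TrivSqZeroExt A M)
  haveI : Algebra.FinitePresentation R (TrivSqZeroExt A M) :=
    Algebra.FinitePresentation.trans R A (TrivSqZeroExt A M)
  haveI : Module.Flat R (TrivSqZeroExt A M) := by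
    let e : TrivSqZeroExt A M ≃ₗ[R] A × M :=
      { toFun := fun x => x
        invFun := fun x => x
        map_add' := fun _ _ => rfl
        map_smul' := fun _ _ => rfl
        left_inv := fun _ => rfl
        right_inv := fun _ => rfl }
    haveI : Module.Flat R (A × M) := flat_prod A M
    exact Module.Flat.of_linearEquiv e
  have h1 := pcHom_of_flat_fp R A
  have h2 := pcHom_of_flat_fp R (TrivSqZeroExt A M)
  have h3 : MoreMor.IsPseudoCoherentHom A (TrivSqZeroExt A M) := hom_of_comp h1 h2
  haveI : Module.Finite A (TrivSqZeroExt A M) := inferInstance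
  have h4 : DRing.IsPseudoCoherentModule' A (TrivSqZeroExt A M) :=
    hom_iff_module_of_finite.mp h3
  let i : ModuleCat.of A M ⟶ ModuleCat.of A (TrivSqZeroExt A M) :=
    ModuleCat.ofHom (TrivSqZeroExt.inrHom A M)
  let r : ModuleCat.of A (TrivSqZeroExt A M) ⟶ ModuleCat.of A M :=
    ModuleCat.ofHom (TrivSqZeroExt.sndHom A M)
  have hir : i ≫ r = 𝟙 _ := by
    ext x
    exact TrivSqZeroExt.snd_inr A x
  exact pc'_of_retract ((singleFunctor (ModuleCat.{u} A) 0).map i)
    ((singleFunctor (ModuleCat.{u} A) 0).map r)
    (by rw [← CategoryTheory.Functor.map_comp, hir, CategoryTheory.Functor.map_id]) h4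

end Groth.Agent.Helper11.FlatPc
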