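import Groth.Agent.Lib.Helper11.TorAmp6
import Groth.Agent.Lib.Helper6.TorBalance

/-!
# Tor dimension of a module versus tor amplitude of `M[0]`
-/

set_option autoImplicit false
universe u

open CategoryTheory Limits DerivedCategory Pretriangulated MonoidalCategory

attribute [local instance] HasDerivedCategory.standard

namespace Groth.Agent.Helper11.TA

variable {R : Type u} [CommRing R]

open Groth.Agent.Helper11.DC

theorem isZero_homology_Q_iff_exactAt (Y : DRing.Cx R) (i : ℤ) :
    IsZero ((homologyFunctor (ModuleCat.{u} R) i).obj (Q.obj Y)) ↔ Y.ExactAt i := by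
  rw [HomologicalComplex.exactAt_iff_isZero_homology]
  exact ((homologyFunctorFactors (ModuleCat.{u} R) i).app Y).isZero_iff

/-- `Tor_{q+1}(M, N)` (Mathlib's, resolving `N`) vanishes iff `H^{-(q+1)}(P_M ⊗ N)` does, for the
cochain complex of the chosen projective resolution `P_M` of `M`. -/
theorem isZero_tor_iff (M N : ModuleCat.{u} R) (q : ℕ) :
    IsZero (((Tor (ModuleCat.{u} R) (q + 1)).obj M).obj N) ↔
      IsZero ((homologyFunctor (ModuleCat.{u} R) (-((q + 1 : ℕ) : ℤ))).obj
        (Q.obj ((tens N).obj (projectiveResolution M).cochainComplex))) := by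
  let P := projectiveResolution M
  let X := ((tensorRight N).mapHomologicalComplex (ComplexShape.down ℕ)).obj P.complex
  let Y := (tens N).obj P.cochainComplex
  obtain ⟨e⟩ := Groth.Agent.Helper6.TorBalance.nonempty_tor_iso M N P (q + 1)
  rw [e.isZero_iff, isZero_homology_Q_iff_exactAt,
    ← HomologicalComplex.exactAt_iff_isZero_homology,
    HomologicalComplex.exactAt_iff' X (q + 2) (q + 1) q (by simp) (by simp),
    HomologicalComplex.exactAt_iff' Y (-((q + 2 : ℕ) : ℤ)) (-((q + 1 : ℕ) : ℤ)) (-((q : ℕ) : ℤ))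
      (by simp; try omega) (by simp; try omega)]
  refine ShortComplex.exact_iff_of_iso (ShortComplex.isoMk
    ((tensorRight N).mapIso (P.cochainComplexXIso (-((q + 2 : ℕ) : ℤ)) (q + 2) rfl)).symm
    ((tensorRight N).mapIso (P.cochainComplexXIso (-((q + 1 : ℕ) : ℤ)) (q + 1) rfl)).symm
    ((tensorRight N).mapIso (P.cochainComplexXIso (-((q : ℕ) : ℤ)) q rfl)).symm ?_ ?_)
  · change ((P.cochainComplexXIso (-((q + 2 : ℕ) : ℤ)) (q + 2) rfl).inv ▷ N) ≫
        (P.cochainComplex.d (-((q + 2 : ℕ) : ℤ)) (-((q + 1 : ℕ) : ℤ)) ▷ N) =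
      (P.complex.d (q + 2) (q + 1) ▷ N) ≫
        ((P.cochainComplexXIso (-((q + 1 : ℕ) : ℤ)) (q + 1) rfl).inv ▷ N)
    rw [P.cochainComplex_d (-((q + 2 : ℕ) : ℤ)) (-((q + 1 : ℕ) : ℤ)) (q + 2) (q + 1) rfl rfl,
      ← comp_whiskerRight, ← comp_whiskerRight, Iso.inv_hom_id_assoc]
  · change ((P.cochainComplexXIso (-((q + 1 : ℕ) : ℤ)) (q + 1) rfl).inv ▷ N) ≫
        (P.cochainComplex.d (-((q + 1 : ℕ) : ℤ)) (-((q : ℕ) : ℤ)) ▷ N) =
      (P.complex.d (q + 1) q ▷ N) ≫
        ((P.cochainComplexXIso (-((q : ℕ) : ℤ)) q rfl).inv ▷ N)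
    rw [P.cochainComplex_d (-((q + 1 : ℕ) : ℤ)) (-((q : ℕ) : ℤ)) (q + 1) q rfl rfl,
      ← comp_whiskerRight, ← comp_whiskerRight, Iso.inv_hom_id_assoc]

theorem projRes_spec (M : ModuleCat.{u} R) :
    DRing.VanishesAbove (projectiveResolution M).cochainComplex 0 ∧
      (∀ i, Module.Projective R ((projectiveResolution M).cochainComplex.X i)) ∧
      Nonempty (Q.obj (projectiveResolution M).cochainComplex ≅
        (singleFunctor (ModuleCat.{u} R) 0).obj M) := by
  let P : ProjectiveResolution M := projectiveResolution M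
  refine ⟨?_, ?_, ⟨?_⟩⟩
  · intro i hi
    exact CochainComplex.isZero_of_isStrictlyLE _ 0 _ hi
  · intro i
    by_cases hi : i ≤ 0
    · obtain ⟨k, rfl⟩ := Int.exists_eq_neg_ofNat hi
      have e := (P.cochainComplexXIso (-k) k).symm
      haveI : Module.Projective R (P.complex.X k) :=
        (IsProjective.iff_projective (R := R) (P.complex.X k)).mpr (P.projective k)
      exact Module.Projective.of_equiv e.toLinearEquiv
    · have hz : IsZero (P.cochainComplex.X i) :=
        CochainComplex.isZero_of_isStrictlyLE _ 0 _ (by omega)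
      have : Subsingleton (P.cochainComplex.X i) := ModuleCat.subsingleton_of_isZero hz
      infer_instance
  · haveI : IsIso (Q.map P.π') := by
      rw [isIso_Q_map_iff_quasiIso]
      infer_instance
    exact asIso (Q.map P.π') ≪≫
      ((DerivedCategory.singleFunctorIsoCompQ (ModuleCat.{u} R) 0).app M).symm

theorem torVan_single_iff (M : ModuleCat.{u} R) (d : ℕ) :
    TorVan (-(d : ℤ)) 0 ((singleFunctor (ModuleCat.{u} R) 0).obj M) ↔
      ∀ (N : ModuleCat.{u} R) (p : ℕ), d < p →
        IsZero (((Tor (ModuleCat.{u} R) p).obj M).obj N) := by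
  obtain ⟨h1, h2, ⟨e⟩⟩ := projRes_spec M
  have hfl : ∀ i, Module.Flat R ((projectiveResolution M).cochainComplex.X i) := fun i => by
    haveI := h2 i
    infer_instance
  constructor
  · intro h N p hp
    have hv := torVanCx_of_torVan h _ 0 h1 hfl e
    obtain ⟨q, rfl⟩ : ∃ q, p = q + 1 := ⟨p - 1, by omega⟩
    rw [isZero_tor_iff]
    exact hv N _ (Or.inl (by push_cast; omega))
  · intro h
    refine ⟨_, 0, h1, h2, ⟨e⟩, ?_⟩
    intro N i hi
    rcases hi with hi | hi
    · obtain ⟨q, rfl⟩ : ∃ q : ℕ, i = -((q + 1 : ℕ) : ℤ) :=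
        ⟨(-i - 1).toNat, by push_cast; omega⟩
      rw [← isZero_tor_iff]
      exact h N (q + 1) (by push_cast at hi; omega)
    · exact isZero_homology_of_isZero_X _ i (tens_isZero N _ i (h1 i hi))

theorem flat_of_tor_one_aux {M F : Type u} [AddCommGroup M] [Module R M] [AddCommGroup F]
    [Module R F] [Module.Flat R F] (p : F →ₗ[R] M) (hp : Function.Surjective p)
    (h : ∀ N : ModuleCat.{u} R,
      IsZero (((Tor (ModuleCat.{u} R) 1).obj (ModuleCat.of R M)).obj N)) : Module.Flat R M := by
  have hi : Function.Injective (LinearMap.ker p).subtype := Submodule.injective_subtype _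
  have hip : Function.Exact (LinearMap.ker p).subtype p := by
    intro x
    constructor
    · intro hx
      exact ⟨⟨x, hx⟩, rfl⟩
    · rintro ⟨y, rfl⟩
      exact y.2
  have key : Module.Flat R (F ⧸ LinearMap.range (LinearMap.ker p).subtype) := by
    refine flat_coker_of_exact (X₀ := PUnit.{u + 1}) (X₁ := LinearMap.ker p) (X₂ := F)
      (0 : PUnit.{u + 1} →ₗ[R] LinearMap.ker p) (LinearMap.ker p).subtype
      (LinearMap.comp_zero _) ?_
    intro A _ _
    have := (Groth.Agent.Helper18.TorLib.isZero_tor_one_iff_injective (M := A)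
      (LinearMap.ker p).subtype p hi hip hp).mp (h (ModuleCat.of R A))
    rw [LinearMap.ker_eq_bot.mpr this]
    exact bot_le
  have hr : LinearMap.range (LinearMap.ker p).subtype = LinearMap.ker p :=
    Submodule.range_subtype _
  exact Module.Flat.of_linearEquiv
    ((p.quotKerEquivOfSurjective hp).symm ≪≫ₗ (Submodule.quotEquivOfEq _ _ hr.symm))

theorem flat_of_tor_one {M : Type u} [AddCommGroup M] [Module R M]
    (h : ∀ N : ModuleCat.{u} R,
      IsZero (((Tor (ModuleCat.{u} R) 1).obj (ModuleCat.of R M)).obj N)) : Module.Flat R M :=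
  flat_of_tor_one_aux (F := M →₀ R) (Finsupp.linearCombination R id)
    (Finsupp.linearCombination_id_surjective R M) h

end Groth.Agent.Helper11.TA
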