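import Groth.Agent.Lib.Helper18.Tor.Low
import Groth.Agent.Lib.Helper11.DCRegular2

/-!
Tor vanishing from projective dimension.
-/

open CategoryTheory Category Limits

universe u

namespace Groth.Agent.Helper11.DC

open Groth.Agent.Helper18.TorLib

variable {R : Type u} [CommRing R]

theorem flat_of_projective_obj (X : ModuleCat.{u} R) [Projective X] : Module.Flat R X := by
  haveI : Module.Projective R X := (IsProjective.iff_projective (R := R) X).mpr
    (Projective.of_iso (Iso.refl _ : X ≅ ModuleCat.of R X) inferInstance)
  infer_instance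

theorem isZero_tor_of_hasProjectiveDimensionLT (n : ℕ) :
    ∀ (X : ModuleCat.{u} R), HasProjectiveDimensionLT X (n + 1) → ∀ (p : ℕ), n < p →
      ∀ M : ModuleCat.{u} R, IsZero (((Tor (ModuleCat.{u} R) p).obj X).obj M) := by
  induction n with
  | zero =>
    intro X hX p hp M
    haveI : Projective X := projective_iff_hasProjectiveDimensionLT_one.mpr hX
    haveI : Module.Flat R X := flat_of_projective_obj X
    obtain ⟨q, rfl⟩ : ∃ q, p = q + 1 := ⟨p - 1, by omega⟩
    exact isZero_tor_succ_of_flat_left X M q
  | succ n ih =>
    intro X hX p hp M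
    obtain ⟨q, rfl⟩ : ∃ q, p = q + 1 := ⟨p - 1, by omega⟩
    let S : ShortComplex (ModuleCat.{u} R) :=
      ShortComplex.mk (kernel.ι (Projective.π X)) (Projective.π X) (kernel.condition _)
    have hS : S.ShortExact :=
      { exact := ShortComplex.exact_of_f_is_kernel _ (kernelIsKernel _)
        mono_f := by dsimp [S]; infer_instance
        epi_g := by dsimp [S]; infer_instance }
    have hP : HasProjectiveDimensionLT S.X₂ (n + 1) := by
      haveI : Projective S.X₂ := by dsimp [S]; infer_instance
      exact hasProjectiveDimensionLT_of_ge S.X₂ 1 (n + 1) (by omega)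
    have hK : HasProjectiveDimensionLT S.X₁ (n + 1) :=
      hS.hasProjectiveDimensionLT_X₁ (n + 1) hP hX
    have h1 := ih S.X₁ hK q (by omega) M
    haveI : Module.Flat R S.X₂ := by
      haveI : Projective S.X₂ := by dsimp [S]; infer_instance
      exact flat_of_projective_obj S.X₂
    have h2 := isZero_tor_succ_of_flat_left S.X₂ M q
    exact (tor_exact₃ hS M q).isZero_X₂ (h2.eq_of_src _ _) (h1.eq_of_tgt _ _)

/-- over a regular ring of finite Krull dimension every module has finite tor dimension. -/
theorem hasFiniteTorDim_of_isRegularRing [IsRegularRing R] (hdim : ringKrullDim R < ⊤)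
    (M : Type u) [AddCommGroup M] [Module R M] : DRing.HasFiniteTorDim R M := by
  by_cases htriv : Subsingleton R
  · refine ⟨0, fun N _ _ p _ => ?_⟩
    exact Module.subsingleton R _
  · haveI : Nontrivial R := not_subsingleton_iff_nontrivial.mp htriv
    obtain ⟨d, hd⟩ : ∃ d : ℕ, ringKrullDim R = d := by
      have h0 : 0 ≤ ringKrullDim R := ringKrullDim_nonneg_of_nontrivial
      generalize ringKrullDim R = x at h0 hdim
      induction x using WithBot.recBotCoe with
      | bot => simp at h0
      | coe n =>
        induction n using ENat.recTopCoe with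
        | top => exact absurd hdim (by simp)
        | coe d => exact ⟨d, rfl⟩
    refine ⟨d, fun N _ _ p hp => ?_⟩
    exact ModuleCat.subsingleton_of_isZero
      (isZero_tor_of_hasProjectiveDimensionLT d (ModuleCat.of R M)
        (glDim_of_isRegularRing d hd _) p hp (ModuleCat.of R N))

end Groth.Agent.Helper11.DC
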