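import Groth.Agent.Lib.Helper11.FlatPc3
import Groth.Agent.Lib.Helper11.TorPD
import Groth.Agent.Lib.Helper11.TorAmp8
import Groth.Agent.Lib.Helper11.TorAmp7
import Groth.Agent.Lib.Helper11.DCProjTFAE
import Groth.Agent.Lib.Helper18.Tor.Low

/-!
Projective dimension equals Tor dimension for pseudo-coherent modules (helper11).
-/

set_option autoImplicit false

open CategoryTheory Category Limits DerivedCategory MonoidalCategory

attribute [local instance] HasDerivedCategory.standard

universe u

namespace Groth.Agent.Helper11.FlatPc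

open Groth.Agent.Helper11.DC Groth.Agent.Helper11.TA

variable {B : Type u} [CommRing B]

/-- vanishing of `Hom(M, N[j])` for `j > k` bounds the projective dimension -/
theorem pdLT_of_extVan (M : ModuleCat.{u} B) (k : ℕ)
    (h : ∀ j : ℤ, (k : ℤ) < j → ExtVan ((singleFunctor (ModuleCat.{u} B) 0).obj M) j) :
    HasProjectiveDimensionLT M (k + 1) := by
  letI := HasExt.standard (ModuleCat.{u} B)
  refine HasProjectiveDimensionLT.mk (fun i hi Y e => ?_)
  apply Abelian.Ext.ext
  rw [Abelian.Ext.zero_hom]
  have hki : k < i := hi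
  exact h (i : ℤ) (by exact_mod_cast hki) Y e.hom

/-- for a pseudo-coherent module, vanishing of `Tor_p(M, -)` for `p > k` bounds the projective
dimension by `k` -/
theorem pdLT_succ_of_tor (M : ModuleCat.{u} B)
    (hpc : DRing.IsPseudoCoherent' B ((singleFunctor (ModuleCat.{u} B) 0).obj M)) (k : ℕ)
    (h : ∀ (N : ModuleCat.{u} B) (p : ℕ), k < p →
      IsZero (((Tor (ModuleCat.{u} B) p).obj M).obj N)) :
    HasProjectiveDimensionLT M (k + 1) := by
  have hv : TorVan (-(k : ℤ)) 0 ((singleFunctor (ModuleCat.{u} B) 0).obj M) :=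
    (torVan_single_iff M k).mpr h
  obtain ⟨P, hP, hfp, e⟩ := exists_proj_rep_of_pc_of_torVan hpc hv
  have hPA : ProjAmp (-(k : ℤ)) 0 ((singleFunctor (ModuleCat.{u} B) 0).obj M) :=
    ⟨P, hP, fun i => (hfp i).2, e⟩
  refine pdLT_of_extVan M k (fun j hj => ?_)
  exact extVan_of_projAmp _ (-(k : ℤ)) 0 hPA j (Or.inr (by omega))

/-- projective dimension equals Tor dimension for pseudo-coherent modules -/
theorem pd_eq_torDim (M : ModuleCat.{u} B)
    (hpc : DRing.IsPseudoCoherent' B ((singleFunctor (ModuleCat.{u} B) 0).obj M)) :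
    projectiveDimension M = sInf {n : WithBot ℕ∞ | ∀ i : ℕ, n < i → ∀ N : ModuleCat.{u} B,
      IsZero (((Tor (ModuleCat.{u} B) i).obj M).obj N)} := by
  unfold projectiveDimension
  congr 1
  ext n
  simp only [Set.mem_ofPred_eq]
  constructor
  · intro h i hi N
    haveI := h i hi
    cases i with
    | zero =>
      have hz : IsZero M := isZero_of_hasProjectiveDimensionLT_zero M
      have h1 : IsZero (M ⊗ N) := (tensorRight N).map_isZero hz
      exact h1.of_iso (Groth.Agent.Helper18.TorLib.tor0Iso M N)
    | succ k =>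
      exact isZero_tor_of_hasProjectiveDimensionLT k M inferInstance (k + 1)
        (Nat.lt_succ_self k) N
  · intro h i hi
    cases i with
    | zero =>
      have h0 := h 0 hi (ModuleCat.of B B)
      have h1 : IsZero (M ⊗ ModuleCat.of B B) :=
        h0.of_iso (Groth.Agent.Helper18.TorLib.tor0Iso M (ModuleCat.of B B)).symm
      have h2 : IsZero M := h1.of_iso (ρ_ M).symm
      exact h2.hasProjectiveDimensionLT_zero
    | succ k =>
      refine pdLT_succ_of_tor M hpc k (fun N p hp => h p ?_ N)
      have hle : ((k + 1 : ℕ) : WithBot ℕ∞) ≤ (p : WithBot ℕ∞) := by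
        have hp' : k + 1 ≤ p := hp
        exact_mod_cast hp'
      exact lt_of_lt_of_le hi hle

end Groth.Agent.Helper11.FlatPc
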