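import Groth.Agent.Lib.Helper11.FlatPc5

/-!
Projective dimension of a flat finitely presented module is detected on the fibres (helper11).
-/

set_option autoImplicit false

open CategoryTheory Category Limits DerivedCategory

attribute [local instance] HasDerivedCategory.standard

universe u

namespace Groth.Agent.Helper11.FlatPc

open Groth.Agent.Helper11.DC Groth.Agent.Helper11.TA Groth.Agent.Helper11.Dev
  Groth.Agent.Helper11.RPBC Groth.Agent.Helper11.PairPerf Groth.Agent.Helper11.MPC

section Chi

open TensorProduct

/-- a field-valued point of `Spec B` factors through a fibre of `Spec B → Spec A` -/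
theorem exists_chi (A B F : Type u) [CommRing A] [CommRing B] [Algebra A B] [Field F]
    [Algebra A F] [Algebra B F] [IsScalarTower A B F] :
    ∃ (p : PrimeSpectrum A), Nonempty (B ⊗[A] p.asIdeal.ResidueField →ₐ[B] F) := by
  haveI hp : (RingHom.ker (algebraMap A F)).IsPrime := RingHom.ker_isPrime _
  let p : PrimeSpectrum A := ⟨RingHom.ker (algebraMap A F), hp⟩
  have hf₁ : p.asIdeal ≤ RingHom.ker (Algebra.ofId A F) := fun x hx => by
    have h0 : algebraMap A F x = 0 := (RingHom.mem_ker).mp hx
    exact (RingHom.mem_ker).mpr h0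
  have hf₂ : p.asIdeal.primeCompl ≤ (IsUnit.submonoid F).comap (Algebra.ofId A F) := by
    intro x hx
    show IsUnit (algebraMap A F x)
    exact isUnit_iff_ne_zero.mpr (fun h0 => hx ((RingHom.mem_ker).mpr h0))
  let g : p.asIdeal.ResidueField →ₐ[A] F :=
    Ideal.ResidueField.liftₐ p.asIdeal (Algebra.ofId A F) hf₁ hf₂
  exact ⟨p, ⟨Algebra.TensorProduct.lift (Algebra.ofId B F) g (fun _ _ => Commute.all _ _)⟩⟩

end Chi

section Main

open TensorProduct

variable (A B M : Type u) [CommRing A] [CommRing B] [Algebra A B]
  [AddCommGroup M] [Module B M] [Module A M] [IsScalarTower A B M]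

/-- flatness of the restriction of scalars -/
theorem flat_rs_of_flat [Module.Flat A M] :
    Module.Flat A ((ModuleCat.restrictScalars.{u} (algebraMap A B)).obj (ModuleCat.of B M)) := by
  let e : ((ModuleCat.restrictScalars.{u} (algebraMap A B)).obj (ModuleCat.of B M)) ≃ₗ[A] M :=
    { toFun := fun x => x
      invFun := fun x => x
      map_add' := fun _ _ => rfl
      map_smul' := fun r x => by
        show algebraMap A B r • (show M from x) = r • (show M from x)
        rw [algebraMap_smul]
      left_inv := fun _ => rfl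
      right_inv := fun _ => rfl }
  exact Module.Flat.of_linearEquiv e

/-- the fibre module as an extension of scalars -/
noncomputable def fibreIso (p : PrimeSpectrum A) :
    (es (algebraMap B (B ⊗[A] p.asIdeal.ResidueField))).obj (ModuleCat.of B M) ≅
      ModuleCat.of (B ⊗[A] p.asIdeal.ResidueField)
        ((B ⊗[A] p.asIdeal.ResidueField) ⊗[B] M) :=
  (esEquiv (R := B) (S := B ⊗[A] p.asIdeal.ResidueField) (ModuleCat.of B M)).toModuleIso

/-- the projective dimension does not go up on the fibres -/
theorem pdLT_fibre_of_pdLT [Module.Flat A B] [Module.Flat A M] (p : PrimeSpectrum A) (i : ℕ)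
    (h : HasProjectiveDimensionLT (ModuleCat.of B M) i) :
    HasProjectiveDimensionLT (ModuleCat.of (B ⊗[A] p.asIdeal.ResidueField)
      ((B ⊗[A] p.asIdeal.ResidueField) ⊗[B] M)) i := by
  letI : Algebra p.asIdeal.ResidueField (B ⊗[A] p.asIdeal.ResidueField) :=
    Algebra.TensorProduct.rightAlgebra
  haveI : Algebra.IsPushout A p.asIdeal.ResidueField B (B ⊗[A] p.asIdeal.ResidueField) :=
    TensorProduct.isPushout'
  cases i with
  | zero =>
    haveI := h
    have hz : IsZero (ModuleCat.of B M) := isZero_of_hasProjectiveDimensionLT_zero _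
    have hz' := (es (algebraMap B (B ⊗[A] p.asIdeal.ResidueField))).map_isZero hz
    exact (hz'.of_iso (fibreIso A B M p).symm).hasProjectiveDimensionLT_zero
  | succ k =>
    haveI := pdLT_es_of_flat A p.asIdeal.ResidueField B (B ⊗[A] p.asIdeal.ResidueField)
      (ModuleCat.of B M) (flat_rs_of_flat A B M) k h
    exact hasProjectiveDimensionLT_of_iso (fibreIso A B M p) (k + 1)

/-- the projective dimension is detected on the fibres -/
theorem pdLT_of_pdLT_fibres [Module.Flat A B] [Algebra.FinitePresentation A B]
    [Module.FinitePresentation B M] [Module.Flat A M] (i : ℕ)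
    (h : ∀ p : PrimeSpectrum A,
      HasProjectiveDimensionLT (ModuleCat.of (B ⊗[A] p.asIdeal.ResidueField)
        ((B ⊗[A] p.asIdeal.ResidueField) ⊗[B] M)) i) :
    HasProjectiveDimensionLT (ModuleCat.of B M) i := by
  cases i with
  | zero =>
    by_contra hne
    have hnz : ¬ IsZero (ModuleCat.of B M) := fun hz => hne hz.hasProjectiveDimensionLT_zero
    have hnt : Nontrivial M := by
      by_contra hsub
      rw [not_nontrivial_iff_subsingleton] at hsub
      exact hnz (ModuleCat.isZero_of_subsingleton _)
    haveI : Module.Finite B M := inferInstance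
    obtain ⟨q, hq⟩ : (Module.support B M).Nonempty := by
      rw [Set.nonempty_iff_ne_empty, ne_eq, Module.support_eq_empty_iff]
      exact not_subsingleton M
    have hq' : Nontrivial (q.asIdeal.ResidueField ⊗[B] M) :=
      (Module.mem_support_iff_nontrivial_residueField_tensorProduct q).mp hq
    obtain ⟨p, ⟨χ⟩⟩ := exists_chi A B q.asIdeal.ResidueField
    haveI := h p
    have hz := isZero_of_hasProjectiveDimensionLT_zero
      (ModuleCat.of (B ⊗[A] p.asIdeal.ResidueField) ((B ⊗[A] p.asIdeal.ResidueField) ⊗[B] M))
    haveI hsub : Subsingleton ((B ⊗[A] p.asIdeal.ResidueField) ⊗[B] M) :=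
      ModuleCat.subsingleton_of_isZero hz
    letI : Algebra (B ⊗[A] p.asIdeal.ResidueField) q.asIdeal.ResidueField :=
      χ.toRingHom.toAlgebra
    haveI : IsScalarTower B (B ⊗[A] p.asIdeal.ResidueField) q.asIdeal.ResidueField :=
      IsScalarTower.of_algebraMap_eq (fun x => (χ.commutes x).symm)
    let ε := AlgebraTensorModule.cancelBaseChange B (B ⊗[A] p.asIdeal.ResidueField)
      q.asIdeal.ResidueField q.asIdeal.ResidueField M
    haveI : Subsingleton (q.asIdeal.ResidueField ⊗[B] M) := ε.symm.toEquiv.subsingleton
    exact not_subsingleton _ this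
  | succ k =>
    have hpc : DRing.IsPseudoCoherent' B
        ((singleFunctor (ModuleCat.{u} B) 0).obj (ModuleCat.of B M)) :=
      pc_module_of_flat_fp A B M
    obtain ⟨E₀, b, hb, hff, ⟨e₀⟩⟩ := id hpc
    have hproj₀ : ∀ i, Module.Projective B (E₀.X i) := fun i => by
      haveI := (hff i).2
      infer_instance
    have hH₀ : ∀ i : ℤ, 0 < i →
        IsZero ((homologyFunctor (ModuleCat.{u} B) i).obj (Q.obj E₀)) := by
      intro i hi
      have h0 : IsZero ((homologyFunctor (ModuleCat.{u} B) i).obj
          ((singleFunctor (ModuleCat.{u} B) 0).obj (ModuleCat.of B M))) :=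
        ((singleFunctor (ModuleCat.{u} B) 0).obj (ModuleCat.of B M)).isZero_of_isLE 0 i hi
      exact h0.of_iso ((homologyFunctor (ModuleCat.{u} B) i).mapIso e₀)
    obtain ⟨E, π, hπ, hE0, -⟩ := trim_to b.toNat E₀ 0 b
      (by have := Int.self_le_toNat b; omega) hb hproj₀ hH₀
    haveI := hπ.iso
    have e : Q.obj E ≅ (singleFunctor (ModuleCat.{u} B) 0).obj (ModuleCat.of B M) :=
      (asIso (Q.map π)).symm ≪≫ e₀
    have hproj : ∀ i, Module.Projective B (E.X i) := fun i => hπ.projective i (hproj₀ i)
    have hfin : ∀ i, Module.Finite B (E.X i) := fun i => hπ.finite i (hff i).1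
    have hfl : ∀ i, Module.Flat B (E.X i) := fun i => by
      haveI := hproj i
      infer_instance
    have hTA : DRing.HasTorAmplitudeIn B (-(k : ℤ)) 0 (Q.obj E) := by
      refine Groth.Agent.Helper11.LocalPerf.hasTorAmplitudeIn_of_fibres E 0 hE0 hproj hfin
        (-(k : ℤ)) 0 ?_
      intro m hm i hi
      rcases hi with hi | hi
      · haveI := hm
        letI : Field (B ⧸ m) := Ideal.Quotient.field m
        obtain ⟨p, ⟨χ⟩⟩ := exists_chi A B (B ⧸ m)
        letI : Algebra p.asIdeal.ResidueField (B ⊗[A] p.asIdeal.ResidueField) :=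
          Algebra.TensorProduct.rightAlgebra
        haveI : Algebra.IsPushout A p.asIdeal.ResidueField B (B ⊗[A] p.asIdeal.ResidueField) :=
          TensorProduct.isPushout'
        obtain ⟨e'⟩ := tor_indep A p.asIdeal.ResidueField B (B ⊗[A] p.asIdeal.ResidueField) E hE0
          hfl (ModuleCat.of B M) e (flat_rs_of_flat A B M)
        haveI := h p
        have hpd : HasProjectiveDimensionLT
            ((es (algebraMap B (B ⊗[A] p.asIdeal.ResidueField))).obj (ModuleCat.of B M))
            (k + 1) :=
          hasProjectiveDimensionLT_of_iso (fibreIso A B M p).symm (k + 1)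
        have hz := isZero_homology_esC_of_pdLT _ k hpd
          ((esC (algebraMap B (B ⊗[A] p.asIdeal.ResidueField))).obj E)
          (fun j hj => (es _).map_isZero (hE0 j hj))
          (fun j => by
            haveI := hfl j
            exact es_flat _ (E.X j)) e' χ.toRingHom i hi
        have hχ : χ.toRingHom.comp (algebraMap B (B ⊗[A] p.asIdeal.ResidueField)) =
            Ideal.Quotient.mk m := by
          ext x
          exact χ.commutes x
        rw [← hχ]
        refine IsZero.of_iso ?_ ((homologyFunctorFactors (ModuleCat.{u} (B ⧸ m)) i).app _)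
        exact hz.of_iso ((HomologicalComplex.homologyFunctor _ _ i).mapIso
          (Groth.Agent.Helper11.LocalPerf.esCCompIso
            (algebraMap B (B ⊗[A] p.asIdeal.ResidueField)) χ.toRingHom E))
      · exact Groth.Agent.Helper11.DC.isZero_homology_of_isZero_X _ i
          ((es (Ideal.Quotient.mk m)).map_isZero (hE0 i hi))
    have hv : TorVan (-(k : ℤ)) 0
        ((singleFunctor (ModuleCat.{u} B) 0).obj (ModuleCat.of B M)) :=
      (torVan_of_hasTorAmplitudeIn hTA).of_iso e
    exact pdLT_succ_of_tor (ModuleCat.of B M) hpc k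
      ((torVan_single_iff (ModuleCat.of B M) k).mp hv)

end Main

end Groth.Agent.Helper11.FlatPc
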