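import Mathlib
import Groth.Prelude.Def_EGA41
import Groth.Agent.Lib.Helper9.Cartier6
import Groth.Agent.Lib.Helper9.SepInj

/-!
# Rank of the differentials of a finite extension of a separable extension

For a tower of fields `k → E → F` with `E / k` having zero imperfection module and `F / E`
finitely generated algebraic, `rank Ω_{F/k} = rank Ω_{E/k} + rank Υ_{F/k}`.
-/

set_option autoImplicit false

namespace Groth.Agent.Helper11.FracRank

universe u
open TensorProduct KaehlerDifferential
open Groth.Agent.Helper9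

section Abstract

variable {k E F : Type u} [Field k] [Field E] [Field F] [Algebra k E] [Algebra E F] [Algebra k F]
  [IsScalarTower k E F]

theorem rank_formula (hinj : Function.Injective (mapBaseChange ℤ k E))
    [Algebra.EssFiniteType E F] [Algebra.IsAlgebraic E F] :
    Module.Finite F (LinearMap.ker (mapBaseChange ℤ k F)) ∧
      Module.rank F (Ω[F⁄k]) =
        Module.rank E (Ω[E⁄k]) + Module.rank F (LinearMap.ker (mapBaseChange ℤ k F)) := by
  set f := Imperf.theta ℤ k E F with hf
  set g := mapBaseChange ℤ E F with hg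
  have hgf : g ∘ₗ f = mapBaseChange ℤ k F := Cartier.comp_theta
  have hfinj : Function.Injective f := by
    rw [hf]
    unfold Imperf.theta
    rw [LinearMap.coe_comp, LinearEquiv.coe_coe]
    exact (Module.Flat.lTensor_preserves_injective_linearMap (M := F) _ hinj).comp
      (LinearEquiv.injective _)
  obtain ⟨hΩ, hΥ, _, hP⟩ := Cartier.P.of_essFiniteType E F
  have h0 : Algebra.trdeg E F = 0 := trdeg_eq_zero
  rw [h0, Cardinal.zero_toNat] at hP
  have hkf0 : LinearMap.ker f = ⊥ := LinearMap.ker_eq_bot.2 hfinj
  haveI : Module.Finite F (LinearMap.ker f) := by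
    rw [hkf0]
    infer_instance
  haveI : Module.Finite F (LinearMap.ker g) := hΥ
  have hfin := Fredholm.finite_ker_comp f g
  rw [hgf] at hfin
  refine ⟨hfin, ?_⟩
  have ha := Fredholm.rank_a f g
  have hb := Fredholm.rank_b f g
  have hc := Fredholm.rank_c f g
  have hd := Fredholm.rank_d f g
  have hkf : Module.rank F (LinearMap.ker f) = 0 := by
    rw [hkf0]
    exact rank_bot F _
  rw [hkf, add_zero] at ha
  have e1 : Module.rank F (Ω[F⁄ℤ] ⧸ LinearMap.range (g ∘ₗ f)) = Module.rank F (Ω[F⁄k]) := by
    rw [hgf]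
    exact (Cartier.cokerEquiv ℤ k F).rank_eq
  have e2 : Module.rank F (Ω[F⁄ℤ] ⧸ LinearMap.range g) = Module.rank F (Ω[F⁄E]) :=
    (Cartier.cokerEquiv ℤ E F).rank_eq
  have e3 : Module.rank F ((F ⊗[E] Ω[E⁄ℤ]) ⧸ LinearMap.range f) = Module.rank E (Ω[E⁄k]) := by
    rw [(Cartier.cokerThetaEquiv (a := ℤ) (K := k) (L := E) (M := F)).rank_eq,
      Module.rank_baseChange, Cardinal.lift_id]
  have hm : Module.rank F (LinearMap.ker g) = Module.rank F (Ω[F⁄E]) := by
    rw [← Module.finrank_eq_rank, ← Module.finrank_eq_rank]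
    have : Module.finrank F (LinearMap.ker g) = Module.finrank F (Ω[F⁄E]) := by
      have h1 : Module.finrank F (LinearMap.ker g) =
          Module.finrank F (EGA41.imperfection ℤ E F) := rfl
      rw [h1]
      omega
    rw [this]
  have e4 : Module.rank F (LinearMap.ker (g ∘ₗ f)) =
      Module.rank F (LinearMap.ker (mapBaseChange ℤ k F)) := by
    rw [hgf]
  rw [← e1, hd, e2, ← hm, hb, ← e3, hc, ← e4, ha]
  rw [add_comm (Module.rank F (Fredholm.R f g)), add_assoc, add_assoc,
    add_comm (Module.rank F (Fredholm.R f g))]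

end Abstract

end Groth.Agent.Helper11.FracRank
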