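import Mathlib

/-!
# Differentials of a power series ring over an `F`-finite field

If `k` has characteristic `p` and is finite over its subfield of `p`-th powers, the module of
differentials of `k[[X_1, …, X_n]]` over `k` is generated by `dX_1, …, dX_n`.
-/

set_option autoImplicit false

namespace Groth.Agent.Helper11.FrobPS

open MvPowerSeries

section Slice

variable {k : Type*} [CommRing k] (p : ℕ) (hp : p ≠ 0) {n : ℕ}

/-- exponent attached to a vector of residues -/
noncomputable def beta (b : Fin n → Fin p) : Fin n →₀ ℕ :=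
  Finsupp.equivFunOnFinite.symm (fun i => (b i : ℕ))

theorem beta_apply (b : Fin n → Fin p) (i : Fin n) : beta p b i = (b i : ℕ) := rfl

/-- the slice of a power series along a residue class of exponents -/
noncomputable def slice (β : Fin n →₀ ℕ) (f : MvPowerSeries (Fin n) k) :
    MvPowerSeries (Fin n) k :=
  fun m => coeff (p • m + β) f

theorem coeff_slice (β m : Fin n →₀ ℕ) (f : MvPowerSeries (Fin n) k) :
    coeff m (slice p β f) = coeff (p • m + β) f := rfl

include hp in
theorem eq_sum_slice (f : MvPowerSeries (Fin n) k) :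
    f = ∑ b : Fin n → Fin p,
      monomial (beta p b) (1 : k) * expand p hp (slice p (beta p b) f) := by
  classical
  ext d
  rw [map_sum]
  have hpos : 0 < p := Nat.pos_of_ne_zero hp
  let b₀ : Fin n → Fin p := fun i => ⟨d i % p, Nat.mod_lt _ hpos⟩
  let m₀ : Fin n →₀ ℕ := d.mapRange (fun a => a / p) (Nat.zero_div p)
  have hd : p • m₀ + beta p b₀ = d := by
    ext i
    rw [Finsupp.add_apply, Finsupp.smul_apply, beta_apply, Finsupp.mapRange_apply, smul_eq_mul]
    exact Nat.div_add_mod (d i) p
  rw [Finset.sum_eq_single b₀]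
  · rw [coeff_monomial_mul, if_pos, one_mul]
    · have h1 : d - beta p b₀ = p • m₀ := by
        rw [← hd, add_tsub_cancel_right]
      rw [h1, coeff_expand_smul, coeff_slice, hd]
    · rw [← hd]
      exact le_add_self
  · intro b _ hb
    rw [coeff_monomial_mul]
    split_ifs with hle
    · rw [one_mul]
      obtain ⟨i, hi⟩ : ∃ i, b i ≠ b₀ i := by
        by_contra! h
        exact hb (funext h)
      apply coeff_expand_of_not_dvd p hp _ (i := i)
      intro hdvd
      apply hi
      rw [Finsupp.tsub_apply, beta_apply] at hdvd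
      have hle' : (b i : ℕ) ≤ d i := hle i
      obtain ⟨c, hc⟩ := hdvd
      have h2 : d i = p * c + (b i : ℕ) := by omega
      apply Fin.ext
      show (b i : ℕ) = d i % p
      rw [h2, Nat.mul_add_mod, Nat.mod_eq_of_lt (b i).2]
    · rfl
  · intro h
    exact absurd (Finset.mem_univ _) h

end Slice

section Frob

variable {k : Type*} [Field k] (p : ℕ) [hp : Fact p.Prime] [CharP k p] {n : ℕ}

theorem exists_frob_gens (hk : (frobenius k p).Finite) :
    ∃ s : Finset k, ∀ c : k, ∃ a : k → k, c = ∑ e ∈ s, a e ^ p * e := by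
  let alg : Algebra k k := (frobenius k p).toAlgebra
  have hfin : @Module.Finite k k _ _ alg.toModule := hk
  obtain ⟨s, hs⟩ := @Module.Finite.fg_top k k _ _ alg.toModule hfin
  refine ⟨s, fun c => ?_⟩
  have hc : c ∈ @Submodule.span k k _ _ alg.toModule (s : Set k) := by
    rw [hs]
    trivial
  obtain ⟨a, -, ha⟩ := (@Submodule.mem_span_finset k k _ _ alg.toModule s c).1 hc
  refine ⟨a, ?_⟩
  rw [← ha]
  rfl

/-- a power series given by its coefficient function -/
def mkPS (g : (Fin n →₀ ℕ) → k) : MvPowerSeries (Fin n) k := g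

theorem coeff_mkPS (g : (Fin n →₀ ℕ) → k) (d : Fin n →₀ ℕ) : coeff d (mkPS g) = g d := rfl

theorem exists_decomp (hk : (frobenius k p).Finite) :
    ∃ s : Finset k, ∀ f : MvPowerSeries (Fin n) k, ∃ h : k → MvPowerSeries (Fin n) k,
      f = ∑ e ∈ s, C e * map (frobenius k p) (h e) := by
  obtain ⟨s, hs⟩ := exists_frob_gens p hk
  choose a ha using hs
  refine ⟨s, fun f => ⟨fun e => mkPS (fun d => a (coeff d f) e), ?_⟩⟩
  ext d
  rw [map_sum]
  conv_lhs => rw [ha (coeff d f)]
  refine Finset.sum_congr rfl fun e _ => ?_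
  rw [coeff_C_mul, coeff_map, frobenius_def, mul_comm, coeff_mkPS]

theorem span_D_X_eq_top (hk : (frobenius k p).Finite) :
    Submodule.span (MvPowerSeries (Fin n) k)
      (Set.range fun i : Fin n =>
        KaehlerDifferential.D k (MvPowerSeries (Fin n) k) (X i)) = ⊤ := by
  classical
  haveI : ExpChar k p := ExpChar.prime hp.out
  set S := Submodule.span (MvPowerSeries (Fin n) k) (Set.range fun i : Fin n =>
    KaehlerDifferential.D k (MvPowerSeries (Fin n) k) (X i)) with hS
  let T : Subalgebra k (MvPowerSeries (Fin n) k) :=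
    { carrier := {f | KaehlerDifferential.D k (MvPowerSeries (Fin n) k) f ∈ S}
      mul_mem' := fun {f g} hf hg => by
        show KaehlerDifferential.D k (MvPowerSeries (Fin n) k) (f * g) ∈ S
        rw [Derivation.leibniz]
        exact S.add_mem (S.smul_mem _ hg) (S.smul_mem _ hf)
      add_mem' := fun {f g} hf hg => by
        show KaehlerDifferential.D k (MvPowerSeries (Fin n) k) (f + g) ∈ S
        rw [map_add]
        exact S.add_mem hf hg
      algebraMap_mem' := fun c => by
        show KaehlerDifferential.D k (MvPowerSeries (Fin n) k) (algebraMap k _ c) ∈ S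
        rw [Derivation.map_algebraMap]
        exact S.zero_mem }
  have hmemT : ∀ f, f ∈ T ↔ KaehlerDifferential.D k (MvPowerSeries (Fin n) k) f ∈ S :=
    fun f => Iff.rfl
  have hX : ∀ i, (X i : MvPowerSeries (Fin n) k) ∈ T := fun i =>
    Submodule.subset_span ⟨i, rfl⟩
  have hp0 : ((p : ℕ) : MvPowerSeries (Fin n) k) = 0 := by
    rw [← map_natCast (C : k →+* MvPowerSeries (Fin n) k), CharP.cast_eq_zero, map_zero]
  have hpow : ∀ h : MvPowerSeries (Fin n) k, h ^ p ∈ T := fun h => by
    rw [hmemT, Derivation.leibniz_pow, ← Nat.cast_smul_eq_nsmul (MvPowerSeries (Fin n) k), hp0,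
      zero_smul]
    exact S.zero_mem
  have hmono : ∀ β : Fin n →₀ ℕ, monomial β (1 : k) ∈ T := fun β => by
    have h1 : monomial β (1 : k) = ∏ i : Fin n, (X i : MvPowerSeries (Fin n) k) ^ β i := by
      simp_rw [X_pow_eq]
      rw [prod_monomial, Finset.prod_const_one, Finsupp.univ_sum_single]
    rw [h1]
    exact Subalgebra.prod_mem _ fun i _ => Subalgebra.pow_mem _ (hX i) _
  have hT : ∀ f : MvPowerSeries (Fin n) k, f ∈ T := by
    intro f
    obtain ⟨s, hs⟩ := exists_decomp (n := n) p hk
    rw [eq_sum_slice p hp.out.ne_zero f]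
    refine Subalgebra.sum_mem _ fun b _ => ?_
    refine T.mul_mem (hmono _) ?_
    obtain ⟨h, hh⟩ := hs (slice p (beta p b) f)
    rw [hh, map_sum]
    refine Subalgebra.sum_mem _ fun e _ => ?_
    rw [map_mul, expand_C, ← map_expand, map_frobenius_expand]
    exact T.mul_mem (T.algebraMap_mem e) (hpow _)
  rw [eq_top_iff, ← KaehlerDifferential.span_range_derivation k (MvPowerSeries (Fin n) k),
    Submodule.span_le]
  rintro _ ⟨f, rfl⟩
  exact hT f

end Frob

end Groth.Agent.Helper11.FrobPS
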