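import Mathlib
import Groth.Agent.Lib.Helper11.AdicDC4

set_option autoImplicit false

namespace Groth.Agent.Helper11.KaehlerCompl

universe u
open scoped TensorProduct

section General

variable {S : Type u} [CommRing S] (I : Ideal S)
variable {M' M M'' : Type u} [AddCommGroup M'] [Module S M'] [AddCommGroup M] [Module S M]
  [AddCommGroup M''] [Module S M'']

/-- approximate exactness of the completion of a right exact sequence -/
theorem exists_sub_map_mem (hI : I.FG) (f : M' →ₗ[S] M) (g : M →ₗ[S] M'')
    (hfg : Function.Exact f g) (hg : Function.Surjective g)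
    (y : AdicCompletion I M) (hy : AdicCompletion.map I g y = 0) (n : ℕ) :
    ∃ w : AdicCompletion I M',
      y - AdicCompletion.map I f w ∈ (I ^ n • ⊤ : Submodule S (AdicCompletion I M)) := by
  obtain ⟨x, hx⟩ := Submodule.mkQ_surjective _ (AdicCompletion.eval I M n y)
  have h1 : g x ∈ (I ^ n • ⊤ : Submodule S M'') := by
    rw [← Submodule.Quotient.mk_eq_zero]
    have h2 : (AdicCompletion.map I g y).val n = 0 := by rw [hy]; rfl
    rw [AdicCompletion.map_val_apply, ← AdicCompletion.eval_apply, ← hx] at h2
    exact h2
  have h3 : (I ^ n • ⊤ : Submodule S M'') = Submodule.map g (I ^ n • ⊤ : Submodule S M) := by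
    rw [Submodule.map_smul'', Submodule.map_top, LinearMap.range_eq_top.mpr hg]
  rw [h3] at h1
  obtain ⟨z, hz, hgz⟩ := h1
  have h4 : g (x - z) = 0 := by rw [map_sub, hgz, sub_self]
  obtain ⟨w, hw⟩ := (hfg (x - z)).mp h4
  refine ⟨AdicCompletion.of I M' w, ?_⟩
  rw [AdicCompletion.map_of, hw, AdicCompletion.pow_smul_top_eq_ker_eval hI, LinearMap.mem_ker,
    map_sub, AdicCompletion.eval_of, ← hx, map_sub, sub_sub_cancel]
  exact (Submodule.Quotient.mk_eq_zero _).mpr hz

end General

/-- submodules of finite modules over a Noetherian local ring are closed for the adic topology -/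
theorem mem_of_forall_exists_sub_mem {S : Type u} [CommRing S] [IsLocalRing S] [IsNoetherianRing S]
    {N : Type u} [AddCommGroup N] [Module S N] [Module.Finite S N] (P : Submodule S N) (y : N)
    (h : ∀ n : ℕ, ∃ p ∈ P, y - p ∈ ((IsLocalRing.maximalIdeal S) ^ n • ⊤ : Submodule S N)) :
    y ∈ P := by
  rw [← Submodule.Quotient.mk_eq_zero]
  apply IsHausdorff.haus' (I := IsLocalRing.maximalIdeal S)
  intro n
  obtain ⟨p, hp, hyp⟩ := h n
  rw [SModEq.zero]
  have h1 : (Submodule.Quotient.mk y : N ⧸ P) = P.mkQ (y - p) := by
    rw [map_sub, Submodule.mkQ_apply, Submodule.mkQ_apply, (Submodule.Quotient.mk_eq_zero P).mpr hp,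
      sub_zero]
  rw [h1]
  have h2 := Submodule.mem_map_of_mem (f := P.mkQ) hyp
  rwa [Submodule.map_smul'', Submodule.map_top, Submodule.range_mkQ] at h2

/-- complete Nakayama for the completion -/
theorem finite_adicCompletion {S : Type u} [CommRing S] [IsNoetherianRing S] (I : Ideal S)
    [IsAdicComplete I S] (M : Type u) [AddCommGroup M] [Module S M]
    [Module.Finite S (M ⧸ (I • ⊤ : Submodule S M))] :
    Module.Finite S (AdicCompletion I M) := by
  obtain ⟨r, v, hv⟩ := Module.Finite.exists_fin' S (M ⧸ (I • ⊤ : Submodule S M))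
  choose x hx using fun i => Submodule.mkQ_surjective (I • ⊤ : Submodule S M) (v (Pi.single i 1))
  let F : (Fin r → S) →ₗ[S] AdicCompletion I M :=
    Fintype.linearCombination S (fun i => AdicCompletion.of I M (x i))
  have hIfg : I.FG := IsNoetherian.noetherian I
  haveI : IsAdicComplete I (Fin r → S) := AdicDC.isAdicComplete_of_finite S I (Fin r → S)
  haveI : IsAdicComplete I (AdicCompletion I M) := AdicCompletion.isAdicComplete hIfg
  have hF : Function.Surjective F := by
    apply surjective_of_mkQ_comp_surjective (I := I)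
    intro ybar
    obtain ⟨y, rfl⟩ := Submodule.mkQ_surjective _ ybar
    obtain ⟨m, hm⟩ := Submodule.mkQ_surjective _ (AdicCompletion.eval I M 1 y)
    obtain ⟨c, hc⟩ := hv (Submodule.mkQ (I • ⊤ : Submodule S M) m)
    refine ⟨c, ?_⟩
    show Submodule.mkQ _ (F c) = Submodule.mkQ _ y
    rw [Submodule.mkQ_apply, Submodule.mkQ_apply, Submodule.Quotient.eq]
    have hFc : F c = AdicCompletion.of I M (∑ i, c i • x i) := by
      simp [F, Fintype.linearCombination_apply, map_sum]
    have h5 : (∑ i, c i • x i) - m ∈ (I • ⊤ : Submodule S M) := by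
      rw [← Submodule.Quotient.eq, ← Submodule.mkQ_apply, ← Submodule.mkQ_apply, ← hc]
      have hc' : c = ∑ i, c i • (Pi.single i (1 : S) : Fin r → S) := by
        funext j
        simp [Finset.sum_apply, Pi.single_apply]
      conv_rhs => rw [hc']
      simp only [map_sum, map_smul, hx]
    have h6 : F c - y = AdicCompletion.of I M ((∑ i, c i • x i) - m)
        + (AdicCompletion.of I M m - y) := by
      rw [hFc, map_sub]; abel
    rw [h6]
    refine Submodule.add_mem _ ?_ ?_
    · have h7 := Submodule.mem_map_of_mem (f := AdicCompletion.of I M) h5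
      rw [Submodule.map_smul''] at h7
      exact Submodule.smul_mono le_rfl le_top h7
    · have h8 : (I • ⊤ : Submodule S (AdicCompletion I M)) = I ^ 1 • ⊤ := by rw [pow_one]
      rw [h8, AdicCompletion.pow_smul_top_eq_ker_eval hIfg, LinearMap.mem_ker, map_sub,
        AdicCompletion.eval_of, hm, sub_self]
  exact Module.Finite.of_surjective F hF

section Kaehler

variable (k S : Type u) [Field k] [CommRing S] [IsNoetherianRing S] [IsLocalRing S] [Algebra k S]
  [Module.Finite (IsLocalRing.ResidueField S) (Ω[IsLocalRing.ResidueField S⁄k])]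

theorem finite_residue_tensor_kaehler :
    Module.Finite S ((IsLocalRing.ResidueField S) ⊗[S] Ω[S⁄k]) := by
  have hsurj : Function.Surjective (algebraMap S (IsLocalRing.ResidueField S)) :=
    IsLocalRing.residue_surjective
  have hex := KaehlerDifferential.exact_kerCotangentToTensor_mapBaseChange k S
    (IsLocalRing.ResidueField S) hsurj
  haveI : Module.Finite S (Ω[IsLocalRing.ResidueField S⁄k]) :=
    Module.Finite.trans (IsLocalRing.ResidueField S) _
  haveI : IsNoetherian S (Ω[IsLocalRing.ResidueField S⁄k]) := inferInstance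
  haveI : Module.Finite S ((RingHom.ker (algebraMap S (IsLocalRing.ResidueField S))).Cotangent) :=
    Module.Finite.of_surjective (RingHom.ker (algebraMap S (IsLocalRing.ResidueField S))).toCotangent
      (Ideal.toCotangent_surjective _)
  haveI : IsNoetherian S ((RingHom.ker (algebraMap S (IsLocalRing.ResidueField S))).Cotangent) :=
    inferInstance
  haveI : IsNoetherian S ((IsLocalRing.ResidueField S) ⊗[S] Ω[S⁄k]) :=
    isNoetherian_of_range_eq_ker
      (KaehlerDifferential.kerCotangentToTensor k S (IsLocalRing.ResidueField S))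
      ((KaehlerDifferential.mapBaseChange k S (IsLocalRing.ResidueField S)).restrictScalars S)
      (by
        ext x
        exact (hex x).symm)
  infer_instance

theorem finite_kaehler_quot :
    Module.Finite S (Ω[S⁄k] ⧸ (IsLocalRing.maximalIdeal S • ⊤ : Submodule S Ω[S⁄k])) := by
  haveI : Module.Finite S ((S ⧸ IsLocalRing.maximalIdeal S) ⊗[S] Ω[S⁄k]) :=
    finite_residue_tensor_kaehler k S
  exact Module.Finite.equiv
    (TensorProduct.quotTensorEquivQuotSMul Ω[S⁄k] (IsLocalRing.maximalIdeal S))

end Kaehler

theorem S5991_statement (k R S : Type u) [Field k] [CommRing R] [IsNoetherianRing R]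
    [IsLocalRing R] [Algebra k R] [IsAdicComplete (IsLocalRing.maximalIdeal R) R]
    [CommRing S] [IsNoetherianRing S] [IsLocalRing S] [Algebra k S]
    [IsAdicComplete (IsLocalRing.maximalIdeal S) S] [Algebra R S] [IsScalarTower k R S]
    [Module.Finite R S]
    [Module.Finite (IsLocalRing.ResidueField S) (Ω[IsLocalRing.ResidueField S⁄k])] :
    IsAdicComplete (IsLocalRing.maximalIdeal S) (Ω[S⁄R]) ∧
      Function.Surjective (AdicCompletion.map (IsLocalRing.maximalIdeal S)
        (KaehlerDifferential.map k R S S)) ∧
      LinearMap.range (AdicCompletion.map (IsLocalRing.maximalIdeal S)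
        (KaehlerDifferential.mapBaseChange k R S)) =
        LinearMap.ker (AdicCompletion.map (IsLocalRing.maximalIdeal S)
          (KaehlerDifferential.map k R S S)) := by
  refine ⟨AdicDC.isAdicComplete_of_finite S _ _,
    AdicCompletion.map_surjective _ (KaehlerDifferential.map_surjective k R S), ?_⟩
  apply le_antisymm
  · rintro _ ⟨w, rfl⟩
    rw [LinearMap.mem_ker, AdicCompletion.map_comp_apply]
    have h0 : (KaehlerDifferential.map k R S S) ∘ₗ (KaehlerDifferential.mapBaseChange k R S) = 0 :=
      (KaehlerDifferential.exact_mapBaseChange_map k R S).linearMap_comp_eq_zero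
    rw [h0, AdicCompletion.map_zero]
    rfl
  · intro y hy
    haveI := finite_kaehler_quot k S
    haveI : Module.Finite S (AdicCompletion (IsLocalRing.maximalIdeal S) Ω[S⁄k]) :=
      finite_adicCompletion _ _
    let P : Submodule S (AdicCompletion (IsLocalRing.maximalIdeal S) Ω[S⁄k]) :=
      (LinearMap.range (AdicCompletion.map (IsLocalRing.maximalIdeal S)
        (KaehlerDifferential.mapBaseChange k R S))).restrictScalars S
    have hyP : y ∈ P := mem_of_forall_exists_sub_mem P y (fun n => by
      obtain ⟨w, hw⟩ := exists_sub_map_mem (IsLocalRing.maximalIdeal S)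
        (IsNoetherian.noetherian (IsLocalRing.maximalIdeal S)) _ _
        (KaehlerDifferential.exact_mapBaseChange_map k R S)
        (KaehlerDifferential.map_surjective k R S) y hy n
      exact ⟨_, ⟨w, rfl⟩, hw⟩)
    exact hyP

end Groth.Agent.Helper11.KaehlerCompl
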