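import Mathlib
import Groth.Agent.Lib.Helper11.KaehlerCompl
import Groth.Agent.Lib.Helper9.PSOmega

set_option autoImplicit false

namespace Groth.Agent.Helper11.KaehlerRank

universe u
open IsLocalRing TensorProduct KaehlerDifferential

section

variable (k : Type u) [Field k] (r : ℕ) (A : Type u) [CommRing A]
    [IsDomain A] [IsLocalRing A] [IsNoetherianRing A]
    [Algebra (MvPowerSeries (Fin r) k) A] [Algebra k A]
    [IsScalarTower k (MvPowerSeries (Fin r) k) A]
    [Module.Finite (MvPowerSeries (Fin r) k) A]

theorem comap_maximalIdeal :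
    (maximalIdeal A).comap (algebraMap (MvPowerSeries (Fin r) k) A) =
      maximalIdeal (MvPowerSeries (Fin r) k) := by
  haveI : ((maximalIdeal A).comap (algebraMap (MvPowerSeries (Fin r) k) A)).IsMaximal :=
    Ideal.isMaximal_comap_of_isIntegral_of_isMaximal (R := MvPowerSeries (Fin r) k) (maximalIdeal A)
  exact IsLocalRing.eq_maximalIdeal this

theorem smul_residue (p : MvPowerSeries (Fin r) k) (y : ResidueField A) :
    p • y = (MvPowerSeries.constantCoeff p : k) • y := by
  have h1 : p - MvPowerSeries.C (MvPowerSeries.constantCoeff p) ∈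
      maximalIdeal (MvPowerSeries (Fin r) k) := by
    rw [Groth.Agent.Helper18.ps_mem_maximalIdeal_iff, map_sub, MvPowerSeries.constantCoeff_C,
      sub_self]
    exact zero_mem _
  rw [← comap_maximalIdeal k r A, Ideal.mem_comap] at h1
  have h2 : residue A (algebraMap (MvPowerSeries (Fin r) k) A
      (p - MvPowerSeries.C (MvPowerSeries.constantCoeff p))) = 0 :=
    (IsLocalRing.residue_eq_zero_iff _).mpr h1
  rw [map_sub, map_sub, sub_eq_zero] at h2
  rw [Algebra.smul_def, Algebra.smul_def, IsScalarTower.algebraMap_apply _ A (ResidueField A),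
    IsScalarTower.algebraMap_apply k A (ResidueField A),
    IsScalarTower.algebraMap_apply k (MvPowerSeries (Fin r) k) A]
  change residue A _ * y = residue A _ * y
  rw [h2]
  rfl

include r in
theorem finite_residueField : Module.Finite k (ResidueField A) := by
  haveI : Module.Finite (MvPowerSeries (Fin r) k) (ResidueField A) :=
    Module.Finite.of_surjective
      ((Algebra.linearMap A (ResidueField A)).restrictScalars (MvPowerSeries (Fin r) k))
      residue_surjective
  obtain ⟨s, hs⟩ := (Module.finite_def.mp
    (inferInstance : Module.Finite (MvPowerSeries (Fin r) k) (ResidueField A)))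
  refine ⟨⟨s, ?_⟩⟩
  rw [eq_top_iff]
  rintro x -
  have hx : x ∈ Submodule.span (MvPowerSeries (Fin r) k) (s : Set (ResidueField A)) := by
    rw [hs]; trivial
  refine Submodule.span_induction (p := fun y _ => y ∈ Submodule.span k (s : Set (ResidueField A)))
    ?_ ?_ ?_ ?_ hx
  · intro y hy
    exact Submodule.subset_span hy
  · exact zero_mem _
  · intro y z _ _ hy hz
    exact add_mem hy hz
  · intro p y _ hy
    rw [smul_residue]
    exact Submodule.smul_mem _ _ hy

theorem faithfulSMul_fractionRing
    (hinj : Function.Injective (algebraMap (MvPowerSeries (Fin r) k) A)) :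
    FaithfulSMul (MvPowerSeries (Fin r) k) (FractionRing A) := by
  rw [faithfulSMul_iff_algebraMap_injective,
    IsScalarTower.algebraMap_eq (MvPowerSeries (Fin r) k) A (FractionRing A)]
  exact (IsFractionRing.injective A (FractionRing A)).comp hinj

theorem formallyEtale_fractionRing
    [FaithfulSMul (MvPowerSeries (Fin r) k) (FractionRing A)]
    (hsep : ∀ a : A, ∃ Q : Polynomial (MvPowerSeries (Fin r) k), Polynomial.aeval a Q = 0 ∧
      (Q.map (algebraMap (MvPowerSeries (Fin r) k)
        (FractionRing (MvPowerSeries (Fin r) k)))).Separable) :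
    Algebra.FormallyEtale (MvPowerSeries (Fin r) k) (FractionRing A) := by
  letI : Algebra (FractionRing (MvPowerSeries (Fin r) k)) (FractionRing A) :=
    FractionRing.liftAlgebra (MvPowerSeries (Fin r) k) (FractionRing A)
  haveI : IsScalarTower (MvPowerSeries (Fin r) k) (FractionRing (MvPowerSeries (Fin r) k))
      (FractionRing A) := FractionRing.isScalarTower_liftAlgebra _ _
  have hA : ∀ a : A, IsSeparable (FractionRing (MvPowerSeries (Fin r) k))
      (algebraMap A (FractionRing A) a) := by
    intro a
    obtain ⟨Q, hQ0, hQs⟩ := hsep a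
    have h1 : Polynomial.aeval (algebraMap A (FractionRing A) a)
        (Q.map (algebraMap (MvPowerSeries (Fin r) k)
          (FractionRing (MvPowerSeries (Fin r) k)))) = 0 := by
      rw [Polynomial.aeval_map_algebraMap, Polynomial.aeval_algebraMap_apply, hQ0, map_zero]
    exact hQs.of_dvd (minpoly.dvd _ _ h1)
  haveI : Algebra.IsSeparable (FractionRing (MvPowerSeries (Fin r) k)) (FractionRing A) := by
    refine ⟨fun x => ?_⟩
    obtain ⟨a, b, -, rfl⟩ := IsFractionRing.div_surjective (A := A) x
    rw [← mem_separableClosure_iff]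
    exact div_mem (mem_separableClosure_iff.mpr (hA a)) (mem_separableClosure_iff.mpr (hA b))
  haveI : Algebra.FormallyEtale (MvPowerSeries (Fin r) k)
      (FractionRing (MvPowerSeries (Fin r) k)) :=
    Algebra.FormallyEtale.of_isLocalization (nonZeroDivisors (MvPowerSeries (Fin r) k))
  haveI : Algebra.FormallyEtale (FractionRing (MvPowerSeries (Fin r) k)) (FractionRing A) :=
    Algebra.FormallyEtale.of_isSeparable _ _
  exact Algebra.FormallyEtale.comp (MvPowerSeries (Fin r) k)
    (FractionRing (MvPowerSeries (Fin r) k)) (FractionRing A)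

/-- every relative differential of `A` over the power series ring is torsion -/
theorem exists_smul_eq_zero [Algebra.FormallyEtale (MvPowerSeries (Fin r) k) (FractionRing A)]
    (η : Ω[A⁄MvPowerSeries (Fin r) k]) : ∃ s : A, s ≠ 0 ∧ s • η = 0 := by
  haveI : Subsingleton (Ω[FractionRing A⁄MvPowerSeries (Fin r) k]) := inferInstance
  haveI : IsLocalizedModule (nonZeroDivisors A)
      (KaehlerDifferential.map (MvPowerSeries (Fin r) k) (MvPowerSeries (Fin r) k) A
        (FractionRing A)) :=
    KaehlerDifferential.isLocalizedModule_map (MvPowerSeries (Fin r) k) A (FractionRing A)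
      (nonZeroDivisors A)
  obtain ⟨c, hc⟩ := IsLocalizedModule.exists_of_eq (S := nonZeroDivisors A)
    (f := KaehlerDifferential.map (MvPowerSeries (Fin r) k) (MvPowerSeries (Fin r) k) A
        (FractionRing A)) (x₁ := η) (x₂ := 0) (Subsingleton.elim _ _)
  refine ⟨c.1, nonZeroDivisors.ne_zero c.2, ?_⟩
  rw [smul_zero] at hc
  exact hc

/-- the functional on differentials induced by the `i`-th partial derivative -/
noncomputable def lam [Algebra.FormallyEtale (MvPowerSeries (Fin r) k) (FractionRing A)]
    (i : Fin r) : Ω[A⁄k] →ₗ[A] FractionRing A :=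
  (((LinearMap.liftBaseChange (FractionRing A)
      ((Algebra.linearMap (MvPowerSeries (Fin r) k) (FractionRing A)) ∘ₗ
        (MvPowerSeries.pderiv k i).liftKaehlerDifferential)) ∘ₗ
    (KaehlerDifferential.tensorKaehlerEquivOfFormallyEtale k (MvPowerSeries (Fin r) k)
      (FractionRing A)).symm.toLinearMap).restrictScalars A) ∘ₗ
  (KaehlerDifferential.map k k A (FractionRing A))

theorem lam_D_algebraMap [Algebra.FormallyEtale (MvPowerSeries (Fin r) k) (FractionRing A)]
    (i : Fin r) (p : MvPowerSeries (Fin r) k) :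
    lam k r A i (D k A (algebraMap (MvPowerSeries (Fin r) k) A p)) =
      algebraMap (MvPowerSeries (Fin r) k) (FractionRing A) (MvPowerSeries.pderiv k i p) := by
  unfold lam
  simp only [LinearMap.coe_comp, LinearMap.coe_restrictScalars, Function.comp_apply,
    LinearEquiv.coe_coe]
  rw [KaehlerDifferential.map_D,
    ← IsScalarTower.algebraMap_apply (MvPowerSeries (Fin r) k) A (FractionRing A),
    KaehlerDifferential.tensorKaehlerEquivOfFormallyEtale_symm_D_algebraMap,
    LinearMap.liftBaseChange_tmul, one_smul]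
  simp only [LinearMap.coe_comp, Function.comp_apply, Derivation.liftKaehlerDifferential_comp_D,
    Algebra.linearMap_apply]

end

section Main

variable (k : Type u) [Field k] (r : ℕ) (A : Type u) [CommRing A]
    [IsDomain A] [IsLocalRing A] [IsNoetherianRing A]
    [Algebra (MvPowerSeries (Fin r) k) A] [Algebra k A]
    [IsScalarTower k (MvPowerSeries (Fin r) k) A]
    [Module.Finite (MvPowerSeries (Fin r) k) A]

/-- the image of the functional `lam i` is contained in a finitely generated submodule -/
theorem exists_fg_range_lam_le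
    [Algebra.FormallyEtale (MvPowerSeries (Fin r) k) (FractionRing A)] (i : Fin r) :
    ∃ N : Submodule A (FractionRing A), N.FG ∧ LinearMap.range (lam k r A i) ≤ N := by
  obtain ⟨n, a, ha⟩ := Module.Finite.exists_fin (R := MvPowerSeries (Fin r) k) (M := A)
  let N : Submodule A (FractionRing A) :=
    Submodule.span A (insert (1 : FractionRing A) (Set.range fun j => lam k r A i (D k A (a j))))
  refine ⟨N, Submodule.fg_span ((Set.finite_range _).insert _), ?_⟩
  have h1 : ∀ (p : MvPowerSeries (Fin r) k) (x : A),
      x • algebraMap (MvPowerSeries (Fin r) k) (FractionRing A) p ∈ N := by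
    intro p x
    have h : x • algebraMap (MvPowerSeries (Fin r) k) (FractionRing A) p =
        (x * algebraMap (MvPowerSeries (Fin r) k) A p) • (1 : FractionRing A) := by
      rw [IsScalarTower.algebraMap_apply (MvPowerSeries (Fin r) k) A (FractionRing A), mul_smul,
        Algebra.smul_def (algebraMap (MvPowerSeries (Fin r) k) A p) (1 : FractionRing A), mul_one]
    rw [h]
    exact Submodule.smul_mem _ _ (Submodule.subset_span (Set.mem_insert _ _))
  have h2 : ∀ x : A, lam k r A i (D k A x) ∈ N := by
    intro x
    have hx : x ∈ Submodule.span (MvPowerSeries (Fin r) k) (Set.range a) := by rw [ha]; trivial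
    refine Submodule.span_induction (p := fun y _ => lam k r A i (D k A y) ∈ N) ?_ ?_ ?_ ?_ hx
    · rintro _ ⟨j, rfl⟩
      exact Submodule.subset_span (Set.mem_insert_of_mem _ ⟨j, rfl⟩)
    · rw [map_zero, map_zero]; exact zero_mem _
    · intro y z _ _ hy hz
      rw [map_add, map_add]; exact add_mem hy hz
    · intro p y _ hy
      rw [Algebra.smul_def, Derivation.leibniz, map_add, map_smul, map_smul, lam_D_algebraMap]
      exact add_mem (Submodule.smul_mem _ _ hy) (h1 _ _)
  rw [LinearMap.range_eq_map, ← KaehlerDifferential.span_range_derivation k A, Submodule.map_span,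
    Submodule.span_le]
  rintro _ ⟨_, ⟨x, rfl⟩, rfl⟩
  exact h2 x

/-- the functional `lam i` extends to the completed module of differentials -/
theorem exists_functional [IsAdicComplete (maximalIdeal A) A]
    [Algebra.FormallyEtale (MvPowerSeries (Fin r) k) (FractionRing A)] (i : Fin r) :
    ∃ l : AdicCompletion (maximalIdeal A) (Ω[A⁄k]) →ₗ[A] FractionRing A,
      ∀ ω, l (AdicCompletion.of (maximalIdeal A) _ ω) = lam k r A i ω := by
  obtain ⟨N, hN, hle⟩ := exists_fg_range_lam_le k r A i
  haveI : Module.Finite A N := Module.Finite.iff_fg.mpr hN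
  haveI : IsAdicComplete (maximalIdeal A) N := AdicDC.isAdicComplete_of_finite A _ N
  let lam' : Ω[A⁄k] →ₗ[A] N := (lam k r A i).codRestrict N (fun ω => hle ⟨ω, rfl⟩)
  refine ⟨N.subtype ∘ₗ (AdicCompletion.ofLinearEquiv (maximalIdeal A) N).symm.toLinearMap ∘ₗ
    (AdicCompletion.map (maximalIdeal A) lam').restrictScalars A, fun ω => ?_⟩
  simp only [LinearMap.coe_comp, LinearEquiv.coe_coe, LinearMap.coe_restrictScalars,
    Function.comp_apply]
  rw [AdicCompletion.map_of, AdicCompletion.ofLinearEquiv_symm_of]
  rfl

/-- the elements `dT_i` in the completed differentials of `A` -/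
noncomputable def w (i : Fin r) : AdicCompletion (maximalIdeal A) (Ω[A⁄k]) :=
  AdicCompletion.of _ _ (D k A (algebraMap (MvPowerSeries (Fin r) k) A (MvPowerSeries.X i)))

theorem span_tensor :
    Submodule.span A (Set.range fun i : Fin r =>
      ((1 : A) ⊗ₜ[MvPowerSeries (Fin r) k] D k (MvPowerSeries (Fin r) k) (MvPowerSeries.X i) :
        A ⊗[MvPowerSeries (Fin r) k] Ω[MvPowerSeries (Fin r) k⁄k])) ⊔
      (maximalIdeal A) • (⊤ : Submodule A
        (A ⊗[MvPowerSeries (Fin r) k] Ω[MvPowerSeries (Fin r) k⁄k])) = ⊤ := by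
  set Q : Submodule A (A ⊗[MvPowerSeries (Fin r) k] Ω[MvPowerSeries (Fin r) k⁄k]) :=
    Submodule.span A (Set.range fun i : Fin r =>
      ((1 : A) ⊗ₜ[MvPowerSeries (Fin r) k] D k (MvPowerSeries (Fin r) k) (MvPowerSeries.X i) :
        A ⊗[MvPowerSeries (Fin r) k] Ω[MvPowerSeries (Fin r) k⁄k])) ⊔
      (maximalIdeal A) • (⊤ : Submodule A
        (A ⊗[MvPowerSeries (Fin r) k] Ω[MvPowerSeries (Fin r) k⁄k])) with hQ
  have h1 : ∀ ω : Ω[MvPowerSeries (Fin r) k⁄k], (1 : A) ⊗ₜ[MvPowerSeries (Fin r) k] ω ∈ Q := by
    intro ω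
    have hω : ω ∈ Submodule.span (MvPowerSeries (Fin r) k)
        (Set.range fun i : Fin r => D k (MvPowerSeries (Fin r) k) (MvPowerSeries.X i)) ⊔
        (maximalIdeal (MvPowerSeries (Fin r) k)) •
          (⊤ : Submodule (MvPowerSeries (Fin r) k) (Ω[MvPowerSeries (Fin r) k⁄k])) := by
      rw [Groth.Agent.Helper9.PSOmega.span_D_X_sup]; trivial
    obtain ⟨u, hu, v, hv, rfl⟩ := Submodule.mem_sup.mp hω
    rw [TensorProduct.tmul_add]
    refine add_mem ?_ ?_
    · refine Submodule.span_induction
        (p := fun y _ => (1 : A) ⊗ₜ[MvPowerSeries (Fin r) k] y ∈ Q) ?_ ?_ ?_ ?_ hu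
      · rintro _ ⟨i, rfl⟩
        exact Submodule.mem_sup_left (Submodule.subset_span ⟨i, rfl⟩)
      · rw [TensorProduct.tmul_zero]; exact zero_mem _
      · intro y z _ _ hy hz
        rw [TensorProduct.tmul_add]; exact add_mem hy hz
      · intro p y _ hy
        rw [TensorProduct.tmul_smul, ← algebraMap_smul A p ((1 : A) ⊗ₜ[MvPowerSeries (Fin r) k] y)]
        exact Submodule.smul_mem _ _ hy
    · refine Submodule.smul_induction_on hv ?_ ?_
      · intro p hp y _
        rw [TensorProduct.tmul_smul, ← algebraMap_smul A p ((1 : A) ⊗ₜ[MvPowerSeries (Fin r) k] y)]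
        refine Submodule.mem_sup_right (Submodule.smul_mem_smul ?_ Submodule.mem_top)
        rw [← comap_maximalIdeal k r A] at hp
        exact hp
      · intro y z hy hz
        rw [TensorProduct.tmul_add]; exact add_mem hy hz
  rw [eq_top_iff]
  rintro t -
  induction t using TensorProduct.induction_on with
  | zero => exact zero_mem _
  | tmul a ω =>
    have h : a ⊗ₜ[MvPowerSeries (Fin r) k] ω = a • ((1 : A) ⊗ₜ[MvPowerSeries (Fin r) k] ω) := by
      rw [TensorProduct.smul_tmul', smul_eq_mul, mul_one]
    rw [h]
    exact Submodule.smul_mem _ _ (h1 ω)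
  | add x y hx hy => exact add_mem hx hy

theorem map_mapBaseChange_mem [IsAdicComplete (maximalIdeal A) A]
    (y : AdicCompletion (maximalIdeal A)
      (A ⊗[MvPowerSeries (Fin r) k] Ω[MvPowerSeries (Fin r) k⁄k])) :
    AdicCompletion.map (maximalIdeal A) (mapBaseChange k (MvPowerSeries (Fin r) k) A) y ∈
      Submodule.span A (Set.range (w k r A)) := by
  have hy : y ∈ Submodule.span A (Set.range fun i : Fin r =>
      AdicCompletion.of (maximalIdeal A) _
        ((1 : A) ⊗ₜ[MvPowerSeries (Fin r) k]
          D k (MvPowerSeries (Fin r) k) (MvPowerSeries.X i))) := by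
    rw [Groth.Agent.Helper9.AdicFin.span_of_eq_top _ _ (span_tensor k r A)]; trivial
  refine Submodule.span_induction
    (p := fun y _ => AdicCompletion.map (maximalIdeal A)
      (mapBaseChange k (MvPowerSeries (Fin r) k) A) y ∈
        Submodule.span A (Set.range (w k r A))) ?_ ?_ ?_ ?_ hy
  · rintro _ ⟨i, rfl⟩
    rw [AdicCompletion.map_of, KaehlerDifferential.mapBaseChange_tmul, one_smul,
      KaehlerDifferential.map_D]
    exact Submodule.subset_span ⟨i, rfl⟩
  · rw [map_zero]; exact zero_mem _
  · intro y z _ _ hy hz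
    rw [map_add]; exact add_mem hy hz
  · intro a y _ hy
    rw [LinearMap.map_smul_of_tower]
    exact Submodule.smul_mem _ _ hy

theorem exists_smul_mem_span [IsAdicComplete (maximalIdeal A) A]
    [Algebra.FormallyEtale (MvPowerSeries (Fin r) k) (FractionRing A)]
    (ω : AdicCompletion (maximalIdeal A) (Ω[A⁄k])) :
    ∃ s : A, s ≠ 0 ∧ s • ω ∈ Submodule.span A (Set.range (w k r A)) := by
  haveI := finite_residueField k r A
  haveI : Module.Finite (ResidueField A) (Ω[ResidueField A⁄k]) := inferInstance
  obtain ⟨hc, -, hker⟩ := Groth.Agent.Helper11.KaehlerCompl.S5991_statement k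
    (MvPowerSeries (Fin r) k) A
  haveI := hc
  obtain ⟨η, hη⟩ := AdicCompletion.of_surjective (maximalIdeal A) (Ω[A⁄MvPowerSeries (Fin r) k])
    (AdicCompletion.map (maximalIdeal A)
      (KaehlerDifferential.map k (MvPowerSeries (Fin r) k) A A) ω)
  obtain ⟨s, hs0, hs⟩ := exists_smul_eq_zero k r A η
  refine ⟨s, hs0, ?_⟩
  have h1 : s • ω ∈ LinearMap.ker (AdicCompletion.map (maximalIdeal A)
      (KaehlerDifferential.map k (MvPowerSeries (Fin r) k) A A)) := by
    rw [LinearMap.mem_ker, LinearMap.map_smul_of_tower, ← hη, ← map_smul, hs, map_zero]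
  rw [← hker] at h1
  obtain ⟨y, hy⟩ := h1
  rw [← hy]
  exact map_mapBaseChange_mem k r A y

end Main

theorem S4557_statement (k : Type u) [Field k] (r : ℕ) (A : Type u) [CommRing A]
    [IsDomain A] [IsLocalRing A] [IsNoetherianRing A] [IsAdicComplete (maximalIdeal A) A]
    [Algebra (MvPowerSeries (Fin r) k) A] [Algebra k A]
    [IsScalarTower k (MvPowerSeries (Fin r) k) A]
    (hinj : Function.Injective (algebraMap (MvPowerSeries (Fin r) k) A))
    [Module.Finite (MvPowerSeries (Fin r) k) A]
    (hsep : ∀ a : A, ∃ P : Polynomial (MvPowerSeries (Fin r) k), Polynomial.aeval a P = 0 ∧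
      (P.map (algebraMap (MvPowerSeries (Fin r) k)
        (FractionRing (MvPowerSeries (Fin r) k)))).Separable) :
    Module.finrank (FractionRing A)
      (FractionRing A ⊗[A] AdicCompletion (maximalIdeal A) (Ω[A⁄k])) = r := by
  haveI := faithfulSMul_fractionRing k r A hinj
  haveI := formallyEtale_fractionRing k r A hsep
  choose l hl using fun i => exists_functional k r A i
  let ε : Fin r → FractionRing A ⊗[A] AdicCompletion (maximalIdeal A) (Ω[A⁄k]) :=
    fun i => (1 : FractionRing A) ⊗ₜ[A] w k r A i
  have hδ : ∀ i j, l i (w k r A j) = if j = i then 1 else 0 := by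
    intro i j
    unfold w
    rw [hl, lam_D_algebraMap]
    split_ifs with h
    · subst h; rw [MvPowerSeries.pderiv_X_self, map_one]
    · rw [MvPowerSeries.pderiv_X_of_ne h, map_zero]
  have hli : LinearIndependent (FractionRing A) ε := by
    rw [Fintype.linearIndependent_iff]
    intro c hc i
    have h := congrArg (LinearMap.liftBaseChange (FractionRing A) (l i)) hc
    rw [map_sum, map_zero] at h
    simp only [map_smul, ε, LinearMap.liftBaseChange_tmul, one_smul, hδ, smul_eq_mul, mul_ite,
      mul_one, mul_zero, Finset.sum_ite_eq', Finset.mem_univ, if_true] at h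
    exact h
  have hsp : ⊤ ≤ Submodule.span (FractionRing A) (Set.range ε) := by
    rintro t -
    induction t using TensorProduct.induction_on with
    | zero => exact zero_mem _
    | tmul x ω =>
      obtain ⟨s, hs0, hs⟩ := exists_smul_mem_span k r A ω
      have hs' : algebraMap A (FractionRing A) s ≠ 0 := by
        rw [Ne, IsFractionRing.to_map_eq_zero_iff]
        exact hs0
      have h1 : x ⊗ₜ[A] ω = (x * (algebraMap A (FractionRing A) s)⁻¹) ⊗ₜ[A] (s • ω) := by
        rw [TensorProduct.tmul_smul, TensorProduct.smul_tmul', Algebra.smul_def]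
        congr 1
        field_simp
      rw [h1]
      refine Submodule.span_induction
        (p := fun y _ => (x * (algebraMap A (FractionRing A) s)⁻¹) ⊗ₜ[A] y ∈
          Submodule.span (FractionRing A) (Set.range ε)) ?_ ?_ ?_ ?_ hs
      · rintro _ ⟨i, rfl⟩
        have h2 : (x * (algebraMap A (FractionRing A) s)⁻¹) ⊗ₜ[A] w k r A i =
            (x * (algebraMap A (FractionRing A) s)⁻¹) • ε i := by
          rw [TensorProduct.smul_tmul', smul_eq_mul, mul_one]
        rw [h2]
        exact Submodule.smul_mem _ _ (Submodule.subset_span ⟨i, rfl⟩)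
      · rw [TensorProduct.tmul_zero]; exact zero_mem _
      · intro y z _ _ hy hz
        rw [TensorProduct.tmul_add]; exact add_mem hy hz
      · intro a y _ hy
        rw [TensorProduct.tmul_smul, ← algebraMap_smul (FractionRing A) a
          ((x * (algebraMap A (FractionRing A) s)⁻¹) ⊗ₜ[A] y)]
        exact Submodule.smul_mem _ _ hy
    | add x y hx hy => exact add_mem hx hy
  rw [Module.finrank_eq_card_basis (Module.Basis.mk hli hsp), Fintype.card_fin]

end Groth.Agent.Helper11.KaehlerRank
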