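import Mathlib
import Groth.Agent.Lib.Helper11.KaehlerCompl

set_option autoImplicit false

namespace Groth.Agent.Helper11.KaehlerUnits

universe u
open IsLocalRing TensorProduct KaehlerDifferential

section Core

variable {A : Type*} [CommRing A] [IsLocalRing A] {κ : Type*} [Field κ] (ρ : A →+* κ)
  {V : Type*} [AddCommGroup V] [Module κ V]
  (δ : A → V) (hadd : ∀ a b : A, δ (a + b) = δ a + δ b)
  (hmul : ∀ a b : A, δ (a * b) = ρ a • δ b + ρ b • δ a)

include hmul in
theorem delta_one : δ 1 = 0 := by
  have h := hmul 1 1
  rw [one_mul, map_one, one_smul] at h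
  exact left_eq_add.mp h

include hadd hmul in
theorem exists_unit_notMem (hspan : Submodule.span κ (Set.range δ) = ⊤) (W : Submodule κ V)
    (hW : W ≠ ⊤) (x : A) (hx : ρ x ≠ 0) : ∃ u : Aˣ, δ ((u : A) * x) ∉ W := by
  by_contra hcon
  push Not at hcon
  apply hW
  rw [eq_top_iff, ← hspan, Submodule.span_le]
  have hx1 : δ x ∈ W := by simpa using hcon 1
  have hunit : ∀ u : Aˣ, δ (u : A) ∈ W := by
    intro u
    have h1 := hcon u
    rw [hmul] at h1
    have h2 : ρ (u : A) • δ x ∈ W := W.smul_mem _ hx1
    have h3 : ρ x • δ (u : A) ∈ W := (Submodule.add_mem_iff_right W h2).mp h1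
    have h4 := W.smul_mem (ρ x)⁻¹ h3
    rwa [smul_smul, inv_mul_cancel₀ hx, one_smul] at h4
  rintro _ ⟨a, rfl⟩
  by_cases ha : IsUnit a
  · obtain ⟨u, rfl⟩ := ha
    exact hunit u
  · have h1 : IsUnit (1 + a) := by
      have h2 : IsUnit ((1 + a) + (-a)) := by
        rw [add_neg_cancel_right]; exact isUnit_one
      rcases IsLocalRing.isUnit_or_isUnit_of_isUnit_add h2 with h | h
      · exact h
      · exact absurd ((IsUnit.neg_iff a).mp h) ha
    obtain ⟨u, hu⟩ := h1
    have h2 := hunit u
    rw [hu, hadd, delta_one ρ δ hmul, zero_add] at h2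
    exact h2

include hadd hmul in
theorem exists_units_linearIndependent [FiniteDimensional κ V]
    (hspan : Submodule.span κ (Set.range δ) = ⊤) :
    ∀ (n : ℕ) (x : Fin n → A), (∀ i, ρ (x i) ≠ 0) → n ≤ Module.finrank κ V →
      ∃ u : Fin n → Aˣ, LinearIndependent κ (fun i => δ ((u i : A) * x i)) := by
  intro n
  induction n with
  | zero =>
    intro x _ _
    exact ⟨fun _ => 1, linearIndependent_empty_type⟩
  | succ n ih =>
    intro x hx hn
    obtain ⟨u', hu'⟩ := ih (fun i => x i.castSucc) (fun i => hx _) (Nat.le_of_succ_le hn)
    have hW : Submodule.span κ (Set.range fun i : Fin n => δ ((u' i : A) * x i.castSucc)) ≠ ⊤ := by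
      intro h
      have h1 := finrank_range_le_card (R := κ)
        (b := fun i : Fin n => δ ((u' i : A) * x i.castSucc))
      rw [Set.finrank, h, finrank_top, Fintype.card_fin] at h1
      omega
    obtain ⟨u₀, hu₀⟩ := exists_unit_notMem ρ δ hadd hmul hspan _ hW (x (Fin.last n)) (hx _)
    refine ⟨Fin.snoc (α := fun _ => Aˣ) u' u₀, ?_⟩
    have h2 : (fun i : Fin (n + 1) =>
        δ (((Fin.snoc (α := fun _ => Aˣ) u' u₀ : Fin (n + 1) → Aˣ) i : A) * x i)) =
        Fin.snoc (α := fun _ => V) (fun i : Fin n => δ ((u' i : A) * x i.castSucc))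
          (δ ((u₀ : A) * x (Fin.last n))) := by
      funext i
      refine Fin.lastCases ?_ (fun j => ?_) i
      · simp
      · simp
    rw [h2, linearIndependent_finSnoc]
    exact ⟨hu', hu₀⟩

end Core

section Nakayama

variable {R : Type*} [CommRing R] [IsLocalRing R] {M : Type*} [AddCommGroup M] [Module R M]
  [Module.Finite R M]

theorem span_eq_top_iff_residue (s : Set M) :
    Submodule.span R s = ⊤ ↔
      Submodule.span (ResidueField R) (TensorProduct.mk R (ResidueField R) M 1 '' s) = ⊤ := by
  rw [← IsLocalRing.map_tensorProduct_mk_eq_top, Submodule.map_span,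
    ← Submodule.restrictScalars_span R (ResidueField R) Ideal.Quotient.mk_surjective,
    Submodule.restrictScalars_eq_top_iff]

end Nakayama

section Kaehler

variable (k A : Type u) [Field k] [CommRing A] [IsLocalRing A] [IsNoetherianRing A] [Algebra k A]
  [IsAdicComplete (maximalIdeal A) A] [Module.Finite k (ResidueField A)]

theorem finite_completedKaehler :
    Module.Finite A (AdicCompletion (maximalIdeal A) (Ω[A⁄k])) := by
  haveI : Module.Finite (ResidueField A) (Ω[ResidueField A⁄k]) := inferInstance
  haveI := KaehlerCompl.finite_kaehler_quot k A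
  exact KaehlerCompl.finite_adicCompletion _ _

theorem span_of_D :
    Submodule.span A (Set.range fun a : A =>
      AdicCompletion.of (maximalIdeal A) (Ω[A⁄k]) (D k A a)) = ⊤ := by
  haveI := finite_completedKaehler k A
  rw [eq_top_iff]
  rintro y -
  refine KaehlerCompl.mem_of_forall_exists_sub_mem _ y (fun n => ?_)
  obtain ⟨x, hx⟩ := Submodule.mkQ_surjective _
    (AdicCompletion.eval (maximalIdeal A) (Ω[A⁄k]) n y)
  refine ⟨AdicCompletion.of _ _ x, ?_, ?_⟩
  · have hx' : x ∈ Submodule.span A (Set.range (D k A)) := by
      rw [span_range_derivation]; trivial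
    have h := Submodule.mem_map_of_mem (f := AdicCompletion.of (maximalIdeal A) (Ω[A⁄k])) hx'
    rw [Submodule.map_span, ← Set.range_comp] at h
    exact h
  · rw [AdicCompletion.pow_smul_top_eq_ker_eval (IsNoetherian.noetherian _), LinearMap.mem_ker,
      map_sub, AdicCompletion.eval_of, hx, sub_self]

end Kaehler

theorem S5080_statement (k A : Type u) [Field k] [CommRing A]
    [IsLocalRing A] [IsNoetherianRing A] [Algebra k A]
    [IsAdicComplete (IsLocalRing.maximalIdeal A) A]
    [Module.Finite k (IsLocalRing.ResidueField A)] (p : Ideal A) [p.IsPrime]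
    (M : ℕ)
    (hgen : ∃ s : Fin M → (LocalizedModule p.primeCompl
      (AdicCompletion (IsLocalRing.maximalIdeal A) (KaehlerDifferential k A))),
      Submodule.span (Localization.AtPrime p) (Set.range s) = ⊤)
    (hmin : ∀ (s : Finset (LocalizedModule p.primeCompl
      (AdicCompletion (IsLocalRing.maximalIdeal A) (KaehlerDifferential k A)))),
      Submodule.span (Localization.AtPrime p) (↑s : Set (LocalizedModule p.primeCompl
        (AdicCompletion (IsLocalRing.maximalIdeal A) (KaehlerDifferential k A)))) = ⊤ → M ≤ s.card)
    (x : Fin M → A) (hx : ∀ i, x i ∉ p) :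
    ∃ u : Fin M → Aˣ, Submodule.span (Localization.AtPrime p)
      (Set.range (fun i => LocalizedModule.mkLinearMap p.primeCompl
        (AdicCompletion (IsLocalRing.maximalIdeal A) (KaehlerDifferential k A))
        (AdicCompletion.of (IsLocalRing.maximalIdeal A) (KaehlerDifferential k A)
          (KaehlerDifferential.D k A ((u i : A) * x i))))) = ⊤ := by
  classical
  haveI := finite_completedKaehler k A
  -- the fibre and the derivation into it
  let ρ : A →+* ResidueField (Localization.AtPrime p) :=
    (IsLocalRing.residue (Localization.AtPrime p)).comp (algebraMap A (Localization.AtPrime p))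
  let φ := TensorProduct.mk (Localization.AtPrime p) (ResidueField (Localization.AtPrime p))
    (LocalizedModule p.primeCompl
      (AdicCompletion (IsLocalRing.maximalIdeal A) (KaehlerDifferential k A))) 1
  let g : A → LocalizedModule p.primeCompl
      (AdicCompletion (IsLocalRing.maximalIdeal A) (KaehlerDifferential k A)) := fun a =>
    LocalizedModule.mkLinearMap p.primeCompl
      (AdicCompletion (IsLocalRing.maximalIdeal A) (KaehlerDifferential k A))
      (AdicCompletion.of (IsLocalRing.maximalIdeal A) (KaehlerDifferential k A)
        (KaehlerDifferential.D k A a))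
  let δ : A → (ResidueField (Localization.AtPrime p)) ⊗[Localization.AtPrime p]
      (LocalizedModule p.primeCompl
        (AdicCompletion (IsLocalRing.maximalIdeal A) (KaehlerDifferential k A))) :=
    fun a => φ (g a)
  have hadd : ∀ a b : A, δ (a + b) = δ a + δ b := by
    intro a b
    simp only [δ, g, map_add]
  have hsm : ∀ (a : A) (y : LocalizedModule p.primeCompl
      (AdicCompletion (IsLocalRing.maximalIdeal A) (KaehlerDifferential k A))),
      φ (a • y) = ρ a • φ y := by
    intro a y
    rw [← algebraMap_smul (Localization.AtPrime p) a y]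
    simp only [φ, TensorProduct.mk_apply]
    rw [← TensorProduct.smul_tmul, TensorProduct.smul_tmul', Algebra.smul_def, mul_one,
      smul_eq_mul, mul_one]
    rfl
  have hmul : ∀ a b : A, δ (a * b) = ρ a • δ b + ρ b • δ a := by
    intro a b
    have e1 : g (a * b) = a • g b + b • g a := by
      simp only [g]
      rw [Derivation.leibniz, map_add, map_smul, map_smul, map_add, map_smul, map_smul]
    simp only [δ]
    rw [e1, map_add, hsm, hsm]
  -- the differentials span the fibre
  have hspan : Submodule.span (ResidueField (Localization.AtPrime p)) (Set.range δ) = ⊤ := by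
    have h1 := span_of_D k A
    have h2 := span_eq_top_of_isLocalizedModule (Localization.AtPrime p) p.primeCompl
      (LocalizedModule.mkLinearMap p.primeCompl
        (AdicCompletion (IsLocalRing.maximalIdeal A) (KaehlerDifferential k A))) h1
    rw [span_eq_top_iff_residue, ← Set.range_comp, ← Set.range_comp] at h2
    exact h2
  -- the dimension of the fibre is `M`
  have hle : Module.finrank (ResidueField (Localization.AtPrime p))
      ((ResidueField (Localization.AtPrime p)) ⊗[Localization.AtPrime p]
      (LocalizedModule p.primeCompl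
        (AdicCompletion (IsLocalRing.maximalIdeal A) (KaehlerDifferential k A)))) ≤ M := by
    obtain ⟨s, hs⟩ := hgen
    rw [span_eq_top_iff_residue, ← Set.range_comp] at hs
    have h1 := finrank_range_le_card (R := ResidueField (Localization.AtPrime p))
      (b := (TensorProduct.mk (Localization.AtPrime p) (ResidueField (Localization.AtPrime p))
        (LocalizedModule p.primeCompl
          (AdicCompletion (IsLocalRing.maximalIdeal A) (KaehlerDifferential k A))) 1) ∘ s)
    rw [Set.finrank, hs, finrank_top, Fintype.card_fin] at h1
    exact h1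
  have hge : M ≤ Module.finrank (ResidueField (Localization.AtPrime p))
      ((ResidueField (Localization.AtPrime p)) ⊗[Localization.AtPrime p]
      (LocalizedModule p.primeCompl
        (AdicCompletion (IsLocalRing.maximalIdeal A) (KaehlerDifferential k A)))) := by
    let b := Module.finBasis (ResidueField (Localization.AtPrime p))
      ((ResidueField (Localization.AtPrime p)) ⊗[Localization.AtPrime p]
      (LocalizedModule p.primeCompl
        (AdicCompletion (IsLocalRing.maximalIdeal A) (KaehlerDifferential k A))))
    choose y hy using fun j => TensorProduct.mk_surjective (Localization.AtPrime p)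
      (LocalizedModule p.primeCompl
        (AdicCompletion (IsLocalRing.maximalIdeal A) (KaehlerDifferential k A)))
      (ResidueField (Localization.AtPrime p))
      IsLocalRing.residue_surjective (b j)
    have h1 : Submodule.span (Localization.AtPrime p) (Set.range y) = ⊤ := by
      rw [span_eq_top_iff_residue, ← Set.range_comp]
      have h2 : (TensorProduct.mk (Localization.AtPrime p) (ResidueField (Localization.AtPrime p))
        (LocalizedModule p.primeCompl
          (AdicCompletion (IsLocalRing.maximalIdeal A) (KaehlerDifferential k A))) 1) ∘ y = b := by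
        funext j
        exact hy j
      rw [h2]
      exact b.span_eq
    have h3 := hmin (Finset.univ.image y) (by
      rw [Finset.coe_image, Finset.coe_univ, Set.image_univ]
      exact h1)
    refine h3.trans (Finset.card_image_le.trans ?_)
    rw [Finset.card_univ, Fintype.card_fin]
  have hρx : ∀ i, ρ (x i) ≠ 0 := by
    intro i
    have h1 : IsUnit (algebraMap A (Localization.AtPrime p) (x i)) :=
      IsLocalization.map_units (Localization.AtPrime p) (⟨x i, hx i⟩ : p.primeCompl)
    exact ((IsLocalRing.residue (Localization.AtPrime p)).isUnit_map h1).ne_zero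
  obtain ⟨u, hu⟩ := exists_units_linearIndependent ρ δ hadd hmul hspan M x hρx hge
  refine ⟨u, ?_⟩
  have h4 := hu.span_eq_top_of_card_eq_finrank' (by
    rw [Fintype.card_fin]; exact le_antisymm hge hle)
  rw [span_eq_top_iff_residue, ← Set.range_comp]
  exact h4

end Groth.Agent.Helper11.KaehlerUnits
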