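import Mathlib
import Groth.Agent.Lib.Helper11.DerExt
import Groth.Agent.Lib.Helper11.KaehlerRank
import Groth.Agent.Lib.Helper11.KaehlerUnits

set_option autoImplicit false

namespace Groth.Agent.Helper11.KaehlerGen

universe u
open IsLocalRing TensorProduct KaehlerDifferential

section Sum

theorem der_sum_apply {R F M ι : Type*} [CommRing R] [CommRing F] [Algebra R F] [AddCommGroup M]
    [Module F M] [Module R M] (s : Finset ι) (D : ι → Derivation R F M) (a : F) :
    (∑ i ∈ s, D i) a = ∑ i ∈ s, D i a := by
  classical
  induction s using Finset.induction_on with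
  | empty => simp
  | insert i s hi ih => rw [Finset.sum_insert hi, Finset.sum_insert hi, Derivation.add_apply, ih]

end Sum

section Base

variable (k : Type u) [Field k] (n : ℕ) (L K : Type u) [Field L] [Field K]
  [Algebra (MvPowerSeries (Fin n) k) L] [IsFractionRing (MvPowerSeries (Fin n) k) L]
  [Algebra k L] [IsScalarTower k (MvPowerSeries (Fin n) k) L]
  [Algebra (MvPowerSeries (Fin n) k) K] [Algebra k K]
  [Algebra L K] [IsScalarTower (MvPowerSeries (Fin n) k) L K] [IsScalarTower k L K]

/-- the functional on differentials of the fraction field of the power series ring induced by the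
`i`-th partial derivative, with values in `K` -/
noncomputable def lamL (i : Fin n) : Ω[L⁄k] →ₗ[L] K :=
  haveI : Algebra.FormallyEtale (MvPowerSeries (Fin n) k) L :=
    Algebra.FormallyEtale.of_isLocalization (nonZeroDivisors (MvPowerSeries (Fin n) k))
  (LinearMap.liftBaseChange L
      ((Algebra.linearMap (MvPowerSeries (Fin n) k) K) ∘ₗ
        (MvPowerSeries.pderiv k i).liftKaehlerDifferential)) ∘ₗ
    (KaehlerDifferential.tensorKaehlerEquivOfFormallyEtale k (MvPowerSeries (Fin n) k)
      L).symm.toLinearMap

theorem lamL_D_algebraMap (i : Fin n) (p : MvPowerSeries (Fin n) k) :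
    lamL k n L K i (D k L (algebraMap (MvPowerSeries (Fin n) k) L p)) =
      algebraMap (MvPowerSeries (Fin n) k) K (MvPowerSeries.pderiv k i p) := by
  haveI : Algebra.FormallyEtale (MvPowerSeries (Fin n) k) L :=
    Algebra.FormallyEtale.of_isLocalization (nonZeroDivisors (MvPowerSeries (Fin n) k))
  unfold lamL
  simp only [LinearMap.coe_comp, Function.comp_apply, LinearEquiv.coe_coe]
  rw [KaehlerDifferential.tensorKaehlerEquivOfFormallyEtale_symm_D_algebraMap,
    LinearMap.liftBaseChange_tmul, one_smul]
  simp only [LinearMap.coe_comp, Function.comp_apply, Derivation.liftKaehlerDifferential_comp_D,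
    Algebra.linearMap_apply]

/-- the `i`-th partial derivative as a derivation from the fraction field of the power series
ring to `K` -/
noncomputable def dL (i : Fin n) : Derivation ℤ L K :=
  ((lamL k n L K i).compDer (D k L)).restrictScalars ℤ

theorem dL_algebraMap (i : Fin n) (p : MvPowerSeries (Fin n) k) :
    dL k n L K i (algebraMap (MvPowerSeries (Fin n) k) L p) =
      algebraMap (MvPowerSeries (Fin n) k) K (MvPowerSeries.pderiv k i p) :=
  lamL_D_algebraMap k n L K i p

theorem dL_algebraMap_base (i : Fin n) (c : k) :
    dL k n L K i (algebraMap k L c) = 0 := by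
  show ((lamL k n L K i).compDer (D k L)) (algebraMap k L c) = 0
  exact Derivation.map_algebraMap _ c

theorem linearIndependent_dL : LinearIndependent K (dL k n L K) := by
  classical
  rw [Fintype.linearIndependent_iff]
  intro c hc j
  have h := DFunLike.congr_fun hc (algebraMap (MvPowerSeries (Fin n) k) L (MvPowerSeries.X j))
  rw [der_sum_apply] at h
  simp only [Derivation.smul_apply, dL_algebraMap, Derivation.coe_zero, Pi.zero_apply] at h
  rw [Finset.sum_eq_single j] at h
  · rw [MvPowerSeries.pderiv_X_self, map_one, smul_eq_mul, mul_one] at h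
    exact h
  · intro i _ hij
    rw [MvPowerSeries.pderiv_X_of_ne (Ne.symm hij), map_zero, smul_zero]
  · intro hj
    exact absurd (Finset.mem_univ j) hj

end Base

section Frac

/-- a derivation of the fraction field vanishing on `A` vanishes -/
theorem der_eq_zero_of_forall {A K : Type u} [CommRing A] [IsDomain A] [Field K] [Algebra A K]
    [IsFractionRing A K] (D : Derivation ℤ K K)
    (h : ∀ a : A, D (algebraMap A K a) = 0) : D = 0 := by
  ext y
  obtain ⟨a, b, hb, rfl⟩ := IsFractionRing.div_surjective (A := A) y
  have hb0 : algebraMap A K b ≠ 0 :=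
    IsFractionRing.to_map_ne_zero_of_mem_nonZeroDivisors hb
  have h1 : D (algebraMap A K a / algebraMap A K b * algebraMap A K b) = 0 := by
    rw [div_mul_cancel₀ _ hb0]
    exact h a
  rw [Derivation.leibniz, h b, smul_zero, zero_add, smul_eq_mul] at h1
  exact (mul_eq_zero.1 h1).resolve_left hb0

/-- restriction to `A` of a derivation of the fraction field killing the base field -/
theorem exists_derivation (k : Type u) [Field k] {A K : Type u} [CommRing A] [IsDomain A]
    [Algebra k A] [Field K] [Algebra A K] [Algebra k K] [IsScalarTower k A K]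
    (D : Derivation ℤ K K) (hk : ∀ c : k, D (algebraMap k K c) = 0) :
    ∃ DA : Derivation k A K, ∀ a, DA a = D (algebraMap A K a) := by
  refine ⟨Derivation.mk'
    { toFun := fun a => D (algebraMap A K a)
      map_add' := fun a b => by rw [map_add, map_add]
      map_smul' := fun c a => by
        rw [Algebra.smul_def, map_mul, ← IsScalarTower.algebraMap_apply k A K,
          Derivation.leibniz, hk, smul_zero, add_zero, smul_eq_mul, RingHom.id_apply,
          Algebra.smul_def] } ?_, fun a => rfl⟩
  intro a b
  show D (algebraMap A K (a * b)) = a • D (algebraMap A K b) + b • D (algebraMap A K a)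
  rw [map_mul, Derivation.leibniz, smul_eq_mul, smul_eq_mul, Algebra.smul_def a,
    Algebra.smul_def b]

end Frac

section Cont

variable (k : Type u) [Field k] (n : ℕ) (A : Type u) [CommRing A]
    [IsDomain A] [IsLocalRing A] [IsNoetherianRing A]
    [Algebra (MvPowerSeries (Fin n) k) A] [Algebra k A]
    [IsScalarTower k (MvPowerSeries (Fin n) k) A]
    [Module.Finite (MvPowerSeries (Fin n) k) A]
    (K : Type u) [Field K] [Algebra A K] [Algebra k K] [IsScalarTower k A K]

/-- a derivation of `A` into its fraction field which on the power series subring is a combination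
of the partial derivatives has image in a finitely generated submodule -/
theorem exists_finite_span (DA : Derivation k A K) (lam : Fin n → K)
    (hres : ∀ p : MvPowerSeries (Fin n) k, DA (algebraMap (MvPowerSeries (Fin n) k) A p) =
      ∑ i, lam i * algebraMap A K
        (algebraMap (MvPowerSeries (Fin n) k) A (MvPowerSeries.pderiv k i p))) :
    ∃ s : Set K, s.Finite ∧ ∀ x : A, DA x ∈ Submodule.span A s := by
  obtain ⟨r, e, he⟩ := Module.Finite.exists_fin (R := MvPowerSeries (Fin n) k) (M := A)
  refine ⟨Set.range lam ∪ Set.range fun j => DA (e j),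
    (Set.finite_range _).union (Set.finite_range _), ?_⟩
  set N : Submodule A K :=
    Submodule.span A (Set.range lam ∪ Set.range fun j => DA (e j)) with hN
  have h1 : ∀ (p : MvPowerSeries (Fin n) k) (x : A),
      x • DA (algebraMap (MvPowerSeries (Fin n) k) A p) ∈ N := by
    intro p x
    rw [hres, Finset.smul_sum]
    refine Submodule.sum_mem _ (fun i _ => ?_)
    have h : x • (lam i * algebraMap A K
        (algebraMap (MvPowerSeries (Fin n) k) A (MvPowerSeries.pderiv k i p))) =
        (x * algebraMap (MvPowerSeries (Fin n) k) A (MvPowerSeries.pderiv k i p)) • lam i := by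
      rw [Algebra.smul_def, Algebra.smul_def, map_mul]
      ring
    rw [h]
    exact Submodule.smul_mem _ _ (Submodule.subset_span (Or.inl ⟨i, rfl⟩))
  intro x
  have hx : x ∈ Submodule.span (MvPowerSeries (Fin n) k) (Set.range e) := by rw [he]; trivial
  refine Submodule.span_induction (p := fun y _ => DA y ∈ N) ?_ ?_ ?_ ?_ hx
  · rintro _ ⟨j, rfl⟩
    exact Submodule.subset_span (Or.inr ⟨j, rfl⟩)
  · rw [map_zero]; exact zero_mem _
  · intro y z _ _ hy hz
    rw [map_add]; exact add_mem hy hz
  · intro p y _ hy
    rw [Algebra.smul_def, Derivation.leibniz]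
    exact add_mem (Submodule.smul_mem _ _ hy) (h1 _ _)

omit [IsDomain A] in
/-- a linear functional on differentials with values in a finitely generated submodule of the
fraction field extends to the completed module of differentials -/
theorem exists_functional' [IsAdicComplete (maximalIdeal A) A]
    (lam : Ω[A⁄k] →ₗ[A] K)
    (hlam : ∃ N : Submodule A K, N.FG ∧ LinearMap.range lam ≤ N) :
    ∃ l : AdicCompletion (maximalIdeal A) (Ω[A⁄k]) →ₗ[A] K,
      ∀ ω, l (AdicCompletion.of (maximalIdeal A) _ ω) = lam ω := by
  obtain ⟨N, hN, hle⟩ := hlam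
  haveI : Module.Finite A N := Module.Finite.iff_fg.mpr hN
  haveI : IsAdicComplete (maximalIdeal A) N := AdicDC.isAdicComplete_of_finite A _ N
  let lam' : Ω[A⁄k] →ₗ[A] N := lam.codRestrict N (fun ω => hle ⟨ω, rfl⟩)
  refine ⟨N.subtype ∘ₗ (AdicCompletion.ofLinearEquiv (maximalIdeal A) N).symm.toLinearMap ∘ₗ
    (AdicCompletion.map (maximalIdeal A) lam').restrictScalars A, fun ω => ?_⟩
  simp only [LinearMap.coe_comp, LinearEquiv.coe_coe, LinearMap.coe_restrictScalars,
    Function.comp_apply]
  rw [AdicCompletion.map_of, AdicCompletion.ofLinearEquiv_symm_of]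
  rfl

end Cont

section Main

variable (k : Type u) [Field k] (n : ℕ) (A : Type u) [CommRing A]
    [IsDomain A] [IsLocalRing A] [IsNoetherianRing A]
    [Algebra (MvPowerSeries (Fin n) k) A] [Algebra k A]
    [IsScalarTower k (MvPowerSeries (Fin n) k) A]
    [Module.Finite (MvPowerSeries (Fin n) k) A]

/-- Let `B` be a complete Noetherian local `k`-algebra with residue field finite over `k`, and
`B → A` a surjection onto a domain which is finite and injective over a power series ring in `n`
variables, with fraction field `K`. Then `K ⊗_B Ω̂_{B/k}` has dimension at least `n`. -/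
theorem le_finrank_of_surjective (B : Type u) [CommRing B] [IsLocalRing B] [IsNoetherianRing B]
    [IsAdicComplete (maximalIdeal B) B] [Algebra k B] [Module.Finite k (ResidueField B)]
    [Algebra B A] [IsScalarTower k B A] (hsurj : Function.Surjective (algebraMap B A))
    (L K : Type u) [Field L] [Field K]
    [Algebra (MvPowerSeries (Fin n) k) L] [IsFractionRing (MvPowerSeries (Fin n) k) L]
    [Algebra k L] [IsScalarTower k (MvPowerSeries (Fin n) k) L]
    [Algebra A K] [IsFractionRing A K] [Algebra k K] [IsScalarTower k A K]
    [Algebra (MvPowerSeries (Fin n) k) K] [IsScalarTower (MvPowerSeries (Fin n) k) A K]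
    [Algebra L K] [IsScalarTower (MvPowerSeries (Fin n) k) L K]
    [Algebra B K] [IsScalarTower B A K]
    (hinj : Function.Injective (algebraMap (MvPowerSeries (Fin n) k) A)) :
    n ≤ Module.finrank K (K ⊗[B] AdicCompletion (maximalIdeal B) (Ω[B⁄k])) := by
  classical
  haveI : IsScalarTower k (MvPowerSeries (Fin n) k) K := by
    refine IsScalarTower.of_algebraMap_eq (fun c => ?_)
    rw [IsScalarTower.algebraMap_apply k A K,
      IsScalarTower.algebraMap_apply k (MvPowerSeries (Fin n) k) A,
      ← IsScalarTower.algebraMap_apply (MvPowerSeries (Fin n) k) A K]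
  haveI : IsScalarTower k L K := by
    refine IsScalarTower.of_algebraMap_eq (fun c => ?_)
    rw [IsScalarTower.algebraMap_apply k (MvPowerSeries (Fin n) k) K,
      IsScalarTower.algebraMap_apply (MvPowerSeries (Fin n) k) L K,
      ← IsScalarTower.algebraMap_apply k (MvPowerSeries (Fin n) k) L]
  haveI : IsScalarTower k B K := by
    refine IsScalarTower.of_algebraMap_eq (fun c => ?_)
    rw [IsScalarTower.algebraMap_apply k A K, IsScalarTower.algebraMap_apply k B A,
      ← IsScalarTower.algebraMap_apply B A K]
  haveI : FaithfulSMul (MvPowerSeries (Fin n) k) A :=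
    (faithfulSMul_iff_algebraMap_injective _ _).2 hinj
  haveI : Algebra.IsIntegral (MvPowerSeries (Fin n) k) A := inferInstance
  haveI : Algebra.IsAlgebraic (MvPowerSeries (Fin n) k) A := inferInstance
  haveI : FiniteDimensional L K :=
    Module.Finite.of_isLocalization (MvPowerSeries (Fin n) k) A
      (nonZeroDivisors (MvPowerSeries (Fin n) k))
  haveI := KaehlerUnits.finite_completedKaehler k B
  -- the subspace of derivations on the fraction field of the power series ring
  let S₀ : Submodule K (Derivation ℤ L K) := Submodule.span K (Set.range (dL k n L K))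
  have h1 : (n : Cardinal.{u}) ≤ Module.rank K S₀ := by
    have hli : LinearIndependent K
        (fun i => (⟨dL k n L K i, Submodule.subset_span ⟨i, rfl⟩⟩ : S₀)) := by
      apply LinearIndependent.of_comp S₀.subtype
      exact linearIndependent_dL k n L K
    have := hli.cardinal_lift_le_rank
    simpa using this
  have h2 := h1.trans (DerExt.rank_le_comap_resLin S₀)
  obtain ⟨Ds, hDs⟩ := exists_linearIndependent_of_le_rank h2
  have key : ∀ Dv : Derivation ℤ K K, DerExt.resLin L K K Dv ∈ S₀ →
      ∃ ℓ : (K ⊗[B] AdicCompletion (maximalIdeal B) (Ω[B⁄k])) →ₗ[K] K, ∀ b : B,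
          ℓ ((1 : K) ⊗ₜ[B] AdicCompletion.of (maximalIdeal B) (Ω[B⁄k])
            (KaehlerDifferential.D k B b)) = Dv (algebraMap B K b) := by
    intro Dv hD
    obtain ⟨c, hc⟩ := (Submodule.mem_span_range_iff_exists_fun _).1 hD
    have hD1 : ∀ y : L, Dv (algebraMap L K y) = ∑ i, c i * dL k n L K i y := by
      intro y
      have h := DFunLike.congr_fun hc y
      rw [der_sum_apply] at h
      simp only [Derivation.smul_apply, smul_eq_mul] at h
      rw [h]
      rfl
    have hk : ∀ a : k, Dv (algebraMap k K a) = 0 := by
      intro a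
      rw [IsScalarTower.algebraMap_apply k L K, hD1]
      refine Finset.sum_eq_zero (fun i _ => ?_)
      rw [dL_algebraMap_base, mul_zero]
    obtain ⟨DA, hDA⟩ := exists_derivation k (A := A) Dv hk
    have hres : ∀ p : MvPowerSeries (Fin n) k,
        DA (algebraMap (MvPowerSeries (Fin n) k) A p) =
          ∑ i, c i * algebraMap A K
            (algebraMap (MvPowerSeries (Fin n) k) A (MvPowerSeries.pderiv k i p)) := by
      intro p
      rw [hDA, ← IsScalarTower.algebraMap_apply (MvPowerSeries (Fin n) k) A K,
        IsScalarTower.algebraMap_apply (MvPowerSeries (Fin n) k) L K, hD1]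
      refine Finset.sum_congr rfl (fun i _ => ?_)
      rw [dL_algebraMap, IsScalarTower.algebraMap_apply (MvPowerSeries (Fin n) k) A K]
    obtain ⟨s, hsfin, hs⟩ := exists_finite_span k n A K DA c hres
    have hDB : ∀ b : B, (DA.compAlgebraMap B) b = Dv (algebraMap B K b) := by
      intro b
      show DA (algebraMap B A b) = Dv (algebraMap B K b)
      rw [hDA, ← IsScalarTower.algebraMap_apply B A K]
    have hrange : ∃ N : Submodule B K, N.FG ∧
        LinearMap.range (DA.compAlgebraMap B).liftKaehlerDifferential ≤ N := by
      refine ⟨Submodule.span B s, Submodule.fg_span hsfin, ?_⟩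
      rw [LinearMap.range_eq_map, ← KaehlerDifferential.span_range_derivation k B,
        Submodule.map_span, Submodule.span_le]
      rintro _ ⟨_, ⟨b, rfl⟩, rfl⟩
      rw [Derivation.liftKaehlerDifferential_comp_D]
      have h := hs (algebraMap B A b)
      rw [← Submodule.restrictScalars_mem B, Submodule.restrictScalars_span B A hsurj] at h
      exact h
    obtain ⟨l, hl⟩ := exists_functional' k B K (DA.compAlgebraMap B).liftKaehlerDifferential hrange
    refine ⟨LinearMap.liftBaseChange K l, fun b => ?_⟩
    rw [LinearMap.liftBaseChange_tmul, one_smul, hl, Derivation.liftKaehlerDifferential_comp_D,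
      hDB]
  choose ℓ hℓ using fun i => key (Ds i : Derivation ℤ K K) (Ds i).2
  have hℓli : LinearIndependent K ℓ := by
    rw [Fintype.linearIndependent_iff]
    intro c hc
    have hzero : ∑ i, c i • (Ds i : Derivation ℤ K K) = 0 := by
      apply der_eq_zero_of_forall (A := A)
      intro a
      obtain ⟨b, rfl⟩ := hsurj a
      rw [der_sum_apply, ← IsScalarTower.algebraMap_apply B A K]
      have h := LinearMap.congr_fun hc ((1 : K) ⊗ₜ[B]
        AdicCompletion.of (maximalIdeal B) (Ω[B⁄k]) (D k B b))
      rw [LinearMap.sum_apply] at h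
      simp only [LinearMap.smul_apply, hℓ, LinearMap.zero_apply] at h
      simpa only [Derivation.smul_apply] using h
    have hzero' : ∑ i, c i • Ds i = 0 := by
      apply Subtype.ext
      rw [Submodule.coe_sum]
      simpa only [Submodule.coe_smul, Submodule.coe_zero] using hzero
    exact Fintype.linearIndependent_iff.1 hDs c hzero'
  have h3 := hℓli.fintype_card_le_finrank
  rw [Fintype.card_fin] at h3
  have h4 : Module.finrank K
      (Module.Dual K (K ⊗[B] AdicCompletion (maximalIdeal B) (Ω[B⁄k]))) =
      Module.finrank K (K ⊗[B] AdicCompletion (maximalIdeal B) (Ω[B⁄k])) :=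
    Subspace.dual_finrank_eq
  exact h3.trans_eq h4

end Main

end Groth.Agent.Helper11.KaehlerGen
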