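import Mathlib
import Groth.Prelude.Def_EGA41
import Groth.Agent.Lib.Helper11.FracRankA
import Groth.Agent.Lib.Helper11.KaehlerGen
import Groth.Agent.Lib.Helper11.FrobPS
import Groth.Agent.Lib.Helper17.PS1
import Groth.Agent.Lib.Helper7.IntDim
import Groth.Agent.S2460
import Groth.Agent.S4551

/-!
# Differentials of the fraction field of a complete local domain over a field
-/

set_option autoImplicit false

namespace Groth.Agent.Helper11.FracRank

universe u
open TensorProduct KaehlerDifferential IsLocalRing

section Abstract'

variable {k E F : Type u} [Field k] [Field E] [Field F] [Algebra k E] [Algebra E F] [Algebra k F]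
  [IsScalarTower k E F]

theorem rank_formula' [Algebra.IsGeometricallyReduced k E]
    [Algebra.EssFiniteType E F] [Algebra.IsAlgebraic E F] :
    Module.Finite F (LinearMap.ker (mapBaseChange ℤ k F)) ∧
      Module.rank F (Ω[F⁄k]) =
        Module.rank E (Ω[E⁄k]) + Module.rank F (LinearMap.ker (mapBaseChange ℤ k F)) :=
  rank_formula (Helper9.SepInj.mapBaseChange_injective_of_isGeometricallyReduced
    (k₀ := ℤ) (k := k) (L := E))

end Abstract'

section PS

variable (k : Type u) [Field k] (n : ℕ)

/-- differentials of the variables in the fraction field of the power series ring -/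
noncomputable def dX (i : Fin n) : Ω[FractionRing (MvPowerSeries (Fin n) k)⁄k] :=
  D k (FractionRing (MvPowerSeries (Fin n) k))
    (algebraMap (MvPowerSeries (Fin n) k) (FractionRing (MvPowerSeries (Fin n) k))
      (MvPowerSeries.X i))

theorem linearIndependent_dX :
    LinearIndependent (FractionRing (MvPowerSeries (Fin n) k)) (dX k n) := by
  classical
  rw [Fintype.linearIndependent_iff]
  intro c hc j
  have h := congrArg (KaehlerGen.lamL k n (FractionRing (MvPowerSeries (Fin n) k))
    (FractionRing (MvPowerSeries (Fin n) k)) j) hc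
  rw [map_sum, map_zero] at h
  simp only [map_smul, dX, KaehlerGen.lamL_D_algebraMap] at h
  rw [Finset.sum_eq_single j] at h
  · rw [MvPowerSeries.pderiv_X_self, map_one, smul_eq_mul, mul_one] at h
    exact h
  · intro i _ hij
    rw [MvPowerSeries.pderiv_X_of_ne hij, map_zero, smul_zero]
  · intro hj
    exact absurd (Finset.mem_univ j) hj

theorem le_rank :
    (n : Cardinal.{u}) ≤ Module.rank (FractionRing (MvPowerSeries (Fin n) k))
      (Ω[FractionRing (MvPowerSeries (Fin n) k)⁄k]) := by
  have h := (linearIndependent_dX k n).cardinal_lift_le_rank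
  simpa using h

theorem span_dX_eq_top (p : ℕ) [Fact p.Prime] [CharP k p] (hk : (frobenius k p).Finite) :
    Submodule.span (FractionRing (MvPowerSeries (Fin n) k)) (Set.range (dX k n)) = ⊤ := by
  have h1 := FrobPS.span_D_X_eq_top (k := k) (n := n) p hk
  have h2 := KaehlerDifferential.span_range_map_derivation_of_isLocalization k
    (MvPowerSeries (Fin n) k) (FractionRing (MvPowerSeries (Fin n) k))
    (nonZeroDivisors (MvPowerSeries (Fin n) k))
  have key : ∀ ω ∈ Submodule.span (MvPowerSeries (Fin n) k)
      (Set.range fun i : Fin n => D k (MvPowerSeries (Fin n) k) (MvPowerSeries.X i)),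
      KaehlerDifferential.map k k (MvPowerSeries (Fin n) k)
        (FractionRing (MvPowerSeries (Fin n) k)) ω ∈
        Submodule.span (FractionRing (MvPowerSeries (Fin n) k)) (Set.range (dX k n)) := by
    intro ω hω
    induction hω using Submodule.span_induction with
    | mem x hx =>
      obtain ⟨i, rfl⟩ := hx
      rw [KaehlerDifferential.map_D]
      exact Submodule.subset_span ⟨i, rfl⟩
    | zero =>
      rw [map_zero]
      exact Submodule.zero_mem _
    | add x y _ _ hx hy =>
      rw [map_add]
      exact Submodule.add_mem _ hx hy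
    | smul b x _ hx =>
      rw [map_smul, ← algebraMap_smul (FractionRing (MvPowerSeries (Fin n) k)) b]
      exact Submodule.smul_mem _ _ hx
  rw [eq_top_iff, ← h2, Submodule.span_le]
  rintro _ ⟨s, rfl⟩
  apply key
  rw [h1]
  trivial

theorem finite_and_rank (p : ℕ) [Fact p.Prime] [CharP k p] (hk : (frobenius k p).Finite) :
    Module.Finite (FractionRing (MvPowerSeries (Fin n) k))
        (Ω[FractionRing (MvPowerSeries (Fin n) k)⁄k]) ∧
      Module.rank (FractionRing (MvPowerSeries (Fin n) k))
        (Ω[FractionRing (MvPowerSeries (Fin n) k)⁄k]) = n := by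
  let b := Module.Basis.mk (linearIndependent_dX k n) (span_dX_eq_top k n p hk).ge
  refine ⟨Module.Finite.of_basis b, ?_⟩
  rw [rank_eq_card_basis b, Fintype.card_fin]

theorem finite_kaehler (p : ℕ) [Fact p.Prime] [CharP k p] (hk : (frobenius k p).Finite) :
    Module.Finite (MvPowerSeries (Fin n) k) (Ω[MvPowerSeries (Fin n) k⁄k]) := by
  have h1 := FrobPS.span_D_X_eq_top (k := k) (n := n) p hk
  refine ⟨?_⟩
  rw [← h1]
  exact Submodule.fg_span (Set.finite_range _)

end PS

section Main

variable (k C : Type u) [Field k] [CommRing C] [IsDomain C] [IsNoetherianRing C] [IsLocalRing C]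
    [Algebra k C] [IsAdicComplete (maximalIdeal C) C] [Module.Finite k (ResidueField C)]
    (n : ℕ) (hn : ringKrullDim C = n)

include hn in
theorem exists_finite_injective :
    ∃ w : MvPowerSeries (Fin n) k →ₐ[k] C, Function.Injective w ∧ w.toRingHom.Finite := by
  obtain ⟨n', w, hinj, -, hfin⟩ := Groth.Agent.S2460.result (k₀ := k) (A := C)
  letI : Algebra (MvPowerSeries (Fin n') k) C := w.toRingHom.toAlgebra
  haveI : Module.Finite (MvPowerSeries (Fin n') k) C := hfin
  haveI : Algebra.IsIntegral (MvPowerSeries (Fin n') k) C := inferInstance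
  have h1 : ringKrullDim C = ringKrullDim (MvPowerSeries (Fin n') k) :=
    Helper7.IntDim.ringKrullDim_eq_of_isIntegral_of_injective hinj
  have h2 : ringKrullDim (MvPowerSeries (Fin n') k) = n' :=
    le_antisymm (Helper17.PS.ringKrullDim_le n') (Helper17.PS.le_ringKrullDim n')
  have h3 : n' = n := by
    rw [hn, h2] at h1
    exact_mod_cast h1.symm
  subst h3
  exact ⟨w, hinj, hfin⟩

include hn in
theorem finite_kaehler_of_frobenius_finite (p : ℕ) [Fact p.Prime] [CharP k p]
    (hk : (frobenius k p).Finite) : Module.Finite C (Ω[C⁄k]) := by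
  obtain ⟨w, hinj, hfin⟩ := exists_finite_injective k C n hn
  letI algBC : Algebra (MvPowerSeries (Fin n) k) C := w.toRingHom.toAlgebra
  haveI : IsScalarTower k (MvPowerSeries (Fin n) k) C :=
    IsScalarTower.of_algebraMap_eq (fun x => (w.commutes x).symm)
  haveI : Module.Finite (MvPowerSeries (Fin n) k) C := hfin
  haveI := finite_kaehler k n p hk
  haveI : Module.Finite C (C ⊗[MvPowerSeries (Fin n) k] Ω[MvPowerSeries (Fin n) k⁄k]) :=
    inferInstance
  haveI : Module.Finite C (Ω[C⁄MvPowerSeries (Fin n) k]) := inferInstance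
  have hex := KaehlerDifferential.exact_mapBaseChange_map k (MvPowerSeries (Fin n) k) C
  haveI : IsNoetherian C (C ⊗[MvPowerSeries (Fin n) k] Ω[MvPowerSeries (Fin n) k⁄k]) :=
    isNoetherian_of_isNoetherianRing_of_finite C _
  haveI : IsNoetherian C (Ω[C⁄MvPowerSeries (Fin n) k]) :=
    isNoetherian_of_isNoetherianRing_of_finite C _
  haveI : IsNoetherian C (Ω[C⁄k]) :=
    isNoetherian_of_range_eq_ker (mapBaseChange k (MvPowerSeries (Fin n) k) C)
      (KaehlerDifferential.map k (MvPowerSeries (Fin n) k) C C)
      (by
        ext x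
        exact (hex x).symm)
  infer_instance

variable (L : Type u) [Field L] [Algebra C L] [IsFractionRing C L] [Algebra k L]
  [IsScalarTower k C L]

include hn in
theorem main :
    Module.Finite L (LinearMap.ker (mapBaseChange ℤ k L)) ∧
      Module.rank L (Ω[L⁄k]) =
        Module.rank (FractionRing (MvPowerSeries (Fin n) k))
            (Ω[FractionRing (MvPowerSeries (Fin n) k)⁄k]) +
          Module.rank L (LinearMap.ker (mapBaseChange ℤ k L)) := by
  obtain ⟨w, hinj, hfin⟩ := exists_finite_injective k C n hn
  letI algBC : Algebra (MvPowerSeries (Fin n) k) C := w.toRingHom.toAlgebra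
  haveI : IsScalarTower k (MvPowerSeries (Fin n) k) C :=
    IsScalarTower.of_algebraMap_eq (fun x => (w.commutes x).symm)
  haveI : Module.Finite (MvPowerSeries (Fin n) k) C := hfin
  letI algBL : Algebra (MvPowerSeries (Fin n) k) L :=
    ((algebraMap C L).comp w.toRingHom).toAlgebra
  haveI : IsScalarTower (MvPowerSeries (Fin n) k) C L :=
    IsScalarTower.of_algebraMap_eq (fun x => rfl)
  haveI : IsScalarTower k (MvPowerSeries (Fin n) k) L :=
    IsScalarTower.of_algebraMap_eq (fun x => by
      show algebraMap k L x = algebraMap C L (w (algebraMap k _ x))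
      rw [w.commutes, ← IsScalarTower.algebraMap_apply])
  have hinjBL : Function.Injective (algebraMap (MvPowerSeries (Fin n) k) L) :=
    (IsFractionRing.injective C L).comp hinj
  haveI : FaithfulSMul (MvPowerSeries (Fin n) k) L :=
    (faithfulSMul_iff_algebraMap_injective _ _).2 hinjBL
  letI algEL : Algebra (FractionRing (MvPowerSeries (Fin n) k)) L :=
    FractionRing.liftAlgebra _ L
  haveI : IsScalarTower (MvPowerSeries (Fin n) k) (FractionRing (MvPowerSeries (Fin n) k)) L :=
    FractionRing.isScalarTower_liftAlgebra _ L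
  haveI : IsScalarTower k (FractionRing (MvPowerSeries (Fin n) k)) L :=
    IsScalarTower.of_algebraMap_eq (fun x => by
      rw [IsScalarTower.algebraMap_apply k (MvPowerSeries (Fin n) k) L,
        IsScalarTower.algebraMap_apply k (MvPowerSeries (Fin n) k)
          (FractionRing (MvPowerSeries (Fin n) k)),
        ← IsScalarTower.algebraMap_apply (MvPowerSeries (Fin n) k)
          (FractionRing (MvPowerSeries (Fin n) k)) L])
  haveI : Algebra.EssFiniteType (MvPowerSeries (Fin n) k) C := inferInstance
  haveI : Algebra.EssFiniteType C L := Algebra.EssFiniteType.of_isLocalization L (nonZeroDivisors C)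
  haveI : Algebra.EssFiniteType (MvPowerSeries (Fin n) k) L :=
    Algebra.EssFiniteType.comp _ C L
  haveI : Algebra.EssFiniteType (FractionRing (MvPowerSeries (Fin n) k)) L :=
    Algebra.EssFiniteType.of_comp (MvPowerSeries (Fin n) k) _ L
  haveI : Algebra.IsAlgebraic (MvPowerSeries (Fin n) k) C := inferInstance
  haveI : IsDomain (MvPowerSeries (Fin n) k) := NoZeroDivisors.to_isDomain _
  haveI : Algebra.IsAlgebraic (MvPowerSeries (Fin n) k) L :=
    (IsFractionRing.isAlgebraic_iff' (MvPowerSeries (Fin n) k) C L).1 inferInstance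
  haveI : Algebra.IsAlgebraic (FractionRing (MvPowerSeries (Fin n) k)) L :=
    (IsFractionRing.comap_isAlgebraic_iff (A := MvPowerSeries (Fin n) k)
      (K := FractionRing (MvPowerSeries (Fin n) k)) (C := L)).1 inferInstance
  haveI := Groth.Agent.S4551.result k n
  exact rank_formula' (k := k) (E := FractionRing (MvPowerSeries (Fin n) k)) (F := L)

end Main

end Groth.Agent.Helper11.FracRank
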