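import Groth.Agent.Lib.Helper11.CechF3
import Groth.Agent.Lib.Helper3.KP2
import Groth.Agent.Lib.Helper11.LDer4
import Groth.Agent.Lib.Helper8.LOC4

/-!
# Derived base change of `RΓ_I(A)` along a ring endomorphism raising generators to powers
(helper11)

For `φ : A → A` with `φ f = f ^ p` on generators `f` of `I` (e.g. the Frobenius),
`RΓ_I(A) ⊗^L_{A,φ} A ≅ RΓ_I(A)`.
-/

set_option autoImplicit false
set_option linter.unusedSectionVars false
set_option linter.unusedVariables false
set_option linter.style.haveILetI false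

open CategoryTheory CategoryTheory.Limits MonoidalCategory CochainComplex HomComplex
  Pretriangulated DerivedCategory
open scoped TensorProduct ChangeOfRings

universe u

attribute [local instance] HasDerivedCategory.standard

namespace Groth.Agent.Helper11.FrobRG

open DerCA Groth.Agent.Helper11.DCP Groth.Agent.Helper11.GM Groth.Agent.Helper11.RGam
  Groth.Agent.Helper11.CechG Groth.Agent.Helper11.CechF Groth.Agent.Helper8.LOC

section Gen

variable {A B : Type u} [CommRing A] [CommRing B] (φ : A →+* B) [DRing.HasLBaseChange φ]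

/-- derived base change is semilinear -/
theorem LBaseChange_map_smul_id (W : Dual.D A) (a : A) :
    (DRing.LBaseChange φ).map (a • 𝟙 W) = φ a • 𝟙 ((DRing.LBaseChange φ).obj W) := by
  apply ((Groth.Agent.Helper3.KP.adjD φ).homEquiv _ _).injective
  rw [Adjunction.homEquiv_unit, Adjunction.homEquiv_unit]
  have h1 := (Groth.Agent.Helper3.KP.adjD φ).unit.naturality (a • 𝟙 W)
  have h2 : (DRing.restrictD φ).map (φ a • 𝟙 ((DRing.LBaseChange φ).obj W)) =
      a • 𝟙 _ := Rd_map_smul_id φ _ a
  simp only [Functor.id_obj, Functor.comp_obj, Functor.id_map, Functor.comp_map] at h1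
  rw [← h1, h2, Linear.smul_comp, Linear.comp_smul, Category.id_comp]
  congr 1
  exact (Category.comp_id _).symm

theorem fLocal_LBaseChange (f : A) (W : Dual.D A) (h : FLocal f W) :
    FLocal (φ f) ((DRing.LBaseChange φ).obj W) := by
  unfold FLocal at h ⊢
  haveI := h
  rw [← LBaseChange_map_smul_id]
  infer_instance

theorem lOrth_LBaseChange (f : A) (T : Dual.D A) (h : LOrth f T) :
    LOrth (φ f) ((DRing.LBaseChange φ).obj T) := by
  intro Y hY
  haveI := h _ (fLocal_restrict φ f Y hY)
  exact ((Groth.Agent.Helper3.KP.adjD φ).homEquiv T Y).subsingleton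

/-- `S ⊗_R R ≅ S` as `S`-modules -/
noncomputable def extendSelfFun :
    ((ModuleCat.extendScalars.{u, u, u} φ).obj (ModuleCat.of A A)) →+ B :=
  (TensorProduct.rid A ((ModuleCat.restrictScalars φ).obj (ModuleCat.of B B))).toLinearMap.toAddMonoidHom

theorem extendSelfFun_tm (s : B) (a : A) :
    extendSelfFun φ (tm φ (ModuleCat.of A A) s a) = φ a * s := by
  exact TensorProduct.rid_tmul (R := A)
    (M := (ModuleCat.restrictScalars φ).obj (ModuleCat.of B B)) s a

theorem extendSelfFun_smul (b : B)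
    (x : ((ModuleCat.extendScalars.{u, u, u} φ).obj (ModuleCat.of A A))) :
    extendSelfFun φ (b • x) = b * extendSelfFun φ x := by
  refine TensorProduct.induction_on
    (motive := fun x => extendSelfFun φ
      (b • @id ((ModuleCat.extendScalars.{u, u, u} φ).obj (ModuleCat.of A A)) x :
        (ModuleCat.extendScalars.{u, u, u} φ).obj (ModuleCat.of A A)) =
      b * extendSelfFun φ (@id ((ModuleCat.extendScalars.{u, u, u} φ).obj (ModuleCat.of A A)) x))
    x ?_ ?_ ?_
  · have h1 : (b • @id ((ModuleCat.extendScalars.{u, u, u} φ).obj (ModuleCat.of A A)) 0 :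
        (ModuleCat.extendScalars.{u, u, u} φ).obj (ModuleCat.of A A)) =
        @id ((ModuleCat.extendScalars.{u, u, u} φ).obj (ModuleCat.of A A)) 0 := smul_zero b
    refine (congrArg _ h1).trans ?_
    have h2 : extendSelfFun φ
        (@id ((ModuleCat.extendScalars.{u, u, u} φ).obj (ModuleCat.of A A)) 0) = 0 := map_zero _
    exact h2.trans ((mul_zero b).symm.trans (congrArg (b * ·) h2.symm))
  · intro (s : B) (a : A)
    have h1 : (b • @id ((ModuleCat.extendScalars.{u, u, u} φ).obj (ModuleCat.of A A))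
        (tm φ (ModuleCat.of A A) s a) :
        (ModuleCat.extendScalars.{u, u, u} φ).obj (ModuleCat.of A A)) =
        tm φ (ModuleCat.of A A) (b * s) a := smul_tm φ (ModuleCat.of A A) b s a
    refine (congrArg _ h1).trans ?_
    refine (extendSelfFun_tm φ (b * s) a).trans ?_
    refine Eq.trans ?_ (congrArg (b * ·) (extendSelfFun_tm φ s a).symm)
    show φ a * (b * s) = b * (φ a * s)
    ring
  · intro x y hx hy
    have h1 : (b • @id ((ModuleCat.extendScalars.{u, u, u} φ).obj (ModuleCat.of A A)) (x + y) :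
        (ModuleCat.extendScalars.{u, u, u} φ).obj (ModuleCat.of A A)) =
        (b • @id ((ModuleCat.extendScalars.{u, u, u} φ).obj (ModuleCat.of A A)) x :
          (ModuleCat.extendScalars.{u, u, u} φ).obj (ModuleCat.of A A)) +
        (b • @id ((ModuleCat.extendScalars.{u, u, u} φ).obj (ModuleCat.of A A)) y :
          (ModuleCat.extendScalars.{u, u, u} φ).obj (ModuleCat.of A A)) := smul_add b _ _
    refine (congrArg _ h1).trans ?_
    have h2 : extendSelfFun φ
        (@id ((ModuleCat.extendScalars.{u, u, u} φ).obj (ModuleCat.of A A)) (x + y)) =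
        extendSelfFun φ (@id ((ModuleCat.extendScalars.{u, u, u} φ).obj (ModuleCat.of A A)) x) +
        extendSelfFun φ (@id ((ModuleCat.extendScalars.{u, u, u} φ).obj (ModuleCat.of A A)) y) :=
      map_add _ _ _
    exact (map_add _ _ _).trans ((congrArg₂ (· + ·) hx hy).trans
      ((mul_add b _ _).symm.trans (congrArg (b * ·) h2.symm)))

/-- `B ⊗_A A ≅ B` as `B`-modules -/
noncomputable def extendSelfEquiv :
    ((ModuleCat.extendScalars.{u, u, u} φ).obj (ModuleCat.of A A)) ≃ₗ[B] B where
  toFun := extendSelfFun φ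
  invFun := fun s => tm φ (ModuleCat.of A A) s 1
  map_add' := fun x y => map_add _ x y
  map_smul' := fun b x => extendSelfFun_smul φ b x
  left_inv := fun x => (TensorProduct.rid A
    ((ModuleCat.restrictScalars φ).obj (ModuleCat.of B B))).symm_apply_apply x
  right_inv := fun s => (TensorProduct.rid A
    ((ModuleCat.restrictScalars φ).obj (ModuleCat.of B B))).apply_symm_apply s

/-- `A[0] ⊗^L_A B ≅ B[0]` for an arbitrary ring map -/
theorem nonempty_LBaseChange_unit_iso :
    Nonempty ((DRing.LBaseChange φ).obj (Dual.inD A A) ≅ Dual.inD B B) := by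
  let P : DRing.Cx A := (CochainComplex.singleFunctor (ModuleCat.{u} A) 0).obj (ModuleCat.of A A)
  have hP : DRing.VanishesAbove P 0 := by
    intro i hi
    exact HomologicalComplex.isZero_single_obj_X (ComplexShape.up ℤ) 0 (ModuleCat.of A A) i
      (by omega)
  have hproj : ∀ i, Module.Projective A (P.X i) := by
    intro i
    by_cases h0 : i = 0
    · subst h0
      exact Module.Projective.of_equiv (HomologicalComplex.singleObjXSelf (ComplexShape.up ℤ) 0
        (ModuleCat.of A A)).toLinearEquiv.symm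
    · haveI : Subsingleton (P.X i) :=
        ModuleCat.subsingleton_of_isZero (HomologicalComplex.isZero_single_obj_X
          (ComplexShape.up ℤ) 0 (ModuleCat.of A A) i h0)
      infer_instance
  haveI : P.IsKProjective :=
    Groth.Agent.Helper11.DC.isKProjective_of_vanishesAbove P 0 hP hproj
  let e0 : Dual.inD A A ≅ Q.obj P :=
    (singleFunctorIsoCompQ (ModuleCat.{u} A) 0).app (ModuleCat.of A A)
  let e1 := Groth.Agent.Helper11.LDer.LBaseChangeIso φ P
  let e2 : ((ModuleCat.extendScalars.{u, u, u} φ).mapHomologicalComplex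
      (ComplexShape.up ℤ)).obj P ≅
      (CochainComplex.singleFunctor (ModuleCat.{u} B) 0).obj
        ((ModuleCat.extendScalars.{u, u, u} φ).obj (ModuleCat.of A A)) :=
    (HomologicalComplex.singleMapHomologicalComplex
      (ModuleCat.extendScalars.{u, u, u} φ) (ComplexShape.up ℤ) 0).app (ModuleCat.of A A)
  let e3 : (ModuleCat.extendScalars.{u, u, u} φ).obj (ModuleCat.of A A) ≅ ModuleCat.of B B :=
    (extendSelfEquiv φ).toModuleIso
  let e4 : Q.obj ((CochainComplex.singleFunctor (ModuleCat.{u} B) 0).obj (ModuleCat.of B B)) ≅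
      Dual.inD B B :=
    ((singleFunctorIsoCompQ (ModuleCat.{u} B) 0).app (ModuleCat.of B B)).symm
  exact ⟨(DRing.LBaseChange φ).mapIso e0 ≪≫ e1 ≪≫ Q.mapIso e2 ≪≫
    Q.mapIso ((CochainComplex.singleFunctor (ModuleCat.{u} B) 0).mapIso e3) ≪≫ e4⟩

end Gen

section Main

variable {A : Type u} [CommRing A] [IsNoetherianRing A] (φ : A →+* A) [DRing.HasLBaseChange φ]

/-- derived base change of `RΓ_I(A)` along an endomorphism raising the generators of `I` to a
positive power -/
theorem nonempty_LBaseChange_RgammaI_iso (I : Ideal A) [DRing.HasRgammaI I] (p : ℕ) (hp : 0 < p)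
    (hφ : ∀ f : A, φ f = f ^ p) :
    Nonempty ((DRing.LBaseChange φ).obj ((DRing.RgammaI I).obj (Dual.inD A A)) ≅
      (DRing.RgammaI I).obj (Dual.inD A A)) := by
  classical
  letI : (DRing.LBaseChange φ).CommShift ℤ :=
    (Groth.Agent.Helper3.KP.adjD φ).leftAdjointCommShift ℤ
  haveI : (Groth.Agent.Helper3.KP.adjD φ).CommShift ℤ :=
    (Groth.Agent.Helper3.KP.adjD φ).commShift_of_rightAdjoint ℤ
  haveI : (DRing.LBaseChange φ).IsTriangulated :=
    (Groth.Agent.Helper3.KP.adjD φ).isTriangulated_leftAdjoint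
  obtain ⟨s, hs⟩ := (isNoetherianRing_iff_ideal_fg A).mp inferInstance I
  obtain ⟨fs, hfs⟩ : ∃ fs : List A, Ideal.span {x : A | x ∈ fs} = I := by
    refine ⟨s.toList, ?_⟩
    rw [← hs]
    congr 1
    ext x
    simp
  let ps : List (A × A) := fs.map (fun f => (f, f ^ p))
  have hps : ∀ q ∈ ps, ∃ f ∈ fs, q = (f, f ^ p) := by
    intro q hq
    obtain ⟨f, hf, rfl⟩ := List.mem_map.mp hq
    exact ⟨f, hf, rfl⟩
  have hgs : Ideal.span {x : A | x ∈ ps.map Prod.fst} = I := by
    rw [← hfs]
    congr 1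
    ext x
    simp only [Set.mem_ofPred_eq, List.mem_map, ps]
    constructor
    · rintro ⟨q, ⟨f, hf, rfl⟩, rfl⟩
      exact hf
    · intro hx
      exact ⟨(x, x ^ p), ⟨x, hx, rfl⟩, rfl⟩
  have hfI : ∀ f ∈ fs, f ∈ I := fun f hf => hfs ▸ Ideal.subset_span hf
  have hF : ∀ q ∈ ps, ∀ W : Dual.D A, FLocal q.1 W →
      FLocal q.2 ((DRing.LBaseChange φ).obj W) := by
    intro q hq W hW
    obtain ⟨f, hf, rfl⟩ := hps q hq
    have := fLocal_LBaseChange φ f W hW
    rwa [hφ] at this
  obtain ⟨X, hX, ⟨e⟩⟩ := exists_kprojective_iso (Dual.inD A A)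
  haveI := hX
  obtain ⟨ε, hε⟩ := exists_counit_extCech_functor (DRing.LBaseChange φ) ps hF X
  obtain ⟨c⟩ := cech_formula (ps.map Prod.fst) I hgs X
  have hTl : ∀ g ∈ ps.map Prod.fst,
      LOrth g (Q.obj (X ⊗ extCech (ModuleCat.of A A) (ps.map Prod.fst))) :=
    fun g hg => lOrth_Q_tensor_extCech _ g hg X
  generalize Q.obj (X ⊗ extCech (ModuleCat.of A A) (ps.map Prod.fst)) = T at ε hε c hTl
  -- cohomology of the base change of `T` is `I`-power torsion
  have hTt : ∀ i : ℤ, LocCoh.IsPowerTorsion I (Dual.HD A ((DRing.LBaseChange φ).obj T) i) := by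
    intro i
    have hl : ∀ g ∈ fs.map (fun f => f ^ p), LOrth g ((DRing.LBaseChange φ).obj T) := by
      intro g hg
      obtain ⟨f, hf, rfl⟩ := List.mem_map.mp hg
      have h1 : f ∈ ps.map Prod.fst := List.mem_map.mpr ⟨(f, f ^ p), List.mem_map.mpr ⟨f, hf, rfl⟩, rfl⟩
      have := lOrth_LBaseChange φ f T (hTl f h1)
      rwa [hφ] at this
    have h2 := isPowerTorsion_of_lOrth (fs.map (fun f => f ^ p))
      (Ideal.span {x : A | x ∈ fs.map (fun f => f ^ p)}) rfl _ hl i
    intro y
    obtain ⟨n, hn⟩ := h2 y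
    rw [← hfs]
    refine exists_pow_smul_eq_zero_of_list fs y (fun f hf => ⟨p * n, ?_⟩)
    have hmem : f ^ p ∈ Ideal.span {x : A | x ∈ fs.map (fun f => f ^ p)} :=
      Ideal.subset_span (List.mem_map.mpr ⟨f, hf, rfl⟩)
    have := hn ((f ^ p) ^ n) (Ideal.pow_mem_pow hmem n)
    rwa [← pow_mul] at this
  let Y := (DRing.LBaseChange φ).obj (Q.obj X)
  have hRt := isPowerTorsion_HD_RgammaI I Y
  obtain ⟨g, hg⟩ := (bijective_comp_ε I _ Y hTt).2 ((DRing.LBaseChange φ).map ε)
  have hg' : g ≫ (DRing.RgammaIε I).app Y = (DRing.LBaseChange φ).map ε := hg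
  haveI : IsIso g := by
    refine isIso_of_bijective_comp
      (fun L : Dual.D A => ∀ i : ℤ, LocCoh.IsPowerTorsion I (Dual.HD A L i)) g hTt hRt ?_
    intro L hL
    have b1 := hε L (fun q hq => by
      obtain ⟨f, hf, rfl⟩ := hps q hq
      exact lOrth_of_isPowerTorsion I (f ^ p) (Ideal.pow_mem_of_mem I (hfI f hf) p hp) L hL)
    have b2 := bijective_comp_ε I L Y hL
    have hsq : (fun ψ : L ⟶ (DRing.RgammaI I).obj Y => ψ ≫ (DRing.RgammaIε I).app Y) ∘
        (fun ψ : L ⟶ (DRing.LBaseChange φ).obj T => ψ ≫ g) =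
        (fun ψ : L ⟶ (DRing.LBaseChange φ).obj T => ψ ≫ (DRing.LBaseChange φ).map ε) := by
      funext ψ
      show (ψ ≫ g) ≫ (DRing.RgammaIε I).app Y = ψ ≫ (DRing.LBaseChange φ).map ε
      rw [Category.assoc, hg']
    have h4 : Function.Bijective
        ((fun ψ : L ⟶ (DRing.RgammaI I).obj Y => ψ ≫ (DRing.RgammaIε I).app Y) ∘
        (fun ψ : L ⟶ (DRing.LBaseChange φ).obj T => ψ ≫ g)) := by
      rw [hsq]
      exact b1
    exact (Function.Bijective.of_comp_iff' b2 _).mp h4
  obtain ⟨y⟩ := nonempty_LBaseChange_unit_iso φ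
  exact ⟨(DRing.LBaseChange φ).mapIso ((DRing.RgammaI I).mapIso e.symm ≪≫ c.symm) ≪≫
    asIso g ≪≫ (DRing.RgammaI I).mapIso ((DRing.LBaseChange φ).mapIso e ≪≫ y)⟩

end Main

end Groth.Agent.Helper11.FrobRG
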