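import Groth.Agent.Lib.Helper11.GM1

/-!
# Completion along a list as a composite of maps with local cones (generic form; helper11)

`exists_completion_list_P`: the completion map `K ⟶ K'` along a list `l` satisfies every property
of morphisms which holds for identities, is stable under composition, and holds for the first map
of every distinguished triangle whose third vertex is `f`-local for some `f ∈ l`.
-/

set_option autoImplicit false

open CategoryTheory CategoryTheory.Limits Pretriangulated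

universe u v w

namespace Groth.Agent.Helper11.GM

open Groth.Agent.Helper11.DCP

section Tri

variable {A : Type u} [CommRing A] {C : Type v} [Category.{w} C] [Preadditive C] [Linear A C]
  [HasShift C ℤ] [HasZeroObject C] [∀ n : ℤ, (shiftFunctor C n).Additive]
  [∀ n : ℤ, (shiftFunctor C n).Linear A] [Pretriangulated C]

/-- principal completion, together with its distinguished triangle with `f`-local third vertex -/
theorem exists_principal_tri (hpow : ∀ K : C, ∃ (P : C) (π : ℕ → (P ⟶ K)), IsPow π) (f : A)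
    (K : C) :
    ∃ (K' : C) (η : K ⟶ K') (W : C) (q : K' ⟶ W) (r : W ⟶ K⟦(1 : ℤ)⟧),
      Triangle.mk η q r ∈ distTriang C ∧ FLocal f W ∧ ROrth f K' ∧
      (∀ E : C, ROrth f E → Function.Bijective (fun φ : K' ⟶ E => η ≫ φ)) ∧
      (∀ V : C, Subsingleton (V ⟶ K) → Subsingleton (V ⟶ K⟦(1 : ℤ)⟧) →
        Subsingleton (V ⟶ K')) := by
  obtain ⟨P, π, hπ⟩ := hpow K
  obtain ⟨W, β, γ, hT⟩ := distinguished_cocone_triangle (theta hπ f)
  obtain ⟨K', η, q, hT₂⟩ := distinguished_cocone_triangle₂ (γ ≫ (π 0)⟦(1 : ℤ)⟧')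
  have hW : FLocal f W := fLocal_cone hπ f β γ hT
  have hA := bijective_comp_cone hπ f β γ hT
  have z23 : q ≫ γ ≫ (π 0)⟦(1 : ℤ)⟧' = 0 := comp_distTriang_mor_zero₂₃ _ hT₂
  have z31 : (γ ≫ (π 0)⟦(1 : ℤ)⟧') ≫ η⟦(1 : ℤ)⟧' = 0 := comp_distTriang_mor_zero₃₁ _ hT₂
  have ex2 : ∀ {Y : C} (g : Y ⟶ K'), g ≫ q = 0 → ∃ h : Y ⟶ K, g = h ≫ η :=
    fun g hg => Triangle.coyoneda_exact₂ _ hT₂ g hg
  have yex2 : ∀ {E : C} (ψ : K' ⟶ E), η ≫ ψ = 0 → ∃ χ : W ⟶ E, ψ = q ≫ χ :=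
    fun ψ hψ => Triangle.yoneda_exact₂ _ hT₂ ψ hψ
  have hT₃ := inv_rot_of_distTriang _ hT₂
  have yex1 : ∀ {E : C} (φ : K ⟶ E), Subsingleton (W⟦(-1 : ℤ)⟧ ⟶ E) →
      ∃ ψ : K' ⟶ E, φ = η ≫ ψ :=
    fun φ hs => Triangle.yoneda_exact₂ _ hT₃ φ (hs.elim _ _)
  refine ⟨K', η, W, q, γ ≫ (π 0)⟦(1 : ℤ)⟧', hT₂, hW, ?_, ?_, ?_⟩
  · intro X hX
    suffices ∀ g : X ⟶ K', g = 0 from ⟨fun a b => by rw [this a, this b]⟩
    intro g
    have h1 : g ≫ q = 0 := by
      apply (hA X hX).1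
      show (g ≫ q) ≫ γ ≫ (π 0)⟦(1 : ℤ)⟧' = 0 ≫ γ ≫ (π 0)⟦(1 : ℤ)⟧'
      rw [Category.assoc, z23, comp_zero, zero_comp]
    obtain ⟨h, rfl⟩ := ex2 g h1
    obtain ⟨w, hw⟩ := (hA (X⟦(1 : ℤ)⟧) (hX.shift 1)).2 (h⟦(1 : ℤ)⟧')
    have hw' : w ≫ γ ≫ (π 0)⟦(1 : ℤ)⟧' = h⟦(1 : ℤ)⟧' := hw
    apply (shiftFunctor C (1 : ℤ)).map_injective
    rw [Functor.map_comp, ← hw', Category.assoc, z31, comp_zero, Functor.map_zero]
  · intro E hE
    constructor
    · intro ψ ψ' h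
      have h' : η ≫ ψ = η ≫ ψ' := h
      obtain ⟨χ, hχ⟩ := yex2 (ψ - ψ') (by rw [Preadditive.comp_sub, h', sub_self])
      have : χ = 0 := (hE W hW).elim _ _
      rw [this, comp_zero] at hχ
      exact sub_eq_zero.mp hχ
    · intro φ
      obtain ⟨ψ, hψ⟩ := yex1 φ (hE _ (hW.shift (-1)))
      exact ⟨ψ, hψ.symm⟩
  · intro V h0 h1
    have hP : Subsingleton (V ⟶ P) := subsingleton_hom_pow hπ V h0
    have hP1 : Subsingleton (V ⟶ P⟦(1 : ℤ)⟧) :=
      subsingleton_hom_pow (isPow_shift hπ (1 : ℤ)) V h1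
    have hVW : Subsingleton (V ⟶ W) := subsingleton_obj₃ _ hT V hP hP1
    exact subsingleton_obj₂ _ hT₂ V h0 hVW

/-- completion along a list of elements is a composite of maps with local cones -/
theorem exists_completion_list_P (hpow : ∀ K : C, ∃ (P : C) (π : ℕ → (P ⟶ K)), IsPow π)
    (Pm : ∀ ⦃X Y : C⦄, (X ⟶ Y) → Prop) (hid : ∀ X : C, Pm (𝟙 X))
    (hcomp : ∀ ⦃X Y Z : C⦄ (u : X ⟶ Y) (v : Y ⟶ Z), Pm u → Pm v → Pm (u ≫ v))
    (l : List A)
    (hstep : ∀ f ∈ l, ∀ T : Triangle C, T ∈ distTriang C → FLocal f T.obj₃ → Pm T.mor₁)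
    (K : C) :
    ∃ (K' : C) (η : K ⟶ K'), (∀ f ∈ l, ROrth f K') ∧
      (∀ E : C, (∀ f ∈ l, ROrth f E) → Function.Bijective (fun φ : K' ⟶ E => η ≫ φ)) ∧
      Pm η := by
  induction l with
  | nil =>
    refine ⟨K, 𝟙 K, fun f hf => absurd hf (List.not_mem_nil), fun E _ => ?_, hid K⟩
    have : (fun φ : K ⟶ E => 𝟙 K ≫ φ) = id := funext (fun φ => Category.id_comp φ)
    rw [this]
    exact Function.bijective_id
  | cons f l ih =>
    obtain ⟨K₁, η₁, h1, h2, h3⟩ := ih (fun g hg => hstep g (List.mem_cons_of_mem f hg))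
    obtain ⟨K₂, η₂, W, q, r, hT, hW, p1, p2, p3⟩ := exists_principal_tri hpow f K₁
    refine ⟨K₂, η₁ ≫ η₂, ?_, ?_,
      hcomp _ _ h3 (hstep f List.mem_cons_self (Triangle.mk η₂ q r) hT hW)⟩
    · intro g hg
      rcases List.mem_cons.mp hg with rfl | hg'
      · exact p1
      · intro X hX
        exact p3 X (h1 g hg' X hX)
          (subsingleton_shift_of_neg X K₁ 1 (h1 g hg' _ (hX.shift (-1))))
    · intro E hE
      have hb2 := p2 E (hE f (List.mem_cons_self))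
      have hb1 := h2 E (fun g hg => hE g (List.mem_cons_of_mem f hg))
      have : (fun φ : K₂ ⟶ E => (η₁ ≫ η₂) ≫ φ) =
          (fun φ : K₁ ⟶ E => η₁ ≫ φ) ∘ (fun φ : K₂ ⟶ E => η₂ ≫ φ) :=
        funext (fun φ => Category.assoc _ _ _)
      rw [this]
      exact hb1.comp hb2

end Tri

end Groth.Agent.Helper11.GM
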