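import Mathlib.CategoryTheory.Abelian.Projective.Resolution
import Mathlib.Algebra.Homology.QuasiIso

/-!
# Resolutions built from an arbitrary choice of covers
-/

set_option autoImplicit false

universe v u

open CategoryTheory Limits Category

namespace Groth.Agent.Helper11.GenRes

variable {C : Type u} [Category.{v} C] [Abelian C]

/-- a choice of an epimorphism onto every object. -/
structure CoverData (C : Type u) [Category.{v} C] [Abelian C] where
  cov : C → C
  π : ∀ K : C, cov K ⟶ K
  epi : ∀ K : C, Epi (π K)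

namespace CoverData

variable (D : CoverData C)

instance (K : C) : Epi (D.π K) := D.epi K

/-- the "differential": cover of the kernel followed by the inclusion. -/
noncomputable def dd {X Y : C} (f : X ⟶ Y) : D.cov (kernel f) ⟶ X := D.π (kernel f) ≫ kernel.ι f

@[reassoc (attr := simp)]
theorem dd_comp {X Y : C} (f : X ⟶ Y) : D.dd f ≫ f = 0 := by
  simp [dd]

set_option backward.isDefEq.respectTransparency false in
theorem exact_dd_f {X Y : C} (f : X ⟶ Y) :
    (ShortComplex.mk (D.dd f) f (D.dd_comp f)).Exact := by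
  let α : ShortComplex.mk (D.dd f) f (D.dd_comp f) ⟶ ShortComplex.mk (kernel.ι f) f (by simp) :=
    { τ₁ := D.π _
      τ₂ := 𝟙 _
      τ₃ := 𝟙 _
      comm₁₂ := by simp [dd]
      comm₂₃ := by simp }
  have : Epi α.τ₁ := by dsimp [α]; infer_instance
  have : IsIso α.τ₂ := by dsimp [α]; infer_instance
  have : Mono α.τ₃ := by dsimp [α]; infer_instance
  rw [ShortComplex.exact_iff_of_epi_of_isIso_of_mono α]
  apply ShortComplex.exact_of_f_is_kernel
  apply kernelIsKernel

/-- the resolution complex. -/
noncomputable def resCx (M : C) : ChainComplex C ℕ :=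
  ChainComplex.mk' (D.cov M) (D.cov (kernel (D.π M))) (D.dd (D.π M))
    (fun f => ⟨_, D.dd f, D.dd_comp f⟩)

theorem resCx_X_zero (M : C) : (D.resCx M).X 0 = D.cov M := rfl

theorem resCx_X_one (M : C) : (D.resCx M).X 1 = D.cov (kernel (D.π M)) := rfl

theorem resCx_d_1_0 (M : C) : (D.resCx M).d 1 0 = D.dd (D.π M) := by
  simp [resCx]

/-- the `(n+2)`-th term is the chosen cover of the kernel of the previous differential. -/
noncomputable def resCxXIso (M : C) (n : ℕ) :
    (D.resCx M).X (n + 2) ≅ D.cov (kernel ((D.resCx M).d (n + 1) n)) :=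
  ChainComplex.mk'XIso _ _ _ _ n

set_option backward.isDefEq.respectTransparency.types false in
theorem resCx_exactAt_succ (M : C) (n : ℕ) : (D.resCx M).ExactAt (n + 1) := by
  rw [HomologicalComplex.exactAt_iff' _ (n + 1 + 1) (n + 1) n (by simp) (by simp)]
  simp only [HomologicalComplex.sc', HomologicalComplex.shortComplexFunctor', resCx,
    ChainComplex.mk', ChainComplex.mk, ChainComplex.of_d]
  match n with
  | 0 => apply exact_dd_f
  | n + 1 => apply exact_dd_f

/-- the augmentation. -/
noncomputable def resπ (M : C) : D.resCx M ⟶ (ChainComplex.single₀ C).obj M :=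
  (ChainComplex.toSingle₀Equiv _ _).symm ⟨D.π M,
    (congrArg (fun t => t ≫ D.π M) (D.resCx_d_1_0 M)).trans (D.dd_comp (D.π M))⟩

set_option backward.defeqAttrib.useBackward true in
set_option backward.isDefEq.respectTransparency false in
theorem quasiIso_resπ (M : C) : QuasiIso (D.resπ M) := ⟨fun n => by
  cases n
  · rw [ChainComplex.quasiIsoAt₀_iff, ShortComplex.quasiIso_iff_of_zeros']
    · dsimp
      refine (ShortComplex.exact_and_epi_g_iff_of_iso ?_).2
        ⟨D.exact_dd_f (D.π M), by dsimp; infer_instance⟩
      exact ShortComplex.isoMk (Iso.refl _) (Iso.refl _) (Iso.refl _)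
        (by simp [resCx]) (by simp [resπ])
    all_goals rfl
  · rw [quasiIsoAt_iff_exactAt']
    · apply resCx_exactAt_succ
    · apply ChainComplex.exactAt_succ_single_obj⟩

/-- propagation of a property along the resolution. -/
theorem resCx_prop (P : C → Prop) (hiso : ∀ {X Y : C}, (X ≅ Y) → P X → P Y)
    (hstep : ∀ {X Y : C} (f : X ⟶ Y), P X → P (D.cov (kernel f))) (M : C)
    (h0 : P (D.cov M)) : ∀ n : ℕ, P ((D.resCx M).X n) := by
  have key : ∀ n : ℕ, P ((D.resCx M).X n) ∧ P ((D.resCx M).X (n + 1)) := by
    intro n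
    induction n with
    | zero => exact ⟨h0, hstep (D.π M) h0⟩
    | succ n ih =>
      refine ⟨ih.2, ?_⟩
      exact hiso (D.resCxXIso M n).symm (hstep ((D.resCx M).d (n + 1) n) ih.2)
  exact fun n => (key n).1

end CoverData

end Groth.Agent.Helper11.GenRes
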