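import Mathlib

set_option autoImplicit false

namespace Groth.Agent.Helper11.LocGen

open TensorProduct

section

variable {R : Type*} [CommRing R] (p : Ideal R) [p.IsPrime] {M : Type*} [AddCommGroup M]
  [Module R M]

/-- clearing denominators in a generating family of the localized module -/
theorem exists_lift_of_span_eq_top (m : ℕ)
    (h : ∃ s : Fin m → LocalizedModule p.primeCompl M,
      Submodule.span (Localization.AtPrime p) (Set.range s) = ⊤) :
    ∃ t : Fin m → M, ∀ x : M, ∃ a : R, a ∉ p ∧ a • x ∈ Submodule.span R (Set.range t) := by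
  obtain ⟨s, hs⟩ := h
  have hsurj : ∀ i, ∃ (t : M) (a : p.primeCompl),
      IsLocalizedModule.mk' (LocalizedModule.mkLinearMap p.primeCompl M) t a = s i := fun i => by
    obtain ⟨⟨t, a⟩, h⟩ := IsLocalizedModule.mk'_surjective p.primeCompl
      (LocalizedModule.mkLinearMap p.primeCompl M) (s i)
    exact ⟨t, a, h⟩
  choose t a hta using hsurj
  refine ⟨t, fun x => ?_⟩
  have htop : (Submodule.span R (Set.range t)).localized' (Localization.AtPrime p) p.primeCompl
      (LocalizedModule.mkLinearMap p.primeCompl M) = ⊤ := by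
    rw [eq_top_iff, ← hs, Submodule.span_le]
    rintro _ ⟨i, rfl⟩
    exact ⟨t i, Submodule.subset_span ⟨i, rfl⟩, a i, hta i⟩
  have hx : LocalizedModule.mkLinearMap p.primeCompl M x ∈
      (Submodule.span R (Set.range t)).localized' (Localization.AtPrime p) p.primeCompl
        (LocalizedModule.mkLinearMap p.primeCompl M) := by
    rw [htop]; trivial
  obtain ⟨y, hy, b, hb⟩ := hx
  rw [IsLocalizedModule.mk'_eq_iff] at hb
  have hb' : LocalizedModule.mkLinearMap p.primeCompl M y =
      LocalizedModule.mkLinearMap p.primeCompl M (b • x) := by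
    rw [hb]
    exact ((LocalizedModule.mkLinearMap p.primeCompl M).map_smul (b : R) x).symm
  obtain ⟨c, hc⟩ := (IsLocalizedModule.eq_iff_exists p.primeCompl
    (LocalizedModule.mkLinearMap p.primeCompl M)).mp hb'
  refine ⟨(c : R) * (b : R), p.primeCompl.mul_mem c.2 b.2, ?_⟩
  have h2 : ((c : R) * (b : R)) • x = (c : R) • y := by
    rw [mul_smul]
    exact hc.symm
  rw [h2]
  exact Submodule.smul_mem _ _ hy

theorem forall_of_span_mk_eq_top {m : ℕ} (t : Fin m → M)
    (hs : Submodule.span (Localization.AtPrime p)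
      (Set.range fun i => LocalizedModule.mkLinearMap p.primeCompl M (t i)) = ⊤) :
    ∀ x : M, ∃ a : R, a ∉ p ∧ a • x ∈ Submodule.span R (Set.range t) := by
  intro x
  have htop : (Submodule.span R (Set.range t)).localized' (Localization.AtPrime p) p.primeCompl
      (LocalizedModule.mkLinearMap p.primeCompl M) = ⊤ := by
    rw [Submodule.localized'_span, ← Set.range_comp]
    exact hs
  have hx : LocalizedModule.mkLinearMap p.primeCompl M x ∈
      (Submodule.span R (Set.range t)).localized' (Localization.AtPrime p) p.primeCompl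
        (LocalizedModule.mkLinearMap p.primeCompl M) := by
    rw [htop]; trivial
  obtain ⟨y, hy, b, hb⟩ := hx
  rw [IsLocalizedModule.mk'_eq_iff] at hb
  have hb' : LocalizedModule.mkLinearMap p.primeCompl M y =
      LocalizedModule.mkLinearMap p.primeCompl M (b • x) := by
    rw [hb]
    exact ((LocalizedModule.mkLinearMap p.primeCompl M).map_smul (b : R) x).symm
  obtain ⟨c, hc⟩ := (IsLocalizedModule.eq_iff_exists p.primeCompl
    (LocalizedModule.mkLinearMap p.primeCompl M)).mp hb'
  refine ⟨(c : R) * (b : R), p.primeCompl.mul_mem c.2 b.2, ?_⟩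
  have h2 : ((c : R) * (b : R)) • x = (c : R) • y := by
    rw [mul_smul]
    exact hc.symm
  rw [h2]
  exact Submodule.smul_mem _ _ hy

theorem span_mk_eq_top_of_forall {m : ℕ} (t : Fin m → M)
    (h : ∀ x : M, ∃ a : R, a ∉ p ∧ a • x ∈ Submodule.span R (Set.range t)) :
    Submodule.span (Localization.AtPrime p)
      (Set.range fun i => LocalizedModule.mkLinearMap p.primeCompl M (t i)) = ⊤ := by
  have h1 : (Submodule.span R (Set.range t)).localized' (Localization.AtPrime p) p.primeCompl
      (LocalizedModule.mkLinearMap p.primeCompl M) =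
      Submodule.span (Localization.AtPrime p)
        (Set.range fun i => LocalizedModule.mkLinearMap p.primeCompl M (t i)) := by
    rw [Submodule.localized'_span, ← Set.range_comp]
    rfl
  rw [← h1, eq_top_iff]
  rintro y -
  obtain ⟨⟨x, b⟩, rfl⟩ := IsLocalizedModule.mk'_surjective p.primeCompl
    (LocalizedModule.mkLinearMap p.primeCompl M) y
  obtain ⟨a, ha, hax⟩ := h x
  refine ⟨a • x, hax, (⟨a, ha⟩ : p.primeCompl) * b, ?_⟩
  exact IsLocalizedModule.mk'_cancel_left (LocalizedModule.mkLinearMap p.primeCompl M) x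
    (⟨a, ha⟩ : p.primeCompl) b

theorem finrank_fibre_le {m : ℕ} (t : Fin m → M)
    (h : ∀ x : M, ∃ a : R, a ∉ p ∧ a • x ∈ Submodule.span R (Set.range t))
    (F : Type*) [Field F] [Algebra R F] (hF : ∀ s : R, s ∉ p → algebraMap R F s ≠ 0) :
    Module.finrank F (F ⊗[R] M) ≤ m := by
  have hone : Submodule.span F (Set.range fun x : M => (1 : F) ⊗ₜ[R] x) = ⊤ := by
    rw [eq_top_iff]
    rintro z -
    induction z using TensorProduct.induction_on with
    | zero => exact zero_mem _
    | tmul a x =>
      have h : a ⊗ₜ[R] x = a • ((1 : F) ⊗ₜ[R] x) := by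
        rw [TensorProduct.smul_tmul', smul_eq_mul, mul_one]
      rw [h]
      exact Submodule.smul_mem _ _ (Submodule.subset_span ⟨x, rfl⟩)
    | add x y hx hy => exact add_mem hx hy
  have hspan : Submodule.span F (Set.range fun i => (1 : F) ⊗ₜ[R] t i) = ⊤ := by
    rw [eq_top_iff, ← hone, Submodule.span_le]
    rintro _ ⟨x, rfl⟩
    obtain ⟨s, hs, hsx'⟩ := h x
    have h1 : (1 : F) ⊗ₜ[R] (s • x) ∈
        Submodule.span F (Set.range fun i => (1 : F) ⊗ₜ[R] t i) := by
      refine Submodule.span_induction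
        (p := fun y _ => (1 : F) ⊗ₜ[R] y ∈
          Submodule.span F (Set.range fun i => (1 : F) ⊗ₜ[R] t i)) ?_ ?_ ?_ ?_ hsx'
      · rintro _ ⟨i, rfl⟩
        exact Submodule.subset_span ⟨i, rfl⟩
      · rw [TensorProduct.tmul_zero]; exact zero_mem _
      · intro y z _ _ hy hz
        rw [TensorProduct.tmul_add]; exact add_mem hy hz
      · intro b y _ hy
        have h : (1 : F) ⊗ₜ[R] (b • y) = algebraMap R F b • ((1 : F) ⊗ₜ[R] y) := by
          rw [TensorProduct.tmul_smul, TensorProduct.smul_tmul', TensorProduct.smul_tmul',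
            Algebra.smul_def, smul_eq_mul]
        rw [h]
        exact Submodule.smul_mem _ _ hy
    have e1 : (1 : F) ⊗ₜ[R] (s • x) = (algebraMap R F s) ⊗ₜ[R] x := by
      rw [TensorProduct.tmul_smul, TensorProduct.smul_tmul', Algebra.smul_def, mul_one]
    have h2 : (1 : F) ⊗ₜ[R] x = (algebraMap R F s)⁻¹ • ((1 : F) ⊗ₜ[R] (s • x)) := by
      rw [e1, TensorProduct.smul_tmul', smul_eq_mul, inv_mul_cancel₀ (hF s hs)]
    show (1 : F) ⊗ₜ[R] x ∈ Submodule.span F (Set.range fun i => (1 : F) ⊗ₜ[R] t i)
    rw [h2]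
    exact Submodule.smul_mem _ _ h1
  have h3 := finrank_range_le_card (R := F) (fun i => (1 : F) ⊗ₜ[R] t i)
  rw [Set.finrank, hspan, finrank_top, Fintype.card_fin] at h3
  exact h3

end

end Groth.Agent.Helper11.LocGen
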