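import Mathlib
import Groth.Agent.Lib.Helper11.LocGen
import Groth.Agent.Lib.Lead.RLR7

/-!
# Generic lemmas for the freeness of localized completed differentials
-/

set_option autoImplicit false

namespace Groth.Agent.Helper11.GeomRegA

open TensorProduct IsLocalRing

section Ker

variable {A : Type*} [CommRing A] (P : Ideal A) [P.IsPrime]

/-- a minimal prime contained in `P` is the kernel of the localization map when `A_P` is a
domain -/
theorem algebraMap_eq_zero_of_mem_minimalPrime [IsDomain (Localization.AtPrime P)]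
    (q : Ideal A) (hq : q ∈ minimalPrimes A) (hqP : q ≤ P) (a : A) (ha : a ∈ q) :
    algebraMap A (Localization.AtPrime P) a = 0 := by
  set q₀ : Ideal A := RingHom.ker (algebraMap A (Localization.AtPrime P)) with hq₀
  haveI : q₀.IsPrime := RingHom.ker_isPrime _
  haveI : q.IsPrime := hq.1.1
  have h1 : q₀ ≤ q := by
    intro x hx
    rw [hq₀, RingHom.mem_ker, IsLocalization.map_eq_zero_iff P.primeCompl] at hx
    obtain ⟨s, hs⟩ := hx
    have h2 : (s : A) * x ∈ q := by
      rw [hs]
      exact zero_mem _
    rcases (Ideal.IsPrime.mem_or_mem inferInstance h2) with h3 | h3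
    · exact absurd (hqP h3) s.2
    · exact h3
  have h2 : q ≤ q₀ := hq.2 ⟨inferInstance, bot_le⟩ h1
  exact h2 ha

theorem exists_mul_eq_zero_of_mem_minimalPrime [IsDomain (Localization.AtPrime P)]
    (q : Ideal A) (hq : q ∈ minimalPrimes A) (hqP : q ≤ P) (a : A) (ha : a ∈ q) :
    ∃ s : A, s ∉ P ∧ s * a = 0 := by
  have h := algebraMap_eq_zero_of_mem_minimalPrime P q hq hqP a ha
  rw [IsLocalization.map_eq_zero_iff P.primeCompl] at h
  obtain ⟨s, hs⟩ := h
  exact ⟨s, s.2, hs⟩

end Ker

section Free

variable {A : Type*} [CommRing A] (P : Ideal A) [P.IsPrime] {N : Type*} [AddCommGroup N]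
  [Module A N]

theorem span_one_tmul_eq_top {m : ℕ} (t : Fin m → N)
    (h : ∀ x : N, ∃ a : A, a ∉ P ∧ a • x ∈ Submodule.span A (Set.range t))
    (F : Type*) [Field F] [Algebra A F] (hF : ∀ s : A, s ∉ P → algebraMap A F s ≠ 0) :
    Submodule.span F (Set.range fun i => (1 : F) ⊗ₜ[A] t i) = ⊤ := by
  have hone : Submodule.span F (Set.range fun x : N => (1 : F) ⊗ₜ[A] x) = ⊤ := by
    rw [eq_top_iff]
    rintro z -
    induction z using TensorProduct.induction_on with
    | zero => exact zero_mem _
    | tmul a x =>
      have h : a ⊗ₜ[A] x = a • ((1 : F) ⊗ₜ[A] x) := by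
        rw [TensorProduct.smul_tmul', smul_eq_mul, mul_one]
      rw [h]
      exact Submodule.smul_mem _ _ (Submodule.subset_span ⟨x, rfl⟩)
    | add x y hx hy => exact add_mem hx hy
  rw [eq_top_iff, ← hone, Submodule.span_le]
  rintro _ ⟨x, rfl⟩
  obtain ⟨s, hs, hsx'⟩ := h x
  have h1 : (1 : F) ⊗ₜ[A] (s • x) ∈
      Submodule.span F (Set.range fun i => (1 : F) ⊗ₜ[A] t i) := by
    refine Submodule.span_induction
      (p := fun y _ => (1 : F) ⊗ₜ[A] y ∈
        Submodule.span F (Set.range fun i => (1 : F) ⊗ₜ[A] t i)) ?_ ?_ ?_ ?_ hsx'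
    · rintro _ ⟨i, rfl⟩
      exact Submodule.subset_span ⟨i, rfl⟩
    · rw [TensorProduct.tmul_zero]; exact zero_mem _
    · intro y z _ _ hy hz
      rw [TensorProduct.tmul_add]; exact add_mem hy hz
    · intro b y _ hy
      have h : (1 : F) ⊗ₜ[A] (b • y) = algebraMap A F b • ((1 : F) ⊗ₜ[A] y) := by
        rw [TensorProduct.tmul_smul, TensorProduct.smul_tmul', TensorProduct.smul_tmul',
          Algebra.smul_def, smul_eq_mul]
      rw [h]
      exact Submodule.smul_mem _ _ hy
  have e1 : (1 : F) ⊗ₜ[A] (s • x) = (algebraMap A F s) ⊗ₜ[A] x := by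
    rw [TensorProduct.tmul_smul, TensorProduct.smul_tmul', Algebra.smul_def, mul_one]
  have h2 : (1 : F) ⊗ₜ[A] x = (algebraMap A F s)⁻¹ • ((1 : F) ⊗ₜ[A] (s • x)) := by
    rw [e1, TensorProduct.smul_tmul', smul_eq_mul, inv_mul_cancel₀ (hF s hs)]
  show (1 : F) ⊗ₜ[A] x ∈ Submodule.span F (Set.range fun i => (1 : F) ⊗ₜ[A] t i)
  rw [h2]
  exact Submodule.smul_mem _ _ h1

/-- generation up to denominators by `m` elements together with a fibre of dimension at least
`m` over a field into which `A_P` embeds gives a basis of the localized module -/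
theorem free_of_gen {m : ℕ} (t : Fin m → N)
    (hG : ∀ x : N, ∃ a : A, a ∉ P ∧ a • x ∈ Submodule.span A (Set.range t))
    (F : Type*) [Field F] [Algebra A F] (hF1 : ∀ s : A, s ∉ P → algebraMap A F s ≠ 0)
    (hF2 : ∀ a : A, algebraMap A F a = 0 → algebraMap A (Localization.AtPrime P) a = 0)
    (hrank : m ≤ Module.finrank F (F ⊗[A] N)) :
    Module.Free (Localization.AtPrime P) (LocalizedModule P.primeCompl N) ∧
      Module.finrank (Localization.AtPrime P) (LocalizedModule P.primeCompl N) = m := by
  classical
  have hspanF := span_one_tmul_eq_top P t hG F hF1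
  have hle := LocGen.finrank_fibre_le P t hG F hF1
  have hfr : Module.finrank F (F ⊗[A] N) = m := le_antisymm hle hrank
  have hliF : LinearIndependent F (fun i => (1 : F) ⊗ₜ[A] t i) := by
    apply linearIndependent_of_top_le_span_of_card_eq_finrank hspanF.ge
    rw [Fintype.card_fin, hfr]
  have hspanR := LocGen.span_mk_eq_top_of_forall P t hG
  have hliR : LinearIndependent (Localization.AtPrime P)
      (fun i => LocalizedModule.mkLinearMap P.primeCompl N (t i)) := by
    rw [Fintype.linearIndependent_iff]
    intro c hc i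
    obtain ⟨b, hb⟩ := IsLocalization.exist_integer_multiples_of_finite P.primeCompl c
    choose a ha using hb
    have h1 : LocalizedModule.mkLinearMap P.primeCompl N (∑ j, a j • t j) = 0 := by
      rw [map_sum]
      have h2 : ∀ j, LocalizedModule.mkLinearMap P.primeCompl N (a j • t j) =
          (b : A) • (c j • LocalizedModule.mkLinearMap P.primeCompl N (t j)) := by
        intro j
        rw [map_smul, ← algebraMap_smul (Localization.AtPrime P) (a j), ha j, smul_assoc]
      rw [Finset.sum_congr rfl (fun j _ => h2 j), ← Finset.smul_sum, hc, smul_zero]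
    obtain ⟨s', hs'⟩ := (IsLocalizedModule.eq_zero_iff P.primeCompl
      (LocalizedModule.mkLinearMap P.primeCompl N)).1 h1
    have h3 : ∑ j, algebraMap A F ((s' : A) * a j) • ((1 : F) ⊗ₜ[A] t j) = 0 := by
      have h4 : (1 : F) ⊗ₜ[A] ((s' : A) • ∑ j, a j • t j) = 0 := by
        have : (s' : A) • ∑ j, a j • t j = 0 := hs'
        rw [this, TensorProduct.tmul_zero]
      rw [Finset.smul_sum, TensorProduct.tmul_sum] at h4
      rw [← h4]
      refine Finset.sum_congr rfl fun j _ => ?_
      rw [smul_smul, TensorProduct.tmul_smul, TensorProduct.smul_tmul', TensorProduct.smul_tmul',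
        smul_eq_mul, Algebra.smul_def]
    have h5 := (Fintype.linearIndependent_iff.1 hliF) _ h3 i
    rw [map_mul] at h5
    have h6 : algebraMap A F (a i) = 0 :=
      (mul_eq_zero.1 h5).resolve_left (hF1 _ s'.2)
    have h7 := hF2 _ h6
    rw [ha i] at h7
    have hunit : IsUnit (algebraMap A (Localization.AtPrime P) (b : A)) :=
      IsLocalization.map_units _ b
    rw [Algebra.smul_def] at h7
    exact (hunit.mul_right_eq_zero).1 h7
  let bs := Module.Basis.mk hliR hspanR.ge
  exact ⟨Module.Free.of_basis bs, by rw [Module.finrank_eq_card_basis bs, Fintype.card_fin]⟩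

end Free

section Dim

variable {A : Type*} [CommRing A] (P q : Ideal A) [P.IsPrime] [q.IsPrime]

theorem dim_add_le (hqP : q ≤ P)
    (hker : ∀ a ∈ q, algebraMap A (Localization.AtPrime P) a = 0) :
    ringKrullDim (Localization.AtPrime P) + ringKrullDim (A ⧸ P) ≤ ringKrullDim (A ⧸ q) := by
  let g : A ⧸ q →+* Localization.AtPrime P :=
    Ideal.Quotient.lift q (algebraMap A (Localization.AtPrime P)) hker
  set P' : Ideal (A ⧸ q) := P.map (Ideal.Quotient.mk q) with hP'
  haveI hP'prime : P'.IsPrime :=
    Ideal.map_isPrime_of_surjective Ideal.Quotient.mk_surjective (by rw [Ideal.mk_ker]; exact hqP)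
  have hinj : Function.Injective (PrimeSpectrum.comap g) := by
    intro x y hxy
    apply PrimeSpectrum.localization_comap_injective (Localization.AtPrime P) P.primeCompl
    have h1 : PrimeSpectrum.comap (Ideal.Quotient.mk q) (PrimeSpectrum.comap g x) =
        PrimeSpectrum.comap (Ideal.Quotient.mk q) (PrimeSpectrum.comap g y) := by rw [hxy]
    exact h1
  have hsm : StrictMono (PrimeSpectrum.comap g) :=
    Monotone.strictMono_of_injective (fun _ _ h => Ideal.comap_mono h) hinj
  have h1 := Order.height_le_height_apply_of_strictMono _ hsm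
    (⟨maximalIdeal (Localization.AtPrime P), inferInstance⟩ :
      PrimeSpectrum (Localization.AtPrime P))
  have h2 : PrimeSpectrum.comap g ⟨maximalIdeal (Localization.AtPrime P), inferInstance⟩ =
      ⟨P', hP'prime⟩ := by
    apply PrimeSpectrum.ext
    show (maximalIdeal (Localization.AtPrime P)).comap g = P'
    ext x
    obtain ⟨a, rfl⟩ := Ideal.Quotient.mk_surjective x
    rw [Ideal.mem_comap]
    show algebraMap A (Localization.AtPrime P) a ∈ _ ↔ _
    have hcm : (maximalIdeal (Localization.AtPrime P)).comap
        (algebraMap A (Localization.AtPrime P)) = P :=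
      IsLocalization.AtPrime.under_maximalIdeal (Localization.AtPrime P) P
    rw [← Ideal.mem_comap, hcm,
      hP', Ideal.mem_map_iff_of_surjective _ Ideal.Quotient.mk_surjective]
    constructor
    · intro ha
      exact ⟨a, ha, rfl⟩
    · rintro ⟨b, hb, hba⟩
      have : a - b ∈ q := by
        rw [← Ideal.Quotient.eq_zero_iff_mem, map_sub, hba, sub_self]
      have h3 : a = (a - b) + b := by ring
      rw [h3]
      exact P.add_mem (hqP this) hb
  rw [h2, ← PrimeSpectrum.height_eq_orderHeight, ← PrimeSpectrum.height_eq_orderHeight] at h1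
  have h3 := Groth.Agent.Lead.RLR.height_add_ringKrullDim_quotient_le P'
  have h4 : ringKrullDim ((A ⧸ q) ⧸ P') = ringKrullDim (A ⧸ P) :=
    ringKrullDim_eq_of_ringEquiv (DoubleQuot.quotQuotEquivQuotOfLE hqP)
  rw [h4] at h3
  have h5 : ringKrullDim (Localization.AtPrime P) =
      ((maximalIdeal (Localization.AtPrime P)).height : WithBot ℕ∞) :=
    (IsLocalRing.maximalIdeal_height_eq_ringKrullDim).symm
  rw [h5]
  refine le_trans ?_ h3
  exact add_le_add (by exact_mod_cast h1) le_rfl

end Dim

section Gens

variable {A : Type*} [CommRing A] (P : Ideal A) [P.IsPrime]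

theorem exists_gens [IsNoetherianRing (Localization.AtPrime P)] :
    ∃ (h : ℕ) (f : Fin h → A), (∀ j, f j ∈ P) ∧
      Ideal.span (Set.range fun j => algebraMap A (Localization.AtPrime P) (f j)) =
        maximalIdeal (Localization.AtPrime P) ∧
      h = (maximalIdeal (Localization.AtPrime P)).spanFinrank := by
  classical
  obtain ⟨s, hcard, hs⟩ := Submodule.FG.exists_span_finset_card_eq_spanFinrank
    (IsNoetherian.noetherian (maximalIdeal (Localization.AtPrime P)))
  have hsur : ∀ y : Localization.AtPrime P, ∃ (a : A) (u : P.primeCompl),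
      y * algebraMap A (Localization.AtPrime P) (u : A) =
        algebraMap A (Localization.AtPrime P) a := by
    intro y
    obtain ⟨⟨a, u⟩, h⟩ := IsLocalization.surj P.primeCompl y
    exact ⟨a, u, h⟩
  choose a u hau using hsur
  refine ⟨s.card, fun j => a ((s.equivFin.symm j : s) : Localization.AtPrime P), ?_, ?_,
    hcard⟩
  · intro j
    have hy : ((s.equivFin.symm j : s) : Localization.AtPrime P) ∈
        maximalIdeal (Localization.AtPrime P) := by
      rw [← hs]
      exact Submodule.subset_span (s.equivFin.symm j).2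
    have h1 : algebraMap A (Localization.AtPrime P)
        (a ((s.equivFin.symm j : s) : Localization.AtPrime P)) ∈
        maximalIdeal (Localization.AtPrime P) := by
      rw [← hau]
      exact Ideal.mul_mem_right _ _ hy
    have hcm : (maximalIdeal (Localization.AtPrime P)).comap
        (algebraMap A (Localization.AtPrime P)) = P :=
      IsLocalization.AtPrime.under_maximalIdeal (Localization.AtPrime P) P
    rw [← Ideal.mem_comap, hcm] at h1
    exact h1
  · apply le_antisymm
    · rw [Ideal.span_le]
      rintro _ ⟨j, rfl⟩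
      show algebraMap A (Localization.AtPrime P) _ ∈ maximalIdeal (Localization.AtPrime P)
      rw [← hau]
      refine Ideal.mul_mem_right _ _ ?_
      rw [← hs]
      exact Submodule.subset_span (s.equivFin.symm j).2
    · conv_lhs => rw [← hs]
      rw [Ideal.submodule_span_eq, Ideal.span_le]
      intro y hy
      have hunit : IsUnit (algebraMap A (Localization.AtPrime P) (u y : A)) :=
        IsLocalization.map_units _ (u y)
      have h1 : y = algebraMap A (Localization.AtPrime P) (a y) * ↑(hunit.unit⁻¹) := by
        rw [← hau y, mul_assoc, IsUnit.mul_val_inv, mul_one]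
      rw [SetLike.mem_coe, h1]
      refine Ideal.mul_mem_right _ _ (Ideal.subset_span ⟨s.equivFin ⟨y, hy⟩, ?_⟩)
      simp

end Gens

end Groth.Agent.Helper11.GeomRegA
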