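import Mathlib
import Groth.Agent.Lib.Helper11.KaehlerGen
import Groth.Agent.Lib.Helper14.CohenStructure
import Groth.Agent.Lib.Helper7.IntDim

set_option autoImplicit false

namespace Groth.Agent.Helper11.KaehlerFibre

universe u
open IsLocalRing TensorProduct KaehlerDifferential

section Semicont

variable {B : Type*} [CommRing B] (M : Type*) [AddCommGroup M] [Module B M] [Module.Finite B M]

theorem span_one_tmul_eq_top (F : Type*) [Field F] [Algebra B F] :
    Submodule.span F (Set.range fun x : M => (1 : F) ⊗ₜ[B] x) = ⊤ := by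
  rw [eq_top_iff]
  rintro t -
  induction t using TensorProduct.induction_on with
  | zero => exact zero_mem _
  | tmul a x =>
    have h : a ⊗ₜ[B] x = a • ((1 : F) ⊗ₜ[B] x) := by
      rw [TensorProduct.smul_tmul', smul_eq_mul, mul_one]
    rw [h]
    exact Submodule.smul_mem _ _ (Submodule.subset_span ⟨x, rfl⟩)
  | add x y hx hy => exact add_mem hx hy

/-- upper semicontinuity of the fibre rank: the rank after base change to a field whose kernel is
contained in `p` is at most the rank of the fibre at `p` -/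
theorem finrank_tensor_le_finrank_fibre (p : Ideal B) [p.IsPrime] (F : Type*) [Field F]
    [Algebra B F] (hF : ∀ s : B, s ∉ p → algebraMap B F s ≠ 0) :
    Module.finrank F (F ⊗[B] M) ≤ Module.finrank p.ResidueField (p.ResidueField ⊗[B] M) := by
  classical
  obtain ⟨f, hf1, hf2, -⟩ := Submodule.exists_fun_fin_finrank_span_eq p.ResidueField
    (Set.range fun x : M => (1 : p.ResidueField) ⊗ₜ[B] x)
  replace hf2 : Submodule.span p.ResidueField (Set.range f) = ⊤ :=
    hf2.trans (span_one_tmul_eq_top M p.ResidueField)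
  choose m hm using hf1
  refine le_trans ?_ (Submodule.finrank_le
    (Submodule.span p.ResidueField (Set.range fun x : M => (1 : p.ResidueField) ⊗ₜ[B] x)))
  -- the submodule generated by the lifts
  set N : Submodule B M := Submodule.span B (Set.range m) with hN
  -- the quotient has trivial fibre at `p`
  have hsub : Subsingleton (p.ResidueField ⊗[B] (M ⧸ N)) := by
    have hzero : LinearMap.baseChange p.ResidueField N.mkQ = 0 := by
      apply LinearMap.ext_on_range hf2
      intro i
      rw [← hm i, LinearMap.baseChange_tmul, LinearMap.zero_apply]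
      have : N.mkQ (m i) = 0 := by
        rw [Submodule.mkQ_apply, Submodule.Quotient.mk_eq_zero]
        exact Submodule.subset_span ⟨i, rfl⟩
      rw [this, TensorProduct.tmul_zero]
    have hsurj : Function.Surjective (LinearMap.baseChange p.ResidueField N.mkQ) := by
      rw [LinearMap.baseChange_eq_ltensor]
      exact LinearMap.lTensor_surjective _ (Submodule.mkQ_surjective N)
    refine ⟨fun y z => ?_⟩
    obtain ⟨y', rfl⟩ := hsurj y
    obtain ⟨z', rfl⟩ := hsurj z
    rw [hzero, LinearMap.zero_apply, LinearMap.zero_apply]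
  have hsupp : (⟨p, inferInstance⟩ : PrimeSpectrum B) ∉ Module.support B (M ⧸ N) := by
    rw [Module.mem_support_iff_nontrivial_residueField_tensorProduct]
    exact not_nontrivial_iff_subsingleton.2 hsub
  rw [Module.notMem_support_iff'] at hsupp
  -- `F ⊗ M` is spanned by the lifts
  have hspan : Submodule.span F (Set.range fun i => (1 : F) ⊗ₜ[B] m i) = ⊤ := by
    rw [eq_top_iff, ← span_one_tmul_eq_top M F, Submodule.span_le]
    rintro _ ⟨x, rfl⟩
    obtain ⟨s, hs, hsx⟩ := hsupp (N.mkQ x)
    have hsx' : s • x ∈ N := by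
      rw [← map_smul, Submodule.mkQ_apply, Submodule.Quotient.mk_eq_zero] at hsx
      exact hsx
    have h1 : (1 : F) ⊗ₜ[B] (s • x) ∈
        Submodule.span F (Set.range fun i => (1 : F) ⊗ₜ[B] m i) := by
      refine Submodule.span_induction
        (p := fun y _ => (1 : F) ⊗ₜ[B] y ∈
          Submodule.span F (Set.range fun i => (1 : F) ⊗ₜ[B] m i)) ?_ ?_ ?_ ?_ hsx'
      · rintro _ ⟨i, rfl⟩
        exact Submodule.subset_span ⟨i, rfl⟩
      · rw [TensorProduct.tmul_zero]; exact zero_mem _
      · intro y z _ _ hy hz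
        rw [TensorProduct.tmul_add]; exact add_mem hy hz
      · intro b y _ hy
        have h : (1 : F) ⊗ₜ[B] (b • y) = algebraMap B F b • ((1 : F) ⊗ₜ[B] y) := by
          rw [TensorProduct.tmul_smul, TensorProduct.smul_tmul', TensorProduct.smul_tmul',
            Algebra.smul_def, smul_eq_mul]
        rw [h]
        exact Submodule.smul_mem _ _ hy
    have e1 : (1 : F) ⊗ₜ[B] (s • x) = (algebraMap B F s) ⊗ₜ[B] x := by
      rw [TensorProduct.tmul_smul, TensorProduct.smul_tmul', Algebra.smul_def, mul_one]
    have h2 : (1 : F) ⊗ₜ[B] x = (algebraMap B F s)⁻¹ • ((1 : F) ⊗ₜ[B] (s • x)) := by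
      rw [e1, TensorProduct.smul_tmul', smul_eq_mul, inv_mul_cancel₀ (hF s hs)]
    show (1 : F) ⊗ₜ[B] x ∈ Submodule.span F (Set.range fun i => (1 : F) ⊗ₜ[B] m i)
    rw [h2]
    exact Submodule.smul_mem _ _ h1
  have h3 := finrank_range_le_card (R := F) (fun i => (1 : F) ⊗ₜ[B] m i)
  rw [Set.finrank, hspan, finrank_top, Fintype.card_fin] at h3
  exact h3

end Semicont

section Quot

variable (k A : Type u) [Field k] [CommRing A] [IsLocalRing A] [IsNoetherianRing A] [Algebra k A]

theorem finite_residueField_quotient [Module.Finite k (ResidueField A)] (q : Ideal A)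
    [IsLocalRing (A ⧸ q)] : Module.Finite k (ResidueField (A ⧸ q)) := by
  let φ : A →ₐ[k] ResidueField (A ⧸ q) :=
    (IsScalarTower.toAlgHom k (A ⧸ q) (ResidueField (A ⧸ q))).comp (Ideal.Quotient.mkₐ k q)
  have hφ : ∀ a ∈ maximalIdeal A, φ a = 0 := by
    intro a ha
    show residue (A ⧸ q) (Ideal.Quotient.mk q a) = 0
    rw [residue_eq_zero_iff, ← IsLocalRing.map_maximalIdeal_of_surjective (Ideal.Quotient.mk q)
      Ideal.Quotient.mk_surjective]
    exact Ideal.mem_map_of_mem _ ha
  have hφs : Function.Surjective φ := by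
    intro y
    obtain ⟨x, rfl⟩ := residue_surjective y
    obtain ⟨a, rfl⟩ := Ideal.Quotient.mk_surjective x
    exact ⟨a, rfl⟩
  let ψ : ResidueField A →ₐ[k] ResidueField (A ⧸ q) :=
    Ideal.Quotient.liftₐ (maximalIdeal A) φ hφ
  have hψs : Function.Surjective ψ := by
    intro y
    obtain ⟨a, rfl⟩ := hφs y
    exact ⟨residue A a, rfl⟩
  exact Module.Finite.of_surjective ψ.toLinearMap hψs

theorem isAdicComplete_quotient [IsAdicComplete (maximalIdeal A) A] (q : Ideal A)
    [IsLocalRing (A ⧸ q)] : IsAdicComplete (maximalIdeal (A ⧸ q)) (A ⧸ q) := by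
  have h1 : IsAdicComplete (maximalIdeal A) (A ⧸ q) := AdicDC.isAdicComplete_of_finite A _ _
  have h2 := (IsAdicComplete.map_algebraMap_iff (R := A) (S := A ⧸ q) (I := maximalIdeal A)
    (M := A ⧸ q)).mpr h1
  have h3 : (maximalIdeal A).map (algebraMap A (A ⧸ q)) = maximalIdeal (A ⧸ q) :=
    IsLocalRing.map_maximalIdeal_of_surjective (Ideal.Quotient.mk q) Ideal.Quotient.mk_surjective
  rwa [h3] at h2

end Quot

section Final

/-- the fibre rank at `p` of the completed module of differentials is at least `n` as soon as the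
quotient by a prime `q ≤ p` is finite and injective over a power series ring in `n` variables -/
theorem le_finrank_fibre (k A : Type u) [Field k] [CommRing A]
    [IsLocalRing A] [IsNoetherianRing A] [Algebra k A]
    [IsAdicComplete (IsLocalRing.maximalIdeal A) A]
    [Module.Finite k (IsLocalRing.ResidueField A)]
    (p q : Ideal A) [p.IsPrime] [q.IsPrime] (hqp : q ≤ p) (n : ℕ)
    (w : MvPowerSeries (Fin n) k →ₐ[k] A ⧸ q) (hwinj : Function.Injective w)
    (hwfin : w.toRingHom.Finite) :
    n ≤ Module.finrank p.ResidueField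
      (p.ResidueField ⊗[A] AdicCompletion (maximalIdeal A) (Ω[A⁄k])) := by
  letI : Algebra (MvPowerSeries (Fin n) k) (A ⧸ q) := w.toRingHom.toAlgebra
  haveI : IsScalarTower k (MvPowerSeries (Fin n) k) (A ⧸ q) :=
    IsScalarTower.of_algebraMap_eq (fun c => (w.commutes c).symm)
  haveI : Module.Finite (MvPowerSeries (Fin n) k) (A ⧸ q) := hwfin
  have hinj : Function.Injective (algebraMap (MvPowerSeries (Fin n) k) (A ⧸ q)) := hwinj
  haveI : IsLocalRing (A ⧸ q) :=
    IsLocalRing.of_surjective' (Ideal.Quotient.mk q) Ideal.Quotient.mk_surjective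
  haveI := KaehlerRank.faithfulSMul_fractionRing k n (A ⧸ q) hinj
  letI : Algebra (FractionRing (MvPowerSeries (Fin n) k)) (FractionRing (A ⧸ q)) :=
    FractionRing.liftAlgebra (MvPowerSeries (Fin n) k) (FractionRing (A ⧸ q))
  haveI : IsScalarTower (MvPowerSeries (Fin n) k) (FractionRing (MvPowerSeries (Fin n) k))
      (FractionRing (A ⧸ q)) := FractionRing.isScalarTower_liftAlgebra _ _
  have h1 := KaehlerGen.le_finrank_of_surjective k n (A ⧸ q) A Ideal.Quotient.mk_surjective
    (FractionRing (MvPowerSeries (Fin n) k)) (FractionRing (A ⧸ q)) hinj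
  haveI := KaehlerUnits.finite_completedKaehler k A
  have hF : ∀ s : A, s ∉ p → algebraMap A (FractionRing (A ⧸ q)) s ≠ 0 := by
    intro s hs h0
    rw [IsScalarTower.algebraMap_apply A (A ⧸ q) (FractionRing (A ⧸ q))] at h0
    have h2 : algebraMap A (A ⧸ q) s = 0 :=
      IsFractionRing.injective (A ⧸ q) (FractionRing (A ⧸ q)) (h0.trans (map_zero _).symm)
    exact hs (hqp (Ideal.Quotient.eq_zero_iff_mem.1 h2))
  exact h1.trans (finrank_tensor_le_finrank_fibre
    (AdicCompletion (maximalIdeal A) (Ω[A⁄k])) p (FractionRing (A ⧸ q)) hF)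

theorem S3847_statement (k A : Type u) [Field k] [CommRing A]
    [IsLocalRing A] [IsNoetherianRing A] [Algebra k A]
    [IsAdicComplete (IsLocalRing.maximalIdeal A) A]
    [Module.Finite k (IsLocalRing.ResidueField A)]
    (p q : Ideal A) [p.IsPrime] (hq : q ∈ minimalPrimes A) (hqp : q ≤ p) :
    ringKrullDim (A ⧸ q) ≤
      (Cardinal.toENat (Module.rank p.ResidueField
        (TensorProduct A p.ResidueField
          (AdicCompletion (IsLocalRing.maximalIdeal A) (KaehlerDifferential k A)))) :
            WithBot ℕ∞) := by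
  haveI hqprime : q.IsPrime := hq.1.1
  haveI : IsLocalRing (A ⧸ q) :=
    IsLocalRing.of_surjective' (Ideal.Quotient.mk q) Ideal.Quotient.mk_surjective
  haveI := isAdicComplete_quotient A q
  haveI := finite_residueField_quotient k A q
  obtain ⟨n, w, hwinj, -, hwfin⟩ :=
    Groth.Agent.Helper14.CohenStructure.exists_finite_injective_of_field (k₀ := k) (A := A ⧸ q)
  have hdim : ringKrullDim (A ⧸ q) ≤ n := by
    letI : Algebra (MvPowerSeries (Fin n) k) (A ⧸ q) := w.toRingHom.toAlgebra
    haveI : Module.Finite (MvPowerSeries (Fin n) k) (A ⧸ q) := hwfin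
    haveI : Algebra.IsIntegral (MvPowerSeries (Fin n) k) (A ⧸ q) := inferInstance
    have hinj : Function.Injective (algebraMap (MvPowerSeries (Fin n) k) (A ⧸ q)) := hwinj
    rw [Groth.Agent.Helper7.IntDim.ringKrullDim_eq_of_isIntegral_of_injective hinj]
    exact Groth.Agent.Helper5.PSR.ringKrullDim_mvPowerSeries_le (k := k) n
  have h1 := le_finrank_fibre k A p q hqp n w hwinj hwfin
  haveI := KaehlerUnits.finite_completedKaehler k A
  rw [← Module.finrank_eq_rank, Cardinal.toENat_nat]
  refine hdim.trans ?_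
  exact_mod_cast h1

end Final

end Groth.Agent.Helper11.KaehlerFibre
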