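import Mathlib
import Groth.Agent.Lib.Helper11.KaehlerRank
import Groth.Agent.Lib.Helper11.LocGen

set_option autoImplicit false

namespace Groth.Agent.Helper11.KaehlerUnramA

universe u
open IsLocalRing TensorProduct KaehlerDifferential

section

variable (k : Type u) [Field k] (r : ℕ) (A : Type u) [CommRing A]
    [IsLocalRing A] [IsNoetherianRing A]
    [Algebra (MvPowerSeries (Fin r) k) A] [Algebra k A]
    [IsScalarTower k (MvPowerSeries (Fin r) k) A]
    [Module.Finite (MvPowerSeries (Fin r) k) A]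

theorem comap_maximalIdeal' :
    (maximalIdeal A).comap (algebraMap (MvPowerSeries (Fin r) k) A) =
      maximalIdeal (MvPowerSeries (Fin r) k) := by
  haveI : ((maximalIdeal A).comap (algebraMap (MvPowerSeries (Fin r) k) A)).IsMaximal :=
    Ideal.isMaximal_comap_of_isIntegral_of_isMaximal (R := MvPowerSeries (Fin r) k) (maximalIdeal A)
  exact IsLocalRing.eq_maximalIdeal this

theorem span_tensor' :
    Submodule.span A (Set.range fun i : Fin r =>
      ((1 : A) ⊗ₜ[MvPowerSeries (Fin r) k] D k (MvPowerSeries (Fin r) k) (MvPowerSeries.X i) :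
        A ⊗[MvPowerSeries (Fin r) k] Ω[MvPowerSeries (Fin r) k⁄k])) ⊔
      (maximalIdeal A) • (⊤ : Submodule A
        (A ⊗[MvPowerSeries (Fin r) k] Ω[MvPowerSeries (Fin r) k⁄k])) = ⊤ := by
  set Q : Submodule A (A ⊗[MvPowerSeries (Fin r) k] Ω[MvPowerSeries (Fin r) k⁄k]) :=
    Submodule.span A (Set.range fun i : Fin r =>
      ((1 : A) ⊗ₜ[MvPowerSeries (Fin r) k] D k (MvPowerSeries (Fin r) k) (MvPowerSeries.X i) :
        A ⊗[MvPowerSeries (Fin r) k] Ω[MvPowerSeries (Fin r) k⁄k])) ⊔
      (maximalIdeal A) • (⊤ : Submodule A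
        (A ⊗[MvPowerSeries (Fin r) k] Ω[MvPowerSeries (Fin r) k⁄k])) with hQ
  have h1 : ∀ ω : Ω[MvPowerSeries (Fin r) k⁄k], (1 : A) ⊗ₜ[MvPowerSeries (Fin r) k] ω ∈ Q := by
    intro ω
    have hω : ω ∈ Submodule.span (MvPowerSeries (Fin r) k)
        (Set.range fun i : Fin r => D k (MvPowerSeries (Fin r) k) (MvPowerSeries.X i)) ⊔
        (maximalIdeal (MvPowerSeries (Fin r) k)) •
          (⊤ : Submodule (MvPowerSeries (Fin r) k) (Ω[MvPowerSeries (Fin r) k⁄k])) := by
      rw [Groth.Agent.Helper9.PSOmega.span_D_X_sup]; trivial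
    obtain ⟨u, hu, v, hv, rfl⟩ := Submodule.mem_sup.mp hω
    rw [TensorProduct.tmul_add]
    refine add_mem ?_ ?_
    · refine Submodule.span_induction
        (p := fun y _ => (1 : A) ⊗ₜ[MvPowerSeries (Fin r) k] y ∈ Q) ?_ ?_ ?_ ?_ hu
      · rintro _ ⟨i, rfl⟩
        exact Submodule.mem_sup_left (Submodule.subset_span ⟨i, rfl⟩)
      · rw [TensorProduct.tmul_zero]; exact zero_mem _
      · intro y z _ _ hy hz
        rw [TensorProduct.tmul_add]; exact add_mem hy hz
      · intro p y _ hy
        rw [TensorProduct.tmul_smul, ← algebraMap_smul A p ((1 : A) ⊗ₜ[MvPowerSeries (Fin r) k] y)]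
        exact Submodule.smul_mem _ _ hy
    · refine Submodule.smul_induction_on hv ?_ ?_
      · intro p hp y _
        rw [TensorProduct.tmul_smul, ← algebraMap_smul A p ((1 : A) ⊗ₜ[MvPowerSeries (Fin r) k] y)]
        refine Submodule.mem_sup_right (Submodule.smul_mem_smul ?_ Submodule.mem_top)
        rw [← comap_maximalIdeal' k r A] at hp
        exact hp
      · intro y z hy hz
        rw [TensorProduct.tmul_add]; exact add_mem hy hz
  rw [eq_top_iff]
  rintro t -
  induction t using TensorProduct.induction_on with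
  | zero => exact zero_mem _
  | tmul a ω =>
    have h : a ⊗ₜ[MvPowerSeries (Fin r) k] ω = a • ((1 : A) ⊗ₜ[MvPowerSeries (Fin r) k] ω) := by
      rw [TensorProduct.smul_tmul', smul_eq_mul, mul_one]
    rw [h]
    exact Submodule.smul_mem _ _ (h1 ω)
  | add x y hx hy => exact add_mem hx hy

theorem map_mapBaseChange_mem' [IsAdicComplete (maximalIdeal A) A]
    (y : AdicCompletion (maximalIdeal A)
      (A ⊗[MvPowerSeries (Fin r) k] Ω[MvPowerSeries (Fin r) k⁄k])) :
    AdicCompletion.map (maximalIdeal A) (mapBaseChange k (MvPowerSeries (Fin r) k) A) y ∈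
      Submodule.span A (Set.range (KaehlerRank.w k r A)) := by
  have hy : y ∈ Submodule.span A (Set.range fun i : Fin r =>
      AdicCompletion.of (maximalIdeal A) _
        ((1 : A) ⊗ₜ[MvPowerSeries (Fin r) k]
          D k (MvPowerSeries (Fin r) k) (MvPowerSeries.X i))) := by
    rw [Groth.Agent.Helper9.AdicFin.span_of_eq_top _ _ (span_tensor' k r A)]; trivial
  refine Submodule.span_induction
    (p := fun y _ => AdicCompletion.map (maximalIdeal A)
      (mapBaseChange k (MvPowerSeries (Fin r) k) A) y ∈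
        Submodule.span A (Set.range (KaehlerRank.w k r A))) ?_ ?_ ?_ ?_ hy
  · rintro _ ⟨i, rfl⟩
    rw [AdicCompletion.map_of, KaehlerDifferential.mapBaseChange_tmul, one_smul,
      KaehlerDifferential.map_D]
    exact Submodule.subset_span ⟨i, rfl⟩
  · rw [map_zero]; exact zero_mem _
  · intro y z _ _ hy hz
    rw [map_add]; exact add_mem hy hz
  · intro a y _ hy
    rw [LinearMap.map_smul_of_tower]
    exact Submodule.smul_mem _ _ hy

theorem exists_smul_mem_span' [IsAdicComplete (maximalIdeal A) A]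
    [Module.Finite k (ResidueField A)] (p : Ideal A) [p.IsPrime]
    (hun : Algebra.IsUnramifiedAt (MvPowerSeries (Fin r) k) p)
    (ω : AdicCompletion (maximalIdeal A) (Ω[A⁄k])) :
    ∃ s : A, s ∉ p ∧ s • ω ∈ Submodule.span A (Set.range (KaehlerRank.w k r A)) := by
  haveI : Module.Finite (ResidueField A) (Ω[ResidueField A⁄k]) := inferInstance
  obtain ⟨hc, -, hker⟩ := Groth.Agent.Helper11.KaehlerCompl.S5991_statement k
    (MvPowerSeries (Fin r) k) A
  haveI := hc
  obtain ⟨η, hη⟩ := AdicCompletion.of_surjective (maximalIdeal A) (Ω[A⁄MvPowerSeries (Fin r) k])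
    (AdicCompletion.map (maximalIdeal A)
      (KaehlerDifferential.map k (MvPowerSeries (Fin r) k) A A) ω)
  have hsupp : (⟨p, inferInstance⟩ : PrimeSpectrum A) ∉
      Module.support A (Ω[A⁄MvPowerSeries (Fin r) k]) := by
    have h : (⟨p, inferInstance⟩ : PrimeSpectrum A) ∈
        Algebra.unramifiedLocus (MvPowerSeries (Fin r) k) A := hun
    rw [Algebra.unramifiedLocus_eq_compl_support] at h
    exact h
  rw [Module.notMem_support_iff'] at hsupp
  obtain ⟨s, hs0, hs⟩ := hsupp η
  refine ⟨s, hs0, ?_⟩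
  have h1 : s • ω ∈ LinearMap.ker (AdicCompletion.map (maximalIdeal A)
      (KaehlerDifferential.map k (MvPowerSeries (Fin r) k) A A)) := by
    rw [LinearMap.mem_ker, LinearMap.map_smul_of_tower, ← hη, ← map_smul, hs, map_zero]
  rw [← hker] at h1
  obtain ⟨y, hy⟩ := h1
  rw [← hy]
  exact map_mapBaseChange_mem' k r A y

/-- the "if" direction of S5054 -/
theorem gen_of_unramified [IsAdicComplete (maximalIdeal A) A]
    [Module.Finite k (ResidueField A)] (p : Ideal A) [p.IsPrime]
    (hun : Algebra.IsUnramifiedAt (MvPowerSeries (Fin r) k) p) :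
    ∃ s : Fin r → LocalizedModule p.primeCompl (AdicCompletion (maximalIdeal A) (Ω[A⁄k])),
      Submodule.span (Localization.AtPrime p) (Set.range s) = ⊤ :=
  ⟨_, LocGen.span_mk_eq_top_of_forall p (KaehlerRank.w k r A)
    (fun ω => exists_smul_mem_span' k r A p hun ω)⟩

end

end Groth.Agent.Helper11.KaehlerUnramA
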