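import Mathlib
import Groth.Agent.Lib.Helper11.KaehlerRank
import Groth.Agent.Lib.Helper11.KaehlerUnits
import Groth.Agent.Lib.Helper11.KaehlerFibre
import Groth.Agent.Lib.Helper11.LocGen
import Groth.Agent.Lib.Helper11.KaehlerUnramA
import Groth.Agent.Lib.Helper14.CohenStructure

set_option autoImplicit false

namespace Groth.Agent.Helper11.KaehlerUnramB

universe u
open IsLocalRing TensorProduct KaehlerDifferential

theorem range_equivFin_symm' {α : Type*} (t : Finset α) :
    Set.range (fun i : Fin t.card => ((t.equivFin.symm i : t) : α)) = (t : Set α) := by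
  ext x
  constructor
  · rintro ⟨i, rfl⟩
    exact (t.equivFin.symm i).2
  · intro hx
    exact ⟨t.equivFin ⟨x, hx⟩, by simp⟩

section Sop

variable {A : Type*} [CommRing A] [IsLocalRing A] [IsNoetherianRing A]

theorem mem_minimalPrimes_of_le {I J P : Ideal A} (hP : P ∈ I.minimalPrimes) (hIJ : I ≤ J)
    (hJP : J ≤ P) : P ∈ J.minimalPrimes :=
  ⟨⟨hP.1.1, hJP⟩, fun _ hQ hQP => hP.2 ⟨hQ.1, hIJ.trans hQ.2⟩ hQP⟩

/-- a system of parameters avoiding a non-maximal prime -/
theorem exists_sop_avoiding (p : Ideal A) [hpp : p.IsPrime] (hp : p ≠ maximalIdeal A) :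
    ∃ (n : ℕ) (t : Fin n → A), (n : ℕ∞) = (maximalIdeal A).height ∧
      (∀ i, t i ∈ maximalIdeal A ∧ t i ∉ p) ∧
      maximalIdeal A ∈ (Ideal.span (Set.range t)).minimalPrimes := by
  classical
  obtain ⟨s, hs, hcard⟩ := Ideal.exists_finset_card_eq_height_of_isNoetherianRing (maximalIdeal A)
  set I : Ideal A := Ideal.span (s : Set A) with hI
  have hIle : I ≤ maximalIdeal A := hs.1.2
  have hpm : p ≤ maximalIdeal A := le_maximalIdeal hpp.ne_top
  have hmp : ¬ maximalIdeal A ≤ p := fun h => hp (le_antisymm hpm h)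
  have hIp : ¬ I ≤ p := fun h => hmp (hs.2 ⟨hpp, h⟩ hpm)
  have hmIp : ¬ maximalIdeal A * I ≤ p := fun h =>
    ((Ideal.IsPrime.mul_le hpp).mp h).elim hmp hIp
  obtain ⟨z₀, hz₀, hz₀p⟩ := SetLike.not_le_iff_exists.mp hmIp
  have hmI_le : maximalIdeal A * I ≤ I := Ideal.mul_le_right
  let g : A → A := fun x => if x ∈ p then x + z₀ else x
  have hg2 : ∀ x, g x ∉ p := by
    intro x
    by_cases hx : x ∈ p
    · simp only [g, if_pos hx]
      intro h
      exact hz₀p ((Ideal.add_mem_iff_right p hx).mp h)
    · simp only [g, if_neg hx]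
      exact hx
  have hg3 : ∀ x, g x - x ∈ maximalIdeal A * I := by
    intro x
    by_cases hx : x ∈ p
    · simp only [g, if_pos hx, add_sub_cancel_left]
      exact hz₀
    · simp only [g, if_neg hx, sub_self]
      exact zero_mem _
  have hg1 : ∀ x ∈ I, g x ∈ I := by
    intro x hx
    have : g x = x + (g x - x) := by ring
    rw [this]
    exact add_mem hx (hmI_le (hg3 x))
  let t : Fin s.card → A := fun i => g ((s.equivFin.symm i : s) : A)
  have hts : ∀ i, ((s.equivFin.symm i : s) : A) ∈ I := fun i =>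
    Ideal.subset_span (s.equivFin.symm i).2
  have hspan : Ideal.span (Set.range t) = I := by
    apply le_antisymm
    · rw [Ideal.span_le]
      rintro _ ⟨i, rfl⟩
      exact hg1 _ (hts i)
    · have hfg : (I : Submodule A A).FG := IsNoetherian.noetherian _
      have hjac : maximalIdeal A ≤ (⊥ : Ideal A).jacobson :=
        (IsLocalRing.jacobson_eq_maximalIdeal ⊥ bot_ne_top).ge
      refine Submodule.le_of_le_smul_of_le_jacobson_bot hfg hjac ?_
      rw [hI, Ideal.span_le]
      intro x hx
      have hx' : x = g x - (g x - x) := by ring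
      rw [SetLike.mem_coe, hx']
      refine sub_mem (Submodule.mem_sup_left ?_) (Submodule.mem_sup_right ?_)
      · refine Ideal.subset_span ⟨s.equivFin ⟨x, hx⟩, ?_⟩
        simp [t]
      · rw [smul_eq_mul]
        exact hg3 x
  refine ⟨s.card, t, hcard, fun i => ⟨hIle (hg1 _ (hts i)), hg2 _⟩, ?_⟩
  rw [hspan]
  exact hs

end Sop

section Hom

open MvPowerSeries

/-- a family of elements of the maximal ideal generating an ideal primary to it defines a finite
local homomorphism from the power series ring -/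
theorem exists_algHom_finite (k A : Type u) [Field k] [CommRing A] [IsLocalRing A]
    [IsNoetherianRing A] [Algebra k A] [IsAdicComplete (maximalIdeal A) A]
    [Module.Finite k (ResidueField A)] (n : ℕ) (g : Fin n → A)
    (hmin : maximalIdeal A ∈ (Ideal.span (Set.range g)).minimalPrimes) :
    ∃ f : MvPowerSeries (Fin n) k →ₐ[k] A, (∀ i, f (X i) = g i) ∧
      f.toRingHom.Finite ∧ IsLocalHom f.toRingHom := by
  classical
  set J : Ideal A := Ideal.span (Set.range g) with hJdef
  have hJle : J ≤ maximalIdeal A := hmin.1.2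
  have hg : ∀ i, g i ∈ maximalIdeal A := fun i => hJle (Ideal.subset_span ⟨i, rfl⟩)
  obtain ⟨f, hf⟩ := Groth.Agent.Helper14.PowerSeriesComplete.exists_algHom_complete
    (Λ := k) (maximalIdeal A) g hg
  letI : Algebra (MvPowerSeries (Fin n) k) A := (f : MvPowerSeries (Fin n) k →+* A).toAlgebra
  haveI : IsScalarTower k (MvPowerSeries (Fin n) k) A :=
    IsScalarTower.of_algebraMap_eq (fun x => (f.commutes x).symm)
  have hmap : (maximalIdeal (MvPowerSeries (Fin n) k)).map
      (algebraMap (MvPowerSeries (Fin n) k) A) = J := by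
    rw [Groth.Agent.Helper14.PowerSeriesComplete.maximalIdeal_eq, IsLocalRing.maximalIdeal_eq_bot,
      Ideal.map_bot, bot_sup_eq, Ideal.map_span, ← Set.range_comp, hJdef]
    congr 2
    ext i
    exact hf i
  haveI : IsScalarTower k (MvPowerSeries (Fin n) k) (ResidueField A) :=
    IsScalarTower.of_algebraMap_eq (fun x => by
      show residue A (algebraMap k A x) = residue A (f (algebraMap k _ x))
      rw [f.commutes])
  have hfinS : Module.Finite (MvPowerSeries (Fin n) k) (ResidueField A) :=
    Module.Finite.of_restrictScalars_finite k (MvPowerSeries (Fin n) k) (ResidueField A)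
  obtain ⟨q, b, hb⟩ := Groth.Agent.Helper14.CohenStructure.exists_lift_generators_residue
    (S := MvPowerSeries (Fin n) k) (R := A) hfinS
  obtain ⟨N, hN⟩ := Groth.Agent.Helper14.CohenStructure.exists_pow_le_of_mem_minimalPrimes J hmin
  haveI : Module.Finite (MvPowerSeries (Fin n) k) (A ⧸ J) := by
    refine Groth.Agent.Helper14.CohenStructure.finite_of_pow_smul_eq_bot' (R := A) b hb N ?_
    rw [eq_bot_iff]
    refine Submodule.smul_le.mpr fun r hr x _ => ?_
    obtain ⟨x, rfl⟩ := Ideal.Quotient.mk_surjective x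
    rw [Submodule.mem_bot]
    change Ideal.Quotient.mk J (r * x) = 0
    rw [Ideal.Quotient.eq_zero_iff_mem]
    exact J.mul_mem_right _ (hN hr)
  haveI : IsHausdorff (maximalIdeal (MvPowerSeries (Fin n) k)) A := by
    refine ⟨fun x hx => ?_⟩
    haveI : IsHausdorff (maximalIdeal A) A := inferInstance
    apply IsHausdorff.haus ‹IsHausdorff (maximalIdeal A) A› x
    intro m
    have hxm := hx m
    rw [SModEq.zero] at hxm ⊢
    have hle : (maximalIdeal (MvPowerSeries (Fin n) k) ^ m • ⊤ : Submodule _ A) ≤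
        (maximalIdeal A ^ m • ⊤ : Submodule A A).restrictScalars (MvPowerSeries (Fin n) k) := by
      rw [Ideal.smul_top_eq_map, Ideal.map_pow, hmap]
      intro y hy
      rw [Submodule.restrictScalars_mem] at hy ⊢
      rw [smul_eq_mul, Ideal.mul_top]
      exact Ideal.pow_right_mono hJle m hy
    exact hle hxm
  have hfin : Module.Finite (MvPowerSeries (Fin n) k) A := by
    refine Groth.Agent.Helper1.finite_of_isAdicComplete_of_finite_quotient
      (maximalIdeal (MvPowerSeries (Fin n) k)) ?_
    rw [Ideal.smul_top_eq_map, hmap]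
    exact Module.Finite.equiv
      (Submodule.Quotient.restrictScalarsEquiv (MvPowerSeries (Fin n) k) J).symm
  refine ⟨f, hf, hfin, ?_⟩
  -- local homomorphism
  refine ⟨fun x hx => ?_⟩
  rw [MvPowerSeries.isUnit_iff_constantCoeff]
  have hsub : x - C (constantCoeff x) ∈ maximalIdeal (MvPowerSeries (Fin n) k) := by
    rw [mem_maximalIdeal, mem_nonunits_iff, MvPowerSeries.isUnit_iff_constantCoeff]
    simp
  have hfm : (f : MvPowerSeries (Fin n) k →+* A) (x - C (constantCoeff x)) ∈ maximalIdeal A := by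
    have : (f : MvPowerSeries (Fin n) k →+* A) (x - C (constantCoeff x)) ∈
        (maximalIdeal (MvPowerSeries (Fin n) k)).map (algebraMap (MvPowerSeries (Fin n) k) A) :=
      Ideal.mem_map_of_mem _ hsub
    rw [hmap] at this
    exact hJle this
  rw [isUnit_iff_ne_zero]
  intro h0
  have hxm : (f : MvPowerSeries (Fin n) k →+* A) x ∈ maximalIdeal A := by
    have : (f : MvPowerSeries (Fin n) k →+* A) x =
        (f : MvPowerSeries (Fin n) k →+* A) (x - C (constantCoeff x)) := by
      rw [h0, map_zero, sub_zero]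
    rw [this]
    exact hfm
  exact hxm hx

end Hom

section Unram

variable (k : Type u) [Field k] (r : ℕ) (A : Type u) [CommRing A]
    [IsLocalRing A] [IsNoetherianRing A]
    [Algebra (MvPowerSeries (Fin r) k) A] [Algebra k A]
    [IsScalarTower k (MvPowerSeries (Fin r) k) A]
    [Module.Finite (MvPowerSeries (Fin r) k) A]

theorem isUnramifiedAt_of_gen [IsAdicComplete (maximalIdeal A) A] (p : Ideal A) [hpp : p.IsPrime]
    (hgen : Submodule.span (Localization.AtPrime p)
      (Set.range fun i => LocalizedModule.mkLinearMap p.primeCompl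
        (AdicCompletion (maximalIdeal A) (Ω[A⁄k])) (KaehlerRank.w k r A i)) = ⊤) :
    Algebra.IsUnramifiedAt (MvPowerSeries (Fin r) k) p := by
  have hfor := LocGen.forall_of_span_mk_eq_top p (KaehlerRank.w k r A) hgen
  haveI : Module.Finite A (Ω[A⁄MvPowerSeries (Fin r) k]) := inferInstance
  haveI : IsAdicComplete (maximalIdeal A) (Ω[A⁄MvPowerSeries (Fin r) k]) :=
    AdicDC.isAdicComplete_of_finite A _ _
  have hD : ∀ a : A, ∃ s : A, s ∉ p ∧ s • D (MvPowerSeries (Fin r) k) A a = 0 := by
    intro a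
    obtain ⟨s, hs, hmem⟩ := hfor (AdicCompletion.of _ _ (D k A a))
    refine ⟨s, hs, ?_⟩
    have h1 : AdicCompletion.map (maximalIdeal A)
        (KaehlerDifferential.map k (MvPowerSeries (Fin r) k) A A)
        (s • AdicCompletion.of _ _ (D k A a)) = 0 := by
      refine Submodule.span_induction
        (p := fun y _ => AdicCompletion.map (maximalIdeal A)
          (KaehlerDifferential.map k (MvPowerSeries (Fin r) k) A A) y = 0) ?_ ?_ ?_ ?_ hmem
      · rintro _ ⟨i, rfl⟩
        unfold KaehlerRank.w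
        rw [AdicCompletion.map_of, KaehlerDifferential.map_D]
        change AdicCompletion.of _ _ (D (MvPowerSeries (Fin r) k) A
          (algebraMap (MvPowerSeries (Fin r) k) A (MvPowerSeries.X i))) = 0
        rw [Derivation.map_algebraMap, map_zero]
      · exact map_zero _
      · intro y z _ _ hy hz
        rw [map_add, hy, hz, add_zero]
      · intro b y _ hy
        rw [LinearMap.map_smul_of_tower, hy, smul_zero]
    rw [LinearMap.map_smul_of_tower, AdicCompletion.map_of, KaehlerDifferential.map_D,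
      ← map_smul] at h1
    exact (AdicCompletion.of_inj (I := maximalIdeal A)).mp (h1.trans (map_zero _).symm)
  show (⟨p, inferInstance⟩ : PrimeSpectrum A) ∈
    Algebra.unramifiedLocus (MvPowerSeries (Fin r) k) A
  rw [Algebra.unramifiedLocus_eq_compl_support, Set.mem_compl_iff, Module.notMem_support_iff']
  intro η
  have hη : η ∈ Submodule.span A (Set.range (D (MvPowerSeries (Fin r) k) A)) := by
    rw [span_range_derivation]; trivial
  refine Submodule.span_induction (p := fun y _ => ∃ s : A, s ∉ p ∧ s • y = 0) ?_ ?_ ?_ ?_ hη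
  · rintro _ ⟨a, rfl⟩
    exact hD a
  · exact ⟨1, (Ideal.ne_top_iff_one p).mp hpp.ne_top, smul_zero _⟩
  · rintro y z _ _ ⟨s, hs, hsy⟩ ⟨s', hs', hsz⟩
    refine ⟨s * s', fun h => (hpp.mem_or_mem h).elim hs hs', ?_⟩
    have e1 : (s * s') • y = 0 := by rw [mul_comm, mul_smul, hsy, smul_zero]
    have e2 : (s * s') • z = 0 := by rw [mul_smul, hsz, smul_zero]
    rw [smul_add, e1, e2, add_zero]
  · rintro b y _ ⟨s, hs, hsy⟩
    exact ⟨s, hs, by rw [smul_comm, hsy, smul_zero]⟩

end Unram

section Main

variable (k A : Type u) [Field k] [CommRing A] [IsLocalRing A] [IsNoetherianRing A] [Algebra k A]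
  [IsAdicComplete (maximalIdeal A) A] [Module.Finite k (ResidueField A)]

theorem exists_of_gen (p : Ideal A) [hpp : p.IsPrime] (hp : p ≠ maximalIdeal A)
    (hq : ∃ q ∈ minimalPrimes A, q ≤ p ∧ ringKrullDim (A ⧸ q) = ringKrullDim A) (m : ℕ)
    (hgen : ∃ s : Fin m → LocalizedModule p.primeCompl
      (AdicCompletion (maximalIdeal A) (Ω[A⁄k])),
      Submodule.span (Localization.AtPrime p) (Set.range s) = ⊤) :
    ∃ (_ : Algebra (MvPowerSeries (Fin m) k) A) (_ : IsScalarTower k (MvPowerSeries (Fin m) k) A),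
      IsLocalHom (algebraMap (MvPowerSeries (Fin m) k) A) ∧
        Module.Finite (MvPowerSeries (Fin m) k) A ∧
          Algebra.IsUnramifiedAt (MvPowerSeries (Fin m) k) p := by
  classical
  haveI := KaehlerUnits.finite_completedKaehler k A
  -- minimal number of generators
  let P : ℕ → Prop := fun j => ∃ s : Fin j → LocalizedModule p.primeCompl
      (AdicCompletion (maximalIdeal A) (Ω[A⁄k])),
      Submodule.span (Localization.AtPrime p) (Set.range s) = ⊤
  have hex : ∃ j, P j := ⟨m, hgen⟩
  set M := Nat.find hex with hMdef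
  have hM : P M := Nat.find_spec hex
  have hMm : M ≤ m := Nat.find_min' hex hgen
  have hminM : ∀ (s : Finset (LocalizedModule p.primeCompl
      (AdicCompletion (maximalIdeal A) (Ω[A⁄k])))),
      Submodule.span (Localization.AtPrime p) (↑s : Set (LocalizedModule p.primeCompl
      (AdicCompletion (maximalIdeal A) (Ω[A⁄k])))) = ⊤ → M ≤ s.card := by
    intro s hs
    refine Nat.find_min' hex ⟨fun i => ((s.equivFin.symm i : s) : LocalizedModule p.primeCompl
      (AdicCompletion (maximalIdeal A) (Ω[A⁄k]))), ?_⟩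
    rw [range_equivFin_symm']
    exact hs
  -- dimension bound
  obtain ⟨q, hqmin, hqp, hdim⟩ := hq
  have h1 := KaehlerFibre.S3847_statement k A p q hqmin hqp
  obtain ⟨t₀, ht₀⟩ := LocGen.exists_lift_of_span_eq_top p M hM
  have h2 := LocGen.finrank_fibre_le p t₀ ht₀ p.ResidueField
    (fun s hs h0 => hs ((Ideal.algebraMap_residueField_eq_zero).mp h0))
  rw [← Module.finrank_eq_rank, Cardinal.toENat_nat, hdim] at h1
  have h3 : ringKrullDim A ≤ (M : WithBot ℕ∞) := h1.trans (by exact_mod_cast h2)
  -- system of parameters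
  obtain ⟨n, t, hn, ht, htmin⟩ := exists_sop_avoiding p hp
  have hnM : n ≤ M := by
    rw [← IsLocalRing.maximalIdeal_height_eq_ringKrullDim, ← hn] at h3
    exact_mod_cast h3
  have hpm : p ≤ maximalIdeal A := le_maximalIdeal hpp.ne_top
  have hmp : ¬ maximalIdeal A ≤ p := fun h => hp (le_antisymm hpm h)
  obtain ⟨y₀, hy₀, hy₀p⟩ := SetLike.not_le_iff_exists.mp hmp
  let x' : Fin m → A := fun i => if h : (i : ℕ) < n then t ⟨i, h⟩ else y₀
  have hx' : ∀ i, x' i ∈ maximalIdeal A ∧ x' i ∉ p := by
    intro i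
    by_cases h : (i : ℕ) < n
    · simp only [x', dif_pos h]
      exact ht _
    · simp only [x', dif_neg h]
      exact ⟨hy₀, hy₀p⟩
  have hminx' : maximalIdeal A ∈ (Ideal.span (Set.range x')).minimalPrimes := by
    refine mem_minimalPrimes_of_le htmin ?_ ?_
    · refine Ideal.span_mono ?_
      rintro _ ⟨j, rfl⟩
      refine ⟨⟨j, lt_of_lt_of_le j.2 (hnM.trans hMm)⟩, ?_⟩
      simp only [x', dif_pos j.2]
    · rw [Ideal.span_le]
      rintro _ ⟨i, rfl⟩
      exact (hx' i).1
  -- units
  obtain ⟨u, hu⟩ := KaehlerUnits.S5080_statement k A p M hM hminM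
    (fun i => x' (Fin.castLE hMm i)) (fun i => (hx' _).2)
  let v : Fin m → Aˣ := fun i => if h : (i : ℕ) < M then u ⟨i, h⟩ else 1
  let g : Fin m → A := fun i => (v i : A) * x' i
  have hspang : Ideal.span (Set.range g) = Ideal.span (Set.range x') := by
    apply le_antisymm
    · rw [Ideal.span_le]
      rintro _ ⟨i, rfl⟩
      exact Ideal.mul_mem_left _ _ (Ideal.subset_span ⟨i, rfl⟩)
    · rw [Ideal.span_le]
      rintro _ ⟨i, rfl⟩
      have : x' i = (((v i)⁻¹ : Aˣ) : A) * g i := by simp [g]
      rw [SetLike.mem_coe, this]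
      exact Ideal.mul_mem_left _ _ (Ideal.subset_span ⟨i, rfl⟩)
  have hming : maximalIdeal A ∈ (Ideal.span (Set.range g)).minimalPrimes := by
    rw [hspang]; exact hminx'
  obtain ⟨f, hfX, hfin, hloc⟩ := exists_algHom_finite k A m g hming
  letI alg : Algebra (MvPowerSeries (Fin m) k) A := f.toRingHom.toAlgebra
  haveI tow : IsScalarTower k (MvPowerSeries (Fin m) k) A :=
    IsScalarTower.of_algebraMap_eq (fun c => (f.commutes c).symm)
  haveI : Module.Finite (MvPowerSeries (Fin m) k) A := hfin
  refine ⟨alg, tow, hloc, hfin, ?_⟩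
  apply isUnramifiedAt_of_gen k m A p
  rw [eq_top_iff, ← hu]
  refine Submodule.span_mono ?_
  rintro _ ⟨i, rfl⟩
  refine ⟨Fin.castLE hMm i, ?_⟩
  dsimp only
  unfold KaehlerRank.w
  have hgi : algebraMap (MvPowerSeries (Fin m) k) A (MvPowerSeries.X (Fin.castLE hMm i)) =
      (u i : A) * x' (Fin.castLE hMm i) := by
    show f (MvPowerSeries.X (Fin.castLE hMm i)) = _
    rw [hfX]
    simp only [g, v]
    rw [dif_pos (show ((Fin.castLE hMm i : Fin m) : ℕ) < M from i.2)]
    rfl
  rw [hgi]

theorem S5054_statement (p : Ideal A) [p.IsPrime] (hp : p ≠ IsLocalRing.maximalIdeal A)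
    (hq : ∃ q ∈ minimalPrimes A, q ≤ p ∧ ringKrullDim (A ⧸ q) = ringKrullDim A) (m : ℕ) :
    (∃ s : Fin m → (LocalizedModule p.primeCompl
      (AdicCompletion (IsLocalRing.maximalIdeal A) (KaehlerDifferential k A))),
      Submodule.span (Localization.AtPrime p) (Set.range s) = ⊤) ↔
      ∃ (_ : Algebra (MvPowerSeries (Fin m) k) A)
        (_ : IsScalarTower k (MvPowerSeries (Fin m) k) A),
        IsLocalHom (algebraMap (MvPowerSeries (Fin m) k) A) ∧
          Module.Finite (MvPowerSeries (Fin m) k) A ∧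
          Algebra.IsUnramifiedAt (MvPowerSeries (Fin m) k) p := by
  constructor
  · exact exists_of_gen k A p hp hq m
  · rintro ⟨alg, tow, -, hfin, hun⟩
    exact KaehlerUnramA.gen_of_unramified k m A p hun

end Main

end Groth.Agent.Helper11.KaehlerUnramB
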