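import Mathlib
import Groth.Agent.Lib.Helper11.KaehlerUnramB
import Groth.Agent.Lib.Helper5.PSR

/-!
# Derivations, power series subrings and integral dependence (characteristic zero lemmas)
-/

set_option autoImplicit false

namespace Groth.Agent.Helper11.GeomRegB

universe u
open IsLocalRing Polynomial

section Poly

variable {R B A N : Type*} [CommRing R] [CommRing B] [CommRing A] [Algebra R B] [Algebra R A]
  [AddCommGroup N] [Module A N] [Module R N] [IsScalarTower R A N]

/-- the derivative of the value of a polynomial with coefficients in a subring `φ(B)` is,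
modulo the differentials of the coefficients, the derived polynomial times the differential -/
theorem der_eval_map_sub_mem (d : Derivation R A N) (φ : B →ₐ[R] A) (S : Submodule A N)
    (hS : ∀ c : B, d (φ c) ∈ S) (Q : B[X]) (a : A) :
    d ((Q.map φ.toRingHom).eval a) - ((Q.map φ.toRingHom).derivative.eval a) • d a ∈ S := by
  induction Q using Polynomial.induction_on' with
  | add p q hp hq =>
    have h : d (((p + q).map φ.toRingHom).eval a) -
        (((p + q).map φ.toRingHom).derivative.eval a) • d a =
        (d ((p.map φ.toRingHom).eval a) - ((p.map φ.toRingHom).derivative.eval a) • d a) +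
        (d ((q.map φ.toRingHom).eval a) - ((q.map φ.toRingHom).derivative.eval a) • d a) := by
      rw [Polynomial.map_add, eval_add, derivative_add, eval_add, map_add, add_smul]
      abel
    rw [h]
    exact S.add_mem hp hq
  | monomial n c =>
    have h : d (((monomial n c).map φ.toRingHom).eval a) -
        (((monomial n c).map φ.toRingHom).derivative.eval a) • d a = a ^ n • d (φ c) := by
      rw [map_monomial, eval_monomial, derivative_monomial, eval_monomial, Derivation.leibniz,
        Derivation.leibniz_pow]
      have h1 : φ.toRingHom c • n • a ^ (n - 1) • d a =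
          (φ.toRingHom c * (n : A) * a ^ (n - 1)) • d a := by
        rw [← Nat.cast_smul_eq_nsmul A n, smul_smul, smul_smul, mul_assoc]
      rw [h1]
      show (φ c * (n : A) * a ^ (n - 1)) • d a + a ^ n • d (φ c) -
        (φ c * (n : A) * a ^ (n - 1)) • d a = a ^ n • d (φ c)
      abel
    rw [h]
    exact S.smul_mem _ (hS c)

end Poly

section Cont

variable {k A : Type*} [Field k] [CommRing A] [IsLocalRing A] [IsNoetherianRing A] [Algebra k A]
  {N : Type*} [AddCommGroup N] [Module A N] [Module k N] [IsScalarTower k A N] [Module.Finite A N]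

/-- a derivation into a finite module is determined on a power series subring by its values on
the variables -/
theorem der_mem_span_X {t : ℕ} (φ : MvPowerSeries (Fin t) k →ₐ[k] A)
    (hφ : ∀ i, φ (MvPowerSeries.X i) ∈ maximalIdeal A) (d : Derivation k A N)
    (c : MvPowerSeries (Fin t) k) :
    d (φ c) ∈ Submodule.span A (Set.range fun i => d (φ (MvPowerSeries.X i))) := by
  set S : Submodule A N := Submodule.span A (Set.range fun i => d (φ (MvPowerSeries.X i))) with hS
  set W : Submodule A (N ⧸ S) :=
    Submodule.span A (Set.range fun c : MvPowerSeries (Fin t) k => S.mkQ (d (φ c))) with hW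
  have hWle : W ≤ maximalIdeal A • W := by
    rw [hW, Submodule.span_le]
    rintro _ ⟨c, rfl⟩
    have hc0 : c - MvPowerSeries.C (MvPowerSeries.constantCoeff c) ∈
        Ideal.span (Set.range (MvPowerSeries.X : Fin t → MvPowerSeries (Fin t) k)) := by
      apply Groth.Agent.Helper5.PSR.mem_span_range_X_of_constantCoeff_eq_zero
      rw [map_sub, MvPowerSeries.constantCoeff_C, sub_self]
    obtain ⟨e, he⟩ := (Ideal.mem_span_range_iff_exists_fun).1 hc0
    have hc : c = MvPowerSeries.C (MvPowerSeries.constantCoeff c) +
        ∑ i, e i * MvPowerSeries.X i := by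
      rw [he]; ring
    have hCalg : φ (MvPowerSeries.C (MvPowerSeries.constantCoeff c)) =
        algebraMap k A (MvPowerSeries.constantCoeff c) := by
      have : (MvPowerSeries.C (MvPowerSeries.constantCoeff c) : MvPowerSeries (Fin t) k) =
          algebraMap k (MvPowerSeries (Fin t) k) (MvPowerSeries.constantCoeff c) := rfl
      rw [this, φ.commutes]
    have h1 : S.mkQ (d (φ c)) =
        ∑ i, φ (MvPowerSeries.X i) • S.mkQ (d (φ (e i))) := by
      conv_lhs => rw [hc]
      rw [map_add, map_sum, map_add, map_sum, map_add, map_sum, hCalg,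
        Derivation.map_algebraMap, map_zero, zero_add]
      refine Finset.sum_congr rfl fun i _ => ?_
      rw [map_mul, Derivation.leibniz, map_add, map_smul, map_smul]
      have h2 : S.mkQ (d (φ (MvPowerSeries.X i))) = 0 := by
        rw [Submodule.mkQ_apply, Submodule.Quotient.mk_eq_zero]
        exact Submodule.subset_span ⟨i, rfl⟩
      rw [h2, smul_zero, zero_add]
    show S.mkQ (d (φ c)) ∈ maximalIdeal A • W
    rw [h1]
    refine Submodule.sum_mem _ fun i _ => ?_
    exact Submodule.smul_mem_smul (hφ i) (Submodule.subset_span ⟨e i, rfl⟩)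
  have hWfg : W.FG := IsNoetherian.noetherian W
  have hjac : maximalIdeal A ≤ (⊥ : Ideal A).jacobson :=
    (IsLocalRing.jacobson_eq_maximalIdeal ⊥ bot_ne_top).ge
  have hW0 : W = ⊥ := Submodule.eq_bot_of_le_smul_of_le_jacobson_bot _ _ hWfg hWle hjac
  have h3 : S.mkQ (d (φ c)) ∈ W := Submodule.subset_span ⟨c, rfl⟩
  rw [hW0, Submodule.mem_bot, Submodule.mkQ_apply, Submodule.Quotient.mk_eq_zero] at h3
  exact h3

end Cont

section Sep

variable {B D : Type*} [CommRing B] [IsDomain B] [IsIntegrallyClosed B] [CharZero B]
  [CommRing D] [IsDomain D] [Algebra B D] [Module.IsTorsionFree B D] [Algebra.IsIntegral B D]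

/-- in characteristic zero every element of an integral extension of a normal domain is a
simple root of some polynomial -/
theorem exists_poly_charZero (x : D) :
    ∃ Q : B[X], aeval x Q = 0 ∧ aeval x (derivative Q) ≠ 0 := by
  have hx : IsIntegral B x := Algebra.IsIntegral.isIntegral x
  refine ⟨minpoly B x, minpoly.aeval B x, fun h0 => ?_⟩
  have hdvd := minpoly.isIntegrallyClosed_dvd hx h0
  have hpos : 0 < (minpoly B x).natDegree := minpoly.natDegree_pos hx
  have hne : derivative (minpoly B x) ≠ 0 := by
    intro h
    have := derivative_eq_zero.1 h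
    omega
  have h1 := natDegree_le_of_dvd hdvd hne
  have h2 := natDegree_derivative_lt (p := minpoly B x) (by omega)
  omega

end Sep

section Fin

open MvPowerSeries

/-- a homomorphism from a power series ring sending the variables to a system of parameters is
finite -/
theorem finite_of_minimalPrimes (k A : Type u) [Field k] [CommRing A] [IsLocalRing A]
    [IsNoetherianRing A] [Algebra k A] [IsAdicComplete (maximalIdeal A) A]
    [Module.Finite k (ResidueField A)] (n : ℕ) (f : MvPowerSeries (Fin n) k →ₐ[k] A)
    (hmin : maximalIdeal A ∈ (Ideal.span (Set.range fun i => f (X i))).minimalPrimes) :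
    f.toRingHom.Finite := by
  classical
  set g : Fin n → A := fun i => f (X i) with hg
  set J : Ideal A := Ideal.span (Set.range g) with hJdef
  have hJle : J ≤ maximalIdeal A := hmin.1.2
  have hf : ∀ i, f (X i) = g i := fun i => rfl
  letI : Algebra (MvPowerSeries (Fin n) k) A := (f : MvPowerSeries (Fin n) k →+* A).toAlgebra
  haveI : IsScalarTower k (MvPowerSeries (Fin n) k) A :=
    IsScalarTower.of_algebraMap_eq (fun x => (f.commutes x).symm)
  have hmap : (maximalIdeal (MvPowerSeries (Fin n) k)).map
      (algebraMap (MvPowerSeries (Fin n) k) A) = J := by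
    rw [Groth.Agent.Helper14.PowerSeriesComplete.maximalIdeal_eq, IsLocalRing.maximalIdeal_eq_bot,
      Ideal.map_bot, bot_sup_eq, Ideal.map_span, ← Set.range_comp, hJdef]
    congr 2
  haveI : IsScalarTower k (MvPowerSeries (Fin n) k) (ResidueField A) :=
    IsScalarTower.of_algebraMap_eq (fun x => by
      show residue A (algebraMap k A x) = residue A (f (algebraMap k _ x))
      rw [f.commutes])
  have hfinS : Module.Finite (MvPowerSeries (Fin n) k) (ResidueField A) :=
    Module.Finite.of_restrictScalars_finite k (MvPowerSeries (Fin n) k) (ResidueField A)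
  obtain ⟨q, b, hb⟩ := Groth.Agent.Helper14.CohenStructure.exists_lift_generators_residue
    (S := MvPowerSeries (Fin n) k) (R := A) hfinS
  obtain ⟨N, hN⟩ := Groth.Agent.Helper14.CohenStructure.exists_pow_le_of_mem_minimalPrimes J hmin
  haveI : Module.Finite (MvPowerSeries (Fin n) k) (A ⧸ J) := by
    refine Groth.Agent.Helper14.CohenStructure.finite_of_pow_smul_eq_bot' (R := A) b hb N ?_
    rw [eq_bot_iff]
    refine Submodule.smul_le.mpr fun r hr x _ => ?_
    obtain ⟨x, rfl⟩ := Ideal.Quotient.mk_surjective x
    rw [Submodule.mem_bot]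
    change Ideal.Quotient.mk J (r * x) = 0
    rw [Ideal.Quotient.eq_zero_iff_mem]
    exact J.mul_mem_right _ (hN hr)
  haveI : IsHausdorff (maximalIdeal (MvPowerSeries (Fin n) k)) A := by
    refine ⟨fun x hx => ?_⟩
    haveI : IsHausdorff (maximalIdeal A) A := inferInstance
    apply IsHausdorff.haus ‹IsHausdorff (maximalIdeal A) A› x
    intro m
    have hxm := hx m
    rw [SModEq.zero] at hxm ⊢
    have hle : (maximalIdeal (MvPowerSeries (Fin n) k) ^ m • ⊤ : Submodule _ A) ≤
        (maximalIdeal A ^ m • ⊤ : Submodule A A).restrictScalars (MvPowerSeries (Fin n) k) := by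
      rw [Ideal.smul_top_eq_map, Ideal.map_pow, hmap]
      intro y hy
      rw [Submodule.restrictScalars_mem] at hy ⊢
      rw [smul_eq_mul, Ideal.mul_top]
      exact Ideal.pow_right_mono hJle m hy
    exact hle hxm
  have hfin : Module.Finite (MvPowerSeries (Fin n) k) A := by
    refine Groth.Agent.Helper1.finite_of_isAdicComplete_of_finite_quotient
      (maximalIdeal (MvPowerSeries (Fin n) k)) ?_
    rw [Ideal.smul_top_eq_map, hmap]
    exact Module.Finite.equiv
      (Submodule.Quotient.restrictScalarsEquiv (MvPowerSeries (Fin n) k) J).symm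
  exact hfin

end Fin

end Groth.Agent.Helper11.GeomRegB
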