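import Mathlib
import Groth.Agent.Lib.Lead.Miracle
import Groth.Agent.Lib.Lead.Hom16
import Groth.Agent.Lib.Lead.Hom10
import Groth.Agent.Lib.Lead.Depth12
import Groth.Agent.Lib.Lead.RLR7
import Groth.Agent.Lib.Helper5.PSR
import Groth.Agent.Lib.Helper21.IntDim

set_option autoImplicit false

namespace Groth.Agent.Helper11.KaehlerEtaleB

universe u
open IsLocalRing

section Inj

variable (k : Type u) [Field k] (n : ℕ)

/-- a finite algebra over the power series ring which is a domain of the same dimension is
torsion free -/
theorem injective_of_dim_eq (B : Type u) [CommRing B] [IsDomain B]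
    [Algebra (MvPowerSeries (Fin n) k) B] [Module.Finite (MvPowerSeries (Fin n) k) B]
    (hdim : ringKrullDim B = n) :
    Function.Injective (algebraMap (MvPowerSeries (Fin n) k) B) := by
  rw [RingHom.injective_iff_ker_eq_bot]
  by_contra hK
  set K : Ideal (MvPowerSeries (Fin n) k) := RingHom.ker (algebraMap (MvPowerSeries (Fin n) k) B)
    with hKdef
  haveI : K.IsPrime := RingHom.ker_isPrime _
  haveI : IsDomain (MvPowerSeries (Fin n) k) := Groth.Agent.Lead.RLR.isDomain _
  have h1 : (1 : ℕ∞) ≤ K.height := by
    rw [Order.one_le_iff_ne_zero, Ne, Ideal.height_eq_zero_iff_eq_bot]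
    exact hK
  have h2 := Groth.Agent.Lead.RLR.height_add_ringKrullDim_quotient_le K
  have h3 := Groth.Agent.Helper5.PSR.ringKrullDim_mvPowerSeries_le (k := k) n
  have hint : (RingHom.kerLift (algebraMap (MvPowerSeries (Fin n) k) B)).IsIntegral := by
    refine RingHom.IsIntegral.tower_top (Ideal.Quotient.mk K) _ ?_
    intro b
    exact Algebra.IsIntegral.isIntegral (R := MvPowerSeries (Fin n) k) b
  have h4 := Groth.Agent.Helper21.ID.ringKrullDim_le_of_isIntegral _ hint
  rw [hdim] at h4
  have h5 : ((1 : ℕ∞) : WithBot ℕ∞) + (n : WithBot ℕ∞) ≤ (n : WithBot ℕ∞) := by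
    refine le_trans ?_ (h2.trans h3)
    exact add_le_add (by exact_mod_cast h1) h4
  have h6 : ((1 + n : ℕ) : WithBot ℕ∞) ≤ (n : ℕ) := by exact_mod_cast h5
  have h7 : 1 + n ≤ n := by exact_mod_cast h6
  omega

end Inj

section Height

theorem height_le_height_comap {A B : Type*} [CommRing A] [CommRing B] (f : A →+* B)
    (hf : Function.Surjective f) (q : Ideal B) [hq : q.IsPrime] :
    q.height ≤ (q.comap f).height := by
  have hsm : StrictMono (PrimeSpectrum.comap f) :=
    Monotone.strictMono_of_injective
      (fun _ _ h => Ideal.comap_mono h) (PrimeSpectrum.comap_injective_of_surjective f hf)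
  have h1 := Order.height_le_height_apply_of_strictMono _ hsm (⟨q, hq⟩ : PrimeSpectrum B)
  rw [← PrimeSpectrum.height_eq_orderHeight, ← PrimeSpectrum.height_eq_orderHeight] at h1
  exact h1

variable (k : Type u) [Field k] (n : ℕ) (A : Type u) [CommRing A] [IsNoetherianRing A]
    [Algebra (MvPowerSeries (Fin n) k) A] [Module.Finite (MvPowerSeries (Fin n) k) A]

/-- going down: the height of the contraction to the power series ring is at most the height -/
theorem height_under_le (p : Ideal A) [hp : p.IsPrime] (q : Ideal A) [hq : q.IsPrime] (hqp : q ≤ p)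
    (hdim : ringKrullDim (A ⧸ q) = n) :
    (p.under (MvPowerSeries (Fin n) k)).height ≤ p.height := by
  haveI : Module.Finite (MvPowerSeries (Fin n) k) (A ⧸ q) :=
    Module.Finite.of_surjective (Ideal.Quotient.mkₐ (MvPowerSeries (Fin n) k) q).toLinearMap
      (Ideal.Quotient.mkₐ_surjective (MvPowerSeries (Fin n) k) q)
  have hinj := injective_of_dim_eq k n (A ⧸ q) hdim
  haveI : FaithfulSMul (MvPowerSeries (Fin n) k) (A ⧸ q) :=
    (faithfulSMul_iff_algebraMap_injective (MvPowerSeries (Fin n) k) (A ⧸ q)).mpr hinj
  haveI : IsIntegrallyClosed (MvPowerSeries (Fin n) k) :=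
    Groth.Agent.Lead.Hom.isIntegrallyClosed_of_isRegularLocalRing _
  haveI : Algebra.IsIntegral (MvPowerSeries (Fin n) k) (A ⧸ q) := Algebra.IsIntegral.of_finite _ _
  haveI : Algebra.HasGoingDown (MvPowerSeries (Fin n) k) (A ⧸ q) := inferInstance
  set p' : Ideal (A ⧸ q) := p.map (Ideal.Quotient.mk q) with hp'
  have hcomap : p'.comap (Ideal.Quotient.mk q) = p := by
    rw [hp', Ideal.comap_map_of_surjective _ Ideal.Quotient.mk_surjective,
      ← RingHom.ker_eq_comap_bot, Ideal.mk_ker, sup_eq_left]
    exact hqp
  haveI hp'prime : p'.IsPrime :=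
    Ideal.map_isPrime_of_surjective Ideal.Quotient.mk_surjective (by rw [Ideal.mk_ker]; exact hqp)
  haveI : p'.LiesOver (p.under (MvPowerSeries (Fin n) k)) := by
    constructor
    rw [Ideal.under_def, Ideal.under_def]
    conv_lhs => rw [← hcomap]
    rw [Ideal.comap_comap]
    rfl
  have h1 := Ideal.height_eq_height_add_of_liesOver_of_hasGoingDown
    (p.under (MvPowerSeries (Fin n) k)) p'
  have h2 := height_le_height_comap (Ideal.Quotient.mk q) Ideal.Quotient.mk_surjective p'
  rw [hcomap] at h2
  calc (p.under (MvPowerSeries (Fin n) k)).height ≤ p'.height := by rw [h1]; exact le_self_add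
    _ ≤ p.height := h2

end Height

section Main

variable (k : Type u) [Field k] (n : ℕ) (A : Type u) [CommRing A] [IsNoetherianRing A]
    [Algebra (MvPowerSeries (Fin n) k) A] [Module.Finite (MvPowerSeries (Fin n) k) A]

theorem isRegular_and_flat (p : Ideal A) [hp : p.IsPrime]
    (hle : (p.under (MvPowerSeries (Fin n) k)).height ≤ p.height)
    [hun : Algebra.IsUnramifiedAt (MvPowerSeries (Fin n) k) p] :
    letI := Localization.AtPrime.algebraOfLiesOver (p.under (MvPowerSeries (Fin n) k)) p
    Module.Flat (Localization.AtPrime (p.under (MvPowerSeries (Fin n) k)))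
      (Localization.AtPrime p) := by
  letI := Localization.AtPrime.algebraOfLiesOver (p.under (MvPowerSeries (Fin n) k)) p
  set r : Ideal (MvPowerSeries (Fin n) k) := p.under (MvPowerSeries (Fin n) k) with hr
  haveI : IsRegularLocalRing (Localization.AtPrime r) :=
    Groth.Agent.Lead.Hom.isRegularLocalRing_localization r
  haveI : IsNoetherianRing (Localization.AtPrime p) :=
    IsLocalization.isNoetherianRing p.primeCompl _ inferInstance
  haveI : Algebra.FormallyUnramified (Localization.AtPrime r) (Localization.AtPrime p) :=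
    Algebra.FormallyUnramified.of_restrictScalars (MvPowerSeries (Fin n) k) _ _
  haveI : Algebra.EssFiniteType (Localization.AtPrime r) (Localization.AtPrime p) :=
    Algebra.EssFiniteType.of_comp (MvPowerSeries (Fin n) k) _ _
  have hmax : (maximalIdeal (Localization.AtPrime r)).map
      (algebraMap (Localization.AtPrime r) (Localization.AtPrime p)) =
      maximalIdeal (Localization.AtPrime p) := Algebra.FormallyUnramified.map_maximalIdeal
  have hdimR : ringKrullDim (Localization.AtPrime r) = r.height :=
    IsLocalization.AtPrime.ringKrullDim_eq_height r _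
  have hdimS : ringKrullDim (Localization.AtPrime p) = p.height :=
    IsLocalization.AtPrime.ringKrullDim_eq_height p _
  have hspan : (maximalIdeal (Localization.AtPrime p)).spanFinrank ≤
      (maximalIdeal (Localization.AtPrime r)).spanFinrank := by
    rw [← hmax]
    exact Ideal.spanFinrank_map_le_of_fg _ (IsNoetherian.noetherian _)
  have hregR : ((maximalIdeal (Localization.AtPrime r)).spanFinrank : WithBot ℕ∞) =
      ringKrullDim (Localization.AtPrime r) := IsRegularLocalRing.spanFinrank_maximalIdeal
  have hle' : ringKrullDim (Localization.AtPrime r) ≤ ringKrullDim (Localization.AtPrime p) := by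
    rw [hdimR, hdimS]
    exact_mod_cast hle
  haveI hregS : IsRegularLocalRing (Localization.AtPrime p) := by
    apply IsRegularLocalRing.of_spanFinrank_maximalIdeal_le
    refine le_trans ?_ (hregR.le.trans hle')
    exact_mod_cast hspan
  have hdimeq : ringKrullDim (Localization.AtPrime p) = ringKrullDim (Localization.AtPrime r) := by
    apply le_antisymm _ hle'
    rw [← hregR]
    refine (ringKrullDim_le_spanFinrank_maximalIdeal _).trans ?_
    exact_mod_cast hspan
  have hCM : LocCoh.IsCohenMacaulayLocalRing (Localization.AtPrime p) :=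
    Groth.Agent.Lead.Depth.isCohenMacaulayLocalRing_of_isRegularLocalRing
  have hCM' : LocCoh.IsCohenMacaulayModule (Localization.AtPrime p) (Localization.AtPrime p) :=
    hCM.supportDim_eq_depth
  refine Groth.Agent.Lead.Miracle.flat_of_isCohenMacaulayModule (Localization.AtPrime r)
    (Localization.AtPrime p) (Localization.AtPrime p) hCM' ?_
  rw [Module.supportDim_self_eq_ringKrullDim]
  have h0 : ((maximalIdeal (Localization.AtPrime r)).map
      (algebraMap (Localization.AtPrime r) (Localization.AtPrime p))) •
      (⊤ : Submodule (Localization.AtPrime p) (Localization.AtPrime p)) =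
      maximalIdeal (Localization.AtPrime p) := by
    rw [Ideal.smul_eq_mul, Ideal.mul_top, hmax]
  have hfld : ringKrullDim (Localization.AtPrime p ⧸ maximalIdeal (Localization.AtPrime p)) = 0 :=
    ringKrullDim_eq_zero_of_isField
      ((Ideal.Quotient.maximal_ideal_iff_isField_quotient _).mp (maximalIdeal.isMaximal _))
  rw [Module.supportDim_eq_of_equiv (Submodule.quotEquivOfEq _ _ h0),
    Module.supportDim_quotient_eq_ringKrullDim, hfld, add_zero]
  exact hdimeq

open Algebra TensorProduct in
attribute [local instance] Algebra.FormallyEtale.of_formallyUnramified_of_field in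
theorem isEtaleAt_of_isUnramifiedAt (p : Ideal A) [hp : p.IsPrime]
    (hle : (p.under (MvPowerSeries (Fin n) k)).height ≤ p.height)
    [hun : Algebra.IsUnramifiedAt (MvPowerSeries (Fin n) k) p] :
    Algebra.IsEtaleAt (MvPowerSeries (Fin n) k) p := by
  set r : Ideal (MvPowerSeries (Fin n) k) := p.under (MvPowerSeries (Fin n) k) with hr
  let Rp := Localization.AtPrime r
  let Sp := Localization (algebraMapSubmonoid A r.primeCompl)
  let Sq := Localization.AtPrime p
  letI := Localization.AtPrime.algebraOfLiesOver r p
  haveI : Module.Flat Rp Sq := isRegular_and_flat k n A p hle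
  haveI : Algebra.FinitePresentation (MvPowerSeries (Fin n) k) A :=
    Algebra.FinitePresentation.of_finiteType.mp inferInstance
  let f : Sp →ₐ[A] Sq := IsLocalization.liftAlgHom (M := algebraMapSubmonoid A r.primeCompl)
        (f := Algebra.ofId _ _) (by
      rintro ⟨_, x, hx, rfl⟩
      simpa using! IsLocalization.map_units (M := p.primeCompl) Sq ⟨algebraMap _ _ x,
        by simp_all [p.over_def r]⟩)
  algebraize [f.toRingHom]
  have : IsScalarTower (MvPowerSeries (Fin n) k) Sp Sq := .to₁₃₄ _ A _ _
  have : IsScalarTower Rp Sp Sq := .of_algebraMap_eq' <| by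
    apply IsLocalization.ringHom_ext r.primeCompl
    simp only [RingHom.comp_assoc, ← IsScalarTower.algebraMap_eq]
  have : IsLocalization (algebraMapSubmonoid Sp p.primeCompl) Sq :=
    .isLocalization_of_submonoid_le _ _ (algebraMapSubmonoid A r.primeCompl) _
    (by rintro _ ⟨x, hx, rfl⟩; simp_all [p.over_def r])
  have : FinitePresentation Rp Sp := by
    have : Algebra.IsPushout (MvPowerSeries (Fin n) k) Rp A Sp :=
      .symm <| Algebra.isPushout_of_isLocalization r.primeCompl _ _ _
    exact Algebra.FinitePresentation.equiv (A := Rp ⊗[MvPowerSeries (Fin n) k] A)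
      (Algebra.IsPushout.equiv (MvPowerSeries (Fin n) k) Rp A Sp)
  haveI : Algebra.FormallyUnramified Rp Sq :=
    Algebra.FormallyUnramified.of_restrictScalars (MvPowerSeries (Fin n) k) _ _
  haveI : Algebra.EssFiniteType Rp Sq :=
    Algebra.EssFiniteType.of_comp (MvPowerSeries (Fin n) k) _ _
  have : FormallySmooth (ResidueField Rp) (ResidueField Rp ⊗[Rp] Sq) := inferInstance
  have hsm : FormallySmooth Rp Sq := FormallySmooth.of_formallySmooth_residueField_tensor
    (R := Rp) (S := Sq) (P := Sp) (algebraMapSubmonoid _ p.primeCompl)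
  haveI : FormallyEtale Rp Sq := FormallyEtale.of_formallyUnramified_and_formallySmooth
  haveI : FormallyEtale (MvPowerSeries (Fin n) k) Rp := FormallyEtale.of_isLocalization r.primeCompl
  exact FormallyEtale.comp (MvPowerSeries (Fin n) k) Rp Sq

end Main

end Groth.Agent.Helper11.KaehlerEtaleB
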