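import Mathlib
import Groth.Agent.Lib.Helper11.GeomRegA
import Groth.Agent.Lib.Helper11.GeomRegB
import Groth.Agent.Lib.Helper11.KaehlerFibre
import Groth.Agent.Lib.Helper11.KaehlerEtaleB
import Groth.Agent.Lib.Helper11.KaehlerUnits

/-!
# Generators of the localized completed differentials in characteristic zero
-/

set_option autoImplicit false

namespace Groth.Agent.Helper11.GeomRegC

universe u
open IsLocalRing TensorProduct KaehlerDifferential

section Clear

variable {A : Type*} [CommRing A] (P : Ideal A) [P.IsPrime]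

theorem exists_mul_eq_sum {h : ℕ} (f : Fin h → A)
    (hspan : Ideal.span (Set.range fun j => algebraMap A (Localization.AtPrime P) (f j)) =
      maximalIdeal (Localization.AtPrime P)) (g : A) (hg : g ∈ P) :
    ∃ s : A, s ∉ P ∧ ∃ a : Fin h → A, s * g = ∑ j, a j * f j := by
  have hcm : (maximalIdeal (Localization.AtPrime P)).comap
      (algebraMap A (Localization.AtPrime P)) = P :=
    IsLocalization.AtPrime.under_maximalIdeal (Localization.AtPrime P) P
  have h1 : algebraMap A (Localization.AtPrime P) g ∈ maximalIdeal (Localization.AtPrime P) := by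
    rw [← Ideal.mem_comap, hcm]
    exact hg
  rw [← hspan] at h1
  obtain ⟨c, hc⟩ := (Ideal.mem_span_range_iff_exists_fun).1 h1
  obtain ⟨b, hb⟩ := IsLocalization.exist_integer_multiples_of_finite P.primeCompl c
  choose a ha using hb
  have h2 : algebraMap A (Localization.AtPrime P) ((b : A) * g - ∑ j, a j * f j) = 0 := by
    rw [map_sub, map_mul, map_sum, ← hc, Finset.mul_sum, sub_eq_zero]
    refine Finset.sum_congr rfl fun j _ => ?_
    rw [map_mul, ha j, Algebra.smul_def, mul_assoc]
  rw [IsLocalization.map_eq_zero_iff P.primeCompl] at h2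
  obtain ⟨s', hs'⟩ := h2
  refine ⟨(s' : A) * (b : A), ?_, fun j => (s' : A) * a j, ?_⟩
  · exact (s' * b).2
  · rw [mul_sub, sub_eq_zero] at hs'
    rw [mul_assoc, hs', Finset.mul_sum]
    refine Finset.sum_congr rfl fun j _ => ?_
    rw [mul_assoc]

end Clear

section Main

variable (k A : Type u) [Field k] [CommRing A] [IsLocalRing A] [IsNoetherianRing A] [Algebra k A]
  [IsAdicComplete (maximalIdeal A) A] [Module.Finite k (ResidueField A)]
  (P : Ideal A) [P.IsPrime]

/-- the universal derivation into the completed module of differentials -/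
noncomputable def dhat : Derivation k A (AdicCompletion (maximalIdeal A) (Ω[A⁄k])) :=
  (AdicCompletion.of (maximalIdeal A) (Ω[A⁄k])).compDer (D k A)

theorem dhat_apply (a : A) :
    dhat k A a = AdicCompletion.of (maximalIdeal A) (Ω[A⁄k]) (D k A a) := rfl

/-- lifting a system of parameters of `A ⧸ P` to a power series subring of `A` -/
theorem exists_lift_sop :
    ∃ (t : ℕ) (φ : MvPowerSeries (Fin t) k →ₐ[k] A),
      (∀ i, φ (MvPowerSeries.X i) ∈ maximalIdeal A) ∧
      ringKrullDim (A ⧸ P) = t ∧
      ((Ideal.Quotient.mkₐ k P).comp φ).toRingHom.Finite ∧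
      Function.Injective ((Ideal.Quotient.mkₐ k P).comp φ) := by
  classical
  haveI : IsLocalRing (A ⧸ P) :=
    IsLocalRing.of_surjective' (Ideal.Quotient.mk P) Ideal.Quotient.mk_surjective
  haveI := KaehlerFibre.isAdicComplete_quotient A P
  haveI := KaehlerFibre.finite_residueField_quotient k A P
  obtain ⟨s, hs, hcard⟩ :=
    Ideal.exists_finset_card_eq_height_of_isNoetherianRing (maximalIdeal (A ⧸ P))
  let x : Fin s.card → A ⧸ P := fun i => ((s.equivFin.symm i : s) : A ⧸ P)
  have hrange : Set.range x = (s : Set (A ⧸ P)) := KaehlerUnramB.range_equivFin_symm' s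
  choose T hT using fun i => Ideal.Quotient.mk_surjective (x i)
  have hTm : ∀ i, T i ∈ maximalIdeal A := by
    intro i
    by_contra h
    have hu : IsUnit (T i) := by
      rwa [mem_maximalIdeal, mem_nonunits_iff, not_not] at h
    have hu' : IsUnit (x i) := by
      rw [← hT i]
      exact hu.map _
    have hx : x i ∈ maximalIdeal (A ⧸ P) :=
      hs.1.2 (Ideal.subset_span (by rw [← hrange]; exact ⟨i, rfl⟩))
    exact hx hu'
  obtain ⟨φ, hφ⟩ := Groth.Agent.Helper14.PowerSeriesComplete.exists_algHom_complete (Λ := k)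
    (maximalIdeal A) T hTm
  set w := (Ideal.Quotient.mkₐ k P).comp φ with hw
  have hwX : ∀ i, w (MvPowerSeries.X i) = x i := by
    intro i
    show Ideal.Quotient.mk P (φ (MvPowerSeries.X i)) = x i
    rw [hφ, hT]
  have hmin : maximalIdeal (A ⧸ P) ∈
      (Ideal.span (Set.range fun i => w (MvPowerSeries.X i))).minimalPrimes := by
    have h1 : (Set.range fun i => w (MvPowerSeries.X i)) = (s : Set (A ⧸ P)) := by
      rw [← hrange]
      congr 1
      funext i
      exact hwX i
    rw [h1]
    exact hs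
  have hfin := GeomRegB.finite_of_minimalPrimes k (A ⧸ P) s.card w hmin
  have hdim : ringKrullDim (A ⧸ P) = s.card := by
    rw [← IsLocalRing.maximalIdeal_height_eq_ringKrullDim, ← hcard]
    rfl
  letI : Algebra (MvPowerSeries (Fin s.card) k) (A ⧸ P) := w.toRingHom.toAlgebra
  haveI : Module.Finite (MvPowerSeries (Fin s.card) k) (A ⧸ P) := hfin
  have hinj := KaehlerEtaleB.injective_of_dim_eq k s.card (A ⧸ P) hdim
  exact ⟨s.card, φ, fun i => by rw [hφ]; exact hTm i, hdim, hfin, hinj⟩

/-- in characteristic zero every element of `A` is, modulo `P`, a simple root of a polynomial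
with coefficients in the power series subring -/
theorem exists_poly [CharZero k] (t : ℕ) (φ : MvPowerSeries (Fin t) k →ₐ[k] A)
    (hfin : ((Ideal.Quotient.mkₐ k P).comp φ).toRingHom.Finite)
    (hinj : Function.Injective ((Ideal.Quotient.mkₐ k P).comp φ)) (a : A) :
    ∃ Q : Polynomial (MvPowerSeries (Fin t) k),
      (Q.map φ.toRingHom).eval a ∈ P ∧ (Q.map φ.toRingHom).derivative.eval a ∉ P := by
  set w := (Ideal.Quotient.mkₐ k P).comp φ with hw
  letI : Algebra (MvPowerSeries (Fin t) k) (A ⧸ P) := w.toRingHom.toAlgebra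
  haveI : Module.Finite (MvPowerSeries (Fin t) k) (A ⧸ P) := hfin
  haveI : FaithfulSMul (MvPowerSeries (Fin t) k) (A ⧸ P) :=
    (faithfulSMul_iff_algebraMap_injective _ _).2 hinj
  haveI : IsDomain (MvPowerSeries (Fin t) k) := NoZeroDivisors.to_isDomain _
  haveI : IsIntegrallyClosed (MvPowerSeries (Fin t) k) :=
    Groth.Agent.Lead.Hom.isIntegrallyClosed_of_isRegularLocalRing _
  haveI : CharZero (MvPowerSeries (Fin t) k) :=
    charZero_of_injective_algebraMap (algebraMap k (MvPowerSeries (Fin t) k)).injective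
  haveI : Algebra.IsIntegral (MvPowerSeries (Fin t) k) (A ⧸ P) := Algebra.IsIntegral.of_finite _ _
  obtain ⟨Q, hQ0, hQ1⟩ := GeomRegB.exists_poly_charZero (B := MvPowerSeries (Fin t) k)
    (D := A ⧸ P) (Ideal.Quotient.mk P a)
  have key : ∀ Q' : Polynomial (MvPowerSeries (Fin t) k),
      Ideal.Quotient.mk P ((Q'.map φ.toRingHom).eval a) =
        Polynomial.aeval (Ideal.Quotient.mk P a) Q' := by
    intro Q'
    rw [Polynomial.eval_map, Polynomial.hom_eval₂, Polynomial.aeval_def]
    rfl
  refine ⟨Q, ?_, ?_⟩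
  · rw [← Ideal.Quotient.eq_zero_iff_mem, key, hQ0]
  · rw [← Ideal.Quotient.eq_zero_iff_mem, Polynomial.derivative_map, key]
    exact hQ1

/-- the key generation statement -/
theorem forall_exists_smul_mem {h : ℕ} (f : Fin h → A) (hfP : ∀ j, f j ∈ P)
    (hspan : Ideal.span (Set.range fun j => algebraMap A (Localization.AtPrime P) (f j)) =
      maximalIdeal (Localization.AtPrime P))
    (t : ℕ) (φ : MvPowerSeries (Fin t) k →ₐ[k] A)
    (hφm : ∀ i, φ (MvPowerSeries.X i) ∈ maximalIdeal A)
    (hpoly : ∀ a : A, ∃ Q : Polynomial (MvPowerSeries (Fin t) k),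
      (Q.map φ.toRingHom).eval a ∈ P ∧ (Q.map φ.toRingHom).derivative.eval a ∉ P)
    (τ : Fin (t + h) → AdicCompletion (maximalIdeal A) (Ω[A⁄k]))
    (hτ1 : ∀ i, dhat k A (φ (MvPowerSeries.X i)) ∈ Set.range τ)
    (hτ2 : ∀ j, dhat k A (f j) ∈ Set.range τ) :
    ∀ x : AdicCompletion (maximalIdeal A) (Ω[A⁄k]),
      ∃ a : A, a ∉ P ∧ a • x ∈ Submodule.span A (Set.range τ) := by
  haveI := KaehlerUnits.finite_completedKaehler k A
  set ι := LocalizedModule.mkLinearMap P.primeCompl
    (AdicCompletion (maximalIdeal A) (Ω[A⁄k])) with hι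
  set G' : Submodule (Localization.AtPrime P) (LocalizedModule P.primeCompl (AdicCompletion (maximalIdeal A) (Ω[A⁄k]))) :=
    Submodule.span (Localization.AtPrime P) (Set.range fun i => ι (τ i)) with hG'
  set G'' : Submodule (Localization.AtPrime P) (LocalizedModule P.primeCompl (AdicCompletion (maximalIdeal A) (Ω[A⁄k]))) :=
    G' ⊔ maximalIdeal (Localization.AtPrime P) • ⊤ with hG''
  let H : Submodule A (AdicCompletion (maximalIdeal A) (Ω[A⁄k])) := (G''.restrictScalars A).comap ι
  have hHmem : ∀ n : AdicCompletion (maximalIdeal A) (Ω[A⁄k]), n ∈ H ↔ ι n ∈ G'' := fun n => Iff.rfl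
  have hcm : (maximalIdeal (Localization.AtPrime P)).comap
      (algebraMap A (Localization.AtPrime P)) = P :=
    IsLocalization.AtPrime.under_maximalIdeal (Localization.AtPrime P) P
  -- saturation
  have hsat : ∀ (s : A) (n : AdicCompletion (maximalIdeal A) (Ω[A⁄k])), s ∉ P → s • n ∈ H → n ∈ H := by
    intro s n hs hsn
    rw [hHmem, map_smul, ← algebraMap_smul (Localization.AtPrime P) s] at hsn
    have hunit : IsUnit (algebraMap A (Localization.AtPrime P) s) :=
      IsLocalization.map_units _ (⟨s, hs⟩ : P.primeCompl)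
    rw [hHmem]
    have h1 : ι n = (↑(hunit.unit⁻¹) : Localization.AtPrime P) •
        (algebraMap A (Localization.AtPrime P) s • ι n) := by
      rw [smul_smul, IsUnit.val_inv_mul, one_smul]
    rw [h1]
    exact Submodule.smul_mem _ _ hsn
  -- `P • N ≤ H`
  have hPH : ∀ (g : A) (n : AdicCompletion (maximalIdeal A) (Ω[A⁄k])), g ∈ P → g • n ∈ H := by
    intro g n hg
    rw [hHmem, map_smul, ← algebraMap_smul (Localization.AtPrime P) g]
    refine Submodule.mem_sup_right (Submodule.smul_mem_smul ?_ Submodule.mem_top)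
    rw [← Ideal.mem_comap, hcm]
    exact hg
  have hτH : ∀ i, τ i ∈ H := by
    intro i
    rw [hHmem]
    exact Submodule.mem_sup_left (Submodule.subset_span ⟨i, rfl⟩)
  -- elements of `P`
  have hS1 : ∀ g : A, g ∈ P → dhat k A g ∈ H := by
    intro g hg
    obtain ⟨s, hs, a, hsa⟩ := exists_mul_eq_sum P f hspan g hg
    apply hsat s _ hs
    have h1 : dhat k A (s * g) = dhat k A (∑ j, a j * f j) := by rw [hsa]
    rw [Derivation.leibniz, map_sum] at h1
    have h2 : s • dhat k A g = ∑ j, dhat k A (a j * f j) - g • dhat k A s := by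
      rw [← h1]; abel
    rw [h2]
    refine H.sub_mem (H.sum_mem fun j _ => ?_) (hPH _ _ hg)
    rw [Derivation.leibniz]
    refine H.add_mem (H.smul_mem _ ?_) (hPH _ _ (hfP j))
    obtain ⟨i, hi⟩ := hτ2 j
    rw [← hi]
    exact hτH i
  -- the power series subring
  have hS2 : ∀ c : MvPowerSeries (Fin t) k, dhat k A (φ c) ∈ H := by
    intro c
    have h1 := GeomRegB.der_mem_span_X φ hφm (dhat k A) c
    refine (Submodule.span_le.2 ?_) h1
    rintro _ ⟨i, rfl⟩
    obtain ⟨i', hi'⟩ := hτ1 i
    show dhat k A (φ (MvPowerSeries.X i)) ∈ H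
    rw [← hi']
    exact hτH i'
  -- all elements
  have hS3 : ∀ a : A, dhat k A a ∈ H := by
    intro a
    obtain ⟨Q, hQ0, hQ1⟩ := hpoly a
    have h1 := GeomRegB.der_eval_map_sub_mem (dhat k A) φ H hS2 Q a
    have h2 := hS1 _ hQ0
    have h3 : ((Q.map φ.toRingHom).derivative.eval a) • dhat k A a ∈ H := by
      have := H.sub_mem h2 h1
      rwa [sub_sub_cancel] at this
    exact hsat _ _ hQ1 h3
  have hHtop : H = ⊤ := by
    rw [eq_top_iff, ← KaehlerUnits.span_of_D k A, Submodule.span_le]
    rintro _ ⟨a, rfl⟩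
    exact hS3 a
  have hG''top : G'' = ⊤ := by
    rw [eq_top_iff]
    rintro y -
    obtain ⟨⟨n, s⟩, e⟩ := IsLocalizedModule.surj P.primeCompl ι y
    have h1 : ι n ∈ G'' := (hHmem n).1 (by rw [hHtop]; trivial)
    have hunit : IsUnit (algebraMap A (Localization.AtPrime P) (s : A)) :=
      IsLocalization.map_units _ s
    have e' : algebraMap A (Localization.AtPrime P) (s : A) • y = ι n := by
      rw [algebraMap_smul]
      exact e
    have h2 : y = (↑(hunit.unit⁻¹) : Localization.AtPrime P) • ι n := by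
      rw [← e', smul_smul, IsUnit.val_inv_mul, one_smul]
    rw [h2]
    exact Submodule.smul_mem _ _ h1
  have hG'top : G' = ⊤ := by
    rw [eq_top_iff]
    have hfg : (⊤ : Submodule (Localization.AtPrime P) (LocalizedModule P.primeCompl (AdicCompletion (maximalIdeal A) (Ω[A⁄k])))).FG :=
      Module.Finite.fg_top
    have hjac : maximalIdeal (Localization.AtPrime P) ≤
        (⊥ : Ideal (Localization.AtPrime P)).jacobson :=
      (IsLocalRing.jacobson_eq_maximalIdeal ⊥ bot_ne_top).ge
    refine Submodule.le_of_le_smul_of_le_jacobson_bot hfg hjac ?_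
    rw [← hG'', hG''top]
  exact LocGen.forall_of_span_mk_eq_top P τ hG'top

end Main

end Groth.Agent.Helper11.GeomRegC
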