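import Mathlib
import Groth.Agent.Lib.Helper11.GeomRegC
import Groth.Agent.Lib.Helper11.FracRankB

/-!
# Freeness of the localized completed differentials at a regular point, characteristic zero
-/

set_option autoImplicit false

namespace Groth.Agent.Helper11.GeomRegD

universe u
open IsLocalRing TensorProduct KaehlerDifferential

section Rank

variable (k A : Type u) [Field k] [CommRing A] [IsLocalRing A] [IsNoetherianRing A] [Algebra k A]
  [IsAdicComplete (maximalIdeal A) A] [Module.Finite k (ResidueField A)]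

/-- the generic rank of the completed differentials along a prime `q` is at least `dim A/q` -/
theorem le_finrank_fractionRing (q : Ideal A) [q.IsPrime] (n : ℕ)
    (hn : ringKrullDim (A ⧸ q) = n) :
    n ≤ Module.finrank (FractionRing (A ⧸ q))
      (FractionRing (A ⧸ q) ⊗[A] AdicCompletion (maximalIdeal A) (Ω[A⁄k])) := by
  haveI : IsLocalRing (A ⧸ q) :=
    IsLocalRing.of_surjective' (Ideal.Quotient.mk q) Ideal.Quotient.mk_surjective
  haveI := KaehlerFibre.isAdicComplete_quotient A q
  haveI := KaehlerFibre.finite_residueField_quotient k A q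
  obtain ⟨w, hwinj, hwfin⟩ := FracRank.exists_finite_injective k (A ⧸ q) n hn
  letI : Algebra (MvPowerSeries (Fin n) k) (A ⧸ q) := w.toRingHom.toAlgebra
  haveI : IsScalarTower k (MvPowerSeries (Fin n) k) (A ⧸ q) :=
    IsScalarTower.of_algebraMap_eq (fun c => (w.commutes c).symm)
  haveI : Module.Finite (MvPowerSeries (Fin n) k) (A ⧸ q) := hwfin
  have hinj : Function.Injective (algebraMap (MvPowerSeries (Fin n) k) (A ⧸ q)) := hwinj
  haveI := KaehlerRank.faithfulSMul_fractionRing k n (A ⧸ q) hinj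
  letI : Algebra (FractionRing (MvPowerSeries (Fin n) k)) (FractionRing (A ⧸ q)) :=
    FractionRing.liftAlgebra (MvPowerSeries (Fin n) k) (FractionRing (A ⧸ q))
  haveI : IsScalarTower (MvPowerSeries (Fin n) k) (FractionRing (MvPowerSeries (Fin n) k))
      (FractionRing (A ⧸ q)) := FractionRing.isScalarTower_liftAlgebra _ _
  exact KaehlerGen.le_finrank_of_surjective k n (A ⧸ q) A Ideal.Quotient.mk_surjective
    (FractionRing (MvPowerSeries (Fin n) k)) (FractionRing (A ⧸ q)) hinj

end Rank

section CharZero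

variable (k A : Type u) [Field k] [CharZero k] [CommRing A] [IsLocalRing A] [IsNoetherianRing A]
  [Algebra k A] [IsAdicComplete (maximalIdeal A) A] [Module.Finite k (ResidueField A)]
  (P : Ideal A) [P.IsPrime]

theorem charZero_case [hreg : IsRegularLocalRing (Localization.AtPrime P)]
    (q : Ideal A) (hq : q ∈ minimalPrimes A) (hqP : q ≤ P) (n : ℕ)
    (hn : ringKrullDim (A ⧸ q) = n) :
    Module.Free (Localization.AtPrime P)
        (LocalizedModule P.primeCompl (AdicCompletion (maximalIdeal A) (Ω[A⁄k]))) ∧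
      Module.finrank (Localization.AtPrime P)
        (LocalizedModule P.primeCompl (AdicCompletion (maximalIdeal A) (Ω[A⁄k]))) = n := by
  haveI : IsDomain (Localization.AtPrime P) := Groth.Agent.Lead.RLR.isDomain _
  haveI : q.IsPrime := hq.1.1
  have hker := GeomRegA.algebraMap_eq_zero_of_mem_minimalPrime P q hq hqP
  obtain ⟨h, f, hfP, hspan, hh⟩ := GeomRegA.exists_gens P
  obtain ⟨t, φ, hφm, hdimP, hfin, hinj⟩ := GeomRegC.exists_lift_sop k A P
  have hpoly := GeomRegC.exists_poly k A P t φ hfin hinj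
  let τ : Fin (t + h) → AdicCompletion (maximalIdeal A) (Ω[A⁄k]) := fun i =>
    Sum.elim (fun i => GeomRegC.dhat k A (φ (MvPowerSeries.X i)))
      (fun j => GeomRegC.dhat k A (f j)) (finSumFinEquiv.symm i)
  have hτ1 : ∀ i, GeomRegC.dhat k A (φ (MvPowerSeries.X i)) ∈ Set.range τ := fun i =>
    ⟨finSumFinEquiv (Sum.inl i), by simp [τ]⟩
  have hτ2 : ∀ j, GeomRegC.dhat k A (f j) ∈ Set.range τ := fun j =>
    ⟨finSumFinEquiv (Sum.inr j), by simp [τ]⟩
  have hG := GeomRegC.forall_exists_smul_mem k A P f hfP hspan t φ hφm hpoly τ hτ1 hτ2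
  have hF1 : ∀ s : A, s ∉ P → algebraMap A (FractionRing (A ⧸ q)) s ≠ 0 := by
    intro s hs h0
    rw [IsScalarTower.algebraMap_apply A (A ⧸ q) (FractionRing (A ⧸ q))] at h0
    have h2 : algebraMap A (A ⧸ q) s = 0 :=
      IsFractionRing.injective (A ⧸ q) (FractionRing (A ⧸ q)) (h0.trans (map_zero _).symm)
    exact hs (hqP (Ideal.Quotient.eq_zero_iff_mem.1 h2))
  have hF2 : ∀ a : A, algebraMap A (FractionRing (A ⧸ q)) a = 0 →
      algebraMap A (Localization.AtPrime P) a = 0 := by
    intro a h0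
    rw [IsScalarTower.algebraMap_apply A (A ⧸ q) (FractionRing (A ⧸ q))] at h0
    have h2 : algebraMap A (A ⧸ q) a = 0 :=
      IsFractionRing.injective (A ⧸ q) (FractionRing (A ⧸ q)) (h0.trans (map_zero _).symm)
    exact hker a (Ideal.Quotient.eq_zero_iff_mem.1 h2)
  have hle := LocGen.finrank_fibre_le P τ hG (FractionRing (A ⧸ q)) hF1
  have hge := le_finrank_fractionRing k A q n hn
  have hdim := GeomRegA.dim_add_le P q hqP hker
  have hth : t + h ≤ n := by
    have h1 : ringKrullDim (Localization.AtPrime P) = (h : WithBot ℕ∞) := by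
      rw [← hreg.spanFinrank_maximalIdeal, ← hh]
    rw [h1, hdimP, hn] at hdim
    have h2 : ((h + t : ℕ) : WithBot ℕ∞) ≤ (n : ℕ) := by exact_mod_cast hdim
    have h3 : h + t ≤ n := by exact_mod_cast h2
    omega
  have hrank : t + h ≤ Module.finrank (FractionRing (A ⧸ q))
      (FractionRing (A ⧸ q) ⊗[A] AdicCompletion (maximalIdeal A) (Ω[A⁄k])) := hth.trans hge
  obtain ⟨hfree, hfr⟩ := GeomRegA.free_of_gen P τ hG (FractionRing (A ⧸ q)) hF1 hF2 hrank
  refine ⟨hfree, ?_⟩
  rw [hfr]
  omega

end CharZero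

end Groth.Agent.Helper11.GeomRegD
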