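import Mathlib

/-!
# A finite module over a Noetherian local ring all of whose infinitesimal reductions are free is free
-/

set_option autoImplicit false

namespace Groth.Agent.Helper11.GeomRegE

open TensorProduct IsLocalRing

section L1

variable {R : Type*} [CommRing R] [IsLocalRing R] [IsNoetherianRing R]
  (M : Type*) [AddCommGroup M] [Module R M] [Module.Finite R M]

/-- the kernel of a minimal presentation dies modulo `𝔪 ^ j` when the reduction modulo `𝔪 ^ j` is
projective -/
theorem mem_pow_of_linearCombination_eq_zero (j : ℕ) (hj : 1 ≤ j)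
    [Module.Projective (R ⧸ maximalIdeal R ^ j) ((R ⧸ maximalIdeal R ^ j) ⊗[R] M)]
    {r : ℕ} (b : Fin r → M)
    (hker1 : ∀ c : Fin r → R,
      (1 : ResidueField R) ⊗ₜ[R] Fintype.linearCombination R b c = 0 →
        ∀ i, c i ∈ maximalIdeal R)
    (hsurj : Function.Surjective (Fintype.linearCombination R b))
    (c : Fin r → R) (hc : Fintype.linearCombination R b c = 0) (i : Fin r) :
    c i ∈ maximalIdeal R ^ j := by
  classical
  set π := Fintype.linearCombination R b with hπ
  have hpowle : maximalIdeal R ^ j ≤ maximalIdeal R := Ideal.pow_le_self (by omega)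
  have hne : maximalIdeal R ^ j ≠ ⊤ := fun h =>
    (Ideal.IsPrime.ne_top' (I := maximalIdeal R)) (top_le_iff.1 (h ▸ hpowle))
  haveI : Nontrivial (R ⧸ maximalIdeal R ^ j) := Ideal.Quotient.nontrivial_iff.2 hne
  haveI : IsLocalRing (R ⧸ maximalIdeal R ^ j) :=
    IsLocalRing.of_surjective' (Ideal.Quotient.mk _) Ideal.Quotient.mk_surjective
  have hmj : (maximalIdeal R).map (Ideal.Quotient.mk (maximalIdeal R ^ j)) =
      maximalIdeal (R ⧸ maximalIdeal R ^ j) :=
    IsLocalRing.map_maximalIdeal_of_surjective _ Ideal.Quotient.mk_surjective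
  set πj := π.baseChange (R ⧸ maximalIdeal R ^ j) with hπj
  have hπjsurj : Function.Surjective πj := by
    have := LinearMap.lTensor_surjective (R ⧸ maximalIdeal R ^ j) hsurj
    intro z
    obtain ⟨y, hy⟩ := this z
    exact ⟨y, hy⟩
  obtain ⟨s, hs⟩ := Module.projective_lifting_property πj LinearMap.id hπjsurj
  set K := LinearMap.ker πj with hK
  haveI : IsNoetherian (R ⧸ maximalIdeal R ^ j) ((R ⧸ maximalIdeal R ^ j) ⊗[R] (Fin r → R)) :=
    isNoetherian_of_isNoetherianRing_of_finite _ _
  -- (a)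
  have hKa : ∀ x ∈ K, x ∈ maximalIdeal (R ⧸ maximalIdeal R ^ j) •
      (⊤ : Submodule (R ⧸ maximalIdeal R ^ j) ((R ⧸ maximalIdeal R ^ j) ⊗[R] (Fin r → R))) := by
    intro x hx
    obtain ⟨c', rfl⟩ := TensorProduct.mk_surjective R (Fin r → R) (R ⧸ maximalIdeal R ^ j)
      Ideal.Quotient.mk_surjective x
    rw [hK, LinearMap.mem_ker, TensorProduct.mk_apply, hπj, LinearMap.baseChange_tmul] at hx
    let fac : (R ⧸ maximalIdeal R ^ j) →ₗ[R] ResidueField R :=
      (Ideal.Quotient.factorₐ R hpowle).toLinearMap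
    have h1 : LinearMap.rTensor M fac ((1 : R ⧸ maximalIdeal R ^ j) ⊗ₜ[R] π c') =
        (1 : ResidueField R) ⊗ₜ[R] π c' := by
      rw [LinearMap.rTensor_tmul]
      congr 1
    rw [hx, map_zero] at h1
    have hc' := hker1 c' h1.symm
    rw [TensorProduct.mk_apply]
    have h2 : c' = ∑ i, c' i • (Pi.single i (1 : R) : Fin r → R) := by
      ext l
      simp [Finset.sum_apply, Pi.single_apply]
    rw [h2, TensorProduct.tmul_sum]
    refine Submodule.sum_mem _ fun l _ => ?_
    have h3 : (1 : R ⧸ maximalIdeal R ^ j) ⊗ₜ[R] (c' l • (Pi.single l (1 : R) : Fin r → R)) =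
        (Ideal.Quotient.mk (maximalIdeal R ^ j) (c' l)) •
          ((1 : R ⧸ maximalIdeal R ^ j) ⊗ₜ[R] (Pi.single l (1 : R) : Fin r → R)) := by
      rw [TensorProduct.tmul_smul, TensorProduct.smul_tmul', TensorProduct.smul_tmul',
        smul_eq_mul, mul_one, Algebra.smul_def, mul_one]
      rfl
    rw [h3]
    refine Submodule.smul_mem_smul ?_ Submodule.mem_top
    rw [← hmj]
    exact Ideal.mem_map_of_mem _ (hc' l)
  -- (b)
  set pr := LinearMap.id - s ∘ₗ πj with hpr
  have hprK : ∀ y, pr y ∈ K := by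
    intro y
    rw [hK, LinearMap.mem_ker, hpr, LinearMap.sub_apply, LinearMap.id_apply, map_sub,
      LinearMap.comp_apply]
    have : πj (s (πj y)) = πj y := by
      have := congrArg (fun f => f (πj y)) hs
      simpa using this
    rw [this, sub_self]
  have hprid : ∀ x ∈ K, pr x = x := by
    intro x hx
    rw [hK, LinearMap.mem_ker] at hx
    rw [hpr, LinearMap.sub_apply, LinearMap.id_apply, LinearMap.comp_apply, hx, map_zero,
      sub_zero]
  have hKle : K ≤ maximalIdeal (R ⧸ maximalIdeal R ^ j) • K := by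
    intro x hx
    have h1 : ∀ y ∈ maximalIdeal (R ⧸ maximalIdeal R ^ j) •
        (⊤ : Submodule (R ⧸ maximalIdeal R ^ j) ((R ⧸ maximalIdeal R ^ j) ⊗[R] (Fin r → R))),
        pr y ∈ maximalIdeal (R ⧸ maximalIdeal R ^ j) • K := by
      intro y hy
      refine Submodule.smul_induction_on hy ?_ ?_
      · intro a ha z _
        rw [map_smul]
        exact Submodule.smul_mem_smul ha (hprK z)
      · intro y z hy hz
        rw [map_add]
        exact Submodule.add_mem _ hy hz
    rw [← hprid x hx]
    exact h1 x (hKa x hx)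
  have hjac : maximalIdeal (R ⧸ maximalIdeal R ^ j) ≤
      (⊥ : Ideal (R ⧸ maximalIdeal R ^ j)).jacobson :=
    (IsLocalRing.jacobson_eq_maximalIdeal ⊥ bot_ne_top).ge
  have hK0 : K = ⊥ :=
    Submodule.eq_bot_of_le_smul_of_le_jacobson_bot _ _ (IsNoetherian.noetherian K) hKle hjac
  have hx : (1 : R ⧸ maximalIdeal R ^ j) ⊗ₜ[R] c ∈ K := by
    rw [hK, LinearMap.mem_ker, hπj, LinearMap.baseChange_tmul, hc, TensorProduct.tmul_zero]
  rw [hK0, Submodule.mem_bot] at hx
  let ψ : (R ⧸ maximalIdeal R ^ j) ⊗[R] (Fin r → R) →ₗ[R] (R ⧸ maximalIdeal R ^ j) :=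
    (TensorProduct.rid R (R ⧸ maximalIdeal R ^ j)).toLinearMap ∘ₗ
      LinearMap.lTensor (R ⧸ maximalIdeal R ^ j) (LinearMap.proj i)
  have h4 : ψ ((1 : R ⧸ maximalIdeal R ^ j) ⊗ₜ[R] c) =
      Ideal.Quotient.mk (maximalIdeal R ^ j) (c i) := by
    show (TensorProduct.rid R (R ⧸ maximalIdeal R ^ j))
      (LinearMap.lTensor (R ⧸ maximalIdeal R ^ j) (LinearMap.proj i)
        ((1 : R ⧸ maximalIdeal R ^ j) ⊗ₜ[R] c)) = _
    rw [LinearMap.lTensor_tmul, TensorProduct.rid_tmul, LinearMap.proj_apply, Algebra.smul_def,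
      mul_one]
    rfl
  rw [hx, map_zero] at h4
  exact Ideal.Quotient.eq_zero_iff_mem.1 h4.symm

theorem free_of_forall_free_quot
    (h : ∀ j : ℕ, 1 ≤ j →
      Module.Free (R ⧸ maximalIdeal R ^ j) ((R ⧸ maximalIdeal R ^ j) ⊗[R] M)) :
    Module.Free R M := by
  classical
  let bV : Module.Basis (Fin (Module.finrank (ResidueField R) (ResidueField R ⊗[R] M)))
      (ResidueField R) (ResidueField R ⊗[R] M) := Module.finBasis _ _
  have hsurjmk : Function.Surjective (TensorProduct.mk R (ResidueField R) M 1) :=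
    TensorProduct.mk_surjective R M (ResidueField R) IsLocalRing.residue_surjective
  choose b hb using fun i => hsurjmk (bV i)
  have hb' : ∀ i, (1 : ResidueField R) ⊗ₜ[R] b i = bV i := hb
  have hspan : Submodule.span R (Set.range b) = ⊤ :=
    IsLocalRing.span_eq_top_of_tmul_eq_basis b bV hb'
  have hπsurj : Function.Surjective (Fintype.linearCombination R b) :=
    (span_range_eq_top_iff_surjective_fintypeLinearCombination R b).1 hspan
  have hker1 : ∀ c : Fin _ → R,
      (1 : ResidueField R) ⊗ₜ[R] Fintype.linearCombination R b c = 0 →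
        ∀ i, c i ∈ maximalIdeal R := by
    intro c hc i
    have h1 : (1 : ResidueField R) ⊗ₜ[R] Fintype.linearCombination R b c =
        ∑ i, residue R (c i) • bV i := by
      rw [Fintype.linearCombination_apply, TensorProduct.tmul_sum]
      refine Finset.sum_congr rfl fun i _ => ?_
      rw [TensorProduct.tmul_smul, ← hb' i, TensorProduct.smul_tmul', TensorProduct.smul_tmul',
        smul_eq_mul, mul_one, Algebra.smul_def, mul_one]
      rfl
    rw [h1] at hc
    have h2 := (Fintype.linearIndependent_iff.1 bV.linearIndependent) _ hc i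
    exact (residue_eq_zero_iff _).1 h2
  have hinj : Function.Injective (Fintype.linearCombination R b) := by
    rw [injective_iff_map_eq_zero]
    intro c hc
    funext i
    have h0 : c i ∈ (⨅ j : ℕ, maximalIdeal R ^ j) := by
      rw [Ideal.mem_iInf]
      intro j
      rcases Nat.eq_zero_or_pos j with rfl | hj
      · rw [pow_zero, Ideal.one_eq_top]
        trivial
      · haveI := h j hj
        exact mem_pow_of_linearCombination_eq_zero M j hj b hker1 hπsurj c hc i
    rw [Ideal.iInf_pow_eq_bot_of_isLocalRing (maximalIdeal R) Ideal.IsPrime.ne_top'] at h0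
    exact h0
  exact Module.Free.of_equiv (LinearEquiv.ofBijective _ ⟨hinj, hπsurj⟩)

end L1

end Groth.Agent.Helper11.GeomRegE
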