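import Mathlib
import Groth.Prelude.Def_Found
import Groth.Agent.Lib.Helper11.GeomRegA
import Groth.Agent.Lib.Helper11.GeomRegE
import Groth.Agent.Lib.Helper11.FracRankB
import Groth.Agent.Lib.Helper11.KaehlerFibre
import Groth.Agent.Lib.Helper11.KaehlerUnramB
import Groth.Agent.Lib.Helper7.GeomRegFG
import Groth.Agent.Lib.Helper14.GeomRedTFAE
import Groth.Agent.Lib.Helper14.RegularLocalization
import Groth.Agent.S4537
import Groth.Agent.S4540

/-!
# Freeness of the localized completed differentials at a geometrically regular point,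
characteristic `p` with `k` finite over `k^p`
-/

set_option autoImplicit false

namespace Groth.Agent.Helper11.GeomRegF

universe u
open IsLocalRing TensorProduct KaehlerDifferential

section Generic

variable (k C L : Type u) [Field k] [CommRing C] [IsDomain C] [IsNoetherianRing C] [IsLocalRing C]
    [Algebra k C] [IsAdicComplete (maximalIdeal C) C] [Module.Finite k (ResidueField C)]
    (n : ℕ) (hn : ringKrullDim C = n)
    [Field L] [Algebra C L] [IsFractionRing C L] [Algebra k L] [IsScalarTower k C L]

include hn in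
theorem finrank_eq_of_geomReduced (p : ℕ) [Fact p.Prime] [CharP k p]
    (hk : (frobenius k p).Finite) [Algebra.IsGeometricallyReduced k L] :
    Module.finrank L (Ω[L⁄k]) = n := by
  obtain ⟨-, hrank⟩ := FracRank.main k C n hn L
  obtain ⟨-, hrankE⟩ := FracRank.finite_and_rank k n p hk
  have hΥ : LinearMap.ker (mapBaseChange ℤ k L) = ⊥ :=
    LinearMap.ker_eq_bot.2
      (Helper9.SepInj.mapBaseChange_injective_of_isGeometricallyReduced (k₀ := ℤ) (k := k)
        (L := L))
  rw [hrankE, hΥ, rank_bot, add_zero] at hrank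
  exact Module.finrank_eq_of_rank_eq hrank

end Generic

section Fin

variable (k A : Type u) [Field k] [CommRing A] [IsLocalRing A] [IsNoetherianRing A] [Algebra k A]
  [IsAdicComplete (maximalIdeal A) A] [Module.Finite k (ResidueField A)]

theorem finite_kaehler (p : ℕ) [Fact p.Prime] [CharP k p] (hk : (frobenius k p).Finite) :
    Module.Finite A (Ω[A⁄k]) := by
  classical
  obtain ⟨s, hs⟩ := (IsNoetherian.noetherian (maximalIdeal A) : (maximalIdeal A).FG)
  let g : Fin s.card → A := fun i => ((s.equivFin.symm i : s) : A)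
  have hrange : Set.range g = (s : Set A) := KaehlerUnramB.range_equivFin_symm' s
  have hmin : maximalIdeal A ∈ (Ideal.span (Set.range g)).minimalPrimes := by
    rw [hrange]
    have h1 : Ideal.span (s : Set A) = maximalIdeal A := hs
    rw [h1, Ideal.minimalPrimes_eq_subsingleton_self]
    exact Set.mem_singleton _
  obtain ⟨f, -, hfin, -⟩ := KaehlerUnramB.exists_algHom_finite k A s.card g hmin
  letI algBA : Algebra (MvPowerSeries (Fin s.card) k) A := f.toRingHom.toAlgebra
  haveI : IsScalarTower k (MvPowerSeries (Fin s.card) k) A :=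
    IsScalarTower.of_algebraMap_eq (fun x => (f.commutes x).symm)
  haveI : Module.Finite (MvPowerSeries (Fin s.card) k) A := hfin
  haveI := FracRank.finite_kaehler k s.card p hk
  haveI : Module.Finite A (A ⊗[MvPowerSeries (Fin s.card) k] Ω[MvPowerSeries (Fin s.card) k⁄k]) :=
    inferInstance
  haveI : Module.Finite A (Ω[A⁄MvPowerSeries (Fin s.card) k]) := inferInstance
  have hex := KaehlerDifferential.exact_mapBaseChange_map k (MvPowerSeries (Fin s.card) k) A
  haveI : IsNoetherian A
      (A ⊗[MvPowerSeries (Fin s.card) k] Ω[MvPowerSeries (Fin s.card) k⁄k]) :=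
    isNoetherian_of_isNoetherianRing_of_finite A _
  haveI : IsNoetherian A (Ω[A⁄MvPowerSeries (Fin s.card) k]) :=
    isNoetherian_of_isNoetherianRing_of_finite A _
  haveI : IsNoetherian A (Ω[A⁄k]) :=
    isNoetherian_of_range_eq_ker (mapBaseChange k (MvPowerSeries (Fin s.card) k) A)
      (KaehlerDifferential.map k (MvPowerSeries (Fin s.card) k) A A)
      (by
        ext x
        exact (hex x).symm)
  infer_instance

end Fin

section Frac

variable {A : Type u} [CommRing A] (P q : Ideal A) [P.IsPrime] [q.IsPrime]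

theorem isLocalization_fractionRing (hqP : q ≤ P)
    (hzero : ∀ a ∈ q, ∃ s : A, s ∉ P ∧ s * a = 0) :
    IsLocalization q.primeCompl (FractionRing (A ⧸ q)) := by
  rw [isLocalization_iff]
  refine ⟨?_, ?_, ?_⟩
  · rintro ⟨y, hy⟩
    rw [IsScalarTower.algebraMap_apply A (A ⧸ q) (FractionRing (A ⧸ q))]
    refine IsUnit.mk0 _ ?_
    intro h0
    have h2 : algebraMap A (A ⧸ q) y = 0 :=
      IsFractionRing.injective (A ⧸ q) (FractionRing (A ⧸ q)) (h0.trans (map_zero _).symm)
    exact hy (Ideal.Quotient.eq_zero_iff_mem.1 h2)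
  · intro z
    obtain ⟨⟨x, y⟩, hxy⟩ := IsLocalization.surj (nonZeroDivisors (A ⧸ q)) z
    obtain ⟨x', rfl⟩ := Ideal.Quotient.mk_surjective x
    obtain ⟨y', hy'⟩ := Ideal.Quotient.mk_surjective (y : A ⧸ q)
    have hy'q : y' ∉ q := by
      intro h
      have : (y : A ⧸ q) = 0 := by
        rw [← hy']
        exact Ideal.Quotient.eq_zero_iff_mem.2 h
      exact nonZeroDivisors.ne_zero y.2 this
    refine ⟨⟨x', ⟨y', hy'q⟩⟩, ?_⟩
    show z * algebraMap A (FractionRing (A ⧸ q)) y' = algebraMap A (FractionRing (A ⧸ q)) x'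
    rw [IsScalarTower.algebraMap_apply A (A ⧸ q) (FractionRing (A ⧸ q)),
      IsScalarTower.algebraMap_apply A (A ⧸ q) (FractionRing (A ⧸ q))]
    have h3 : algebraMap A (A ⧸ q) y' = (y : A ⧸ q) := hy'
    rw [h3]
    exact hxy
  · intro x y hxy
    rw [IsScalarTower.algebraMap_apply A (A ⧸ q) (FractionRing (A ⧸ q)),
      IsScalarTower.algebraMap_apply A (A ⧸ q) (FractionRing (A ⧸ q))] at hxy
    have h2 : algebraMap A (A ⧸ q) x = algebraMap A (A ⧸ q) y :=
      IsFractionRing.injective (A ⧸ q) (FractionRing (A ⧸ q)) hxy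
    have h3 : x - y ∈ q := by
      rw [← Ideal.Quotient.eq_zero_iff_mem, map_sub]
      exact sub_eq_zero.2 h2
    obtain ⟨s, hs, hs0⟩ := hzero _ h3
    refine ⟨⟨s, fun h => hs (hqP h)⟩, ?_⟩
    show s * x = s * y
    rw [← sub_eq_zero, ← mul_sub, hs0]

end Frac

section Main

variable (k A : Type u) [Field k] [CommRing A] [IsLocalRing A] [IsNoetherianRing A] [Algebra k A]
  [IsAdicComplete (maximalIdeal A) A] [Module.Finite k (ResidueField A)]
  (P : Ideal A) [P.IsPrime]

theorem charP_case (p : ℕ) [Fact p.Prime] [CharP k p] (hk : (frobenius k p).Finite)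
    (hP : CAlg.IsGeometricallyRegular k (Localization.AtPrime P))
    (q : Ideal A) (hq : q ∈ minimalPrimes A) (hqP : q ≤ P) (n : ℕ)
    (hn : ringKrullDim (A ⧸ q) = n) :
    Module.Free (Localization.AtPrime P)
        (LocalizedModule P.primeCompl (AdicCompletion (maximalIdeal A) (Ω[A⁄k]))) ∧
      Module.finrank (Localization.AtPrime P)
        (LocalizedModule P.primeCompl (AdicCompletion (maximalIdeal A) (Ω[A⁄k]))) = n := by
  -- regularity
  have hreg1 : IsRegularRing (k ⊗[k] Localization.AtPrime P) := hP k inferInstance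
  have hreg2 : IsRegularRing (Localization.AtPrime P) :=
    @IsRegularRing.of_ringEquiv _ _ _ _
      (Algebra.TensorProduct.lid k (Localization.AtPrime P)).toRingEquiv hreg1
  haveI hreg : IsRegularLocalRing (Localization.AtPrime P) :=
    IsRegularLocalRing.of_isRegularRing_of_isLocalRing _
  haveI : IsDomain (Localization.AtPrime P) := Groth.Agent.Lead.RLR.isDomain _
  haveI : q.IsPrime := hq.1.1
  have hzero := GeomRegA.exists_mul_eq_zero_of_mem_minimalPrime P q hq hqP
  -- the isomorphism with the differentials of the local ring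
  haveI hΩfin : Module.Finite A (Ω[A⁄k]) := finite_kaehler k A p hk
  haveI : IsAdicComplete (maximalIdeal A) (Ω[A⁄k]) := AdicDC.isAdicComplete_of_finite A _ _
  let e : AdicCompletion (maximalIdeal A) (Ω[A⁄k]) ≃ₗ[A] Ω[A⁄k] :=
    (AdicCompletion.ofLinearEquiv (maximalIdeal A) (Ω[A⁄k])).symm
  haveI : IsLocalizedModule P.primeCompl
      (KaehlerDifferential.map k k A (Localization.AtPrime P)) :=
    KaehlerDifferential.isLocalizedModule_map k A (Localization.AtPrime P) P.primeCompl
  let E : LocalizedModule P.primeCompl (AdicCompletion (maximalIdeal A) (Ω[A⁄k]))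
      ≃ₗ[Localization.AtPrime P] Ω[Localization.AtPrime P⁄k] :=
    IsLocalizedModule.mapEquiv P.primeCompl
      (LocalizedModule.mkLinearMap P.primeCompl (AdicCompletion (maximalIdeal A) (Ω[A⁄k])))
      (KaehlerDifferential.map k k A (Localization.AtPrime P)) (Localization.AtPrime P) e
  haveI : Module.Finite A (AdicCompletion (maximalIdeal A) (Ω[A⁄k])) := Module.Finite.equiv e.symm
  haveI : Module.Finite (Localization.AtPrime P) (Ω[Localization.AtPrime P⁄k]) :=
    Module.Finite.equiv E
  -- freeness
  have hfs := Groth.Agent.Helper7.GeomRegFG.adicFS_of_geomRegular k (Localization.AtPrime P) hP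
  have hfs' : EGA41.IsFormallySmoothAdic k ⊥ (Localization.AtPrime P)
      (maximalIdeal (Localization.AtPrime P)) :=
    (Groth.Agent.S4537.result (maximalIdeal (Localization.AtPrime P))).mp hfs
  haveI : IsLocalHom (algebraMap k (Localization.AtPrime P)) := by
    refine ⟨fun a ha => ?_⟩
    rw [isUnit_iff_ne_zero]
    rintro rfl
    rw [map_zero] at ha
    exact not_isUnit_zero ha
  have hfs'' : EGA41.IsFormallySmoothAdic k (maximalIdeal k) (Localization.AtPrime P)
      (maximalIdeal (Localization.AtPrime P)) := by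
    rw [IsLocalRing.maximalIdeal_eq_bot]
    exact hfs'
  have hfree : ∀ j : ℕ, 1 ≤ j →
      Module.Free (Localization.AtPrime P ⧸ maximalIdeal (Localization.AtPrime P) ^ j)
        ((Localization.AtPrime P ⧸ maximalIdeal (Localization.AtPrime P) ^ j)
          ⊗[Localization.AtPrime P] Ω[Localization.AtPrime P⁄k]) := fun j hj =>
    Groth.Agent.S4540.result hfs'' (maximalIdeal (Localization.AtPrime P) ^ j)
      (Ideal.pow_le_self (by omega)) ⟨j, le_rfl⟩
  haveI hΩfree : Module.Free (Localization.AtPrime P) (Ω[Localization.AtPrime P⁄k]) :=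
    GeomRegE.free_of_forall_free_quot _ hfree
  -- the fraction field of `A ⧸ q`
  haveI hlocq : IsLocalization q.primeCompl (FractionRing (A ⧸ q)) :=
    isLocalization_fractionRing P q hqP hzero
  have hunits : ∀ y : P.primeCompl, IsUnit (algebraMap A (FractionRing (A ⧸ q)) (y : A)) :=
    fun y => IsLocalization.map_units (FractionRing (A ⧸ q))
      (⟨y, fun h => y.2 (hqP h)⟩ : q.primeCompl)
  letI algRF : Algebra (Localization.AtPrime P) (FractionRing (A ⧸ q)) :=
    (IsLocalization.lift (M := P.primeCompl) (g := algebraMap A (FractionRing (A ⧸ q)))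
      hunits).toAlgebra
  haveI : IsScalarTower A (Localization.AtPrime P) (FractionRing (A ⧸ q)) :=
    IsScalarTower.of_algebraMap_eq (fun x => (IsLocalization.lift_eq hunits x).symm)
  haveI : IsScalarTower k (Localization.AtPrime P) (FractionRing (A ⧸ q)) :=
    IsScalarTower.of_algebraMap_eq (fun x => by
      rw [IsScalarTower.algebraMap_apply k A (Localization.AtPrime P),
        ← IsScalarTower.algebraMap_apply A (Localization.AtPrime P) (FractionRing (A ⧸ q)),
        ← IsScalarTower.algebraMap_apply k A (FractionRing (A ⧸ q))])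
  have hle : P.primeCompl ≤ q.primeCompl := fun x hx h => hx (hqP h)
  haveI hlocR : IsLocalization (q.primeCompl.map (algebraMap A (Localization.AtPrime P)))
      (FractionRing (A ⧸ q)) :=
    IsLocalization.isLocalization_of_submonoid_le (Localization.AtPrime P)
      (FractionRing (A ⧸ q)) P.primeCompl q.primeCompl hle
  haveI : Algebra.FormallyEtale (Localization.AtPrime P) (FractionRing (A ⧸ q)) :=
    Algebra.FormallyEtale.of_isLocalization
      (q.primeCompl.map (algebraMap A (Localization.AtPrime P)))
  -- geometric reducedness of the fraction field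
  haveI : Algebra.IsGeometricallyReduced k (FractionRing (A ⧸ q)) := by
    apply Groth.Agent.Helper14.isGeometricallyReduced_of_forall_finite_purelyInseparable
    intro k' _ _ _ _
    have hregk' : IsRegularRing (k' ⊗[k] Localization.AtPrime P) := hP k' inferInstance
    haveI := Groth.Agent.Helper14.RegularLocalization.isRegularRing_tensor_localization k' hregk'
      (q.primeCompl.map (algebraMap A (Localization.AtPrime P))) (FractionRing (A ⧸ q))
    exact Groth.Agent.Helper14.RegularLocalization.isReduced_of_isRegularRing _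
  -- the rank
  haveI : IsLocalRing (A ⧸ q) :=
    IsLocalRing.of_surjective' (Ideal.Quotient.mk q) Ideal.Quotient.mk_surjective
  haveI := KaehlerFibre.isAdicComplete_quotient A q
  haveI := KaehlerFibre.finite_residueField_quotient k A q
  have hrankF : Module.finrank (FractionRing (A ⧸ q)) (Ω[FractionRing (A ⧸ q)⁄k]) = n :=
    finrank_eq_of_geomReduced k (A ⧸ q) (FractionRing (A ⧸ q)) n hn p hk
  have h1 : Module.finrank (Localization.AtPrime P) (Ω[Localization.AtPrime P⁄k]) = n := by
    rw [← hrankF, ← (KaehlerDifferential.tensorKaehlerEquivOfFormallyEtale k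
      (Localization.AtPrime P) (FractionRing (A ⧸ q))).finrank_eq, Module.finrank_baseChange]
  exact ⟨Module.Free.of_equiv E.symm, by rw [E.finrank_eq, h1]⟩

end Main

end Groth.Agent.Helper11.GeomRegF
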