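import Mathlib.Algebra.Homology.DerivedCategory.TStructure
import Mathlib.Algebra.Homology.DerivedCategory.FullyFaithful
import Mathlib.Algebra.Homology.DerivedCategory.HomologySequence
import Mathlib.CategoryTheory.Triangulated.TStructure.TruncLTGE
import Mathlib.Tactic.Ring
import Mathlib.Tactic.Linarith

/-!
The ghost lemma in the derived category of an abelian category: a composite of `b - a + 1`
morphisms between objects with cohomology in `[a, b]`, each inducing zero on all cohomology
objects, is zero (helper11).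
-/

set_option autoImplicit false

open CategoryTheory Category Limits Pretriangulated DerivedCategory

universe w v u

namespace Groth.Agent.Helper11.Ghost

variable {C : Type u} [Category.{v} C] [Abelian C] [HasDerivedCategory.{w} C]

/-- a morphism between objects concentrated in a single degree `n` which is zero on `Hⁿ` is zero -/
theorem eq_zero_of_homology_map_eq_zero {X Y : DerivedCategory C} (n : ℤ)
    [X.IsGE n] [X.IsLE n] [Y.IsGE n] [Y.IsLE n] (f : X ⟶ Y)
    (hf : (homologyFunctor C n).map f = 0) : f = 0 := by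
  obtain ⟨M, ⟨e⟩⟩ := exists_iso_singleFunctor_obj_of_isGE_of_isLE X n
  obtain ⟨N, ⟨e'⟩⟩ := exists_iso_singleFunctor_obj_of_isGE_of_isLE Y n
  obtain ⟨h, hh⟩ := (singleFunctor C n).map_surjective (e.inv ≫ f ≫ e'.hom)
  have h1 : (singleFunctor C n ⋙ homologyFunctor C n).map h = 0 := by
    rw [Functor.comp_map, hh, Functor.map_comp, Functor.map_comp, hf, zero_comp, comp_zero]
  have h2 : h = 0 := by
    have := NatIso.naturality_1 (singleFunctorCompHomologyFunctorIso C n) h
    rw [h1, zero_comp, comp_zero] at this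
    exact this.symm
  rw [h2, Functor.map_zero] at hh
  have h3 : f = e.hom ≫ (e.inv ≫ f ≫ e'.hom) ≫ e'.inv := by simp
  rw [h3, ← hh, zero_comp, comp_zero]

/-- `H^b(X) ⟶ H^b(τ_{≥ b} X)` is an epimorphism -/
theorem epi_homology_map_truncGEπ (X : DerivedCategory C) (b : ℤ) :
    Epi ((homologyFunctor C b).map ((TStructure.t.truncGEπ b).app X)) := by
  have hT := TStructure.t.triangleLTGE_distinguished b X
  have hex := HomologySequence.exact₃ _ hT b (b + 1) rfl
  have hz : IsZero ((homologyFunctor C (b + 1)).obj ((TStructure.t.truncLT b).obj X)) :=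
    isZero_of_isLE _ (b - 1) (b + 1) (by omega)
  exact hex.epi_f (hz.eq_of_tgt _ _)

/-- `H^b(τ_{< b + 1} X) ⟶ H^b(X)` is a monomorphism -/
theorem mono_homology_map_truncLTι (X : DerivedCategory C) (b : ℤ) :
    Mono ((homologyFunctor C b).map ((TStructure.t.truncLTι (b + 1)).app X)) := by
  have hT := TStructure.t.triangleLTGE_distinguished (b + 1) X
  have hex := HomologySequence.exact₁ _ hT (b - 1) b (by omega)
  have hz : IsZero ((homologyFunctor C (b - 1)).obj ((TStructure.t.truncGE (b + 1)).obj X)) :=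
    isZero_of_isGE _ (b + 1) (b - 1) (by omega)
  exact hex.mono_g (hz.eq_of_src _ _)

/-- a morphism from an object `≤ b` to an object `≥ b` which is zero on `H^b` is zero -/
theorem eq_zero_of_isLE_of_isGE_of_homology_map_eq_zero {X Z : DerivedCategory C} (b : ℤ)
    [X.IsLE b] [Z.IsGE b] (u : X ⟶ Z) (hu : (homologyFunctor C b).map u = 0) : u = 0 := by
  rw [← TStructure.t.liftTruncLT_ι u b (b + 1) rfl]
  rw [← TStructure.t.π_descTruncGE (TStructure.t.liftTruncLT u b (b + 1) rfl) b]
  have hz : TStructure.t.descTruncGE (TStructure.t.liftTruncLT u b (b + 1) rfl) b = 0 := by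
    apply eq_zero_of_homology_map_eq_zero b
    haveI := epi_homology_map_truncGEπ X b
    haveI := mono_homology_map_truncLTι Z b
    rw [← cancel_epi ((homologyFunctor C b).map ((TStructure.t.truncGEπ b).app X)),
      ← cancel_mono ((homologyFunctor C b).map ((TStructure.t.truncLTι (b + 1)).app Z)),
      ← Functor.map_comp, ← Functor.map_comp, TStructure.t.π_descTruncGE,
      TStructure.t.liftTruncLT_ι, hu, comp_zero, zero_comp]
  rw [hz, comp_zero, zero_comp]

/-- a morphism from an object `≤ b` which is zero on `H^b` factors through `τ_{< b}` of the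
target -/
theorem exists_factor_truncLT {X Y : DerivedCategory C} (b : ℤ) [X.IsLE b] (f : X ⟶ Y)
    (hf : (homologyFunctor C b).map f = 0) :
    ∃ g : X ⟶ (TStructure.t.truncLT b).obj Y, f = g ≫ (TStructure.t.truncLTι b).app Y := by
  have h1 : f ≫ (TStructure.t.truncGEπ b).app Y = 0 := by
    apply eq_zero_of_isLE_of_isGE_of_homology_map_eq_zero b
    rw [Functor.map_comp, hf, zero_comp]
  exact Triangle.coyoneda_exact₂ _ (TStructure.t.triangleLTGE_distinguished b Y) f h1

/-- the ghost lemma for an inverse system: if the transition maps `Φ (q + n₀) ⟶ Φ q` are zero on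
all cohomology and all `Φ p` have cohomology in `[a, b]`, then `Φ (q + N n₀) ⟶ Φ q` vanishes for
`N ≥ b - a + 1` -/
theorem ghost_family (Φ : ℕ → DerivedCategory C)
    (φ : ∀ p q : ℕ, q ≤ p → (Φ p ⟶ Φ q))
    (hcomp : ∀ (p q r : ℕ) (hpq : q ≤ p) (hqr : r ≤ q),
      φ p q hpq ≫ φ q r hqr = φ p r (hqr.trans hpq))
    (n₀ : ℕ)
    (hghost : ∀ (q : ℕ) (i : ℤ),
      (homologyFunctor C i).map (φ (q + n₀) q (Nat.le_add_right q n₀)) = 0)
    (a b : ℤ) (hle : ∀ p, (Φ p).IsLE b) (hge : ∀ p, (Φ p).IsGE a) (N : ℕ)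
    (hN : b - a + 1 ≤ N) (q : ℕ) :
    φ (q + N * n₀) q (Nat.le_add_right _ _) = 0 := by
  have key : ∀ (k : ℕ) (p q : ℕ) (h : p = q + k * n₀),
      ∃ (W : DerivedCategory C) (_ : W.IsLE (b - k)) (v : Φ p ⟶ W) (w : W ⟶ Φ q),
        φ p q (by omega) = v ≫ w := by
    intro k
    induction k with
    | zero =>
      intro p q h
      refine ⟨Φ p, ?_, 𝟙 _, φ p q (by omega), (id_comp _).symm⟩
      have : b - ((0 : ℕ) : ℤ) = b := by simp
      rw [this]
      exact hle p
    | succ k ih =>
      intro p q h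
      obtain ⟨W, hW, v, w, hvw⟩ := ih p (q + n₀) (by rw [h]; ring)
      have hz : (homologyFunctor C (b - k)).map (w ≫ φ (q + n₀) q (Nat.le_add_right q n₀)) = 0 := by
        rw [Functor.map_comp, hghost, comp_zero]
      obtain ⟨g, hg⟩ := exists_factor_truncLT (b - k) _ hz
      refine ⟨(TStructure.t.truncLT (b - k)).obj (Φ q), ?_, v ≫ g,
        (TStructure.t.truncLTι (b - k)).app (Φ q), ?_⟩
      · have : b - ((k + 1 : ℕ) : ℤ) = b - k - 1 := by push_cast; ring
        rw [this]
        infer_instance
      · rw [assoc, ← hg, ← assoc, ← hvw, hcomp]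
  obtain ⟨W, hW, v, w, hvw⟩ := key N (q + N * n₀) q rfl
  haveI := hge q
  have hw : w = 0 := TStructure.t.zero_of_isLE_of_isGE w (b - N) a (by omega) hW inferInstance
  rw [hvw, hw, comp_zero]

end Groth.Agent.Helper11.Ghost
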