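import Mathlib

/-!
Artin–Rees input for the vanishing of `Jⁿ⁺ᵐ ⊗ K ⟶ Jᵐ ⊗ K` on cohomology (helper11).
-/

set_option autoImplicit false

open scoped TensorProduct

universe u v

namespace Groth.Agent.Helper11.Ghost

variable {A : Type u} [CommRing A]

/-- Artin–Rees: if `J Z ⊆ B` then `J^(q+n) M ∩ Z ⊆ J^q B` for `n ≥ n₀`, uniformly in `q` -/
theorem exists_pow_smul_top_inf_le [IsNoetherianRing A] {M : Type v} [AddCommGroup M] [Module A M]
    [Module.Finite A M] (J : Ideal A) (Z B : Submodule A M) (h : J • Z ≤ B) :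
    ∃ n₀ : ℕ, ∀ n ≥ n₀, ∀ q : ℕ, J ^ (q + n) • (⊤ : Submodule A M) ⊓ Z ≤ J ^ q • B := by
  obtain ⟨k, hk⟩ := Ideal.exists_pow_inf_eq_pow_smul J Z
  refine ⟨k + 1, fun n hn q => ?_⟩
  rw [hk (q + n) (by omega)]
  calc J ^ (q + n - k) • (J ^ k • ⊤ ⊓ Z) ≤ J ^ (q + 1) • Z :=
        Submodule.smul_mono (Ideal.pow_le_pow_right (by omega)) inf_le_right
    _ = J ^ q • (J • Z) := by rw [pow_succ, Submodule.mul_smul]
    _ ≤ J ^ q • B := Submodule.smul_mono le_rfl h

/-- the multiplication map `I ⊗ M → M` -/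
noncomputable def mulMap (I : Ideal A) (M : Type v) [AddCommGroup M] [Module A M] :
    (↥I) ⊗[A] M →ₗ[A] M :=
  (TensorProduct.lid A M).toLinearMap ∘ₗ (LinearMap.rTensor M (Submodule.subtype I))

@[simp]
theorem mulMap_tmul (I : Ideal A) (M : Type v) [AddCommGroup M] [Module A M] (a : I) (m : M) :
    mulMap I M (a ⊗ₜ[A] m) = (a : A) • m := by
  simp [mulMap]

theorem mulMap_injective (I : Ideal A) (M : Type v) [AddCommGroup M] [Module A M]
    [Module.Flat A M] : Function.Injective (mulMap I M) := by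
  have h1 : Function.Injective (LinearMap.rTensor M (Submodule.subtype I)) :=
    Module.Flat.rTensor_preserves_injective_linearMap _ (Submodule.injective_subtype I)
  exact (TensorProduct.lid A M).injective.comp h1

theorem range_mulMap (I : Ideal A) (M : Type v) [AddCommGroup M] [Module A M] :
    LinearMap.range (mulMap I M) = I • (⊤ : Submodule A M) := by
  apply le_antisymm
  · rintro _ ⟨t, rfl⟩
    induction t using TensorProduct.induction_on with
    | zero => simp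
    | tmul a m =>
      rw [mulMap_tmul]
      exact Submodule.smul_mem_smul a.2 Submodule.mem_top
    | add x y hx hy =>
      rw [map_add]
      exact Submodule.add_mem _ hx hy
  · rw [Submodule.smul_le]
    intro a ha m _
    exact ⟨(⟨a, ha⟩ : I) ⊗ₜ[A] m, by simp⟩

theorem mulMap_lTensor (I : Ideal A) {M N : Type v} [AddCommGroup M] [Module A M]
    [AddCommGroup N] [Module A N] (d : M →ₗ[A] N) (t : (↥I) ⊗[A] M) :
    mulMap I N (LinearMap.lTensor (↥I) d t) = d (mulMap I M t) := by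
  induction t using TensorProduct.induction_on with
  | zero => simp
  | tmul a m => simp
  | add x y hx hy => simp only [map_add, hx, hy]

theorem mulMap_rTensor_inclusion {I I' : Ideal A} (h : I ≤ I') {M : Type v} [AddCommGroup M]
    [Module A M] (t : (↥I) ⊗[A] M) :
    mulMap I' M (LinearMap.rTensor M (Submodule.inclusion h) t) = mulMap I M t := by
  induction t using TensorProduct.induction_on with
  | zero => simp
  | tmul a m => simp
  | add x y hx hy => simp only [map_add, hx, hy]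

/-- elements of `I • range d` come from `I ⊗ M` -/
theorem exists_lTensor_mulMap_eq (I : Ideal A) {M N : Type v} [AddCommGroup M] [Module A M]
    [AddCommGroup N] [Module A N] (d : M →ₗ[A] N) (u : N) (hu : u ∈ I • LinearMap.range d) :
    ∃ y : (↥I) ⊗[A] M, mulMap I N (LinearMap.lTensor (↥I) d y) = u := by
  refine Submodule.smul_induction_on (p := fun u => ∃ y : (↥I) ⊗[A] M,
    mulMap I N (LinearMap.lTensor (↥I) d y) = u) hu ?_ ?_
  · rintro a ha b ⟨w, rfl⟩
    exact ⟨(⟨a, ha⟩ : I) ⊗ₜ[A] w, by simp⟩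
  · rintro x y ⟨y₁, h₁⟩ ⟨y₂, h₂⟩
    exact ⟨y₁ + y₂, by rw [map_add, map_add, h₁, h₂]⟩

/-- the key uniform vanishing statement at the level of modules -/
theorem exists_lTensor_eq [IsNoetherianRing A] {M₀ M₁ M₂ : Type v} [AddCommGroup M₀] [Module A M₀]
    [AddCommGroup M₁] [Module A M₁] [AddCommGroup M₂] [Module A M₂] [Module.Finite A M₁]
    [Module.Flat A M₁] (d₀ : M₀ →ₗ[A] M₁) (d₁ : M₁ →ₗ[A] M₂) (J : Ideal A)
    (h : ∀ c ∈ J, ∀ z : M₁, d₁ z = 0 → ∃ w, d₀ w = c • z) :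
    ∃ n₀ : ℕ, ∀ n ≥ n₀, ∀ (p q : ℕ) (_ : p = q + n) (hqp : J ^ p ≤ J ^ q)
      (z : (↥(J ^ p)) ⊗[A] M₁),
      LinearMap.lTensor (↥(J ^ p)) d₁ z = 0 →
      ∃ y : (↥(J ^ q)) ⊗[A] M₀,
        LinearMap.lTensor (↥(J ^ q)) d₀ y =
          LinearMap.rTensor M₁ (Submodule.inclusion hqp) z := by
  have hJ : J • LinearMap.ker d₁ ≤ LinearMap.range d₀ := by
    rw [Submodule.smul_le]
    intro c hc z hz
    obtain ⟨w, hw⟩ := h c hc z hz
    exact ⟨w, hw⟩
  obtain ⟨n₀, hn₀⟩ := exists_pow_smul_top_inf_le J (LinearMap.ker d₁) (LinearMap.range d₀) hJ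
  refine ⟨n₀, fun n hn p q hpq hqp z hz => ?_⟩
  subst hpq
  have h1 : mulMap (J ^ (q + n)) M₁ z ∈ J ^ (q + n) • (⊤ : Submodule A M₁) ⊓ LinearMap.ker d₁ := by
    refine ⟨?_, ?_⟩
    · rw [← range_mulMap]
      exact ⟨z, rfl⟩
    · rw [SetLike.mem_coe, LinearMap.mem_ker, ← mulMap_lTensor, hz, map_zero]
  obtain ⟨y, hy⟩ := exists_lTensor_mulMap_eq (J ^ q) d₀ _ (hn₀ n hn q h1)
  refine ⟨y, mulMap_injective (J ^ q) M₁ ?_⟩
  rw [hy, mulMap_rTensor_inclusion]

end Groth.Agent.Helper11.Ghost
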