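import Groth.Agent.Lib.Helper11.Ghost1
import Groth.Agent.Lib.Helper11.Ghost2

/-!
If an ideal `J` of a Noetherian ring annihilates the cohomology of a bounded complex `K` of finite
flat modules, then `J^(n+m) ⊗ K ⟶ J^m ⊗ K` vanishes in the derived category for a uniform `n`
(helper11).
-/

set_option autoImplicit false

open CategoryTheory Category Limits MonoidalCategory

universe w u

namespace Groth.Agent.Helper11.Ghost

variable {A : Type u} [CommRing A]

/-- criterion for a morphism of complexes of modules to vanish on cohomology in degree `i` -/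
theorem homologyMap_eq_zero_of_forall {X Y : CochainComplex (ModuleCat.{u} A) ℤ} (φ : X ⟶ Y) (i : ℤ)
    (h : ∀ z : X.X i, (X.d i (i + 1)).hom z = 0 →
      ∃ y : Y.X (i - 1), (Y.d (i - 1) i).hom y = (φ.f i).hom z) :
    HomologicalComplex.homologyMap φ i = 0 := by
  rw [← cancel_epi (X.homologyπ i), HomologicalComplex.homologyπ_naturality, comp_zero]
  ext z'
  have hz : (X.d i (i + 1)).hom ((X.iCycles i).hom z') = 0 := by
    rw [← ModuleCat.comp_apply, X.iCycles_d]
    rfl
  obtain ⟨y, hy⟩ := h _ hz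
  have h1 : (HomologicalComplex.cyclesMap φ i).hom z' = (Y.toCycles (i - 1) i).hom y := by
    apply (ModuleCat.mono_iff_injective (Y.iCycles i)).mp inferInstance
    rw [← ModuleCat.comp_apply, ← ModuleCat.comp_apply, HomologicalComplex.cyclesMap_i,
      Y.toCycles_i, ModuleCat.comp_apply, hy]
  rw [ModuleCat.comp_apply, h1, ← ModuleCat.comp_apply, Y.toCycles_comp_homologyπ]
  rfl

/-- if `x` kills `Hⁱ(K)` then `x` times any cocycle is a coboundary -/
theorem exists_d_eq_smul (K : CochainComplex (ModuleCat.{u} A) ℤ) (i : ℤ) (x : A)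
    (hx : ∀ c : K.homology i, x • c = 0) (z : K.X i) (hz : (K.d i (i + 1)).hom z = 0) :
    ∃ w : K.X (i - 1), (K.d (i - 1) i).hom w = x • z := by
  let k : ModuleCat.of A A ⟶ K.X i := ModuleCat.ofHom (LinearMap.toSpanSingleton A (K.X i) z)
  have hk : k ≫ K.d i (i + 1) = 0 := by
    ext
    simp [k, hz]
  let z' : K.cycles i := (K.liftCycles k (i + 1) (by simp) hk).hom (1 : A)
  have hz' : (K.iCycles i).hom z' = z := by
    change (K.iCycles i).hom ((K.liftCycles k (i + 1) (by simp) hk).hom (1 : A)) = z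
    rw [← ModuleCat.comp_apply, K.liftCycles_i]
    simp [k]
  have h0 : (K.homologyπ i).hom (x • z') = 0 := by
    rw [map_smul]
    exact hx _
  have hex : (ShortComplex.mk (K.toCycles (i - 1) i) (K.homologyπ i)
      (K.toCycles_comp_homologyπ _ _)).Exact :=
    ShortComplex.exact_of_g_is_cokernel _ (K.homologyIsCokernel (i - 1) i (by simp))
  obtain ⟨w, hw⟩ := (ShortComplex.moduleCat_exact_iff _).mp hex _ h0
  refine ⟨w, ?_⟩
  have h2 := congrArg (K.iCycles i).hom hw
  change (K.iCycles i).hom ((K.toCycles (i - 1) i).hom w) = (K.iCycles i).hom (x • z') at h2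
  rw [← ModuleCat.comp_apply, K.toCycles_i, map_smul, hz'] at h2
  exact h2

/-- the complex `L ⊗ K` -/
noncomputable abbrev tens (L : ModuleCat.{u} A) (K : CochainComplex (ModuleCat.{u} A) ℤ) :
    CochainComplex (ModuleCat.{u} A) ℤ :=
  (((curriedTensor (ModuleCat.{u} A)).obj L).mapHomologicalComplex (ComplexShape.up ℤ)).obj K

/-- the inclusion `J^p ⟶ J^q` for `q ≤ p` -/
noncomputable abbrev powIncl (J : Ideal A) (p q : ℕ) (h : q ≤ p) :
    ModuleCat.of A ↥(J ^ p) ⟶ ModuleCat.of A ↥(J ^ q) :=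
  ModuleCat.ofHom (Submodule.inclusion (Ideal.pow_le_pow_right h))

/-- the induced map `J^p ⊗ K ⟶ J^q ⊗ K` -/
noncomputable abbrev phi (J : Ideal A) (K : CochainComplex (ModuleCat.{u} A) ℤ) (p q : ℕ)
    (h : q ≤ p) : tens (ModuleCat.of A ↥(J ^ p)) K ⟶ tens (ModuleCat.of A ↥(J ^ q)) K :=
  (NatTrans.mapHomologicalComplex ((curriedTensor (ModuleCat.{u} A)).map (powIncl J p q h))
    (ComplexShape.up ℤ)).app K

theorem phi_comp (J : Ideal A) (K : CochainComplex (ModuleCat.{u} A) ℤ) (p q r : ℕ)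
    (hpq : q ≤ p) (hqr : r ≤ q) :
    phi J K p q hpq ≫ phi J K q r hqr = phi J K p r (hqr.trans hpq) := by
  ext i : 1
  rw [HomologicalComplex.comp_f]
  simp only [NatTrans.mapHomologicalComplex_app_f, curriedTensor_map_app]
  have h1 : powIncl J p q hpq ≫ powIncl J q r hqr = powIncl J p r (hqr.trans hpq) :=
    ModuleCat.hom_ext (LinearMap.ext fun x => rfl)
  exact (comp_whiskerRight (powIncl J p q hpq) (powIncl J q r hqr) (K.X i)).symm.trans
    (by rw [h1])

/-- uniform vanishing on cohomology in one degree -/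
theorem exists_homologyMap_phi_eq_zero [IsNoetherianRing A]
    (K : CochainComplex (ModuleCat.{u} A) ℤ) (i : ℤ) [Module.Finite A (K.X i)]
    [Module.Flat A (K.X i)] (J : Ideal A) (hJ : ∀ x ∈ J, ∀ c : ↑(K.homology i), x • c = 0) :
    ∃ n₀ : ℕ, ∀ n ≥ n₀, ∀ (p q : ℕ) (h : q ≤ p), p = q + n →
      HomologicalComplex.homologyMap (phi J K p q h) i = 0 := by
  obtain ⟨n₀, hn₀⟩ := exists_lTensor_eq (K.d (i - 1) i).hom (K.d i (i + 1)).hom J
    (fun c hc z hz => exists_d_eq_smul K i c (hJ c hc) z hz)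
  refine ⟨n₀, fun n hn p q h hpq => ?_⟩
  apply homologyMap_eq_zero_of_forall
  intro z hz
  exact hn₀ n hn p q hpq (Ideal.pow_le_pow_right h) z hz

theorem isZero_tens_X (L : ModuleCat.{u} A) (K : CochainComplex (ModuleCat.{u} A) ℤ) (i : ℤ)
    (h : IsZero (K.X i)) : IsZero ((tens L K).X i) :=
  Functor.map_isZero ((curriedTensor (ModuleCat.{u} A)).obj L) h

theorem homologyMap_eq_zero_of_isZero {X Y : CochainComplex (ModuleCat.{u} A) ℤ} (φ : X ⟶ Y)
    (i : ℤ) (h : IsZero (X.X i)) : HomologicalComplex.homologyMap φ i = 0 := by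
  apply homologyMap_eq_zero_of_forall
  intro z _
  haveI := ModuleCat.subsingleton_of_isZero h
  rw [Subsingleton.elim z 0, map_zero]
  exact ⟨0, map_zero _⟩

/-- main theorem: uniform vanishing in the derived category -/
theorem exists_Q_map_phi_eq_zero [IsNoetherianRing A] [HasDerivedCategory.{w} (ModuleCat.{u} A)]
    (K : CochainComplex (ModuleCat.{u} A) ℤ) (a b : ℤ)
    (hK : ∀ q : ℤ, q < a ∨ b < q → IsZero (K.X q))
    (hfin : ∀ q : ℤ, Module.Finite A (K.X q)) (hflat : ∀ q : ℤ, Module.Flat A (K.X q))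
    (J : Ideal A) (hJ : ∀ q : ℤ, ∀ x ∈ J, ∀ c : ↑(K.homology q), x • c = 0) :
    ∃ n : ℕ, ∀ (p m : ℕ) (h : m ≤ p), p = n + m →
      DerivedCategory.Q.map (phi J K p m h) = 0 := by
  choose n₀f hn₀f using fun i : ℤ => exists_homologyMap_phi_eq_zero K i J (hJ i)
  let n₀ : ℕ := (Finset.Icc a b).sup n₀f
  have hgh : ∀ (q : ℕ) (i : ℤ),
      HomologicalComplex.homologyMap (phi J K (q + n₀) q (Nat.le_add_right q n₀)) i = 0 := by
    intro q i
    by_cases hi : a ≤ i ∧ i ≤ b
    · exact hn₀f i n₀ (Finset.le_sup (f := n₀f) (Finset.mem_Icc.mpr hi)) _ _ _ rfl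
    · apply homologyMap_eq_zero_of_isZero
      apply isZero_tens_X
      apply hK
      by_contra hc
      exact hi ⟨by omega, by omega⟩
  let N : ℕ := (b - a + 1).toNat
  have hcomp : ∀ (p q r : ℕ) (hpq : q ≤ p) (hqr : r ≤ q),
      DerivedCategory.Q.map (phi J K p q hpq) ≫ DerivedCategory.Q.map (phi J K q r hqr) =
        DerivedCategory.Q.map (phi J K p r (hqr.trans hpq)) := by
    intro p q r hpq hqr
    rw [← Functor.map_comp, phi_comp]
  have hghost : ∀ (q : ℕ) (i : ℤ), (DerivedCategory.homologyFunctor (ModuleCat.{u} A) i).map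
      (DerivedCategory.Q.map (phi J K (q + n₀) q (Nat.le_add_right q n₀))) = 0 := by
    intro q i
    have hnat := (DerivedCategory.homologyFunctorFactors (ModuleCat.{u} A) i).hom.naturality
      (phi J K (q + n₀) q (Nat.le_add_right q n₀))
    simp only [Functor.comp_map] at hnat
    have hm' : (HomologicalComplex.homologyFunctor (ModuleCat.{u} A) (ComplexShape.up ℤ) i).map
        (phi J K (q + n₀) q (Nat.le_add_right q n₀)) = 0 := hgh q i
    rw [hm', comp_zero] at hnat
    have h3 : (DerivedCategory.homologyFunctor (ModuleCat.{u} A) i).map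
        (DerivedCategory.Q.map (phi J K (q + n₀) q (Nat.le_add_right q n₀))) =
        ((DerivedCategory.homologyFunctor (ModuleCat.{u} A) i).map
          (DerivedCategory.Q.map (phi J K (q + n₀) q (Nat.le_add_right q n₀))) ≫
          (DerivedCategory.homologyFunctorFactors (ModuleCat.{u} A) i).hom.app
            (tens (ModuleCat.of A ↥(J ^ q)) K)) ≫
          (DerivedCategory.homologyFunctorFactors (ModuleCat.{u} A) i).inv.app
            (tens (ModuleCat.of A ↥(J ^ q)) K) := by
      rw [assoc, Iso.hom_inv_id_app]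
      exact (comp_id _).symm
    rw [h3, hnat, zero_comp]
  have hle : ∀ p : ℕ, (DerivedCategory.Q.obj (tens (ModuleCat.of A ↥(J ^ p)) K)).IsLE b := by
    intro p
    haveI : (tens (ModuleCat.of A ↥(J ^ p)) K).IsStrictlyLE b := by
      rw [CochainComplex.isStrictlyLE_iff]
      intro i hi
      exact isZero_tens_X _ K i (hK i (Or.inr hi))
    infer_instance
  have hge : ∀ p : ℕ, (DerivedCategory.Q.obj (tens (ModuleCat.of A ↥(J ^ p)) K)).IsGE a := by
    intro p
    haveI : (tens (ModuleCat.of A ↥(J ^ p)) K).IsStrictlyGE a := by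
      rw [CochainComplex.isStrictlyGE_iff]
      intro i hi
      exact isZero_tens_X _ K i (hK i (Or.inl hi))
    infer_instance
  have key := ghost_family.{w, u, u + 1} (C := ModuleCat.{u} A)
    (fun p => DerivedCategory.Q.obj (tens (ModuleCat.of A ↥(J ^ p)) K))
    (fun p q h => DerivedCategory.Q.map (phi J K p q h)) hcomp n₀ hghost a b hle hge
    N (Int.self_le_toNat _)
  refine ⟨N * n₀, fun p m h hp => ?_⟩
  obtain rfl : p = m + N * n₀ := by omega
  exact key m

end Groth.Agent.Helper11.Ghost
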