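import Mathlib.Topology.ExtremallyDisconnected
import Mathlib.Topology.Homeomorph.Defs

/-!
# Gleason covers (projective covers of compact Hausdorff spaces)
-/

namespace Groth.Agent.Helper11

open Set Function

universe u

/-- A continuous self-map of an irreducible cover over the base is the identity. -/
theorem irreducible_cover_self_map_eq_id {E A : Type*} [TopologicalSpace E] [T2Space E]
    {ρ : E → A} (hsurj : Surjective ρ)
    (hρ : ∀ E₀ : Set E, E₀ ≠ univ → IsClosed E₀ → ρ '' E₀ ≠ univ)
    {φ : E → E} (hφ : Continuous φ) (h : ρ ∘ φ = ρ) : φ = id := by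
  funext x
  by_contra hx
  have hx' : x ≠ φ x := fun h => hx h.symm
  obtain ⟨U, V, hU, hV, hxU, hxV, hUV⟩ := t2_separation hx'
  have hWo : IsOpen (U ∩ φ ⁻¹' V) := hU.inter (hV.preimage hφ)
  have hxW : x ∈ U ∩ φ ⁻¹' V := ⟨hxU, hxV⟩
  refine hρ (U ∩ φ ⁻¹' V)ᶜ ?_ hWo.isClosed_compl ?_
  · intro hEq
    have : x ∈ (U ∩ φ ⁻¹' V)ᶜ := hEq ▸ mem_univ x
    exact this hxW
  · refine eq_univ_of_forall fun a => ?_
    obtain ⟨e, rfl⟩ := hsurj a
    by_cases he : e ∈ U ∩ φ ⁻¹' V
    · refine ⟨φ e, ?_, congrFun h e⟩
      intro hmem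
      exact (Set.disjoint_left.mp hUV hmem.1) he.2
    · exact ⟨e, he, rfl⟩

/-- A type synonym carrying the discrete topology. -/
structure Discr (X : Type u) : Type u where
  /-- the underlying point -/
  out : X

instance (X : Type u) : TopologicalSpace (Discr X) := ⊥

instance (X : Type u) : DiscreteTopology (Discr X) := ⟨rfl⟩

/-- Existence of Gleason covers. -/
theorem gleason_cover_exists (X : Type u) [TopologicalSpace X] [CompactSpace X] [T2Space X] :
    ∃ (X' : Type u) (_ : TopologicalSpace X') (_ : CompactSpace X') (_ : T2Space X')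
      (_ : ExtremallyDisconnected X') (p : X' → X), Continuous p ∧ Function.Surjective p ∧
        ∀ E : Set X', IsClosed E → E ≠ Set.univ → p '' E ≠ Set.univ := by
  have hid : Continuous (Discr.out : Discr X → X) := continuous_of_discreteTopology
  set π : StoneCech (Discr X) → X := stoneCechExtend hid with hπ
  have π_cont : Continuous π := continuous_stoneCechExtend hid
  have π_ext : π ∘ stoneCechUnit = Discr.out := stoneCechExtend_extends hid
  have π_surj : Surjective π := fun x => ⟨stoneCechUnit (⟨x⟩ : Discr X), congrFun π_ext ⟨x⟩⟩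
  obtain ⟨E, hEc, hEonto, hEmin⟩ := exists_compact_surjective_zorn_subset π_cont π_surj
  set ρ : E → X := E.domRestrict π with hρ
  have ρ_cont : Continuous ρ := π_cont.continuousOn.domRestrict
  have ρ_surj : ρ.Surjective := fun a => by
    rcases (hEonto ▸ mem_univ a : a ∈ π '' E) with ⟨d, ⟨hd, rfl⟩⟩; exact ⟨⟨d, hd⟩, rfl⟩
  -- a retraction of the Stone-Čech compactification onto `E`
  obtain ⟨r, hr, hrρ⟩ := StoneCech.projective (X := Discr X) π_cont ρ_cont ρ_surj
  have hφ : r ∘ (Subtype.val : E → StoneCech (Discr X)) = id := by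
    refine irreducible_cover_self_map_eq_id ρ_surj hEmin (hr.comp continuous_subtype_val) ?_
    funext e
    exact congrFun hrρ e.1
  have proj : CompactT2.Projective E := by
    intro Y Z _ _ _ _ _ _ f g hf hg gsurj
    obtain ⟨h, hh, hgh⟩ := StoneCech.projective (X := Discr X) (hf.comp hr) hg gsurj
    refine ⟨h ∘ Subtype.val, hh.comp continuous_subtype_val, ?_⟩
    funext e
    have h1 : g (h e.1) = f (r e.1) := congrFun hgh e.1
    have h2 : r e.1 = e := congrFun hφ e
    simp only [comp_apply, h1, h2]
  have hED : ExtremallyDisconnected E := CompactT2.Projective.extremallyDisconnected proj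
  exact ⟨E, inferInstance, hEc, inferInstance, hED, ρ, ρ_cont, ρ_surj,
    fun E₀ hcl hne => hEmin E₀ hne hcl⟩

/-- Uniqueness of Gleason covers. -/
theorem gleason_cover_unique {X : Type u} [TopologicalSpace X] [CompactSpace X] [T2Space X]
    (X' X'' : Type u) [TopologicalSpace X'] [CompactSpace X'] [T2Space X']
    [ExtremallyDisconnected X']
    [TopologicalSpace X''] [CompactSpace X''] [T2Space X''] [ExtremallyDisconnected X'']
    (p : X' → X) (q : X'' → X)
    (hp : Continuous p) (_hps : Function.Surjective p)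
    (hpi : ∀ E : Set X', IsClosed E → E ≠ Set.univ → p '' E ≠ Set.univ)
    (hq : Continuous q) (hqs : Function.Surjective q)
    (hqi : ∀ E : Set X'', IsClosed E → E ≠ Set.univ → q '' E ≠ Set.univ) :
    ∃ h : X' ≃ₜ X'', q ∘ h = p := by
  obtain ⟨h, hh, hqh⟩ := CompactT2.ExtremallyDisconnected.projective (A := X') hp hq hqs
  have hsurj : Surjective h := by
    rw [← range_eq_univ]
    by_contra hne
    refine hqi (range h) (isCompact_range hh).isClosed hne ?_
    rw [← range_comp, hqh]
    exact range_eq_univ.mpr _hps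
  have hz : ∀ E₀ : Set X', E₀ ≠ univ → IsClosed E₀ → h '' E₀ ≠ univ := by
    intro E₀ hne hcl hEq
    refine hpi E₀ hcl hne ?_
    rw [← hqh, image_comp, hEq, image_univ]
    exact range_eq_univ.mpr hqs
  exact ⟨ExtremallyDisconnected.homeoCompactToT2 hh hsurj hz, hqh⟩

end Groth.Agent.Helper11
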