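import Groth.Agent.Lib.Helper11.Dev12
import Mathlib.Algebra.Module.Torsion.Basic

/-!
Dévissage tools for glueing flatness along `R → R_f` and `R → R ⧸ f` (helper11).
-/

set_option autoImplicit false

open CategoryTheory CategoryTheory.Limits MonoidalCategory

universe u

namespace Groth.Agent.Helper11.Glue

open Groth.Agent.Helper11.DC Groth.Agent.Helper11.TA Groth.Agent.Helper11.LDer
  Groth.Agent.Helper11.PRT Groth.Agent.Helper11.Dev

attribute [local instance] HasDerivedCategory.standard

section BC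

variable {R B : Type u} [CommRing R] [CommRing B] (φ : R →+* B)

/-- Lemma BC for an arbitrary ring map `φ : R → B`: for `N` with `N ≅ N ⊗_R B`, the cohomology
of `T ⊗_R N` is controlled by tor-vanishing of the base change of `T` -/
theorem isZero_homology_tens_of_esC (T : DRing.Cx R) [T.IsKProjective]
    (E' : DRing.Cx B) (c : ℤ) (hE'c : DRing.VanishesAbove E' c)
    (hE'p : ∀ i, Module.Projective B (E'.X i))
    (e : DerivedCategory.Q.obj ((esC φ).obj T) ≅ DerivedCategory.Q.obj E')
    (a b : ℤ) (hE' : TorVanCx a b E')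
    (N : ModuleCat.{u} R) (eN' : N ≅ N ⊗ Bm φ) (i : ℤ) (hi : i < a ∨ b < i) :
    IsZero (((tens N).obj T).homology i) := by
  haveI := isKProjective_esC φ T
  haveI : E'.IsKProjective := isKProjective_of_vanishesAbove E' c hE'c hE'p
  obtain ⟨he⟩ := nonempty_homotopyEquiv_of_Q_iso _ _ e
  have he2 := (tensorRight ((es φ).obj N)).mapHomotopyEquiv he
  have hz : IsZero (((tens ((es φ).obj N)).obj E').homology i) :=
    (hE' _ i hi).of_iso
      ((DerivedCategory.homologyFunctorFactors (ModuleCat.{u} B) i).app _).symm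
  have h1 : IsZero (((tens ((es φ).obj N)).obj ((esC φ).obj T)).homology i) :=
    hz.of_iso (he2.toHomologyIso i)
  have h2 := (isZero_homology_rsC_iff φ _ i).mpr h1
  let ι1 : (tens N).obj T ≅ (tens (N ⊗ Bm φ)).obj T := (tensIso eN').app T
  let ι2 : (tens (N ⊗ Bm φ)).obj T ≅ (tens (Bm φ)).obj ((tens N).obj T) :=
    ((Functor.mapHomologicalComplexCompIso
      (tensorRightTensor N (Bm φ)).symm (ComplexShape.up ℤ)).app T).symm
  let ι3 : (tens (Bm φ)).obj ((tens N).obj T) ≅
      (rsC φ).obj ((esC φ).obj ((tens N).obj T)) := tensBmIso φ ((tens N).obj T)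
  let ι4 : (rsC φ).obj ((esC φ).obj ((tens N).obj T)) ≅
      (rsC φ).obj ((tens ((es φ).obj N)).obj ((esC φ).obj T)) :=
    (rsC φ).mapIso (esTensIso φ T N).symm
  exact h2.of_iso ((HomologicalComplex.homologyFunctor _ _ i).mapIso (ι1 ≪≫ ι2 ≪≫ ι3 ≪≫ ι4))

end BC

variable {R : Type u} [CommRing R]

/-- the short exact sequence of complexes `T ⊗ M₁ → T ⊗ M₂ → T ⊗ M₃` -/
theorem exists_tens_shortExact (T : DRing.Cx R) (hT : ∀ i, Module.Flat R (T.X i))
    {M₁ M₂ M₃ : ModuleCat.{u} R} (f : M₁ ⟶ M₂) (g : M₂ ⟶ M₃)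
    (hf : Function.Injective f.hom) (hg : Function.Surjective g.hom)
    (hfg : Function.Exact f.hom g.hom) :
    ∃ w : (tensMap f).app T ≫ (tensMap g).app T = 0,
      (ShortComplex.mk ((tensMap f).app T) ((tensMap g).app T) w).ShortExact := by
  have hzero : (tensMap f).app T ≫ (tensMap g).app T = 0 := by
    ext j : 1
    rw [HomologicalComplex.comp_f, tensMap_app_f, tensMap_app_f, HomologicalComplex.zero_f]
    apply ModuleCat.hom_ext
    apply LinearMap.ext
    intro x
    have h : (LinearMap.lTensor (T.X j) g.hom ∘ₗ LinearMap.lTensor (T.X j) f.hom) x = 0 := by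
      have := (lTensor_exact (T.X j) hfg hg).linearMap_comp_eq_zero
      rw [this]
      rfl
    exact h
  refine ⟨hzero, ?_⟩
  apply HomologicalComplex.shortExact_of_degreewise_shortExact
  intro j
  haveI := hT j
  have hmono : Mono ((ShortComplex.mk ((tensMap f).app T) ((tensMap g).app T) hzero).map
      (HomologicalComplex.eval _ _ j)).f := by
    rw [ModuleCat.mono_iff_injective]
    exact Module.Flat.lTensor_preserves_injective_linearMap (M := T.X j) f.hom hf
  have hepi : Epi ((ShortComplex.mk ((tensMap f).app T) ((tensMap g).app T) hzero).map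
      (HomologicalComplex.eval _ _ j)).g := by
    rw [ModuleCat.epi_iff_surjective]
    exact LinearMap.lTensor_surjective (T.X j) hg
  have hex : ((ShortComplex.mk ((tensMap f).app T) ((tensMap g).app T) hzero).map
      (HomologicalComplex.eval _ _ j)).Exact := by
    rw [ShortComplex.ShortExact.moduleCat_exact_iff_function_exact]
    exact lTensor_exact (T.X j) hfg hg
  exact { exact := hex, mono_f := hmono, epi_g := hepi }

/-- dévissage, left end of the long exact sequence -/
theorem isZero_homology_tens_of_ses₁ (T : DRing.Cx R) (hT : ∀ i, Module.Flat R (T.X i))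
    {M₁ M₂ M₃ : ModuleCat.{u} R} (f : M₁ ⟶ M₂) (g : M₂ ⟶ M₃)
    (hf : Function.Injective f.hom) (hg : Function.Surjective g.hom)
    (hfg : Function.Exact f.hom g.hom) (i j : ℤ) (hij : i + 1 = j)
    (h3 : IsZero (((tens M₃).obj T).homology i)) (h2 : IsZero (((tens M₂).obj T).homology j)) :
    IsZero (((tens M₁).obj T).homology j) := by
  obtain ⟨w, hS⟩ := exists_tens_shortExact T hT f g hf hg hfg
  have hex := hS.homology_exact₁ i j (by simpa using hij)
  exact hex.isZero_of_both_isZero h3 h2

section Torsion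

variable {X₀ X₁ X₂ N : Type u} [AddCommGroup X₀] [Module R X₀] [AddCommGroup X₁] [Module R X₁]
  [AddCommGroup X₂] [Module R X₂] [AddCommGroup N] [Module R N]

theorem exists_mem_range_lTensor_torsionBy (f : R) (hN : ∀ x : N, ∃ k : ℕ, f ^ k • x = 0)
    (z : TensorProduct R X₁ N) :
    ∃ k : ℕ, z ∈ LinearMap.range
      (LinearMap.lTensor X₁ (Submodule.torsionBy R N (f ^ k)).subtype) := by
  have hmono : ∀ k k' : ℕ, k ≤ k' →
      LinearMap.range (LinearMap.lTensor X₁ (Submodule.torsionBy R N (f ^ k)).subtype) ≤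
        LinearMap.range (LinearMap.lTensor X₁ (Submodule.torsionBy R N (f ^ k')).subtype) := by
    intro k k' hkk'
    have hle : Submodule.torsionBy R N (f ^ k) ≤ Submodule.torsionBy R N (f ^ k') :=
      Submodule.torsionBy_le_torsionBy_of_dvd _ _ (pow_dvd_pow f hkk')
    have hcomp : (Submodule.torsionBy R N (f ^ k)).subtype =
        (Submodule.torsionBy R N (f ^ k')).subtype ∘ₗ Submodule.inclusion hle := rfl
    rw [hcomp, LinearMap.lTensor_comp]
    exact LinearMap.range_comp_le_range _ _
  induction z using TensorProduct.induction_on with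
  | zero => exact ⟨0, Submodule.zero_mem _⟩
  | tmul t n =>
    obtain ⟨k, hk⟩ := hN n
    refine ⟨k, ⟨t ⊗ₜ[R] ⟨n, (Submodule.mem_torsionBy_iff _ _).mpr hk⟩, ?_⟩⟩
    rw [LinearMap.lTensor_tmul]
    rfl
  | add z₁ z₂ h₁ h₂ =>
    obtain ⟨k₁, hk₁⟩ := h₁
    obtain ⟨k₂, hk₂⟩ := h₂
    exact ⟨max k₁ k₂, Submodule.add_mem _ (hmono k₁ _ (le_max_left _ _) hk₁)
      (hmono k₂ _ (le_max_right _ _) hk₂)⟩

theorem ker_le_range_of_torsion (d₀ : X₀ →ₗ[R] X₁) (d₁ : X₁ →ₗ[R] X₂) [Module.Flat R X₂] (f : R)
    (hN : ∀ x : N, ∃ k : ℕ, f ^ k • x = 0)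
    (hex : ∀ k : ℕ, LinearMap.ker (d₁.rTensor (Submodule.torsionBy R N (f ^ k))) ≤
      LinearMap.range (d₀.rTensor (Submodule.torsionBy R N (f ^ k)))) :
    LinearMap.ker (d₁.rTensor N) ≤ LinearMap.range (d₀.rTensor N) := by
  intro z hz
  obtain ⟨k, z', hz'⟩ := exists_mem_range_lTensor_torsionBy (X₁ := X₁) f hN z
  have hinj : Function.Injective
      (LinearMap.lTensor X₂ (Submodule.torsionBy R N (f ^ k)).subtype) :=
    Module.Flat.lTensor_preserves_injective_linearMap _ (Submodule.injective_subtype _)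
  have hcyc : d₁.rTensor (Submodule.torsionBy R N (f ^ k)) z' = 0 := by
    apply hinj
    rw [map_zero]
    have h1 : (LinearMap.lTensor X₂ (Submodule.torsionBy R N (f ^ k)).subtype)
        (d₁.rTensor (Submodule.torsionBy R N (f ^ k)) z') =
        d₁.rTensor N ((LinearMap.lTensor X₁ (Submodule.torsionBy R N (f ^ k)).subtype) z') := by
      rw [← LinearMap.comp_apply, ← LinearMap.comp_apply, LinearMap.lTensor_comp_rTensor,
        LinearMap.rTensor_comp_lTensor]
    rw [h1, hz']
    exact hz
  obtain ⟨w', hw'⟩ := hex k hcyc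
  refine ⟨(LinearMap.lTensor X₀ (Submodule.torsionBy R N (f ^ k)).subtype) w', ?_⟩
  rw [← hz', ← hw', ← LinearMap.comp_apply, ← LinearMap.comp_apply,
    LinearMap.lTensor_comp_rTensor, LinearMap.rTensor_comp_lTensor]

end Torsion

theorem pow_smul_top_torsionBy (f : R) (N : Type u) [AddCommGroup N] [Module R N] (k : ℕ) :
    (Ideal.span ({f} : Set R)) ^ k • (⊤ : Submodule R (Submodule.torsionBy R N (f ^ k))) = ⊥ := by
  rw [eq_bot_iff, Submodule.smul_le]
  intro r hr x _
  rw [Ideal.span_singleton_pow, Ideal.mem_span_singleton'] at hr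
  obtain ⟨c, rfl⟩ := hr
  rw [Submodule.mem_bot, mul_smul, Submodule.smul_torsionBy, smul_zero]

/-- vanishing for `f`-power torsion modules from vanishing for modules killed by powers of `f` -/
theorem isZero_homology_tens_of_torsion (f : R) (T : DRing.Cx R)
    (hTf : ∀ i, Module.Flat R (T.X i)) (i : ℤ)
    (hpow : ∀ (n : ℕ) (N : Type u) [AddCommGroup N] [Module R N],
      (Ideal.span ({f} : Set R)) ^ n • (⊤ : Submodule R N) = ⊥ →
      IsZero (((tens (ModuleCat.of R N)).obj T).homology i))
    (N : Type u) [AddCommGroup N] [Module R N] (hN : ∀ x : N, ∃ k : ℕ, f ^ k • x = 0) :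
    IsZero (((tens (ModuleCat.of R N)).obj T).homology i) := by
  rw [← HomologicalComplex.exactAt_iff_isZero_homology]
  apply exactAt_of_ker_le_range _ (i - 1) i (i + 1) (by omega) rfl
  haveI := hTf (i + 1)
  refine ker_le_range_of_torsion (N := N) (T.d (i - 1) i).hom (T.d i (i + 1)).hom f hN ?_
  intro k
  have h := hpow k (Submodule.torsionBy R N (f ^ k)) (pow_smul_top_torsionBy f N k)
  rw [← HomologicalComplex.exactAt_iff_isZero_homology] at h
  exact (range_eq_ker_of_exactAt _ (i - 1) i (i + 1) (by omega) rfl h).ge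

end Groth.Agent.Helper11.Glue
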