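import Groth.Agent.Lib.Helper11.Glue2

/-!
Glueing flatness along `R → R_f` and `R → R ⧸ f`: the statement on objects of `D(R)` (helper11).
-/

set_option autoImplicit false

open CategoryTheory CategoryTheory.Limits MonoidalCategory

universe u

namespace Groth.Agent.Helper11.Glue

open Groth.Agent.Helper11.DC Groth.Agent.Helper11.TA Groth.Agent.Helper11.LDer
  Groth.Agent.Helper11.PRT Groth.Agent.Helper11.Dev

attribute [local instance] HasDerivedCategory.standard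

variable {R : Type u} [CommRing R]

theorem exists_flat_inD_iso_of_away_and_quotient (f : R) (M : Dual.D R)
    [DRing.HasLBaseChange (algebraMap R (Localization.Away f))]
    [DRing.HasLBaseChange (Ideal.Quotient.mk (Ideal.span ({f} : Set R)))]
    (h1 : ∀ i : ℤ, 0 < i → Subsingleton (Dual.HD R M i))
    (h2 : ∃ (N : Type u) (_ : AddCommGroup N) (_ : Module (Localization.Away f) N),
      Module.Flat (Localization.Away f) N ∧
        Nonempty ((DRing.LBaseChange (algebraMap R (Localization.Away f))).obj M ≅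
          Dual.inD (Localization.Away f) N))
    (h3 : ∃ (N : Type u) (_ : AddCommGroup N) (_ : Module (R ⧸ Ideal.span ({f} : Set R)) N),
      Module.Flat (R ⧸ Ideal.span ({f} : Set R)) N ∧
        Nonempty ((DRing.LBaseChange (Ideal.Quotient.mk (Ideal.span ({f} : Set R)))).obj M ≅
          Dual.inD (R ⧸ Ideal.span ({f} : Set R)) N)) :
    ∃ (N : Type u) (_ : AddCommGroup N) (_ : Module R N), Module.Flat R N ∧
      Nonempty (M ≅ Dual.inD R N) := by
  have hM : ∀ i : ℤ, 0 < i →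
      IsZero ((DerivedCategory.homologyFunctor (ModuleCat.{u} R) i).obj M) := fun i hi => by
    haveI := h1 i hi
    exact ModuleCat.isZero_of_subsingleton _
  obtain ⟨P, hPb, hPp, ⟨eP⟩⟩ := exists_projRes_vanishesAbove M 0 hM
  obtain ⟨N₁, _, _, hN₁, ⟨i₁⟩⟩ := h2
  obtain ⟨N₂, _, _, hN₂, ⟨i₂⟩⟩ := h3
  obtain ⟨eL₁⟩ := nonempty_LBaseChange_iso_of_projRes (algebraMap R (Localization.Away f))
    M P 0 hPb hPp eP
  obtain ⟨eL₂⟩ := nonempty_LBaseChange_iso_of_projRes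
    (Ideal.Quotient.mk (Ideal.span ({f} : Set R))) M P 0 hPb hPp eP
  obtain ⟨E₁, c₁, hE₁c, hE₁p, ⟨eE₁⟩, hE₁⟩ :=
    torVan_of_hasTorAmplitudeIn (hasTorAmplitudeIn_inD_of_flat (B := Localization.Away f) N₁)
  obtain ⟨E₂, c₂, hE₂c, hE₂p, ⟨eE₂⟩, hE₂⟩ :=
    torVan_of_hasTorAmplitudeIn
      (hasTorAmplitudeIn_inD_of_flat (B := R ⧸ Ideal.span ({f} : Set R)) N₂)
  have hv := torVanCx_of_away_and_quotient f P hPb hPp E₁ c₁ hE₁c hE₁p
    (eL₁.symm ≪≫ i₁ ≪≫ eE₁.symm) hE₁ E₂ c₂ hE₂c hE₂p (eL₂.symm ≪≫ i₂ ≪≫ eE₂.symm) hE₂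
  exact exists_flat_of_hasTorAmplitudeIn_zero M
    (hasTorAmplitudeIn_of_torVan ⟨P, 0, hPb, hPp, ⟨eP⟩, hv⟩)

end Groth.Agent.Helper11.Glue
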