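/-
Good stratifications of Noetherian spaces (helper11), Stacks 09Y5-style.
-/
import Mathlib.Topology.NoetherianSpace
import Mathlib.Topology.LocallyClosed

set_option autoImplicit false

namespace Groth.Agent.Helper11

open Set TopologicalSpace

universe u

theorem exists_good_stratification_closeds {X : Type u} [TopologicalSpace X] [NoetherianSpace X]
    (Y : Closeds X) : ∀ 𝒵 : Finset (Set X), (∀ Z ∈ 𝒵, IsClosed Z) →
    ∃ 𝒮 : Finset (Set X), (∀ S ∈ 𝒮, IsLocallyClosed S) ∧ (⋃ S ∈ 𝒮, S) = (Y : Set X) ∧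
      (∀ S ∈ 𝒮, ∀ S' ∈ 𝒮, S ≠ S' → Disjoint S S') ∧
      (∀ S ∈ 𝒮, ∀ S' ∈ 𝒮, (S ∩ closure S').Nonempty → S ⊆ closure S') ∧
      (∀ S ∈ 𝒮, ∀ Z ∈ 𝒵, (S ∩ Z).Nonempty → S ⊆ Z) := by
  classical
  apply wellFounded_lt.induction Y; clear Y
  intro Y IH 𝒵 h𝒵
  rcases (Y : Set X).eq_empty_or_nonempty with hY | hY
  · refine ⟨∅, by simp, by simp [hY], by simp, by simp, by simp⟩
  -- the type of a point
  let τ : X → Finset (Set X) := fun x => 𝒵.filter fun Z => x ∈ Z
  obtain ⟨c, ⟨x0, hx0Y, rfl⟩, hmin⟩ :=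
    Nat.lt_wfRel.wf.has_min ((fun x => (τ x).card) '' (Y : Set X)) (hY.image _)
  have hmin' : ∀ y ∈ (Y : Set X), τ y ⊆ τ x0 → τ y = τ x0 := by
    intro y hy hsub
    refine Finset.eq_of_subset_of_card_le hsub ?_
    exact not_lt.mp (hmin _ ⟨y, hy, rfl⟩)
  -- the open part
  let O : Set X := ⋃ Z ∈ 𝒵.filter (fun Z => x0 ∉ Z), Z
  have hO : IsClosed O := isClosed_biUnion_finset fun Z hZ => h𝒵 Z (Finset.mem_filter.mp hZ).1
  have hx0O : x0 ∉ O := by
    simp only [O, mem_iUnion, Finset.mem_filter, exists_prop, not_exists, not_and]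
    intro Z hZ hx
    exact hZ.2 hx
  let U : Set X := Oᶜ ∩ (Y : Set X)
  have hUlc : IsLocallyClosed U := ⟨Oᶜ, Y, hO.isOpen_compl, Y.isClosed, rfl⟩
  have hUτ : ∀ y ∈ U, τ y = τ x0 := by
    intro y hy
    refine hmin' y hy.2 ?_
    intro Z hZ
    simp only [τ, Finset.mem_filter] at hZ ⊢
    refine ⟨hZ.1, ?_⟩
    by_contra hx0
    apply hy.1
    simp only [O, mem_iUnion, Finset.mem_filter, exists_prop]
    exact ⟨Z, ⟨hZ.1, hx0⟩, hZ.2⟩
  have hUsat : ∀ Z ∈ 𝒵, (U ∩ Z).Nonempty → U ⊆ Z := by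
    rintro Z hZ ⟨x, hxU, hxZ⟩ y hy
    have h1 : Z ∈ τ x := Finset.mem_filter.mpr ⟨hZ, hxZ⟩
    rw [hUτ x hxU, ← hUτ y hy] at h1
    exact (Finset.mem_filter.mp h1).2
  let Y' : Closeds X := ⟨(Y : Set X) ∩ O, Y.isClosed.inter hO⟩
  have hY'lt : Y' < Y := by
    refine lt_of_le_of_ne ?_ ?_
    · intro x hx
      exact hx.1
    · intro h
      have : x0 ∈ (Y' : Set X) := by rw [h]; exact hx0Y
      exact hx0O this.2
  have hUY' : U ∪ (Y' : Set X) = (Y : Set X) := by
    ext x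
    simp only [U, Y', Closeds.coe_mk, mem_union, mem_inter_iff, mem_compl_iff]
    tauto
  have hUY'd : ∀ x ∈ U, x ∉ (Y' : Set X) := by
    intro x hx hx'
    exact hx.1 hx'.2
  obtain ⟨𝒮', h1, h2, h3, h4, h5⟩ := IH Y' hY'lt (insert (closure U) 𝒵) (by
    intro Z hZ
    rcases Finset.mem_insert.mp hZ with rfl | hZ
    · exact isClosed_closure
    · exact h𝒵 Z hZ)
  have hsubY' : ∀ S ∈ 𝒮', S ⊆ (Y' : Set X) := by
    intro S hS
    rw [← h2]
    exact subset_biUnion_of_mem (u := fun S => S) hS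
  refine ⟨insert U 𝒮', ?_, ?_, ?_, ?_, ?_⟩
  · intro S hS
    rcases Finset.mem_insert.mp hS with rfl | hS
    · exact hUlc
    · exact h1 S hS
  · rw [Finset.set_biUnion_insert, h2, hUY']
  · intro S hS S' hS' hne
    rcases Finset.mem_insert.mp hS with rfl | hS <;> rcases Finset.mem_insert.mp hS' with rfl | hS'
    · exact absurd rfl hne
    · rw [Set.disjoint_left]
      intro x hx hx'
      exact hUY'd x hx (hsubY' S' hS' hx')
    · rw [Set.disjoint_left]
      intro x hx hx'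
      exact hUY'd x hx' (hsubY' S hS hx)
    · exact h3 S hS S' hS' hne
  · intro S hS S' hS'
    rcases Finset.mem_insert.mp hS with rfl | hS <;> rcases Finset.mem_insert.mp hS' with rfl | hS'
    · intro _
      exact subset_closure
    · rintro ⟨x, hx, hx'⟩
      exact absurd (closure_minimal (hsubY' S' hS') Y'.isClosed hx') (hUY'd x hx)
    · intro hne
      exact h5 S hS (closure U) (Finset.mem_insert_self _ _) hne
    · exact h4 S hS S' hS'
  · intro S hS Z hZ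
    rcases Finset.mem_insert.mp hS with rfl | hS
    · exact hUsat Z hZ
    · exact h5 S hS Z (Finset.mem_insert_of_mem hZ)

end Groth.Agent.Helper11
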