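import Groth.Prelude.Def_Grpd

set_option autoImplicit false
universe u
open CategoryTheory CategoryTheory.Limits AlgebraicGeometry

namespace Groth.Agent.Helper11.GrpdLib

variable {S : Scheme.{u}} (G : Grpd.GroupoidScheme S)

open Classical in
/-- composition of `T`-points (junk value when not composable) -/
noncomputable def m {T : Scheme.{u}} (α β : T ⟶ G.R) : T ⟶ G.R :=
  if h : α ≫ G.s = β ≫ G.t then pullback.lift α β h ≫ G.c else α

variable {G}

theorem m_eq {T : Scheme.{u}} {α β : T ⟶ G.R} (h : α ≫ G.s = β ≫ G.t) :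
    m G α β = pullback.lift α β h ≫ G.c := dif_pos h

theorem m_s {T : Scheme.{u}} {α β : T ⟶ G.R} (h : α ≫ G.s = β ≫ G.t) :
    m G α β ≫ G.s = β ≫ G.s := by
  rw [m_eq h]; exact G.comp_s α β h

theorem m_t {T : Scheme.{u}} {α β : T ⟶ G.R} (h : α ≫ G.s = β ≫ G.t) :
    m G α β ≫ G.t = α ≫ G.t := by
  rw [m_eq h]; exact G.comp_t α β h

theorem m_assoc {T : Scheme.{u}} {α β γ : T ⟶ G.R} (h₁ : α ≫ G.s = β ≫ G.t)
    (h₂ : β ≫ G.s = γ ≫ G.t) : m G (m G α β) γ = m G α (m G β γ) := by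
  have h3 : m G α β ≫ G.s = γ ≫ G.t := (m_s h₁).trans h₂
  have h4 : α ≫ G.s = m G β γ ≫ G.t := h₁.trans (m_t h₂).symm
  rw [m_eq h3, m_eq h4]
  have e1 := m_eq h₁
  have e2 := m_eq h₂
  have key := G.assoc α β γ h₁ h₂
  convert key using 2
  · congr 1
  · congr 1

theorem m_e {T : Scheme.{u}} (α : T ⟶ G.R) : m G α (α ≫ G.s ≫ G.e) = α := by
  have h : α ≫ G.s = (α ≫ G.s ≫ G.e) ≫ G.t := by
    rw [Category.assoc, Category.assoc, G.e_t, Category.comp_id]
  rw [m_eq h]; exact G.comp_e α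

theorem e_m {T : Scheme.{u}} (α : T ⟶ G.R) : m G (α ≫ G.t ≫ G.e) α = α := by
  have h : (α ≫ G.t ≫ G.e) ≫ G.s = α ≫ G.t := by
    rw [Category.assoc, Category.assoc, G.e_s, Category.comp_id]
  rw [m_eq h]; exact G.e_comp α

theorem m_i {T : Scheme.{u}} (α : T ⟶ G.R) : m G α (α ≫ G.i) = α ≫ G.t ≫ G.e := by
  have h : α ≫ G.s = (α ≫ G.i) ≫ G.t := by rw [Category.assoc, G.i_t]
  rw [m_eq h]; exact G.comp_i α

theorem i_m {T : Scheme.{u}} (α : T ⟶ G.R) : m G (α ≫ G.i) α = α ≫ G.s ≫ G.e := by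
  have h : (α ≫ G.i) ≫ G.s = α ≫ G.t := by rw [Category.assoc, G.i_s]
  rw [m_eq h]; exact G.i_comp α

theorem comp_m {T T' : Scheme.{u}} (v : T' ⟶ T) {α β : T ⟶ G.R} (h : α ≫ G.s = β ≫ G.t) :
    v ≫ m G α β = m G (v ≫ α) (v ≫ β) := by
  have h' : (v ≫ α) ≫ G.s = (v ≫ β) ≫ G.t := by rw [Category.assoc, Category.assoc, h]
  rw [m_eq h, m_eq h', ← Category.assoc]
  congr 1
  apply pullback.hom_ext
  · rw [Category.assoc, pullback.lift_fst, pullback.lift_fst]
  · rw [Category.assoc, pullback.lift_snd, pullback.lift_snd]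

theorem m_fst_snd : m G (pullback.fst G.s G.t) (pullback.snd G.s G.t) = G.c := by
  rw [m_eq pullback.condition]
  have : pullback.lift (pullback.fst G.s G.t) (pullback.snd G.s G.t) pullback.condition =
      𝟙 _ := by apply pullback.hom_ext <;> simp
  rw [this, Category.id_comp]

end Groth.Agent.Helper11.GrpdLib
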