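import Groth.Agent.Lib.Helper11.RGam3

/-!
# `RΓ_I` over a Noetherian ring: torsion objects, composition, adjunction (helper11)
-/

set_option autoImplicit false

open CategoryTheory CategoryTheory.Limits DerivedCategory

universe u

attribute [local instance] HasDerivedCategory.standard

namespace Groth.Agent.Helper11.RGam

open Groth.Agent.Helper11.DCP Groth.Agent.Helper11.DC

variable {A : Type u} [CommRing A] (I : Ideal A)

/-- the unit of `RΓ_I` -/
noncomputable abbrev unitα [DRing.HasRgammaI I] : DRing.gammaIKh I ⟶ Qh ⋙ DRing.RgammaI I :=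
  (DRing.gammaIKh I).totalRightDerivedUnit Qh
    (HomotopyCategory.quasiIso (ModuleCat.{u} A) (ComplexShape.up ℤ))

/-- `quo ⋙ Γ.mapHomotopyCategory ≅ Γ.mapHomologicalComplex ⋙ quo` -/
noncomputable abbrev gamFac :
    HomotopyCategory.quotient (ModuleCat.{u} A) (ComplexShape.up ℤ) ⋙
      (DRing.gammaI I).mapHomotopyCategory (ComplexShape.up ℤ) ≅
    (DRing.gammaI I).mapHomologicalComplex (ComplexShape.up ℤ) ⋙
      HomotopyCategory.quotient (ModuleCat.{u} A) (ComplexShape.up ℤ) :=
  (DRing.gammaI I).mapHomotopyCategoryFactors (ComplexShape.up ℤ)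

theorem unit_comp_ε [DRing.HasRgammaI I]
    (X : HomotopyCategory (ModuleCat.{u} A) (ComplexShape.up ℤ)) :
    (unitα I).app X ≫ (DRing.RgammaIε I).app (Qh.obj X) = (DRing.gammaIτ I).app X := by
  have h := Functor.rightDerived_fac_app (DRing.RgammaI I) (unitα I)
    (HomotopyCategory.quasiIso (ModuleCat.{u} A) (ComplexShape.up ℤ)) (𝟭 (Dual.D A))
    (DRing.gammaIτ I ≫ (Functor.rightUnitor _).inv) X
  have h2 : (DRing.gammaIτ I ≫ (Functor.rightUnitor _).inv).app X = (DRing.gammaIτ I).app X := by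
    rw [NatTrans.comp_app, Functor.rightUnitor_inv_app]
    exact Category.comp_id _
  rw [h2] at h
  exact h

theorem gammaIτ_app_quo (C : DRing.Cx A) :
    (DRing.gammaIτ I).app ((HomotopyCategory.quotient (ModuleCat.{u} A) (ComplexShape.up ℤ)).obj C) =
      Qh.map ((gamFac I).hom.app C) ≫
        Qh.map ((HomotopyCategory.quotient (ModuleCat.{u} A) (ComplexShape.up ℤ)).map
          (gamι I C)) := by
  show (DRing.gammaIτ0 I).app C = _
  simp [DRing.gammaIτ0, gamι]

theorem isIso_gammaIKh_map {L L' : DRing.Cx A} (r : L ⟶ L')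
    (h : IsIso (Q.map (((DRing.gammaI I).mapHomologicalComplex (ComplexShape.up ℤ)).map r))) :
    IsIso ((DRing.gammaIKh I).map
      ((HomotopyCategory.quotient (ModuleCat.{u} A) (ComplexShape.up ℤ)).map r)) := by
  have e := Functor.isoWhiskerRight (gamFac I) (Qh (C := ModuleCat.{u} A))
  exact (NatIso.isIso_map_iff e r).mpr h

theorem exists_kInj_iso (K : Dual.D A) :
    ∃ (J : DRing.Cx A) (_ : K ≅ Q.obj J), J.IsKInjective ∧ ∀ n, Injective (J.X n) := by
  obtain ⟨J, r, hJ, hr, _, hinj⟩ :=
    Groth.Agent.Helper29.KInjE.exists_kInjective_resolution (Q.objPreimage K)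
  haveI : IsIso (Q.map r) := by
    rw [isIso_Q_map_iff_quasiIso]
    exact hr
  exact ⟨J, (Q.objObjPreimageIso K).symm ≪≫ asIso (Q.map r), hJ, hinj⟩

theorem isPowerTorsion_of_iso {M N : ModuleCat.{u} A} (e : M ≅ N)
    (h : LocCoh.IsPowerTorsion I N) : LocCoh.IsPowerTorsion I M :=
  isPowerTorsion_of_injective I e.hom.hom ((ModuleCat.mono_iff_injective _).mp inferInstance) h

/-- the cohomology of `RΓ_I K` is `I`-power torsion -/
theorem isPowerTorsion_HD_RgammaI [DRing.HasRgammaI I] (K : Dual.D A) (i : ℤ) :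
    LocCoh.IsPowerTorsion I (Dual.HD A ((DRing.RgammaI I).obj K) i) := by
  obtain ⟨J, e, hJ, _⟩ := exists_kInj_iso K
  haveI := hJ
  let e2 : (DRing.RgammaI I).obj K ≅ Q.obj (gamCx I J) :=
    (DRing.RgammaI I).mapIso e ≪≫ RgammaIIso I J
  let ψ : (homologyFunctor (ModuleCat.{u} A) i).obj ((DRing.RgammaI I).obj K) ≅
      (gamCx I J).homology i :=
    (homologyFunctor (ModuleCat.{u} A) i).mapIso e2 ≪≫
      (homologyFunctorFactors (ModuleCat.{u} A) i).app (gamCx I J)
  exact isPowerTorsion_of_iso I ψ (isPowerTorsion_homology_gamCx I J i)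

section Noeth

variable [IsNoetherianRing A]

/-- over a Noetherian ring the unit of `RΓ_I` is an isomorphism on complexes of injectives -/
theorem isIso_unit_of_injective [DRing.HasRgammaI I] (L : DRing.Cx A)
    (hL : ∀ n, Injective (L.X n)) :
    IsIso ((unitα I).app
      ((HomotopyCategory.quotient (ModuleCat.{u} A) (ComplexShape.up ℤ)).obj L)) := by
  obtain ⟨J', r, hJ', hr, _, hinj⟩ :=
    Groth.Agent.Helper29.KInjE.exists_kInjective_resolution L
  haveI := hJ'
  haveI := hr
  have nat := (unitα I).naturality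
    ((HomotopyCategory.quotient (ModuleCat.{u} A) (ComplexShape.up ℤ)).map r)
  haveI h1 : IsIso ((unitα I).app
      ((HomotopyCategory.quotient (ModuleCat.{u} A) (ComplexShape.up ℤ)).obj J')) :=
    Groth.Agent.Helper11.KI.isIso_unit (DRing.gammaIKh I) (DRing.RgammaI I) (unitα I) J'
  haveI h2 : IsIso ((Qh ⋙ DRing.RgammaI I).map
      ((HomotopyCategory.quotient (ModuleCat.{u} A) (ComplexShape.up ℤ)).map r)) := by
    dsimp only [Functor.comp_map]
    haveI : IsIso (Qh.map
        ((HomotopyCategory.quotient (ModuleCat.{u} A) (ComplexShape.up ℤ)).map r)) :=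
      (inferInstance : IsIso (Q.map r))
    infer_instance
  haveI h3 : IsIso ((DRing.gammaIKh I).map
      ((HomotopyCategory.quotient (ModuleCat.{u} A) (ComplexShape.up ℤ)).map r)) := by
    haveI := quasiIso_map_gam I r hL hinj
    exact isIso_gammaIKh_map I r inferInstance
  have h4 : (unitα I).app
      ((HomotopyCategory.quotient (ModuleCat.{u} A) (ComplexShape.up ℤ)).obj L) =
      (DRing.gammaIKh I).map
        ((HomotopyCategory.quotient (ModuleCat.{u} A) (ComplexShape.up ℤ)).map r) ≫
      (unitα I).app ((HomotopyCategory.quotient (ModuleCat.{u} A) (ComplexShape.up ℤ)).obj J') ≫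
      inv ((Qh ⋙ DRing.RgammaI I).map
        ((HomotopyCategory.quotient (ModuleCat.{u} A) (ComplexShape.up ℤ)).map r)) := by
    rw [← Category.assoc, nat, Category.assoc, IsIso.hom_inv_id, Category.comp_id]
  rw [h4]
  infer_instance

/-- `RΓ_I` of a complex of injectives is computed termwise (Noetherian ring) -/
noncomputable def RgammaIIsoOfInjective [DRing.HasRgammaI I] (L : DRing.Cx A)
    (hL : ∀ n, Injective (L.X n)) :
    (DRing.RgammaI I).obj (Q.obj L) ≅ Q.obj (gamCx I L) := by
  haveI := isIso_unit_of_injective I L hL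
  exact (DRing.RgammaI I).mapIso ((quotientCompQhIso (ModuleCat.{u} A)).symm.app L) ≪≫
    (asIso ((unitα I).app
      ((HomotopyCategory.quotient (ModuleCat.{u} A) (ComplexShape.up ℤ)).obj L))).symm ≪≫
    Qh.mapIso ((gamFac I).app L) ≪≫
    (quotientCompQhIso (ModuleCat.{u} A)).app (gamCx I L)

/-- **S1813**: `RΓ_I K → K` is an isomorphism when the cohomology of `K` is `I`-power torsion -/
theorem isIso_ε_of_isPowerTorsion [DRing.HasRgammaI I] (K : Dual.D A)
    (hK : ∀ i : ℤ, LocCoh.IsPowerTorsion I (Dual.HD A K i)) :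
    IsIso ((DRing.RgammaIε I).app K) := by
  obtain ⟨J, e, hJ, hinj⟩ := exists_kInj_iso K
  haveI := hJ
  rw [NatTrans.isIso_app_iff_of_iso (DRing.RgammaIε I) e]
  have hJt : ∀ n, LocCoh.IsPowerTorsion I (J.homology n) := fun n => by
    let ψ : J.homology n ≅ (homologyFunctor (ModuleCat.{u} A) n).obj K :=
      ((homologyFunctorFactors (ModuleCat.{u} A) n).app J).symm ≪≫
        (homologyFunctor (ModuleCat.{u} A) n).mapIso e.symm
    exact isPowerTorsion_of_iso I ψ (hK n)
  haveI q := quasiIso_gamι I J hinj hJt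
  have h := unit_comp_ε I
    ((HomotopyCategory.quotient (ModuleCat.{u} A) (ComplexShape.up ℤ)).obj J)
  rw [gammaIτ_app_quo] at h
  have i1 : IsIso ((unitα I).app
      ((HomotopyCategory.quotient (ModuleCat.{u} A) (ComplexShape.up ℤ)).obj J)) :=
    Groth.Agent.Helper11.KI.isIso_unit (DRing.gammaIKh I) (DRing.RgammaI I) (unitα I) J
  haveI i2 : IsIso (Qh.map
      ((HomotopyCategory.quotient (ModuleCat.{u} A) (ComplexShape.up ℤ)).map (gamι I J))) :=
    (inferInstance : IsIso (Q.map (gamι I J)))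
  have i3 : IsIso (Qh.map ((gamFac I).hom.app J) ≫ Qh.map
      ((HomotopyCategory.quotient (ModuleCat.{u} A) (ComplexShape.up ℤ)).map (gamι I J))) :=
    inferInstance
  exact @IsIso.of_isIso_fac_left _ _ _ _ _ _ _ _ i1 i3 h

end Noeth

end Groth.Agent.Helper11.RGam
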