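import Groth.Agent.Lib.Helper8.HDI1
import Groth.Agent.Lib.Helper8.BiDual6
import Groth.Agent.Lib.Helper11.RGam4
import Groth.Agent.Lib.Helper3.KF2
import Mathlib.Algebra.Homology.DerivedCategory.Linear

/-!
# `H^q(RΓ_I K)` is the colimit of `Hom(A/I^n, K[q])` (helper11)

Chain maps from `A/I^n` placed in degree `q` to a complex `J` are the cycles of `J^q` killed by
`I^n`; for `J` K-injective this computes `Hom_{D(A)}(A/I^n[-q], J)`.
-/

set_option autoImplicit false
set_option linter.unusedSectionVars false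
set_option linter.unusedVariables false
set_option linter.style.haveILetI false

open CategoryTheory CategoryTheory.Limits CochainComplex HomComplex DerivedCategory Opposite

universe u

attribute [local instance] HasDerivedCategory.standard

namespace Groth.Agent.Helper11.HDIeq

open Groth.Agent.Helper8.HDI Groth.Agent.Helper8.FLD Groth.Agent.Helper8.BiDual
  Groth.Agent.Helper11.RGam

variable {A : Type u} [CommRing A] (I : Ideal A) (J : DRing.Cx A) (q : ℤ)

/-- the module `A/I^n` -/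
abbrev Qn (n : ℕ) : ModuleCat.{u} A := ModuleCat.of A (A ⧸ I ^ n)

/-- a module placed in degree `q` -/
noncomputable abbrev sq (M : ModuleCat.{u} A) : DRing.Cx A :=
  (HomologicalComplex.single (ModuleCat.{u} A) (ComplexShape.up ℤ) q).obj M

/-- the linear map `A/I^n → J^p` attached to an element killed by `I^n` -/
noncomputable def phi (n : ℕ) (p : ℤ) (x : J.X p) (hx : ∀ a ∈ I ^ n, a • x = 0) :
    (A ⧸ I ^ n) →ₗ[A] J.X p :=
  Submodule.liftQ (I ^ n) (LinearMap.toSpanSingleton A (J.X p) x) (fun a ha => by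
    rw [LinearMap.mem_ker, LinearMap.toSpanSingleton_apply]
    exact hx a ha)

theorem phi_mk (n : ℕ) (p : ℤ) (x : J.X p) (hx : ∀ a ∈ I ^ n, a • x = 0) (a : A) :
    phi I J n p x hx (Ideal.Quotient.mk (I ^ n) a) = a • x := rfl

theorem phi_one (n : ℕ) (p : ℤ) (x : J.X p) (hx : ∀ a ∈ I ^ n, a • x = 0) :
    phi I J n p x hx (1 : A ⧸ I ^ n) = x := by
  rw [← map_one (Ideal.Quotient.mk (I ^ n)), phi_mk, one_smul]

theorem d_phi (n : ℕ) (p p' : ℤ) (x : J.X p) (hx : ∀ a ∈ I ^ n, a • x = 0)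
    (hx' : ∀ a ∈ I ^ n, a • (J.d p p').hom x = 0) :
    ModuleCat.ofHom (phi I J n p x hx) ≫ J.d p p' =
      ModuleCat.ofHom (phi I J n p' ((J.d p p').hom x) hx') := by
  apply ModuleCat.hom_ext
  apply LinearMap.ext
  intro y
  obtain ⟨a, rfl⟩ := Ideal.Quotient.mk_surjective y
  show (J.d p p').hom (a • x) = a • (J.d p p').hom x
  rw [map_smul]

/-- the chain map `A/I^n[-q] ⟶ J` attached to a cycle killed by `I^n` -/
noncomputable def sigma (n : ℕ) (x : J.X q) (hx : ∀ a ∈ I ^ n, a • x = 0)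
    (hd : (J.d q (q + 1)).hom x = 0) : sq q (Qn I n) ⟶ J :=
  HomologicalComplex.mkHomFromSingle (ModuleCat.ofHom (phi I J n q x hx)) (by
    intro k hk
    obtain rfl : q + 1 = k := hk
    apply ModuleCat.hom_ext
    apply LinearMap.ext
    intro y
    obtain ⟨a, rfl⟩ := Ideal.Quotient.mk_surjective y
    show (J.d q (q + 1)).hom (a • x) = 0
    rw [map_smul, hd, smul_zero])

theorem sigma_f (n : ℕ) (x : J.X q) (hx : ∀ a ∈ I ^ n, a • x = 0)
    (hd : (J.d q (q + 1)).hom x = 0) :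
    (sigma I J q n x hx hd).f q =
      (HomologicalComplex.singleObjXSelf (ComplexShape.up ℤ) q (Qn I n)).hom ≫
        ModuleCat.ofHom (phi I J n q x hx) :=
  HomologicalComplex.mkHomFromSingle_f _ _

/-- every chain map `A/I^n[-q] ⟶ J` comes from a cycle killed by `I^n` -/
theorem exists_eq_sigma (n : ℕ) (s : sq q (Qn I n) ⟶ J) :
    ∃ (x : J.X q) (hx : ∀ a ∈ I ^ n, a • x = 0) (hd : (J.d q (q + 1)).hom x = 0),
      s = sigma I J q n x hx hd := by
  let ev : Qn I n ⟶ J.X q :=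
    (HomologicalComplex.singleObjXSelf (ComplexShape.up ℤ) q (Qn I n)).inv ≫ s.f q
  let x : J.X q := ev.hom (1 : A ⧸ I ^ n)
  have hev : ∀ a : A, ev.hom (Ideal.Quotient.mk (I ^ n) a) = a • x := fun a => by
    have h1 : (Ideal.Quotient.mk (I ^ n) a : A ⧸ I ^ n) = a • (1 : A ⧸ I ^ n) := by
      rw [Algebra.smul_def, mul_one]
      rfl
    rw [h1, map_smul]
  have hx : ∀ a ∈ I ^ n, a • x = 0 := fun a ha => by
    rw [← hev, Ideal.Quotient.eq_zero_iff_mem.mpr ha, map_zero]
  have hcomm : s.f q ≫ J.d q (q + 1) = 0 := by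
    rw [s.comm q (q + 1), HomologicalComplex.single_obj_d, zero_comp]
  have hd : (J.d q (q + 1)).hom x = 0 := by
    have h2 : ev ≫ J.d q (q + 1) = 0 := by
      rw [Category.assoc, hcomm, comp_zero]
    exact congrArg (fun φ => φ.hom (1 : A ⧸ I ^ n)) h2
  refine ⟨x, hx, hd, ?_⟩
  apply HomologicalComplex.from_single_hom_ext
  rw [sigma_f, ← cancel_epi (HomologicalComplex.singleObjXSelf (ComplexShape.up ℤ) q (Qn I n)).inv,
    Iso.inv_hom_id_assoc]
  apply ModuleCat.hom_ext
  apply LinearMap.ext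
  intro y
  obtain ⟨a, rfl⟩ := Ideal.Quotient.mk_surjective y
  exact hev a

/-- a null-homotopy of `sigma x` exhibits `x` as a boundary of an element killed by `I^n` -/
theorem exists_of_homotopy (n : ℕ) (p : ℤ) (hp : p + 1 = q) (x : J.X q)
    (hx : ∀ a ∈ I ^ n, a • x = 0) (hd : (J.d q (q + 1)).hom x = 0)
    (h : Homotopy (sigma I J q n x hx hd) 0) :
    ∃ y : J.X p, (∀ a ∈ I ^ n, a • y = 0) ∧ (J.d p q).hom y = x := by
  have hc := h.comm q
  rw [dNext_eq h.hom (show (ComplexShape.up ℤ).Rel q (q + 1) from rfl),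
    prevD_eq h.hom (show (ComplexShape.up ℤ).Rel p q from hp), HomologicalComplex.single_obj_d,
    zero_comp, zero_add, HomologicalComplex.zero_f, add_zero, sigma_f] at hc
  let hh : Qn I n ⟶ J.X p :=
    (HomologicalComplex.singleObjXSelf (ComplexShape.up ℤ) q (Qn I n)).inv ≫ h.hom q p
  have hc' : ModuleCat.ofHom (phi I J n q x hx) = hh ≫ J.d p q := by
    rw [Category.assoc, ← hc, Iso.inv_hom_id_assoc]
  refine ⟨hh.hom (1 : A ⧸ I ^ n), fun a ha => ?_, ?_⟩
  · have h1 : a • (1 : A ⧸ I ^ n) = 0 := by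
      rw [Algebra.smul_def, mul_one]
      exact Ideal.Quotient.eq_zero_iff_mem.mpr ha
    rw [← map_smul, h1, map_zero]
  · have h2 := congrArg (fun φ => φ.hom (1 : A ⧸ I ^ n)) hc'
    have h3 : phi I J n q x hx (1 : A ⧸ I ^ n) = (J.d p q).hom (hh.hom (1 : A ⧸ I ^ n)) := h2
    rw [← h3, phi_one]

/-- `sigma` of a boundary of an element killed by `I^n` is zero in the derived category -/
theorem Q_map_sigma_boundary (n : ℕ) (p : ℤ) (hp : p + 1 = q) (y : J.X p)
    (hy : ∀ a ∈ I ^ n, a • y = 0) (hx : ∀ a ∈ I ^ n, a • (J.d p q).hom y = 0)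
    (hd : (J.d q (q + 1)).hom ((J.d p q).hom y) = 0) :
    Q.map (sigma I J q n ((J.d p q).hom y) hx hd) = 0 := by
  let fy : (sq q (Qn I n)).X q ⟶ J.X p :=
    (HomologicalComplex.singleObjXSelf (ComplexShape.up ℤ) q (Qn I n)).hom ≫
      ModuleCat.ofHom (phi I J n p y hy)
  let z : Cochain (sq q (Qn I n)) J (-1) := Cochain.single fy (-1)
  have hz : Cochain.ofHom (sigma I J q n ((J.d p q).hom y) hx hd) =
      δ (-1) 0 z + Cochain.ofHom (0 : sq q (Qn I n) ⟶ J) := by
    rw [Cochain.ofHom_zero, add_zero, Cochain.δ_single fy (-1) 0 (by norm_num) (q - 1) q (by omega) hp,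
      HomologicalComplex.single_obj_d, zero_comp, Cochain.single_zero, smul_zero, add_zero]
    refine Cochain.ext₀ _ _ (fun i => ?_)
    by_cases hi : i = q
    · subst hi
      rw [Cochain.ofHom_v, Cochain.single_v, sigma_f, Category.assoc, d_phi]
    · exact (HomologicalComplex.isZero_single_obj_X (ComplexShape.up ℤ) q (Qn I n) i hi).eq_of_src
        _ _
  exact (DerivedCategory.Q_map_eq_of_homotopy _
    ((Cochain.equivHomotopy _ _).symm ⟨z, hz⟩)).trans (Functor.map_zero Q _ _)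

theorem sigma_tr {n m : ℕ} (h : n ≤ m) (x : J.X q) (hx : ∀ a ∈ I ^ n, a • x = 0)
    (hx' : ∀ a ∈ I ^ m, a • x = 0) (hd : (J.d q (q + 1)).hom x = 0) :
    (HomologicalComplex.single (ModuleCat.{u} A) (ComplexShape.up ℤ) q).map
        (ModuleCat.ofHom (tr I h)) ≫ sigma I J q n x hx hd = sigma I J q m x hx' hd := by
  apply HomologicalComplex.from_single_hom_ext
  rw [HomologicalComplex.comp_f, HomologicalComplex.single_map_f_self, sigma_f, sigma_f,
    Category.assoc, Category.assoc, Iso.inv_hom_id_assoc]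
  congr 1
  apply ModuleCat.hom_ext
  apply LinearMap.ext
  intro y
  obtain ⟨a, rfl⟩ := Ideal.Quotient.mk_surjective y
  rfl

theorem sigma_add (n : ℕ) (x y : J.X q) (hx : ∀ a ∈ I ^ n, a • x = 0)
    (hy : ∀ a ∈ I ^ n, a • y = 0) (hxy : ∀ a ∈ I ^ n, a • (x + y) = 0)
    (hdx : (J.d q (q + 1)).hom x = 0) (hdy : (J.d q (q + 1)).hom y = 0)
    (hdxy : (J.d q (q + 1)).hom (x + y) = 0) :
    sigma I J q n (x + y) hxy hdxy = sigma I J q n x hx hdx + sigma I J q n y hy hdy := by
  apply HomologicalComplex.from_single_hom_ext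
  rw [HomologicalComplex.add_f_apply, sigma_f, sigma_f, sigma_f, ← Preadditive.comp_add]
  congr 1
  apply ModuleCat.hom_ext
  apply LinearMap.ext
  intro z
  obtain ⟨a, rfl⟩ := Ideal.Quotient.mk_surjective z
  exact smul_add a x y

theorem sigma_smul (n : ℕ) (c : A) (x : J.X q) (hx : ∀ a ∈ I ^ n, a • x = 0)
    (hcx : ∀ a ∈ I ^ n, a • (c • x) = 0)
    (hdx : (J.d q (q + 1)).hom x = 0) (hdcx : (J.d q (q + 1)).hom (c • x) = 0) :
    sigma I J q n (c • x) hcx hdcx = c • sigma I J q n x hx hdx := by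
  apply HomologicalComplex.from_single_hom_ext
  rw [HomologicalComplex.smul_f_apply, sigma_f, sigma_f, ← Linear.comp_smul]
  congr 1
  apply ModuleCat.hom_ext
  apply LinearMap.ext
  intro z
  obtain ⟨a, rfl⟩ := Ideal.Quotient.mk_surjective z
  exact smul_comm a c x

end Groth.Agent.Helper11.HDIeq
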