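import Mathlib
import Groth.Prelude.Def_StabCat

/-!
# A nonzero morphism between filtered objects induces a nonzero morphism between two factors
(helper11, for helper22)
-/

set_option autoImplicit false

open CategoryTheory CategoryTheory.Limits

universe v u

namespace Groth.Agent.Helper11.HNFactor

/-- a predicate on `Fin (n + 1)` failing at `0` and holding at the last index jumps somewhere -/
theorem exists_step {n : ℕ} (P : Fin (n + 1) → Prop) (h0 : ¬ P 0) (hl : P (Fin.last n)) :
    ∃ i : Fin n, ¬ P i.castSucc ∧ P i.succ := by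
  by_contra hcon
  push Not at hcon
  have key : ∀ a : Fin (n + 1), ¬ P a := by
    intro a
    induction a using Fin.induction with
    | zero => exact h0
    | succ i ih => exact hcon i ih
  exact key _ hl

theorem exists_factor_map_ne_zero {C : Type u} [Category.{v} C] [Abelian C] {F G : C}
    (s : LTSeries (Subobject F)) (t : LTSeries (Subobject G)) (hs0 : s.head = ⊥)
    (hs1 : s.last = ⊤) (ht0 : t.head = ⊥) (ht1 : t.last = ⊤) (φ : F ⟶ G) (hφ : φ ≠ 0) :
    ∃ (i : Fin s.length) (j : Fin t.length) (ψ : StabCat.factor s i ⟶ StabCat.factor t j),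
      ψ ≠ 0 := by
  -- step 1: the first term of `s` on which `φ` does not vanish
  have hP0 : ¬ ((s 0).arrow ≫ φ ≠ 0) := by
    intro h
    apply h
    have h0 : s 0 = ⊥ := hs0
    rw [h0, Subobject.bot_arrow, zero_comp]
  have hPl : (s (Fin.last s.length)).arrow ≫ φ ≠ 0 := by
    intro h
    have h1 : s (Fin.last s.length) = ⊤ := hs1
    rw [h1] at h
    apply hφ
    exact (cancel_epi (⊤ : Subobject F).arrow).mp (by rw [h, comp_zero])
  obtain ⟨i, hi0, hi1⟩ :=
    exists_step (fun a : Fin (s.length + 1) => (s a).arrow ≫ φ ≠ 0) hP0 hPl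
  simp only [ne_eq, not_not] at hi0
  -- the induced morphism out of the factor
  have hle : s i.castSucc ≤ s i.succ := le_of_lt (s.step i)
  have w : Subobject.ofLE (s i.castSucc) (s i.succ) hle ≫ (s i.succ).arrow ≫ φ = 0 := by
    rw [← Category.assoc, Subobject.ofLE_arrow, hi0]
  let ψ0 : cokernel (Subobject.ofLE (s i.castSucc) (s i.succ) hle) ⟶ G :=
    cokernel.desc (Subobject.ofLE (s i.castSucc) (s i.succ) hle) ((s i.succ).arrow ≫ φ) w
  have hψ0 : ψ0 ≠ 0 := by
    intro h
    apply hi1
    have h2 : cokernel.π (Subobject.ofLE (s i.castSucc) (s i.succ) hle) ≫ ψ0 =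
        (s i.succ).arrow ≫ φ := cokernel.π_desc _ _ _
    rw [← h2, h, comp_zero]
  -- step 2: the first term of `t` through which `ψ0` factors
  have hQ0 : ¬ (t 0).Factors ψ0 := by
    intro h
    have h0 : t 0 = ⊥ := ht0
    rw [h0, Subobject.bot_factors_iff_zero] at h
    exact hψ0 h
  have hQl : (t (Fin.last t.length)).Factors ψ0 := by
    have h1 : t (Fin.last t.length) = ⊤ := ht1
    rw [h1]
    exact Subobject.top_factors ψ0
  obtain ⟨j, hj0, hj1⟩ :=
    exists_step (fun b : Fin (t.length + 1) => (t b).Factors ψ0) hQ0 hQl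
  have hle' : t j.castSucc ≤ t j.succ := le_of_lt (t.step j)
  refine ⟨i, j, (show StabCat.factor s i ⟶ StabCat.factor t j from
    (t j.succ).factorThru ψ0 hj1 ≫
      cokernel.π (Subobject.ofLE (t j.castSucc) (t j.succ) hle')), ?_⟩
  intro h
  have h : (t j.succ).factorThru ψ0 hj1 ≫
      cokernel.π (Subobject.ofLE (t j.castSucc) (t j.succ) hle') = 0 := h
  apply hj0
  let l := Abelian.monoLift (Subobject.ofLE (t j.castSucc) (t j.succ) hle')
    ((t j.succ).factorThru ψ0 hj1) h
  have hl : l ≫ Subobject.ofLE (t j.castSucc) (t j.succ) hle' = (t j.succ).factorThru ψ0 hj1 :=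
    Abelian.monoLift_comp _ _ _
  have h3 : ψ0 = l ≫ (t j.castSucc).arrow := by
    rw [← Subobject.ofLE_arrow hle', ← Category.assoc, hl, Subobject.factorThru_arrow]
  show (t j.castSucc).Factors ψ0
  rw [h3]
  exact Subobject.factors_comp_arrow l

end Groth.Agent.Helper11.HNFactor
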