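import Groth.Prelude.Def_HTop

/-!
# Standard ph coverings: base change
-/

universe w w' u

open CategoryTheory CategoryTheory.Limits AlgebraicGeometry Opposite

namespace Groth.Agent.Helper11.HTopV

open HTop

theorem isStandardPh_pullback {T T' : Scheme.{u}} [IsAffine T'] (g : T' ⟶ T)
    (E : PreZeroHypercover.{w} T) (hE : HTop.IsStandardPh E) :
    HTop.IsStandardPh (E.pullback₁ g) := by
  have := hE.isAffine
  have := hE.isAffine_obj
  obtain ⟨U, f, ι, hproper, hsurj, hopen, hcomm, hcov⟩ := hE.exists_proper
  have := hproper
  have := hsurj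
  refine ⟨inferInstance, hE.finite_index, fun j => ?_, ?_⟩
  · show IsAffine (pullback g (E.f j))
    infer_instance
  · let ι' : ∀ j : E.I₀, pullback g (E.f j) ⟶ pullback g f := fun j =>
      pullback.map g (E.f j) g f (𝟙 T') (ι j) (𝟙 T) (by simp) (by simp [hcomm j])
    have hιf : ∀ j : E.I₀, ι' j ≫ pullback.fst g f = pullback.fst g (E.f j) := fun j => by
      show pullback.lift _ _ _ ≫ pullback.fst g f = _
      rw [pullback.lift_fst, Category.comp_id]
    have hιs : ∀ j : E.I₀, ι' j ≫ pullback.snd g f = pullback.snd g (E.f j) ≫ ι j := fun j => by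
      show pullback.lift _ _ _ ≫ pullback.snd g f = _
      rw [pullback.lift_snd]
    have hιo : ∀ j : E.I₀, IsOpenImmersion (ι' j) := fun j => by
      have := hopen j
      show IsOpenImmersion (pullback.map g (E.f j) g f (𝟙 T') (ι j) (𝟙 T) _ _)
      infer_instance
    refine ⟨pullback g f, pullback.fst g f, ι', inferInstance, inferInstance, hιo, hιf,
      fun x => ?_⟩
    obtain ⟨j, y, hy⟩ := hcov (pullback.snd g f x)
    obtain ⟨z', hz1, hz2⟩ := Scheme.Pullback.exists_preimage_pullback
      (f := pullback.snd g f) (g := ι j) x y hy.symm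
    let k : pullback (pullback.snd g f) (ι j) ⟶ pullback g (E.f j) :=
      pullback.lift (pullback.fst _ _ ≫ pullback.fst g f) (pullback.snd _ _) (by
        rw [Category.assoc, pullback.condition, ← Category.assoc, pullback.condition,
          Category.assoc, hcomm j])
    have hk : k ≫ ι' j = pullback.fst (pullback.snd g f) (ι j) := by
      apply pullback.hom_ext
      · rw [Category.assoc, hιf, pullback.lift_fst]
      · rw [Category.assoc, hιs, ← Category.assoc, pullback.lift_snd, pullback.condition]
    have h1 : (k ≫ ι' j) z' = x := by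
      rw [hk]
      exact hz1
    exact ⟨j, k z', h1⟩

end Groth.Agent.Helper11.HTopV
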