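import Groth.Agent.Lib.Helper11.HTopV2
import Mathlib.AlgebraicGeometry.ValuativeCriterion
import Mathlib.RingTheory.Valuation.LocalSubring

/-!
# V coverings are universally submersive: lifting specializations
-/

universe w w' u

open CategoryTheory CategoryTheory.Limits AlgebraicGeometry Opposite IsLocalRing

namespace Groth.Agent.Helper11.HTopV

open HTop

/-- The generic point of the spectrum of a domain. -/
def botPt (R : Type*) [CommRing R] [IsDomain R] : PrimeSpectrum R := ⟨⊥, Ideal.isPrime_bot⟩

theorem comap_botPt {R S : Type*} [CommRing R] [IsDomain R] [CommRing S] [IsDomain S]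
    (ψ : R →+* S) (hψ : Function.Injective ψ) : PrimeSpectrum.comap ψ (botPt S) = botPt R := by
  apply PrimeSpectrum.ext
  exact Ideal.comap_bot_of_injective ψ hψ

theorem closedPoint_field (K : Type*) [Field K] : closedPoint K = botPt K := by
  apply PrimeSpectrum.ext
  exact IsLocalRing.maximalIdeal_eq_bot

set_option backward.isDefEq.respectTransparency.types false in
/-- A family with the valuation ring lifting property lifts specializations. -/
theorem exists_specializes_lift {T : Scheme.{u}} (E : PreZeroHypercover.{w} T)
    (hE : HTop.HasValLift E) {x' y : T} (h : x' ⤳ y) :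
    ∃ (j : E.I₀) (w' w : E.X j), w' ⤳ w ∧ E.f j w' = x' ∧ E.f j w = y := by
  let φ0 : T.presheaf.stalk y ⟶ T.residueField x' :=
    T.presheaf.stalkSpecializes h ≫ T.residue x'
  obtain ⟨A, hA, hA_local⟩ := exists_factor_valuationRing φ0.hom
  let toA : T.presheaf.stalk y ⟶ CommRingCat.of A :=
    CommRingCat.ofHom (φ0.hom.codRestrict _ hA)
  let v : Spec (CommRingCat.of A) ⟶ T := Spec.map toA ≫ T.fromSpecStalk y
  have hv_closed : v (closedPoint A) = y := by
    simp only [v, Scheme.Hom.comp_base, TopCat.coe_comp, Function.comp_apply]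
    have : Spec.map toA (closedPoint A) = closedPoint (T.presheaf.stalk y) :=
      comap_closedPoint (S := A) (φ0.hom.codRestrict A.toSubring hA)
    rw [this, T.fromSpecStalk_closedPoint]
  have hw : T.fromSpecResidueField x' =
      Spec.map (CommRingCat.ofHom (algebraMap A (T.residueField x'))) ≫ v := by
    simp only [v]
    rw [Scheme.fromSpecResidueField, ← Scheme.SpecMap_stalkSpecializes_fromSpecStalk h]
    simp_rw [← Spec.map_comp_assoc]
    rfl
  have hv_gen : v (botPt A) = x' := by
    have h1 : Spec.map (CommRingCat.ofHom (algebraMap A (T.residueField x')))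
        (closedPoint (T.residueField x')) = botPt A := by
      rw [closedPoint_field]
      exact comap_botPt (algebraMap A (T.residueField x')) (FaithfulSMul.algebraMap_injective _ _)
    rw [← h1, ← Scheme.Hom.comp_apply, ← hw]
    exact Scheme.fromSpecResidueField_apply x' _
  obtain ⟨W, hWd, hWv, φ, ⟨hφinj, hφloc⟩, j, g', hg'⟩ := hE (CommRingCat.of A) v
  refine ⟨j, g' (botPt W), g' (closedPoint W), ?_, ?_, ?_⟩
  · exact (specializes_closedPoint (R := W) (botPt W)).map g'.continuous
  · rw [← Scheme.Hom.comp_apply, hg', Scheme.Hom.comp_apply]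
    have : Spec.map φ (botPt W) = botPt A := comap_botPt φ.hom hφinj
    rw [this, hv_gen]
  · rw [← Scheme.Hom.comp_apply, hg', Scheme.Hom.comp_apply]
    have : Spec.map φ (closedPoint W) = closedPoint A := comap_closedPoint (S := W) φ.hom
    rw [this, hv_closed]

end Groth.Agent.Helper11.HTopV
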