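import Groth.Agent.Lib.Helper11.HTopSub
import Groth.Prelude.Def_SGA1

/-!
# V coverings are universally submersive
-/

universe w w' u

open CategoryTheory CategoryTheory.Limits AlgebraicGeometry Opposite IsLocalRing

namespace Groth.Agent.Helper11.HTopV

open HTop

/-- Ring level: every point in the closure of the image of a closed set is a specialization of
a point of the image. -/
theorem exists_specializes_of_mem_closure_comap {R S : Type*} [CommRing R] [CommRing S]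
    (φ : R →+* S) (Z : Set (PrimeSpectrum S)) (hZ : IsClosed Z) (p : PrimeSpectrum R)
    (hp : p ∈ closure (PrimeSpectrum.comap φ '' Z)) :
    ∃ q ∈ Z, PrimeSpectrum.comap φ q ⤳ p := by
  obtain ⟨I, rfl⟩ := (PrimeSpectrum.isClosed_iff_zeroLocus_ideal Z).mp hZ
  have hsub : PrimeSpectrum.comap φ '' PrimeSpectrum.zeroLocus (I : Set S) ⊆
      PrimeSpectrum.zeroLocus ((I.comap φ : Ideal R) : Set R) := by
    rintro _ ⟨q, hq, rfl⟩
    exact Ideal.comap_mono (f := φ) hq
  have hp' : p ∈ PrimeSpectrum.zeroLocus ((I.comap φ : Ideal R) : Set R) :=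
    closure_minimal hsub (PrimeSpectrum.isClosed_zeroLocus _) hp
  obtain ⟨q, hqI, hq, hqle⟩ := p.asIdeal.exists_ideal_comap_le_prime (f := φ) I hp'
  exact ⟨⟨q, hq⟩, hqI, (PrimeSpectrum.le_iff_specializes ⟨q.comap φ, inferInstance⟩ p).mp hqle⟩

/-- Scheme level version for a compact source and an affine target. -/
theorem exists_specializes_of_mem_closure_image {X T : Scheme.{u}} [CompactSpace X] [IsAffine T]
    (f : X ⟶ T) (Z : Set X) (hZ : IsClosed Z) (p : T) (hp : p ∈ closure (f '' Z)) :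
    ∃ q ∈ Z, f q ⤳ p := by
  obtain ⟨S, g, hg⟩ := (compactSpace_iff_exists (X := X)).mp inferInstance
  obtain ⟨φ, hφ⟩ := Spec.homEquiv.symm.surjective (g ≫ f ≫ T.isoSpec.hom)
  have hφ' : ∀ x : Spec S, PrimeSpectrum.comap φ.hom x = T.isoSpec.hom (f (g x)) := by
    intro x
    have := congrArg (fun (h : Spec S ⟶ Spec Γ(T, ⊤)) => h x) hφ
    exact this
  have himg : PrimeSpectrum.comap φ.hom '' (g ⁻¹' Z) = T.isoSpec.hom '' (f '' Z) := by
    ext y
    constructor
    · rintro ⟨x, hx, rfl⟩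
      exact ⟨f (g x), ⟨g x, hx, rfl⟩, (hφ' x).symm⟩
    · rintro ⟨_, ⟨z, hz, rfl⟩, rfl⟩
      obtain ⟨x, rfl⟩ := hg z
      exact ⟨x, hz, hφ' x⟩
  have hp' : T.isoSpec.hom p ∈ closure (PrimeSpectrum.comap φ.hom '' (g ⁻¹' Z)) := by
    rw [himg]
    exact image_closure_subset_closure_image T.isoSpec.hom.continuous ⟨p, hp, rfl⟩
  obtain ⟨q, hq, hqp⟩ := exists_specializes_of_mem_closure_comap φ.hom (g ⁻¹' Z)
    (hZ.preimage g.continuous) _ hp'
  refine ⟨g q, hq, ?_⟩
  rw [hφ' q] at hqp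
  exact (T.isoSpec.hom.isOpenEmbedding.isInducing.specializes_iff).1 hqp

/-- A subset of an affine scheme whose preimages under a standard V covering are closed is
closed. -/
theorem isClosed_of_isStandardV {T : Scheme.{u}} (F : PreZeroHypercover.{w} T)
    (hF : HTop.IsStandardV F) (C : Set T) (hC : ∀ j, IsClosed (F.f j ⁻¹' C)) : IsClosed C := by
  have := hF.isAffine
  have := hF.finite_index
  have := hF.isAffine_obj
  have hstable : ∀ x' y : T, x' ⤳ y → x' ∈ C → y ∈ C := by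
    intro x' y h hx'
    obtain ⟨j, w', w, hw, hw', hwy⟩ := exists_specializes_lift F hF.lift h
    have h1 : w' ∈ F.f j ⁻¹' C := by
      show F.f j w' ∈ C
      rw [hw']
      exact hx'
    have h2 : w ∈ F.f j ⁻¹' C := hw.mem_closed (hC j) h1
    have h3 : F.f j w ∈ C := h2
    rwa [hwy] at h3
  have hCeq : C = ⋃ j, F.f j '' (F.f j ⁻¹' C) := by
    ext y
    constructor
    · intro hy
      obtain ⟨j, w', w, -, -, hwy⟩ := exists_specializes_lift F hF.lift (specializes_rfl (x := y))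
      exact Set.mem_iUnion.2 ⟨j, w, by show F.f j w ∈ C; rwa [hwy], hwy⟩
    · intro hy
      obtain ⟨j, w, hw, rfl⟩ := Set.mem_iUnion.1 hy
      exact hw
  rw [← closure_subset_iff_isClosed]
  intro p hp
  rw [hCeq, closure_iUnion_of_finite] at hp
  obtain ⟨j, hpj⟩ := Set.mem_iUnion.1 hp
  obtain ⟨q, hq, hqp⟩ := exists_specializes_of_mem_closure_image (F.f j) _ (hC j) p hpj
  exact hstable _ _ hqp hq

/-- A subset whose preimages under a V covering are open is open. -/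
theorem isOpen_of_isVCover {Y : Scheme.{u}} (E : PreZeroHypercover.{w} Y) (hE : HTop.IsVCover E)
    (S : Set Y) (hS : ∀ i, IsOpen (E.f i ⁻¹' S)) : IsOpen S := by
  rw [isOpen_iff_forall_mem_open]
  intro y hy
  obtain ⟨_, ⟨U₀, hU, rfl⟩, hyU, -⟩ :=
    Y.isBasis_affineOpens.exists_subset_of_mem_open (Set.mem_univ y) isOpen_univ
  obtain ⟨F, hF, hFE⟩ := hE ⟨U₀, hU⟩
  let U : Y.Opens := U₀
  change HTop.RefinesOver U.ι F E at hFE
  have hopen : IsOpen (U.ι ⁻¹' S) := by
    rw [← isClosed_compl_iff]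
    refine isClosed_of_isStandardV F hF _ fun j => ?_
    rw [Set.preimage_compl, isClosed_compl_iff]
    obtain ⟨i, k, hk⟩ := hFE j
    have h1 : F.f j ⁻¹' (U.ι ⁻¹' S) = k ⁻¹' (E.f i ⁻¹' S) := by
      ext x
      show U.ι (F.f j x) ∈ S ↔ E.f i (k x) ∈ S
      rw [← Scheme.Hom.comp_apply, ← Scheme.Hom.comp_apply, hk]
    rw [h1]
    exact (hS i).preimage k.continuous
  refine ⟨U.ι '' (U.ι ⁻¹' S), ?_, U.ι.isOpenEmbedding.isOpenMap _ hopen, ?_⟩
  · rintro _ ⟨x, hx, rfl⟩
    exact hx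
  · exact ⟨⟨y, hyU⟩, hy, rfl⟩

/-- A V covering is jointly surjective. -/
theorem exists_preimage_of_isVCover {Y : Scheme.{u}} (E : PreZeroHypercover.{w} Y)
    (hE : HTop.IsVCover E) (y : Y) : ∃ (i : E.I₀) (w : E.X i), E.f i w = y := by
  obtain ⟨_, ⟨U₀, hU, rfl⟩, hyU, -⟩ :=
    Y.isBasis_affineOpens.exists_subset_of_mem_open (Set.mem_univ y) isOpen_univ
  obtain ⟨F, hF, hFE⟩ := hE ⟨U₀, hU⟩
  let U : Y.Opens := U₀
  change HTop.RefinesOver U.ι F E at hFE
  let y' : (U : Scheme.{u}) := ⟨y, hyU⟩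
  obtain ⟨j, w', w, -, -, hwy⟩ :=
    exists_specializes_lift F hF.lift (specializes_rfl (x := y'))
  obtain ⟨i, k, hk⟩ := hFE j
  refine ⟨i, k w, ?_⟩
  rw [← Scheme.Hom.comp_apply, hk, Scheme.Hom.comp_apply, hwy]
  rfl

theorem univSubmersive_sigmaDesc {X : Scheme.{u}} (E : PreZeroHypercover.{u} X)
    (hE : HTop.IsVCover E) : SGA1.UnivSubmersive (Sigma.desc E.f) := by
  intro X' Y' i₁ i₂ f' hP
  show Topology.IsQuotientMap f'
  have hE' := isVCover_pullback i₂ E hE
  let m : ∀ i, pullback i₂ (E.f i) ⟶ X' := fun i =>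
    hP.lift (pullback.fst i₂ (E.f i)) (pullback.snd i₂ (E.f i) ≫ Sigma.ι E.X i)
      (by rw [pullback.condition, Category.assoc, Sigma.ι_desc])
  have hm : ∀ i, m i ≫ f' = pullback.fst i₂ (E.f i) := fun i => hP.lift_fst _ _ _
  refine ⟨Topology.isCoinducing_iff.2 fun S =>
    ⟨fun hS => ?_, fun hS => hS.preimage f'.continuous⟩, ?_⟩
  swap
  · intro y
    obtain ⟨i, w, hw⟩ := exists_preimage_of_isVCover _ hE' y
    refine ⟨m i w, ?_⟩
    rw [← Scheme.Hom.comp_apply, hm i]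
    exact hw
  · refine isOpen_of_isVCover _ hE' S fun i => ?_
    have h1 : (E.pullback₁ i₂).f i ⁻¹' S = m i ⁻¹' (f' ⁻¹' S) := by
      ext x
      show pullback.fst i₂ (E.f i) x ∈ S ↔ f' (m i x) ∈ S
      rw [← Scheme.Hom.comp_apply, hm i]
    rw [h1]
    exact hS.preimage (m i).continuous

end Groth.Agent.Helper11.HTopV
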