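import Groth.Prelude.Def_HTop

/-!
# Standard V coverings: base change and composition
-/

universe w w' u

open CategoryTheory CategoryTheory.Limits AlgebraicGeometry Opposite

namespace Groth.Agent.Helper11.HTopV

open HTop

theorem isStandardV_pullback {T T' : Scheme.{u}} [IsAffine T'] (g : T' ⟶ T)
    (E : PreZeroHypercover.{w} T) (hE : HTop.IsStandardV E) :
    HTop.IsStandardV (E.pullback₁ g) := by
  haveI := hE.isAffine
  haveI := hE.isAffine_obj
  refine ⟨inferInstance, hE.finite_index, fun j => ?_, ?_⟩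
  · show IsAffine (pullback g (E.f j))
    infer_instance
  · intro V _ _ v
    obtain ⟨W, hWd, hWv, φ, hφ, j, g', hg'⟩ := hE.lift V (v ≫ g)
    refine ⟨W, hWd, hWv, φ, hφ, j, pullback.lift (Spec.map φ ≫ v) g' ?_, ?_⟩
    · rw [Category.assoc, hg']
    · exact pullback.lift_fst _ _ _

theorem isExtVal_comp {V W W' : CommRingCat.{u}} [IsDomain V] [ValuationRing V] [IsDomain W]
    [ValuationRing W] [IsDomain W'] [ValuationRing W'] {φ : V ⟶ W} {ψ : W ⟶ W'}
    (hφ : IsExtVal V W φ) (hψ : IsExtVal W W' ψ) : IsExtVal V W' (φ ≫ ψ) := by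
  refine ⟨?_, ?_⟩
  · rw [CommRingCat.hom_comp]
    exact hψ.1.comp hφ.1
  · rw [CommRingCat.hom_comp]
    haveI := hφ.2
    haveI := hψ.2
    exact RingHom.isLocalHom_comp _ _

theorem isStandardV_bind {T : Scheme.{u}} (E : PreZeroHypercover.{w} T) (hE : HTop.IsStandardV E)
    (F : ∀ j, PreZeroHypercover.{w'} (E.X j)) (hF : ∀ j, HTop.IsStandardV (F j)) :
    HTop.IsStandardV (E.bind F) := by
  refine ⟨hE.isAffine, ?_, fun ij => (hF ij.1).isAffine_obj ij.2, ?_⟩
  · haveI := hE.finite_index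
    haveI := fun j => (hF j).finite_index
    show Finite (Σ i, (F i).I₀)
    infer_instance
  · intro V _ _ v
    obtain ⟨W, hWd, hWv, φ, hφ, j, g', hg'⟩ := hE.lift V v
    obtain ⟨W', hW'd, hW'v, ψ, hψ, i, g'', hg''⟩ := (hF j).lift W g'
    refine ⟨W', hW'd, hW'v, φ ≫ ψ, isExtVal_comp hφ hψ, ⟨j, i⟩, g'', ?_⟩
    show g'' ≫ ((F j).f i ≫ E.f j) = Spec.map (φ ≫ ψ) ≫ v
    rw [← Category.assoc, hg'', Category.assoc, hg', Spec.map_comp, Category.assoc]

end Groth.Agent.Helper11.HTopV
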