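import Groth.Agent.Lib.Helper11.HTopV

/-!
# V coverings: base change and composition
-/

universe w w' u

open CategoryTheory CategoryTheory.Limits AlgebraicGeometry Opposite

namespace Groth.Agent.Helper11.HTopV

open HTop

/-- A finite affine open covering of an affine scheme is a standard V covering. -/
theorem isStandardV_zar {S : Scheme.{u}} [IsAffine S] {n : ℕ} (W : Fin n → S.Opens)
    (hW : ∀ k, IsAffineOpen (W k)) (hcov : ∀ x : S, ∃ k, x ∈ W k) :
    HTop.IsStandardV (⟨Fin n, fun k => (W k : Scheme.{u}), fun k => (W k).ι⟩ :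
      PreZeroHypercover.{0} S) := by
  refine ⟨inferInstance, inferInstanceAs (Finite (Fin n)), fun k => hW k, ?_⟩
  intro V _ _ v
  obtain ⟨k, hk⟩ := hcov (v (IsLocalRing.closedPoint V))
  have hrange : Set.range v ⊆ Set.range (W k).ι := by
    rw [Scheme.Opens.range_ι]
    rintro _ ⟨x, rfl⟩
    have h1 : x ⤳ IsLocalRing.closedPoint V := IsLocalRing.specializes_closedPoint x
    have h2 : v x ⤳ v (IsLocalRing.closedPoint V) := h1.map v.continuous
    exact h2.mem_open (W k).2 hk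
  refine ⟨V, inferInstance, inferInstance, 𝟙 V, ⟨Function.injective_id, ?_⟩, k,
    IsOpenImmersion.lift (W k).ι v hrange, ?_⟩
  · show IsLocalHom (RingHom.id V)
    infer_instance
  · show IsOpenImmersion.lift (W k).ι v hrange ≫ (W k).ι = Spec.map (𝟙 V) ≫ v
    rw [IsOpenImmersion.lift_fac, Spec.map_id, Category.id_comp]

/-- Key lemma: a V covering of `T` can be refined by a standard V covering over any affine scheme
mapping to `T`. -/
theorem exists_isStandardV_refinesOver {S T : Scheme.{u}} [IsAffine S] (g : S ⟶ T)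
    (E : PreZeroHypercover.{w} T) (hE : HTop.IsVCover E) :
    ∃ F : PreZeroHypercover.{0} S, HTop.IsStandardV F ∧ HTop.RefinesOver g F E := by
  -- local data
  have hloc : ∀ x : S, ∃ (U : T.affineOpens) (W : S.Opens), IsAffineOpen W ∧ x ∈ W ∧
      W ≤ g ⁻¹ᵁ (U : T.Opens) := by
    intro x
    obtain ⟨_, ⟨U, hU, rfl⟩, hxU, -⟩ :=
      T.isBasis_affineOpens.exists_subset_of_mem_open (Set.mem_univ (g x)) isOpen_univ
    have hx : x ∈ g ⁻¹ᵁ U := hxU
    obtain ⟨_, ⟨W, hW, rfl⟩, hxW, hWU⟩ :=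
      S.isBasis_affineOpens.exists_subset_of_mem_open hx (g ⁻¹ᵁ U).2
    exact ⟨⟨U, hU⟩, W, hW, hxW, hWU⟩
  choose U W hWaff hxW hWU using hloc
  obtain ⟨t, ht⟩ := isCompact_univ.elim_finite_subcover (fun x : S => (W x : Set S))
    (fun x => (W x).2) (fun x _ => Set.mem_iUnion.2 ⟨x, hxW x⟩)
  let e : Fin t.card ≃ t := t.equivFin.symm
  let p : Fin t.card → S := fun k => (e k : S)
  have hcov : ∀ x : S, ∃ k, x ∈ W (p k) := by
    intro x
    have := ht (Set.mem_univ x)
    simp only [Set.mem_iUnion] at this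
    obtain ⟨y, hy, hxy⟩ := this
    refine ⟨e.symm ⟨y, hy⟩, ?_⟩
    show x ∈ W ((e (e.symm ⟨y, hy⟩) : t) : S)
    rw [Equiv.apply_symm_apply]
    exact hxy
  -- refinements over each affine open
  have href : ∀ k : Fin t.card, ∃ F : PreZeroHypercover.{0} ((U (p k) : T.Opens) : Scheme.{u}),
      HTop.IsStandardV F ∧ HTop.RefinesOver (U (p k) : T.Opens).ι F E := fun k => hE (U (p k))
  choose Fk hFk hFkE using href
  have : ∀ k : Fin t.card, IsAffine ((W (p k) : S.Opens) : Scheme.{u}) :=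
    fun k => hWaff (p k)
  let gk : ∀ k : Fin t.card, ((W (p k) : S.Opens) : Scheme.{u}) ⟶
      ((U (p k) : T.Opens) : Scheme.{u}) :=
    fun k => g.resLE (U (p k) : T.Opens) (W (p k)) (hWU (p k))
  let Zar : PreZeroHypercover.{0} S :=
    ⟨Fin t.card, fun k => ((W (p k) : S.Opens) : Scheme.{u}), fun k => (W (p k)).ι⟩
  have hZar : HTop.IsStandardV Zar :=
    isStandardV_zar (fun k => W (p k)) (fun k => hWaff (p k)) hcov
  let H : ∀ k : Zar.I₀, PreZeroHypercover.{0} (Zar.X k) := fun k => (Fk k).pullback₁ (gk k)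
  have hH : ∀ k, HTop.IsStandardV (H k) := fun k =>
    isStandardV_pullback (gk k) (Fk k) (hFk k)
  refine ⟨Zar.bind H, isStandardV_bind Zar hZar H hH, ?_⟩
  rintro ⟨k, i⟩
  obtain ⟨i', h, hh⟩ := hFkE k i
  refine ⟨i', pullback.snd (gk k) ((Fk k).f i) ≫ h, ?_⟩
  show (pullback.snd (gk k) ((Fk k).f i) ≫ h) ≫ E.f i' =
    (pullback.fst (gk k) ((Fk k).f i) ≫ (W (p k)).ι) ≫ g
  rw [Category.assoc, hh, ← Category.assoc, ← pullback.condition, Category.assoc, Category.assoc]
  congr 1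
  exact Scheme.Hom.resLE_comp_ι g (hWU (p k))

theorem isVCover_pullback {T T' : Scheme.{u}} (g : T' ⟶ T) (E : PreZeroHypercover.{w} T)
    (hE : HTop.IsVCover E) : HTop.IsVCover (E.pullback₁ g) := by
  intro U'
  have : IsAffine ((U' : T'.Opens) : Scheme.{u}) := U'.2
  obtain ⟨F, hF, hFE⟩ := exists_isStandardV_refinesOver ((U' : T'.Opens).ι ≫ g) E hE
  refine ⟨F, hF, ?_⟩
  intro j
  obtain ⟨i, h, hh⟩ := hFE j
  refine ⟨i, pullback.lift (F.f j ≫ (U' : T'.Opens).ι) h ?_, ?_⟩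
  · rw [hh, Category.assoc]
  · exact pullback.lift_fst _ _ _

theorem isVCover_bind {T : Scheme.{u}} (E : PreZeroHypercover.{w} T) (hE : HTop.IsVCover E)
    (F : ∀ i, PreZeroHypercover.{w'} (E.X i)) (hF : ∀ i, HTop.IsVCover (F i)) :
    HTop.IsVCover (E.bind F) := by
  intro U
  obtain ⟨G, hG, hGE⟩ := hE U
  choose i h hh using hGE
  have : ∀ j, IsAffine (G.X j) := hG.isAffine_obj
  have hex : ∀ j, ∃ H : PreZeroHypercover.{0} (G.X j), HTop.IsStandardV H ∧
      HTop.RefinesOver (h j) H (F (i j)) := fun j =>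
    exists_isStandardV_refinesOver (h j) (F (i j)) (hF (i j))
  choose H hH hHF using hex
  refine ⟨G.bind H, isStandardV_bind G hG H hH, ?_⟩
  rintro ⟨j, k⟩
  obtain ⟨l, m, hm⟩ := hHF j k
  refine ⟨⟨i j, l⟩, m, ?_⟩
  show m ≫ ((F (i j)).f l ≫ E.f (i j)) = ((H j).f k ≫ G.f j) ≫ (U : T.Opens).ι
  rw [← Category.assoc, hm, Category.assoc, hh j, Category.assoc]

end Groth.Agent.Helper11.HTopV
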