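import Groth.Agent.Lib.Helper11.HTopSub2

/-!
# One-member V coverings of quasi-compact morphisms
-/

universe w w' u

open CategoryTheory CategoryTheory.Limits AlgebraicGeometry Opposite IsLocalRing

namespace Groth.Agent.Helper11.HTopV

open HTop

theorem hasValLift_pullback {T T' : Scheme.{u}} (g : T' ⟶ T) (E : PreZeroHypercover.{w} T)
    (hE : HTop.HasValLift E) : HTop.HasValLift (E.pullback₁ g) := by
  intro V _ _ v
  obtain ⟨W, hWd, hWv, φ, hφ, j, g', hg'⟩ := hE V (v ≫ g)
  refine ⟨W, hWd, hWv, φ, hφ, j, pullback.lift (Spec.map φ ≫ v) g' ?_, ?_⟩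
  · rw [Category.assoc, hg']
  · exact pullback.lift_fst _ _ _

/-- A morphism from the spectrum of a local ring factors through any open containing the image
of the closed point. -/
theorem range_subset_of_closedPoint_mem {R : CommRingCat.{u}} [IsLocalRing R] {S : Scheme.{u}}
    (v : Spec R ⟶ S) (W : S.Opens) (h : v (closedPoint R) ∈ W) :
    Set.range v ⊆ Set.range W.ι := by
  rw [Scheme.Opens.range_ι]
  rintro _ ⟨x, rfl⟩
  have h1 : x ⤳ closedPoint R := specializes_closedPoint x
  have h2 : v x ⤳ v (closedPoint R) := h1.map v.continuous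
  exact h2.mem_open W.2 h

set_option backward.isDefEq.respectTransparency.types false in
/-- Every specialization in a scheme is realized by a valuation ring. -/
theorem exists_valuationRing_of_specializes {P : Scheme.{u}} {w' w : P} (h : w' ⤳ w) :
    ∃ (A : CommRingCat.{u}) (_ : IsDomain A) (_ : ValuationRing A) (a : Spec A ⟶ P),
      a (closedPoint A) = w ∧ a (botPt A) = w' := by
  let φ0 : P.presheaf.stalk w ⟶ P.residueField w' :=
    P.presheaf.stalkSpecializes h ≫ P.residue w'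
  obtain ⟨A, hA, hA_local⟩ := exists_factor_valuationRing φ0.hom
  let toA : P.presheaf.stalk w ⟶ CommRingCat.of A :=
    CommRingCat.ofHom (φ0.hom.codRestrict _ hA)
  let v : Spec (CommRingCat.of A) ⟶ P := Spec.map toA ≫ P.fromSpecStalk w
  have hv_closed : v (closedPoint A) = w := by
    simp only [v, Scheme.Hom.comp_base, TopCat.coe_comp, Function.comp_apply]
    have : Spec.map toA (closedPoint A) = closedPoint (P.presheaf.stalk w) :=
      comap_closedPoint (S := A) (φ0.hom.codRestrict A.toSubring hA)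
    rw [this, P.fromSpecStalk_closedPoint]
  have hw : P.fromSpecResidueField w' =
      Spec.map (CommRingCat.ofHom (algebraMap A (P.residueField w'))) ≫ v := by
    simp only [v]
    rw [Scheme.fromSpecResidueField, ← Scheme.SpecMap_stalkSpecializes_fromSpecStalk h]
    simp_rw [← Spec.map_comp_assoc]
    rfl
  have hv_gen : v (botPt A) = w' := by
    have h1 : Spec.map (CommRingCat.ofHom (algebraMap A (P.residueField w')))
        (closedPoint (P.residueField w')) = botPt A := by
      rw [closedPoint_field]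
      exact comap_botPt (algebraMap A (P.residueField w')) (FaithfulSMul.algebraMap_injective _ _)
    rw [← h1, ← Scheme.Hom.comp_apply, ← hw]
    exact Scheme.fromSpecResidueField_apply w' _
  exact ⟨CommRingCat.of A, inferInstance, inferInstance, v, hv_closed, hv_gen⟩

/-- A V covering has the valuation ring lifting property. -/
theorem hasValLift_of_isVCover {T : Scheme.{u}} (E : PreZeroHypercover.{w} T)
    (hE : HTop.IsVCover E) : HTop.HasValLift E := by
  intro V _ _ v
  obtain ⟨_, ⟨U₀, hU, rfl⟩, hyU, -⟩ :=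
    T.isBasis_affineOpens.exists_subset_of_mem_open (Set.mem_univ (v (closedPoint V))) isOpen_univ
  obtain ⟨F, hF, hFE⟩ := hE ⟨U₀, hU⟩
  let U : T.Opens := U₀
  change HTop.RefinesOver U.ι F E at hFE
  have hrange : Set.range v ⊆ Set.range U.ι := range_subset_of_closedPoint_mem v U hyU
  let v' : Spec V ⟶ (U : Scheme.{u}) := IsOpenImmersion.lift U.ι v hrange
  have hv' : v' ≫ U.ι = v := IsOpenImmersion.lift_fac _ _ _
  obtain ⟨W, hWd, hWv, φ, hφ, j, g', hg'⟩ := hF.lift V v'
  obtain ⟨i, k, hk⟩ := hFE j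
  refine ⟨W, hWd, hWv, φ, hφ, i, g' ≫ k, ?_⟩
  rw [Category.assoc, hk, ← Category.assoc, hg', Category.assoc, hv']

theorem isVCover_singleton_of_hasValLift {X Y : Scheme.{u}} (f : X ⟶ Y) [QuasiCompact f]
    (hf : HTop.HasValLift (PreZeroHypercover.singleton.{w} f)) :
    HTop.IsVCover (PreZeroHypercover.singleton.{w} f) := by
  intro U₀
  let U : Y.Opens := U₀
  have hUaff : IsAffineOpen U := U₀.2
  have hcompact : IsCompact ((f ⁻¹ᵁ U : X.Opens) : Set X) := f.isCompact_preimage hUaff.isCompact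
  have hloc : ∀ x : (f ⁻¹ᵁ U : X.Opens), ∃ W : X.Opens, IsAffineOpen W ∧ x.1 ∈ W ∧
      W ≤ f ⁻¹ᵁ U := by
    intro x
    obtain ⟨_, ⟨W, hW, rfl⟩, hxW, hWU⟩ :=
      X.isBasis_affineOpens.exists_subset_of_mem_open x.2 (f ⁻¹ᵁ U).2
    exact ⟨W, hW, hxW, hWU⟩
  choose W hWaff hxW hWU using hloc
  obtain ⟨t, ht⟩ := hcompact.elim_finite_subcover (fun x => (W x : Set X))
    (fun x => (W x).2) (fun x hx => Set.mem_iUnion.2 ⟨⟨x, hx⟩, hxW ⟨x, hx⟩⟩)
  let e : Fin t.card ≃ t := t.equivFin.symm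
  let p : Fin t.card → (f ⁻¹ᵁ U : X.Opens) := fun k => (e k : (f ⁻¹ᵁ U : X.Opens))
  have hcov : ∀ x : X, x ∈ f ⁻¹ᵁ U → ∃ k, x ∈ W (p k) := by
    intro x hx
    have := ht hx
    simp only [Set.mem_iUnion] at this
    obtain ⟨y, hy, hxy⟩ := this
    refine ⟨e.symm ⟨y, hy⟩, ?_⟩
    show x ∈ W ((e (e.symm ⟨y, hy⟩) : t) : (f ⁻¹ᵁ U : X.Opens))
    rw [Equiv.apply_symm_apply]
    exact hxy
  let F : PreZeroHypercover.{0} (U : Scheme.{u}) :=
    ⟨Fin t.card, fun k => ((W (p k) : X.Opens) : Scheme.{u}),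
      fun k => f.resLE U (W (p k)) (hWU (p k))⟩
  refine ⟨F, ⟨hUaff, inferInstanceAs (Finite (Fin t.card)), fun k => hWaff (p k), ?_⟩, ?_⟩
  · intro V _ _ v
    obtain ⟨W', hWd, hWv, φ, hφ, j, g', hg'⟩ := hf V (v ≫ U.ι)
    let g₀ : Spec W' ⟶ X := g'
    have hg₀ : g₀ ≫ f = Spec.map φ ≫ v ≫ U.ι := hg'
    have hmem : g₀ (closedPoint W') ∈ f ⁻¹ᵁ U := by
      show f (g₀ (closedPoint W')) ∈ U
      have h1 : f (g₀ (closedPoint W')) = U.ι (v (Spec.map φ (closedPoint W'))) := by
        have := congrArg (fun (h : Spec W' ⟶ Y) => h (closedPoint W')) hg₀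
        exact this
      rw [h1]
      exact (v _).2
    obtain ⟨k, hk⟩ := hcov _ hmem
    have hrange : Set.range g₀ ⊆ Set.range (W (p k)).ι :=
      range_subset_of_closedPoint_mem g₀ (W (p k)) hk
    refine ⟨W', hWd, hWv, φ, hφ, k, IsOpenImmersion.lift (W (p k)).ι g₀ hrange, ?_⟩
    rw [← cancel_mono U.ι]
    show (IsOpenImmersion.lift (W (p k)).ι g₀ hrange ≫ f.resLE U (W (p k)) (hWU (p k))) ≫ U.ι =
      (Spec.map φ ≫ v) ≫ U.ι
    rw [Category.assoc, Scheme.Hom.resLE_comp_ι, ← Category.assoc, IsOpenImmersion.lift_fac,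
      Category.assoc]
    exact hg₀
  · intro k
    refine ⟨PUnit.unit, (W (p k)).ι, ?_⟩
    show (W (p k)).ι ≫ f = f.resLE U (W (p k)) (hWU (p k)) ≫ U.ι
    rw [Scheme.Hom.resLE_comp_ι]

theorem hasValLift_singleton_univ {X Y : Scheme.{u}} (f : X ⟶ Y)
    (h : HTop.HasValLift (PreZeroHypercover.singleton.{w} f)) :
    HTop.HasValLift (PreZeroHypercover.singleton.{w'} f) := by
  intro V _ _ v
  obtain ⟨W, hWd, hWv, φ, hφ, j, g', hg'⟩ := h V v
  exact ⟨W, hWd, hWv, φ, hφ, PUnit.unit, g', hg'⟩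

theorem isVCover_singleton_iff {X Y : Scheme.{u}} (f : X ⟶ Y) [QuasiCompact f] :
    HTop.IsVCover (PreZeroHypercover.singleton.{w} f) ↔
      HTop.HasValLift (PreZeroHypercover.singleton.{w'} f) :=
  ⟨fun h => hasValLift_singleton_univ f (hasValLift_of_isVCover _ h),
    fun h => isVCover_singleton_of_hasValLift f (hasValLift_singleton_univ f h)⟩

theorem hasValLift_singleton_iff {X Y : Scheme.{u}} (f : X ⟶ Y) :
    HTop.HasValLift (PreZeroHypercover.singleton.{w} f) ↔
      ∀ (Z : Scheme.{u}) (g : Z ⟶ Y) (z' z : Z), z' ⤳ z →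
        ∃ w' w : ↑(pullback g f), w' ⤳ w ∧ pullback.fst g f w' = z' ∧ pullback.fst g f w = z := by
  constructor
  · intro hf Z g z' z h
    have h1 := hasValLift_pullback g _ hf
    obtain ⟨j, w', w, hw, hw', hwz⟩ := exists_specializes_lift _ h1 h
    exact ⟨w', w, hw, hw', hwz⟩
  · intro H V _ _ v
    obtain ⟨w', w, hw, hw', hwz⟩ := H (Spec V) v (botPt V) (closedPoint V)
      (specializes_closedPoint (R := V) (botPt V))
    obtain ⟨A, hAd, hAv, a, ha, ha'⟩ := exists_valuationRing_of_specializes hw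
    let ψ : V ⟶ A := Spec.preimage (a ≫ pullback.fst v f)
    have hψ : Spec.map ψ = a ≫ pullback.fst v f := Spec.map_preimage _
    refine ⟨A, hAd, hAv, ψ, ⟨?_, ?_⟩, PUnit.unit, a ≫ pullback.snd v f, ?_⟩
    · have h1 : PrimeSpectrum.comap ψ.hom (botPt A) = botPt V := by
        have : Spec.map ψ (botPt A) = botPt V := by
          rw [hψ, Scheme.Hom.comp_apply, ha', hw']
        exact this
      have h2 : RingHom.ker ψ.hom = ⊥ := by
        have := congrArg PrimeSpectrum.asIdeal h1
        exact this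
      exact (RingHom.injective_iff_ker_eq_bot _).2 h2
    · rw [isLocalHom_iff_comap_closedPoint]
      have : Spec.map ψ (closedPoint A) = closedPoint V := by
        rw [hψ, Scheme.Hom.comp_apply, ha, hwz]
      exact this
    · show (a ≫ pullback.snd v f) ≫ f = Spec.map ψ ≫ v
      rw [hψ, Category.assoc, Category.assoc, pullback.condition]

end Groth.Agent.Helper11.HTopV
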