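import Groth.Agent.Lib.Helper11.HTopV3
import Mathlib.AlgebraicGeometry.Morphisms.UniversallyOpen
import Mathlib.AlgebraicGeometry.Morphisms.Flat

/-!
# Standard fpqc coverings are standard V coverings
-/

universe w w' u

open CategoryTheory CategoryTheory.Limits AlgebraicGeometry Opposite IsLocalRing

namespace Groth.Agent.Helper11.HTopV

open HTop

/-- If specializations (generic point to closed point) lift along the base change of the family to
every spectrum of a valuation ring, the family has the valuation ring lifting property. -/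
theorem hasValLift_of_specializes_lift {T : Scheme.{u}} (E : PreZeroHypercover.{w} T)
    (H : ∀ (V : CommRingCat.{u}) [IsDomain V] [ValuationRing V] (v : Spec V ⟶ T),
      ∃ (j : E.I₀) (w' w : ↑(pullback v (E.f j))), w' ⤳ w ∧
        pullback.fst v (E.f j) w' = botPt V ∧ pullback.fst v (E.f j) w = closedPoint V) :
    HTop.HasValLift E := by
  intro V _ _ v
  obtain ⟨j, w', w, hw, hw', hwz⟩ := H V v
  obtain ⟨A, hAd, hAv, a, ha, ha'⟩ := exists_valuationRing_of_specializes hw
  let ψ : V ⟶ A := Spec.preimage (a ≫ pullback.fst v (E.f j))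
  have hψ : Spec.map ψ = a ≫ pullback.fst v (E.f j) := Spec.map_preimage _
  refine ⟨A, hAd, hAv, ψ, ⟨?_, ?_⟩, j, a ≫ pullback.snd v (E.f j), ?_⟩
  · have h1 : PrimeSpectrum.comap ψ.hom (botPt A) = botPt V := by
      have : Spec.map ψ (botPt A) = botPt V := by
        rw [hψ, Scheme.Hom.comp_apply, ha', hw']
      exact this
    have h2 : RingHom.ker ψ.hom = ⊥ := by
      have := congrArg PrimeSpectrum.asIdeal h1
      exact this
    exact (RingHom.injective_iff_ker_eq_bot _).2 h2
  · rw [isLocalHom_iff_comap_closedPoint]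
    have : Spec.map ψ (closedPoint A) = closedPoint V := by
      rw [hψ, Scheme.Hom.comp_apply, ha, hwz]
    exact this
  · rw [hψ, Category.assoc, Category.assoc, pullback.condition]

theorem isStandardV_of_flat {T : Scheme.{u}} [IsAffine T] (E : PreZeroHypercover.{w} T)
    (hfin : Finite E.I₀) (haff : ∀ j, IsAffine (E.X j)) (hflat : ∀ j, Flat (E.f j))
    (hsurj : ∀ t : T, ∃ (j : E.I₀) (x : E.X j), E.f j x = t) : HTop.IsStandardV E := by
  refine ⟨inferInstance, hfin, haff, hasValLift_of_specializes_lift E ?_⟩
  intro V _ _ v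
  obtain ⟨j, x, hx⟩ := hsurj (v (closedPoint V))
  obtain ⟨p, hp1, hp2⟩ := Scheme.Pullback.exists_preimage_pullback (f := v) (g := E.f j)
    (closedPoint V) x hx.symm
  haveI := hflat j
  have hgen : GeneralizingMap (pullback.fst v (E.f j)) := Flat.generalizingMap _
  have h1 : (botPt V : Spec V) ⤳ pullback.fst v (E.f j) p := by
    rw [hp1]
    exact specializes_closedPoint (R := V) (botPt V)
  obtain ⟨p', hp', hp'2⟩ := hgen h1
  exact ⟨j, p', p, hp', hp'2, hp1⟩

end Groth.Agent.Helper11.HTopV
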