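import Groth.Agent.Lib.Helper11.HTopV4
import Mathlib.AlgebraicGeometry.Sites.Fpqc

/-!
# fpqc coverings are V coverings
-/

universe w w' u

open CategoryTheory CategoryTheory.Limits AlgebraicGeometry Opposite IsLocalRing

namespace Groth.Agent.Helper11.HTopV

open HTop

/-- A refining standard V covering may be re-indexed by a type in universe `0`. -/
theorem exists_small_refinement {S T : Scheme.{u}} {g : S ⟶ T} {E : PreZeroHypercover.{w} T}
    (F : PreZeroHypercover.{w'} S) (hF : HTop.IsStandardV F) (hFE : HTop.RefinesOver g F E) :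
    ∃ F' : PreZeroHypercover.{0} S, HTop.IsStandardV F' ∧ HTop.RefinesOver g F' E := by
  have := hF.finite_index
  let e : Fin (Nat.card F.I₀) ≃ F.I₀ := (Finite.equivFin F.I₀).symm
  refine ⟨F.restrictIndex e, ⟨hF.isAffine, inferInstanceAs (Finite (Fin _)),
    fun k => hF.isAffine_obj (e k), ?_⟩, fun k => hFE (e k)⟩
  intro V _ _ v
  obtain ⟨W, hWd, hWv, φ, hφ, j, g', hg'⟩ := hF.lift V v
  obtain ⟨k, rfl⟩ := e.surjective j
  exact ⟨W, hWd, hWv, φ, hφ, k, g', hg'⟩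

theorem isVCover_of_fpqc {T : Scheme.{u}} (𝒰 : Scheme.Cover.{w} Scheme.fpqcPrecoverage T) :
    HTop.IsVCover 𝒰.toPreZeroHypercover := by
  intro U₀
  let U : T.Opens := U₀
  have hUaff : IsAffineOpen U := U₀.2
  obtain ⟨s, hs, V, hVc, hVU⟩ := IsAffineOpen.isCompactOpenCovered 𝒰.toPreZeroHypercover hUaff
  have haff : ∀ (i : 𝒰.I₀) (h : i ∈ s), ∃ t : Set (𝒰.X i).affineOpens, t.Finite ∧
      V i h = ⨆ W ∈ t, (W : (𝒰.X i).Opens) :=
    fun i h => isCompact_iff_finite_and_eq_biUnion_affineOpens.mp (hVc i h)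
  choose t htfin htV using haff
  have : Finite s := hs.to_subtype
  have : ∀ i : s, Finite (t i.1 i.2) := fun i => (htfin i.1 i.2).to_subtype
  have hVle : ∀ (i : 𝒰.I₀) (h : i ∈ s), V i h ≤ (𝒰.f i) ⁻¹ᵁ U := by
    intro i h y hy
    show 𝒰.f i y ∈ (U : Set T)
    rw [← hVU]
    exact Set.mem_iUnion₂.2 ⟨i, h, y, hy, rfl⟩
  have hle : ∀ j : (Σ (i : s), (t i.1 i.2)),
      (j.2.1 : (𝒰.X j.1.1).Opens) ≤ (𝒰.f j.1.1) ⁻¹ᵁ U := by
    intro j
    refine le_trans ?_ (hVle j.1.1 j.1.2)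
    rw [htV j.1.1 j.1.2]
    exact le_iSup₂ (f := fun (W : (𝒰.X j.1.1).affineOpens) (_ : W ∈ t j.1.1 j.1.2) =>
      (W : (𝒰.X j.1.1).Opens)) j.2.1 j.2.2
  let F : PreZeroHypercover (U : Scheme.{u}) :=
    ⟨Σ (i : s), (t i.1 i.2), fun j => ((j.2.1 : (𝒰.X j.1.1).Opens) : Scheme.{u}),
      fun j => (𝒰.f j.1.1).resLE U j.2.1 (hle j)⟩
  have hflat : ∀ i, Flat (𝒰.f i) := fun i => 𝒰.forgetQc.map_prop i
  have hF : HTop.IsStandardV F := by
    have : IsAffine (U : Scheme.{u}) := hUaff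
    refine isStandardV_of_flat F (inferInstanceAs (Finite (Σ (i : s), (t i.1 i.2))))
      (fun j => j.2.1.2) (fun j => ?_) ?_
    · have := hflat j.1.1
      show Flat ((𝒰.f j.1.1).resLE U j.2.1 (hle j))
      infer_instance
    · intro x
      have hx : x.1 ∈ (U : Set T) := x.2
      rw [← hVU] at hx
      obtain ⟨i, hi, y, hy, hyx⟩ := Set.mem_iUnion₂.1 hx
      have hy' : y ∈ ⨆ W ∈ t i hi, (W : (𝒰.X i).Opens) := by
        rw [← htV i hi]
        exact hy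
      simp only [TopologicalSpace.Opens.mem_iSup] at hy'
      obtain ⟨W, hW, hyW⟩ := hy'
      refine ⟨⟨⟨i, hi⟩, ⟨W, hW⟩⟩, (⟨y, hyW⟩ : (W : (𝒰.X i).Opens)), ?_⟩
      apply Subtype.ext
      have h1 := congrArg (fun (h : ((W : (𝒰.X i).Opens) : Scheme.{u}) ⟶ T) =>
        h (⟨y, hyW⟩ : (W : (𝒰.X i).Opens)))
        (Scheme.Hom.resLE_comp_ι (𝒰.f i) (hle ⟨⟨i, hi⟩, ⟨W, hW⟩⟩))
      exact h1.trans hyx
  have href : HTop.RefinesOver U.ι F 𝒰.toPreZeroHypercover := by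
    intro j
    exact ⟨j.1.1, (j.2.1 : (𝒰.X j.1.1).Opens).ι, (Scheme.Hom.resLE_comp_ι _ _).symm⟩
  exact exists_small_refinement F hF href

end Groth.Agent.Helper11.HTopV
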