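import Groth.Agent.Lib.Helper11.HTopV4
import Mathlib.AlgebraicGeometry.Morphisms.Proper
import Mathlib.AlgebraicGeometry.Morphisms.UniversallyClosed

/-!
# Standard ph coverings are standard V coverings
-/

universe w w' u

open CategoryTheory CategoryTheory.Limits AlgebraicGeometry Opposite IsLocalRing

namespace Groth.Agent.Helper11.HTopV

open HTop

theorem isStandardV_of_isStandardPh {T : Scheme.{u}} (E : PreZeroHypercover.{w} T)
    (hE : HTop.IsStandardPh E) : HTop.IsStandardV E := by
  refine ⟨hE.isAffine, hE.finite_index, hE.isAffine_obj, ?_⟩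
  intro V _ _ v
  obtain ⟨U, f, ι, hproper, hsurj, hopen, hcomm, hcov⟩ := hE.exists_proper
  have := hproper
  have := hsurj
  have hsurj'' : Surjective (pullback.fst v f) := inferInstance
  have hsurj' : Function.Surjective (pullback.fst v f) := hsurj''.surj
  have hspec : SpecializingMap (pullback.fst v f) :=
    (pullback.fst v f).isClosedMap.specializingMap
  obtain ⟨p', hp'⟩ := hsurj' (botPt V)
  have h1 : pullback.fst v f p' ⤳ (closedPoint V : Spec V) := by
    rw [hp']
    exact specializes_closedPoint (R := V) (botPt V)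
  obtain ⟨p, hp'p, hp⟩ := hspec h1
  obtain ⟨A, hAd, hAv, a, ha, ha'⟩ := exists_valuationRing_of_specializes hp'p
  let ψ : V ⟶ A := Spec.preimage (a ≫ pullback.fst v f)
  have hψ : Spec.map ψ = a ≫ pullback.fst v f := Spec.map_preimage _
  obtain ⟨j, hj⟩ := hcov (pullback.snd v f p)
  have := hopen j
  have hrange : Set.range (a ≫ pullback.snd v f) ⊆ Set.range (ι j) := by
    rintro _ ⟨x, rfl⟩
    have h2 : x ⤳ closedPoint A := specializes_closedPoint x
    have h3 : (a ≫ pullback.snd v f) x ⤳ (a ≫ pullback.snd v f) (closedPoint A) :=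
      h2.map (a ≫ pullback.snd v f).continuous
    refine h3.mem_open (ι j).isOpenEmbedding.isOpen_range ?_
    rw [Scheme.Hom.comp_apply, ha]
    exact hj
  refine ⟨A, hAd, hAv, ψ, ⟨?_, ?_⟩, j, IsOpenImmersion.lift (ι j) (a ≫ pullback.snd v f) hrange, ?_⟩
  · have h1 : PrimeSpectrum.comap ψ.hom (botPt A) = botPt V := by
      have : Spec.map ψ (botPt A) = botPt V := by
        rw [hψ, Scheme.Hom.comp_apply, ha', hp']
      exact this
    have h2 : RingHom.ker ψ.hom = ⊥ := by
      have := congrArg PrimeSpectrum.asIdeal h1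
      exact this
    exact (RingHom.injective_iff_ker_eq_bot _).2 h2
  · rw [isLocalHom_iff_comap_closedPoint]
    have : Spec.map ψ (closedPoint A) = closedPoint V := by
      rw [hψ, Scheme.Hom.comp_apply, ha, hp]
    exact this
  · rw [← hcomm j, ← Category.assoc, IsOpenImmersion.lift_fac, hψ, Category.assoc, Category.assoc,
      pullback.condition]

end Groth.Agent.Helper11.HTopV
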