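import Groth.Agent.Lib.Helper3.TH5
import Groth.Agent.Lib.Helper11.Dev4
import Groth.Agent.Lib.Helper5.KFlat4

/-!
# `Hom•(P, K)` is K-flat for `P` perfect bounded above projective and `K` K-flat (helper11)
-/

set_option autoImplicit false

open CategoryTheory CategoryTheory.Limits MonoidalCategory CochainComplex HomComplex
open scoped TensorProduct

universe u

attribute [local instance] HasDerivedCategory.standard

namespace Groth.Agent.Helper11.HomKFl

open Groth.Agent.Helper3.HT Groth.Agent.Helper3.TH Groth.Agent.Helper5.KF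

variable {A : Type u} [CommRing A]

theorem homCxPre_eq_curH {P P' : DRing.Cx A} (u : P' ⟶ P) (W : DRing.Cx A) :
    homCxPre u W = curH ((DRing.homCx P W ◁ u) ≫ evH P W) := by
  apply uncH_injective
  rw [uncH_curH]
  have h := uncH_comp_pre (𝟙 (DRing.homCx P W)) u
  rw [Category.id_comp] at h
  exact h

/-- `Hom•(-, W)` preserves homotopies -/
noncomputable def homCxPreHomotopy {P P' : DRing.Cx A} {u u' : P' ⟶ P} (H : Homotopy u u')
    (W : DRing.Cx A) : Homotopy (homCxPre u W) (homCxPre u' W) :=
  (Homotopy.ofEq (homCxPre_eq_curH u W)).trans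
    ((curHomotopy ((whiskerLeftHomotopy (DRing.homCx P W) H).compRight (evH P W))).trans
      (Homotopy.ofEq (homCxPre_eq_curH u' W).symm))

/-- `Hom•(-, W)` preserves homotopy equivalences -/
noncomputable def homCxPreHomotopyEquiv {P P' : DRing.Cx A} (e : HomotopyEquiv P' P)
    (W : DRing.Cx A) : HomotopyEquiv (DRing.homCx P W) (DRing.homCx P' W) where
  hom := homCxPre e.hom W
  inv := homCxPre e.inv W
  homotopyHomInvId :=
    (Homotopy.ofEq (homCxPre_comp e.hom e.inv W).symm).trans
      ((homCxPreHomotopy e.homotopyInvHomId W).trans (Homotopy.ofEq (homCxPre_id P W)))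
  homotopyInvHomId :=
    (Homotopy.ofEq (homCxPre_comp e.inv e.hom W).symm).trans
      ((homCxPreHomotopy e.homotopyHomInvId W).trans (Homotopy.ofEq (homCxPre_id P' W)))

theorem acyclic_of_isZero_homology (L : DRing.Cx A) (h : ∀ i : ℤ, IsZero (L.homology i)) :
    L.Acyclic := fun i => (HomologicalComplex.exactAt_iff_isZero_homology L i).2 (h i)

theorem isZero_homology_of_acyclic (L : DRing.Cx A) (h : L.Acyclic) (i : ℤ) :
    IsZero (L.homology i) := (HomologicalComplex.exactAt_iff_isZero_homology L i).1 (h i)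

/-- `Hom•(E, K)` is K-flat for `E` strictly perfect and `K` K-flat -/
theorem kfl_homCx_of_perfect (E : DRing.Cx A) (a b : ℤ) (hE : DRing.VanishesOutside E a b)
    (hfp : DRing.TermwiseFiniteProjective E) (K : DRing.Cx A) (hK : KFl K) :
    KFl (DRing.homCx E K) := by
  intro L hL i
  haveI := quasiIso_θ_of_perfect_mid E a b hE hfp L K
  haveI : E.IsKProjective :=
    Groth.Agent.Helper11.DC.isKProjective_of_vanishesAbove E b (fun i hi => hE i (Or.inr hi))
      (fun i => (hfp i).2)
  have h1 : (L ⊗ K).Acyclic := acyclic_of_isZero_homology _ (hK L hL)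
  have h2 := acyclic_homCx E (L ⊗ K) h1
  have h3 := isZero_homology_of_acyclic _ h2 i
  exact IsZero.of_iso h3 (asIso (HomologicalComplex.homologyMap (θ L E K) i))

/-- `Hom•(P, K)` is K-flat for `P` a K-projective perfect complex and `K` K-flat -/
theorem kfl_homCx (P K : DRing.Cx A) [P.IsKProjective] (hperf : DRing.IsPerfect A (DRing.toD P))
    (hK : KFl K) : KFl (DRing.homCx P K) := by
  obtain ⟨E, a, b, hE, hfp, ⟨e⟩⟩ := hperf
  haveI : E.IsKProjective :=
    Groth.Agent.Helper11.DC.isKProjective_of_vanishesAbove E b (fun i hi => hE i (Or.inr hi))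
      (fun i => (hfp i).2)
  obtain ⟨he⟩ := Groth.Agent.Helper11.Dev.nonempty_homotopyEquiv_of_Q_iso P E e.symm
  exact KFl.of_homotopyEquiv (homCxPreHomotopyEquiv he K) (kfl_homCx_of_perfect E a b hE hfp K hK)

theorem kfl_homCx_of_vanishesAbove (P K : DRing.Cx A) (b : ℤ) (hPb : DRing.VanishesAbove P b)
    (hPp : ∀ i : ℤ, Module.Projective A (P.X i)) (hperf : DRing.IsPerfect A (DRing.toD P))
    (hK : KFl K) : KFl (DRing.homCx P K) := by
  haveI : P.IsKProjective := Groth.Agent.Helper11.DC.isKProjective_of_vanishesAbove P b hPb hPp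
  exact kfl_homCx P K hperf hK

end Groth.Agent.Helper11.HomKFl
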