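import Mathlib

/-!
# `A_(𝔭) → A_𝔭` is cyclically pure

For an `ℕ`-graded ring `A` and a prime `𝔭`, every ideal `J` of the homogeneous localization
`A_(𝔭)` is contracted from its extension to `A_𝔭`.
(Helper lemma requested by helper12 for S14655.)
-/

set_option autoImplicit false
universe u

namespace Groth.Agent.Helper11.HomLocPure

open HomogeneousLocalization DirectSum

variable {A : Type u} [CommRing A] (𝒜 : ℕ → AddSubgroup A) [GradedRing 𝒜]
  (𝔭 : Ideal A) [𝔭.IsPrime] (J : Ideal (AtPrime 𝒜 𝔭))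

/-- The predicate defining the "homogeneous contraction" of `J` to `A`. -/
def P (a : A) : Prop :=
  ∀ (i e : ℕ) (c s : A), c ∈ 𝒜 e → s ∈ 𝒜 (e + i) → ∀ hsp : s ∈ 𝔭.primeCompl,
    ∀ z : AtPrime 𝒜 𝔭, z.val = Localization.mk (c * (decompose 𝒜 a i : A)) ⟨s, hsp⟩ → z ∈ J

lemma exists_frac {n : ℕ} {x s : A} (hx : x ∈ 𝒜 n) (hs : s ∈ 𝒜 n) (hsp : s ∈ 𝔭.primeCompl) :
    ∃ z : AtPrime 𝒜 𝔭, z.val = Localization.mk x ⟨s, hsp⟩ :=
  ⟨HomogeneousLocalization.mk ⟨n, ⟨x, hx⟩, ⟨s, hs⟩, hsp⟩, rfl⟩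

lemma P_zero : P 𝒜 𝔭 J 0 := by
  intro i e c s hc hs hsp z hz
  have : z = 0 := by
    apply HomogeneousLocalization.val_injective
    rw [hz, HomogeneousLocalization.val_zero]
    simp [Localization.mk_zero]
  rw [this]; exact J.zero_mem

lemma P_add {a b : A} (ha : P 𝒜 𝔭 J a) (hb : P 𝒜 𝔭 J b) : P 𝒜 𝔭 J (a + b) := by
  intro i e c s hc hs hsp z hz
  obtain ⟨z1, hz1⟩ := exists_frac 𝒜 𝔭 (x := c * (decompose 𝒜 a i : A))
    (SetLike.mul_mem_graded hc (SetLike.coe_mem _)) hs hsp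
  obtain ⟨z2, hz2⟩ := exists_frac 𝒜 𝔭 (x := c * (decompose 𝒜 b i : A))
    (SetLike.mul_mem_graded hc (SetLike.coe_mem _)) hs hsp
  have : z = z1 + z2 := by
    apply HomogeneousLocalization.val_injective
    rw [HomogeneousLocalization.val_add, hz, hz1, hz2, DirectSum.decompose_add,
      DirectSum.add_apply, AddMemClass.coe_add, mul_add, Localization.add_mk_self]
  rw [this]
  exact J.add_mem (ha i e c s hc hs hsp z1 hz1) (hb i e c s hc hs hsp z2 hz2)

lemma P_hom_mul {b a : A} {e' : ℕ} (hb : b ∈ 𝒜 e') (ha : P 𝒜 𝔭 J a) : P 𝒜 𝔭 J (b * a) := by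
  intro i e c s hc hs hsp z hz
  by_cases h : e' ≤ i
  · rw [DirectSum.coe_decompose_mul_of_left_mem_of_le 𝒜 hb h, ← mul_assoc] at hz
    refine ha (i - e') (e + e') (c * b) s (SetLike.mul_mem_graded hc hb) ?_ hsp z hz
    have : e + e' + (i - e') = e + i := by omega
    rw [this]; exact hs
  · rw [DirectSum.coe_decompose_mul_of_left_mem_of_not_le 𝒜 hb h] at hz
    have : z = 0 := by
      apply HomogeneousLocalization.val_injective
      rw [hz, HomogeneousLocalization.val_zero, mul_zero, Localization.mk_zero]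
    rw [this]; exact J.zero_mem

lemma P_mul (b : A) {a : A} (ha : P 𝒜 𝔭 J a) : P 𝒜 𝔭 J (b * a) := by
  refine DirectSum.Decomposition.inductionOn 𝒜 (motive := fun b => P 𝒜 𝔭 J (b * a)) ?_ ?_ ?_ b
  · rw [zero_mul]; exact P_zero 𝒜 𝔭 J
  · intro i m; exact P_hom_mul 𝒜 𝔭 J m.2 ha
  · intro x y hx hy; rw [add_mul]; exact P_add 𝒜 𝔭 J hx hy

/-- The homogeneous contraction of `J` to `A`, an ideal of `A`. -/
def contr : Ideal A where
  carrier := {a | P 𝒜 𝔭 J a}
  add_mem' := fun ha hb => P_add 𝒜 𝔭 J ha hb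
  zero_mem' := P_zero 𝒜 𝔭 J
  smul_mem' := fun b a ha => by
    show P 𝒜 𝔭 J (b • a)
    rw [smul_eq_mul]; exact P_mul 𝒜 𝔭 J b ha

lemma mem_contr {a : A} : a ∈ contr 𝒜 𝔭 J ↔ P 𝒜 𝔭 J a := Iff.rfl

lemma P_of_mem {n : ℕ} {x d : A} (hx : x ∈ 𝒜 n) (hd : d ∈ 𝒜 n) (hdp : d ∈ 𝔭.primeCompl)
    {j : AtPrime 𝒜 𝔭} (hj : j ∈ J) (hjv : j.val = Localization.mk x ⟨d, hdp⟩) :
    P 𝒜 𝔭 J x := by
  intro i e c s hc hs hsp z hz
  by_cases h : i = n
  · subst h
    rw [DirectSum.decompose_of_mem_same 𝒜 hx] at hz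
    obtain ⟨t, ht⟩ := exists_frac 𝒜 𝔭 (x := c * d) (SetLike.mul_mem_graded hc hd) hs hsp
    have : z = t * j := by
      apply HomogeneousLocalization.val_injective
      rw [HomogeneousLocalization.val_mul, hz, ht, hjv, Localization.mk_mul,
        Localization.mk_eq_mk_iff, Localization.r_iff_exists]
      refine ⟨1, ?_⟩
      simp only [Submonoid.coe_mul, OneMemClass.coe_one, one_mul]
      ring
    rw [this]; exact J.mul_mem_left _ hj
  · rw [DirectSum.decompose_of_mem_ne 𝒜 hx (fun h' => h h'.symm)] at hz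
    have : z = 0 := by
      apply HomogeneousLocalization.val_injective
      rw [hz, HomogeneousLocalization.val_zero, mul_zero, Localization.mk_zero]
    rw [this]; exact J.zero_mem

/-- `A_(𝔭) → A_𝔭` is cyclically pure: every ideal of the homogeneous localization at a prime is
contracted from its extension to the full localization. (The homogeneity hypothesis on `𝔭` is
not needed by the proof; it is kept to match the requested statement.) -/
theorem comap_map_val (_h𝔭 : 𝔭.IsHomogeneous 𝒜) :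
    (J.map (algebraMap (AtPrime 𝒜 𝔭) (Localization.AtPrime 𝔭))).comap
      (algebraMap (AtPrime 𝒜 𝔭) (Localization.AtPrime 𝔭)) = J := by
  refine le_antisymm ?_ Ideal.le_comap_map
  intro r hr
  rw [Ideal.mem_comap] at hr
  have hle : J.map (algebraMap (AtPrime 𝒜 𝔭) (Localization.AtPrime 𝔭)) ≤
      (contr 𝒜 𝔭 J).map (algebraMap A (Localization.AtPrime 𝔭)) := by
    rw [Ideal.map_le_iff_le_comap]
    intro j hj
    rw [Ideal.mem_comap]
    obtain ⟨⟨n, ⟨x, hx⟩, ⟨d, hd⟩, hdp⟩, rfl⟩ := HomogeneousLocalization.mk_surjective j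
    have hxI : x ∈ contr 𝒜 𝔭 J := P_of_mem 𝒜 𝔭 J hx hd hdp hj rfl
    rw [HomogeneousLocalization.algebraMap_apply, HomogeneousLocalization.val_mk,
      Localization.mk_eq_mk', IsLocalization.mk'_eq_mul_mk'_one]
    exact Ideal.mul_mem_right _ _ (Ideal.mem_map_of_mem _ hxI)
  have hr' := hle hr
  rw [IsLocalization.mem_map_algebraMap_iff 𝔭.primeCompl] at hr'
  obtain ⟨⟨⟨a, haI⟩, s⟩, hs⟩ := hr'
  obtain ⟨⟨d, ⟨α, hα⟩, ⟨σ, hσ⟩, hσp⟩, rfl⟩ := HomogeneousLocalization.mk_surjective r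
  rw [HomogeneousLocalization.algebraMap_apply, HomogeneousLocalization.val_mk,
    Localization.mk_eq_mk'] at hs
  have h1 : algebraMap A (Localization.AtPrime 𝔭) (α * s) =
      algebraMap A (Localization.AtPrime 𝔭) (a * σ) := by
    have h2 := IsLocalization.mk'_spec (Localization.AtPrime 𝔭) α ⟨σ, hσp⟩
    simp only at h2 hs
    rw [map_mul, map_mul, ← hs, ← h2]
    ring
  obtain ⟨u, hu⟩ := (IsLocalization.eq_iff_exists 𝔭.primeCompl _).mp h1
  set w : A := u * s with hw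
  have hwp : w ∈ 𝔭.primeCompl := 𝔭.primeCompl.mul_mem u.2 s.2
  obtain ⟨e, he⟩ : ∃ e, (decompose 𝒜 w e : A) ∉ 𝔭 := by
    classical
    by_contra hall
    push Not at hall
    apply hwp
    show w ∈ 𝔭
    rw [← DirectSum.sum_support_decompose 𝒜 w]
    exact Ideal.sum_mem _ (fun i _ => hall i)
  have heq : w * α = σ * (u * a) := by rw [hw]; linear_combination hu
  have hL : (decompose 𝒜 (w * α) (e + d) : A) = (decompose 𝒜 w e : A) * α :=
    DirectSum.coe_decompose_mul_add_of_right_mem 𝒜 hα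
  have hR : (decompose 𝒜 (σ * (u * a)) (e + d) : A) = σ * (decompose 𝒜 (u * a) e : A) := by
    rw [Nat.add_comm]; exact DirectSum.coe_decompose_mul_add_of_left_mem 𝒜 hσ
  have key : (decompose 𝒜 w e : A) * α = σ * (decompose 𝒜 (u * a) e : A) := by
    rw [← hL, ← hR, heq]
  have hP : P 𝒜 𝔭 J (u * a) := (contr 𝒜 𝔭 J).mul_mem_left u haI
  refine hP e d σ (σ * (decompose 𝒜 w e : A)) hσ
    (SetLike.mul_mem_graded hσ (SetLike.coe_mem _)) (𝔭.primeCompl.mul_mem hσp he) _ ?_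
  rw [HomogeneousLocalization.val_mk, Localization.mk_eq_mk_iff, Localization.r_iff_exists]
  refine ⟨1, ?_⟩
  simp only [OneMemClass.coe_one, one_mul]
  linear_combination σ * key

end Groth.Agent.Helper11.HomLocPure

namespace Groth.Agent.Helper11.HomLocPure

open HomogeneousLocalization in
/-- The same statement with the argument order requested by helper12. -/
theorem comap_map_val' {A : Type u} [CommRing A] (𝒜 : ℕ → AddSubgroup A) [GradedRing 𝒜]
    (𝔭 : Ideal A) [𝔭.IsPrime] (h𝔭 : 𝔭.IsHomogeneous 𝒜) (J : Ideal (AtPrime 𝒜 𝔭)) :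
    (J.map (algebraMap (AtPrime 𝒜 𝔭) (Localization.AtPrime 𝔭))).comap
      (algebraMap (AtPrime 𝒜 𝔭) (Localization.AtPrime 𝔭)) = J :=
  comap_map_val 𝒜 𝔭 J h𝔭

end Groth.Agent.Helper11.HomLocPure
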