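import Groth.Agent.S0307
import Groth.Agent.S0306
import Groth.Agent.S11661
import Groth.Agent.S0311
import Groth.Agent.S0314

/-!
# Modules finite over Artinian algebras (helper11)

`IsFinArt R N`: the `R`-module `N` is a finite module over some Artinian `R`-algebra.
-/

set_option autoImplicit false
set_option linter.unusedSectionVars false
set_option linter.unusedVariables false
set_option linter.style.haveILetI false

universe u

namespace Groth.Agent.Helper11.InjArt

/-- `N` is (compatibly) a finite module over an Artinian `R`-algebra -/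
def IsFinArt (R : Type u) [CommRing R] (N : Type u) [AddCommGroup N] [Module R N] : Prop :=
  ∃ (B : Type u) (_ : CommRing B) (_ : Algebra R B) (_ : IsArtinianRing B)
    (_ : Module B N) (_ : IsScalarTower R B N), Module.Finite B N

/-- transport of a module structure along an additive equivalence, keeping the additive structure
of the target -/
@[reducible] def moduleOfEquiv {B N N' : Type*} [Semiring B] [AddCommMonoid N] [AddCommMonoid N']
    [Module B N] (e : N ≃+ N') : Module B N' where
  smul b x := e (b • e.symm x)
  one_smul x := by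
    show e ((1 : B) • e.symm x) = x
    rw [one_smul, e.apply_symm_apply]
  mul_smul a b x := by
    show e ((a * b) • e.symm x) = e (a • e.symm (e (b • e.symm x)))
    rw [e.symm_apply_apply, mul_smul]
  smul_zero a := by
    show e (a • e.symm 0) = 0
    rw [map_zero, smul_zero, map_zero]
  smul_add a x y := by
    show e (a • e.symm (x + y)) = e (a • e.symm x) + e (a • e.symm y)
    rw [map_add, smul_add, map_add]
  add_smul a b x := by
    show e ((a + b) • e.symm x) = e (a • e.symm x) + e (b • e.symm x)
    rw [add_smul, map_add]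
  zero_smul x := by
    show e ((0 : B) • e.symm x) = 0
    rw [zero_smul, map_zero]

variable {R : Type u} [CommRing R]

theorem IsFinArt.of_linearEquiv {N N' : Type u} [AddCommGroup N] [Module R N] [AddCommGroup N']
    [Module R N'] (e : N ≃ₗ[R] N') (h : IsFinArt R N) : IsFinArt R N' := by
  obtain ⟨B, _, _, _, _, _, hfin⟩ := h
  letI : Module B N' := moduleOfEquiv e.toAddEquiv
  have hsm : ∀ (b : B) (x : N'), b • x = e (b • e.symm x) := fun _ _ => rfl
  refine ⟨B, inferInstance, inferInstance, inferInstance, inferInstance, ?_, ?_⟩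
  · refine ⟨fun a b x => ?_⟩
    rw [hsm, hsm, smul_assoc, map_smul]
  · let eB : N ≃ₗ[B] N' :=
      { e.toAddEquiv with
        map_smul' := fun b x => by
          show e (b • x) = b • e x
          rw [hsm, e.symm_apply_apply] }
    exact Module.Finite.equiv eB

theorem IsFinArt.pi {ι : Type u} [Finite ι] (N : ι → Type u) [∀ i, AddCommGroup (N i)]
    [∀ i, Module R (N i)] (h : ∀ i, IsFinArt R (N i)) : IsFinArt R (∀ i, N i) := by
  classical
  choose B cr alg art mod tower fin using h
  letI mi : ∀ i, Module (∀ j, B j) (N i) :=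
    fun i => Module.compHom (N i) (Pi.evalRingHom B i)
  have hsm : ∀ (i : ι) (b : ∀ j, B j) (x : N i), b • x = b i • x := fun _ _ _ => rfl
  haveI ti : ∀ i, IsScalarTower R (∀ j, B j) (N i) := fun i =>
    ⟨fun a b x => by
      rw [hsm, hsm, Pi.smul_apply, smul_assoc]⟩
  haveI fi : ∀ i, Module.Finite (∀ j, B j) (N i) := fun i => by
    obtain ⟨s, hs⟩ := (fin i).fg_top
    refine ⟨⟨s, ?_⟩⟩
    rw [eq_top_iff]
    intro x _
    have hx : x ∈ Submodule.span (B i) (s : Set (N i)) := hs ▸ Submodule.mem_top
    induction hx using Submodule.span_induction with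
    | mem y hy => exact Submodule.subset_span hy
    | zero => exact Submodule.zero_mem _
    | add y z _ _ hy hz => exact Submodule.add_mem _ (hy trivial) (hz trivial)
    | smul b y _ hy =>
      have h1 : b • y = (Pi.single i b : ∀ j, B j) • y := by
        rw [hsm, Pi.single_eq_same]
      rw [h1]
      exact Submodule.smul_mem _ _ (hy trivial)
  refine ⟨∀ j, B j, inferInstance, inferInstance, inferInstance, Pi.module ι N (∀ j, B j), ?_, ?_⟩
  · exact Pi.isScalarTower
  · exact Module.Finite.pi

section Local

open IsLocalRing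

variable {R' : Type u} [CommRing R'] [IsLocalRing R'] [IsNoetherianRing R']

theorem isArtinianRing_quot_pow (n : ℕ) :
    IsArtinianRing (R' ⧸ (maximalIdeal R') ^ (n + 1)) := by
  rw [isArtinianRing_iff_krullDimLE_zero]
  refine Ring.KrullDimLE.mk₀ (fun P hP => ?_)
  have hsurj : Function.Surjective (Ideal.Quotient.mk ((maximalIdeal R') ^ (n + 1))) :=
    Ideal.Quotient.mk_surjective
  haveI hQ : (P.comap (Ideal.Quotient.mk ((maximalIdeal R') ^ (n + 1)))).IsPrime :=
    Ideal.comap_isPrime _ P
  have hle : maximalIdeal R' ≤ P.comap (Ideal.Quotient.mk ((maximalIdeal R') ^ (n + 1))) := by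
    apply Ideal.IsPrime.le_of_pow_le (n := n + 1)
    intro x hx
    rw [Ideal.mem_comap, Ideal.Quotient.eq_zero_iff_mem.mpr hx]
    exact Ideal.zero_mem _
  have hEq : maximalIdeal R' = P.comap (Ideal.Quotient.mk ((maximalIdeal R') ^ (n + 1))) :=
    (maximalIdeal.isMaximal R').eq_of_le hQ.ne_top hle
  have hmax : (P.comap (Ideal.Quotient.mk ((maximalIdeal R') ^ (n + 1)))).IsMaximal := by
    rw [← hEq]
    exact maximalIdeal.isMaximal R'
  rcases Ideal.map_eq_top_or_isMaximal_of_surjective _ hsurj hmax with h | h
  · rw [Ideal.map_comap_of_surjective _ hsurj] at h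
    exact absurd h hP.ne_top
  · rwa [Ideal.map_comap_of_surjective _ hsurj] at h

theorem isFinArt_torsion_of_hull {E : Type u} [AddCommGroup E] [Module R' E]
    {f : ResidueField R' →ₗ[R'] E} (hf : InjHull.IsInjectiveHull f) (n : ℕ) :
    IsFinArt R' ↥(Submodule.torsionBySet R' E
      (((maximalIdeal R') ^ (n + 1) : Ideal R') : Set R')) := by
  haveI := isArtinianRing_quot_pow (R' := R') n
  haveI : IsArtinian R' E := Groth.Agent.S0314.result R' E f hf
  haveI h1 : IsArtinian R' ↥(Submodule.torsionBySet R' E
      (((maximalIdeal R') ^ (n + 1) : Ideal R') : Set R')) := inferInstance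
  haveI h2 : IsArtinian (R' ⧸ (maximalIdeal R') ^ (n + 1)) ↥(Submodule.torsionBySet R' E
      (((maximalIdeal R') ^ (n + 1) : Ideal R') : Set R')) := isArtinian_of_tower R' h1
  haveI h3 : IsNoetherian (R' ⧸ (maximalIdeal R') ^ (n + 1)) ↥(Submodule.torsionBySet R' E
      (((maximalIdeal R') ^ (n + 1) : Ideal R') : Set R')) :=
    IsSemiprimaryRing.isNoetherian_iff_isArtinian.mpr h2
  exact ⟨R' ⧸ (maximalIdeal R') ^ (n + 1), inferInstance, inferInstance, inferInstance,
    inferInstance, inferInstance, inferInstance⟩

end Local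

theorem IsFinArt.restrictScalars {R R' : Type u} [CommRing R] [CommRing R'] [Algebra R R']
    (N : Type u) [AddCommGroup N] [Module R N] [Module R' N] [IsScalarTower R R' N]
    (h : IsFinArt R' N) : IsFinArt R N := by
  obtain ⟨B, _, _, _, _, _, hfin⟩ := h
  letI : Algebra R B := ((algebraMap R' B).comp (algebraMap R R')).toAlgebra
  have halg : ∀ a : R, algebraMap R B a = algebraMap R' B (algebraMap R R' a) := fun _ => rfl
  refine ⟨B, inferInstance, inferInstance, inferInstance, inferInstance, ?_, hfin⟩
  refine ⟨fun a b x => ?_⟩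
  rw [Algebra.smul_def, halg, mul_smul, algebraMap_smul, algebraMap_smul]

theorem isInjectiveHull_comp_equiv {R : Type u} [CommRing R] {M M' E : Type u} [AddCommGroup M]
    [Module R M] [AddCommGroup M'] [Module R M'] [AddCommGroup E] [Module R E]
    (e : M' ≃ₗ[R] M) {g : M →ₗ[R] E} (hg : InjHull.IsInjectiveHull g) :
    InjHull.IsInjectiveHull (g ∘ₗ e.toLinearMap) := by
  refine ⟨⟨hg.injective.comp e.injective, fun N hN => ?_⟩, hg.isInjective⟩
  have h1 : LinearMap.range (g ∘ₗ e.toLinearMap) = LinearMap.range g := by
    rw [LinearMap.range_comp, LinearEquiv.range, Submodule.map_top]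
  rw [h1]
  exact hg.essential N hN

section Indec

variable {R : Type u} [CommRing R] [IsNoetherianRing R]

theorem exists_hull_quotient_of_indecomposable (E : Type u) [AddCommGroup E] [Module R E]
    (hE : InjHull.IsIndecomposable R E) (hinj : Module.Injective R E) :
    ∃ (p : Ideal R) (_ : p.IsPrime) (f : (R ⧸ p) →ₗ[R] E), InjHull.IsInjectiveHull f := by
  have := hE.1
  obtain ⟨x, hx⟩ := exists_ne (0 : E)
  obtain ⟨P, hP, -⟩ := exists_le_isAssociatedPrime_of_isNoetherianRing R x hx
  obtain ⟨hPprime, y, hy⟩ := isAssociatedPrime_iff.mp hP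
  have hyann : ∀ r : R, r • y = 0 ↔ r ∈ P := by
    intro r
    rw [hy, Submodule.mem_colon_singleton, Submodule.mem_bot]
  have hy0 : y ≠ 0 := by
    intro h
    have h1 : (1 : R) ∈ P := (hyann 1).mp (by rw [h, smul_zero])
    exact hPprime.ne_top ((Ideal.eq_top_iff_one _).mpr h1)
  have hN : Submodule.span R {y} ≠ ⊥ := by
    rw [Ne, Submodule.span_singleton_eq_bot]
    exact hy0
  have hess := Groth.Agent.Helper1.essIn_top_of_indecomposable hE hinj _ hN
  obtain ⟨f, hf, -⟩ := Groth.Agent.Helper1.isInjectiveHull_of_cyclic hinj P y hyann (by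
    intro z hz
    obtain ⟨r, hr, hr0⟩ := hess z Submodule.mem_top hz
    obtain ⟨a, ha⟩ := Submodule.mem_span_singleton.mp hr
    refine ⟨r, a, ha.symm, fun haP => hr0 ?_⟩
    rw [← ha]
    exact (hyann a).mpr haP)
  exact ⟨P, hPprime, f, hf⟩

open IsLocalRing in
/-- the structure of an indecomposable injective module over a Noetherian ring: it is `p`-power
torsion for a prime `p`, and its `p^(n+1)`-torsion is finite over the Artinian ring
`R_p / p^(n+1) R_p` -/
theorem exists_prime_torsion_finArt (E : Type u) [AddCommGroup E] [Module R E]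
    (hE : InjHull.IsIndecomposable R E) (hinj : Module.Injective R E) :
    ∃ p : Ideal R, p.IsPrime ∧ (∀ x : E, ∃ n : ℕ, ∀ a ∈ p ^ (n + 1), a • x = 0) ∧
      ∀ n : ℕ, IsFinArt R ↥(Submodule.torsionBySet R E ((p ^ (n + 1) : Ideal R) : Set R)) := by
  obtain ⟨p, hp, f, hf⟩ := exists_hull_quotient_of_indecomposable E hE hinj
  haveI := hp
  have hdisj : Disjoint (p : Set R) (p.primeCompl : Set R) := by
    rw [Set.disjoint_left]
    intro a ha ha'
    exact ha' ha
  obtain ⟨hbij, g, hg⟩ := (Groth.Agent.S11661.result R p.primeCompl p E f hf).2 hdisj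
  have hm : p.map (algebraMap R (Localization.AtPrime p)) =
      maximalIdeal (Localization.AtPrime p) := Localization.AtPrime.map_eq_maximalIdeal
  let eq : (Localization.AtPrime p ⧸ maximalIdeal (Localization.AtPrime p))
      ≃ₗ[Localization.AtPrime p]
      (Localization.AtPrime p ⧸ p.map (algebraMap R (Localization.AtPrime p))) :=
    Submodule.quotEquivOfEq _ _ hm.symm
  have hg' : InjHull.IsInjectiveHull
      ((g ∘ₗ eq.toLinearMap : ResidueField (Localization.AtPrime p) →ₗ[Localization.AtPrime p]
        LocalizedModule p.primeCompl E)) := isInjectiveHull_comp_equiv eq hg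
  have hpow : ∀ (n : ℕ) (a : R), a ∈ p ^ n →
      algebraMap R (Localization.AtPrime p) a ∈ maximalIdeal (Localization.AtPrime p) ^ n := by
    intro n a ha
    rw [← hm, ← Ideal.map_pow]
    exact Ideal.mem_map_of_mem _ ha
  have hφ : ∀ (a : R) (x : E), algebraMap R (Localization.AtPrime p) a •
      LocalizedModule.mkLinearMap p.primeCompl E x =
      LocalizedModule.mkLinearMap p.primeCompl E (a • x) := by
    intro a x
    rw [algebraMap_smul, map_smul]
  have hinjφ : ∀ x : E, LocalizedModule.mkLinearMap p.primeCompl E x = 0 → x = 0 := by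
    intro x hx
    exact hbij.1 (hx.trans (map_zero _).symm)
  refine ⟨p, hp, ?_, ?_⟩
  · intro x
    obtain ⟨n, hn⟩ := Groth.Agent.S0311.result (Localization.AtPrime p)
      (LocalizedModule p.primeCompl E) _ hg' (LocalizedModule.mkLinearMap p.primeCompl E x)
    refine ⟨n, fun a ha => hinjφ _ ?_⟩
    rw [← hφ]
    exact hn _ (hpow n a (Ideal.pow_le_pow_right (Nat.le_succ n) ha))
  · intro n
    have h1 := isFinArt_torsion_of_hull hg' n
    have h2 := IsFinArt.restrictScalars (R := R) _ h1
    -- the equivalence between the torsion submodules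
    have hmem : ∀ x : E, x ∈ Submodule.torsionBySet R E ((p ^ (n + 1) : Ideal R) : Set R) →
        LocalizedModule.mkLinearMap p.primeCompl E x ∈
          Submodule.torsionBySet (Localization.AtPrime p) (LocalizedModule p.primeCompl E)
            ((maximalIdeal (Localization.AtPrime p) ^ (n + 1) :
              Ideal (Localization.AtPrime p)) : Set (Localization.AtPrime p)) := by
      intro x hx
      rw [Submodule.mem_torsionBySet_iff]
      rintro ⟨b, hb⟩
      show b • LocalizedModule.mkLinearMap p.primeCompl E x = 0
      have hb' : b ∈ Ideal.map (algebraMap R (Localization.AtPrime p)) (p ^ (n + 1)) := by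
        rw [Ideal.map_pow, hm]
        exact hb
      clear hb
      rw [Ideal.map] at hb'
      induction hb' using Submodule.span_induction with
      | mem c hc =>
        obtain ⟨a, ha, rfl⟩ := hc
        rw [hφ]
        have : a • x = 0 := (Submodule.mem_torsionBySet_iff _ _).mp hx ⟨a, ha⟩
        rw [this, map_zero]
      | zero => rw [zero_smul]
      | add c d _ _ hc hd => rw [add_smul, hc, hd, add_zero]
      | smul r c _ hc => rw [smul_eq_mul, mul_smul, hc, smul_zero]
    let ψ : ↥(Submodule.torsionBySet R E ((p ^ (n + 1) : Ideal R) : Set R)) →ₗ[R]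
        ↥(Submodule.torsionBySet (Localization.AtPrime p) (LocalizedModule p.primeCompl E)
            ((maximalIdeal (Localization.AtPrime p) ^ (n + 1) :
              Ideal (Localization.AtPrime p)) : Set (Localization.AtPrime p))) :=
      { toFun := fun x => ⟨LocalizedModule.mkLinearMap p.primeCompl E x.1, hmem x.1 x.2⟩
        map_add' := fun x y => Subtype.ext (map_add _ _ _)
        map_smul' := fun a x => Subtype.ext (map_smul _ _ _) }
    have hψ : Function.Bijective ψ := by
      constructor
      · intro x y hxy
        have h3 : LocalizedModule.mkLinearMap p.primeCompl E x.1 =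
            LocalizedModule.mkLinearMap p.primeCompl E y.1 := congrArg Subtype.val hxy
        exact Subtype.ext (hbij.1 h3)
      · intro y
        obtain ⟨x, hx⟩ := hbij.2 y.1
        have hxT : x ∈ Submodule.torsionBySet R E ((p ^ (n + 1) : Ideal R) : Set R) := by
          rw [Submodule.mem_torsionBySet_iff]
          rintro ⟨a, ha⟩
          show a • x = 0
          apply hinjφ
          rw [← hφ, hx]
          exact (Submodule.mem_torsionBySet_iff _ _).mp y.2 ⟨_, hpow (n + 1) a ha⟩
        exact ⟨⟨x, hxT⟩, Subtype.ext hx⟩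
    exact IsFinArt.of_linearEquiv (LinearEquiv.ofBijective ψ hψ).symm h2

end Indec

end Groth.Agent.Helper11.InjArt
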