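import Groth.Agent.Lib.Helper11.InjArt1

/-!
# Injective modules over Noetherian rings as filtered colimits of modules finite over Artinian
algebras (helper11)
-/

set_option autoImplicit false
set_option linter.unusedSectionVars false
set_option linter.unusedVariables false
set_option linter.style.haveILetI false

universe u

open CategoryTheory CategoryTheory.Limits

namespace Groth.Agent.Helper11.InjArt

section Union

variable {R : Type u} [CommRing R] {J : Type u} [AddCommGroup J] [Module R J]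

/-- a module which is a directed union of submodules with property `IsFinArt` is a filtered colimit
of such modules -/
theorem exists_filtered_colimit_of_directed_union {κ : Type u} [SemilatticeSup κ] [Nonempty κ]
    (NN : κ → Submodule R J) (hmono : Monotone NN) (hcov : ∀ y : J, ∃ k, y ∈ NN k)
    (hfa : ∀ k, IsFinArt R ↥(NN k)) :
    ∃ (ι : Type u) (_ : SmallCategory ι) (_ : IsFiltered ι) (D : ι ⥤ ModuleCat.{u} R)
      (c : Cocone D) (_ : IsColimit c), Nonempty (c.pt ≅ ModuleCat.of R J) ∧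
      ∀ i : ι, ∃ (B : Type u) (_ : CommRing B) (_ : Algebra R B) (_ : IsArtinianRing B)
        (_ : Module B (D.obj i)) (_ : IsScalarTower R B (D.obj i)), Module.Finite B (D.obj i) := by
  classical
  let G : κ → Type u := fun k => ↥(NN k)
  let f : ∀ i j, i ≤ j → G i →ₗ[R] G j := fun i j h => Submodule.inclusion (hmono h)
  haveI : DirectedSystem G fun i j h => f i j h :=
    ⟨fun i x => Subtype.ext rfl, fun k j i hij hjk x => Subtype.ext rfl⟩
  let L : Module.DirectLimit G f →ₗ[R] J :=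
    Module.DirectLimit.lift R κ G f (fun k => (NN k).subtype) (fun i j hij x => rfl)
  have hLinj : Function.Injective L :=
    Module.DirectLimit.lift_injective (R := R) (ι := κ) (G := G) (f := f)
      (fun k => (NN k).subtype) (fun i j hij x => rfl) (fun k => Submodule.injective_subtype _)
  have hLsurj : Function.Surjective L := by
    intro y
    obtain ⟨k, hk⟩ := hcov y
    exact ⟨Module.DirectLimit.of R κ G f k ⟨y, hk⟩, Module.DirectLimit.lift_of _ _ _⟩
  refine ⟨κ, inferInstance, inferInstance, ModuleCat.directLimitDiagram G f,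
    ModuleCat.directLimitCocone G f, ModuleCat.directLimitIsColimit G f,
    ⟨(LinearEquiv.ofBijective L ⟨hLinj, hLsurj⟩).toModuleIso⟩, fun k => hfa k⟩

end Union

section Decomp

variable {R : Type u} [CommRing R] {J : Type u} [AddCommGroup J] [Module R J]
  {ι : Type u} [DecidableEq ι] (E : ι → Submodule R J) (p : ι → Ideal R)

/-- the `p_i^(n+1)`-torsion of `E i` -/
def T (n : ℕ) (i : ι) : Submodule R ↥(E i) :=
  Submodule.torsionBySet R ↥(E i) ((p i ^ (n + 1) : Ideal R) : Set R)

theorem T_mono {n n' : ℕ} (h : n ≤ n') (i : ι) : T E p n i ≤ T E p n' i := by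
  intro x hx
  rw [T, Submodule.mem_torsionBySet_iff] at hx ⊢
  rintro ⟨a, ha⟩
  exact hx ⟨a, Ideal.pow_le_pow_right (Nat.succ_le_succ h) ha⟩

/-- the sum map -/
noncomputable def sig (n : ℕ) (F : Finset ι) : (∀ i : ↥F, ↥(T E p n i.1)) →ₗ[R] J :=
  ∑ i : ↥F, (E i.1).subtype ∘ₗ (T E p n i.1).subtype ∘ₗ LinearMap.proj i

theorem sig_apply (n : ℕ) (F : Finset ι) (x : ∀ i : ↥F, ↥(T E p n i.1)) :
    sig E p n F x = ∑ i : ↥F, ((x i : ↥(E i.1)) : J) := by
  simp [sig, LinearMap.sum_apply]

/-- the finite partial sums of the torsion pieces -/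
noncomputable def NN (nF : ℕ × Finset ι) : Submodule R J := LinearMap.range (sig E p nF.1 nF.2)

theorem mem_NN_of_mem (n : ℕ) (F : Finset ι) (i : ι) (hi : i ∈ F) (x : ↥(E i))
    (hx : x ∈ T E p n i) : (x : J) ∈ NN E p (n, F) := by
  refine ⟨Pi.single (⟨i, hi⟩ : ↥F) ⟨x, hx⟩, ?_⟩
  rw [sig_apply, Finset.sum_eq_single (⟨i, hi⟩ : ↥F)]
  · rw [Pi.single_eq_same]
  · intro j _ hj
    rw [Pi.single_eq_of_ne hj]
    rfl
  · intro h
    exact absurd (Finset.mem_univ _) h

theorem NN_mono : Monotone (NN E p) := by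
  intro a b hab y hy
  obtain ⟨n, F⟩ := a
  obtain ⟨n', F'⟩ := b
  obtain ⟨hn, hF⟩ := Prod.mk_le_mk.mp hab
  obtain ⟨x, rfl⟩ := hy
  rw [sig_apply]
  refine Submodule.sum_mem _ (fun i _ => ?_)
  exact mem_NN_of_mem E p n' F' i.1 (hF i.2) (x i).1 (T_mono E p hn i.1 (x i).2)

theorem sig_injective (hind : iSupIndep E) (n : ℕ) (F : Finset ι) :
    Function.Injective (sig E p n F) := by
  intro x y hxy
  rw [sig_apply, sig_apply] at hxy
  let v : ι → J := fun i => if h : i ∈ F then ((x ⟨i, h⟩ : ↥(E i)) : J) else 0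
  let w : ι → J := fun i => if h : i ∈ F then ((y ⟨i, h⟩ : ↥(E i)) : J) else 0
  have hv : ∀ i : ↥F, v i.1 = ((x i : ↥(E i.1)) : J) := fun i => by
    simp only [v]
    rw [dif_pos i.2]
  have hw : ∀ i : ↥F, w i.1 = ((y i : ↥(E i.1)) : J) := fun i => by
    simp only [w]
    rw [dif_pos i.2]
  have hsum : ∑ i ∈ F, v i = ∑ i ∈ F, w i := by
    rw [← Finset.sum_coe_sort F v, ← Finset.sum_coe_sort F w]
    simp only [hv, hw]
    exact hxy
  have key := (iSupIndep_iff_finsetSum_eq_imp_eq E).mp hind F v w (fun i hi => by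
    constructor
    · simp only [v]
      rw [dif_pos hi]
      exact (x ⟨i, hi⟩).1.2
    · simp only [w]
      rw [dif_pos hi]
      exact (y ⟨i, hi⟩).1.2) hsum
  funext i
  apply Subtype.ext
  apply Subtype.ext
  rw [← hv i, ← hw i]
  exact key i.1 i.2

theorem exists_mem_NN (hsup : ⨆ i, E i = ⊤)
    (htors : ∀ (i : ι) (x : ↥(E i)), ∃ n : ℕ, x ∈ T E p n i) (y : J) :
    ∃ k, y ∈ NN E p k := by
  have hy : y ∈ ⨆ i, E i := hsup ▸ Submodule.mem_top
  induction hy using Submodule.iSup_induction' with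
  | mem i x hx =>
    obtain ⟨n, hn⟩ := htors i ⟨x, hx⟩
    exact ⟨(n, {i}), mem_NN_of_mem E p n {i} i (Finset.mem_singleton_self i) ⟨x, hx⟩ hn⟩
  | zero => exact ⟨(0, ∅), Submodule.zero_mem _⟩
  | add x y _ _ hx hy =>
    obtain ⟨a, ha⟩ := hx
    obtain ⟨b, hb⟩ := hy
    exact ⟨a ⊔ b, Submodule.add_mem _ (NN_mono E p le_sup_left ha)
      (NN_mono E p le_sup_right hb)⟩

theorem isFinArt_NN (hind : iSupIndep E) (hfa : ∀ (n : ℕ) (i : ι), IsFinArt R ↥(T E p n i))
    (k : ℕ × Finset ι) : IsFinArt R ↥(NN E p k) :=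
  IsFinArt.of_linearEquiv
    (LinearEquiv.ofInjective (sig E p k.1 k.2) (sig_injective E p hind k.1 k.2))
    (IsFinArt.pi (fun i : ↥k.2 => ↥(T E p k.1 i.1)) (fun i => hfa k.1 i.1))

end Decomp

/-- **S10787** -/
theorem S10787_statement (A : Type u) [CommRing A] [IsNoetherianRing A]
    (J : Type u) [AddCommGroup J] [Module A J] [Module.Injective A J] :
    ∃ (ι : Type u) (_ : SmallCategory ι) (_ : IsFiltered ι) (D : ι ⥤ ModuleCat.{u} A)
      (c : Cocone D) (_ : IsColimit c), Nonempty (c.pt ≅ ModuleCat.of A J) ∧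
      ∀ i : ι, ∃ (B : Type u) (_ : CommRing B) (_ : Algebra A B) (_ : IsArtinianRing B)
        (_ : Module B (D.obj i)) (_ : IsScalarTower A B (D.obj i)), Module.Finite B (D.obj i) := by
  classical
  obtain ⟨ι, E, hint, hE⟩ := Groth.Agent.S0307.result A J inferInstance
  have h := fun i => exists_prime_torsion_finArt ↥(E i) (hE i).1 (hE i).2
  choose p hp htors hfa using h
  refine exists_filtered_colimit_of_directed_union (NN E p) (NN_mono E p)
    (exists_mem_NN E p hint.submodule_iSup_eq_top (fun i x => ?_))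
    (isFinArt_NN E p hint.submodule_iSupIndep (fun n i => hfa i n))
  obtain ⟨n, hn⟩ := htors i x
  refine ⟨n, ?_⟩
  rw [T, Submodule.mem_torsionBySet_iff]
  rintro ⟨a, ha⟩
  exact hn a ha

end Groth.Agent.Helper11.InjArt
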