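import Groth.Agent.Lib.Helper11.MinCx4
import Groth.Agent.Lib.Helper11.LTen3
import Groth.Agent.Lib.Helper11.MPC12
import Groth.Agent.Lib.Helper3.KP1

/-!
# Tensor-invertible complexes over a Noetherian local ring (helper11)

If `L ⊗^L E ≅ A` over a Noetherian local ring `A`, with `L`, `E` bounded above with finite
cohomology, then `L ≅ A[n]` and `E ≅ A[-n]`.  The proof uses minimal complexes.
-/

set_option autoImplicit false

open CategoryTheory CategoryTheory.Limits MonoidalCategory HomologicalComplex TensorProduct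

universe u

attribute [local instance] HasDerivedCategory.standard

namespace Groth.Agent.Helper11.InvCx

open Groth.Agent.Helper5.KF Groth.Agent.Helper11.DC

section General

variable {A : Type u} [CommRing A]

theorem map_mem_smul_top (I : Ideal A) {N T : Type u} [AddCommGroup N] [Module A N]
    [AddCommGroup T] [Module A T] (h : N →ₗ[A] T) {w : N}
    (hw : w ∈ I • (⊤ : Submodule A N)) : h w ∈ I • (⊤ : Submodule A T) := by
  have h1 : (I • (⊤ : Submodule A N)).map h ≤ I • ⊤ := by
    rw [Submodule.map_smul'']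
    exact Submodule.smul_mono le_rfl le_top
  exact h1 (Submodule.mem_map_of_mem hw)

theorem whiskerRight_comp_mkQ (I : Ideal A) {M N N' T : ModuleCat.{u} A} (f : M ⟶ N)
    (hf : LinearMap.range f.hom ≤ I • (⊤ : Submodule A N)) (g : N ⊗ N' ⟶ T) (S : Submodule A T)
    (hS : I • ⊤ ≤ S) : (f ▷ N') ≫ g ≫ ModuleCat.ofHom S.mkQ = 0 := by
  refine ModuleCat.hom_ext (TensorProduct.ext' fun u v => ?_)
  show S.mkQ (g.hom (f.hom u ⊗ₜ[A] v)) = 0
  rw [Submodule.mkQ_apply, Submodule.Quotient.mk_eq_zero]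
  exact hS (map_mem_smul_top I (g.hom ∘ₗ (TensorProduct.mk A N N').flip v) (hf ⟨u, rfl⟩))

theorem whiskerLeft_comp_mkQ (I : Ideal A) {M N N' T : ModuleCat.{u} A} (f : M ⟶ N)
    (hf : LinearMap.range f.hom ≤ I • (⊤ : Submodule A N)) (g : N' ⊗ N ⟶ T) (S : Submodule A T)
    (hS : I • ⊤ ≤ S) : (N' ◁ f) ≫ g ≫ ModuleCat.ofHom S.mkQ = 0 := by
  refine ModuleCat.hom_ext (TensorProduct.ext' fun v u => ?_)
  show S.mkQ (g.hom (v ⊗ₜ[A] f.hom u)) = 0
  rw [Submodule.mkQ_apply, Submodule.Quotient.mk_eq_zero]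
  exact hS (map_mem_smul_top I (g.hom ∘ₗ (TensorProduct.mk A N' N v)) (hf ⟨u, rfl⟩))

/-- the tensor product of two complexes with differentials in `I` has differentials in `I` -/
theorem tensor_min (I : Ideal A) (K L : DRing.Cx A)
    (hK : ∀ i j, LinearMap.range (K.d i j).hom ≤ I • (⊤ : Submodule A (K.X j)))
    (hL : ∀ i j, LinearMap.range (L.d i j).hom ≤ I • (⊤ : Submodule A (L.X j))) (n n' : ℤ) :
    LinearMap.range ((K ⊗ L).d n n').hom ≤ I • (⊤ : Submodule A ((K ⊗ L).X n')) := by
  by_cases hn : n + 1 = n'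
  · set S : Submodule A ((K ⊗ L).X n') := I • ⊤ with hS
    let f : (K ⊗ L).X n' ⟶ ModuleCat.of A (((K ⊗ L).X n') ⧸ S) := ModuleCat.ofHom S.mkQ
    have h0 : (K ⊗ L).d n n' ≫ f = 0 := by
      apply hom_ext'
      intro p q hpq
      have e1 : (K.d p (p + 1) ▷ L.X q) ≫ ι K L (p + 1) q n' (by omega) ≫ f = 0 :=
        whiskerRight_comp_mkQ I _ (hK _ _) _ S le_rfl
      have e2 : (K.X p ◁ L.d q (q + 1)) ≫ ι K L p (q + 1) n' (by omega) ≫ f = 0 :=
        whiskerLeft_comp_mkQ I _ (hL _ _) _ S le_rfl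
      rw [comp_zero, ι_d_assoc K L p q n hpq n' hn (p + 1) (q + 1) rfl rfl, Preadditive.add_comp,
        Category.assoc, Linear.units_smul_comp, Category.assoc, e1, e2, smul_zero, add_zero]
    rintro _ ⟨z, rfl⟩
    have h1 : S.mkQ (((K ⊗ L).d n n').hom z) = 0 := app h0 z
    rwa [Submodule.mkQ_apply, Submodule.Quotient.mk_eq_zero] at h1
  · have hsh : (K ⊗ L).d n n' = 0 := (K ⊗ L).shape n n' hn
    rw [hsh, ModuleCat.hom_zero, LinearMap.range_zero]
    exact bot_le

/-- the unit complex `A[0]` -/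
noncomputable abbrev U (A : Type u) [CommRing A] : DRing.Cx A :=
  (HomologicalComplex.single (ModuleCat.{u} A) (ComplexShape.up ℤ) 0).obj (ModuleCat.of A A)

theorem U_isZero (i : ℤ) (hi : i ≠ 0) : IsZero ((U A).X i) :=
  isZero_single_obj_X _ _ _ _ hi

/-- the degree zero term of the unit complex -/
noncomputable def U_X0 : (U A).X 0 ≃ₗ[A] A :=
  (HomologicalComplex.singleObjXSelf (ComplexShape.up ℤ) 0 (ModuleCat.of A A)).toLinearEquiv

theorem U_fin_proj (i : ℤ) : Module.Finite A ((U A).X i) ∧ Module.Projective A ((U A).X i) := by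
  by_cases hi : i = 0
  · subst hi
    exact ⟨Module.Finite.equiv (U_X0 (A := A)).symm,
      Module.Projective.of_equiv (U_X0 (A := A)).symm⟩
  · haveI := ModuleCat.subsingleton_of_isZero (U_isZero (A := A) i hi)
    exact ⟨inferInstance, inferInstance⟩

theorem U_min (I : Ideal A) (i j : ℤ) :
    LinearMap.range ((U A).d i j).hom ≤ I • (⊤ : Submodule A ((U A).X j)) := by
  have h : (U A).d i j = 0 := rfl
  rw [h, ModuleCat.hom_zero, LinearMap.range_zero]
  exact bot_le

/-- a complex concentrated in one degree with term `A` is a shift of `A` -/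
theorem nonempty_iso_shift_of_concentrated (P : DRing.Cx A) (p : ℤ)
    (hz : ∀ i : ℤ, i ≠ p → IsZero (P.X i)) (e : P.X p ≃ₗ[A] A) :
    Nonempty (DRing.toD P ≅ (Dual.inD A A)⟦-p⟧) := by
  haveI : P.IsStrictlyGE p := by
    rw [CochainComplex.isStrictlyGE_iff]
    intro i hi
    exact hz i (by omega)
  haveI : P.IsStrictlyLE p := by
    rw [CochainComplex.isStrictlyLE_iff]
    intro i hi
    exact hz i (by omega)
  obtain ⟨M, ⟨eM⟩⟩ := CochainComplex.exists_iso_single P p
  let e1 : P.X p ≅ M := (HomologicalComplex.eval _ _ p).mapIso eM ≪≫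
    HomologicalComplex.singleObjXSelf (ComplexShape.up ℤ) p M
  let e2 : M ≅ ModuleCat.of A A := e1.symm ≪≫ e.toModuleIso
  let e3 : P ≅ (HomologicalComplex.single (ModuleCat.{u} A) (ComplexShape.up ℤ) p).obj
      (ModuleCat.of A A) := eM ≪≫ (HomologicalComplex.single _ _ p).mapIso e2
  exact ⟨DerivedCategory.Q.mapIso e3 ≪≫
    ((DerivedCategory.singleFunctorIsoCompQ (ModuleCat.{u} A) p).app (ModuleCat.of A A)).symm ≪≫
    (((DerivedCategory.singleFunctors (ModuleCat.{u} A)).shiftIso (-p) p 0 (by omega)).app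
      (ModuleCat.of A A)).symm⟩

end General

section Local

variable {A : Type u} [CommRing A] [IsLocalRing A] [IsNoetherianRing A]

/-- existence of a minimal representative -/
theorem exists_minRep (K : Dual.D A) (hfin : ∀ i : ℤ, Module.Finite A (Dual.HD A K i))
    (hbdd : ∃ b : ℤ, ∀ i : ℤ, b < i → Subsingleton (Dual.HD A K i)) :
    ∃ P : DRing.Cx A, (∃ b : ℤ, DRing.VanishesAbove P b) ∧ (∀ i, Module.Free A (P.X i)) ∧
      (∀ i, Module.Finite A (P.X i)) ∧
      (∀ i j, LinearMap.range (P.d i j).hom ≤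
        IsLocalRing.maximalIdeal A • (⊤ : Submodule A (P.X j))) ∧
      Nonempty (DRing.toD P ≅ K) := by
  haveI : DRing.HasLBaseChange (Ideal.Quotient.mk (IsLocalRing.maximalIdeal A)) :=
    Groth.Agent.Helper3.KP.hasLeftDerivedFunctor _
  have pc : DRing.IsPseudoCoherent' A K := by
    rw [Groth.Agent.Helper11.MPC.pc'_iff_forall_mpc]
    intro m
    rw [Groth.Agent.Helper11.MPC.mpc_iff_of_noetherian]
    obtain ⟨b, hb⟩ := hbdd
    exact ⟨⟨b, fun i hi => by
      haveI := hb i hi
      exact ModuleCat.isZero_of_subsingleton _⟩, fun i _ => hfin i⟩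
  obtain ⟨-, -, P, ⟨b, hb⟩, hP, ⟨eP⟩⟩ := Groth.Agent.Helper11.MinCx.exists_minimal K pc
  exact ⟨P, ⟨b, hb⟩, fun i => (hP i).1, fun i => (hP i).2.1,
    fun i j => Groth.Agent.Helper11.MinCx.range_d_le_of_minimal K P b hb hP eP i j, ⟨eP⟩⟩

theorem main (L : Dual.D A) (E : DRing.Cx A) [DRing.HasLTensorCx A E]
    (hLfin : ∀ i : ℤ, Module.Finite A (Dual.HD A L i))
    (hLbdd : ∃ b : ℤ, ∀ i : ℤ, b < i → Subsingleton (Dual.HD A L i))
    (hEfin : ∀ i : ℤ, Module.Finite A (Dual.HD A (DRing.toD E) i))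
    (hEbdd : ∃ b : ℤ, ∀ i : ℤ, b < i → Subsingleton (Dual.HD A (DRing.toD E) i))
    (h : Nonempty ((DRing.LTensorCx A E).obj L ≅ Dual.inD A A)) :
    ∃ n : ℤ, Nonempty (L ≅ (Dual.inD A A)⟦n⟧) ∧
      Nonempty (DRing.toD E ≅ (Dual.inD A A)⟦(-n)⟧) := by
  obtain ⟨P, ⟨b, hPb⟩, hPfree, hPfin, hPmin, ⟨eP⟩⟩ := exists_minRep L hLfin hLbdd
  obtain ⟨P', ⟨d, hP'b⟩, hP'free, hP'fin, hP'min, ⟨eP'⟩⟩ :=
    exists_minRep (DRing.toD E) hEfin hEbdd
  have hPp : ∀ i, Module.Projective A (P.X i) := fun i => by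
    haveI := hPfree i
    infer_instance
  have hP'p : ∀ i, Module.Projective A (P'.X i) := fun i => by
    haveI := hP'free i
    infer_instance
  obtain ⟨eT⟩ := Groth.Agent.Helper11.LTen.nonempty_LTensorCx_iso L E P P' b d hPb hP'b hPp hP'p
    eP eP'
  obtain ⟨h⟩ := h
  have hTb : DRing.VanishesAbove (P ⊗ P') (b + d) := fun i hi =>
    Groth.Agent.Helper11.LTen.isZero_tensor_X_of_bddAbove P P' b d hPb hP'b i hi
  have hTfin : ∀ i, Module.Finite A ((P ⊗ P').X i) :=
    Groth.Agent.Helper11.LTen.finite_tensor_X_of_bddAbove P P' b d hPb hP'b hPfin hP'fin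
  have hTproj : ∀ i, Module.Projective A ((P ⊗ P').X i) :=
    Groth.Agent.Helper11.LTen.projective_tensor_X_of_bddAbove P P' b d hPb hP'b hPp hP'p
  have hTmin := tensor_min (IsLocalRing.maximalIdeal A) P P' hPmin hP'min
  haveI : (P ⊗ P').IsKProjective := isKProjective_of_vanishesAbove (P ⊗ P') (b + d) hTb hTproj
  let eU : DRing.toD (P ⊗ P') ≅ DerivedCategory.Q.obj (U A) :=
    eT ≪≫ h ≪≫ (DerivedCategory.singleFunctorIsoCompQ (ModuleCat.{u} A) 0).app (ModuleCat.of A A)
  obtain ⟨f, hf⟩ := exists_lift_of_isKProjective (P ⊗ P') (U A) eU.hom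
  haveI : QuasiIso f := by
    rw [← DerivedCategory.isIso_Q_map_iff_quasiIso, hf]
    infer_instance
  have hbij : ∀ i, Function.Bijective (f.f i).hom :=
    Groth.Agent.Helper11.MinCx.bijective_of_quasiIso_minimal (P ⊗ P') (U A) (max (b + d) 0)
      (fun i hi => hTb i (by have := le_max_left (b + d) 0; omega))
      (fun i hi => U_isZero i (by have := le_max_right (b + d) 0; omega))
      hTfin U_fin_proj hTmin (U_min _) f
  -- the terms of the tensor product
  have hTsub : ∀ n : ℤ, n ≠ 0 → Subsingleton ((P ⊗ P').X n) := fun n hn => by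
    haveI : Subsingleton ((U A).X n) := ModuleCat.subsingleton_of_isZero (U_isZero n hn)
    exact (hbij n).1.subsingleton
  let eT0 : (P ⊗ P').X 0 ≃ₗ[A] A := (LinearEquiv.ofBijective (f.f 0).hom (hbij 0)).trans U_X0
  have hsub : ∀ p q : ℤ, p + q ≠ 0 → Subsingleton (P.X p ⊗ P'.X q : ModuleCat.{u} A) :=
    fun p q hpq => by
      haveI := hTsub (p + q) hpq
      refine ⟨fun x y => ?_⟩
      calc x = pr P P' p q (p + q) (ι P P' p q (p + q) rfl x) :=
            (pr_ι_apply P P' p q (p + q) rfl x).symm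
        _ = pr P P' p q (p + q) (ι P P' p q (p + q) rfl y) := by
            rw [Subsingleton.elim (ι P P' p q (p + q) rfl x) (ι P P' p q (p + q) rfl y)]
        _ = y := pr_ι_apply P P' p q (p + q) rfl y
  have hfreeT : ∀ p q : ℤ, Module.Free A (P.X p ⊗ P'.X q : ModuleCat.{u} A) := fun p q => by
    haveI := hPfree p; haveI := hP'free q
    change Module.Free A (TensorProduct A (P.X p) (P'.X q))
    infer_instance
  have hfinT : ∀ p q : ℤ, Module.Finite A (P.X p ⊗ P'.X q : ModuleCat.{u} A) := fun p q => by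
    haveI := hPfin p; haveI := hP'fin q
    change Module.Finite A (TensorProduct A (P.X p) (P'.X q))
    infer_instance
  have hrank : ∀ p q : ℤ, Module.finrank A (P.X p ⊗ P'.X q : ModuleCat.{u} A) =
      Module.finrank A (P.X p) * Module.finrank A (P'.X q) := fun p q => by
    haveI := hPfree p; haveI := hP'free q; haveI := hPfin p; haveI := hP'fin q
    change Module.finrank A (TensorProduct A (P.X p) (P'.X q)) = _
    exact Module.finrank_tensorProduct
  have hex : ∃ p q : ℤ, p + q = 0 ∧ Nontrivial (P.X p ⊗ P'.X q : ModuleCat.{u} A) := by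
    by_contra hcon
    push Not at hcon
    have hz : ∀ z : (P ⊗ P').X 0, z = 0 := fun z =>
      eq_zero_of_components P P' z (fun p q hpq => by
        haveI : Subsingleton (P.X p ⊗ P'.X q : ModuleCat.{u} A) := hcon p q hpq
        exact Subsingleton.elim _ _)
    have h10 : (1 : A) = 0 := by
      have h1 := congrArg eT0 (hz (eT0.symm 1))
      rwa [LinearEquiv.apply_symm_apply, map_zero] at h1
    exact one_ne_zero h10
  obtain ⟨p, q, hpq, hnt⟩ := hex
  have hpos : 0 < Module.finrank A (P.X p) * Module.finrank A (P'.X q) := by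
    rw [← hrank p q]
    haveI := hfreeT p q; haveI := hfinT p q
    exact (Module.finrank_pos_iff_of_free A _).mpr hnt
  have hp1 : 0 < Module.finrank A (P.X p) := Nat.pos_of_ne_zero (fun h0 => by
    rw [h0, zero_mul] at hpos
    exact lt_irrefl _ hpos)
  have hq1 : 0 < Module.finrank A (P'.X q) := Nat.pos_of_ne_zero (fun h0 => by
    rw [h0, mul_zero] at hpos
    exact lt_irrefl _ hpos)
  have hPz : ∀ i : ℤ, i ≠ p → IsZero (P.X i) := fun i hi => by
    haveI := hsub i q (by omega)
    have h0 : Module.finrank A (P.X i) * Module.finrank A (P'.X q) = 0 := by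
      rw [← hrank i q]
      exact Module.finrank_zero_of_subsingleton
    have h1 : Module.finrank A (P.X i) = 0 := by
      rcases Nat.mul_eq_zero.mp h0 with h | h
      · exact h
      · omega
    haveI := hPfree i; haveI := hPfin i
    haveI : Subsingleton (P.X i) := (Module.finrank_eq_zero_iff_of_free A _).mp h1
    exact ModuleCat.isZero_of_subsingleton _
  have hP'z : ∀ i : ℤ, i ≠ q → IsZero (P'.X i) := fun i hi => by
    haveI := hsub p i (by omega)
    have h0 : Module.finrank A (P.X p) * Module.finrank A (P'.X i) = 0 := by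
      rw [← hrank p i]
      exact Module.finrank_zero_of_subsingleton
    have h1 : Module.finrank A (P'.X i) = 0 := by
      rcases Nat.mul_eq_zero.mp h0 with h | h
      · omega
      · exact h
    haveI := hP'free i; haveI := hP'fin i
    haveI : Subsingleton (P'.X i) := (Module.finrank_eq_zero_iff_of_free A _).mp h1
    exact ModuleCat.isZero_of_subsingleton _
  have hle : Module.finrank A (P.X p) * Module.finrank A (P'.X q) ≤ 1 := by
    rw [← hrank p q]
    have hιinj : Function.Injective (ι P P' p q 0 hpq).hom :=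
      Function.LeftInverse.injective (g := (pr P P' p q 0).hom)
        (fun x => pr_ι_apply P P' p q 0 hpq x)
    have hinj : Function.Injective ((eT0 : (P ⊗ P').X 0 →ₗ[A] A) ∘ₗ (ι P P' p q 0 hpq).hom) :=
      eT0.injective.comp hιinj
    have h1 := LinearMap.finrank_le_finrank_of_injective hinj
    rwa [Module.finrank_self] at h1
  have hp_eq : Module.finrank A (P.X p) = 1 := by
    have := Nat.le_mul_of_pos_right (Module.finrank A (P.X p)) hq1
    omega
  have hq_eq : Module.finrank A (P'.X q) = 1 := by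
    have := Nat.le_mul_of_pos_left (Module.finrank A (P'.X q)) hp1
    omega
  haveI := hPfree p; haveI := hPfin p; haveI := hP'free q; haveI := hP'fin q
  have eP0 : P.X p ≃ₗ[A] A :=
    LinearEquiv.ofFinrankEq (P.X p) A (by rw [hp_eq, Module.finrank_self])
  have eP'0 : P'.X q ≃ₗ[A] A :=
    LinearEquiv.ofFinrankEq (P'.X q) A (by rw [hq_eq, Module.finrank_self])
  obtain ⟨i1⟩ := nonempty_iso_shift_of_concentrated P p hPz eP0
  obtain ⟨i2⟩ := nonempty_iso_shift_of_concentrated P' q hP'z eP'0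
  obtain rfl : q = -p := by omega
  exact ⟨-p, ⟨eP.symm ≪≫ i1⟩, ⟨eP'.symm ≪≫ i2⟩⟩

end Local

end Groth.Agent.Helper11.InvCx
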