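import Groth.Agent.Lib.Helper11.LDer4
import Groth.Agent.Lib.Helper11.DCExactH
import Groth.Agent.Lib.Helper11.TorAmp5
import Mathlib.CategoryTheory.Functor.Derived.PointwiseLeftDerived

/-!
# Total left derived functors of exact functors; tor amplitude via `LTensor` (helper11)
-/

set_option autoImplicit false

open CategoryTheory Category Limits Pretriangulated DerivedCategory MonoidalCategory

attribute [local instance] HasDerivedCategory.standard

universe u

namespace Groth.Agent.Helper11.LDer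

open Groth.Agent.Helper11.DC Groth.Agent.Helper11.TA

variable {A B : Type u} [CommRing A] [CommRing B]

/-- The total left derived functor of (the functor induced by) an exact functor is the induced
functor on derived categories. -/
theorem nonempty_totalLeftDerived_iso_of_exact (Φ : ModuleCat.{u} A ⥤ ModuleCat.{u} B)
    [Φ.Additive] [PreservesFiniteLimits Φ] [PreservesFiniteColimits Φ]
    [(Φ.mapHomotopyCategory (ComplexShape.up ℤ) ⋙ Qh).HasLeftDerivedFunctor
      (HomotopyCategory.quasiIso (ModuleCat.{u} A) (ComplexShape.up ℤ))] :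
    Nonempty ((Φ.mapHomotopyCategory (ComplexShape.up ℤ) ⋙ Qh).totalLeftDerived Qh
      (HomotopyCategory.quasiIso (ModuleCat.{u} A) (ComplexShape.up ℤ)) ≅
        Φ.mapDerivedCategory) := by
  haveI := Functor.isLeftDerivedFunctor_of_inverts
    (HomotopyCategory.quasiIso (ModuleCat.{u} A) (ComplexShape.up ℤ))
    Φ.mapDerivedCategory Φ.mapDerivedCategoryFactorsh
  exact ⟨Functor.leftDerivedUnique _ _
    ((Φ.mapHomotopyCategory (ComplexShape.up ℤ) ⋙ Qh).totalLeftDerivedCounit Qh
      (HomotopyCategory.quasiIso (ModuleCat.{u} A) (ComplexShape.up ℤ)))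
    Φ.mapDerivedCategoryFactorsh.hom
    (HomotopyCategory.quasiIso (ModuleCat.{u} A) (ComplexShape.up ℤ))⟩

instance : PreservesFiniteLimits (tensorRight (𝟙_ (ModuleCat.{u} A))) :=
  preservesFiniteLimits_of_natIso (rightUnitorNatIso (ModuleCat.{u} A)).symm

instance : PreservesFiniteColimits (tensorRight (𝟙_ (ModuleCat.{u} A))) :=
  preservesFiniteColimits_of_natIso (rightUnitorNatIso (ModuleCat.{u} A)).symm

/-- `K ⊗^L A` has the same (vanishing of) cohomology as `K`. -/
theorem isZero_homology_of_LTensor_unit [DRing.HasLTensor A (𝟙_ (ModuleCat.{u} A))]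
    (K : Dual.D A) (i : ℤ)
    (h : IsZero ((homologyFunctor (ModuleCat.{u} A) i).obj
      ((DRing.LTensor A (𝟙_ (ModuleCat.{u} A))).obj K))) :
    IsZero ((homologyFunctor (ModuleCat.{u} A) i).obj K) := by
  obtain ⟨e⟩ := nonempty_totalLeftDerived_iso_of_exact (tensorRight (𝟙_ (ModuleCat.{u} A)))
  have h1 : IsZero ((homologyFunctor (ModuleCat.{u} A) i).obj
      ((tensorRight (𝟙_ (ModuleCat.{u} A))).mapDerivedCategory.obj K)) :=
    IsZero.of_iso h ((homologyFunctor (ModuleCat.{u} A) i).mapIso (e.app K).symm)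
  let Y := Q.objPreimage K
  let eK : Q.obj Y ≅ K := Q.objObjPreimageIso K
  have h2 : IsZero ((homologyFunctor (ModuleCat.{u} A) i).obj
      ((tensorRight (𝟙_ (ModuleCat.{u} A))).mapDerivedCategory.obj (Q.obj Y))) :=
    IsZero.of_iso h1 ((homologyFunctor (ModuleCat.{u} A) i).mapIso
      ((tensorRight (𝟙_ (ModuleCat.{u} A))).mapDerivedCategory.mapIso eK))
  have h3 : IsZero ((tensorRight (𝟙_ (ModuleCat.{u} A))).obj
      ((homologyFunctor (ModuleCat.{u} A) i).obj (Q.obj Y))) :=
    IsZero.of_iso h2 ((qMapDerivedHomologyIso (tensorRight (𝟙_ (ModuleCat.{u} A))) i).app Y).symm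
  have h4 : IsZero ((homologyFunctor (ModuleCat.{u} A) i).obj (Q.obj Y)) :=
    IsZero.of_iso h3 ((rightUnitorNatIso (ModuleCat.{u} A)).app _).symm
  exact IsZero.of_iso h4 ((homologyFunctor (ModuleCat.{u} A) i).mapIso eK.symm)

/-- Tor amplitude in terms of the derived tensor products with modules. -/
theorem hasTorAmplitudeIn_iff_LTensor [∀ M : ModuleCat.{u} A, DRing.HasLTensor A M]
    (K : Dual.D A) (a b : ℤ) :
    DRing.HasTorAmplitudeIn A a b K ↔
      ∀ (M : ModuleCat.{u} A) (i : ℤ), (i < a ∨ b < i) →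
        IsZero ((homologyFunctor (ModuleCat.{u} A) i).obj ((DRing.LTensor A M).obj K)) := by
  constructor
  · rintro ⟨E, hE, hflat, ⟨e⟩⟩ M i hi
    have hres : HasProjRes (Q.obj E) := hasProjRes_of_bounded E a b hE
    obtain ⟨e'⟩ := nonempty_LTensor_iso_of_flat M E b (fun i hi => hE i (Or.inr hi)) hflat hres
    refine IsZero.of_iso ?_ ((homologyFunctor (ModuleCat.{u} A) i).mapIso
      ((DRing.LTensor A M).mapIso e.symm ≪≫ e'))
    exact isZero_homology_of_isZero_X _ i (tens_isZero M _ i (hE i hi))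
  · intro h
    have hb : ∀ i : ℤ, (i < a ∨ b < i) →
        IsZero ((homologyFunctor (ModuleCat.{u} A) i).obj K) := fun i hi =>
      isZero_homology_of_LTensor_unit K i (h _ i hi)
    obtain ⟨P, c, hc, hp, ⟨e⟩⟩ := hasProjRes_of_homology K a b hb
    rw [hasTorAmplitudeIn_iff_torVan]
    refine ⟨P, c, hc, hp, ⟨e⟩, ?_⟩
    intro M i hi
    obtain ⟨e'⟩ := nonempty_LTensor_iso_of_projRes M K P c hc hp e
    exact IsZero.of_iso (h M i hi) ((homologyFunctor (ModuleCat.{u} A) i).mapIso e'.symm)

end Groth.Agent.Helper11.LDer
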