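import Groth.Agent.Lib.Helper11.Shr15
import Groth.Agent.Lib.Helper11.LDer5
import Groth.Agent.Lib.Helper11.DCExactH
import Groth.Agent.Lib.Helper8.LOC8
import Groth.Agent.Lib.Helper8.FLD4
import Mathlib.RingTheory.PicardGroup
import Mathlib.RingTheory.Flat.CategoryTheory

/-!
# Twisting a dualizing complex by an invertible module (helper11)
-/

set_option autoImplicit false
set_option linter.unusedSectionVars false
set_option linter.unusedVariables false
set_option linter.style.haveILetI false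

open CategoryTheory CategoryTheory.Limits DerivedCategory Pretriangulated MonoidalCategory

attribute [local instance] HasDerivedCategory.standard

universe u

namespace Groth.Agent.Helper11.InvTwist

section Gen

variable {A : Type u} [CommRing A] (F G : Dual.D A ⥤ Dual.D A) (adj : G ⊣ F)
  [F.Full] [F.Faithful] [F.CommShift ℤ] [F.Additive] [F.Linear A]

include adj in
/-- a linear, shift-compatible, fully faithful right adjoint whose left adjoint preserves modules
and which preserves finiteness of cohomology preserves dualizing complexes -/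
theorem isDualizing_obj
    (hG : ∀ M : ModuleCat.{u} A, ∃ M' : ModuleCat.{u} A,
      Nonempty (G.obj ((DerivedCategory.singleFunctor (ModuleCat.{u} A) 0).obj M) ≅
        (DerivedCategory.singleFunctor (ModuleCat.{u} A) 0).obj M'))
    (hfin : ∀ (K : Dual.D A) (i : ℤ), Module.Finite A (Dual.HD A K i) →
      Module.Finite A (Dual.HD A (F.obj K) i))
    (ω : Dual.D A) (hω : Dual.IsDualizing A ω) : Dual.IsDualizing A (F.obj ω) := by
  refine ⟨hω.isNoetherianRing, ?_, fun i => hfin ω i (hω.finite_cohomology i), ?_, ?_⟩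
  · obtain ⟨a, b, hab⟩ := hω.finite_injective_dimension
    refine ⟨a, b, fun M _ _ i hi => ?_⟩
    obtain ⟨M', ⟨e⟩⟩ := hG (ModuleCat.of A M)
    haveI : Subsingleton ((DerivedCategory.singleFunctor (ModuleCat.{u} A) 0).obj M' ⟶ ω⟦i⟧) :=
      hab M' i hi
    let c := (F.commShiftIso i).app ω
    let eq1 : (Dual.inD A M ⟶ (F.obj ω)⟦i⟧) ≃ (Dual.inD A M ⟶ F.obj (ω⟦i⟧)) :=
      (Iso.refl _).homCongr c.symm
    let eq2 : (Dual.inD A M ⟶ F.obj (ω⟦i⟧)) ≃ (G.obj (Dual.inD A M) ⟶ ω⟦i⟧) :=
      (adj.homEquiv _ _).symm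
    let eq3 : (G.obj (Dual.inD A M) ⟶ ω⟦i⟧) ≃
        ((DerivedCategory.singleFunctor (ModuleCat.{u} A) 0).obj M' ⟶ ω⟦i⟧) :=
      e.homCongr (Iso.refl _)
    exact (eq1.trans (eq2.trans eq3)).subsingleton
  · have h1 := hω.toEnd_bijective
    have h2 : Function.Bijective (fun f : ω ⟶ ω => F.map f) :=
      (Functor.FullyFaithful.ofFullyFaithful F).map_bijective _ _
    have h3 : (fun a : A => a • 𝟙 (F.obj ω)) =
        (fun f : ω ⟶ ω => F.map f) ∘ (fun a : A => a • 𝟙 ω) := by
      funext a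
      show a • 𝟙 (F.obj ω) = F.map (a • 𝟙 ω)
      rw [Functor.map_smul, CategoryTheory.Functor.map_id]
    rw [h3]
    exact h2.comp h1
  · intro i hi
    haveI := hω.ext_self_subsingleton i hi
    let c := (F.commShiftIso i).app ω
    let eq1 : (F.obj ω ⟶ (F.obj ω)⟦i⟧) ≃ (F.obj ω ⟶ F.obj (ω⟦i⟧)) :=
      (Iso.refl _).homCongr c.symm
    let eq2 : (ω ⟶ ω⟦i⟧) ≃ (F.obj ω ⟶ F.obj (ω⟦i⟧)) :=
      (Functor.FullyFaithful.ofFullyFaithful F).homEquiv
    exact (eq1.trans eq2.symm).subsingleton

end Gen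

section Hom

variable {A : Type u} [CommRing A]
  (Φ : ModuleCat.{u} A ⥤ ModuleCat.{u} A) [Φ.Additive] [PreservesFiniteLimits Φ]
  [PreservesFiniteColimits Φ]

/-- cohomology commutes with an exact functor -/
noncomputable def homologyMapDIso (K : Dual.D A) (i : ℤ) :
    (homologyFunctor (ModuleCat.{u} A) i).obj (Φ.mapDerivedCategory.obj K) ≅
      Φ.obj ((homologyFunctor (ModuleCat.{u} A) i).obj K) :=
  (homologyFunctor (ModuleCat.{u} A) i).mapIso
      (Φ.mapDerivedCategory.mapIso (Q.objObjPreimageIso K).symm) ≪≫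
    (Groth.Agent.Helper11.DC.qMapDerivedHomologyIso Φ i).app (Q.objPreimage K) ≪≫
    Φ.mapIso ((homologyFunctor (ModuleCat.{u} A) i).mapIso (Q.objObjPreimageIso K))

end Hom

section Twist

variable (A : Type u) [CommRing A] (P : Type u) [AddCommGroup P] [Module A P]
  [Module.Invertible A P]

/-- the invertible module -/
abbrev Pm : ModuleCat.{u} A := ModuleCat.of A P

/-- its dual -/
abbrev Pd : ModuleCat.{u} A := ModuleCat.of A (Module.Dual A P)

noncomputable def eP : Pd A P ⊗ Pm A P ≅ 𝟙_ (ModuleCat.{u} A) :=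
  (Module.Invertible.linearEquiv A P).toModuleIso

noncomputable def eP' : Pm A P ⊗ Pd A P ≅ 𝟙_ (ModuleCat.{u} A) :=
  (β_ (Pm A P) (Pd A P)) ≪≫ eP A P

noncomputable def ttIso : tensorRight (Pm A P) ⋙ tensorRight (Pd A P) ≅ 𝟭 _ :=
  (tensorRightTensor (Pm A P) (Pd A P)).symm ≪≫
    (tensoringRight (ModuleCat.{u} A)).mapIso (eP' A P) ≪≫ rightUnitorNatIso _

noncomputable def ttIso' : tensorRight (Pd A P) ⋙ tensorRight (Pm A P) ≅ 𝟭 _ :=
  (tensorRightTensor (Pd A P) (Pm A P)).symm ≪≫
    (tensoringRight (ModuleCat.{u} A)).mapIso (eP A P) ≪≫ rightUnitorNatIso _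

/-- derived twist by `P` -/
noncomputable abbrev Td : Dual.D A ⥤ Dual.D A := (tensorRight (Pm A P)).mapDerivedCategory

/-- derived twist by the dual of `P` -/
noncomputable abbrev Td' : Dual.D A ⥤ Dual.D A := (tensorRight (Pd A P)).mapDerivedCategory

open Groth.Agent.Helper11.Shr in
/-- twisting by an invertible module is an auto-equivalence of `D(A)` -/
noncomputable def twistEquiv : Dual.D A ≌ Dual.D A :=
  CategoryTheory.Equivalence.mk (Td A P) (Td' A P)
    ((mapDId (tensorRight (Pm A P) ⋙ tensorRight (Pd A P)) (ttIso A P)).symm ≪≫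
      mapDComp (tensorRight (Pm A P)) (tensorRight (Pd A P))
        (tensorRight (Pm A P) ⋙ tensorRight (Pd A P)) (Iso.refl _))
    ((mapDComp (tensorRight (Pd A P)) (tensorRight (Pm A P))
        (tensorRight (Pd A P) ⋙ tensorRight (Pm A P)) (Iso.refl _)).symm ≪≫
      mapDId (tensorRight (Pd A P) ⋙ tensorRight (Pm A P)) (ttIso' A P))

theorem finite_HD_Td (K : Dual.D A) (i : ℤ) (h : Module.Finite A (Dual.HD A K i)) :
    Module.Finite A (Dual.HD A ((Td A P).obj K) i) := by
  haveI := h
  haveI : Module.Finite A ((tensorRight (Pm A P)).obj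
      ((homologyFunctor (ModuleCat.{u} A) i).obj K)) :=
    inferInstanceAs (Module.Finite A
      (TensorProduct A ((homologyFunctor (ModuleCat.{u} A) i).obj K) P))
  exact Module.Finite.equiv
    (homologyMapDIso (tensorRight (Pm A P)) K i).toLinearEquiv.symm

/-- `(ω ⊗ P)[n]` is dualizing -/
theorem isDualizing_LTensor_shift (ω : Dual.D A) (hω : Dual.IsDualizing A ω)
    [DRing.HasLTensor A (ModuleCat.of A P)] (n : ℤ) :
    Dual.IsDualizing A (((DRing.LTensor A (ModuleCat.of A P)).obj ω)⟦n⟧) := by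
  obtain ⟨e⟩ := Groth.Agent.Helper11.LDer.nonempty_totalLeftDerived_iso_of_exact
    (tensorRight (Pm A P))
  have h1 : Dual.IsDualizing A ((Td A P).obj ω) := by
    have adj : Td' A P ⊣ Td A P := (twistEquiv A P).symm.toAdjunction
    haveI : (Td A P).IsEquivalence :=
      inferInstanceAs (twistEquiv A P).functor.IsEquivalence
    refine isDualizing_obj (Td A P) (Td' A P) adj ?_ (finite_HD_Td A P) ω hω
    intro M
    exact ⟨(tensorRight (Pd A P)).obj M,
      ⟨((tensorRight (Pd A P)).mapDerivedCategorySingleFunctor 0).app M⟩⟩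
  exact Groth.Agent.Helper8.LOC.isDualizing_shift _
    (Groth.Agent.Helper8.FLD.isDualizing_of_iso (e.app ω).symm h1) n

end Twist

end Groth.Agent.Helper11.InvTwist
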