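import Mathlib
import Groth.Agent.Lib.Lead.RLR9

/-!
# The Jacobian condition forces linear independence in the cotangent space
-/

set_option autoImplicit false

namespace Groth.Agent.Helper11.JacA

universe u
open IsLocalRing

section Der

variable {k R : Type*} [CommRing k] [CommRing R] [Algebra k R]

/-- a derivation maps `P ^ 2` into `P` -/
theorem der_mem_of_mem_sq (P : Ideal R) (D : Derivation k R R) {x : R} (hx : x ∈ P ^ 2) :
    D x ∈ P := by
  rw [pow_two] at hx
  refine Submodule.mul_induction_on hx ?_ ?_
  · intro a ha b hb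
    rw [Derivation.leibniz, smul_eq_mul, smul_eq_mul]
    exact P.add_mem (P.mul_mem_right _ ha) (P.mul_mem_right _ hb)
  · intro x y hx hy
    rw [map_add]
    exact P.add_mem hx hy

/-- a derivation maps `P` into `P` modulo the values on generators up to denominators -/
theorem der_sum_mem (P : Ideal R) (D : Derivation k R R) {m : ℕ} (a f : Fin m → R)
    (hf : ∀ j, f j ∈ P) :
    D (∑ j, a j * f j) - ∑ j, a j * D (f j) ∈ P := by
  have h : D (∑ j, a j * f j) - ∑ j, a j * D (f j) = ∑ j, f j * D (a j) := by
    rw [map_sum, ← Finset.sum_sub_distrib]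
    refine Finset.sum_congr rfl fun j _ => ?_
    rw [Derivation.leibniz, smul_eq_mul, smul_eq_mul]
    ring
  rw [h]
  exact P.sum_mem fun j _ => P.mul_mem_right _ (hf j)

/-- the Jacobian condition: coefficients of a combination lying in the symbolic square lie
in `P` -/
theorem mem_of_sum_mem_symbolic (P : Ideal R) [P.IsPrime] {m : ℕ}
    (D : Fin m → Derivation k R R) (f : Fin m → R) (hf : ∀ j, f j ∈ P)
    (hdet : Matrix.det (Matrix.of fun i j => D i (f j)) ∉ P)
    (a : Fin m → R) (t : R) (ht : t ∉ P) (h : t * ∑ j, a j * f j ∈ P ^ 2) (j : Fin m) :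
    a j ∈ P := by
  have hS : ∑ j, a j * f j ∈ P := P.sum_mem fun j _ => P.mul_mem_left _ (hf j)
  have h1 : ∀ i, ∑ j, a j * D i (f j) ∈ P := by
    intro i
    have h2 := der_mem_of_mem_sq P (D i) h
    rw [Derivation.leibniz, smul_eq_mul, smul_eq_mul] at h2
    have h3 : t * D i (∑ j, a j * f j) ∈ P := by
      have := P.sub_mem h2 (P.mul_mem_right (D i t) hS)
      rwa [add_sub_cancel_right] at this
    have h4 : D i (∑ j, a j * f j) ∈ P := (Ideal.IsPrime.mem_or_mem ‹_› h3).resolve_left ht
    have h5 := der_sum_mem P (D i) a f hf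
    have := P.sub_mem h4 h5
    rwa [sub_sub_cancel] at this
  set M : Matrix (Fin m) (Fin m) R := Matrix.of fun i j => D i (f j) with hM
  have hdet' : (M.map (Ideal.Quotient.mk P)).det ≠ 0 := by
    rw [← RingHom.mapMatrix_apply, ← RingHom.map_det]
    intro h0
    exact hdet (Ideal.Quotient.eq_zero_iff_mem.1 h0)
  have hmv : Matrix.mulVec (M.map (Ideal.Quotient.mk P))
      (fun j => Ideal.Quotient.mk P (a j)) = 0 := by
    funext i
    show ∑ j, (M.map (Ideal.Quotient.mk P)) i j * Ideal.Quotient.mk P (a j) = 0
    have : ∑ j, (M.map (Ideal.Quotient.mk P)) i j * Ideal.Quotient.mk P (a j) =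
        Ideal.Quotient.mk P (∑ j, a j * D i (f j)) := by
      rw [map_sum]
      refine Finset.sum_congr rfl fun j _ => ?_
      rw [Matrix.map_apply, hM, Matrix.of_apply, map_mul, mul_comm]
    rw [this]
    exact Ideal.Quotient.eq_zero_iff_mem.2 (h1 i)
  have h6 := Matrix.eq_zero_of_mulVec_eq_zero hdet' hmv
  exact Ideal.Quotient.eq_zero_iff_mem.1 (congrFun h6 j)

end Der

section Cot

variable {k R : Type u} [CommRing k] [CommRing R] [Algebra k R]

/-- the Jacobian condition forces linear independence in the cotangent space of the local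
ring -/
theorem linearIndependent_toCotangent (P : Ideal R) [P.IsPrime] {m : ℕ}
    (D : Fin m → Derivation k R R) (f : Fin m → R) (hf : ∀ j, f j ∈ P)
    (hdet : Matrix.det (Matrix.of fun i j => D i (f j)) ∉ P)
    (x : Fin m → maximalIdeal (Localization.AtPrime P))
    (hx : ∀ j, (x j : Localization.AtPrime P) = algebraMap R (Localization.AtPrime P) (f j)) :
    LinearIndependent (ResidueField (Localization.AtPrime P))
      (fun j => ((maximalIdeal (Localization.AtPrime P)).toCotangent (x j) :
        CotangentSpace (Localization.AtPrime P))) := by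
  classical
  rw [Fintype.linearIndependent_iff]
  intro c hc j
  have hsurj : Function.Surjective (residue (Localization.AtPrime P)) := residue_surjective
  choose b hb using fun j => hsurj (c j)
  have h1 : ∑ j, c j • ((maximalIdeal (Localization.AtPrime P)).toCotangent (x j) :
      CotangentSpace (Localization.AtPrime P)) =
      (maximalIdeal (Localization.AtPrime P)).toCotangent (∑ j, b j • x j) := by
    rw [map_sum]
    refine Finset.sum_congr rfl fun j _ => ?_
    rw [← hb j]
    exact Groth.Agent.Lead.RLR.residue_smul_toCotangent (b j) (x j)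
  rw [h1, Ideal.toCotangent_eq_zero] at hc
  obtain ⟨s, hs⟩ := IsLocalization.exist_integer_multiples_of_finite P.primeCompl b
  choose a ha using hs
  have hmax : maximalIdeal (Localization.AtPrime P) =
      P.map (algebraMap R (Localization.AtPrime P)) :=
    (Localization.AtPrime.map_eq_maximalIdeal).symm
  have h2 : algebraMap R (Localization.AtPrime P) (∑ j, a j * f j) ∈
      (P ^ 2).map (algebraMap R (Localization.AtPrime P)) := by
    rw [Ideal.map_pow, ← hmax]
    have h3 : algebraMap R (Localization.AtPrime P) (∑ j, a j * f j) =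
        algebraMap R (Localization.AtPrime P) (s : R) *
          ((∑ j, b j • x j : maximalIdeal (Localization.AtPrime P)) : Localization.AtPrime P) := by
      rw [map_sum, AddSubmonoidClass.coe_finsetSum, Finset.mul_sum]
      refine Finset.sum_congr rfl fun j _ => ?_
      rw [map_mul, ha j, Submodule.coe_smul, hx j, Algebra.smul_def, smul_eq_mul]
      ring
    rw [h3]
    exact Ideal.mul_mem_left _ _ hc
  rw [IsLocalization.algebraMap_mem_map_algebraMap_iff P.primeCompl] at h2
  obtain ⟨t, ht, h4⟩ := h2
  have h5 := mem_of_sum_mem_symbolic P D f hf hdet a t ht h4 j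
  have h6 : algebraMap R (Localization.AtPrime P) (a j) ∈ maximalIdeal (Localization.AtPrime P) := by
    rw [hmax]
    exact Ideal.mem_map_of_mem _ h5
  rw [ha j, Algebra.smul_def] at h6
  have hunit : IsUnit (algebraMap R (Localization.AtPrime P) (s : R)) :=
    IsLocalization.map_units _ s
  have h7 : b j ∈ maximalIdeal (Localization.AtPrime P) := by
    rcases (Ideal.IsPrime.mem_or_mem (maximalIdeal.isMaximal _).isPrime h6) with h | h
    · exact absurd hunit ((mem_maximalIdeal _).1 h)
    · exact h
  rw [← hb j]
  exact (residue_eq_zero_iff _).2 h7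

end Cot

end Groth.Agent.Helper11.JacA
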