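import Mathlib
import Groth.Prelude.Def_CAlgX

/-!
# The Jacobian criterion: lifting through a quotient of a localization
-/

set_option autoImplicit false

namespace Groth.Agent.Helper11.JacB

universe u

/-- solving a linear system with invertible determinant inside an ideal -/
theorem exists_solution_mem {C : Type*} [CommRing C] {m : ℕ} (N : Matrix (Fin m) (Fin m) C)
    (hN : IsUnit N.det) (J : Ideal C) (b : Fin m → C) (hb : ∀ j, b j ∈ J) :
    ∃ c : Fin m → C, (∀ i, c i ∈ J) ∧ ∀ j, ∑ i, N i j * c i = b j := by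
  classical
  refine ⟨Matrix.mulVec (N.transpose)⁻¹ b, ?_, ?_⟩
  · intro i
    show ∑ j, (N.transpose)⁻¹ i j * b j ∈ J
    exact J.sum_mem fun j _ => J.mul_mem_left _ (hb j)
  · intro j
    have hdet : IsUnit (N.transpose).det := by rwa [Matrix.det_transpose]
    have h1 : Matrix.mulVec N.transpose (Matrix.mulVec (N.transpose)⁻¹ b) = b := by
      rw [Matrix.mulVec_mulVec, Matrix.mul_nonsing_inv _ hdet, Matrix.one_mulVec]
    have h2 := congrFun h1 j
    rw [← h2]
    show ∑ i, N i j * _ = ∑ i, N.transpose j i * _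
    rfl

theorem adicFS_of_jacobian {k A A' B' : Type u} [CommRing k] [CommRing A] [CommRing A']
    [CommRing B'] [Algebra k A] [Algebra k A'] [Algebra A A'] [IsScalarTower k A A']
    [Algebra k B'] (M : Submonoid A) [IsLocalization M A']
    (π : A' →ₐ[k] B') (hπ : Function.Surjective π)
    {m : ℕ} (D : Fin m → Derivation k A A) (f : Fin m → A)
    (hker : RingHom.ker (π : A' →+* B') ≤
      Ideal.span (Set.range fun j => algebraMap A A' (f j)))
    (hfker : ∀ j, π (algebraMap A A' (f j)) = 0)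
    (hdet : IsUnit (algebraMap A A' (Matrix.det (Matrix.of fun i j => D i (f j)))))
    (𝔫 : Ideal A') (𝔫B : Ideal B') (h𝔫 : 𝔫.map (π : A' →+* B') ≤ 𝔫B)
    (hA : CAlgX.IsAdicFormallySmooth k A' 𝔫) : CAlgX.IsAdicFormallySmooth k B' 𝔫B := by
  classical
  intro C _ _ J hJ ψ hψ
  obtain ⟨n, hn⟩ := hψ
  have hkill : ∀ x ∈ 𝔫 ^ n, (ψ.comp π) x = 0 := by
    intro x hx
    apply hn
    have h1 : (π : A' →+* B') x ∈ (𝔫 ^ n).map (π : A' →+* B') := Ideal.mem_map_of_mem _ hx
    rw [Ideal.map_pow] at h1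
    exact Ideal.pow_right_mono h𝔫 n h1
  obtain ⟨u, hu⟩ := hA C J hJ (ψ.comp π) ⟨n, hkill⟩
  have hu' : ∀ x : A', Ideal.Quotient.mk J (u x) = ψ (π x) := fun x => by
    have := congrArg (fun g : A' →ₐ[k] C ⧸ J => g x) hu
    exact this
  let u₀ : A →ₐ[k] C := u.comp (IsScalarTower.toAlgHom k A A')
  have hu₀ : ∀ a : A, u₀ a = u (algebraMap A A' a) := fun a => rfl
  letI : Algebra A C := u₀.toRingHom.toAlgebra
  haveI : IsScalarTower k A C := IsScalarTower.of_algebraMap_eq fun r => (u₀.commutes r).symm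
  have halg : ∀ a : A, algebraMap A C a = u₀ a := fun a => rfl
  have hfJ : ∀ j, u₀ (f j) ∈ J := by
    intro j
    rw [← Ideal.Quotient.eq_zero_iff_mem, hu₀, hu', hfker, map_zero]
  set N : Matrix (Fin m) (Fin m) C := (Matrix.of fun i j => D i (f j)).map u₀ with hN
  have hNdet : IsUnit N.det := by
    have h1 : N.det = u (algebraMap A A' (Matrix.det (Matrix.of fun i j => D i (f j)))) := by
      rw [hN, ← hu₀, ← AlgHom.mapMatrix_apply, ← AlgHom.map_det]
    rw [h1]
    exact hdet.map u
  obtain ⟨c, hcJ, hc⟩ := exists_solution_mem N hNdet J (fun j => - u₀ (f j))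
    (fun j => J.neg_mem (hfJ j))
  let δ : Derivation k A J :=
    ∑ i, (LinearMap.toSpanSingleton A J ⟨c i, hcJ i⟩).compDer (D i)
  have hδ : ∀ a : A, ((δ a : J) : C) = ∑ i, u₀ (D i a) * c i := by
    intro a
    have hsum : ∀ (s : Finset (Fin m)) (g : Fin m → Derivation k A J),
        (∑ i ∈ s, g i) a = ∑ i ∈ s, g i a := by
      intro s g
      induction s using Finset.induction_on with
      | empty => simp
      | insert i s hi ih =>
        rw [Finset.sum_insert hi, Finset.sum_insert hi, Derivation.add_apply, ih]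
    have h1 : δ a = ∑ i, (D i a) • (⟨c i, hcJ i⟩ : J) := by
      show (∑ i, (LinearMap.toSpanSingleton A J ⟨c i, hcJ i⟩).compDer (D i)) a = _
      rw [hsum]
      rfl
    rw [h1, AddSubmonoidClass.coe_finsetSum]
    refine Finset.sum_congr rfl fun i _ => ?_
    rw [Submodule.coe_smul_of_tower, Algebra.smul_def, halg]
  let u' : A →ₐ[k] C := liftOfDerivationToSquareZero J hJ δ
  have hu'a : ∀ a : A, u' a = (δ a : C) + u₀ a := fun a => rfl
  have hu'f : ∀ j, u' (f j) = 0 := by
    intro j
    rw [hu'a, hδ]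
    have h1 : ∑ i, u₀ (D i (f j)) * c i = ∑ i, N i j * c i := by
      refine Finset.sum_congr rfl fun i _ => ?_
      rw [hN, Matrix.map_apply, Matrix.of_apply]
    rw [h1, hc j]
    ring
  have hunits : ∀ s : M, IsUnit (u'.toRingHom s) := by
    intro s
    show IsUnit (u' (s : A))
    rw [hu'a, add_comm]
    apply IsNilpotent.isUnit_add_left_of_commute
    · refine ⟨2, ?_⟩
      have : ((δ (s : A) : J) : C) ^ 2 ∈ J ^ 2 := Ideal.pow_mem_pow (δ (s : A)).2 2
      rw [hJ] at this
      exact this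
    · rw [hu₀]
      exact (IsLocalization.map_units A' s).map u
    · exact Commute.all _ _
  let v : A' →+* C := IsLocalization.lift (M := M) hunits
  have hv : ∀ a : A, v (algebraMap A A' a) = u' a := fun a => IsLocalization.lift_eq hunits a
  have hkerv : RingHom.ker (π : A' →+* B') ≤ RingHom.ker v := by
    refine hker.trans ?_
    rw [Ideal.span_le]
    rintro _ ⟨j, rfl⟩
    show v (algebraMap A A' (f j)) = 0
    rw [hv, hu'f]
  let χ₀ : B' →+* C := (π : A' →+* B').liftOfSurjective hπ ⟨v, hkerv⟩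
  have hχ₀ : ∀ x : A', χ₀ (π x) = v x := fun x =>
    RingHom.liftOfRightInverse_comp_apply (π : A' →+* B') _ _ ⟨v, hkerv⟩ x
  have hvk : ∀ r : k, v (algebraMap k A' r) = algebraMap k C r := by
    intro r
    rw [IsScalarTower.algebraMap_apply k A A', hv, u'.commutes]
  let χ : B' →ₐ[k] C :=
    { χ₀ with
      commutes' := fun r => by
        show χ₀ (algebraMap k B' r) = algebraMap k C r
        rw [← π.commutes, hχ₀, hvk] }
  have hχ : ∀ x : A', χ (π x) = v x := hχ₀
  refine ⟨χ, ?_⟩
  apply AlgHom.ext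
  intro y
  obtain ⟨x, rfl⟩ := hπ y
  show Ideal.Quotient.mk J (χ (π x)) = ψ (π x)
  rw [hχ, ← hu']
  have h2 : (Ideal.Quotient.mk J).comp v = (Ideal.Quotient.mk J).comp (u : A' →+* C) := by
    apply IsLocalization.ringHom_ext M
    apply RingHom.ext
    intro a
    show Ideal.Quotient.mk J (v (algebraMap A A' a)) = Ideal.Quotient.mk J (u (algebraMap A A' a))
    rw [hv, hu'a, map_add, Ideal.Quotient.eq_zero_iff_mem.2 (δ a).2, zero_add, hu₀]
  exact congrArg (fun g : A' →+* C ⧸ J => g x) h2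

end Groth.Agent.Helper11.JacB
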