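import Mathlib
import Groth.Agent.Lib.Helper11.GeomRegC
import Groth.Agent.Lib.Helper5.PSR
import Groth.Agent.Lib.Helper17.PS1
import Groth.Agent.Lib.Helper7.IntDim
import Groth.Agent.Lib.Lead.RLR7
import Groth.Agent.Lib.Lead.Hom16

/-!
# Derivations of a power series ring preserving a prime, in the separable case
-/

set_option autoImplicit false

namespace Groth.Agent.Helper11.JacC

universe u
open IsLocalRing Polynomial

section Sep

variable {B Dm : Type*} (K L : Type*) [CommRing B] [IsDomain B] [IsIntegrallyClosed B]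
  [CommRing Dm] [IsDomain Dm] [Algebra B Dm] [Algebra.IsIntegral B Dm]
  [Field K] [Field L] [Algebra B K] [IsFractionRing B K] [Algebra Dm L]
  [Algebra K L] [Algebra B L] [IsScalarTower B Dm L] [IsScalarTower B K L]
  [Algebra.IsSeparable K L]

include K L in
/-- in a separable situation every element of an integral extension of a normal domain is a
simple root of some polynomial -/
theorem exists_poly_separable (x : Dm) :
    ∃ Q : B[X], aeval x Q = 0 ∧ aeval x (derivative Q) ≠ 0 := by
  have hx : IsIntegral B x := Algebra.IsIntegral.isIntegral x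
  refine ⟨minpoly B x, minpoly.aeval B x, fun h0 => ?_⟩
  have h1 := minpoly.isIntegrallyClosed_eq_field_fractions K L hx
  have hsep : (minpoly K (algebraMap Dm L x)).Separable :=
    Algebra.IsSeparable.isSeparable K (algebraMap Dm L x)
  rw [h1] at hsep
  have h2 : aeval (algebraMap Dm L x) ((minpoly B x).map (algebraMap B K)) = 0 := by
    rw [aeval_map_algebraMap, aeval_algebraMap_apply, minpoly.aeval, map_zero]
  have h3 := hsep.aeval_derivative_ne_zero h2
  apply h3
  rw [derivative_map, aeval_map_algebraMap, aeval_algebraMap_apply, h0, map_zero]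

end Sep

section Quot

variable {k A : Type*} [CommRing k] [CommRing A] [Algebra k A] (p : Ideal A)

/-- the linear map induced on the quotient by a derivation preserving the ideal -/
noncomputable def quotLin (D : Derivation k A A) (hD : ∀ g ∈ p, D g ∈ p) :
    (A ⧸ p) →ₗ[k] (A ⧸ p) :=
  (Submodule.liftQ (p.restrictScalars k)
      ((Ideal.Quotient.mkₐ k p).toLinearMap ∘ₗ D.toLinearMap) (by
        intro g hg
        rw [LinearMap.mem_ker]
        exact Ideal.Quotient.eq_zero_iff_mem.2 (hD g hg))) ∘ₗ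
    (Submodule.Quotient.restrictScalarsEquiv k p).symm.toLinearMap

theorem quotLin_mk (D : Derivation k A A) (hD : ∀ g ∈ p, D g ∈ p) (a : A) :
    quotLin p D hD (Ideal.Quotient.mk p a) = Ideal.Quotient.mk p (D a) := by
  unfold quotLin
  rfl

/-- the derivation induced on the quotient by a derivation preserving the ideal -/
noncomputable def quotDer (D : Derivation k A A) (hD : ∀ g ∈ p, D g ∈ p) :
    Derivation k (A ⧸ p) (A ⧸ p) :=
  Derivation.mk' (quotLin p D hD) (by
    intro x y
    obtain ⟨a, rfl⟩ := Ideal.Quotient.mk_surjective x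
    obtain ⟨b, rfl⟩ := Ideal.Quotient.mk_surjective y
    rw [← map_mul, quotLin_mk, quotLin_mk, quotLin_mk, Derivation.leibniz, map_add, smul_eq_mul,
      smul_eq_mul, smul_eq_mul, smul_eq_mul, map_mul, map_mul])

theorem quotDer_mk (D : Derivation k A A) (hD : ∀ g ∈ p, D g ∈ p) (a : A) :
    quotDer p D hD (Ideal.Quotient.mk p a) = Ideal.Quotient.mk p (D a) :=
  quotLin_mk p D hD a

end Quot

section Heart

variable {k : Type u} [Field k] {r s : ℕ} (p : Ideal (MvPowerSeries (Fin r) k)) [p.IsPrime]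
  [Algebra (MvPowerSeries (Fin s) k) (MvPowerSeries (Fin r) k ⧸ p)]
  [IsScalarTower k (MvPowerSeries (Fin s) k) (MvPowerSeries (Fin r) k ⧸ p)]

theorem isUnit_of_isUnit_mk {y : MvPowerSeries (Fin r) k}
    (h : IsUnit (Ideal.Quotient.mk p y)) : IsUnit y := by
  obtain ⟨z', hz'⟩ := h.exists_right_inv
  obtain ⟨z, rfl⟩ := Ideal.Quotient.mk_surjective z'
  rw [← map_mul, ← map_one (Ideal.Quotient.mk p), Ideal.Quotient.eq] at hz'
  have hpm : p ≤ maximalIdeal (MvPowerSeries (Fin r) k) :=
    IsLocalRing.le_maximalIdeal (Ideal.IsPrime.ne_top ‹_›)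
  have h1 : y * z - 1 ∈ maximalIdeal (MvPowerSeries (Fin r) k) := hpm hz'
  have h2 : IsUnit (y * z) := by
    by_contra hnu
    have h3 : y * z ∈ maximalIdeal (MvPowerSeries (Fin r) k) := hnu
    have h4 := (maximalIdeal (MvPowerSeries (Fin r) k)).sub_mem h3 h1
    rw [sub_sub_cancel] at h4
    exact (Ideal.ne_top_iff_one _).1 (maximalIdeal.isMaximal _).ne_top h4
  exact isUnit_of_mul_isUnit_left h2

theorem not_isUnit_algebraMap_X (j : Fin s) :
    ¬ IsUnit (algebraMap (MvPowerSeries (Fin s) k) (MvPowerSeries (Fin r) k ⧸ p)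
      (MvPowerSeries.X j)) := by
  intro hunit
  obtain ⟨y, hy⟩ := Ideal.Quotient.mk_surjective
    (algebraMap (MvPowerSeries (Fin s) k) (MvPowerSeries (Fin r) k ⧸ p) (MvPowerSeries.X j))
  set c : k := MvPowerSeries.constantCoeff y with hc
  have h1 : Ideal.Quotient.mk p (y - MvPowerSeries.C c) =
      algebraMap (MvPowerSeries (Fin s) k) (MvPowerSeries (Fin r) k ⧸ p)
        (MvPowerSeries.X j - MvPowerSeries.C c) := by
    rw [map_sub, map_sub, hy]
    congr 1
    have e1 : (MvPowerSeries.C c : MvPowerSeries (Fin s) k) =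
        algebraMap k (MvPowerSeries (Fin s) k) c := rfl
    have e2 : Ideal.Quotient.mk p (MvPowerSeries.C c : MvPowerSeries (Fin r) k) =
        algebraMap k (MvPowerSeries (Fin r) k ⧸ p) c := rfl
    rw [e1, e2, ← IsScalarTower.algebraMap_apply]
  have h2 : ¬ IsUnit (y - MvPowerSeries.C c) := by
    rw [MvPowerSeries.isUnit_iff_constantCoeff, map_sub, MvPowerSeries.constantCoeff_C, ← hc,
      sub_self]
    exact not_isUnit_zero
  apply h2
  apply isUnit_of_isUnit_mk p
  rw [h1]
  by_cases hc0 : c = 0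
  · rw [hc0, map_zero, sub_zero]
    exact hunit
  · apply IsUnit.map
    rw [MvPowerSeries.isUnit_iff_constantCoeff, map_sub, MvPowerSeries.constantCoeff_C,
      MvPowerSeries.constantCoeff_X, zero_sub]
    exact (isUnit_iff_ne_zero.2 hc0).neg

variable [Module.Finite (MvPowerSeries (Fin s) k) (MvPowerSeries (Fin r) k ⧸ p)]
  {L' L : Type u} [Field L'] [Field L]
  [Algebra (MvPowerSeries (Fin s) k) L'] [IsFractionRing (MvPowerSeries (Fin s) k) L']
  [Algebra (MvPowerSeries (Fin r) k ⧸ p) L] [IsFractionRing (MvPowerSeries (Fin r) k ⧸ p) L]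
  [Algebra L' L] [Algebra (MvPowerSeries (Fin s) k) L]
  [IsScalarTower (MvPowerSeries (Fin s) k) (MvPowerSeries (Fin r) k ⧸ p) L]
  [IsScalarTower (MvPowerSeries (Fin s) k) L' L] [Algebra.IsSeparable L' L]

include L' L in
/-- a derivation preserving `p` and killing the parameters modulo `p` maps everything
into `p` -/
theorem der_mem (D : Derivation k (MvPowerSeries (Fin r) k) (MvPowerSeries (Fin r) k))
    (hD : ∀ g ∈ p, D g ∈ p)
    (hX : ∀ (j : Fin s) (y : MvPowerSeries (Fin r) k), Ideal.Quotient.mk p y =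
      algebraMap (MvPowerSeries (Fin s) k) (MvPowerSeries (Fin r) k ⧸ p) (MvPowerSeries.X j) →
      D y ∈ p) (a : MvPowerSeries (Fin r) k) : D a ∈ p := by
  haveI : IsLocalRing (MvPowerSeries (Fin r) k ⧸ p) :=
    IsLocalRing.of_surjective' (Ideal.Quotient.mk p) Ideal.Quotient.mk_surjective
  let φ : MvPowerSeries (Fin s) k →ₐ[k] MvPowerSeries (Fin r) k ⧸ p :=
    IsScalarTower.toAlgHom k (MvPowerSeries (Fin s) k) (MvPowerSeries (Fin r) k ⧸ p)
  have hφ : ∀ c, φ c = algebraMap (MvPowerSeries (Fin s) k) (MvPowerSeries (Fin r) k ⧸ p) c :=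
    fun c => rfl
  set Dq := quotDer p D hD with hDq
  have hφm : ∀ i, φ (MvPowerSeries.X i) ∈ maximalIdeal (MvPowerSeries (Fin r) k ⧸ p) := by
    intro i
    rw [mem_maximalIdeal, mem_nonunits_iff, hφ]
    exact not_isUnit_algebraMap_X p i
  have hX0 : ∀ i, Dq (φ (MvPowerSeries.X i)) = 0 := by
    intro i
    obtain ⟨y, hy⟩ := Ideal.Quotient.mk_surjective (φ (MvPowerSeries.X i))
    rw [← hy, hDq, quotDer_mk]
    exact Ideal.Quotient.eq_zero_iff_mem.2 (hX i y hy)
  have h0 : ∀ c, Dq (φ c) = 0 := by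
    intro c
    have h1 := GeomRegB.der_mem_span_X φ hφm Dq c
    have h2 : Submodule.span (MvPowerSeries (Fin r) k ⧸ p)
        (Set.range fun i => Dq (φ (MvPowerSeries.X i))) = ⊥ := by
      rw [Submodule.span_eq_bot]
      rintro _ ⟨i, rfl⟩
      exact hX0 i
    rw [h2, Submodule.mem_bot] at h1
    exact h1
  haveI : IsDomain (MvPowerSeries (Fin s) k) := NoZeroDivisors.to_isDomain _
  haveI : IsIntegrallyClosed (MvPowerSeries (Fin s) k) :=
    Groth.Agent.Lead.Hom.isIntegrallyClosed_of_isRegularLocalRing _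
  haveI : Algebra.IsIntegral (MvPowerSeries (Fin s) k) (MvPowerSeries (Fin r) k ⧸ p) :=
    Algebra.IsIntegral.of_finite _ _
  obtain ⟨Q, hQ0, hQ1⟩ := exists_poly_separable (B := MvPowerSeries (Fin s) k)
    (Dm := MvPowerSeries (Fin r) k ⧸ p) L' L (Ideal.Quotient.mk p a)
  have h3 := GeomRegB.der_eval_map_sub_mem Dq φ ⊥ (fun c => by rw [h0]; exact zero_mem _) Q
    (Ideal.Quotient.mk p a)
  have e1 : ∀ Q' : (MvPowerSeries (Fin s) k)[X],
      (Q'.map φ.toRingHom).eval (Ideal.Quotient.mk p a) = aeval (Ideal.Quotient.mk p a) Q' := by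
    intro Q'
    rw [Polynomial.eval_map, Polynomial.aeval_def]
    rfl
  rw [Submodule.mem_bot, Polynomial.derivative_map, e1, e1, hQ0, map_zero, zero_sub,
    neg_eq_zero, smul_eq_mul] at h3
  have h4 : Dq (Ideal.Quotient.mk p a) = 0 := (mul_eq_zero.1 h3).resolve_left hQ1
  rw [hDq, quotDer_mk] at h4
  exact Ideal.Quotient.eq_zero_iff_mem.1 h4

end Heart

section SumDer

variable {k A M ι : Type*} [CommRing k] [CommRing A] [Algebra k A] [AddCommGroup M] [Module A M]
  [Module k M]

theorem sum_der_apply (s : Finset ι) (g : ι → Derivation k A M) (a : A) :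
    (∑ i ∈ s, g i) a = ∑ i ∈ s, g i a := by
  classical
  induction s using Finset.induction_on with
  | empty => simp
  | insert i s hi ih =>
    rw [Finset.sum_insert hi, Finset.sum_insert hi, Derivation.add_apply, ih]

end SumDer

section Lin

variable {k : Type u} [Field k] {r s : ℕ} (p : Ideal (MvPowerSeries (Fin r) k)) [p.IsPrime]
  (L : Type u) [Field L]
  [Algebra (MvPowerSeries (Fin r) k ⧸ p) L] [IsFractionRing (MvPowerSeries (Fin r) k ⧸ p) L]

/-- the canonical map to the residue field of `p` -/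
noncomputable def toL : MvPowerSeries (Fin r) k →+* L :=
  (algebraMap (MvPowerSeries (Fin r) k ⧸ p) L).comp (Ideal.Quotient.mk p)

theorem toL_apply (a : MvPowerSeries (Fin r) k) :
    toL p L a = algebraMap (MvPowerSeries (Fin r) k ⧸ p) L (Ideal.Quotient.mk p a) := rfl

theorem toL_eq_zero_iff (a : MvPowerSeries (Fin r) k) : toL p L a = 0 ↔ a ∈ p := by
  rw [toL_apply, ← Ideal.Quotient.eq_zero_iff_mem]
  exact (map_eq_zero_iff _ (IsFractionRing.injective (MvPowerSeries (Fin r) k ⧸ p) L))

/-- the vector of partial derivatives modulo `p` -/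
noncomputable def vec (g : MvPowerSeries (Fin r) k) : Fin r → L :=
  fun l => toL p L (MvPowerSeries.pderiv k l g)

/-- the derivation with given coefficients -/
noncomputable def comboDer (a : Fin r → MvPowerSeries (Fin r) k) :
    Derivation k (MvPowerSeries (Fin r) k) (MvPowerSeries (Fin r) k) :=
  ∑ l, a l • MvPowerSeries.pderiv k l

theorem comboDer_apply (a : Fin r → MvPowerSeries (Fin r) k) (g : MvPowerSeries (Fin r) k) :
    comboDer a g = ∑ l, a l * MvPowerSeries.pderiv k l g := by
  unfold comboDer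
  rw [sum_der_apply]
  rfl

theorem comboDer_X (a : Fin r → MvPowerSeries (Fin r) k) (l : Fin r) :
    comboDer a (MvPowerSeries.X l) = a l := by
  classical
  rw [comboDer_apply, Finset.sum_eq_single l]
  · rw [MvPowerSeries.pderiv_X_self, mul_one]
  · intro m _ hm
    rw [MvPowerSeries.pderiv_X_of_ne (Ne.symm hm), mul_zero]
  · intro h
    exact absurd (Finset.mem_univ l) h

theorem toL_comboDer (a : Fin r → MvPowerSeries (Fin r) k) (g : MvPowerSeries (Fin r) k) :
    toL p L (comboDer a g) = ∑ l, toL p L (a l) * vec p L g l := by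
  rw [comboDer_apply, map_sum]
  refine Finset.sum_congr rfl fun l _ => ?_
  rw [map_mul]
  rfl

end Lin

end Groth.Agent.Helper11.JacC
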