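import Mathlib
import Groth.Prelude

set_option autoImplicit false
universe u
open Cardinal

namespace Groth.Agent.Helper11.JacCard

section Alg

variable {K : Type u} [Field K]

/-- A field extension of `K` of `K`-dimension smaller than the cardinality of `K` is algebraic. -/
theorem isAlgebraic_of_rank_lt (L : Type u) [Field L] [Algebra K L]
    (h : Module.rank K L < #K) : Algebra.IsAlgebraic K L := by
  by_contra hna
  rw [← Algebra.transcendental_iff_not_isAlgebraic] at hna
  obtain ⟨t, ht⟩ := hna.transcendental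
  have := ht.linearIndependent_sub_inv.cardinal_le_rank
  exact absurd (this.trans_lt h) (lt_irrefl _)

/-- The rank of a localization away from an element stays below an uncountable bound. -/
theorem rank_away_lt {D : Type u} [CommRing D] [Algebra K D] (fb : D)
    (Df : Type u) [CommRing Df] [Algebra D Df] [Algebra K Df] [IsScalarTower K D Df]
    [IsLocalization.Away fb Df]
    (h : Module.rank K D < #K) (hK : ℵ₀ < #K) :
    Module.rank K Df < #K := by
  let u : Df := IsLocalization.Away.invSelf fb
  have hu : algebraMap D Df fb * u = 1 := IsLocalization.Away.mul_invSelf fb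
  let ℓ : ℕ → D →ₗ[K] Df := fun n =>
    (LinearMap.mulLeft K (u ^ n)).comp (IsScalarTower.toAlgHom K D Df).toLinearMap
  let ψ : (ℕ →₀ D) →ₗ[K] Df := Finsupp.lsum K ℓ
  have hψ : Function.Surjective ψ := by
    intro z
    obtain ⟨⟨d, ⟨_, n, rfl⟩⟩, rfl⟩ := IsLocalization.mk'_surjective (Submonoid.powers fb) z
    refine ⟨Finsupp.single n d, ?_⟩
    have h1 : ψ (Finsupp.single n d) = u ^ n * algebraMap D Df d := by
      simp [ψ, ℓ]
    rw [h1, IsLocalization.eq_mk'_iff_mul_eq]
    change u ^ n * algebraMap D Df d * algebraMap D Df (fb ^ n) = algebraMap D Df d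
    rw [map_pow, mul_comm (u ^ n), mul_assoc, ← mul_pow, mul_comm u, hu, one_pow, mul_one]
  have h1 := LinearMap.rank_le_of_surjective ψ hψ
  have h2 : Module.rank K (ℕ →₀ D) = ℵ₀ * Module.rank K D := by
    rw [rank_finsupp K D ℕ]
    simp
  rw [h2] at h1
  exact h1.trans_lt (Cardinal.mul_lt_of_lt hK.le hK h)

/-- A `K`-algebra of dimension smaller than the (uncountable) cardinality of `K` is Jacobson. -/
theorem isJacobsonRing_of_rank_lt (B : Type u) [CommRing B] [Algebra K B]
    (h : Module.rank K B < #K) (hK : ℵ₀ < #K) : IsJacobsonRing B := by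
  rw [isJacobsonRing_iff_prime_eq]
  intro P hP
  refine le_antisymm ?_ Ideal.le_jacobson
  intro f hf
  by_contra hfP
  haveI : P.IsPrime := hP
  let D := B ⧸ P
  let fb : D := Ideal.Quotient.mk P f
  have hfb : fb ≠ 0 := by
    intro h0
    exact hfP (Ideal.Quotient.eq_zero_iff_mem.mp h0)
  let Df := Localization.Away fb
  have hinj : Function.Injective (algebraMap D Df) :=
    IsLocalization.injective Df (powers_le_nonZeroDivisors_of_noZeroDivisors hfb)
  haveI : Nontrivial Df := hinj.nontrivial
  obtain ⟨n, hn⟩ := Ideal.exists_maximal Df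
  haveI := hn
  let L := Df ⧸ n
  letI : Field L := Ideal.Quotient.field n
  have hD : Module.rank K D < #K :=
    (LinearMap.rank_le_of_surjective (Ideal.Quotient.mkₐ K P).toLinearMap
      (Ideal.Quotient.mkₐ_surjective K P)).trans_lt h
  have hDf : Module.rank K Df < #K := rank_away_lt fb Df hD hK
  have hL : Module.rank K L < #K :=
    (LinearMap.rank_le_of_surjective (Ideal.Quotient.mkₐ K n).toLinearMap
      (Ideal.Quotient.mkₐ_surjective K n)).trans_lt hDf
  haveI : Algebra.IsAlgebraic K L := isAlgebraic_of_rank_lt L hL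
  let φ : B →ₐ[K] L :=
    (Ideal.Quotient.mkₐ K n).comp ((IsScalarTower.toAlgHom K D Df).comp (Ideal.Quotient.mkₐ K P))
  have hφ : ∀ b : B, φ b = Ideal.Quotient.mk n (algebraMap D Df (Ideal.Quotient.mk P b)) :=
    fun b => rfl
  have hPle : P ≤ RingHom.ker (φ : B →+* L) := by
    intro b hb
    rw [RingHom.mem_ker]
    change φ b = 0
    rw [hφ, Ideal.Quotient.eq_zero_iff_mem.mpr hb, map_zero, map_zero]
  have hfnot : f ∉ RingHom.ker (φ : B →+* L) := by
    intro hmem
    rw [RingHom.mem_ker] at hmem
    change φ f = 0 at hmem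
    rw [hφ] at hmem
    have hunit : IsUnit (algebraMap D Df fb) := IsLocalization.Away.algebraMap_isUnit fb
    have := (hunit.map (Ideal.Quotient.mk n)).ne_zero
    exact this hmem
  have hmax : (RingHom.ker (φ : B →+* L)).IsMaximal := by
    rw [Ideal.isMaximal_iff]
    refine ⟨?_, ?_⟩
    · rw [RingHom.mem_ker, map_one]
      exact one_ne_zero
    · intro J x hJ hx hxJ
      have hx0 : φ x ≠ 0 := fun h0 => hx (RingHom.mem_ker.mpr h0)
      have hinv : (φ x)⁻¹ ∈ φ.range :=
        φ.range.inv_mem_of_algebraic (x := ⟨φ x, ⟨x, rfl⟩⟩) (Algebra.IsAlgebraic.isAlgebraic _)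
      obtain ⟨c, hc⟩ := hinv
      have hker : x * c - 1 ∈ RingHom.ker (φ : B →+* L) := by
        rw [RingHom.mem_ker]
        change φ (x * c - 1) = 0
        rw [map_sub, map_mul, map_one]
        have : φ c = (φ x)⁻¹ := hc
        rw [this, mul_inv_cancel₀ hx0, sub_self]
      have h1 : (1 : B) = x * c - (x * c - 1) := by ring
      rw [h1]
      exact J.sub_mem (J.mul_mem_right _ hxJ) (hJ hker)
  have : f ∈ RingHom.ker (φ : B →+* L) := by
    rw [Ideal.jacobson, Ideal.mem_sInf] at hf
    exact hf ⟨hPle, hmax⟩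
  exact hfnot this

/-- Residue fields at maximal ideals of such an algebra are algebraic over `K`. -/
theorem isAlgebraic_residueField_of_rank_lt (B : Type u) [CommRing B] [Algebra K B]
    (h : Module.rank K B < #K) (m : Ideal B) [m.IsMaximal] :
    Algebra.IsAlgebraic K m.ResidueField := by
  apply isAlgebraic_of_rank_lt
  refine lt_of_le_of_lt ?_ h
  exact LinearMap.rank_le_of_surjective (IsScalarTower.toAlgHom K B m.ResidueField).toLinearMap
    (Ideal.algebraMap_residueField_surjective m)

end Alg

section Tensor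

open TensorProduct

/-- `R ⊗[k] K` has `K`-dimension at most the cardinality of `R`. -/
theorem rank_tensor_right_le (k R K : Type u) [Field k] [CommRing R] [Algebra k R] [Field K]
    [Algebra k K] :
    letI : Algebra K (R ⊗[k] K) := Algebra.TensorProduct.rightAlgebra
    Module.rank K (R ⊗[k] K) ≤ #R := by
  letI : Algebra K (R ⊗[k] K) := Algebra.TensorProduct.rightAlgebra
  have hspan : Submodule.span K (Set.range (fun r : R => r ⊗ₜ[k] (1 : K))) = ⊤ := by
    rw [eq_top_iff]
    rintro z -
    induction z using TensorProduct.induction_on with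
    | zero => exact zero_mem _
    | tmul r c =>
      have : r ⊗ₜ[k] c = c • (r ⊗ₜ[k] (1 : K)) := by
        rw [Algebra.smul_def]
        change _ = ((1 : R) ⊗ₜ[k] c) * _
        rw [Algebra.TensorProduct.tmul_mul_tmul, one_mul, mul_one]
      rw [this]
      exact Submodule.smul_mem _ _ (Submodule.subset_span ⟨r, rfl⟩)
    | add a b ha hb => exact add_mem ha hb
  calc Module.rank K (R ⊗[k] K) = Module.rank K (⊤ : Submodule K (R ⊗[k] K)) := (rank_top K _).symm
    _ = Module.rank K (Submodule.span K (Set.range fun r : R => r ⊗ₜ[k] (1 : K))) := by rw [hspan]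
    _ ≤ #(Set.range fun r : R => r ⊗ₜ[k] (1 : K)) := rank_span_le _
    _ ≤ #R := Cardinal.mk_range_le

end Tensor

end Groth.Agent.Helper11.JacCard
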