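import Mathlib
import Groth.Prelude
import Groth.Agent.Lib.Helper11.JacCardA

set_option autoImplicit false
universe u
open CategoryTheory CategoryTheory.Limits AlgebraicGeometry Cardinal TensorProduct

attribute [local instance] Curv2.resAlgebra

namespace Groth.Agent.Helper11.JacCard

section Sch

/-- The structure map `Spec κ(x) ⟶ Spec K` of a point of a `K`-scheme is `Spec` of `K → κ(x)`. -/
theorem spec_map_resMap' (K : Type u) [Field K] (X : Scheme.{u}) [X.Over (Spec (CommRingCat.of K))]
    (x : X) :
    Spec.map (CommRingCat.ofHom (Curv2.resMap K X x)) =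
      X.fromSpecResidueField x ≫ (X ↘ Spec (CommRingCat.of K)) := by
  apply ext_of_isAffine
  rw [← cancel_mono (Scheme.ΓSpecIso _).hom, Scheme.ΓSpecIso_naturality]
  rw [Scheme.Hom.comp_appTop, Scheme.fromSpecResidueField, Scheme.Hom.comp_appTop,
    Scheme.fromSpecStalk_appTop]
  simp only [Category.assoc]
  rw [← cancel_epi (Scheme.ΓSpecIso _).inv]
  ext a
  simp [Curv2.resMap, Curv2.stalkMap, Coh.toGlobal]

/-- Residue fields at closed points in an affine chart `Spec T` with `dim_K T < #K` are
algebraic. -/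
theorem isAlgebraic_residueField_of_chart (K : Type u) [Field K] (X' : Scheme.{u})
    [X'.Over (Spec (CommRingCat.of K))]
    (T : Type u) [CommRing T] [Algebra K T] (j : Spec (CommRingCat.of T) ⟶ X')
    (hj : j ≫ (X' ↘ Spec (CommRingCat.of K)) = Spec.map (CommRingCat.ofHom (algebraMap K T)))
    (hrank : Module.rank K T < #K)
    (y : Spec (CommRingCat.of T)) (hy : IsClosed ({y} : Set (Spec (CommRingCat.of T)))) :
    Algebra.IsAlgebraic K (X'.residueField (j y)) := by
  have hmax : y.asIdeal.IsMaximal := (PrimeSpectrum.isClosed_singleton_iff_isMaximal y).mp hy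
  haveI := hmax
  haveI : Algebra.IsAlgebraic K y.asIdeal.ResidueField :=
    isAlgebraic_residueField_of_rank_lt T hrank y.asIdeal
  let iso := Scheme.Spec.residueFieldIso (CommRingCat.of T) y
  let g : X'.residueField (j y) →+* y.asIdeal.ResidueField :=
    (iso.hom.hom).comp (j.residueFieldMap y).hom
  have key : CommRingCat.ofHom (Curv2.resMap K X' (j y)) ≫ j.residueFieldMap y ≫ iso.hom =
      CommRingCat.ofHom (algebraMap K T) ≫
        CommRingCat.ofHom (algebraMap T y.asIdeal.ResidueField) := by
    apply Spec.map_injective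
    rw [Spec.map_comp, Spec.map_comp, Spec.map_comp, spec_map_resMap', Category.assoc,
      Scheme.Hom.SpecMap_residueFieldMap_fromSpecResidueField_assoc, hj,
      ← Scheme.Spec.map_residueFieldIso_inv_eq_fromSpecResidueField]
    simp only [Category.assoc]
    rw [← Spec.map_comp_assoc, Iso.inv_hom_id, Spec.map_id, Category.id_comp]
  refine Algebra.IsAlgebraic.of_ringHom_of_comp_eq (RingHom.id K) g Function.surjective_id
    g.injective ?_
  ext c
  have := congrArg (fun (q : CommRingCat.of K ⟶ CommRingCat.of y.asIdeal.ResidueField) => q.hom c) key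
  simp only [CommRingCat.hom_comp, CommRingCat.hom_ofHom, RingHom.comp_apply] at this
  simp only [RingHom.comp_apply, g]
  rw [IsScalarTower.algebraMap_apply K T y.asIdeal.ResidueField]
  exact this.symm

set_option backward.isDefEq.respectTransparency.types false in
/-- The range of an open immersion from the spectrum of a Jacobson ring is a Jacobson space. -/
theorem jacobsonSpace_opensRange (X' : Scheme.{u}) (T : Type u) [CommRing T] [IsJacobsonRing T]
    (j : Spec (CommRingCat.of T) ⟶ X') [IsOpenImmersion j] : JacobsonSpace ↥(j.opensRange) := by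
  let e := j.isOpenEmbedding.isEmbedding.toHomeomorph
  exact .of_isClosedEmbedding e.symm.isClosedEmbedding

/-- Affine charts of a base change to a field extension. -/
theorem exists_chart (k : Type u) [Field k] (X : Scheme.{u}) [X.Over (Spec (CommRingCat.of k))]
    (K : Type u) [Field K] [Algebra k K] (x' : ↥(Curv2.bc k X K)) :
    ∃ (i : X.affineOpenCover.I₀) (T : Type u) (_ : CommRing T) (_ : Algebra K T)
      (j : Spec (CommRingCat.of T) ⟶ Curv2.bc k X K),
      IsOpenImmersion j ∧ x' ∈ Set.range j ∧
      j ≫ Curv2.bcSnd k X K = Spec.map (CommRingCat.ofHom (algebraMap K T)) ∧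
      Module.rank K T ≤ #(X.affineOpenCover.X i) := by
  let f := X ↘ Spec (CommRingCat.of k)
  let g := Spec.map (CommRingCat.ofHom (algebraMap k K))
  let 𝒜 := X.affineOpenCover
  let 𝒲 := Scheme.Pullback.openCoverOfLeft 𝒜.openCover f g
  obtain ⟨i, p, hp⟩ := 𝒲.exists_eq x'
  let R : CommRingCat := 𝒜.X i
  let h : Spec R ⟶ Spec (CommRingCat.of k) := 𝒜.f i ≫ f
  let φ : CommRingCat.of k ⟶ R := Spec.preimage h
  letI : Algebra k R := φ.hom.toAlgebra
  have hh : h = Spec.map (CommRingCat.ofHom (algebraMap k R)) := (Spec.map_preimage h).symm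
  letI : Algebra K (R ⊗[k] K) := Algebra.TensorProduct.rightAlgebra
  let ε : pullback (Spec.map (CommRingCat.ofHom (algebraMap k R))) g ≅
      Spec (CommRingCat.of (R ⊗[k] K)) := pullbackSpecIso k R K
  let c : pullback h g ≅ pullback (Spec.map (CommRingCat.ofHom (algebraMap k R))) g :=
    pullback.congrHom hh rfl
  let j0 : pullback h g ⟶ Curv2.bc k X K := 𝒲.f i
  haveI : IsOpenImmersion j0 := inferInstanceAs (IsOpenImmersion (𝒲.f i))
  let j : Spec (CommRingCat.of (R ⊗[k] K)) ⟶ Curv2.bc k X K := ε.inv ≫ c.inv ≫ j0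
  refine ⟨i, R ⊗[k] K, inferInstance, inferInstance, j, inferInstance, ?_, ?_, ?_⟩
  · refine ⟨ε.hom (c.hom p), ?_⟩
    have : (c.hom ≫ ε.hom ≫ j) = j0 := by
      simp only [j, Iso.hom_inv_id_assoc]
    rw [← hp]
    exact congrArg (fun (q : pullback h g ⟶ Curv2.bc k X K) => q p) this
  · have h1 : j0 ≫ Curv2.bcSnd k X K = pullback.snd h g := by
      change pullback.map (𝒜.openCover.f i ≫ f) g f g (𝒜.openCover.f i) (𝟙 _) (𝟙 _)
        (by simp) (by simp) ≫ pullback.snd f g = pullback.snd h g
      unfold pullback.map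
      rw [pullback.lift_snd]
      exact Category.comp_id _
    have h2 : c.inv ≫ pullback.snd h g = pullback.snd _ g := by
      simp only [c, pullback.congrHom_inv]
      unfold pullback.map
      rw [pullback.lift_snd]
      exact Category.comp_id _
    simp only [j, Category.assoc, h1, h2]
    exact pullbackSpecIso_inv_snd k R K
  · exact rank_tensor_right_le k R K

/-- After base change to a large enough field, a scheme over a field becomes Jacobson with
algebraic residue fields at closed points. -/
theorem main (k : Type u) [Field k] (X : Scheme.{u}) [X.Over (Spec (CommRingCat.of k))] :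
    ∃ κ : Cardinal.{u}, ∀ (K : Type u) [Field K] [Algebra k K], κ ≤ Cardinal.mk K →
      JacobsonSpace ↥(Curv2.bc k X K) ∧
        ∀ x : ↥(Curv2.bc k X K), IsClosed ({x} : Set ↥(Curv2.bc k X K)) →
          letI : (Curv2.bc k X K).Over (Spec (CommRingCat.of K)) := ⟨Curv2.bcSnd k X K⟩
          Algebra.IsAlgebraic K ((Curv2.bc k X K).residueField x) := by
  refine ⟨Order.succ (max ℵ₀ (Cardinal.sum fun i : X.affineOpenCover.I₀ =>
    #(X.affineOpenCover.X i))), ?_⟩
  intro K _ _ hκ
  have hlt : max ℵ₀ (Cardinal.sum fun i : X.affineOpenCover.I₀ => #(X.affineOpenCover.X i)) < #K :=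
    Order.succ_le_iff.mp hκ
  have hK : ℵ₀ < #K := (le_max_left _ _).trans_lt hlt
  have hR : ∀ i, #(X.affineOpenCover.X i) < #K := fun i =>
    ((Cardinal.le_sum (fun i : X.affineOpenCover.I₀ => #(X.affineOpenCover.X i)) i).trans
      (le_max_right _ _)).trans_lt hlt
  letI : (Curv2.bc k X K).Over (Spec (CommRingCat.of K)) := ⟨Curv2.bcSnd k X K⟩
  have hch : ∀ x' : ↥(Curv2.bc k X K), ∃ (T : Type u) (_ : CommRing T) (_ : Algebra K T)
      (j : Spec (CommRingCat.of T) ⟶ Curv2.bc k X K), IsOpenImmersion j ∧ x' ∈ Set.range j ∧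
      j ≫ Curv2.bcSnd k X K = Spec.map (CommRingCat.ofHom (algebraMap K T)) ∧
      Module.rank K T < #K := by
    intro x'
    obtain ⟨i, T, iT, aT, j, h1, h2, h3, h4⟩ := exists_chart k X K x'
    exact ⟨T, iT, aT, j, h1, h2, h3, h4.trans_lt (hR i)⟩
  constructor
  · choose T iT aT j hjo hjx hjs hjr using hch
    let U : ↥(Curv2.bc k X K) → (Curv2.bc k X K).Opens := fun x' =>
      haveI := hjo x'
      (j x').opensRange
    have hU : TopologicalSpace.IsOpenCover U := by
      refine TopologicalSpace.IsOpenCover.mk (eq_top_iff.mpr ?_)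
      intro x _
      exact TopologicalSpace.Opens.mem_iSup.mpr ⟨x, hjx x⟩
    rw [hU.jacobsonSpace_iff]
    intro x'
    haveI := hjo x'
    haveI : IsJacobsonRing (T x') := isJacobsonRing_of_rank_lt (T x') (hjr x') hK
    exact jacobsonSpace_opensRange _ (T x') (j x')
  · intro x hx
    obtain ⟨T, iT, aT, j, hjo, ⟨y, rfl⟩, hjs, hjr⟩ := hch x
    have hy : IsClosed ({y} : Set (Spec (CommRingCat.of T))) := by
      have h1 : ({y} : Set (Spec (CommRingCat.of T))) = j ⁻¹' {j y} := by
        ext z
        simp only [Set.mem_singleton_iff, Set.mem_preimage]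
        exact ⟨fun h => by rw [h], fun h => j.isOpenEmbedding.injective h⟩
      rw [h1]
      exact hx.preimage j.continuous
    exact isAlgebraic_residueField_of_chart K _ T j hjs hjr y hy

end Sch

end Groth.Agent.Helper11.JacCard
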