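import Mathlib
import Groth.Agent.Lib.Helper11.JacA
import Groth.Agent.Lib.Helper11.JacC

/-!
# The Jacobian matrix of a prime of a power series ring has maximal rank (separable case)
-/

set_option autoImplicit false

namespace Groth.Agent.Helper11.JacD

universe u
open IsLocalRing Polynomial Groth.Agent.Helper11.JacC

section Span

variable {k : Type u} [Field k] {r s : ℕ} (p : Ideal (MvPowerSeries (Fin r) k)) [p.IsPrime]
  [Algebra (MvPowerSeries (Fin s) k) (MvPowerSeries (Fin r) k ⧸ p)]
  [IsScalarTower k (MvPowerSeries (Fin s) k) (MvPowerSeries (Fin r) k ⧸ p)]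
  [Module.Finite (MvPowerSeries (Fin s) k) (MvPowerSeries (Fin r) k ⧸ p)]
  {L' : Type u} (L : Type u) [Field L'] [Field L]
  [Algebra (MvPowerSeries (Fin s) k) L'] [IsFractionRing (MvPowerSeries (Fin s) k) L']
  [Algebra (MvPowerSeries (Fin r) k ⧸ p) L] [IsFractionRing (MvPowerSeries (Fin r) k ⧸ p) L]
  [Algebra L' L] [Algebra (MvPowerSeries (Fin s) k) L]
  [IsScalarTower (MvPowerSeries (Fin s) k) (MvPowerSeries (Fin r) k ⧸ p) L]
  [IsScalarTower (MvPowerSeries (Fin s) k) L' L] [Algebra.IsSeparable L' L]

include L' L in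
/-- a vector of coefficients annihilating the Jacobian rows of generators of `p` and of the
parameters is zero modulo `p` -/
theorem coeff_mem {h : ℕ} (g : Fin h → MvPowerSeries (Fin r) k) (hg : ∀ i, g i ∈ p)
    (hspan : Ideal.span (Set.range fun i =>
      algebraMap (MvPowerSeries (Fin r) k) (Localization.AtPrime p) (g i)) =
      maximalIdeal (Localization.AtPrime p))
    (y : Fin s → MvPowerSeries (Fin r) k)
    (hy : ∀ j, Ideal.Quotient.mk p (y j) =
      algebraMap (MvPowerSeries (Fin s) k) (MvPowerSeries (Fin r) k ⧸ p) (MvPowerSeries.X j))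
    (a : Fin r → MvPowerSeries (Fin r) k)
    (hag : ∀ i, comboDer a (g i) ∈ p) (hay : ∀ j, comboDer a (y j) ∈ p) (l : Fin r) :
    a l ∈ p := by
  set D := comboDer a with hD
  have hDp : ∀ g' ∈ p, D g' ∈ p := by
    intro g' hg'
    obtain ⟨t, ht, b, hb⟩ := GeomRegC.exists_mul_eq_sum p g hspan g' hg'
    have h1 : D (t * g') = D (∑ j, b j * g j) := by rw [hb]
    rw [Derivation.leibniz, smul_eq_mul, smul_eq_mul] at h1
    have h2 : D (∑ j, b j * g j) ∈ p := by
      have h3 := JacA.der_sum_mem p D b g hg
      have h4 : ∑ j, b j * D (g j) ∈ p := p.sum_mem fun j _ => p.mul_mem_left _ (hag j)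
      have := p.add_mem h3 h4
      rwa [sub_add_cancel] at this
    have h5 : t * D g' ∈ p := by
      have h6 : t * D g' = D (∑ j, b j * g j) - g' * D t := by rw [← h1]; ring
      rw [h6]
      exact p.sub_mem h2 (p.mul_mem_right _ hg')
    exact (Ideal.IsPrime.mem_or_mem ‹_› h5).resolve_left ht
  have hDX : ∀ (j : Fin s) (y' : MvPowerSeries (Fin r) k), Ideal.Quotient.mk p y' =
      algebraMap (MvPowerSeries (Fin s) k) (MvPowerSeries (Fin r) k ⧸ p) (MvPowerSeries.X j) →
      D y' ∈ p := by
    intro j y' hy'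
    have h1 : y' - y j ∈ p := by
      rw [← Ideal.Quotient.eq, hy', hy j]
    have h2 : D y' = D (y j) + D (y' - y j) := by rw [← map_add]; congr 1; ring
    rw [h2]
    exact p.add_mem (hay j) (hDp _ h1)
  have h3 := JacC.der_mem (L' := L') (L := L) p D hDp hDX (MvPowerSeries.X l)
  rwa [hD, comboDer_X] at h3

include L' in
theorem span_vec_eq_top {h : ℕ} (g : Fin h → MvPowerSeries (Fin r) k) (hg : ∀ i, g i ∈ p)
    (hspan : Ideal.span (Set.range fun i =>
      algebraMap (MvPowerSeries (Fin r) k) (Localization.AtPrime p) (g i)) =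
      maximalIdeal (Localization.AtPrime p))
    (y : Fin s → MvPowerSeries (Fin r) k)
    (hy : ∀ j, Ideal.Quotient.mk p (y j) =
      algebraMap (MvPowerSeries (Fin s) k) (MvPowerSeries (Fin r) k ⧸ p) (MvPowerSeries.X j)) :
    Submodule.span L (Set.range
      (Sum.elim (fun i => vec p L (g i)) (fun j => vec p L (y j)))) = ⊤ := by
  classical
  by_contra hne
  obtain ⟨ℓ, hℓ0, hℓ⟩ := Submodule.exists_le_ker_of_lt_top _ (lt_top_iff_ne_top.2 hne)
  set c : Fin r → L := fun l => ℓ (fun j => if l = j then 1 else 0) with hc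
  have hℓv : ∀ v : Fin r → L, ℓ v = ∑ l, v l * c l := by
    intro v
    rw [LinearMap.pi_apply_eq_sum_univ ℓ v]
    rfl
  obtain ⟨t, ht⟩ := IsLocalization.exist_integer_multiples_of_finite
    (nonZeroDivisors (MvPowerSeries (Fin r) k ⧸ p)) c
  choose abar habar using ht
  choose a ha using fun l => Ideal.Quotient.mk_surjective (abar l)
  have htL : algebraMap (MvPowerSeries (Fin r) k ⧸ p) L (t : MvPowerSeries (Fin r) k ⧸ p) ≠ 0 := by
    intro h0
    have h1 := (map_eq_zero_iff _
      (IsFractionRing.injective (MvPowerSeries (Fin r) k ⧸ p) L)).1 h0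
    exact nonZeroDivisors.coe_ne_zero t h1
  have hta : ∀ l, toL p L (a l) =
      algebraMap (MvPowerSeries (Fin r) k ⧸ p) L (t : MvPowerSeries (Fin r) k ⧸ p) * c l := by
    intro l
    rw [toL_apply, ha l, habar l, Algebra.smul_def]
  have hker : ∀ w : MvPowerSeries (Fin r) k, ℓ (vec p L w) = 0 → comboDer a w ∈ p := by
    intro w hw
    rw [← toL_eq_zero_iff p L, toL_comboDer]
    have : ∑ l, toL p L (a l) * vec p L w l =
        algebraMap (MvPowerSeries (Fin r) k ⧸ p) L (t : MvPowerSeries (Fin r) k ⧸ p) *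
          ℓ (vec p L w) := by
      rw [hℓv, Finset.mul_sum]
      refine Finset.sum_congr rfl fun l _ => ?_
      rw [hta l]
      ring
    rw [this, hw, mul_zero]
  have hag : ∀ i, comboDer a (g i) ∈ p := by
    intro i
    apply hker
    have : vec p L (g i) ∈ LinearMap.ker ℓ :=
      hℓ (Submodule.subset_span ⟨Sum.inl i, rfl⟩)
    exact this
  have hay : ∀ j, comboDer a (y j) ∈ p := by
    intro j
    apply hker
    have : vec p L (y j) ∈ LinearMap.ker ℓ :=
      hℓ (Submodule.subset_span ⟨Sum.inr j, rfl⟩)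
    exact this
  have hal := coeff_mem (L' := L') p L g hg hspan y hy a hag hay
  apply hℓ0
  apply LinearMap.ext
  intro v
  rw [hℓv, LinearMap.zero_apply]
  refine Finset.sum_eq_zero fun l _ => ?_
  have h1 : toL p L (a l) = 0 := (toL_eq_zero_iff p L (a l)).2 (hal l)
  rw [hta l] at h1
  rw [(mul_eq_zero.1 h1).resolve_left htL, mul_zero]

include L' in
/-- the Jacobian rows of a regular system of parameters of the local ring at `p` are linearly
independent -/
theorem linearIndependent_vec
    (hinj : Function.Injective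
      (algebraMap (MvPowerSeries (Fin s) k) (MvPowerSeries (Fin r) k ⧸ p)))
    {h : ℕ} (g : Fin h → MvPowerSeries (Fin r) k) (hg : ∀ i, g i ∈ p)
    (hspan : Ideal.span (Set.range fun i =>
      algebraMap (MvPowerSeries (Fin r) k) (Localization.AtPrime p) (g i)) =
      maximalIdeal (Localization.AtPrime p))
    (hh : (h : WithBot ℕ∞) ≤ ringKrullDim (Localization.AtPrime p)) :
    LinearIndependent L (fun i => vec p L (g i)) := by
  classical
  choose y hy using fun j : Fin s => Ideal.Quotient.mk_surjective
    (algebraMap (MvPowerSeries (Fin s) k) (MvPowerSeries (Fin r) k ⧸ p) (MvPowerSeries.X j))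
  have htop := span_vec_eq_top (L' := L') p L g hg hspan y hy
  haveI : Algebra.IsIntegral (MvPowerSeries (Fin s) k) (MvPowerSeries (Fin r) k ⧸ p) :=
    Algebra.IsIntegral.of_finite _ _
  have d1 : ringKrullDim (MvPowerSeries (Fin r) k ⧸ p) = s := by
    rw [Groth.Agent.Helper7.IntDim.ringKrullDim_eq_of_isIntegral_of_injective hinj]
    exact le_antisymm (Groth.Agent.Helper17.PS.ringKrullDim_le s)
      (Groth.Agent.Helper17.PS.le_ringKrullDim s)
  have d2 : ringKrullDim (MvPowerSeries (Fin r) k) = r :=
    le_antisymm (Groth.Agent.Helper17.PS.ringKrullDim_le r)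
      (Groth.Agent.Helper17.PS.le_ringKrullDim r)
  have d3 : ringKrullDim (Localization.AtPrime p) = p.height :=
    IsLocalization.AtPrime.ringKrullDim_eq_height p (Localization.AtPrime p)
  have d4 := Groth.Agent.Lead.RLR.height_add_ringKrullDim_quotient_le p
  rw [d1, d2, ← d3] at d4
  have d5 : ((h + s : ℕ) : WithBot ℕ∞) ≤ (r : ℕ) := by
    push_cast
    exact (add_le_add hh le_rfl).trans d4
  have d6 : h + s ≤ r := by exact_mod_cast d5
  have d7 : r ≤ h + s := by
    have h1 := finrank_range_le_card (R := L)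
      (Sum.elim (fun i => vec p L (g i)) (fun j => vec p L (y j)))
    unfold Set.finrank at h1
    rw [htop, finrank_top, Module.finrank_fin_fun, Fintype.card_sum, Fintype.card_fin,
      Fintype.card_fin] at h1
    exact h1
  have hli : LinearIndependent L (Sum.elim (fun i => vec p L (g i)) (fun j => vec p L (y j))) := by
    apply linearIndependent_of_top_le_span_of_card_eq_finrank htop.ge
    rw [Module.finrank_fin_fun, Fintype.card_sum, Fintype.card_fin, Fintype.card_fin]
    omega
  have := hli.comp Sum.inl Sum.inl_injective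
  exact this

end Span

section Det

variable {k : Type u} [Field k] {r : ℕ} (p : Ideal (MvPowerSeries (Fin r) k)) [p.IsPrime]
  (L : Type u) [Field L]
  [Algebra (MvPowerSeries (Fin r) k ⧸ p) L] [IsFractionRing (MvPowerSeries (Fin r) k ⧸ p) L]

/-- linearly independent Jacobian rows give derivations with nonvanishing Jacobian
determinant -/
theorem exists_derivations {c : ℕ} (f : Fin c → MvPowerSeries (Fin r) k)
    (hli : LinearIndependent L (fun j => vec p L (f j))) :
    ∃ D : Fin c → Derivation k (MvPowerSeries (Fin r) k) (MvPowerSeries (Fin r) k),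
      Matrix.det (Matrix.of fun i j => D i (f j)) ∉ p := by
  classical
  set v : Fin c → (Fin r → L) := fun j => vec p L (f j) with hv
  set F : (Fin c → L) →ₗ[L] (Fin r → L) := Fintype.linearCombination L v with hF
  have hker : LinearMap.ker F = ⊥ :=
    LinearMap.ker_eq_bot.2 (linearIndependent_iff_injective_fintypeLinearCombination.1 hli)
  obtain ⟨G, hG⟩ := F.exists_leftInverse_of_injective hker
  have hGv : ∀ j, G (v j) = Pi.single j 1 := by
    intro j
    have h1 : F (Pi.single j 1) = v j := by
      rw [hF, Fintype.linearCombination_apply_single, one_smul]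
    rw [← h1]
    exact congrArg (fun φ : (Fin c → L) →ₗ[L] (Fin c → L) => φ (Pi.single j 1)) hG
  set Gm : Fin c × Fin r → L := fun x => G (fun j => if x.2 = j then 1 else 0) x.1 with hGm
  have hGw : ∀ (w : Fin r → L) (i : Fin c), G w i = ∑ l, w l * Gm (i, l) := by
    intro w i
    have := LinearMap.pi_apply_eq_sum_univ ((LinearMap.proj i).comp G) w
    simp only [LinearMap.comp_apply, LinearMap.proj_apply] at this
    rw [this]
    rfl
  obtain ⟨t, ht⟩ := IsLocalization.exist_integer_multiples_of_finite
    (nonZeroDivisors (MvPowerSeries (Fin r) k ⧸ p)) Gm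
  choose abar habar using ht
  choose a ha using fun x => Ideal.Quotient.mk_surjective (abar x)
  set tL : L := algebraMap (MvPowerSeries (Fin r) k ⧸ p) L (t : MvPowerSeries (Fin r) k ⧸ p)
    with htL
  have htL0 : tL ≠ 0 := by
    intro h0
    have h1 := (map_eq_zero_iff _
      (IsFractionRing.injective (MvPowerSeries (Fin r) k ⧸ p) L)).1 h0
    exact nonZeroDivisors.coe_ne_zero t h1
  have hta : ∀ x, toL p L (a x) = tL * Gm x := by
    intro x
    rw [toL_apply, ha x, habar x, Algebra.smul_def]
  refine ⟨fun i => comboDer (fun l => a (i, l)), ?_⟩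
  set M : Matrix (Fin c) (Fin c) (MvPowerSeries (Fin r) k) :=
    Matrix.of fun i j => comboDer (fun l => a (i, l)) (f j) with hM
  have hMmap : (toL p L).mapMatrix M = tL • (1 : Matrix (Fin c) (Fin c) L) := by
    ext i j
    rw [RingHom.mapMatrix_apply, Matrix.map_apply, hM, Matrix.of_apply, toL_comboDer,
      Matrix.smul_apply, smul_eq_mul]
    have h1 : ∑ l, toL p L (a (i, l)) * vec p L (f j) l = tL * G (v j) i := by
      rw [hGw, Finset.mul_sum]
      refine Finset.sum_congr rfl fun l _ => ?_
      rw [hta]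
      ring
    rw [h1, hGv j, Matrix.one_apply, Pi.single_apply]
  intro hdet
  have h2 : toL p L M.det = 0 := (toL_eq_zero_iff p L _).2 hdet
  rw [RingHom.map_det, hMmap, Matrix.det_smul, Matrix.det_one, mul_one] at h2
  exact pow_ne_zero _ htL0 h2

end Det

end Groth.Agent.Helper11.JacD
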