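import Mathlib

/-!
# The local ring of a quotient as a quotient of the local ring
-/

set_option autoImplicit false

namespace Groth.Agent.Helper11.JacE

universe u
open IsLocalRing

section LocQuot

variable {k R : Type u} [CommRing k] [CommRing R] [Algebra k R] (q p : Ideal R) [p.IsPrime]
  (hqp : q ≤ p) [(p.map (Ideal.Quotient.mk q)).IsPrime]

include hqp in
theorem comap_map_mk : (p.map (Ideal.Quotient.mk q)).comap (Ideal.Quotient.mk q) = p := by
  rw [Ideal.comap_map_of_surjective _ Ideal.Quotient.mk_surjective, ← RingHom.ker_eq_comap_bot,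
    Ideal.mk_ker, sup_eq_left.2 hqp]

include hqp in
theorem mk_mem_map_iff (a : R) : Ideal.Quotient.mk q a ∈ p.map (Ideal.Quotient.mk q) ↔ a ∈ p := by
  rw [← Ideal.mem_comap, comap_map_mk q p hqp]

/-- the canonical map from the local ring at `p` to the local ring of the quotient -/
noncomputable def locQuot :
    Localization.AtPrime p →ₐ[k] Localization.AtPrime (p.map (Ideal.Quotient.mk q)) :=
  { Localization.localRingHom p (p.map (Ideal.Quotient.mk q)) (Ideal.Quotient.mk q)
      (comap_map_mk q p hqp).symm with
    commutes' := fun c => by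
      show Localization.localRingHom p (p.map (Ideal.Quotient.mk q)) (Ideal.Quotient.mk q)
        (comap_map_mk q p hqp).symm (algebraMap k (Localization.AtPrime p) c) = _
      rw [IsScalarTower.algebraMap_apply k R (Localization.AtPrime p),
        Localization.localRingHom_to_map,
        IsScalarTower.algebraMap_apply k (R ⧸ q)
          (Localization.AtPrime (p.map (Ideal.Quotient.mk q)))]
      rfl }

theorem locQuot_algebraMap (a : R) :
    locQuot (k := k) q p hqp (algebraMap R (Localization.AtPrime p) a) =
      algebraMap (R ⧸ q) (Localization.AtPrime (p.map (Ideal.Quotient.mk q)))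
        (Ideal.Quotient.mk q a) := by
  show Localization.localRingHom p (p.map (Ideal.Quotient.mk q)) (Ideal.Quotient.mk q)
    (comap_map_mk q p hqp).symm (algebraMap R (Localization.AtPrime p) a) = _
  rw [Localization.localRingHom_to_map]

theorem locQuot_surjective : Function.Surjective (locQuot (k := k) q p hqp) := by
  intro z
  obtain ⟨⟨xbar, sbar⟩, hz⟩ := IsLocalization.surj (p.map (Ideal.Quotient.mk q)).primeCompl z
  obtain ⟨x, hx⟩ := Ideal.Quotient.mk_surjective xbar
  obtain ⟨s, hs⟩ := Ideal.Quotient.mk_surjective (sbar : R ⧸ q)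
  have hsp : s ∈ p.primeCompl := by
    intro hsp
    apply sbar.2
    rw [← hs]
    exact Ideal.mem_map_of_mem _ hsp
  refine ⟨IsLocalization.mk' (Localization.AtPrime p) x ⟨s, hsp⟩, ?_⟩
  have hunit : IsUnit (algebraMap (R ⧸ q) (Localization.AtPrime (p.map (Ideal.Quotient.mk q)))
      (sbar : R ⧸ q)) := IsLocalization.map_units _ sbar
  apply hunit.mul_right_cancel
  simp only at hz
  rw [hz, ← hs, ← locQuot_algebraMap (k := k) q p hqp s, ← map_mul, IsLocalization.mk'_spec,
    locQuot_algebraMap, hx]

theorem ker_locQuot :
    RingHom.ker (locQuot (k := k) q p hqp : Localization.AtPrime p →+*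
      Localization.AtPrime (p.map (Ideal.Quotient.mk q))) =
      q.map (algebraMap R (Localization.AtPrime p)) := by
  apply le_antisymm
  · intro x' hx'
    rw [RingHom.mem_ker] at hx'
    obtain ⟨x, s, rfl⟩ := IsLocalization.exists_mk'_eq p.primeCompl x'
    rw [IsLocalization.mk'_mem_map_algebraMap_iff p.primeCompl]
    have hx'' : locQuot (k := k) q p hqp (IsLocalization.mk' (Localization.AtPrime p) x s) = 0 :=
      hx'
    have h1 : locQuot (k := k) q p hqp (algebraMap R (Localization.AtPrime p) x) = 0 := by
      rw [← IsLocalization.mk'_spec (Localization.AtPrime p) x s, map_mul, hx'', zero_mul]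
    rw [locQuot_algebraMap,
      IsLocalization.map_eq_zero_iff (p.map (Ideal.Quotient.mk q)).primeCompl] at h1
    obtain ⟨tbar, ht⟩ := h1
    obtain ⟨t, ht'⟩ := Ideal.Quotient.mk_surjective (tbar : R ⧸ q)
    refine ⟨t, ?_, ?_⟩
    · intro htp
      apply tbar.2
      rw [← ht']
      exact Ideal.mem_map_of_mem _ htp
    · rw [← ht', ← map_mul, Ideal.Quotient.eq_zero_iff_mem] at ht
      exact ht
  · rw [Ideal.map_le_iff_le_comap]
    intro a ha
    rw [Ideal.mem_comap, RingHom.mem_ker]
    show locQuot (k := k) q p hqp (algebraMap R (Localization.AtPrime p) a) = 0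
    rw [locQuot_algebraMap, Ideal.Quotient.eq_zero_iff_mem.2 ha, map_zero]

theorem map_maximalIdeal_le :
    (maximalIdeal (Localization.AtPrime p)).map
      (locQuot (k := k) q p hqp : Localization.AtPrime p →+*
      Localization.AtPrime (p.map (Ideal.Quotient.mk q))) ≤
      maximalIdeal (Localization.AtPrime (p.map (Ideal.Quotient.mk q))) := by
  haveI : IsLocalHom (Localization.localRingHom p (p.map (Ideal.Quotient.mk q))
      (Ideal.Quotient.mk q) (comap_map_mk q p hqp).symm) :=
    Localization.isLocalHom_localRingHom _ _ _ _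
  rw [Ideal.map_le_iff_le_comap]
  intro x hx
  rw [Ideal.mem_comap, mem_maximalIdeal, mem_nonunits_iff]
  intro hu
  have : IsUnit x := isUnit_of_map_unit (Localization.localRingHom p
    (p.map (Ideal.Quotient.mk q)) (Ideal.Quotient.mk q) (comap_map_mk q p hqp).symm) x hu
  exact hx this

end LocQuot

end Groth.Agent.Helper11.JacE
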