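import Mathlib
import Groth.Agent.Lib.Helper11.JacA
import Groth.Agent.Lib.Helper11.JacB
import Groth.Agent.Lib.Helper11.JacD
import Groth.Agent.Lib.Helper11.JacE
import Groth.Agent.Lib.Helper14.AdicFSGeomReg
import Groth.Agent.Lib.Helper14.PowerSeriesSmooth
import Groth.Agent.Lib.Helper7.GeomRegFG
import Groth.Agent.Lib.Lead.RLR9

/-!
# Nagata's Jacobian criterion for quotients of power series rings
-/

set_option autoImplicit false

namespace Groth.Agent.Helper11.JacF

universe u
open IsLocalRing Groth.Agent.Helper11.JacC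

section Main

variable {k : Type u} [Field k] (r : ℕ)
  (q p : Ideal (MvPowerSeries (Fin r) k)) [p.IsPrime] (hqp : q ≤ p)
  [(p.map (Ideal.Quotient.mk q)).IsPrime]

/-- the local ring of a power series ring at a prime is formally smooth over the base field for
its adic topology -/
theorem adicFS_localization :
    CAlgX.IsAdicFormallySmooth k (Localization.AtPrime p)
      (maximalIdeal (Localization.AtPrime p)) := by
  have h1 := Groth.Agent.Helper14.PowerSeriesSmooth.isAdicFormallySmooth_mvPowerSeries k k r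
  have h2 := Groth.Agent.Helper14.AdicFSGeomReg.isGeometricallyRegular h1
  have h3 := Groth.Agent.Helper7.GeomRegFG.geomRegular_localization k _ h2 p
  exact Groth.Agent.Helper7.GeomRegFG.adicFS_of_geomRegular k _ h3

include hqp in
theorem adicFS_of_jac {m : ℕ}
    (D : Fin m → Derivation k (MvPowerSeries (Fin r) k) (MvPowerSeries (Fin r) k))
    (f : Fin m → MvPowerSeries (Fin r) k) (hf : ∀ i, f i ∈ q)
    (hspan : q.map (algebraMap (MvPowerSeries (Fin r) k) (Localization.AtPrime p)) =
      Ideal.span (Set.range fun i =>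
        algebraMap (MvPowerSeries (Fin r) k) (Localization.AtPrime p) (f i)))
    (hdet : Matrix.det (Matrix.of fun i j => D i (f j)) ∉ p) :
    CAlgX.IsAdicFormallySmooth k (Localization.AtPrime (p.map (Ideal.Quotient.mk q)))
      (maximalIdeal (Localization.AtPrime (p.map (Ideal.Quotient.mk q)))) := by
  have h1 : RingHom.ker (JacE.locQuot (k := k) q p hqp : Localization.AtPrime p →+*
      Localization.AtPrime (p.map (Ideal.Quotient.mk q))) ≤
      Ideal.span (Set.range fun i =>
        algebraMap (MvPowerSeries (Fin r) k) (Localization.AtPrime p) (f i)) := by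
    rw [JacE.ker_locQuot, hspan]
  have h2 : ∀ j, JacE.locQuot (k := k) q p hqp
      (algebraMap (MvPowerSeries (Fin r) k) (Localization.AtPrime p) (f j)) = 0 := by
    intro j
    rw [JacE.locQuot_algebraMap, Ideal.Quotient.eq_zero_iff_mem.2 (hf j), map_zero]
  have h3 : IsUnit (algebraMap (MvPowerSeries (Fin r) k) (Localization.AtPrime p)
      (Matrix.det (Matrix.of fun i j => D i (f j)))) :=
    IsLocalization.map_units (Localization.AtPrime p) (⟨_, hdet⟩ : p.primeCompl)
  have key := JacB.adicFS_of_jacobian (k := k) (A := MvPowerSeries (Fin r) k)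
    (A' := Localization.AtPrime p) (B' := Localization.AtPrime (p.map (Ideal.Quotient.mk q)))
    p.primeCompl (JacE.locQuot (k := k) q p hqp)
    (JacE.locQuot_surjective q p hqp) D f
  have key2 := key h1
  have key3 := key2 h2
  have key4 := key3 h3
  have key5 := key4 (maximalIdeal (Localization.AtPrime p))
    (maximalIdeal (Localization.AtPrime (p.map (Ideal.Quotient.mk q))))
  have key6 := key5 (JacE.map_maximalIdeal_le q p hqp)
  have key7 := key6 (adicFS_localization r p)
  exact key7

include hqp in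
theorem regular_of_jac {m : ℕ}
    (D : Fin m → Derivation k (MvPowerSeries (Fin r) k) (MvPowerSeries (Fin r) k))
    (f : Fin m → MvPowerSeries (Fin r) k) (hf : ∀ i, f i ∈ q)
    (hspan : q.map (algebraMap (MvPowerSeries (Fin r) k) (Localization.AtPrime p)) =
      Ideal.span (Set.range fun i =>
        algebraMap (MvPowerSeries (Fin r) k) (Localization.AtPrime p) (f i)))
    (hdet : Matrix.det (Matrix.of fun i j => D i (f j)) ∉ p) :
    IsRegularLocalRing (Localization.AtPrime (p.map (Ideal.Quotient.mk q))) := by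
  have hmem : ∀ j, algebraMap (MvPowerSeries (Fin r) k) (Localization.AtPrime p) (f j) ∈
      maximalIdeal (Localization.AtPrime p) := by
    intro j
    rw [IsLocalization.AtPrime.to_map_mem_maximal_iff (Localization.AtPrime p) p]
    exact hqp (hf j)
  set x : Fin m → maximalIdeal (Localization.AtPrime p) := fun j => ⟨_, hmem j⟩ with hx
  have hli := JacA.linearIndependent_toCotangent p D f (fun j => hqp (hf j)) hdet x (fun j => rfl)
  haveI : IsRegularRing (MvPowerSeries (Fin r) k) :=
    Groth.Agent.Helper5.RegPS.isRegularRing_mvPowerSeries_fin k r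
  haveI : IsRegularLocalRing (Localization.AtPrime p) := inferInstance
  have h1 := ((Groth.Agent.Lead.RLR.isRegularLocalRing_and_linearIndependent_iff m x).1.1
    ⟨inferInstance, hli⟩).2
  have hker : RingHom.ker (JacE.locQuot (k := k) q p hqp : Localization.AtPrime p →+*
      Localization.AtPrime (p.map (Ideal.Quotient.mk q))) =
      Ideal.span (Set.range fun i => (x i : Localization.AtPrime p)) := by
    rw [JacE.ker_locQuot, hspan]
  haveI := h1
  let e : (Localization.AtPrime p ⧸
      Ideal.span (Set.range fun i => (x i : Localization.AtPrime p))) ≃+*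
      Localization.AtPrime (p.map (Ideal.Quotient.mk q)) :=
    (Ideal.quotEquivOfEq hker.symm).trans
      (RingHom.quotientKerEquivOfSurjective (JacE.locQuot_surjective (k := k) q p hqp))
  exact IsRegularLocalRing.of_ringEquiv (R := Localization.AtPrime p ⧸
      Ideal.span (Set.range fun i => (x i : Localization.AtPrime p)))
    (R' := Localization.AtPrime (p.map (Ideal.Quotient.mk q))) e

end Main

section Conv

variable {k : Type u} [Field k] (r : ℕ)
  (q p : Ideal (MvPowerSeries (Fin r) k)) [p.IsPrime] (hqp : q ≤ p)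
  [(p.map (Ideal.Quotient.mk q)).IsPrime]
  (s : ℕ) [Algebra (MvPowerSeries (Fin s) k) (MvPowerSeries (Fin r) k ⧸ p)]
  [IsScalarTower k (MvPowerSeries (Fin s) k) (MvPowerSeries (Fin r) k ⧸ p)]
  [Module.Finite (MvPowerSeries (Fin s) k) (MvPowerSeries (Fin r) k ⧸ p)]
  (hinj : Function.Injective
    (algebraMap (MvPowerSeries (Fin s) k) (MvPowerSeries (Fin r) k ⧸ p)))
  {L' L : Type u} [Field L'] [Field L]
  [Algebra (MvPowerSeries (Fin s) k) L'] [IsFractionRing (MvPowerSeries (Fin s) k) L']
  [Algebra (MvPowerSeries (Fin r) k ⧸ p) L] [IsFractionRing (MvPowerSeries (Fin r) k ⧸ p) L]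
  [Algebra L' L] [Algebra (MvPowerSeries (Fin s) k) L]
  [IsScalarTower (MvPowerSeries (Fin s) k) (MvPowerSeries (Fin r) k ⧸ p) L]
  [IsScalarTower (MvPowerSeries (Fin s) k) L' L] [Algebra.IsSeparable L' L]

include hqp hinj L' L in
theorem jac_of_regular
    (hreg : IsRegularLocalRing (Localization.AtPrime (p.map (Ideal.Quotient.mk q)))) :
    ∃ (m : ℕ) (D : Fin m → Derivation k (MvPowerSeries (Fin r) k) (MvPowerSeries (Fin r) k))
      (f : Fin m → MvPowerSeries (Fin r) k), (∀ i, f i ∈ q) ∧
      q.map (algebraMap (MvPowerSeries (Fin r) k) (Localization.AtPrime p)) =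
        Ideal.span (Set.range fun i =>
          algebraMap (MvPowerSeries (Fin r) k) (Localization.AtPrime p) (f i)) ∧
      Matrix.det (Matrix.of fun i j => D i (f j)) ∉ p := by
  classical
  set Ap := Localization.AtPrime p with hAp
  set I : Ideal Ap := q.map (algebraMap (MvPowerSeries (Fin r) k) Ap) with hI
  have hker : RingHom.ker (JacE.locQuot (k := k) q p hqp : Localization.AtPrime p →+*
      Localization.AtPrime (p.map (Ideal.Quotient.mk q))) = I := JacE.ker_locQuot q p hqp
  let e : Localization.AtPrime (p.map (Ideal.Quotient.mk q)) ≃+* (Ap ⧸ I) :=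
    (RingHom.quotientKerEquivOfSurjective (JacE.locQuot_surjective (k := k) q p hqp)).symm.trans
      (Ideal.quotEquivOfEq hker)
  haveI : IsRegularLocalRing (Ap ⧸ I) :=
    IsRegularLocalRing.of_ringEquiv (R := Localization.AtPrime (p.map (Ideal.Quotient.mk q)))
      (R' := Ap ⧸ I) e
  haveI : IsRegularRing (MvPowerSeries (Fin r) k) :=
    Groth.Agent.Helper5.RegPS.isRegularRing_mvPowerSeries_fin k r
  haveI : IsRegularLocalRing Ap := inferInstance
  obtain ⟨c, e', z, hce, hz, hIz⟩ :=
    Groth.Agent.Lead.RLR.exists_adapted_generators_of_regular_quotient I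
  have hzm : ∀ i, z i ∈ maximalIdeal Ap := fun i => hz ▸ Ideal.subset_span ⟨i, rfl⟩
  have hz1 : ∀ j : Fin c, ∃ (x : MvPowerSeries (Fin r) k) (t : MvPowerSeries (Fin r) k),
      x ∈ q ∧ t ∉ p ∧ z (Fin.castAdd e' j) * algebraMap _ Ap t = algebraMap _ Ap x := by
    intro j
    have h1 : z (Fin.castAdd e' j) ∈ I := by
      rw [hIz]
      exact Ideal.subset_span ⟨j, rfl⟩
    obtain ⟨⟨x, t⟩, hxt⟩ := (IsLocalization.mem_map_algebraMap_iff p.primeCompl Ap).1 h1
    exact ⟨x, t, x.2, t.2, hxt⟩
  have hz2 : ∀ i : Fin e', ∃ (x : MvPowerSeries (Fin r) k) (t : MvPowerSeries (Fin r) k),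
      x ∈ p ∧ t ∉ p ∧ z (Fin.natAdd c i) * algebraMap _ Ap t = algebraMap _ Ap x := by
    intro i
    obtain ⟨⟨x, t⟩, hxt⟩ := IsLocalization.surj p.primeCompl (z (Fin.natAdd c i))
    refine ⟨x, t, ?_, t.2, hxt⟩
    rw [← IsLocalization.AtPrime.to_map_mem_maximal_iff Ap p, ← hxt]
    exact Ideal.mul_mem_right _ _ (hzm _)
  choose f sf hfq hsf hfz using hz1
  choose g' sg hgp hsg hgz using hz2
  set G : Fin (c + e') → MvPowerSeries (Fin r) k := Fin.append f g' with hG
  set S : Fin (c + e') → MvPowerSeries (Fin r) k := Fin.append sf sg with hS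
  have hGz : ∀ i, z i * algebraMap _ Ap (S i) = algebraMap _ Ap (G i) := by
    intro i
    refine Fin.addCases (fun j => ?_) (fun j => ?_) i
    · rw [hS, hG, Fin.append_left, Fin.append_left]
      exact hfz j
    · rw [hS, hG, Fin.append_right, Fin.append_right]
      exact hgz j
  have hSp : ∀ i, S i ∉ p := by
    intro i
    refine Fin.addCases (fun j => ?_) (fun j => ?_) i
    · rw [hS, Fin.append_left]
      exact hsf j
    · rw [hS, Fin.append_right]
      exact hsg j
  have hGp : ∀ i, G i ∈ p := by
    intro i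
    refine Fin.addCases (fun j => ?_) (fun j => ?_) i
    · rw [hG, Fin.append_left]
      exact hqp (hfq j)
    · rw [hG, Fin.append_right]
      exact hgp j
  have hunit : ∀ i, IsUnit (algebraMap (MvPowerSeries (Fin r) k) Ap (S i)) := fun i =>
    IsLocalization.map_units Ap (⟨S i, hSp i⟩ : p.primeCompl)
  have hzG : ∀ i, ∃ u : Ap, z i = algebraMap _ Ap (G i) * u := by
    intro i
    obtain ⟨u, hu⟩ := hunit i
    refine ⟨↑u⁻¹, ?_⟩
    rw [← hGz i, ← hu, Units.mul_inv_cancel_right]
  have hspanG : Ideal.span (Set.range fun i => algebraMap (MvPowerSeries (Fin r) k) Ap (G i)) =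
      maximalIdeal Ap := by
    rw [← hz]
    apply le_antisymm
    · rw [Ideal.span_le]
      rintro _ ⟨i, rfl⟩
      show algebraMap (MvPowerSeries (Fin r) k) Ap (G i) ∈ Ideal.span (Set.range z)
      rw [← hGz i]
      exact Ideal.mul_mem_right _ _ (Ideal.subset_span ⟨i, rfl⟩)
    · rw [Ideal.span_le]
      rintro _ ⟨i, rfl⟩
      obtain ⟨u, hu⟩ := hzG i
      rw [hu]
      exact Ideal.mul_mem_right _ _ (Ideal.subset_span ⟨i, rfl⟩)
  have hspanf : I = Ideal.span (Set.range fun j =>
      algebraMap (MvPowerSeries (Fin r) k) Ap (f j)) := by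
    rw [hIz]
    have hGf : ∀ j, G (Fin.castAdd e' j) = f j := fun j => by rw [hG, Fin.append_left]
    apply le_antisymm
    · rw [Ideal.span_le]
      rintro _ ⟨j, rfl⟩
      obtain ⟨u, hu⟩ := hzG (Fin.castAdd e' j)
      show z (Fin.castAdd e' j) ∈ _
      rw [hu, hGf]
      exact Ideal.mul_mem_right _ _ (Ideal.subset_span ⟨j, rfl⟩)
    · rw [Ideal.span_le]
      rintro _ ⟨j, rfl⟩
      show algebraMap (MvPowerSeries (Fin r) k) Ap (f j) ∈ _
      rw [← hGf, ← hGz]
      exact Ideal.mul_mem_right _ _ (Ideal.subset_span ⟨j, rfl⟩)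
  have hh : ((c + e' : ℕ) : WithBot ℕ∞) ≤ ringKrullDim Ap := by
    rw [hce]
    exact le_of_eq IsRegularLocalRing.spanFinrank_maximalIdeal
  have hli := JacD.linearIndependent_vec (L' := L') p L hinj G hGp hspanG hh
  have hli' : LinearIndependent L (fun j : Fin c => vec p L (f j)) := by
    have := hli.comp (Fin.castAdd e') (Fin.castAdd_injective c e')
    have hfun : (fun j : Fin c => vec p L (f j)) =
        (fun i => vec p L (G i)) ∘ Fin.castAdd e' := by
      funext j
      show vec p L (f j) = vec p L (G (Fin.castAdd e' j))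
      rw [hG, Fin.append_left]
    rw [hfun]
    exact this
  obtain ⟨D, hD⟩ := JacD.exists_derivations p L f hli'
  exact ⟨c, D, f, hfq, hspanf, hD⟩

end Conv

end Groth.Agent.Helper11.JacF
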