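/-
Closed points of a Jacobson space and constructible sets (helper11), Stacks 005Z.
-/
import Mathlib.Topology.JacobsonSpace
import Mathlib.Topology.Constructible
import Groth.Agent.Lib.Helper11.Constr

set_option autoImplicit false

namespace Groth.Agent.Helper11

open Set Topology

universe u

variable {X : Type u} [TopologicalSpace X] [JacobsonSpace X]

local notation "ι₀" => (Subtype.val : closedPoints X → X)

theorem jac_subset_of_preimage_subset_of_isLocallyClosed_sdiff {E E' : Set X}
    (h : IsLocallyClosed (E \ E')) (hsub : ι₀ ⁻¹' E ⊆ ι₀ ⁻¹' E') : E ⊆ E' := by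
  by_contra hne
  rw [← Set.sdiff_eq_empty, ← Set.not_nonempty_iff_eq_empty, not_not] at hne
  obtain ⟨p, hp, hpc⟩ := nonempty_inter_closedPoints hne h
  exact hp.2 (hsub (a := ⟨p, hpc⟩) hp.1)

theorem jac_subset_of_preimage_subset_of_isOpen {U V : Set X} (hU : IsOpen U) (hV : IsOpen V)
    (hsub : ι₀ ⁻¹' U ⊆ ι₀ ⁻¹' V) : U ⊆ V :=
  jac_subset_of_preimage_subset_of_isLocallyClosed_sdiff
    (hU.isLocallyClosed.inter hV.isClosed_compl.isLocallyClosed) hsub

theorem jac_subset_of_preimage_subset_of_isConstructible {E E' : Set X}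
    (hE : IsConstructible E) (hE' : IsConstructible E')
    (hsub : ι₀ ⁻¹' E ⊆ ι₀ ⁻¹' E') : E ⊆ E' := by
  by_contra hne
  rw [← Set.sdiff_eq_empty, ← Set.not_nonempty_iff_eq_empty, not_not] at hne
  obtain ⟨t, ht, hEt⟩ := isConstructible_exists_finset_isLocallyClosed (hE.sdiff hE')
  obtain ⟨x, hx⟩ := hne
  have hx' := hx
  rw [hEt] at hx'
  simp only [mem_iUnion, exists_prop] at hx'
  obtain ⟨p, hp, hxp⟩ := hx'
  obtain ⟨q, hq, hqc⟩ := nonempty_inter_closedPoints ⟨x, hxp⟩ (ht p hp).1
  have hq' : q ∈ E \ E' := by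
    rw [hEt]
    simp only [mem_iUnion, exists_prop]
    exact ⟨p, hp, hq⟩
  exact hq'.2 (hsub (a := ⟨q, hqc⟩) hq'.1)

theorem jac_isCompact_iff {U : Set X} (hU : IsOpen U) :
    IsCompact U ↔ IsCompact (ι₀ ⁻¹' U) := by
  constructor
  · intro hc
    refine isCompact_of_finite_subcover ?_
    intro ι W hWo hcov
    choose V hVo hV using fun i => isOpen_induced_iff.mp (hWo i)
    have h1 : U ⊆ ⋃ i, V i := by
      refine jac_subset_of_preimage_subset_of_isOpen hU (isOpen_iUnion hVo) ?_
      rw [preimage_iUnion]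
      simpa only [hV] using hcov
    obtain ⟨t, ht⟩ := hc.elim_finite_subcover V hVo h1
    refine ⟨t, ?_⟩
    intro x hx
    have := ht hx
    simp only [mem_iUnion, exists_prop] at this ⊢
    obtain ⟨i, hi, hxi⟩ := this
    exact ⟨i, hi, by rw [← hV i]; exact hxi⟩
  · intro hc
    refine isCompact_of_finite_subcover ?_
    intro ι V hVo hcov
    obtain ⟨t, ht⟩ := hc.elim_finite_subcover (fun i => ι₀ ⁻¹' V i)
      (fun i => (hVo i).preimage continuous_subtype_val) (by
        rw [← preimage_iUnion]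
        exact preimage_mono hcov)
    refine ⟨t, ?_⟩
    refine jac_subset_of_preimage_subset_of_isOpen hU
      (isOpen_biUnion fun i _ => hVo i) ?_
    simpa only [preimage_iUnion] using ht

theorem jac_isRetrocompact_iff {U : Set X} (hU : IsOpen U) :
    IsRetrocompact U ↔ IsRetrocompact (ι₀ ⁻¹' U) := by
  constructor
  · intro hr W hWc hWo
    obtain ⟨V, hVo, rfl⟩ := isOpen_induced_iff.mp hWo
    rw [← preimage_inter, ← jac_isCompact_iff (hU.inter hVo)]
    exact hr ((jac_isCompact_iff hVo).mpr hWc) hVo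
  · intro hr V hVc hVo
    rw [jac_isCompact_iff (hU.inter hVo), preimage_inter]
    exact hr ((jac_isCompact_iff hVo).mp hVc) (hVo.preimage continuous_subtype_val)

theorem jac_isConstructible_preimage {E : Set X} (hE : IsConstructible E) :
    IsConstructible (ι₀ ⁻¹' E) :=
  hE.preimage continuous_subtype_val fun _ hUo hUr => (jac_isRetrocompact_iff hUo).mp hUr

theorem jac_exists_isConstructible_preimage_eq {F : Set (closedPoints X)}
    (hF : IsConstructible F) : ∃ E : Set X, IsConstructible E ∧ ι₀ ⁻¹' E = F := by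
  induction hF using IsConstructible.empty_union_induction with
  | open_retrocompact W hWo hWr =>
    obtain ⟨V, hVo, rfl⟩ := isOpen_induced_iff.mp hWo
    exact ⟨V, ((jac_isRetrocompact_iff hVo).mpr hWr).isConstructible hVo, rfl⟩
  | union s hs t ht hs' ht' =>
    obtain ⟨E1, h1, rfl⟩ := hs'
    obtain ⟨E2, h2, rfl⟩ := ht'
    exact ⟨E1 ∪ E2, h1.union h2, preimage_union⟩
  | compl s hs hs' =>
    obtain ⟨E1, h1, rfl⟩ := hs'
    exact ⟨E1ᶜ, h1.compl, preimage_compl⟩

end Groth.Agent.Helper11
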