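import Groth.Agent.Lib.Helper11.KI1

/-!
# Right derived functors on complexes versus on `K(𝒜)` (helper11)

For a functor `F` on cochain complexes which identifies homotopic morphisms, a right derived
functor of `F` (with respect to quasi-isomorphisms of complexes, along `DerivedCategory.Q`) is also
a right derived functor of the induced functor on `K(𝒜)`; in particular its unit is an
isomorphism on K-injective complexes (`KI.isIso_unit_cx`).
-/

set_option autoImplicit false

open CategoryTheory CategoryTheory.Limits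

universe w v u

namespace Groth.Agent.Helper11.KI

/-- quasi-isomorphisms of complexes -/
abbrev WC (𝒜 : Type u) [Category.{v} 𝒜] [Abelian 𝒜] :=
  HomologicalComplex.quasiIso 𝒜 (ComplexShape.up ℤ)

variable {𝒜 : Type u} [Category.{v} 𝒜] [Abelian 𝒜]

section CxLevel

variable {H : Type*} [Category H] (F : CochainComplex 𝒜 ℤ ⥤ H)
  (hF : ∀ ⦃K L : CochainComplex 𝒜 ℤ⦄ (f g : K ⟶ L), Homotopy f g → F.map f = F.map g)

/-- the functor induced on `K(𝒜)` by a functor identifying homotopic maps -/
noncomputable def liftK : KA 𝒜 ⥤ H :=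
  CategoryTheory.Quotient.lift (homotopic 𝒜 (ComplexShape.up ℤ)) F
    (fun _ _ f g h => hF f g h.some)

theorem liftK_map {X Y : CochainComplex 𝒜 ℤ} (f : X ⟶ Y) :
    (liftK F hF).map ((quo 𝒜).map f) = F.map f :=
  CategoryTheory.Quotient.lift_map_functor_map _ _ _ f

variable [HasDerivedCategory.{w} 𝒜] (RF : DerivedCategory 𝒜 ⥤ H)
  (α : F ⟶ DerivedCategory.Q ⋙ RF)

/-- the unit, as a natural transformation of functors precomposed with the quotient functor -/
noncomputable def τK : quo 𝒜 ⋙ liftK F hF ⟶ quo 𝒜 ⋙ (DerivedCategory.Qh ⋙ RF) where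
  app X := α.app X
  naturality X Y f := by
    have h := α.naturality f
    simp only [Functor.comp_map] at h ⊢
    rw [liftK_map]
    exact h

/-- the unit descended to `K(𝒜)` -/
noncomputable def αK : liftK F hF ⟶ DerivedCategory.Qh ⋙ RF :=
  CategoryTheory.Quotient.natTransLift _ (τK F hF RF α)

theorem αK_app (X : CochainComplex 𝒜 ℤ) : (αK F hF RF α).app ((quo 𝒜).obj X) = α.app X := rfl

variable [IsGrothendieckAbelian.{v} 𝒜]

/-- a right derived functor on complexes is a right derived functor on `K(𝒜)` -/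
theorem isRightDerivedFunctor_K [RF.IsRightDerivedFunctor α (WC 𝒜)] :
    RF.IsRightDerivedFunctor (αK F hF RF α) (WK 𝒜) := by
  haveI := hasRightDerivedFunctor.{w} (liftK F hF)
  let R₀ := (liftK F hF).totalRightDerived DerivedCategory.Qh (WK 𝒜)
  let α₀ : liftK F hF ⟶ DerivedCategory.Qh ⋙ R₀ :=
    (liftK F hF).totalRightDerivedUnit DerivedCategory.Qh (WK 𝒜)
  rw [Functor.isRightDerivedFunctor_iff_isIso_rightDerivedDesc R₀ α₀ (WK 𝒜) RF (αK F hF RF α)]
  set g := R₀.rightDerivedDesc α₀ (WK 𝒜) RF (αK F hF RF α) with hg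
  have hgfac : ∀ X : CochainComplex 𝒜 ℤ,
      α₀.app ((quo 𝒜).obj X) ≫ g.app (DerivedCategory.Q.obj X) = α.app X := fun X =>
    Functor.rightDerived_fac_app R₀ α₀ (WK 𝒜) RF (αK F hF RF α) ((quo 𝒜).obj X)
  let α₂ : F ⟶ DerivedCategory.Q ⋙ R₀ :=
    { app := fun X => α₀.app ((quo 𝒜).obj X)
      naturality := fun X Y f => by
        have h := α₀.naturality ((quo 𝒜).map f)
        simp only [Functor.comp_map] at h ⊢
        rw [liftK_map] at h
        exact h }
  let h := RF.rightDerivedDesc α (WC 𝒜) R₀ α₂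
  have hhfac : ∀ X : CochainComplex 𝒜 ℤ,
      α.app X ≫ h.app (DerivedCategory.Q.obj X) = α₀.app ((quo 𝒜).obj X) := fun X =>
    Functor.rightDerived_fac_app RF α (WC 𝒜) R₀ α₂ X
  have h1 : g ≫ h = 𝟙 R₀ := by
    apply Functor.rightDerived_ext R₀ α₀ (WK 𝒜)
    ext Y
    obtain ⟨X, rfl⟩ := HomotopyCategory.quotient_obj_surjective Y
    have e1 : α₀.app ((quo 𝒜).obj X) ≫ g.app (DerivedCategory.Q.obj X) ≫
        h.app (DerivedCategory.Q.obj X) = α₀.app ((quo 𝒜).obj X) :=
      ((Category.assoc _ _ _).symm.trans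
        (congrArg (fun t => t ≫ h.app (DerivedCategory.Q.obj X)) (hgfac X))).trans (hhfac X)
    exact e1.trans (Category.comp_id _).symm
  have h2 : h ≫ g = 𝟙 RF := by
    apply Functor.rightDerived_ext RF α (WC 𝒜)
    ext X
    have e2 : α.app X ≫ h.app (DerivedCategory.Q.obj X) ≫ g.app (DerivedCategory.Q.obj X) =
        α.app X :=
      ((Category.assoc _ _ _).symm.trans
        (congrArg (fun t => t ≫ g.app (DerivedCategory.Q.obj X)) (hhfac X))).trans (hgfac X)
    exact e2.trans (Category.comp_id _).symm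
  exact ⟨⟨h, h1, h2⟩⟩

include hF in
/-- the unit of a right derived functor (on complexes) of a functor identifying homotopic maps
is an isomorphism on K-injective complexes -/
theorem isIso_unit_cx [RF.IsRightDerivedFunctor α (WC 𝒜)] (I : CochainComplex 𝒜 ℤ)
    [I.IsKInjective] : IsIso (α.app I) := by
  haveI := isRightDerivedFunctor_K.{w} F hF RF α
  exact isIso_unit.{w} (liftK F hF) RF (αK F hF RF α) I

end CxLevel

end Groth.Agent.Helper11.KI
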