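import Groth.Agent.Lib.Helper11.Tel7
import Groth.Agent.Lib.Helper5.KFlat11

/-!
# Countable direct sums and telescopes of K-flat complexes are K-flat (helper11)

* `KPF.kfl_Scx`: the termwise direct sum `Tel.Scx P` of K-flat complexes is K-flat.
* `KPF.kfl_Tcx`: the telescope `Tel.Tcx g` of K-flat complexes is K-flat.
-/

set_option autoImplicit false

open CategoryTheory CategoryTheory.Limits MonoidalCategory HomologicalComplex DirectSum

universe u

namespace Groth.Agent.Helper11.KPF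

open Groth.Agent.Helper11.Tel Groth.Agent.Helper5.KF

variable {A : Type u} [CommRing A] (P : ℕ → DRing.Cx A)

/-- the projections of the termwise direct sum -/
noncomputable def ρ (n : ℕ) : Scx P ⟶ P n where
  f j := ModuleCat.ofHom (DirectSum.component A ℕ (fun n => (P n).X j) n)
  comm' i j _ := by
    refine ModuleCat.hom_ext (LinearMap.ext fun s => ?_)
    show (DirectSum.lmap (fun n => ((P n).d i j).hom) s) n = ((P n).d i j).hom (s n)
    exact DirectSum.lmap_apply _ s n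

theorem ρ_apply (n : ℕ) (j : ℤ) (s : ⨁ n, (P n).X j) : ((ρ P n).f j).hom s = s n := rfl

theorem sum_ι_ρ (q : ℤ) (s : ⨁ n, (P n).X q) :
    ∃ F : Finset ℕ, ∀ F' : Finset ℕ, F ⊆ F' →
      ∑ n ∈ F', ((ι P n).f q).hom (((ρ P n).f q).hom s) = s := by
  classical
  refine ⟨DFinsupp.support s, fun F' hF' => ?_⟩
  have h1 : ∑ n ∈ F', ((ι P n).f q).hom (((ρ P n).f q).hom s) =
      ∑ n ∈ F', DirectSum.of (fun n => (P n).X q) n (s n) := by
    refine Finset.sum_congr rfl (fun n _ => ?_)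
    rw [ι_apply, ρ_apply, DirectSum.lof_eq_of]
  rw [h1, ← Finset.sum_subset hF' (fun n _ hn => by
    rw [DFinsupp.notMem_support_iff.mp hn, map_zero])]
  exact DirectSum.sum_support_of s

variable (L : DRing.Cx A)

theorem sum_tensor (p q : ℤ) (t : (L.X p ⊗ (Scx P).X q : ModuleCat.{u} A)) :
    ∃ F : Finset ℕ, ∀ F' : Finset ℕ, F ⊆ F' →
      ∑ n ∈ F', (L.X p ◁ (ι P n).f q) ((L.X p ◁ (ρ P n).f q) t) = t := by
  classical
  induction t using TensorProduct.induction_on with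
  | zero =>
    refine ⟨∅, fun F' _ => ?_⟩
    simp
  | tmul l s =>
    obtain ⟨F, hF⟩ := sum_ι_ρ P q s
    refine ⟨F, fun F' hF' => ?_⟩
    have : ∀ n, (L.X p ◁ (ι P n).f q) ((L.X p ◁ (ρ P n).f q) (l ⊗ₜ[A] s)) =
        l ⊗ₜ[A] ((ι P n).f q).hom (((ρ P n).f q).hom s) := fun n => rfl
    simp_rw [this]
    rw [← TensorProduct.tmul_sum, hF F' hF']
  | add x y hx hy =>
    obtain ⟨F₁, h₁⟩ := hx
    obtain ⟨F₂, h₂⟩ := hy
    refine ⟨F₁ ∪ F₂, fun F' hF' => ?_⟩
    simp_rw [map_add]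
    rw [Finset.sum_add_distrib, h₁ F' (Finset.union_subset_left hF'),
      h₂ F' (Finset.union_subset_right hF')]

theorem sum_total (i : ℤ) (z : (L ⊗ Scx P).X i) :
    ∃ F : Finset ℕ, ∀ F' : Finset ℕ, F ⊆ F' →
      ∑ n ∈ F', (L ◁ ι P n).f i ((L ◁ ρ P n).f i z) = z := by
  classical
  let T : Submodule A ((L ⊗ Scx P).X i) :=
    { carrier := {z | ∃ F : Finset ℕ, ∀ F' : Finset ℕ, F ⊆ F' →
        ∑ n ∈ F', (L ◁ ι P n).f i ((L ◁ ρ P n).f i z) = z}
      add_mem' := by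
        rintro x y ⟨F₁, h₁⟩ ⟨F₂, h₂⟩
        refine ⟨F₁ ∪ F₂, fun F' hF' => ?_⟩
        simp_rw [map_add]
        rw [Finset.sum_add_distrib, h₁ F' (Finset.union_subset_left hF'),
          h₂ F' (Finset.union_subset_right hF')]
      zero_mem' := ⟨∅, fun F' _ => Finset.sum_eq_zero (fun n _ => by rw [map_zero, map_zero])⟩
      smul_mem' := by
        rintro c x ⟨F, h⟩
        refine ⟨F, fun F' hF' => ?_⟩
        simp_rw [map_smul]
        rw [← Finset.smul_sum, h F' hF'] }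
  refine mem_of_components L (Scx P) T z (fun p q hpq => ?_)
  obtain ⟨F, hF⟩ := sum_tensor P L p q (pr L (Scx P) p q i z)
  refine ⟨F, fun F' hF' => ?_⟩
  have h1 : ∀ n, (L ◁ Tel.ι P n).f i ((L ◁ ρ P n).f i
      (Groth.Agent.Helper5.KF.ι L (Scx P) p q i hpq (pr L (Scx P) p q i z))) =
      Groth.Agent.Helper5.KF.ι L (Scx P) p q i hpq ((L.X p ◁ (Tel.ι P n).f q) ((L.X p ◁ (ρ P n).f q)
        (pr L (Scx P) p q i z))) := fun n => by
    rw [whiskerLeft_ι_apply, whiskerLeft_ι_apply]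
  show ∑ n ∈ F', (L ◁ Tel.ι P n).f i ((L ◁ ρ P n).f i
      (Groth.Agent.Helper5.KF.ι L (Scx P) p q i hpq (pr L (Scx P) p q i z))) = _
  simp_rw [h1]
  rw [← map_sum, hF F' hF']

/-- The termwise direct sum of K-flat complexes is K-flat. -/
theorem kfl_Scx (hP : ∀ n, KFl (P n)) : KFl (Scx P) := by
  classical
  intro L hL i
  rw [← HomologicalComplex.exactAt_iff_isZero_homology]
  apply exactAt_of_elements
  intro z hz
  obtain ⟨F, hF⟩ := sum_total P L i z
  have hcyc : ∀ n, (L ⊗ P n).d i (i + 1) ((L ◁ ρ P n).f i z) = 0 := fun n => by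
    have h : (L ⊗ P n).d i (i + 1) ((L ◁ ρ P n).f i z) =
        (L ◁ ρ P n).f (i + 1) ((L ⊗ Scx P).d i (i + 1) z) :=
      app ((L ◁ ρ P n).comm i (i + 1)) z
    rw [h, hz, map_zero]
  have hex : ∀ n, ∃ w : (L ⊗ P n).X (i - 1), (L ⊗ P n).d (i - 1) i w = (L ◁ ρ P n).f i z :=
    fun n => elements_of_exactAt _ i
      ((HomologicalComplex.exactAt_iff_isZero_homology _ _).mpr (hP n L hL i)) _ (hcyc n)
  choose w hw using hex
  refine ⟨∑ n ∈ F, (L ◁ ι P n).f (i - 1) (w n), ?_⟩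
  rw [map_sum, ← hF F (Finset.Subset.refl F)]
  refine Finset.sum_congr rfl (fun n _ => ?_)
  have h : (L ⊗ Scx P).d (i - 1) i ((L ◁ ι P n).f (i - 1) (w n)) =
      (L ◁ ι P n).f i ((L ⊗ P n).d (i - 1) i (w n)) :=
    app ((L ◁ ι P n).comm (i - 1) i) (w n)
  rw [h, hw n]

/-- The telescope of K-flat complexes is K-flat. -/
theorem kfl_Tcx (g : ∀ n, P n ⟶ P (n + 1)) (hP : ∀ n, KFl (P n)) : KFl (Tcx g) :=
  KFl.cone _ (kfl_Scx P hP) (kfl_Scx P hP)

end Groth.Agent.Helper11.KPF
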