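import Mathlib
import Groth.Agent.Lib.Helper11.KaehlerUnramA

set_option autoImplicit false

namespace Groth.Agent.Helper11.KaehlerEtaleA

universe u
open IsLocalRing TensorProduct KaehlerDifferential

section

variable (k : Type u) [Field k] (r : ℕ) (A : Type u) [CommRing A]
    [IsLocalRing A] [IsNoetherianRing A]
    [Algebra (MvPowerSeries (Fin r) k) A] [Algebra k A]
    [IsScalarTower k (MvPowerSeries (Fin r) k) A]
    [Module.Finite (MvPowerSeries (Fin r) k) A]
    (p : Ideal A) [p.IsPrime]

/-- the functional on differentials induced by the `i`-th partial derivative, with values in the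
localization at a prime at which `A` is étale over the power series ring -/
noncomputable def lamP [Algebra.FormallyEtale (MvPowerSeries (Fin r) k) (Localization.AtPrime p)]
    (i : Fin r) : Ω[A⁄k] →ₗ[A] Localization.AtPrime p :=
  (((LinearMap.liftBaseChange (Localization.AtPrime p)
      ((Algebra.linearMap (MvPowerSeries (Fin r) k) (Localization.AtPrime p)) ∘ₗ
        (MvPowerSeries.pderiv k i).liftKaehlerDifferential)) ∘ₗ
    (KaehlerDifferential.tensorKaehlerEquivOfFormallyEtale k (MvPowerSeries (Fin r) k)
      (Localization.AtPrime p)).symm.toLinearMap).restrictScalars A) ∘ₗ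
  (KaehlerDifferential.map k k A (Localization.AtPrime p))

theorem lamP_D_algebraMap
    [Algebra.FormallyEtale (MvPowerSeries (Fin r) k) (Localization.AtPrime p)]
    (i : Fin r) (f : MvPowerSeries (Fin r) k) :
    lamP k r A p i (D k A (algebraMap (MvPowerSeries (Fin r) k) A f)) =
      algebraMap (MvPowerSeries (Fin r) k) (Localization.AtPrime p)
        (MvPowerSeries.pderiv k i f) := by
  unfold lamP
  simp only [LinearMap.coe_comp, LinearMap.coe_restrictScalars, Function.comp_apply,
    LinearEquiv.coe_coe]
  rw [KaehlerDifferential.map_D,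
    ← IsScalarTower.algebraMap_apply (MvPowerSeries (Fin r) k) A (Localization.AtPrime p),
    KaehlerDifferential.tensorKaehlerEquivOfFormallyEtale_symm_D_algebraMap,
    LinearMap.liftBaseChange_tmul, one_smul]
  simp only [LinearMap.coe_comp, Function.comp_apply, Derivation.liftKaehlerDifferential_comp_D,
    Algebra.linearMap_apply]

/-- the image of the functional `lamP i` is contained in a finitely generated submodule -/
theorem exists_fg_range_lamP_le
    [Algebra.FormallyEtale (MvPowerSeries (Fin r) k) (Localization.AtPrime p)] (i : Fin r) :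
    ∃ N : Submodule A (Localization.AtPrime p), N.FG ∧ LinearMap.range (lamP k r A p i) ≤ N := by
  obtain ⟨n, a, ha⟩ := Module.Finite.exists_fin (R := MvPowerSeries (Fin r) k) (M := A)
  let N : Submodule A (Localization.AtPrime p) :=
    Submodule.span A (insert (1 : Localization.AtPrime p)
      (Set.range fun j => lamP k r A p i (D k A (a j))))
  refine ⟨N, Submodule.fg_span ((Set.finite_range _).insert _), ?_⟩
  have h1 : ∀ (f : MvPowerSeries (Fin r) k) (x : A),
      x • algebraMap (MvPowerSeries (Fin r) k) (Localization.AtPrime p) f ∈ N := by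
    intro f x
    have h : x • algebraMap (MvPowerSeries (Fin r) k) (Localization.AtPrime p) f =
        (x * algebraMap (MvPowerSeries (Fin r) k) A f) • (1 : Localization.AtPrime p) := by
      rw [IsScalarTower.algebraMap_apply (MvPowerSeries (Fin r) k) A (Localization.AtPrime p),
        mul_smul,
        Algebra.smul_def (algebraMap (MvPowerSeries (Fin r) k) A f) (1 : Localization.AtPrime p),
        mul_one]
    rw [h]
    exact Submodule.smul_mem _ _ (Submodule.subset_span (Set.mem_insert _ _))
  have h2 : ∀ x : A, lamP k r A p i (D k A x) ∈ N := by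
    intro x
    have hx : x ∈ Submodule.span (MvPowerSeries (Fin r) k) (Set.range a) := by rw [ha]; trivial
    refine Submodule.span_induction (p := fun y _ => lamP k r A p i (D k A y) ∈ N) ?_ ?_ ?_ ?_ hx
    · rintro _ ⟨j, rfl⟩
      exact Submodule.subset_span (Set.mem_insert_of_mem _ ⟨j, rfl⟩)
    · rw [map_zero, map_zero]; exact zero_mem _
    · intro y z _ _ hy hz
      rw [map_add, map_add]; exact add_mem hy hz
    · intro f y _ hy
      rw [Algebra.smul_def, Derivation.leibniz, map_add, map_smul, map_smul, lamP_D_algebraMap]
      exact add_mem (Submodule.smul_mem _ _ hy) (h1 _ _)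
  rw [LinearMap.range_eq_map, ← KaehlerDifferential.span_range_derivation k A, Submodule.map_span,
    Submodule.span_le]
  rintro _ ⟨_, ⟨x, rfl⟩, rfl⟩
  exact h2 x

/-- the functional `lamP i` extends to the completed module of differentials -/
theorem exists_functionalP [IsAdicComplete (maximalIdeal A) A]
    [Algebra.FormallyEtale (MvPowerSeries (Fin r) k) (Localization.AtPrime p)] (i : Fin r) :
    ∃ l : AdicCompletion (maximalIdeal A) (Ω[A⁄k]) →ₗ[A] Localization.AtPrime p,
      ∀ ω, l (AdicCompletion.of (maximalIdeal A) _ ω) = lamP k r A p i ω := by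
  obtain ⟨N, hN, hle⟩ := exists_fg_range_lamP_le k r A p i
  haveI : Module.Finite A N := Module.Finite.iff_fg.mpr hN
  haveI : IsAdicComplete (maximalIdeal A) N := AdicDC.isAdicComplete_of_finite A _ N
  let lam' : Ω[A⁄k] →ₗ[A] N := (lamP k r A p i).codRestrict N (fun ω => hle ⟨ω, rfl⟩)
  refine ⟨N.subtype ∘ₗ (AdicCompletion.ofLinearEquiv (maximalIdeal A) N).symm.toLinearMap ∘ₗ
    (AdicCompletion.map (maximalIdeal A) lam').restrictScalars A, fun ω => ?_⟩
  simp only [LinearMap.coe_comp, LinearEquiv.coe_coe, LinearMap.coe_restrictScalars,
    Function.comp_apply]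
  rw [AdicCompletion.map_of, AdicCompletion.ofLinearEquiv_symm_of]
  rfl

/-- the "if" direction of S3850: étale at `p` implies that the localized completed differentials
are free with basis `dT_i` -/
theorem free_of_etale [IsAdicComplete (maximalIdeal A) A] [Module.Finite k (ResidueField A)]
    [Algebra.FormallyEtale (MvPowerSeries (Fin r) k) (Localization.AtPrime p)] :
    Module.Free (Localization.AtPrime p)
      (LocalizedModule p.primeCompl (AdicCompletion (maximalIdeal A) (Ω[A⁄k]))) ∧
    Module.finrank (Localization.AtPrime p)
      (LocalizedModule p.primeCompl (AdicCompletion (maximalIdeal A) (Ω[A⁄k]))) = r := by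
  have hun : Algebra.IsUnramifiedAt (MvPowerSeries (Fin r) k) p :=
    (inferInstance : Algebra.FormallyUnramified (MvPowerSeries (Fin r) k)
      (Localization.AtPrime p))
  choose l hl using fun i => exists_functionalP k r A p i
  let ε : Fin r → LocalizedModule p.primeCompl (AdicCompletion (maximalIdeal A) (Ω[A⁄k])) :=
    fun i => LocalizedModule.mkLinearMap p.primeCompl _ (KaehlerRank.w k r A i)
  have hδ : ∀ i j, l i (KaehlerRank.w k r A j) = if j = i then 1 else 0 := by
    intro i j
    unfold KaehlerRank.w
    rw [hl, lamP_D_algebraMap]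
    split_ifs with h
    · subst h; rw [MvPowerSeries.pderiv_X_self, map_one]
    · rw [MvPowerSeries.pderiv_X_of_ne h, map_zero]
  -- extend the functionals to the localized module
  let L : Fin r → (LocalizedModule p.primeCompl (AdicCompletion (maximalIdeal A) (Ω[A⁄k]))
      →ₗ[Localization.AtPrime p] Localization.AtPrime p) := fun i =>
    LinearMap.extendScalarsOfIsLocalization p.primeCompl (Localization.AtPrime p)
      (IsLocalizedModule.lift p.primeCompl
        (LocalizedModule.mkLinearMap p.primeCompl (AdicCompletion (maximalIdeal A) (Ω[A⁄k])))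
        (l i)
        (IsLocalizedModule.map_units (S := p.primeCompl)
          (Algebra.linearMap A (Localization.AtPrime p))))
  have hL : ∀ i j, L i (ε j) = if j = i then 1 else 0 := by
    intro i j
    simp only [L, ε, LinearMap.extendScalarsOfIsLocalization_apply']
    rw [IsLocalizedModule.lift_apply, hδ]
  have hli : LinearIndependent (Localization.AtPrime p) ε := by
    rw [Fintype.linearIndependent_iff]
    intro c hc i
    have h := congrArg (L i) hc
    rw [map_sum, map_zero] at h
    simp only [map_smul, hL, smul_eq_mul, mul_ite, mul_one, mul_zero, Finset.sum_ite_eq',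
      Finset.mem_univ, if_true] at h
    exact h
  have hsp : ⊤ ≤ Submodule.span (Localization.AtPrime p) (Set.range ε) := by
    rw [top_le_iff]
    exact LocGen.span_mk_eq_top_of_forall p (KaehlerRank.w k r A)
      (fun ω => KaehlerUnramA.exists_smul_mem_span' k r A p hun ω)
  let b := Module.Basis.mk hli hsp
  exact ⟨Module.Free.of_basis b, by rw [Module.finrank_eq_card_basis b, Fintype.card_fin]⟩

end

end Groth.Agent.Helper11.KaehlerEtaleA
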