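import Mathlib
import Groth.Agent.Lib.Helper11.KaehlerEtaleA
import Groth.Agent.Lib.Helper11.KaehlerEtaleB
import Groth.Agent.Lib.Helper11.KaehlerUnramB

set_option autoImplicit false

namespace Groth.Agent.Helper11.KaehlerEtaleC

universe u
open IsLocalRing

theorem S3850_statement (k A : Type u) [Field k] [CommRing A]
    [IsLocalRing A] [IsNoetherianRing A] [Algebra k A] [IsAdicComplete (IsLocalRing.maximalIdeal A) A]
    [Module.Finite k (IsLocalRing.ResidueField A)] (n : ℕ) (hn : ringKrullDim A = n)
    (p : Ideal A) [p.IsPrime] (hp : p ≠ IsLocalRing.maximalIdeal A)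
    (hq : ∃ q ∈ minimalPrimes A, q ≤ p ∧ ringKrullDim (A ⧸ q) = n) :
    (Module.Free (Localization.AtPrime p)
        (LocalizedModule p.primeCompl (AdicCompletion (IsLocalRing.maximalIdeal A) (KaehlerDifferential k A))) ∧
      Module.finrank (Localization.AtPrime p)
        (LocalizedModule p.primeCompl (AdicCompletion (IsLocalRing.maximalIdeal A) (KaehlerDifferential k A))) = n) ↔
      ∃ (_ : Algebra (MvPowerSeries (Fin n) k) A) (_ : IsScalarTower k (MvPowerSeries (Fin n) k) A),
        IsLocalHom (algebraMap (MvPowerSeries (Fin n) k) A) ∧ Module.Finite (MvPowerSeries (Fin n) k) A ∧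
          Algebra.IsEtaleAt (MvPowerSeries (Fin n) k) p := by
  constructor
  · rintro ⟨hfree, hrank⟩
    haveI := hfree
    haveI := KaehlerUnits.finite_completedKaehler k A
    haveI : Module.Finite (Localization.AtPrime p)
        (LocalizedModule p.primeCompl (AdicCompletion (IsLocalRing.maximalIdeal A)
          (KaehlerDifferential k A))) := inferInstance
    let b := Module.finBasisOfFinrankEq (Localization.AtPrime p)
        (LocalizedModule p.primeCompl (AdicCompletion (IsLocalRing.maximalIdeal A)
          (KaehlerDifferential k A))) hrank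
    have hq' : ∃ q ∈ minimalPrimes A, q ≤ p ∧ ringKrullDim (A ⧸ q) = ringKrullDim A := by
      obtain ⟨q, h1, h2, h3⟩ := hq
      exact ⟨q, h1, h2, by rw [h3, hn]⟩
    obtain ⟨alg, tow, hloc, hfin, hun⟩ :=
      KaehlerUnramB.exists_of_gen k A p hp hq' n ⟨b, b.span_eq⟩
    refine ⟨alg, tow, hloc, hfin, ?_⟩
    obtain ⟨q, hqmin, hqp, hdim⟩ := hq
    haveI : q.IsPrime := hqmin.1.1
    exact KaehlerEtaleB.isEtaleAt_of_isUnramifiedAt k n A p
      (KaehlerEtaleB.height_under_le k n A p q hqp hdim)
  · rintro ⟨alg, tow, -, hfin, het⟩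
    haveI : Algebra.FormallyEtale (MvPowerSeries (Fin n) k) (Localization.AtPrime p) := het
    exact KaehlerEtaleA.free_of_etale k n A p

end Groth.Agent.Helper11.KaehlerEtaleC
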