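import Mathlib
import Groth.Agent.Lib.Helper11.KaehlerEtaleC
import Groth.Agent.Lib.Helper14.PowerSeriesSmooth
import Groth.Agent.Lib.Helper14.AdicFSGeomReg
import Groth.Agent.Lib.Helper7.GeomRegFG

set_option autoImplicit false

namespace Groth.Agent.Helper11.KaehlerGeomReg

universe u
open IsLocalRing

/-- adic formal smoothness over a field ascends along a formally smooth local homomorphism -/
theorem adicFS_of_formallySmooth (k R S : Type u) [Field k] [CommRing R] [CommRing S]
    [Algebra k R] [Algebra k S] [Algebra R S] [IsScalarTower k R S]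
    [IsLocalRing R] [IsLocalRing S] [IsLocalHom (algebraMap R S)] [Algebra.FormallySmooth R S]
    (h : CAlgX.IsAdicFormallySmooth k R (maximalIdeal R)) :
    CAlgX.IsAdicFormallySmooth k S (maximalIdeal S) := by
  intro C _ _ J hJ ψ hψ
  obtain ⟨N, hN⟩ := hψ
  let ψ₀ : R →ₐ[k] C ⧸ J := ψ.comp (IsScalarTower.toAlgHom k R S)
  have hψ₀ : ∃ N : ℕ, ∀ x ∈ maximalIdeal R ^ N, ψ₀ x = 0 := by
    refine ⟨N, fun x hx => hN _ ?_⟩
    have h1 : (maximalIdeal R).map (algebraMap R S) ≤ maximalIdeal S :=
      ((IsLocalRing.local_hom_TFAE (algebraMap R S)).out 0 2).mp ‹_›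
    have h2 : algebraMap R S x ∈ ((maximalIdeal R).map (algebraMap R S)) ^ N := by
      rw [← Ideal.map_pow]
      exact Ideal.mem_map_of_mem _ hx
    exact Ideal.pow_right_mono h1 N h2
  obtain ⟨χ₀, hχ₀⟩ := h C J hJ ψ₀ hψ₀
  letI : Algebra R C := χ₀.toRingHom.toAlgebra
  haveI : IsScalarTower k R C := IsScalarTower.of_algebraMap_eq (fun c => (χ₀.commutes c).symm)
  let ψR : S →ₐ[R] C ⧸ J :=
    { ψ.toRingHom with
      commutes' := fun x => by
        have h3 : ψ₀ x = (Ideal.Quotient.mkₐ k J) (χ₀ x) := by
          rw [← hχ₀]; rfl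
        exact h3 }
  obtain ⟨χ, hχ⟩ := Algebra.FormallySmooth.exists_lift J ⟨2, hJ⟩ ψR
  refine ⟨χ.restrictScalars k, ?_⟩
  ext x
  have h4 := AlgHom.congr_fun hχ x
  exact h4

section Main

variable (k : Type u) [Field k] (n : ℕ) (A : Type u) [CommRing A] [IsNoetherianRing A]
    [Algebra k A] [Algebra (MvPowerSeries (Fin n) k) A] [IsScalarTower k (MvPowerSeries (Fin n) k) A]

/-- a prime at which a `k`-algebra is étale over the power series ring has a geometrically
regular local ring -/
theorem isGeometricallyRegular_of_isEtaleAt (p : Ideal A) [hp : p.IsPrime]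
    [het : Algebra.FormallyEtale (MvPowerSeries (Fin n) k) (Localization.AtPrime p)] :
    CAlg.IsGeometricallyRegular k (Localization.AtPrime p) := by
  set r : Ideal (MvPowerSeries (Fin n) k) := p.under (MvPowerSeries (Fin n) k) with hr
  letI := Localization.AtPrime.algebraOfLiesOver r p
  haveI : IsNoetherianRing (Localization.AtPrime p) :=
    IsLocalization.isNoetherianRing p.primeCompl _ inferInstance
  haveI : IsNoetherianRing (Localization.AtPrime r) :=
    IsLocalization.isNoetherianRing r.primeCompl _ inferInstance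
  -- the power series ring is geometrically regular
  have h1 : CAlg.IsGeometricallyRegular k (MvPowerSeries (Fin n) k) :=
    Groth.Agent.Helper14.AdicFSGeomReg.isGeometricallyRegular
      (Groth.Agent.Helper14.PowerSeriesSmooth.isAdicFormallySmooth_mvPowerSeries k k n)
  have h2 : CAlg.IsGeometricallyRegular k (Localization.AtPrime r) :=
    Groth.Agent.Helper7.GeomRegFG.geomRegular_localization k _ h1 r
  have h3 : CAlgX.IsAdicFormallySmooth k (Localization.AtPrime r)
      (maximalIdeal (Localization.AtPrime r)) :=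
    Groth.Agent.Helper7.GeomRegFG.adicFS_of_geomRegular k _ h2
  haveI : Algebra.FormallyEtale (Localization.AtPrime r) (Localization.AtPrime p) :=
    Algebra.FormallyEtale.of_restrictScalars (R := MvPowerSeries (Fin n) k)
  haveI : IsScalarTower k (Localization.AtPrime r) (Localization.AtPrime p) :=
    IsScalarTower.to₁₃₄ k (MvPowerSeries (Fin n) k) _ _
  have h4 := adicFS_of_formallySmooth k (Localization.AtPrime r) (Localization.AtPrime p) h3
  exact Groth.Agent.Helper14.AdicFSGeomReg.isGeometricallyRegular h4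

end Main

end Groth.Agent.Helper11.KaehlerGeomReg

namespace Groth.Agent.Helper11.KaehlerGeomReg

universe u

theorem S5055_statement (k A : Type u) [Field k] [CommRing A]
    [IsLocalRing A] [IsNoetherianRing A] [Algebra k A] [IsAdicComplete (IsLocalRing.maximalIdeal A) A]
    [Module.Finite k (IsLocalRing.ResidueField A)]
    (n : ℕ) (hn : ringKrullDim A = n) (p : Ideal A) [p.IsPrime] (hp : p ≠ IsLocalRing.maximalIdeal A)
    (hq : ∃ q ∈ minimalPrimes A, q ≤ p ∧ ringKrullDim (A ⧸ q) = n)
    (hgen : ∃ s : Fin n → (LocalizedModule p.primeCompl (AdicCompletion (IsLocalRing.maximalIdeal A) (KaehlerDifferential k A))), Submodule.span (Localization.AtPrime p) (Set.range s) = ⊤) :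
    (Module.Free (Localization.AtPrime p) (LocalizedModule p.primeCompl (AdicCompletion (IsLocalRing.maximalIdeal A) (KaehlerDifferential k A))) ∧
      Module.finrank (Localization.AtPrime p) (LocalizedModule p.primeCompl (AdicCompletion (IsLocalRing.maximalIdeal A) (KaehlerDifferential k A))) = n) ∧
      CAlg.IsGeometricallyRegular k (Localization.AtPrime p) := by
  have hq' : ∃ q ∈ minimalPrimes A, q ≤ p ∧ ringKrullDim (A ⧸ q) = ringKrullDim A := by
    obtain ⟨q, h1, h2, h3⟩ := hq
    exact ⟨q, h1, h2, by rw [h3, hn]⟩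
  obtain ⟨alg, tow, hloc, hfin, hun⟩ := KaehlerUnramB.exists_of_gen k A p hp hq' n hgen
  obtain ⟨q, hqmin, hqp, hdim⟩ := hq
  haveI : q.IsPrime := hqmin.1.1
  have het : Algebra.IsEtaleAt (MvPowerSeries (Fin n) k) p :=
    KaehlerEtaleB.isEtaleAt_of_isUnramifiedAt k n A p
      (KaehlerEtaleB.height_under_le k n A p q hqp hdim)
  haveI : Algebra.FormallyEtale (MvPowerSeries (Fin n) k) (Localization.AtPrime p) := het
  exact ⟨KaehlerEtaleA.free_of_etale k n A p, isGeometricallyRegular_of_isEtaleAt k n A p⟩

end Groth.Agent.Helper11.KaehlerGeomReg
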