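import Groth.Agent.Lib.Helper11.EvalBridge
import Mathlib.RingTheory.Ideal.MinimalPrime.Basic
import Mathlib.RingTheory.Ideal.Maximal

/-!
The key lemma on universal homeomorphisms of rings: if `A → B` induces a universal homeomorphism and
is not surjective, there is `b ∉ A` with `b², b³ ∈ A` or with `ℓ b, b^ℓ ∈ A` for a prime `ℓ`.
-/

open CategoryTheory AlgebraicGeometry

universe u

namespace Groth.Agent.Helper11.UH

variable {A B : Type u} [CommRing A] [CommRing B]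

/-- The consequences of being a universal homeomorphism used in the key lemma. -/
structure PreUH (ψ : A →+* B) : Prop where
  bij : Function.Bijective (PrimeSpectrum.comap ψ)
  pins : ∀ (q : PrimeSpectrum B) (c : B), ∃ ℓ : ℕ,
    (ℓ = 1 ∨ (ℓ.Prime ∧ ψ (ℓ : A) ∈ q.asIdeal)) ∧ ∃ n : ℕ, InK ψ q (c ^ (ℓ ^ n))

theorem UHom.preUH {ψ : A →+* B} (h : UHom ψ) : PreUH ψ := by
  refine ⟨?_, fun q c => exists_pow_inK h q c⟩
  have hUH := (isUnivHomeo_spec_iff' ψ).mpr h
  have := hUH (𝟙 _) (𝟙 _) (Spec.map (CommRingCat.ofHom ψ)) IsPullback.of_id_snd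
  exact this.bijective

theorem powers_lemma (R : Subring B) (g : B) (hg : g ∉ R) (N : ℕ) (hN : ∀ m ≥ N, g ^ m ∈ R) :
    ∃ k, g ^ k ∉ R ∧ (g ^ k) ^ 2 ∈ R ∧ (g ^ k) ^ 3 ∈ R := by
  classical
  have hex : ∃ n, ∀ m ≥ n, g ^ m ∈ R := ⟨N, hN⟩
  have hspec := Nat.find_spec hex
  have hmin := fun m (hm : m < Nat.find hex) => Nat.find_min hex hm
  set n0 := Nat.find hex with hn0
  have h2 : 2 ≤ n0 := by
    by_contra hlt
    have : g ^ 1 ∈ R := hspec 1 (by omega)
    rw [pow_one] at this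
    exact hg this
  have h3 := hmin (n0 - 1) (by omega)
  push Not at h3
  obtain ⟨m, hm, hgm⟩ := h3
  have hm' : m = n0 - 1 := by
    by_contra hne
    exact hgm (hspec m (by omega))
  subst hm'
  refine ⟨n0 - 1, hgm, ?_, ?_⟩
  · rw [← pow_mul]
    exact hspec _ (by omega)
  · rw [← pow_mul]
    exact hspec _ (by omega)

theorem KL_finite (ψ : A →+* B) (h : PreUH ψ)
    (hfin : ∃ G : Finset B, ∀ x : B, ∃ c : B → A, x = ∑ g ∈ G, ψ (c g) * g)
    (hne : ∃ b, b ∉ ψ.range) :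
    ∃ b, b ∉ ψ.range ∧ ((b ^ 2 ∈ ψ.range ∧ b ^ 3 ∈ ψ.range) ∨
      ∃ q : PrimeSpectrum B, ¬ InK ψ q b ∧
        ∃ ℓ : ℕ, ℓ.Prime ∧ (ℓ : B) * b ∈ ψ.range ∧ b ^ ℓ ∈ ψ.range) := by
  classical
  obtain ⟨G, hG⟩ := hfin
  -- the conductor
  let I : Ideal A :=
    { carrier := {a | ∀ x : B, ψ a * x ∈ ψ.range}
      add_mem' := by
        intro a b ha hb x
        rw [map_add, add_mul]
        exact Subring.add_mem _ (ha x) (hb x)
      zero_mem' := by
        intro x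
        rw [map_zero, zero_mul]
        exact Subring.zero_mem _
      smul_mem' := by
        intro c a ha x
        rw [smul_eq_mul, map_mul, mul_assoc]
        obtain ⟨y, hy⟩ := ha x
        exact ⟨c * y, by rw [map_mul, hy]⟩ }
  have hImem : ∀ a, a ∈ I ↔ ∀ x : B, ψ a * x ∈ ψ.range := fun a => Iff.rfl
  have hI : I ≠ ⊤ := by
    intro htop
    obtain ⟨b, hb⟩ := hne
    have h1 : (1 : A) ∈ I := htop ▸ Submodule.mem_top
    have := (hImem 1).mp h1 b
    rw [map_one, one_mul] at this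
    exact hb this
  obtain ⟨m, hm, hIm⟩ := Ideal.exists_le_maximal I hI
  have hmprime : m.IsPrime := hm.isPrime
  obtain ⟨p, hp, -⟩ := Ideal.exists_minimalPrimes_le hIm
  have hpprime : p.IsPrime := hp.1.1
  have hIp : I ≤ p := hp.1.2
  obtain ⟨q, hq⟩ := h.bij.2 ⟨p, hpprime⟩
  have hqp : ∀ a : A, ψ a ∈ q.asIdeal ↔ a ∈ p := by
    intro a
    have := congrArg PrimeSpectrum.asIdeal hq
    change Ideal.comap ψ q.asIdeal = p at this
    rw [← this]
    rfl
  -- the finiteness consequence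
  have hstar : ∃ b1 : B, ∀ s : A, s ∉ p → ψ s * b1 ∉ ψ.range := by
    by_contra hcon
    push Not at hcon
    choose σ hσp hσ using hcon
    have hs : (∏ g ∈ G, σ g) ∉ p := by
      intro hmem
      obtain ⟨g, -, hgp⟩ := (Ideal.IsPrime.prod_mem_iff).mp hmem
      exact hσp g hgp
    have hsI : (∏ g ∈ G, σ g) ∈ I := by
      rw [hImem]
      intro x
      obtain ⟨c, rfl⟩ := hG x
      rw [Finset.mul_sum]
      apply Subring.sum_mem
      intro g hg
      have e : (∏ g' ∈ G, σ g') = (∏ g' ∈ G.erase g, σ g') * σ g :=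
        (Finset.prod_erase_mul _ _ hg).symm
      obtain ⟨y, hy⟩ := hσ g
      refine ⟨(∏ g' ∈ G.erase g, σ g') * c g * y, ?_⟩
      rw [e, map_mul, map_mul, map_mul, hy]
      ring
    exact hs (hIp hsI)
  -- the extended ideal lies in the range
  set J : Ideal B := Ideal.map ψ I with hJdef
  have hJ : ∀ x ∈ J, x ∈ ψ.range := by
    intro x hx
    have key : ∀ b : B, b * x ∈ ψ.range := by
      rw [hJdef, Ideal.map] at hx
      induction hx using Submodule.span_induction with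
      | mem y hy =>
        obtain ⟨i, hi, rfl⟩ := hy
        intro b
        rw [mul_comm]
        exact (hImem i).mp hi b
      | zero =>
        intro b
        rw [mul_zero]
        exact Subring.zero_mem _
      | add y z _ _ hy hz =>
        intro b
        rw [mul_add]
        exact Subring.add_mem _ (hy b) (hz b)
      | smul c y _ hy =>
        intro b
        rw [smul_eq_mul, ← mul_assoc]
        exact hy (b * c)
    have := key 1
    rwa [one_mul] at this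
  -- prime avoidance
  have claim2 : ∀ f ∈ q.asIdeal, ∃ s : A, s ∉ p ∧ ∃ n : ℕ, ψ s * f ^ n ∈ J := by
    intro f hf
    by_contra hcon
    push Not at hcon
    let S : Submonoid B :=
      { carrier := {x | ∃ s : A, s ∉ p ∧ ∃ n : ℕ, x = ψ s * f ^ n}
        one_mem' := ⟨1, fun h1 => hpprime.ne_top ((Ideal.eq_top_iff_one p).mpr h1), 0, by simp⟩
        mul_mem' := by
          rintro x y ⟨s, hs, n, rfl⟩ ⟨s', hs', n', rfl⟩
          refine ⟨s * s', fun hmem => ?_, n + n', ?_⟩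
          · rcases hpprime.mem_or_mem hmem with h1 | h1
            · exact hs h1
            · exact hs' h1
          · rw [map_mul, pow_add]
            ring }
    have hdisj : Disjoint (J : Set B) (S : Set B) := by
      rw [Set.disjoint_left]
      rintro x hxJ ⟨s, hs, n, rfl⟩
      exact hcon s hs n hxJ
    obtain ⟨Q, hQprime, hJQ, hQS⟩ := Ideal.exists_le_prime_disjoint J S hdisj
    have h1 : I ≤ Q.comap ψ := fun i hi => hJQ (Ideal.mem_map_of_mem ψ hi)
    have h2 : Q.comap ψ ≤ p := by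
      intro r hr
      by_contra hrp
      exact Set.disjoint_left.mp hQS hr ⟨r, hrp, 0, by simp⟩
    have h3 : p ≤ Q.comap ψ := hp.2 ⟨Ideal.IsPrime.comap ψ, h1⟩ h2
    have h4 : Q.comap ψ = p := le_antisymm h2 h3
    have h5 : (⟨Q, hQprime⟩ : PrimeSpectrum B) = q := by
      apply h.bij.1
      rw [hq]
      exact PrimeSpectrum.ext h4
    have hfQ : f ∈ Q := by
      have := congrArg PrimeSpectrum.asIdeal h5
      change Q = q.asIdeal at this
      rw [this]
      exact hf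
    exact Set.disjoint_left.mp hQS hfQ
      ⟨1, fun h1 => hpprime.ne_top ((Ideal.eq_top_iff_one p).mpr h1), 1, by simp⟩
  by_cases hcase : ∃ f ∈ q.asIdeal, ∀ s : A, s ∉ p → ψ s * f ∉ ψ.range
  · -- case (a)
    obtain ⟨f, hf, hfs⟩ := hcase
    obtain ⟨s, hs, n, hn⟩ := claim2 f hf
    have hg : ψ s * f ∉ ψ.range := hfs s hs
    have hpow : ∀ m ≥ n + 1, (ψ s * f) ^ m ∈ ψ.range := by
      intro m hm
      obtain ⟨k, rfl⟩ : ∃ k, m = n + 1 + k := ⟨m - (n + 1), by omega⟩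
      apply hJ
      have : (ψ s * f) ^ (n + 1 + k) = (ψ s ^ (n + k) * f ^ (1 + k)) * (ψ s * f ^ n) := by
        rw [mul_pow]
        ring
      rw [this]
      exact J.mul_mem_left _ hn
    obtain ⟨k, hk1, hk2, hk3⟩ := powers_lemma ψ.range (ψ s * f) hg (n + 1) hpow
    exact ⟨(ψ s * f) ^ k, hk1, Or.inl ⟨hk2, hk3⟩⟩
  · -- case (b)
    push Not at hcase
    obtain ⟨b1, hb1s⟩ := hstar
    have hnotp : ∀ s : A, ψ s ∉ q.asIdeal → s ∉ p := fun s hs hsp => hs ((hqp s).mpr hsp)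
    have hb1 : ¬ InK ψ q b1 := by
      rintro ⟨a, s, hs, hsa⟩
      obtain ⟨s', hs', y, hy⟩ := hcase _ hsa
      have hss : s' * s ∉ p := by
        intro hmem
        rcases hpprime.mem_or_mem hmem with h1 | h1
        · exact hs' h1
        · exact hnotp s hs h1
      refine hb1s (s' * s) hss ⟨y + s' * a, ?_⟩
      rw [map_add, hy, map_mul, map_mul]
      ring
    obtain ⟨ℓ, hℓ, n, hn⟩ := h.pins q b1
    have hex : ∃ n, InK ψ q (b1 ^ (ℓ ^ n)) := ⟨n, hn⟩
    have hspec := Nat.find_spec hex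
    have hmin := fun m (hm : m < Nat.find hex) => Nat.find_min hex hm
    set n0 := Nat.find hex with hn0
    have hn0pos : n0 ≠ 0 := by
      intro h0
      rw [h0, pow_zero, pow_one] at hspec
      exact hb1 hspec
    have hℓ1 : ℓ ≠ 1 := by
      intro h1
      rw [h1, one_pow, pow_one] at hspec
      exact hb1 hspec
    obtain ⟨hprime, hℓq⟩ : ℓ.Prime ∧ ψ (ℓ : A) ∈ q.asIdeal := by
      rcases hℓ with h1 | h1
      · exact absurd h1 hℓ1
      · exact h1
    have hb2 : ¬ InK ψ q (b1 ^ (ℓ ^ (n0 - 1))) := hmin (n0 - 1) (by omega)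
    have hb2ℓ : InK ψ q ((b1 ^ (ℓ ^ (n0 - 1))) ^ ℓ) := by
      rw [← pow_mul, ← pow_succ]
      have : n0 - 1 + 1 = n0 := by omega
      rw [this]
      exact hspec
    set b2 := b1 ^ (ℓ ^ (n0 - 1)) with hb2def
    obtain ⟨a, s, hs, hsa⟩ := hb2ℓ
    obtain ⟨s', hs', y, hy⟩ := hcase _ hsa
    have hu : s' * s ∉ p := by
      intro hmem
      rcases hpprime.mem_or_mem hmem with h1 | h1
      · exact hs' h1
      · exact hnotp s hs h1
    have hu' : ψ (s' * s) * b2 ^ ℓ ∈ ψ.range := by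
      refine ⟨y + s' * a, ?_⟩
      rw [map_add, hy, map_mul, map_mul]
      ring
    -- b3
    have hb3ℓ : (ψ (s' * s) * b2) ^ ℓ ∈ ψ.range := by
      obtain ⟨t, ht⟩ : ∃ t, ℓ = t + 1 := ⟨ℓ - 1, by have := hprime.pos; omega⟩
      have : (ψ (s' * s) * b2) ^ ℓ = ψ ((s' * s) ^ t) * (ψ (s' * s) * b2 ^ ℓ) := by
        rw [mul_pow, map_pow]
        nth_rewrite 1 [ht]
        rw [pow_succ]
        ring
      rw [this]
      exact Subring.mul_mem _ ⟨_, rfl⟩ hu'
    have hℓb3 : (ℓ : B) * (ψ (s' * s) * b2) ∈ q.asIdeal := by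
      have : (ℓ : B) = ψ (ℓ : A) := (map_natCast ψ ℓ).symm
      rw [this]
      exact q.asIdeal.mul_mem_right _ hℓq
    obtain ⟨s'', hs'', y'', hy''⟩ := hcase _ hℓb3
    have hInK4 : ¬ InK ψ q (ψ s'' * (ψ (s' * s) * b2)) := by
      rintro ⟨a4, s4, hs4, hsa4⟩
      apply hb2
      refine ⟨a4, s4 * s'' * (s' * s), ?_, ?_⟩
      · intro hmem
        rw [hqp] at hmem
        rcases hpprime.mem_or_mem hmem with h1 | h1
        · rcases hpprime.mem_or_mem h1 with h2 | h2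
          · exact hnotp s4 hs4 h2
          · exact hs'' h2
        · exact hu h1
      · have : ψ (s4 * s'' * (s' * s)) * b2 - ψ a4 =
            ψ s4 * (ψ s'' * (ψ (s' * s) * b2)) - ψ a4 := by
          rw [map_mul, map_mul]
          ring
        rw [this]
        exact hsa4
    refine ⟨ψ s'' * (ψ (s' * s) * b2), ?_, Or.inr ⟨q, hInK4, ℓ, hprime, ?_, ?_⟩⟩
    · rintro ⟨a, ha⟩
      apply hInK4
      refine ⟨a, 1, ?_, ?_⟩
      · rw [map_one]
        exact fun h1 => q.isPrime.ne_top ((Ideal.eq_top_iff_one _).mpr h1)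
      · rw [map_one, one_mul, ha, sub_self]
        exact Ideal.zero_mem _
    · refine ⟨y'', ?_⟩
      rw [hy'']
      ring
    · rw [mul_pow, ← map_pow]
      exact Subring.mul_mem _ ⟨_, rfl⟩ hb3ℓ

theorem exists_over {B1 : Type u} [CommRing B1] (ι : B1 →+* B)
    (hι : Function.Injective ι) (hint : ι.IsIntegral) (q1 : PrimeSpectrum B1) :
    ∃ Q : PrimeSpectrum B, ∀ x : B1, x ∈ q1.asIdeal ↔ ι x ∈ Q.asIdeal := by
  let _ : Algebra B1 B := ι.toAlgebra
  have : Algebra.IsIntegral B1 B := ⟨hint⟩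
  have hle : (⊥ : Ideal B).comap (algebraMap B1 B) ≤ q1.asIdeal := by
    intro x hx
    have h0 : ι x = 0 := hx
    have : x = 0 := hι (by rw [h0, map_zero])
    rw [this]
    exact Ideal.zero_mem _
  obtain ⟨Q, -, hQ, hQq⟩ := Ideal.exists_ideal_over_prime_of_isIntegral q1.asIdeal
    (⊥ : Ideal B) hle
  refine ⟨⟨Q, hQ⟩, fun x => ?_⟩
  rw [← hQq]
  rfl

theorem PreUH.of_comp {B1 : Type u} [CommRing B1] (ψ1 : A →+* B1) (ι : B1 →+* B)
    (hι : Function.Injective ι) (hint : ι.IsIntegral) (h : PreUH (ι.comp ψ1)) : PreUH ψ1 := by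
  refine ⟨⟨?_, ?_⟩, ?_⟩
  · intro q1 q1' hqq
    obtain ⟨Q, hQ⟩ := exists_over ι hι hint q1
    obtain ⟨Q', hQ'⟩ := exists_over ι hι hint q1'
    have hQQ : Q = Q' := by
      apply h.bij.1
      ext a
      change ι (ψ1 a) ∈ Q.asIdeal ↔ ι (ψ1 a) ∈ Q'.asIdeal
      rw [← hQ, ← hQ']
      have := congrArg PrimeSpectrum.asIdeal hqq
      change Ideal.comap ψ1 q1.asIdeal = Ideal.comap ψ1 q1'.asIdeal at this
      change a ∈ Ideal.comap ψ1 q1.asIdeal ↔ a ∈ Ideal.comap ψ1 q1'.asIdeal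
      rw [this]
    ext x
    rw [hQ, hQ', hQQ]
  · intro p
    obtain ⟨Q, hQ⟩ := h.bij.2 p
    refine ⟨PrimeSpectrum.comap ι Q, ?_⟩
    rw [← hQ]
    rfl
  · intro q1 c
    obtain ⟨Q, hQ⟩ := exists_over ι hι hint q1
    obtain ⟨ℓ, hℓ, n, a, s, hs, hsa⟩ := h.pins Q (ι c)
    refine ⟨ℓ, ?_, n, a, s, ?_, ?_⟩
    · rcases hℓ with h1 | ⟨h1, h2⟩
      · exact Or.inl h1
      · exact Or.inr ⟨h1, (hQ _).mpr h2⟩
    · intro hmem
      exact hs ((hQ _).mp hmem)
    · rw [hQ, map_sub, map_mul, map_pow]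
      exact hsa

/-- The key lemma, in general. -/
theorem KL_general (ψ : A →+* B) (h : UHom ψ) (hne : ∃ b, b ∉ ψ.range) :
    ∃ b, b ∉ ψ.range ∧ ((b ^ 2 ∈ ψ.range ∧ b ^ 3 ∈ ψ.range) ∨
      ∃ q : PrimeSpectrum B, ¬ InK ψ q b ∧
        ∃ ℓ : ℕ, ℓ.Prime ∧ (ℓ : B) * b ∈ ψ.range ∧ b ^ ℓ ∈ ψ.range) := by
  obtain ⟨b0, hb0⟩ := hne
  let _ : Algebra A B := ψ.toAlgebra
  let B1 : Subalgebra A B := Algebra.adjoin A {b0}
  let ψ1 : A →+* B1 := algebraMap A B1
  let ι : B1 →+* B := B1.val.toRingHom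
  have hcomp : ι.comp ψ1 = ψ := by
    ext a
    rfl
  have hι : Function.Injective ι := Subtype.val_injective
  have hint : ι.IsIntegral := by
    intro b
    obtain ⟨P, hP, hPb⟩ := h.1 b
    refine ⟨P.map ψ1, hP.map ψ1, ?_⟩
    rw [Polynomial.eval₂_map, hcomp]
    exact hPb
  have pre1 : PreUH ψ1 := PreUH.of_comp ψ1 ι hι hint (by rw [hcomp]; exact h.preUH)
  have hfinite : Module.Finite A B1 := Algebra.finite_adjoin_simple_of_isIntegral (h.1 b0)
  have hfin1 : ∃ G : Finset B1, ∀ x : B1, ∃ c : B1 → A, x = ∑ g ∈ G, ψ1 (c g) * g := by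
    obtain ⟨G, hG⟩ := (Module.Finite.fg_top : (⊤ : Submodule A B1).FG)
    refine ⟨G, fun x => ?_⟩
    have hx : x ∈ Submodule.span A (G : Set B1) := by
      rw [hG]
      trivial
    obtain ⟨c, -, hc⟩ := Submodule.mem_span_finset.mp hx
    refine ⟨c, ?_⟩
    rw [← hc]
    refine Finset.sum_congr rfl fun g _ => ?_
    rw [Algebra.smul_def]
  have hne1 : ∃ b : B1, b ∉ ψ1.range := by
    refine ⟨⟨b0, Algebra.subset_adjoin (Set.mem_singleton b0)⟩, ?_⟩
    rintro ⟨a, ha⟩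
    apply hb0
    refine ⟨a, ?_⟩
    have := congrArg ι ha
    exact this
  obtain ⟨b, hb, hcases⟩ := KL_finite ψ1 pre1 hfin1 hne1
  have hrange : ∀ x : B1, x ∈ ψ1.range ↔ ι x ∈ ψ.range := by
    intro x
    constructor
    · rintro ⟨a, rfl⟩
      exact ⟨a, rfl⟩
    · rintro ⟨a, ha⟩
      refine ⟨a, hι ?_⟩
      rw [← ha]
      rfl
  refine ⟨ι b, fun hmem => hb ((hrange b).mpr hmem), ?_⟩
  rcases hcases with ⟨h2, h3⟩ | ⟨q1, hq1, ℓ, hℓ, hℓb, hbℓ⟩
  · left
    refine ⟨?_, ?_⟩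
    · have := (hrange _).mp h2
      rwa [map_pow] at this
    · have := (hrange _).mp h3
      rwa [map_pow] at this
  · right
    obtain ⟨Q, hQ⟩ := exists_over ι hι hint q1
    refine ⟨Q, ?_, ℓ, hℓ, ?_, ?_⟩
    · rintro ⟨a, s, hs, hsa⟩
      apply hq1
      refine ⟨a, s, fun hmem => hs ((hQ _).mp hmem), ?_⟩
      rw [hQ, map_sub, map_mul]
      exact hsa
    · have := (hrange _).mp hℓb
      rwa [map_mul, map_natCast] at this
    · have := (hrange _).mp hbℓ
      rwa [map_pow] at this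

/-- The key lemma for universal homeomorphisms. -/
theorem KL_uh (ψ : A →+* B) (h : UHom ψ) (hne : ∃ b, b ∉ ψ.range) :
    ∃ b, b ∉ ψ.range ∧ ((b ^ 2 ∈ ψ.range ∧ b ^ 3 ∈ ψ.range) ∨
        ∃ ℓ : ℕ, ℓ.Prime ∧ (ℓ : B) * b ∈ ψ.range ∧ b ^ ℓ ∈ ψ.range) := by
  obtain ⟨b, hb, hcases⟩ := KL_general ψ h hne
  refine ⟨b, hb, ?_⟩
  rcases hcases with h1 | ⟨q, -, h2⟩
  · exact Or.inl h1
  · exact Or.inr h2

/-- The key lemma for universal homeomorphisms with trivial residue field extensions. -/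
theorem KL_sn (ψ : A →+* B) (h : UHom ψ) (hr : RFTriv ψ) (hne : ∃ b, b ∉ ψ.range) :
    ∃ b, b ∉ ψ.range ∧ b ^ 2 ∈ ψ.range ∧ b ^ 3 ∈ ψ.range := by
  obtain ⟨b, hb, hcases⟩ := KL_general ψ h hne
  refine ⟨b, hb, ?_⟩
  rcases hcases with h1 | ⟨q, hq, -⟩
  · exact h1
  · exact absurd (hr q b) hq

end Groth.Agent.Helper11.UH
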