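import Groth.Agent.Lib.Helper5.KosReg1
import Groth.Agent.Lib.Helper21.KoszTop
import Groth.Prelude.Def_DRing2
import Groth.Prelude.Def_LCI2

/-!
The Koszul complex (mapping-cone model) of a Koszul-regular sequence is a finite free resolution
of the quotient: `A ⧸ (l)` is a perfect module (helper11).
-/

set_option autoImplicit false
universe u
open CategoryTheory CategoryTheory.Limits CochainComplex
attribute [local instance] HasDerivedCategory.standard

namespace Groth.Agent.Helper11.KoszPerf

open Koszul Groth.Agent.Helper5.KR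

variable (A : Type u) [CommRing A]

theorem isZero_koszul_X_lt : ∀ (l : List A) (n : ℤ), n < -(l.length : ℤ) →
    IsZero ((koszul A l).X n)
  | [], n, hn => by
    change IsZero (((CochainComplex.singleFunctor (ModuleCat.{u} A) 0).obj _).X n)
    exact HomologicalComplex.isZero_single_obj_X _ _ _ _ (by simp at hn; lia)
  | f :: l, n, hn => by
    rw [koszul_cons, mappingCone.isZero_X_iff]
    simp only [List.length_cons, Nat.cast_add, Nat.cast_one] at hn
    exact ⟨isZero_koszul_X_lt l (n + 1) (by lia), isZero_koszul_X_lt l n (by lia)⟩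

theorem koszul_finite_free : ∀ (l : List A) (n : ℤ),
    Module.Finite A ((koszul A l).X n) ∧ Module.Free A ((koszul A l).X n)
  | [], n => by
    by_cases hn : n = 0
    · subst hn
      let e0 : (koszul A []).X 0 ≃ₗ[A] A :=
        (HomologicalComplex.singleObjXSelf (ComplexShape.up ℤ) 0 (ModuleCat.of A A)).toLinearEquiv
      exact ⟨Module.Finite.equiv e0.symm, Module.Free.of_equiv e0.symm⟩
    · have hz : IsZero ((koszul A []).X n) := by
        change IsZero (((CochainComplex.singleFunctor (ModuleCat.{u} A) 0).obj _).X n)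
        exact HomologicalComplex.isZero_single_obj_X _ _ _ _ hn
      haveI : Subsingleton ((koszul A []).X n) := ModuleCat.subsingleton_of_isZero hz
      exact ⟨inferInstance, inferInstance⟩
  | f :: l, n => by
    obtain ⟨h1, h2⟩ := koszul_finite_free l (n + 1)
    obtain ⟨h3, h4⟩ := koszul_finite_free l n
    let e := coneEquiv (f • 𝟙 (koszul A l)) n (n + 1) rfl
    rw [koszul_cons]
    exact ⟨Module.Finite.equiv e.symm, Module.Free.of_equiv e.symm⟩

theorem koszul_vanishesOutside (l : List A) :
    DRing.VanishesOutside (koszul A l) (-(l.length : ℤ)) 0 := by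
  intro i hi
  rcases hi with hi | hi
  · exact isZero_koszul_X_lt A l i hi
  · exact isZero_koszul_X_pos A l i hi

theorem homology_zero_equiv (l : List A) :
    Nonempty ((koszul A l).homology 0 ≃ₗ[A] (A ⧸ Ideal.ofList l)) := by
  obtain ⟨P⟩ := nonempty_pres l
  have hd : (koszul A l).d 0 1 = 0 := (isZero_koszul_X_pos A l 1 (by norm_num)).eq_of_tgt _ _
  obtain ⟨e1⟩ := Groth.Agent.Helper21.KT.homologyTopEquiv (koszul A l) hd
  have hmap : Submodule.map P.e0.toLinearMap (LinearMap.range ((koszul A l).d (-1) 0).hom) =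
      Ideal.ofList l := by
    apply le_antisymm
    · rintro _ ⟨_, ⟨z, rfl⟩, rfl⟩
      show P.e0 (((koszul A l).d (-1) 0).hom z) ∈ Ideal.ofList l
      rw [show P.e0 (((koszul A l).d (-1) 0).hom z) = ∑ i, P.e1 z i * l.get i from P.d0 z]
      exact sum_mem (fun i _ => Ideal.mul_mem_left _ _ (Ideal.subset_span (List.get_mem _ _)))
    · apply Ideal.span_le.mpr
      intro x hx
      obtain ⟨i, rfl⟩ := List.get_of_mem hx
      refine ⟨((koszul A l).d (-1) 0).hom (P.e1.symm (Pi.single i 1)), ⟨_, rfl⟩, ?_⟩
      show P.e0 (((koszul A l).d (-1) 0).hom (P.e1.symm (Pi.single i 1))) = l.get i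
      rw [show P.e0 (((koszul A l).d (-1) 0).hom (P.e1.symm (Pi.single i 1))) =
        ∑ j, P.e1 (P.e1.symm (Pi.single i 1)) j * l.get j from P.d0 _,
        LinearEquiv.apply_symm_apply]
      rw [Finset.sum_eq_single i]
      · simp
      · intro j _ hj
        rw [Pi.single_eq_of_ne hj, zero_mul]
      · intro h
        exact absurd (Finset.mem_univ i) h
  exact ⟨e1.trans (Submodule.Quotient.equiv _ _ P.e0 hmap)⟩

end Groth.Agent.Helper11.KoszPerf
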