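import Groth.Agent.Lib.Helper11.KoszPerf
import Groth.Agent.S6960
import Mathlib.Algebra.Category.ModuleCat.ChangeOfRings

/-!
Koszul-regular ideals have perfect quotients (helper11).
-/

set_option autoImplicit false
universe u
open CategoryTheory CategoryTheory.Limits TensorProduct ChangeOfRings
attribute [local instance] HasDerivedCategory.standard

namespace Groth.Agent.Helper11.KoszPerf

section EsQuot

variable {A S : Type u} [CommRing A] [CommRing S] (φ : A →+* S) (I : Ideal A)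

/-- the `A`-linear map `A ⧸ I → S ⧸ I S` -/
noncomputable def gMap : ModuleCat.of A (A ⧸ I) ⟶
    (ModuleCat.restrictScalars.{u} φ).obj (ModuleCat.of S (S ⧸ I.map φ)) :=
  ModuleCat.ofHom (X := ModuleCat.of A (A ⧸ I))
    (Y := (ModuleCat.restrictScalars.{u} φ).obj (ModuleCat.of S (S ⧸ I.map φ)))
    { toFun := fun x => Ideal.quotientMap (I.map φ) φ Ideal.le_comap_map x
      map_add' := fun x y => map_add _ x y
      map_smul' := fun a x => by
        obtain ⟨b, rfl⟩ := Ideal.Quotient.mk_surjective x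
        have h1 : a • Ideal.Quotient.mk I b = Ideal.Quotient.mk I (a * b) := rfl
        rw [h1, Ideal.quotientMap_mk, map_mul]
        rfl }

theorem gMap_mk (a : A) : (gMap φ I).hom (Ideal.Quotient.mk I a) = Ideal.Quotient.mk _ (φ a) := rfl

/-- `S ⊗_A (A ⧸ I) → S ⧸ I S` -/
noncomputable def θ : (ModuleCat.extendScalars.{u,u,u} φ).obj (ModuleCat.of A (A ⧸ I)) ⟶
    ModuleCat.of S (S ⧸ I.map φ) :=
  ModuleCat.ExtendRestrictScalarsAdj.HomEquiv.fromExtendScalars φ (gMap φ I)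

theorem θ_tmul (s : S) (x : A ⧸ I) :
    (θ φ I).hom (s ⊗ₜ[A,φ] (x : ModuleCat.of A (A ⧸ I))) = s • (gMap φ I).hom x := by
  rfl

/-- the generator `1 ⊗ 1` -/
noncomputable def one1 : ((ModuleCat.extendScalars.{u,u,u} φ).obj (ModuleCat.of A (A ⧸ I)) :
    ModuleCat.{u} S) :=
  (1 : S) ⊗ₜ[A,φ] ((1 : A ⧸ I) : ModuleCat.of A (A ⧸ I))

theorem tmul_mk_eq (s : S) (a : A) :
    (s ⊗ₜ[A,φ] ((Ideal.Quotient.mk I a : A ⧸ I) : ModuleCat.of A (A ⧸ I)) :
      (ModuleCat.extendScalars.{u,u,u} φ).obj (ModuleCat.of A (A ⧸ I))) =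
      (s * φ a) • one1 φ I := by
  have h1 : ((Ideal.Quotient.mk I a : A ⧸ I) : ModuleCat.of A (A ⧸ I)) =
      a • ((1 : A ⧸ I) : ModuleCat.of A (A ⧸ I)) := by
    show _ = Ideal.Quotient.mk I (a * 1)
    rw [mul_one]
  have h2 := TensorProduct.smul_tmul (R := A) (R' := A) a
    (show ((ModuleCat.restrictScalars.{u} φ).obj (ModuleCat.of S S)) from s)
    ((1 : A ⧸ I) : ModuleCat.of A (A ⧸ I))
  have h3 : (s * φ a) • one1 φ I =
      ((φ a * s : S) ⊗ₜ[A,φ] ((1 : A ⧸ I) : ModuleCat.of A (A ⧸ I)) :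
        (ModuleCat.extendScalars.{u,u,u} φ).obj (ModuleCat.of A (A ⧸ I))) := by
    show ((s * φ a) * 1 : S) ⊗ₜ[A,φ] ((1 : A ⧸ I) : ModuleCat.of A (A ⧸ I)) = _
    rw [mul_one, mul_comm]
    rfl
  rw [h3, h1]
  exact h2.symm

/-- `S → S ⊗_A (A ⧸ I)`, `s ↦ s • (1 ⊗ 1)` -/
noncomputable def ψ₀ : S →ₗ[S]
    ((ModuleCat.extendScalars.{u,u,u} φ).obj (ModuleCat.of A (A ⧸ I)) : ModuleCat.{u} S) :=
  LinearMap.toSpanSingleton S _ (one1 φ I)

theorem ψ₀_apply (s : S) : ψ₀ φ I s = s • one1 φ I := rfl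

theorem map_le_ker : I.map φ ≤ LinearMap.ker (ψ₀ φ I) := by
  rw [Ideal.map_le_iff_le_comap]
  intro a ha
  show ψ₀ φ I (φ a) = 0
  have h := tmul_mk_eq φ I 1 a
  rw [one_mul] at h
  rw [ψ₀_apply, ← h, Ideal.Quotient.eq_zero_iff_mem.mpr ha]
  exact TensorProduct.tmul_zero _ _

/-- `S ⧸ I S → S ⊗_A (A ⧸ I)` -/
noncomputable def ψ : ModuleCat.of S (S ⧸ I.map φ) ⟶
    (ModuleCat.extendScalars.{u,u,u} φ).obj (ModuleCat.of A (A ⧸ I)) :=
  ModuleCat.ofHom (X := ModuleCat.of S (S ⧸ I.map φ))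
    (Y := (ModuleCat.extendScalars.{u,u,u} φ).obj (ModuleCat.of A (A ⧸ I)))
    (Submodule.liftQ (I.map φ) (ψ₀ φ I) (map_le_ker φ I))

theorem ψ_mk (s : S) : (ψ φ I).hom (Ideal.Quotient.mk (I.map φ) s) = s • one1 φ I := rfl

theorem θ_one1 : (θ φ I).hom (one1 φ I) = (1 : S ⧸ I.map φ) := by
  have h := θ_tmul φ I 1 1
  refine h.trans ?_
  rw [one_smul]
  exact (gMap_mk φ I 1).trans (by rw [map_one]; rfl)

/-- extension of scalars of `A ⧸ I` is `S ⧸ I S` -/
noncomputable def esQuotIso :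
    (ModuleCat.extendScalars.{u,u,u} φ).obj (ModuleCat.of A (A ⧸ I)) ≅
      ModuleCat.of S (S ⧸ I.map φ) where
  hom := θ φ I
  inv := ψ φ I
  hom_inv_id := by
    apply ModuleCat.ExtendScalars.hom_ext
    intro m
    obtain ⟨a, rfl⟩ := Ideal.Quotient.mk_surjective (I := I) m
    have h := tmul_mk_eq φ I 1 a
    rw [one_mul] at h
    have h2 : (θ φ I).hom ((1 : S) ⊗ₜ[A,φ] ((Ideal.Quotient.mk I a : A ⧸ I) :
        ModuleCat.of A (A ⧸ I))) = Ideal.Quotient.mk (I.map φ) (φ a) := by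
      refine (θ_tmul φ I 1 _).trans ?_
      rw [one_smul]
      rfl
    have key : (ψ φ I).hom ((θ φ I).hom ((1 : S) ⊗ₜ[A,φ] ((Ideal.Quotient.mk I a : A ⧸ I) :
        ModuleCat.of A (A ⧸ I)))) = (1 : S) ⊗ₜ[A,φ] ((Ideal.Quotient.mk I a : A ⧸ I) :
        ModuleCat.of A (A ⧸ I)) :=
      (congrArg (ψ φ I).hom h2).trans ((ψ_mk φ I (φ a)).trans h.symm)
    exact key
  inv_hom_id := by
    apply ModuleCat.hom_ext
    apply LinearMap.ext
    intro x
    obtain ⟨s, rfl⟩ := Ideal.Quotient.mk_surjective (I := I.map φ) x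
    show (θ φ I).hom ((ψ φ I).hom _) = _
    refine (congrArg (θ φ I).hom (ψ_mk φ I s)).trans ?_
    refine ((θ φ I).hom.map_smul s (one1 φ I)).trans ?_
    rw [θ_one1]
    show Ideal.Quotient.mk (I.map φ) (s * 1) = _
    rw [mul_one]
    rfl

end EsQuot

section Perf

open DerivedCategory ZeroObject

theorem isPerfect_of_iso {R : Type u} [CommRing R] {K L : Dual.D R} (e : K ≅ L)
    (h : DRing.IsPerfect R K) : DRing.IsPerfect R L := by
  obtain ⟨E, a, b, hE, hEf, ⟨e'⟩⟩ := h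
  exact ⟨E, a, b, hE, hEf, ⟨e' ≪≫ e⟩⟩

theorem isPerfect_of_isZero {R : Type u} [CommRing R] (K : Dual.D R) (h : IsZero K) :
    DRing.IsPerfect R K := by
  have hz : IsZero (0 : DRing.Cx R) := isZero_zero _
  refine ⟨0, 0, 0, fun i _ => (HomologicalComplex.eval _ _ i).map_isZero hz, fun i => ?_,
    ⟨IsZero.iso (Functor.map_isZero Q hz) h⟩⟩
  haveI : Subsingleton ((0 : DRing.Cx R).X i) :=
    ModuleCat.subsingleton_of_isZero ((HomologicalComplex.eval _ _ i).map_isZero hz)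
  exact ⟨inferInstance, inferInstance⟩

variable (A : Type u) [CommRing A]

theorem isPerfect_single_of_koszulRegular (l : List A) (h : LCI.IsKoszulRegularSeq A l)
    (M : ModuleCat.{u} A) (e : M ≃ₗ[A] A ⧸ Ideal.ofList l) :
    DRing.IsPerfect A ((DerivedCategory.singleFunctor (ModuleCat.{u} A) 0).obj M) := by
  let K : Dual.D A := Q.obj (Koszul.koszul A l)
  have hK : ∀ i : ℤ, i ≠ 0 → IsZero ((homologyFunctor (ModuleCat.{u} A) i).obj K) := fun i hi =>
    (h i hi).of_iso ((homologyFunctorFactors (ModuleCat.{u} A) i).app (Koszul.koszul A l))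
  have h1 : K.IsLE 0 := by
    rw [isLE_iff]
    intro i hi
    exact hK i (by omega)
  have h2 : K.IsGE 0 := by
    rw [isGE_iff]
    intro i hi
    exact hK i (by omega)
  obtain ⟨N, ⟨eN⟩⟩ := exists_iso_singleFunctor_obj_of_isGE_of_isLE K 0
  have e1 : (homologyFunctor (ModuleCat.{u} A) 0).obj K ≅ N :=
    (homologyFunctor (ModuleCat.{u} A) 0).mapIso eN ≪≫
      (singleFunctorCompHomologyFunctorIso (ModuleCat.{u} A) 0).app N
  have e2 : (homologyFunctor (ModuleCat.{u} A) 0).obj K ≅ (Koszul.koszul A l).homology 0 :=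
    (homologyFunctorFactors (ModuleCat.{u} A) 0).app (Koszul.koszul A l)
  obtain ⟨e3⟩ := homology_zero_equiv A l
  have eM : N ≅ M := e1.symm ≪≫ e2 ≪≫ e3.toModuleIso ≪≫ e.symm.toModuleIso
  refine ⟨Koszul.koszul A l, -(l.length : ℤ), 0, koszul_vanishesOutside A l, fun i => ?_,
    ⟨eN ≪≫ (DerivedCategory.singleFunctor (ModuleCat.{u} A) 0).mapIso eM⟩⟩
  obtain ⟨hf1, hf2⟩ := koszul_finite_free A l i
  exact ⟨hf1, inferInstance⟩

end Perf

end Groth.Agent.Helper11.KoszPerf
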