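import Groth.Agent.Lib.Helper11.KoszPerf2

/-!
Quotients by Koszul-regular ideals are perfect modules (helper11).
-/

set_option autoImplicit false
universe u
open CategoryTheory CategoryTheory.Limits TensorProduct
attribute [local instance] HasDerivedCategory.standard

namespace Groth.Agent.Helper11.KoszPerf

open DerivedCategory

variable {A : Type u} [CommRing A]

/-- the complex `(A ⧸ I)[0]` -/
noncomputable abbrev quotCx (I : Ideal A) : DRing.Cx A :=
  (CochainComplex.singleFunctor (ModuleCat.{u} A) 0).obj (ModuleCat.of A (A ⧸ I))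

/-- termwise extension of scalars of `(A ⧸ I)[0]`, in the derived category -/
noncomputable def esQuotCxIso {S : Type u} [CommRing S] (φ : A →+* S) (I : Ideal A) :
    DRing.toD (((ModuleCat.extendScalars.{u,u,u} φ).mapHomologicalComplex
      (ComplexShape.up ℤ)).obj (quotCx I)) ≅
      (DerivedCategory.singleFunctor (ModuleCat.{u} S) 0).obj
        ((ModuleCat.extendScalars.{u,u,u} φ).obj (ModuleCat.of A (A ⧸ I))) :=
  Q.mapIso ((HomologicalComplex.singleMapHomologicalComplex (ModuleCat.extendScalars.{u,u,u} φ)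
    (ComplexShape.up ℤ) 0).app (ModuleCat.of A (A ⧸ I))) ≪≫
    ((DerivedCategory.singleFunctorIsoCompQ (ModuleCat.{u} S) 0).app _).symm

theorem good_of_koszul {S : Type u} [CommRing S] (φ : A →+* S) (I : Ideal A) (l : List S)
    (hl : LCI.IsKoszulRegularSeq S l) (hI : I.map φ = Ideal.span {x | x ∈ l}) :
    DRing.IsPerfect S (DRing.toD (((ModuleCat.extendScalars.{u,u,u} φ).mapHomologicalComplex
      (ComplexShape.up ℤ)).obj (quotCx I))) := by
  refine isPerfect_of_iso (esQuotCxIso φ I).symm ?_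
  refine isPerfect_single_of_koszulRegular S l hl _ ?_
  exact (esQuotIso φ I).toLinearEquiv.trans (Submodule.quotEquivOfEq _ _ hI)

theorem good_of_mem {S : Type u} [CommRing S] (φ : A →+* S) (I : Ideal A) (g : A) (hg : g ∈ I)
    (hu : IsUnit (φ g)) :
    DRing.IsPerfect S (DRing.toD (((ModuleCat.extendScalars.{u,u,u} φ).mapHomologicalComplex
      (ComplexShape.up ℤ)).obj (quotCx I))) := by
  refine isPerfect_of_iso (esQuotCxIso φ I).symm (isPerfect_of_isZero _ ?_)
  apply Functor.map_isZero
  have htop : I.map φ = ⊤ := Ideal.eq_top_of_isUnit_mem _ (Ideal.mem_map_of_mem φ hg) hu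
  haveI : Subsingleton (S ⧸ I.map φ) := by
    rw [htop]
    exact Ideal.Quotient.subsingleton_iff.mpr rfl
  exact (ModuleCat.isZero_of_subsingleton (ModuleCat.of S (S ⧸ I.map φ))).of_iso (esQuotIso φ I)

theorem exists_finite_cover (Good : A → Prop)
    (h : ∀ 𝔭 : PrimeSpectrum A, ∃ g, g ∉ 𝔭.asIdeal ∧ Good g) :
    ∃ (r : ℕ) (f : Fin r → A), Ideal.span (Set.range f) = ⊤ ∧ ∀ i, Good (f i) := by
  have htop : Ideal.span {g | Good g} = ⊤ := by
    by_contra hne
    obtain ⟨m, hm, hle⟩ := Ideal.exists_le_maximal _ hne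
    obtain ⟨g, hg, hgood⟩ := h ⟨m, hm.isPrime⟩
    exact hg (hle (Ideal.subset_span hgood))
  obtain ⟨s', hs', hspan⟩ := (Ideal.span_eq_top_iff_finite _).mp htop
  refine ⟨s'.card, fun i => (s'.equivFin.symm i : A), ?_, fun i => hs' (s'.equivFin.symm i).2⟩
  have hr : Set.range (fun i : Fin s'.card => ((s'.equivFin.symm i : s') : A)) = ↑s' := by
    ext x
    constructor
    · rintro ⟨i, rfl⟩
      exact (s'.equivFin.symm i).2
    · intro hx
      exact ⟨s'.equivFin ⟨x, hx⟩, by simp⟩
  rw [hr, hspan]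

/-- the quotient by a Koszul-regular ideal is a perfect module -/
theorem isPerfect_quotient_of_isKoszulRegularIdeal (I : Ideal A)
    (hI : LCI.IsKoszulRegularIdeal I) :
    DRing.IsPerfect A ((DerivedCategory.singleFunctor (ModuleCat.{u} A) 0).obj
      (ModuleCat.of A (A ⧸ I))) := by
  obtain ⟨r, f, hf, hgood⟩ := exists_finite_cover (A := A)
    (fun g => DRing.IsPerfect (Localization.Away g)
      (DRing.toD (((ModuleCat.extendScalars.{u,u,u}
        (algebraMap A (Localization.Away g))).mapHomologicalComplex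
          (ComplexShape.up ℤ)).obj (quotCx I)))) (fun 𝔭 => by
    by_cases hle : I ≤ 𝔭.asIdeal
    · obtain ⟨g, hg, l, hl, hIl⟩ := hI 𝔭 hle
      exact ⟨g, hg, good_of_koszul _ I l hl hIl⟩
    · obtain ⟨g, hgI, hg⟩ := SetLike.not_le_iff_exists.mp hle
      exact ⟨g, hg, good_of_mem _ I g hgI (IsLocalization.Away.algebraMap_isUnit g)⟩)
  have := Groth.Agent.S6960.result f hf (quotCx I) hgood
  exact isPerfect_of_iso ((DerivedCategory.singleFunctorIsoCompQ (ModuleCat.{u} A) 0).app _).symm
    this

end Groth.Agent.Helper11.KoszPerf
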