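import Groth.Agent.Lib.Helper8.LD8
import Groth.Agent.Lib.Helper8.LD14
import Groth.Agent.Lib.Helper11.HDIeq2

/-!
# Local duality for bounded complexes with finite cohomology (helper11)

The pairing `Λ : 𝓗_m(M⟦j⟧) → Hom_A(Hom(M⟦j⟧, ω), E)` of helper8 is bijective for every bounded
`M` with finite cohomology, by dévissage.
-/

set_option autoImplicit false
set_option linter.unusedSectionVars false
set_option linter.unusedVariables false
set_option linter.style.haveILetI false

open CategoryTheory CategoryTheory.Limits Opposite Pretriangulated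

universe u

attribute [local instance] HasDerivedCategory.standard

namespace Groth.Agent.Helper11.LDCx

open DerivedCategory Groth.Agent.Helper8.FLD Groth.Agent.Helper8.HDI Groth.Agent.Helper8.LD
  IsLocalRing

variable {A : Type u} [CommRing A] [IsLocalRing A] [IsNoetherianRing A] (ω : Dual.D A)
  (hω : Dual.IsDualizing A ω) (hn : Dual.IsNormalized A ω)
  {E : Type u} [AddCommGroup E] [Module A E] {f : ResidueField A →ₗ[A] E}
  (hf : InjHull.IsInjectiveHull f)
  (Ψ : HH (maximalIdeal A) ω →ₗ[A] E) (hΨ : Function.Injective Ψ)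

/-- the class of objects on which `Λ` is bijective in all degrees -/
def LamBij (Y : Dual.D A) : Prop :=
  ∀ j : ℤ, Function.Bijective (Lam ω E (maximalIdeal A) Ψ (Y⟦j⟧))

theorem lamBij_thickLike [Module.Injective A E] :
    Groth.Agent.Helper11.DC.ThickLike (LamBij ω Ψ) where
  iso e h j := Lam_bijective_of_iso ω E _ Ψ ((shiftFunctor (Dual.D A) j).mapIso e) (h j)
  shift K n h j :=
    Lam_bijective_of_iso ω E _ Ψ ((shiftFunctorAdd' (Dual.D A) n j (n + j) rfl).app K)
      (h (n + j))
  ext T hT h1 h3 j := by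
    refine Lam_bijective_of_triangle ω E _ Ψ (shTri T j) (shTri_distinguished T hT j) ?_
      (h1 j) (h3 j) ?_
    · exact (Lam_bijective_of_iso ω E _ Ψ
        ((shiftFunctorAdd' (Dual.D A) j (-1) (j - 1) (by omega)).app _) (h3 (j - 1))).2
    · exact (Lam_bijective_of_iso ω E _ Ψ
        ((shiftFunctorAdd' (Dual.D A) j 1 (j + 1) (by omega)).app _) (h1 (j + 1))).1
  zero K hK j := by
    have hz : IsZero (K⟦j⟧) := (shiftFunctor (Dual.D A) j).map_isZero hK
    have := subsingleton_HH_of_isZero (maximalIdeal A) _ hz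
    constructor
    · intro x y _
      exact Subsingleton.elim x y
    · intro φ
      refine ⟨0, ?_⟩
      rw [map_zero]
      ext ψ
      rw [hz.eq_of_src ψ 0, map_zero]
      exact (map_zero φ).symm

include hω hn hf hΨ in
/-- local duality for bounded complexes with finite cohomology -/
theorem lamBij_of_bounded_finite (M : Dual.D A) (a b : ℤ)
    (hM : ∀ i : ℤ, (i < a ∨ b < i) → IsZero ((homologyFunctor (ModuleCat.{u} A) i).obj M))
    (hfin : ∀ i : ℤ, Module.Finite A (Dual.HD A M i)) : LamBij ω Ψ M := by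
  haveI := hf.isInjective
  exact (lamBij_thickLike ω Ψ).of_homology M a b hM
    (fun i j => by
      haveI := hfin i
      exact Lam_bijective ω hω hn hf Ψ hΨ (Dual.HD A M i) j)

include hω hn in
/-- `Ext^{-i}(M, ω) = 0` iff `H^i(RΓ_m M) = 0` -/
theorem subsingleton_hom_iff [DRing.HasRgammaI (maximalIdeal A)] (M : Dual.D A) (a b : ℤ)
    (hM : ∀ i : ℤ, (i < a ∨ b < i) → IsZero ((homologyFunctor (ModuleCat.{u} A) i).obj M))
    (hfin : ∀ i : ℤ, Module.Finite A (Dual.HD A M i)) (i : ℤ) :
    Subsingleton (M ⟶ ω⟦-i⟧) ↔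
      Subsingleton (Dual.HD A ((DRing.RgammaI (maximalIdeal A)).obj M) i) := by
  obtain ⟨E, _, _, f, hf⟩ := Groth.Agent.Helper1.exists_injectiveHull (R := A) (ResidueField A)
  obtain ⟨Ψ⟩ := nonempty_HH_equiv ω hω hn hf
  have hb := lamBij_of_bounded_finite ω hω hn hf Ψ.toLinearMap Ψ.injective M a b hM hfin i
  obtain ⟨e1⟩ := Groth.Agent.Helper11.HDIeq.nonempty_equiv (maximalIdeal A) M i
  let e2 := LinearEquiv.ofBijective _ hb
  have h1 := subsingleton_dual_iff' hf (M⟦i⟧ ⟶ ω)
  let e3 := homShiftEquiv M ω i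
  constructor
  · intro h
    haveI : Subsingleton (M⟦i⟧ ⟶ ω) := e3.symm.toEquiv.subsingleton
    haveI : Subsingleton ((M⟦i⟧ ⟶ ω) →ₗ[A] E) := h1.mpr inferInstance
    haveI : Subsingleton (HH (maximalIdeal A) (M⟦i⟧)) := e2.toEquiv.subsingleton
    exact e1.toEquiv.subsingleton
  · intro h
    haveI : Subsingleton (HH (maximalIdeal A) (M⟦i⟧)) := e1.symm.toEquiv.subsingleton
    haveI : Subsingleton ((M⟦i⟧ ⟶ ω) →ₗ[A] E) := e2.symm.toEquiv.subsingleton
    haveI : Subsingleton (M⟦i⟧ ⟶ ω) := h1.mp inferInstance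
    exact e3.toEquiv.subsingleton

end Groth.Agent.Helper11.LDCx
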