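import Mathlib.CategoryTheory.Functor.KanExtension.Basic

/-!
# Right Kan extensions are computed on "left-orthogonal" objects, when copowers exist (helper11)

Let `R` be a right Kan extension of `F : C ⥤ H` along `L : C ⥤ D`, with counit `ε : L ⋙ R ⟶ F`.
Let `P : C` be such that every morphism `L.obj P ⟶ L.obj Y` lifts to `P ⟶ Y`, and `F` identifies
any two lifts.  Let `T` be a "test functor" `H ⥤ Type w` (given in unbundled form) and assume that `H` has objects
`G.obj X` (functorial in `X : D`) corepresenting `Z ↦ (L.obj P ⟶ X) → Tobj Z`.  Then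
`Tmap (ε.app P)` is bijective.
-/

set_option autoImplicit false

universe w

open CategoryTheory

namespace Groth.Agent.Helper11.LDer

variable {C D H : Type*} [Category C] [Category D] [Category H]
  (L : C ⥤ D) (F : C ⥤ H) (R : D ⥤ H) (ε : L ⋙ R ⟶ F) [R.IsRightKanExtension ε]
  (P : C)
  (hsurj : ∀ (Y : C) (g : L.obj P ⟶ L.obj Y), ∃ g' : P ⟶ Y, L.map g' = g)
  (hF : ∀ (Y : C) (g₁ g₂ : P ⟶ Y), L.map g₁ = L.map g₂ → F.map g₁ = F.map g₂)
  (Tobj : H → Type w) (Tmap : ∀ {Z Z' : H}, (Z ⟶ Z') → Tobj Z → Tobj Z')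
  (Tid : ∀ (Z : H) (x : Tobj Z), Tmap (𝟙 Z) x = x)
  (Tcomp : ∀ {Z Z' Z'' : H} (f : Z ⟶ Z') (g : Z' ⟶ Z'') (x : Tobj Z),
    Tmap (f ≫ g) x = Tmap g (Tmap f x))
  (G : D ⥤ H) (u : ∀ X : D, (L.obj P ⟶ X) → Tobj (G.obj X))
  (hu : ∀ (X X' : D) (v : X ⟶ X') (g : L.obj P ⟶ X), Tmap (G.map v) (u X g) = u X' (g ≫ v))
  (hcorep : ∀ (X : D) (Z : H), Function.Bijective
    (fun (m : G.obj X ⟶ Z) (g : L.obj P ⟶ X) => Tmap m (u X g)))

include hsurj hF hu hcorep Tid Tcomp in
theorem surjective_T_map_counit : Function.Surjective (Tmap (ε.app P)) := by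
  intro y
  -- the chosen lifts
  let c : ∀ (Y : C) (g : L.obj P ⟶ L.obj Y), P ⟶ Y := fun Y g => (hsurj Y g).choose
  have hc : ∀ (Y : C) (g : L.obj P ⟶ L.obj Y), L.map (c Y g) = g :=
    fun Y g => (hsurj Y g).choose_spec
  let b : ∀ Y : C, G.obj (L.obj Y) ⟶ F.obj Y := fun Y =>
    ((hcorep (L.obj Y) (F.obj Y)).2 (fun g => Tmap (F.map (c Y g)) y)).choose
  have hb : ∀ (Y : C) (g : L.obj P ⟶ L.obj Y),
      Tmap (b Y) (u (L.obj Y) g) = Tmap (F.map (c Y g)) y := fun Y g =>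
    congrFun ((hcorep (L.obj Y) (F.obj Y)).2 (fun g => Tmap (F.map (c Y g)) y)).choose_spec g
  let β : L ⋙ G ⟶ F :=
    { app := b
      naturality := by
        intro Y Y' v
        apply (hcorep (L.obj Y) (F.obj Y')).1
        funext g
        change Tmap (G.map (L.map v) ≫ b Y') (u (L.obj Y) g) =
          Tmap (b Y ≫ F.map v) (u (L.obj Y) g)
        have h1 : F.map (c Y' (g ≫ L.map v)) = F.map (c Y g ≫ v) :=
          hF _ _ _ (by rw [hc, L.map_comp, hc])
        rw [Tcomp, Tcomp, hu, hb, hb,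
          ← Tcomp, ← F.map_comp, h1] }
  let γ := R.liftOfIsRightKanExtension ε G β
  refine ⟨Tmap (γ.app (L.obj P)) (u (L.obj P) (𝟙 _)), ?_⟩
  rw [← Tcomp, R.liftOfIsRightKanExtension_fac_app ε G β P]
  change Tmap (b P) (u (L.obj P) (𝟙 _)) = y
  rw [hb]
  have : F.map (c P (𝟙 _)) = 𝟙 _ := by
    rw [← F.map_id]
    apply hF
    rw [hc, L.map_id]
  rw [this, Tid]

include hsurj hu hcorep Tid Tcomp in
theorem injective_T_map_counit : Function.Injective (Tmap (ε.app P)) := by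
  intro x₁ x₂ hx
  -- natural transformations `G ⟶ R` attached to elements of `T (R (L P))`
  let a : ∀ (x : Tobj (R.obj (L.obj P))) (X : D), G.obj X ⟶ R.obj X := fun x X =>
    ((hcorep X (R.obj X)).2 (fun g => Tmap (R.map g) x)).choose
  have ha : ∀ (x : Tobj (R.obj (L.obj P))) (X : D) (g : L.obj P ⟶ X),
      Tmap (a x X) (u X g) = Tmap (R.map g) x := fun x X g =>
    congrFun ((hcorep X (R.obj X)).2 (fun g => Tmap (R.map g) x)).choose_spec g
  let γ : ∀ (x : Tobj (R.obj (L.obj P))), G ⟶ R := fun x =>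
    { app := a x
      naturality := by
        intro X X' v
        apply (hcorep X (R.obj X')).1
        funext g
        change Tmap (G.map v ≫ a x X') (u X g) = Tmap (a x X ≫ R.map v) (u X g)
        rw [Tcomp, Tcomp, hu, ha, ha,
          ← Tcomp, ← R.map_comp] }
  have hγ : γ x₁ = γ x₂ := by
    apply R.hom_ext_of_isRightKanExtension ε
    ext Y
    apply (hcorep (L.obj Y) (F.obj Y)).1
    funext g
    obtain ⟨g', rfl⟩ := hsurj Y g
    change Tmap (a x₁ (L.obj Y) ≫ ε.app Y) (u (L.obj Y) (L.map g')) =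
      Tmap (a x₂ (L.obj Y) ≫ ε.app Y) (u (L.obj Y) (L.map g'))
    have key : ∀ x, Tmap (a x (L.obj Y) ≫ ε.app Y) (u (L.obj Y) (L.map g')) =
        Tmap (F.map g') (Tmap (ε.app P) x) := by
      intro x
      have hnat : R.map (L.map g') ≫ ε.app Y = ε.app P ≫ F.map g' := ε.naturality g'
      rw [Tcomp, ha, ← Tcomp,
        ← Tcomp, hnat]
    rw [key, key, hx]
  have hx' : ∀ x, x = Tmap ((γ x).app (L.obj P)) (u (L.obj P) (𝟙 _)) := by
    intro x
    change x = Tmap (a x (L.obj P)) (u (L.obj P) (𝟙 _))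
    rw [ha, R.map_id, Tid]
  rw [hx' x₁, hx' x₂, hγ]

include hsurj hF hu hcorep Tid Tcomp in
theorem bijective_T_map_counit : Function.Bijective (Tmap (ε.app P)) :=
  ⟨injective_T_map_counit L F R ε P hsurj Tobj Tmap Tid Tcomp G u hu hcorep,
    surjective_T_map_counit L F R ε P hsurj hF Tobj Tmap Tid Tcomp G u hu hcorep⟩

end Groth.Agent.Helper11.LDer
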