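import Groth.Agent.Lib.Helper11.LDer1
import Groth.Agent.Lib.Helper11.DCProj
import Mathlib.Algebra.Category.ModuleCat.Projective

/-!
# Copowers of shifted free modules in `D(B)` and computation of Kan extensions with values
in `D(B)` (helper11)
-/

set_option autoImplicit false

open CategoryTheory Category Limits Pretriangulated DerivedCategory

attribute [local instance] HasDerivedCategory.standard

universe u

namespace Groth.Agent.Helper11.LDer

open Groth.Agent.Helper11.DC

variable {B : Type u} [CommRing B]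

section FreeHom

variable {D : Type*} [Category D] (d : D) [∀ X : D, Small.{u} (d ⟶ X)]

/-- transition maps on shrunk hom-sets -/
noncomputable def shr {X X' : D} (v : X ⟶ X') (s : Shrink.{u} (d ⟶ X)) : Shrink.{u} (d ⟶ X') :=
  equivShrink _ ((equivShrink _).symm s ≫ v)

theorem shr_id (X : D) : shr d (𝟙 X) = id := by
  funext s
  simp [shr]

theorem shr_comp {X X' X'' : D} (v : X ⟶ X') (v' : X' ⟶ X'') :
    shr d (v ≫ v') = shr d v' ∘ shr d v := by
  funext s
  simp [shr]

variable (B) in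
/-- `X ↦` the free `B`-module on `d ⟶ X`. -/
noncomputable def freeHom : D ⥤ ModuleCat.{u} B where
  obj X := ModuleCat.of B (Shrink.{u} (d ⟶ X) →₀ B)
  map {X X'} v := ModuleCat.ofHom (Finsupp.lmapDomain B B (shr d v))
  map_id X := by
    rw [shr_id, Finsupp.lmapDomain_id]
    rfl
  map_comp v v' := by
    rw [shr_comp, Finsupp.lmapDomain_comp]
    rfl

variable (B) in
/-- the basis elements. -/
noncomputable def basisElt {X : D} (g : d ⟶ X) : (freeHom B d).obj X :=
  Finsupp.single (equivShrink _ g) (1 : B)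

theorem freeHom_map_basisElt {X X' : D} (v : X ⟶ X') (g : d ⟶ X) :
    ((freeHom B d).map v).hom (basisElt B d g) = basisElt B d (g ≫ v) := by
  change Finsupp.mapDomain (shr d v) (Finsupp.single (equivShrink _ g) (1 : B)) = _
  rw [Finsupp.mapDomain_single]
  simp [shr, basisElt]

theorem freeHom_corep (X : D) (M : ModuleCat.{u} B) : Function.Bijective
    (fun (φ : (freeHom B d).obj X ⟶ M) (g : d ⟶ X) => φ.hom (basisElt B d g)) := by
  constructor
  · intro φ ψ h
    apply ModuleCat.hom_ext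
    refine Finsupp.lhom_ext' (fun s => LinearMap.ext_ring ?_)
    have h1 := congrFun h ((equivShrink _).symm s)
    simp only [basisElt, Equiv.apply_symm_apply] at h1
    exact h1
  · intro f
    refine ⟨ModuleCat.ofHom (Finsupp.lift M B _ (fun s => f ((equivShrink _).symm s))), ?_⟩
    funext g
    change (Finsupp.lift M B _ (fun s => f ((equivShrink _).symm s)))
      (Finsupp.single (equivShrink _ g) (1 : B)) = f g
    rw [Finsupp.lift_apply, Finsupp.sum_single_index (by simp), one_smul,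
      Equiv.symm_apply_apply]

instance (X : D) : Projective ((freeHom B d).obj X) := by
  haveI : Module.Projective B ((freeHom B d).obj X) :=
    (inferInstance : Module.Projective B (Shrink.{u} (d ⟶ X) →₀ B))
  infer_instance

end FreeHom

section Copower

variable {D : Type*} [Category D] (d : D) [∀ X : D, Small.{u} (d ⟶ X)] (n : ℤ)

/-- the test functor `Z ↦ H⁰(Z⟦n⟧)`, on objects. -/
abbrev Tobj (Z : DerivedCategory (ModuleCat.{u} B)) : Type u :=
  ((homologyFunctor (ModuleCat.{u} B) 0).obj (Z⟦n⟧) : ModuleCat.{u} B)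

/-- the test functor `Z ↦ H⁰(Z⟦n⟧)`, on morphisms. -/
noncomputable def Tmap {Z Z' : DerivedCategory (ModuleCat.{u} B)} (m : Z ⟶ Z') (x : Tobj n Z) :
    Tobj n Z' :=
  ((homologyFunctor (ModuleCat.{u} B) 0).map (m⟦n⟧')).hom x

theorem Tid (Z : DerivedCategory (ModuleCat.{u} B)) (x : Tobj n Z) : Tmap n (𝟙 Z) x = x := by
  simp [Tmap]

theorem Tcomp {Z Z' Z'' : DerivedCategory (ModuleCat.{u} B)} (f : Z ⟶ Z') (g : Z' ⟶ Z'')
    (x : Tobj n Z) : Tmap n (f ≫ g) x = Tmap n g (Tmap n f x) := by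
  simp [Tmap]

variable (B) in
/-- the copower functor `X ↦ (free module on (d ⟶ X))[0]⟦-n⟧`. -/
noncomputable def Gn : D ⥤ DerivedCategory (ModuleCat.{u} B) :=
  freeHom B d ⋙ singleFunctor (ModuleCat.{u} B) 0 ⋙
    shiftFunctor (DerivedCategory (ModuleCat.{u} B)) (-n)

/-- `Y ≅ Y⟦-n⟧⟦n⟧`. -/
noncomputable def cIso (Y : DerivedCategory (ModuleCat.{u} B)) : Y ≅ (Y⟦-n⟧)⟦n⟧ :=
  ((shiftFunctorCompIsoId (DerivedCategory (ModuleCat.{u} B)) (-n) n (by omega)).app Y).symm

theorem cIso_naturality {Y Y' : DerivedCategory (ModuleCat.{u} B)} (f : Y ⟶ Y') :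
    f ≫ (cIso n Y').hom = (cIso n Y).hom ≫ (f⟦-n⟧')⟦n⟧' :=
  (shiftFunctorCompIsoId (DerivedCategory (ModuleCat.{u} B)) (-n) n (by omega)).inv.naturality f

/-- `F ≅ H⁰(F[0])`. -/
noncomputable def ιF (F : ModuleCat.{u} B) :
    F ≅ (homologyFunctor (ModuleCat.{u} B) 0).obj ((singleFunctor (ModuleCat.{u} B) 0).obj F) :=
  ((singleFunctorCompHomologyFunctorIso (ModuleCat.{u} B) 0).app F).symm

theorem ιF_naturality {F F' : ModuleCat.{u} B} (f : F ⟶ F') :
    f ≫ (ιF F').hom = (ιF F).hom ≫ (homologyFunctor (ModuleCat.{u} B) 0).map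
      ((singleFunctor (ModuleCat.{u} B) 0).map f) :=
  (singleFunctorCompHomologyFunctorIso (ModuleCat.{u} B) 0).inv.naturality f

variable (B) in
/-- the comparison `free module ⟶ H⁰((Gn X)⟦n⟧)`. -/
noncomputable def wMor (X : D) :
    (freeHom B d).obj X ⟶
      (homologyFunctor (ModuleCat.{u} B) 0).obj (((Gn B d n).obj X)⟦n⟧) :=
  (ιF ((freeHom B d).obj X)).hom ≫ (homologyFunctor (ModuleCat.{u} B) 0).map
    (cIso n ((singleFunctor (ModuleCat.{u} B) 0).obj ((freeHom B d).obj X))).hom

theorem H0_cIso_naturality {Y Y' : DerivedCategory (ModuleCat.{u} B)} (f : Y ⟶ Y') :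
    (homologyFunctor (ModuleCat.{u} B) 0).map (cIso n Y).hom ≫
        (homologyFunctor (ModuleCat.{u} B) 0).map ((f⟦-n⟧')⟦n⟧') =
      (homologyFunctor (ModuleCat.{u} B) 0).map f ≫
        (homologyFunctor (ModuleCat.{u} B) 0).map (cIso n Y').hom := by
  rw [← Functor.map_comp, ← Functor.map_comp, cIso_naturality]

theorem wMor_naturality {X X' : D} (v : X ⟶ X') :
    wMor B d n X ≫ (homologyFunctor (ModuleCat.{u} B) 0).map (((Gn B d n).map v)⟦n⟧') =
      (freeHom B d).map v ≫ wMor B d n X' := by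
  have key := H0_cIso_naturality (B := B) n
    ((singleFunctor (ModuleCat.{u} B) 0).map ((freeHom B d).map v))
  have key2 := ιF_naturality ((freeHom B d).map v)
  exact (assoc _ _ _).trans ((congrArg (fun t => (ιF ((freeHom B d).obj X)).hom ≫ t) key).trans
    ((assoc _ _ _).symm.trans ((congrArg (fun t => t ≫
      (homologyFunctor (ModuleCat.{u} B) 0).map
        (cIso n ((singleFunctor (ModuleCat.{u} B) 0).obj ((freeHom B d).obj X'))).hom)
      key2.symm).trans (assoc _ _ _))))

variable (B) in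
/-- the universal elements. -/
noncomputable def uElt (X : D) (g : d ⟶ X) : Tobj n ((Gn B d n).obj X) :=
  (wMor B d n X).hom (basisElt B d g)

theorem uElt_nat (X X' : D) (v : X ⟶ X') (g : d ⟶ X) :
    Tmap n ((Gn B d n).map v) (uElt B d n X g) = uElt B d n X' (g ≫ v) := by
  have h := wMor_naturality (B := B) d n v
  have h2 := congrArg (fun φ => φ.hom (basisElt B d g)) h
  simp only [ModuleCat.hom_comp, LinearMap.comp_apply] at h2
  rw [freeHom_map_basisElt] at h2
  exact h2

theorem bijective_precomp_iso {C : Type*} [Category C] {X Y : C} (e : X ≅ Y) (Z : C) :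
    Function.Bijective (fun m : Y ⟶ Z => e.hom ≫ m) :=
  ⟨fun _ _ h => (cancel_epi e.hom).mp h, fun a => ⟨e.inv ≫ a, by simp⟩⟩

theorem bijective_Phi (X : D) (Z : DerivedCategory (ModuleCat.{u} B)) : Function.Bijective
    (fun m : (Gn B d n).obj X ⟶ Z =>
      wMor B d n X ≫ (homologyFunctor (ModuleCat.{u} B) 0).map (m⟦n⟧')) := by
  let S := (singleFunctor (ModuleCat.{u} B) 0).obj ((freeHom B d).obj X)
  have b1 : Function.Bijective (fun m : (Gn B d n).obj X ⟶ Z => m⟦n⟧') :=
    (Functor.FullyFaithful.ofFullyFaithful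
      (shiftFunctor (DerivedCategory (ModuleCat.{u} B)) n)).map_bijective _ _
  have b2 : Function.Bijective (fun m' : (S⟦-n⟧)⟦n⟧ ⟶ Z⟦n⟧ => (cIso n S).hom ≫ m') :=
    bijective_precomp_iso (cIso n S) _
  have b3 : Function.Bijective (Psi ((freeHom B d).obj X) (Z⟦n⟧)) :=
    psi_bijective ((freeHom B d).obj X) (Z⟦n⟧)
  have b4 : Function.Bijective (fun ψ : (homologyFunctor (ModuleCat.{u} B) 0).obj S ⟶
      (homologyFunctor (ModuleCat.{u} B) 0).obj (Z⟦n⟧) => (ιF ((freeHom B d).obj X)).hom ≫ ψ) :=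
    bijective_precomp_iso (ιF ((freeHom B d).obj X)) _
  have := b4.comp (b3.comp (b2.comp b1))
  convert this using 1
  funext m
  change wMor B d n X ≫ (homologyFunctor (ModuleCat.{u} B) 0).map (m⟦n⟧') =
    (ιF ((freeHom B d).obj X)).hom ≫
      (homologyFunctor (ModuleCat.{u} B) 0).map ((cIso n S).hom ≫ m⟦n⟧')
  rw [Functor.map_comp]
  exact assoc _ _ _

theorem uElt_corep (X : D) (Z : DerivedCategory (ModuleCat.{u} B)) : Function.Bijective
    (fun (m : (Gn B d n).obj X ⟶ Z) (g : d ⟶ X) => Tmap n m (uElt B d n X g)) := by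
  have := (freeHom_corep (B := B) d X
    ((homologyFunctor (ModuleCat.{u} B) 0).obj (Z⟦n⟧))).comp (bijective_Phi (B := B) d n X Z)
  exact this

end Copower

section Main

variable {C D : Type*} [Category C] [Category D] (L : C ⥤ D)
  (F : C ⥤ DerivedCategory (ModuleCat.{u} B)) (R : D ⥤ DerivedCategory (ModuleCat.{u} B))
  (ε : L ⋙ R ⟶ F) [R.IsRightKanExtension ε] (P : C)
  [∀ X : D, Small.{u} (L.obj P ⟶ X)]

/-- A right Kan extension with values in `D(B)` is computed by the original functor on objects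
`P` which are "left orthogonal" for `L` (e.g. K-projective complexes for the localization at
quasi-isomorphisms). -/
theorem isIso_counit_app
    (hsurj : ∀ (Y : C) (g : L.obj P ⟶ L.obj Y), ∃ g' : P ⟶ Y, L.map g' = g)
    (hF : ∀ (Y : C) (g₁ g₂ : P ⟶ Y), L.map g₁ = L.map g₂ → F.map g₁ = F.map g₂) :
    IsIso (ε.app P) := by
  rw [DerivedCategory.isIso_iff]
  intro n
  have hbij := bijective_T_map_counit L F R ε P hsurj hF (Tobj n) (Tmap n) (Tid n) (Tcomp n)
    (Gn B (L.obj P) n) (uElt B (L.obj P) n) (uElt_nat (L.obj P) n) (uElt_corep (L.obj P) n)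
  have h1 : IsIso ((homologyFunctor (ModuleCat.{u} B) 0).map ((ε.app P)⟦n⟧')) :=
    (ConcreteCategory.isIso_iff_bijective _).mpr hbij
  have h2 : IsIso ((shiftFunctor (DerivedCategory (ModuleCat.{u} B)) n ⋙
      homologyFunctor (ModuleCat.{u} B) 0).map (ε.app P)) := h1
  exact (NatIso.isIso_map_iff ((homologyFunctor (ModuleCat.{u} B) 0).shiftIso n 0 n (by simp))
    (ε.app P)).mp h2

end Main

end Groth.Agent.Helper11.LDer
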