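import Groth.Agent.Lib.Helper11.LDer2
import Groth.Prelude.Def_DDual2
import Mathlib.Algebra.Homology.DerivedCategory.KProjective
import Mathlib.CategoryTheory.Functor.Derived.LeftDerived

/-!
# Total left derived functors `K(A) ⥤ D(B)` are computed on K-projective complexes (helper11)

Main results:
* `isIso_totalLeftDerivedCounit_app`: for `F : K(A) ⥤ D(B)` with a left derived functor, the
  counit `LF(Qh P) ⟶ F P` is an isomorphism when `P` is K-projective.
* `LBaseChangeIso φ P : (LBaseChange φ).obj (Q.obj P) ≅ Q.obj (P ⊗_A B)` for `P` K-projective.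
* `LTensorIso M P : (LTensor A M).obj (Q.obj P) ≅ Q.obj (P ⊗_A M)` for `P` K-projective.
-/

set_option autoImplicit false

open CategoryTheory Category Limits Pretriangulated DerivedCategory

attribute [local instance] HasDerivedCategory.standard

universe u

namespace Groth.Agent.Helper11.LDer

variable {A B : Type u} [CommRing A] [CommRing B]

instance small_hom_of_isKProjective (P : CochainComplex (ModuleCat.{u} A) ℤ) [P.IsKProjective]
    (X : DerivedCategory (ModuleCat.{u} A)) :
    Small.{u} ((Qh.obj ((HomotopyCategory.quotient _ _).obj P) :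
      DerivedCategory (ModuleCat.{u} A)) ⟶ X) := by
  haveI : (Qh : _ ⥤ DerivedCategory (ModuleCat.{u} A)).EssSurj :=
    Localization.essSurj Qh (HomotopyCategory.quasiIso (ModuleCat.{u} A) (ComplexShape.up ℤ))
  let Y := (Qh : _ ⥤ DerivedCategory (ModuleCat.{u} A)).objPreimage X
  let e : Qh.obj Y ≅ X := Qh.objObjPreimageIso X
  have hb := CochainComplex.IsKProjective.Qh_map_bijective P Y
  let eq1 : ((HomotopyCategory.quotient _ _).obj P ⟶ Y) ≃
      ((Qh.obj ((HomotopyCategory.quotient _ _).obj P) :
        DerivedCategory (ModuleCat.{u} A)) ⟶ Qh.obj Y) := Equiv.ofBijective _ hb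
  exact small_map (eq1.trans (Iso.homToEquiv e)).symm

/-- The counit of a total left derived functor `K(A) ⥤ D(B)` is an isomorphism on K-projective
complexes. -/
theorem isIso_totalLeftDerivedCounit_app
    (F : HomotopyCategory (ModuleCat.{u} A) (ComplexShape.up ℤ) ⥤
      DerivedCategory (ModuleCat.{u} B))
    [F.HasLeftDerivedFunctor (HomotopyCategory.quasiIso (ModuleCat.{u} A) (ComplexShape.up ℤ))]
    (P : CochainComplex (ModuleCat.{u} A) ℤ) [P.IsKProjective] :
    IsIso ((F.totalLeftDerivedCounit Qh
      (HomotopyCategory.quasiIso (ModuleCat.{u} A) (ComplexShape.up ℤ))).app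
        ((HomotopyCategory.quotient _ _).obj P)) := by
  haveI : (F.totalLeftDerived Qh
      (HomotopyCategory.quasiIso (ModuleCat.{u} A) (ComplexShape.up ℤ))).IsRightKanExtension
      (F.totalLeftDerivedCounit Qh
        (HomotopyCategory.quasiIso (ModuleCat.{u} A) (ComplexShape.up ℤ))) :=
    Functor.IsLeftDerivedFunctor.isRightKanExtension _ _
      (HomotopyCategory.quasiIso (ModuleCat.{u} A) (ComplexShape.up ℤ))
  apply isIso_counit_app Qh F _ _ ((HomotopyCategory.quotient _ _).obj P)
  · intro Y g
    exact (CochainComplex.IsKProjective.Qh_map_bijective P Y).2 g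
  · intro Y g₁ g₂ h
    rw [(CochainComplex.IsKProjective.Qh_map_bijective P Y).1 h]

/-- Derived base change of a K-projective complex is computed termwise. -/
noncomputable def LBaseChangeIso (φ : A →+* B) [DRing.HasLBaseChange φ]
    (P : CochainComplex (ModuleCat.{u} A) ℤ) [P.IsKProjective] :
    (DRing.LBaseChange φ).obj (Q.obj P) ≅
      Q.obj (((ModuleCat.extendScalars.{u, u, u} φ).mapHomologicalComplex
        (ComplexShape.up ℤ)).obj P) :=
  haveI := isIso_totalLeftDerivedCounit_app (DRing.baseChangeKh φ) P
  (DRing.LBaseChange φ).mapIso ((quotientCompQhIso (ModuleCat.{u} A)).app P).symm ≪≫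
    asIso (((DRing.baseChangeKh φ).totalLeftDerivedCounit Qh
      (HomotopyCategory.quasiIso (ModuleCat.{u} A) (ComplexShape.up ℤ))).app
        ((HomotopyCategory.quotient _ _).obj P)) ≪≫
    Qh.mapIso (((ModuleCat.extendScalars.{u, u, u} φ).mapHomotopyCategoryFactors
      (ComplexShape.up ℤ)).app P) ≪≫
    (quotientCompQhIso (ModuleCat.{u} B)).app _

/-- Derived tensor product with a module of a K-projective complex is computed termwise. -/
noncomputable def LTensorIso (M : ModuleCat.{u} A) [DRing.HasLTensor A M]
    (P : CochainComplex (ModuleCat.{u} A) ℤ) [P.IsKProjective] :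
    (DRing.LTensor A M).obj (Q.obj P) ≅
      Q.obj (((MonoidalCategory.tensorRight M).mapHomologicalComplex
        (ComplexShape.up ℤ)).obj P) :=
  haveI := isIso_totalLeftDerivedCounit_app (DRing.tensorKh A M) P
  (DRing.LTensor A M).mapIso ((quotientCompQhIso (ModuleCat.{u} A)).app P).symm ≪≫
    asIso (((DRing.tensorKh A M).totalLeftDerivedCounit Qh
      (HomotopyCategory.quasiIso (ModuleCat.{u} A) (ComplexShape.up ℤ))).app
        ((HomotopyCategory.quotient _ _).obj P)) ≪≫
    Qh.mapIso (((MonoidalCategory.tensorRight M).mapHomotopyCategoryFactors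
      (ComplexShape.up ℤ)).app P) ≪≫
    (quotientCompQhIso (ModuleCat.{u} A)).app _

end Groth.Agent.Helper11.LDer
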