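import Groth.Agent.Lib.Helper3.DT1
import Groth.Agent.Lib.Helper5.KFlat11
import Groth.Prelude.Def_DRing4

/-!
# `DRing.LTensorCx` is computed termwise on K-projective complexes (helper11)

* `LTen.isIso_counit_app E P`: the counit `(K ⊗^L E)(Q P) ⟶ Q (P ⊗ E)` is an isomorphism for `P`
  K-projective.
* `LTen.LTensorCxIso E P : (LTensorCx A E).obj (Q.obj P) ≅ Q.obj (P ⊗ E)`.
* `LTen.quasiIso_whiskerLeft_of_flat_bddAbove`: `P ⊗ -` preserves quasi-isomorphisms for `P` a
  bounded above complex of flat modules.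
-/

set_option autoImplicit false

open CategoryTheory CategoryTheory.Limits MonoidalCategory HomologicalComplex

universe u

attribute [local instance] HasDerivedCategory.standard

namespace Groth.Agent.Helper11.LTen

open Groth.Agent.Helper11.LDer Groth.Agent.Helper11.DC Groth.Agent.Helper11.Tel
  Groth.Agent.Helper3.DT Groth.Agent.Helper5.KF

variable {A : Type u} [CommRing A]

/-- `- ⊗ E` respects homotopies. -/
theorem Q_map_whiskerRight_eq (E : DRing.Cx A) {K L : DRing.Cx A} {f g : K ⟶ L}
    (H : Homotopy f g) :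
    (DerivedCategory.Q.map (f ▷ E) : (DerivedCategory.Q.obj (K ⊗ E) : Dual.D A) ⟶ _) =
      DerivedCategory.Q.map (g ▷ E) := by
  have := Q_map_tensorHom_eq H (Homotopy.refl (𝟙 E))
  simpa [MonoidalCategory.tensorHom_id] using this

/-- The counit of `- ⊗^L E` is an isomorphism at K-projective complexes. -/
theorem isIso_counit_app (E : DRing.Cx A) [DRing.HasLTensorCx A E] (P : DRing.Cx A)
    [P.IsKProjective] :
    IsIso (((DRing.tensorCxQ A E).totalLeftDerivedCounit DerivedCategory.Q
      (HomologicalComplex.quasiIso (ModuleCat.{u} A) (ComplexShape.up ℤ))).app P) := by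
  haveI : (DRing.LTensorCx A E).IsRightKanExtension
      ((DRing.tensorCxQ A E).totalLeftDerivedCounit DerivedCategory.Q
        (HomologicalComplex.quasiIso (ModuleCat.{u} A) (ComplexShape.up ℤ))) :=
    Functor.IsLeftDerivedFunctor.isRightKanExtension _ _
      (HomologicalComplex.quasiIso (ModuleCat.{u} A) (ComplexShape.up ℤ))
  apply LDer.isIso_counit_app DerivedCategory.Q (DRing.tensorCxQ A E) (DRing.LTensorCx A E) _ P
  · intro Y g
    exact exists_lift_of_isKProjective P Y g
  · intro Y g₁ g₂ h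
    obtain ⟨H⟩ := homotopy_of_Q_map_eq P Y g₁ g₂ h
    exact Q_map_whiskerRight_eq E H

/-- `(Q P) ⊗^L E ≅ Q (P ⊗ E)` for `P` K-projective. -/
noncomputable def LTensorCxIso (E : DRing.Cx A) [DRing.HasLTensorCx A E] (P : DRing.Cx A)
    [P.IsKProjective] :
    (DRing.LTensorCx A E).obj (DerivedCategory.Q.obj P) ≅
      (DerivedCategory.Q.obj (P ⊗ E) : Dual.D A) :=
  haveI := isIso_counit_app E P
  asIso (((DRing.tensorCxQ A E).totalLeftDerivedCounit DerivedCategory.Q
      (HomologicalComplex.quasiIso (ModuleCat.{u} A) (ComplexShape.up ℤ))).app P)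

/-- `P ⊗ -` preserves quasi-isomorphisms when `P` is a bounded above complex of flat modules. -/
theorem quasiIso_whiskerLeft_of_flat_bddAbove (P : DRing.Cx A) (b : ℤ)
    (hb : ∀ i : ℤ, b < i → IsZero (P.X i)) (hP : ∀ i : ℤ, Module.Flat A (P.X i))
    {L₁ L₂ : DRing.Cx A} (f : L₁ ⟶ L₂) (hf : QuasiIso f) : QuasiIso (P ◁ f) := by
  have hS : (tensorSC P (facSC f)).ShortExact :=
    shortExact_tensorSC_of_splitting P (facSC f) (facSplitting f)
  have hac : ∀ i, IsZero ((P ⊗ (facSC f).X₃).homology i) := fun i =>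
    (HomologicalComplex.exactAt_iff_isZero_homology _ _).mp
      (exactAt_tensor_of_flat_bddAbove_left P _ b hb hP
        (fun j => (HomologicalComplex.exactAt_iff_isZero_homology _ _).mpr
          (facSC_acyclic f hf j)) i)
  have h1 : QuasiIso (P ◁ facι f) := quasiIso_f_of_acyclic _ hS hac
  have h2 : QuasiIso (P ◁ facπ L₁ L₂) :=
    (whiskerLeftHomotopyEquiv P (facEquiv L₁ L₂)).quasiIso_hom
  have : P ◁ f = P ◁ facι f ≫ P ◁ facπ L₁ L₂ := by
    rw [← MonoidalCategory.whiskerLeft_comp, facι_facπ]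
  rw [this]
  infer_instance

end Groth.Agent.Helper11.LTen
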