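import Groth.Agent.Lib.Helper11.RHomTri1
import Groth.Agent.Lib.Helper11.LTen1

/-!
# Functors on `D(A)` and derived completion: the universal property (helper11)

* `LTenTri.ConeHyp L`: `L` sends the inclusion `PX ⟶ cone(φ)` (`φ : PZ ⟶ PX` a morphism of
  K-projective complexes with `PZ` `f`-local) to a morphism inducing bijections on morphisms to
  objects right orthogonal to the `f`-local objects.
* `LTenTri.bijective_map_comp_of_coneHyp`: then the same holds for the first morphism of any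
  distinguished triangle with `f`-local third vertex.
* `LTenTri.bijective_map_toDerivedCompletion`: then `L(K) ⟶ L(K^)` has the universal property of a
  derived completion.
* `LTenTri.coneHyp_LTensorCx`: `- ⊗^L F` satisfies `ConeHyp`.
-/

set_option autoImplicit false
set_option linter.unusedSectionVars false
set_option linter.unusedVariables false
set_option linter.style.haveILetI false

open CategoryTheory CategoryTheory.Limits MonoidalCategory CochainComplex HomComplex
  Pretriangulated DerivedCategory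
open scoped TensorProduct

universe u

attribute [local instance] HasDerivedCategory.standard

namespace Groth.Agent.Helper11.LTenTri

open Groth.Agent.Helper3.HT Groth.Agent.Helper3.KF Groth.Agent.Helper5.KF
  Groth.Agent.Helper11.RHomLoc Groth.Agent.Helper11.DCP Groth.Agent.Helper11.GM
  Groth.Agent.Helper11.RGam Groth.Agent.Helper11.RHomTri Groth.Agent.Helper3.DS

variable {A : Type u} [CommRing A]

/-- the cone of a morphism between K-projective complexes is K-projective -/
theorem isKProjective_mappingCone {X Y : DRing.Cx A} (φ : X ⟶ Y) [X.IsKProjective]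
    [Y.IsKProjective] : (mappingCone φ).IsKProjective := by
  rw [isKProjective_iff_leftOrthogonal]
  exact ObjectProperty.ext_of_isTriangulatedClosed₃ _ _
    (HomotopyCategory.mappingCone_triangleh_distinguished φ)
    (IsKProjective.leftOrthogonal X) (IsKProjective.leftOrthogonal Y)

/-- `L` sends the inclusion `PX ⟶ cone(φ)`, for `φ : PZ ⟶ PX` a morphism of K-projective
complexes with `PZ` `f`-local, to a morphism inducing bijections on morphisms to objects right
orthogonal to the `f`-local objects -/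
def ConeHyp (L : Dual.D A ⥤ Dual.D A) : Prop :=
  ∀ (PZ PX : DRing.Cx A) (_ : PZ.IsKProjective) (_ : PX.IsKProjective) (φ : PZ ⟶ PX) (f : A),
    FLocal f (Q.obj PZ) → ∀ E : Dual.D A, ROrth f E →
      Function.Bijective (fun ψ : L.obj (Q.obj (mappingCone φ)) ⟶ E =>
        L.map (Q.map (mappingCone.inr φ)) ≫ ψ)

/-- for a distinguished triangle `X ⟶ Y ⟶ Z` with `Z` `f`-local and `E` right orthogonal to the
`f`-local objects, `L(X) ⟶ L(Y)` induces a bijection on morphisms to `E` -/
theorem bijective_map_comp_of_coneHyp (L : Dual.D A ⥤ Dual.D A) (hL : ConeHyp L)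
    (T : Triangle (Dual.D A)) (hT : T ∈ distTriang (Dual.D A)) (f : A) (hZ : FLocal f T.obj₃)
    (E : Dual.D A) (hE : ROrth f E) :
    Function.Bijective (fun ψ : L.obj T.obj₂ ⟶ E => L.map T.mor₁ ≫ ψ) := by
  have hT' := inv_rot_of_distTriang _ hT
  obtain ⟨PZ, hPZ, ⟨eZ'⟩⟩ := exists_kprojective_iso (T.obj₃⟦(-1 : ℤ)⟧)
  obtain ⟨PX, hPX, ⟨eX'⟩⟩ := exists_kprojective_iso T.obj₁
  haveI := hPZ
  haveI := hPX
  let eZ : T.obj₃⟦(-1 : ℤ)⟧ ≅ Q.obj PZ := eZ'.symm
  let eX : T.obj₁ ≅ Q.obj PX := eX'.symm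
  obtain ⟨φ, hφ⟩ := Groth.Agent.Helper11.DC.exists_lift_of_isKProjective PZ PX
    (eZ.inv ≫ T.invRotate.mor₁ ≫ eX.hom)
  have hT'' := DerivedCategory.mappingCone_triangle_distinguished φ
  have hcm : T.invRotate.mor₁ ≫ eX.hom =
      eZ.hom ≫ (Q.mapTriangle.obj (mappingCone.triangle φ)).mor₁ := by
    change T.invRotate.mor₁ ≫ eX.hom = eZ.hom ≫ Q.map φ
    rw [hφ]
    exact (eZ.hom_inv_id_assoc _).symm
  obtain ⟨Θ, hΘ⟩ : ∃ Θ : T.invRotate ≅ Q.mapTriangle.obj (mappingCone.triangle φ),
      Θ.hom.hom₂ = eX.hom :=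
    ⟨isoTriangleOfIso₁₂ T.invRotate (Q.mapTriangle.obj (mappingCone.triangle φ)) hT' hT'' eZ eX hcm,
      isoTriangleOfIso₁₂_hom_hom₂ _ _ _ _ _ _ _⟩
  let eY : T.obj₂ ≅ Q.obj (mappingCone φ) := Triangle.π₃.mapIso Θ
  have hcomm : T.mor₁ ≫ eY.hom = eX.hom ≫ Q.map (mappingCone.inr φ) := by
    have h := Θ.hom.comm₂
    rw [hΘ] at h
    exact h
  have hloc : FLocal f (Q.obj PZ) := (hZ.shift (-1)).of_iso eZ
  have hb := hL PZ PX hPZ hPX φ f hloc E hE
  have hR : L.map T.mor₁ = L.map eX.hom ≫ L.map (Q.map (mappingCone.inr φ)) ≫ L.map eY.inv := by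
    rw [← L.map_comp, ← L.map_comp, ← Category.assoc, ← hcomm, Category.assoc, eY.hom_inv_id,
      Category.comp_id]
  have b1 := bijective_iso_comp (L.map eY.inv) E
  have b3 := bijective_iso_comp (L.map eX.hom) E
  have hfun : (fun ψ : L.obj T.obj₂ ⟶ E => L.map T.mor₁ ≫ ψ) =
      (fun ψ => L.map eX.hom ≫ ψ) ∘
        (fun ψ => L.map (Q.map (mappingCone.inr φ)) ≫ ψ) ∘
        (fun ψ => L.map eY.inv ≫ ψ) := by
    funext ψ
    simp only [Function.comp, hR, Category.assoc]
  rw [hfun]
  exact b3.comp (hb.comp b1)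

/-- if `L` satisfies `ConeHyp`, then `L(K) ⟶ L(K^)` has the universal property of the derived
completion -/
theorem bijective_map_toDerivedCompletion (I : Ideal A) (hI : I.FG)
    [DRing.HasDerivedCompletion I] (L : Dual.D A ⥤ Dual.D A) (hL : ConeHyp L) (K E : Dual.D A)
    (hE : DRing.IsDerivedComplete I E) :
    Function.Bijective (fun φ : L.obj ((DRing.derivedCompletion I).obj K).obj ⟶ E =>
      L.map (DRing.toDerivedCompletion I K) ≫ φ) := by
  classical
  obtain ⟨s, hs⟩ := hI
  have hl : Ideal.span {x : A | x ∈ s.toList} = I := by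
    rw [← hs]
    congr 1
    ext x
    simp
  have hE' := (isDerivedComplete_iff_list s.toList I hl E).mp hE
  obtain ⟨K', η, h1, h2, h3⟩ := exists_completion_list_P (A := A) hasPow
    (fun X Y u => Function.Bijective (fun φ : L.obj Y ⟶ E => L.map u ≫ φ))
    (fun X => by
      have : (fun φ : L.obj X ⟶ E => L.map (𝟙 X) ≫ φ) = id :=
        funext (fun φ => by rw [CategoryTheory.Functor.map_id, Category.id_comp]; rfl)
      rw [this]
      exact Function.bijective_id)
    (fun X Y Z u v hu hv => by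
      have : (fun φ : L.obj Z ⟶ E => L.map (u ≫ v) ≫ φ) =
          (fun φ : L.obj Y ⟶ E => L.map u ≫ φ) ∘ (fun φ : L.obj Z ⟶ E => L.map v ≫ φ) :=
        funext (fun φ => by rw [Functor.map_comp, Category.assoc]; rfl)
      rw [this]
      exact hu.comp hv)
    s.toList
    (fun f hf T hT hZ => bijective_map_comp_of_coneHyp L hL T hT f hZ E (hE' f hf)) K
  have hc : DRing.IsDerivedComplete I K' := (isDerivedComplete_iff_list s.toList I hl K').mpr h1
  have hu : ∀ E' : Dual.D A, DRing.IsDerivedComplete I E' →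
      Function.Bijective (fun φ : K' ⟶ E' => η ≫ φ) := fun E' hE'' =>
    h2 E' ((isDerivedComplete_iff_list s.toList I hl E').mp hE'')
  obtain ⟨e, he⟩ := exists_iso_completion I K K' η hc hu
  have hη : DRing.toDerivedCompletion I K = η ≫ e.inv := by
    rw [← he, Category.assoc, e.hom_inv_id, Category.comp_id]
  rw [hη]
  have b1 := bijective_iso_comp (L.map e.inv) E
  have hfun : (fun φ : L.obj ((DRing.derivedCompletion I).obj K).obj ⟶ E =>
      L.map (η ≫ e.inv) ≫ φ) =
      (fun φ : L.obj K' ⟶ E => L.map η ≫ φ) ∘ (fun φ => L.map e.inv ≫ φ) :=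
    funext (fun φ => by rw [Functor.map_comp, Category.assoc]; rfl)
  rw [hfun]
  exact h3.comp b1

/-- `- ⊗^L F` satisfies `ConeHyp` -/
theorem coneHyp_LTensorCx (F : DRing.Cx A) [DRing.HasLTensorCx A F] :
    ConeHyp (DRing.LTensorCx A F) := by
  intro PZ PX hPZ hPX φ f hloc E hE
  haveI := hPZ
  haveI := hPX
  haveI : (mappingCone φ).IsKProjective := isKProjective_mappingCone φ
  have hSE := ((dsplit_coneSC φ).whiskerRight F).shortExact
  have hTS := DerivedCategory.triangleOfSES_distinguished hSE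
  have hW : FLocal f (Q.obj ((PZ⟦(1 : ℤ)⟧) ⊗ F)) := by
    apply fLocal_Q_tensor _ _ (Groth.Agent.Helper11.KPF.kfl_of_isKProjective _)
    exact (hloc.shift 1).of_iso ((Q.commShiftIso (1 : ℤ)).app PZ).symm
  have hb : Function.Bijective (fun ψ : Q.obj (mappingCone φ ⊗ F) ⟶ E =>
      Q.map (mappingCone.inr φ ▷ F) ≫ ψ) :=
    bijective_mor₁_comp_of_right _ hTS E (hE _ hW) (hE _ (hW.shift (-1)))
  let L := DRing.LTensorCx A F
  obtain ⟨cX, hcX, iX⟩ : ∃ cX : L.obj (Q.obj PX) ⟶ Q.obj (PX ⊗ F),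
      cX = ((DRing.tensorCxQ A F).totalLeftDerivedCounit DerivedCategory.Q
        (HomologicalComplex.quasiIso (ModuleCat.{u} A) (ComplexShape.up ℤ))).app PX ∧ IsIso cX :=
    ⟨_, rfl, Groth.Agent.Helper11.LTen.isIso_counit_app F PX⟩
  obtain ⟨cC, hcC, iC⟩ : ∃ cC : L.obj (Q.obj (mappingCone φ)) ⟶ Q.obj (mappingCone φ ⊗ F),
      cC = ((DRing.tensorCxQ A F).totalLeftDerivedCounit DerivedCategory.Q
        (HomologicalComplex.quasiIso (ModuleCat.{u} A) (ComplexShape.up ℤ))).app (mappingCone φ) ∧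
        IsIso cC :=
    ⟨_, rfl, Groth.Agent.Helper11.LTen.isIso_counit_app F (mappingCone φ)⟩
  have nat : L.map (Q.map (mappingCone.inr φ)) ≫ cC =
      cX ≫ Q.map (mappingCone.inr φ ▷ F) := by
    rw [hcX, hcC]
    exact ((DRing.tensorCxQ A F).totalLeftDerivedCounit DerivedCategory.Q
      (HomologicalComplex.quasiIso (ModuleCat.{u} A) (ComplexShape.up ℤ))).naturality
        (mappingCone.inr φ)
  have hR : L.map (Q.map (mappingCone.inr φ)) =
      cX ≫ Q.map (mappingCone.inr φ ▷ F) ≫ inv cC := by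
    rw [← Category.assoc, ← nat, Category.assoc, IsIso.hom_inv_id, Category.comp_id]
  have b1 := bijective_iso_comp (inv cC) E
  have b3 := bijective_iso_comp cX E
  have hfun : (fun ψ : L.obj (Q.obj (mappingCone φ)) ⟶ E =>
        L.map (Q.map (mappingCone.inr φ)) ≫ ψ) =
      (fun ψ => cX ≫ ψ) ∘ (fun ψ => Q.map (mappingCone.inr φ ▷ F) ≫ ψ) ∘
        (fun ψ => inv cC ≫ ψ) := by
    funext ψ
    simp only [Function.comp, hR, Category.assoc]
  change Function.Bijective (fun ψ : L.obj (Q.obj (mappingCone φ)) ⟶ E =>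
    L.map (Q.map (mappingCone.inr φ)) ≫ ψ)
  rw [hfun]
  exact b3.comp (hb.comp b1)

end Groth.Agent.Helper11.LTenTri
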