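/-
Length of `R ⧸ (x ^ n)` versus `R ⧸ (x)` (helper11).
-/
import Mathlib.RingTheory.Length
import Mathlib.RingTheory.Ideal.Quotient.Operations
import Mathlib.RingTheory.Ideal.Quotient.Basic
import Mathlib.Algebra.GroupWithZero.NonZeroDivisors
import Mathlib.LinearAlgebra.Quotient.Basic

set_option autoImplicit false

namespace Groth.Agent.Helper11

universe u

variable {R : Type u} [CommRing R]

theorem length_quotient_span_pow_succ (x : R) (n : ℕ) :
    ∃ L : ℕ∞, L ≤ Module.length R (R ⧸ Ideal.span {x}) ∧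
      (x ∈ nonZeroDivisors R → L = Module.length R (R ⧸ Ideal.span {x})) ∧
      Module.length R (R ⧸ Ideal.span {x ^ (n + 1)}) =
        L + Module.length R (R ⧸ Ideal.span {x ^ n}) := by
  have hle : (Ideal.span {x ^ (n + 1)} : Ideal R) ≤ Ideal.span {x ^ n} := by
    rw [Ideal.span_singleton_le_span_singleton]
    exact ⟨x, pow_succ x n⟩
  let g : (R ⧸ (Ideal.span {x ^ (n + 1)} : Ideal R)) →ₗ[R] (R ⧸ (Ideal.span {x ^ n} : Ideal R)) :=
    Submodule.factor hle
  have hg : Function.Surjective g := Submodule.factor_surjective hle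
  let f : (R ⧸ (Ideal.span {x} : Ideal R)) →ₗ[R] (R ⧸ (Ideal.span {x ^ (n + 1)} : Ideal R)) :=
    Submodule.liftQ (Ideal.span {x})
      ((Ideal.span {x ^ (n + 1)} : Ideal R).mkQ ∘ₗ LinearMap.lsmul R R (x ^ n)) (by
        intro r hr
        obtain ⟨s, rfl⟩ := Ideal.mem_span_singleton'.mp hr
        rw [LinearMap.mem_ker, LinearMap.comp_apply, Submodule.mkQ_apply,
          Submodule.Quotient.mk_eq_zero]
        refine Ideal.mem_span_singleton'.mpr ⟨s, ?_⟩
        simp only [LinearMap.lsmul_apply, smul_eq_mul]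
        ring)
  have hf_mk : ∀ r : R, f (Submodule.Quotient.mk r) = Submodule.Quotient.mk (x ^ n * r) := by
    intro r
    rfl
  have hexact : LinearMap.range f = LinearMap.ker g := by
    ext y
    obtain ⟨r, rfl⟩ := Submodule.Quotient.mk_surjective _ y
    constructor
    · rintro ⟨z, hz⟩
      obtain ⟨s, rfl⟩ := Submodule.Quotient.mk_surjective _ z
      rw [hf_mk] at hz
      rw [LinearMap.mem_ker, ← hz]
      show Submodule.factor hle (Submodule.mkQ _ (x ^ n * s)) = 0
      rw [Submodule.factor_mk, Submodule.mkQ_apply, Submodule.Quotient.mk_eq_zero]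
      exact Ideal.mem_span_singleton'.mpr ⟨s, mul_comm _ _⟩
    · intro hy
      rw [LinearMap.mem_ker] at hy
      have hy' : Submodule.factor hle (Submodule.mkQ _ r) = 0 := hy
      rw [Submodule.factor_mk, Submodule.mkQ_apply, Submodule.Quotient.mk_eq_zero] at hy'
      obtain ⟨s, rfl⟩ := Ideal.mem_span_singleton'.mp hy'
      exact ⟨Submodule.Quotient.mk s, by rw [hf_mk, mul_comm]⟩
  refine ⟨Module.length R (LinearMap.range f), ?_, ?_, ?_⟩
  · exact Module.length_le_of_surjective f.rangeRestrict f.surjective_rangeRestrict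
  · intro hx
    have hinj : Function.Injective f := by
      rw [← LinearMap.ker_eq_bot, LinearMap.ker_eq_bot']
      intro z hz
      obtain ⟨r, rfl⟩ := Submodule.Quotient.mk_surjective _ z
      rw [hf_mk, Submodule.Quotient.mk_eq_zero] at hz
      obtain ⟨s, hs⟩ := Ideal.mem_span_singleton'.mp hz
      rw [Submodule.Quotient.mk_eq_zero]
      refine Ideal.mem_span_singleton'.mpr ⟨s, ?_⟩
      have hxn : x ^ n ∈ nonZeroDivisors R := pow_mem hx n
      have h1 : (s * x - r) * x ^ n = 0 := by
        calc (s * x - r) * x ^ n = s * x ^ (n + 1) - x ^ n * r := by ring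
          _ = 0 := by rw [hs, sub_self]
      have h2 := (mem_nonZeroDivisors_iff_right.mp hxn) _ h1
      exact sub_eq_zero.mp h2
    exact (LinearEquiv.ofInjective f hinj).length_eq.symm
  · exact Module.length_eq_add_of_exact (LinearMap.range f).subtype g
      (Submodule.subtype_injective _) hg (by
        rw [LinearMap.exact_iff, Submodule.range_subtype, hexact])

theorem length_quotient_span_pow (x : R) (n : ℕ) :
    Module.length R (R ⧸ Ideal.span {x ^ n}) ≤ (n : ℕ∞) * Module.length R (R ⧸ Ideal.span {x}) ∧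
      (x ∈ nonZeroDivisors R →
        Module.length R (R ⧸ Ideal.span {x ^ n}) =
          (n : ℕ∞) * Module.length R (R ⧸ Ideal.span {x})) := by
  induction n with
  | zero =>
    have h0 : Module.length R (R ⧸ Ideal.span {x ^ 0}) = 0 := by
      rw [Module.length_eq_zero_iff, pow_zero, Ideal.span_singleton_one]
      exact Ideal.Quotient.subsingleton_iff.mpr rfl
    rw [h0]
    simp
  | succ n ih =>
    obtain ⟨L, hL1, hL2, hL3⟩ := length_quotient_span_pow_succ x n
    rw [hL3, Nat.cast_succ, add_mul, one_mul, add_comm]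
    refine ⟨add_le_add ih.1 hL1, fun hx => ?_⟩
    rw [ih.2 hx, hL2 hx]

end Groth.Agent.Helper11
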