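import Mathlib.Algebra.Category.ModuleCat.Basic
import Mathlib.Algebra.Module.Projective
import Mathlib.RingTheory.Ideal.Operations
import Mathlib.CategoryTheory.ObjectProperty.ClosedUnderIsomorphisms
import Mathlib.LinearAlgebra.Prod

/-!
Lifting acyclic complexes modulo an ideal: the inductive step (helper11).
-/

set_option autoImplicit false

open CategoryTheory

universe u

namespace Groth.Agent.Helper11.Lift

variable {R : Type u} [CommRing R] (I : Ideal R)

/-- linear maps send `I • ⊤` into `I • ⊤` -/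
theorem map_mem_smul_top {M N : Type*} [AddCommGroup M] [Module R M] [AddCommGroup N] [Module R N]
    (f : M →ₗ[R] N) {x : M} (hx : x ∈ I • (⊤ : Submodule R M)) :
    f x ∈ I • (⊤ : Submodule R N) := by
  have h : (I • (⊤ : Submodule R M)).map f ≤ I • ⊤ := by
    rw [Submodule.map_smul'']
    exact Submodule.smul_mono le_rfl le_top
  exact h ⟨x, hx, rfl⟩

/-- a surjective linear map sends `I • ⊤` onto `I • ⊤` -/
theorem exists_of_mem_smul_top {M N : Type*} [AddCommGroup M] [Module R M] [AddCommGroup N]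
    [Module R N] (f : M →ₗ[R] N) (hf : Function.Surjective f) {y : N}
    (hy : y ∈ I • (⊤ : Submodule R N)) : ∃ x ∈ I • (⊤ : Submodule R M), f x = y := by
  have h : (I • (⊤ : Submodule R M)).map f = I • ⊤ := by
    rw [Submodule.map_smul'', Submodule.map_top, LinearMap.range_eq_top.mpr hf]
  rw [← h] at hy
  obtain ⟨x, hx, rfl⟩ := hy
  exact ⟨x, hx, rfl⟩

section Step

variable (Pc : ObjectProperty (ModuleCat.{u} R)) [Pc.IsClosedUnderIsomorphisms]
  {A B N N' C CN CN' : Type u} [AddCommGroup A] [Module R A] [AddCommGroup B] [Module R B]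
  [AddCommGroup N] [Module R N] [AddCommGroup N'] [Module R N'] [AddCommGroup C] [Module R C]
  [AddCommGroup CN] [Module R CN] [AddCommGroup CN'] [Module R CN']
  (π : A × B →ₗ[R] C) (πN : N →ₗ[R] CN) (πN' : N' →ₗ[R] CN')
  (dC : C →ₗ[R] CN) (dC' : CN →ₗ[R] CN') (D' : N →ₗ[R] N') (β : B →ₗ[R] N)

include Pc in
theorem step
    (h1 : ∀ X : ModuleCat.{u} R, Pc X → Module.Projective R X)
    (h2 : ∀ X Y : ModuleCat.{u} R, Pc X → Pc (ModuleCat.of R (X × Y)) → Pc Y)
    (h3 : ∀ (X Y : ModuleCat.{u} R) (f : X ⟶ Y), Pc X → Pc Y →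
      LinearMap.range f.hom ⊔ I • (⊤ : Submodule R Y) = ⊤ → Function.Surjective f.hom)
    (hπ : Function.Surjective π) (hπN : Function.Surjective πN)
    (hkN : LinearMap.ker πN = I • ⊤) (hkN' : LinearMap.ker πN' ≤ I • ⊤)
    (hdC : ∀ c, dC' (dC c) = 0) (hex : LinearMap.ker dC' ≤ LinearMap.range dC)
    (hD'π : ∀ x, πN' (D' x) = dC' (πN x))
    (r : N →ₗ[R] LinearMap.ker D') (hr : ∀ z : LinearMap.ker D', r z = z)
    (hstrict : ∀ x, D' x ∈ I • (⊤ : Submodule R N') →
      ∃ y ∈ I • (⊤ : Submodule R N), D' y = D' x)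
    (hZ : Pc (ModuleCat.of R (LinearMap.ker D')))
    (hβ : ∀ q, D' (β q) = 0) (hβπ : ∀ q, πN (β q) = dC (π (0, q)))
    (hA : Module.Projective R A) (hM : Pc (ModuleCat.of R (A × B))) :
    ∃ φ : A →ₗ[R] N,
      (∀ x, D' ((φ.coprod β) x) = 0) ∧ LinearMap.ker D' ≤ LinearMap.range (φ.coprod β) ∧
      (∀ x, πN ((φ.coprod β) x) = dC (π x)) ∧
      (∃ r' : A × B →ₗ[R] LinearMap.ker (φ.coprod β),
        ∀ z : LinearMap.ker (φ.coprod β), r' z = z) ∧
      (∀ x, (φ.coprod β) x ∈ I • (⊤ : Submodule R N) →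
        ∃ y ∈ I • (⊤ : Submodule R (A × B)), (φ.coprod β) y = (φ.coprod β) x) ∧
      Pc (ModuleCat.of R (LinearMap.ker (φ.coprod β))) := by
  -- step 1: the kernel of `dC'` is the image of `ker D'`
  have hZπ : ∀ c, dC' c = 0 → ∃ z : LinearMap.ker D', πN z = c := by
    intro c hc
    obtain ⟨x, rfl⟩ := hπN c
    have h0 : D' x ∈ I • (⊤ : Submodule R N') := hkN' (by
      rw [LinearMap.mem_ker, hD'π, hc])
    obtain ⟨y, hy, hyx⟩ := hstrict x h0
    refine ⟨⟨x - y, by rw [LinearMap.mem_ker, map_sub, hyx, sub_self]⟩, ?_⟩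
    have hy0 : πN y = 0 := by
      rw [← LinearMap.mem_ker, hkN]
      exact hy
    show πN (x - y) = πN x
    rw [map_sub, hy0, sub_zero]
  -- the lifting
  let T : Submodule R CN := LinearMap.range (πN ∘ₗ (LinearMap.ker D').subtype)
  let f : LinearMap.ker D' →ₗ[R] T := (πN ∘ₗ (LinearMap.ker D').subtype).rangeRestrict
  have hf : Function.Surjective f := LinearMap.surjective_rangeRestrict _
  let g : A →ₗ[R] T := LinearMap.codRestrict T (dC ∘ₗ π ∘ₗ LinearMap.inl R A B) (fun a => by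
    obtain ⟨z, hz⟩ := hZπ (dC (π (a, 0))) (hdC _)
    exact ⟨z, hz⟩)
  obtain ⟨φ₀, hφ₀⟩ := Module.projective_lifting_property f g hf
  have hφ₀' : ∀ a, πN (φ₀ a) = dC (π (a, 0)) := fun a => by
    have := congrArg Subtype.val (LinearMap.congr_fun hφ₀ a)
    exact this
  let φ : A →ₗ[R] N := (LinearMap.ker D').subtype ∘ₗ φ₀
  have hDZ : ∀ x, (φ.coprod β) x ∈ LinearMap.ker D' := fun x => by
    rw [LinearMap.coprod_apply]
    exact Submodule.add_mem _ (φ₀ x.1).2 (LinearMap.mem_ker.mpr (hβ x.2))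
  have hlift : ∀ x, πN ((φ.coprod β) x) = dC (π x) := fun x => by
    rw [LinearMap.coprod_apply, map_add, hβπ]
    show πN (φ₀ x.1) + _ = _
    rw [hφ₀', ← map_add, ← map_add]
    congr 2
    ext <;> simp
  let D₀ : A × B →ₗ[R] LinearMap.ker D' := LinearMap.codRestrict _ (φ.coprod β) hDZ
  have hD₀ : ∀ x, (D₀ x : N) = (φ.coprod β) x := fun _ => rfl
  -- surjectivity of `D₀`
  have hsurj : Function.Surjective D₀ := by
    refine h3 (ModuleCat.of R (A × B)) (ModuleCat.of R (LinearMap.ker D')) (ModuleCat.ofHom D₀)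
      hM hZ ?_
    rw [eq_top_iff]
    intro z _
    have hz0 : dC' (πN z) = 0 := by
      rw [← hD'π, z.2, map_zero]
    obtain ⟨c₀, hc₀⟩ := hex (LinearMap.mem_ker.mpr hz0)
    obtain ⟨m, rfl⟩ := hπ c₀
    have h4 : (z : N) - (D₀ m : N) ∈ I • (⊤ : Submodule R N) := by
      rw [← hkN, LinearMap.mem_ker, map_sub, hD₀, hlift, hc₀, sub_self]
    have h5 : r ((z : N) - (D₀ m : N)) = z - D₀ m := by
      rw [map_sub, hr, hr]
    have h6 : z - D₀ m ∈ I • (⊤ : Submodule R (LinearMap.ker D')) := by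
      rw [← h5]
      exact map_mem_smul_top I r h4
    have h7 : z = D₀ m + (z - D₀ m) := by abel
    rw [h7]
    exact Submodule.add_mem_sup ⟨m, rfl⟩ h6
  haveI : Module.Projective R (LinearMap.ker D') := h1 _ hZ
  obtain ⟨σ, hσ⟩ := Module.projective_lifting_property D₀ LinearMap.id hsurj
  have hσ' : ∀ z, D₀ (σ z) = z := fun z => LinearMap.congr_fun hσ z
  have hker : ∀ x, (φ.coprod β) x = 0 ↔ D₀ x = 0 := fun x => by
    rw [← hD₀]
    exact ⟨fun h => Subtype.ext h, fun h => by rw [h]; rfl⟩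
  let r' : A × B →ₗ[R] LinearMap.ker (φ.coprod β) :=
    LinearMap.codRestrict _ (LinearMap.id - σ ∘ₗ D₀) (fun x => by
      rw [LinearMap.mem_ker, hker]
      show D₀ (x - σ (D₀ x)) = 0
      rw [map_sub, hσ', sub_self])
  have hr' : ∀ z : LinearMap.ker (φ.coprod β), r' z = z := fun z => by
    apply Subtype.ext
    show (z : A × B) - σ (D₀ z) = z
    rw [(hker z).mp z.2, map_zero, sub_zero]
  refine ⟨φ, fun x => LinearMap.mem_ker.mp (hDZ x), ?_, hlift, ⟨r', hr'⟩, ?_, ?_⟩
  · intro z hz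
    obtain ⟨m, hm⟩ := hsurj ⟨z, hz⟩
    exact ⟨m, by rw [← hD₀, hm]⟩
  · intro x hx
    have h8 : r ((φ.coprod β) x) = D₀ x := by
      rw [← hD₀, hr]
    have h9 : D₀ x ∈ I • (⊤ : Submodule R (LinearMap.ker D')) := by
      rw [← h8]
      exact map_mem_smul_top I r hx
    obtain ⟨y, hy, hyx⟩ := exists_of_mem_smul_top I D₀ hsurj h9
    exact ⟨y, hy, by rw [← hD₀, ← hD₀, hyx]⟩
  · let e : (A × B) ≃ₗ[R] (LinearMap.ker D' × LinearMap.ker (φ.coprod β)) :=
      { toFun := fun x => (D₀ x, r' x)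
        invFun := fun p => σ p.1 + (p.2 : A × B)
        map_add' := fun x y => by rw [map_add, map_add]; rfl
        map_smul' := fun c x => by rw [map_smul, map_smul]; rfl
        left_inv := fun x => by
          show σ (D₀ x) + (x - σ (D₀ x)) = x
          abel
        right_inv := fun p => by
          have h10 : D₀ (p.2 : A × B) = 0 := (hker _).mp p.2.2
          have h11 : D₀ (σ p.1 + (p.2 : A × B)) = p.1 := by
            rw [map_add, hσ', h10, add_zero]
          apply Prod.ext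
          · exact h11
          · apply Subtype.ext
            show (σ p.1 + (p.2 : A × B)) - σ (D₀ (σ p.1 + (p.2 : A × B))) = p.2
            rw [h11]
            abel }
    exact h2 (ModuleCat.of R (LinearMap.ker D')) (ModuleCat.of R (LinearMap.ker (φ.coprod β))) hZ
      (Pc.prop_of_iso e.toModuleIso hM)

end Step

end Groth.Agent.Helper11.Lift
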