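import Groth.Agent.Lib.Helper11.Lift1

/-!
Lifting acyclic complexes modulo an ideal: the recursion (helper11).
-/

set_option autoImplicit false

open CategoryTheory

universe u

namespace Groth.Agent.Helper11.Lift

variable {R : Type u} [CommRing R] (I : Ideal R)
  (Pc : ObjectProperty (ModuleCat.{u} R))
  (A B Cb : ℤ → Type u) [∀ i, AddCommGroup (A i)] [∀ i, Module R (A i)]
  [∀ i, AddCommGroup (B i)] [∀ i, Module R (B i)] [∀ i, AddCommGroup (Cb i)] [∀ i, Module R (Cb i)]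
  (π : ∀ i, A i × B i →ₗ[R] Cb i) (dC : ∀ i, Cb i →ₗ[R] Cb (i + 1))
  (β : ∀ i, B i →ₗ[R] B (i + 1))

/-- the differential determined by its `A`-part -/
abbrev Dm (i : ℤ) (φ : A i →ₗ[R] A (i + 1) × B (i + 1)) : A i × B i →ₗ[R] A (i + 1) × B (i + 1) :=
  φ.coprod (LinearMap.inr R (A (i + 1)) (B (i + 1)) ∘ₗ β i)

/-- the state of the recursion at index `i` -/
structure St (i : ℤ) where
  φ : A i →ₗ[R] A (i + 1) × B (i + 1)
  lift : ∀ x, π (i + 1) (Dm A B β i φ x) = dC i (π i x)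
  r : A i × B i →ₗ[R] LinearMap.ker (Dm A B β i φ)
  hr : ∀ z : LinearMap.ker (Dm A B β i φ), r z = z
  strict : ∀ x, Dm A B β i φ x ∈ I • (⊤ : Submodule R (A (i + 1) × B (i + 1))) →
    ∃ y ∈ I • (⊤ : Submodule R (A i × B i)), Dm A B β i φ y = Dm A B β i φ x
  pc : Pc (ModuleCat.of R (LinearMap.ker (Dm A B β i φ)))

/-- the hypotheses -/
structure Hyp (b₀ : ℤ) : Prop where
  h1 : ∀ X : ModuleCat.{u} R, Pc X → Module.Projective R X
  h2 : ∀ X Y : ModuleCat.{u} R, Pc X → Pc (ModuleCat.of R (X × Y)) → Pc Y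
  h3 : ∀ (X Y : ModuleCat.{u} R) (f : X ⟶ Y), Pc X → Pc Y →
    LinearMap.range f.hom ⊔ I • (⊤ : Submodule R Y) = ⊤ → Function.Surjective f.hom
  hπs : ∀ i, Function.Surjective (π i)
  hπk : ∀ i, LinearMap.ker (π i) = I • ⊤
  hdC : ∀ i c, dC (i + 1) (dC i c) = 0
  hex : ∀ i, LinearMap.ker (dC (i + 1)) ≤ LinearMap.range (dC i)
  hβ : ∀ i q, β (i + 1) (β i q) = 0
  hβπ : ∀ i q, π (i + 1) (0, β i q) = dC i (π i (0, q))
  hA : ∀ i, Module.Projective R (A i)
  hM : ∀ i, Pc (ModuleCat.of R (A i × B i))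
  hbA : ∀ i, b₀ < i → Subsingleton (A i)
  hbB : ∀ i, b₀ < i → Subsingleton (B i)

variable {I Pc A B Cb π dC β} [Pc.IsClosedUnderIsomorphisms] {b₀ : ℤ}

theorem step' (H : Hyp I Pc A B Cb π dC β b₀) (i : ℤ) (s : St I Pc A B Cb π dC β (i + 1)) :
    ∃ s' : St I Pc A B Cb π dC β i,
      (∀ x, Dm A B β (i + 1) s.φ (Dm A B β i s'.φ x) = 0) ∧
      LinearMap.ker (Dm A B β (i + 1) s.φ) ≤ LinearMap.range (Dm A B β i s'.φ) := by
  obtain ⟨φ, h1, h2, h3, ⟨r', hr'⟩, h5, h6⟩ := step I Pc (π i) (π (i + 1)) (π (i + 1 + 1))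
    (dC i) (dC (i + 1)) (Dm A B β (i + 1) s.φ)
    (LinearMap.inr R (A (i + 1)) (B (i + 1)) ∘ₗ β i) H.h1 H.h2 H.h3
    (H.hπs i) (H.hπs (i + 1)) (H.hπk (i + 1)) (H.hπk (i + 1 + 1)).le (H.hdC i) (H.hex i)
    s.lift s.r s.hr s.strict s.pc
    (fun q => by
      show s.φ 0 + (0, β (i + 1) (β i q)) = 0
      rw [map_zero, H.hβ, zero_add]
      rfl)
    (fun q => H.hβπ i q) (H.hA i) (H.hM i)
  exact ⟨⟨φ, h3, r', hr', h5, h6⟩, h1, h2⟩

/-- the trivial state above the bound -/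
noncomputable def base (H : Hyp I Pc A B Cb π dC β b₀) (i : ℤ) (hi : b₀ ≤ i) :
    St I Pc A B Cb π dC β i := by
  haveI := H.hbA (i + 1) (by omega)
  haveI := H.hbB (i + 1) (by omega)
  haveI : Subsingleton (Cb (i + 1)) := (H.hπs (i + 1)).subsingleton
  exact
    { φ := 0
      lift := fun x => Subsingleton.elim _ _
      r := LinearMap.codRestrict _ LinearMap.id (fun x => by
        rw [LinearMap.mem_ker]
        exact Subsingleton.elim _ _)
      hr := fun z => Subtype.ext rfl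
      strict := fun x _ => ⟨0, Submodule.zero_mem _, Subsingleton.elim _ _⟩
      pc := by
        let e : (A i × B i) ≃ₗ[R] LinearMap.ker (Dm A B β i (0 : A i →ₗ[R] A (i + 1) × B (i + 1))) :=
          { toFun := fun x => ⟨x, by
              rw [LinearMap.mem_ker]
              exact Subsingleton.elim _ _⟩
            invFun := fun z => z.1
            map_add' := fun _ _ => rfl
            map_smul' := fun _ _ => rfl
            left_inv := fun _ => rfl
            right_inv := fun _ => rfl }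
        exact Pc.prop_of_iso e.toModuleIso (H.hM i) }

/-- the recursion -/
noncomputable def aux (H : Hyp I Pc A B Cb π dC β b₀) :
    ∀ (k : ℕ) (i : ℤ), b₀ - i = k → St I Pc A B Cb π dC β i
  | 0, i, h => base H i (by omega)
  | k + 1, i, h => (step' H i (aux H k (i + 1) (by omega))).choose

theorem aux_congr (H : Hyp I Pc A B Cb π dC β b₀) (k k' : ℕ) (hk : k = k') (i : ℤ)
    (h : b₀ - i = k) (h' : b₀ - i = k') : aux H k i h = aux H k' i h' := by
  subst hk
  rfl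

/-- the sequence of states -/
noncomputable def seq (H : Hyp I Pc A B Cb π dC β b₀) (i : ℤ) : St I Pc A B Cb π dC β i :=
  if h : i ≤ b₀ then aux H (b₀ - i).toNat i (by omega) else base H i (by omega)

theorem seq_rel (H : Hyp I Pc A B Cb π dC β b₀) (i : ℤ) :
    (∀ x, Dm A B β (i + 1) (seq H (i + 1)).φ (Dm A B β i (seq H i).φ x) = 0) ∧
      LinearMap.ker (Dm A B β (i + 1) (seq H (i + 1)).φ) ≤
        LinearMap.range (Dm A B β i (seq H i).φ) := by
  by_cases h : i < b₀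
  · have h1 : i ≤ b₀ := by omega
    have h2 : i + 1 ≤ b₀ := by omega
    obtain ⟨k, hk⟩ : ∃ k : ℕ, b₀ - (i + 1) = k := ⟨(b₀ - (i + 1)).toNat, by omega⟩
    have hk' : b₀ - i = (k + 1 : ℕ) := by push_cast; omega
    have e1 : seq H (i + 1) = aux H k (i + 1) hk := by
      unfold seq
      rw [dif_pos h2]
      exact aux_congr H _ _ (by omega) _ _ _
    have e2 : seq H i = aux H (k + 1) i hk' := by
      unfold seq
      rw [dif_pos h1]
      exact aux_congr H _ _ (by omega) _ _ _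
    rw [e1, e2]
    exact (step' H i (aux H k (i + 1) hk)).choose_spec
  · haveI := H.hbA (i + 1) (by omega)
    haveI := H.hbB (i + 1) (by omega)
    refine ⟨fun x => ?_, fun z _ => ?_⟩
    · rw [Subsingleton.elim (Dm A B β i (seq H i).φ x) 0, map_zero]
    · exact ⟨0, Subsingleton.elim _ _⟩

/-- the lifting theorem -/
theorem exists_lift (H : Hyp I Pc A B Cb π dC β b₀) :
    ∃ φ : ∀ i, A i →ₗ[R] A (i + 1) × B (i + 1), ∀ i,
      (∀ x, Dm A B β (i + 1) (φ (i + 1)) (Dm A B β i (φ i) x) = 0) ∧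
      LinearMap.ker (Dm A B β (i + 1) (φ (i + 1))) ≤ LinearMap.range (Dm A B β i (φ i)) ∧
      (∀ x, π (i + 1) (Dm A B β i (φ i) x) = dC i (π i x)) :=
  ⟨fun i => (seq H i).φ, fun i => ⟨(seq_rel H i).1, (seq_rel H i).2, (seq H i).lift⟩⟩

end Groth.Agent.Helper11.Lift
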