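import Groth.Agent.Lib.Helper11.Lift2
import Groth.Agent.Lib.Helper11.TorAmp10
import Mathlib.LinearAlgebra.TensorProduct.Quotient
import Mathlib.RingTheory.TensorProduct.Basic

/-!
Lifting acyclic complexes modulo an ideal: reduction maps and the lifting of differentials
(helper11).
-/

set_option autoImplicit false

open CategoryTheory TensorProduct

universe u

namespace Groth.Agent.Helper11.Lift

variable {R : Type u} [CommRing R] (I : Ideal R)

/-- `R ⧸ I`-modules as `R`-modules -/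
noncomputable abbrev rs (N : ModuleCat.{u} (R ⧸ I)) : ModuleCat.{u} R :=
  (ModuleCat.restrictScalars.{u} (Ideal.Quotient.mk I)).obj N

section Red

variable {I} (X : ModuleCat.{u} R) (N : ModuleCat.{u} (R ⧸ I)) (e : (R ⧸ I) ⊗[R] X ≃ₗ[R ⧸ I] N)

/-- the reduction map `X → N` attached to `(R ⧸ I) ⊗ X ≃ N` -/
noncomputable def red : X →ₗ[R] rs I N where
  toFun x := e ((1 : R ⧸ I) ⊗ₜ[R] x)
  map_add' x y := (congrArg e (tmul_add (1 : R ⧸ I) x y)).trans (map_add e _ _)
  map_smul' r x := by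
    show e ((1 : R ⧸ I) ⊗ₜ[R] (r • x)) = (Ideal.Quotient.mk I r) • e ((1 : R ⧸ I) ⊗ₜ[R] x)
    rw [← map_smul, tmul_smul, ← algebraMap_smul (R ⧸ I) r ((1 : R ⧸ I) ⊗ₜ[R] x)]
    rfl

theorem red_apply (x : X) : red X N e x = e ((1 : R ⧸ I) ⊗ₜ[R] x) := rfl

theorem red_surjective : Function.Surjective (red X N e) := by
  intro n
  obtain ⟨t, rfl⟩ := e.surjective n
  obtain ⟨x, rfl⟩ := TensorProduct.mk_surjective R X (R ⧸ I) Ideal.Quotient.mk_surjective t
  exact ⟨x, rfl⟩

theorem ker_red : LinearMap.ker (red X N e) = I • (⊤ : Submodule R X) := by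
  ext x
  rw [LinearMap.mem_ker]
  show (e ((1 : R ⧸ I) ⊗ₜ[R] x) : N) = 0 ↔ _
  rw [e.map_eq_zero_iff,
    ← (quotTensorEquivQuotSMul X I).map_eq_zero_iff, quotTensorEquivQuotSMul_mk_one_tmul,
    Submodule.Quotient.mk_eq_zero]

theorem e_tmul (c : R ⧸ I) (x : X) : e (c ⊗ₜ[R] x) = c • e ((1 : R ⧸ I) ⊗ₜ[R] x) := by
  rw [← map_smul, smul_tmul', smul_eq_mul, mul_one]

end Red

section Main

variable {I} (Pc : ObjectProperty (ModuleCat.{u} R)) [Pc.IsClosedUnderIsomorphisms]

omit [Pc.IsClosedUnderIsomorphisms] in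
theorem ker_comp_fst {X : Type u} [AddCommGroup X] [Module R X] {C : Type u} [AddCommGroup C]
    [Module R C] (p : X →ₗ[R] C) (hp : LinearMap.ker p = I • ⊤) :
    LinearMap.ker (p ∘ₗ LinearMap.fst R X PUnit.{u + 1}) = I • ⊤ := by
  apply le_antisymm
  · intro x hx
    have h1 : x.1 ∈ I • (⊤ : Submodule R X) := by
      rw [← hp]
      exact hx
    have h2 : x = LinearMap.inl R X PUnit.{u + 1} x.1 := Prod.ext rfl (Subsingleton.elim _ _)
    rw [h2]
    exact map_mem_smul_top I _ h1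
  · intro x hx
    have := map_mem_smul_top I (LinearMap.fst R X PUnit.{u + 1}) hx
    rw [← hp] at this
    exact this

/-- lifting the differentials of an acyclic complex -/
theorem exists_lift_d
    (h1 : ∀ X : ModuleCat.{u} R, Pc X → Module.Projective R X)
    (h2 : ∀ X Y : ModuleCat.{u} R, Pc X → Pc (ModuleCat.of R (X × Y)) → Pc Y)
    (h3 : ∀ (X Y : ModuleCat.{u} R) (f : X ⟶ Y), Pc X → Pc Y →
      LinearMap.range f.hom ⊔ I • (⊤ : Submodule R Y) = ⊤ → Function.Surjective f.hom)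
    (E : DRing.Cx (R ⧸ I)) (b : ℤ) (hEb : DRing.VanishesAbove E b) (hEa : E.Acyclic)
    (X : ℤ → ModuleCat.{u} R) (hX : ∀ i, Pc (X i))
    (e : ∀ i, (R ⧸ I) ⊗[R] X i ≃ₗ[R ⧸ I] E.X i) :
    (∀ i, b < i → Subsingleton (X i)) ∧
    ∃ d : ∀ i, X i →ₗ[R] X (i + 1), (∀ i x, d (i + 1) (d i x) = 0) ∧
      (∀ i, LinearMap.ker (d (i + 1)) ≤ LinearMap.range (d i)) ∧
      (∀ i x, red (X (i + 1)) (E.X (i + 1)) (e (i + 1)) (d i x) =
        (E.d i (i + 1)).hom (red (X i) (E.X i) (e i) x)) := by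
  have hM : ∀ i, Pc (ModuleCat.of R (X i × PUnit.{u + 1})) := fun i =>
    Pc.prop_of_iso (LinearEquiv.prodUnique (R := R) (M := X i) (M₂ := PUnit.{u + 1})).symm.toModuleIso
      (hX i)
  have hPU : Pc (ModuleCat.of R PUnit.{u + 1}) := h2 (X 0) (ModuleCat.of R PUnit.{u + 1}) (hX 0) (hM 0)
  have hsub : ∀ i, b < i → Subsingleton (X i) := by
    intro i hi
    haveI : Subsingleton (E.X i) := ModuleCat.subsingleton_of_isZero (hEb i hi)
    have htop : I • (⊤ : Submodule R (X i)) = ⊤ := by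
      rw [← ker_red (X i) (E.X i) (e i), eq_top_iff]
      intro x _
      rw [LinearMap.mem_ker]
      exact Subsingleton.elim (α := E.X i) _ _
    have hs := h3 (ModuleCat.of R PUnit.{u + 1}) (X i) 0 hPU (hX i) (by
      rw [htop, sup_top_eq])
    refine ⟨fun x y => ?_⟩
    obtain ⟨u, hu⟩ := hs x
    obtain ⟨v, hv⟩ := hs y
    rw [← hu, ← hv]
  refine ⟨hsub, ?_⟩
  have H : Hyp I Pc (fun i => X i) (fun _ => PUnit.{u + 1}) (fun i => rs I (E.X i))
      (fun i => red (X i) (E.X i) (e i) ∘ₗ LinearMap.fst R (X i) PUnit.{u + 1})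
      (fun i => ((ModuleCat.restrictScalars.{u} (Ideal.Quotient.mk I)).map (E.d i (i + 1))).hom)
      (fun _ => 0) b :=
    { h1 := h1
      h2 := h2
      h3 := h3
      hπs := fun i => (red_surjective (X i) (E.X i) (e i)).comp LinearMap.fst_surjective
      hπk := fun i => ker_comp_fst _ (ker_red (X i) (E.X i) (e i))
      hdC := fun i c => by
        show (E.d (i + 1) (i + 1 + 1)).hom ((E.d i (i + 1)).hom c) = 0
        have := E.d_comp_d i (i + 1) (i + 1 + 1)
        exact congr($(this).hom c)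
      hex := fun i c hc => by
        have h4 := Groth.Agent.Helper11.TA.range_eq_ker_of_exactAt E i (i + 1) (i + 1 + 1) rfl rfl
          (hEa (i + 1))
        have h5 : (show E.X (i + 1) from c) ∈ LinearMap.ker (E.d (i + 1) (i + 1 + 1)).hom := hc
        rw [← h4] at h5
        obtain ⟨y, hy⟩ := h5
        exact ⟨y, hy⟩
      hβ := fun _ _ => rfl
      hβπ := fun i q => by
        show red (X (i + 1)) (E.X (i + 1)) (e (i + 1)) 0 =
          (E.d i (i + 1)).hom (red (X i) (E.X i) (e i) 0)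
        rw [map_zero, map_zero]
        exact (map_zero (E.d i (i + 1)).hom).symm
      hA := fun i => h1 _ (hX i)
      hM := hM
      hbA := hsub
      hbB := fun _ _ => inferInstance }
  obtain ⟨φ, hφ⟩ := exists_lift H
  refine ⟨fun i => LinearMap.fst R (X (i + 1)) PUnit.{u + 1} ∘ₗ φ i, ?_, ?_, ?_⟩
  · intro i x
    have h6 := (hφ i).1 (x, PUnit.unit)
    have h7 : (φ (i + 1)) ((φ i x).1) = 0 := by
      have h8 : Dm (fun i => X i) (fun _ => PUnit.{u + 1}) (fun _ => 0) (i + 1) (φ (i + 1))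
          (Dm (fun i => X i) (fun _ => PUnit.{u + 1}) (fun _ => 0) i (φ i) (x, PUnit.unit)) =
          (φ (i + 1)) ((φ i x).1) := by
        show (φ (i + 1)) ((φ i x + 0).1) + 0 = _
        rw [add_zero, add_zero]
      rw [← h8]
      exact h6
    show ((φ (i + 1)) ((φ i x).1)).1 = 0
    rw [h7]
    rfl
  · intro i y hy
    have hy' : ((φ (i + 1)) y).1 = 0 := hy
    have h9 : (y, PUnit.unit) ∈ LinearMap.ker
        (Dm (fun i => X i) (fun _ => PUnit.{u + 1}) (fun _ => 0) (i + 1) (φ (i + 1))) := by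
      rw [LinearMap.mem_ker]
      show (φ (i + 1)) y + 0 = 0
      rw [add_zero]
      exact Prod.ext hy' (Subsingleton.elim _ _)
    obtain ⟨z, hz⟩ := (hφ i).2.1 h9
    refine ⟨z.1, ?_⟩
    have h10 : φ i z.1 = (y, PUnit.unit) := by
      have : φ i z.1 + 0 = (y, PUnit.unit) := hz
      rw [add_zero] at this
      exact this
    show (φ i z.1).1 = y
    rw [h10]
  · intro i x
    have h11 := (hφ i).2.2 (x, PUnit.unit)
    have h12 : Dm (fun i => X i) (fun _ => PUnit.{u + 1}) (fun _ => 0) i (φ i) (x, PUnit.unit) =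
        φ i x := by
      show φ i x + 0 = _
      rw [add_zero]
    rw [h12] at h11
    exact h11

end Main

end Groth.Agent.Helper11.Lift
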