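import Groth.Agent.Lib.Helper11.Lift4
import Groth.Agent.Lib.Helper11.DCHomK
import Groth.Agent.Lib.Helper11.TorAmp2
import Mathlib.Algebra.Homology.DerivedCategory.ShortExact

/-!
Lifting a representative of a class modulo an ideal: the Hyp package (helper11).
-/

set_option autoImplicit false

open CategoryTheory TensorProduct

universe u

namespace Groth.Agent.Helper11.Lift

open Groth.Agent.Helper11.TA CochainComplex HomComplex

variable {R : Type u} [CommRing R] {I : Ideal R}

/-- restriction of scalars of a morphism, as a linear map -/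
noncomputable abbrev rsm {N N' : ModuleCat.{u} (R ⧸ I)} (f : N ⟶ N') : rs I N →ₗ[R] rs I N' :=
  ((ModuleCat.restrictScalars.{u} (Ideal.Quotient.mk I)).map f).hom

theorem smul_top_rs (N : ModuleCat.{u} (R ⧸ I)) : I • (⊤ : Submodule R (rs I N)) = ⊥ := by
  rw [eq_bot_iff, Submodule.smul_le]
  intro r hr n _
  rw [Submodule.mem_bot]
  show (Ideal.Quotient.mk I r) • (show N from n) = 0
  rw [Ideal.Quotient.eq_zero_iff_mem.mpr hr, zero_smul]

theorem prod_mem_smul_top {A B : Type*} [AddCommGroup A] [Module R A] [AddCommGroup B]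
    [Module R B] {x : A} {y : B} (hx : x ∈ I • (⊤ : Submodule R A))
    (hy : y ∈ I • (⊤ : Submodule R B)) : (x, y) ∈ I • (⊤ : Submodule R (A × B)) := by
  have h : (x, y) = LinearMap.inl R A B x + LinearMap.inr R A B y := by
    simp
  rw [h]
  exact Submodule.add_mem _ (map_mem_smul_top I _ hx) (map_mem_smul_top I _ hy)

section Core

variable (Q : DRing.Cx R) (E : DRing.Cx (R ⧸ I)) (X : ℤ → ModuleCat.{u} R)
  (e : ∀ i, (R ⧸ I) ⊗[R] X i ≃ₗ[R ⧸ I] E.X i)
  (α : E ⟶ (esC (Ideal.Quotient.mk I)).obj Q)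

/-- reduction on `Q` -/
noncomputable abbrev redQ (j : ℤ) :
    Q.X j →ₗ[R] rs I (((esC (Ideal.Quotient.mk I)).obj Q).X j) :=
  red (Q.X j) ((es (Ideal.Quotient.mk I)).obj (Q.X j)) (esEquiv (I := I) (Q.X j)).symm

set_option backward.isDefEq.respectTransparency false in
theorem redQ_nat (j k : ℤ) (q : Q.X j) :
    redQ (I := I) Q k ((Q.d j k).hom q) =
      (((esC (Ideal.Quotient.mk I)).obj Q).d j k).hom (redQ (I := I) Q j q) := by
  apply (esEquiv (I := I) (Q.X k)).injective
  rfl

/-- the projection to the shifted mapping cone -/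
noncomputable def piC (i : ℤ) :
    X i × Q.X (i + -1) →ₗ[R] rs I ((mappingCone α).X (i + -1)) :=
  (rsm ((mappingCone.inl α).v i (i + -1) rfl) ∘ₗ red (X i) (E.X i) (e i)).coprod
    (rsm ((mappingCone.inr α).f (i + -1)) ∘ₗ redQ (I := I) Q (i + -1))

theorem piC_apply (i : ℤ) (x : X i) (q : Q.X (i + -1)) :
    piC Q E X e α i (x, q) =
      ((mappingCone.inl α).v i (i + -1) rfl).hom (red (X i) (E.X i) (e i) x) +
        ((mappingCone.inr α).f (i + -1)).hom (redQ (I := I) Q (i + -1) q) := rfl

/-- the differential of the shifted mapping cone -/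
noncomputable def dCone (i : ℤ) :
    rs I ((mappingCone α).X (i + -1)) →ₗ[R] rs I ((mappingCone α).X (i + 1 + -1)) :=
  -rsm ((mappingCone α).d (i + -1) (i + 1 + -1))

theorem dCone_apply (i : ℤ) (m : (mappingCone α).X (i + -1)) :
    dCone Q E α i m = -((mappingCone α).d (i + -1) (i + 1 + -1)).hom m := rfl

section ConeElem

variable {E} {F : DRing.Cx (R ⧸ I)} (γ : E ⟶ F)

theorem fst_inl_add_inr (i j : ℤ) (hij : j + 1 = i) (y : E.X i) (z : F.X j) :
    ((mappingCone.fst γ).1.v j i hij).hom
      (((mappingCone.inl γ).v i j (by omega)).hom y + ((mappingCone.inr γ).f j).hom z) = y := by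
  have h1 := congr($(mappingCone.inl_v_fst_v γ i j hij).hom y)
  have h2 := congr($(mappingCone.inr_f_fst_v γ j i hij).hom z)
  simp only [ModuleCat.hom_comp, LinearMap.comp_apply, ModuleCat.hom_id, LinearMap.id_apply,
    ModuleCat.hom_zero, LinearMap.zero_apply] at h1 h2
  rw [map_add, h1, h2, add_zero]

theorem snd_inl_add_inr (i j : ℤ) (hij : i + -1 = j) (y : E.X i) (z : F.X j) :
    ((mappingCone.snd γ).v j j (add_zero _)).hom
      (((mappingCone.inl γ).v i j hij).hom y + ((mappingCone.inr γ).f j).hom z) = z := by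
  have h1 := congr($(mappingCone.inl_v_snd_v γ i j hij).hom y)
  have h2 := congr($(mappingCone.inr_f_snd_v γ j).hom z)
  simp only [ModuleCat.hom_comp, LinearMap.comp_apply, ModuleCat.hom_id, LinearMap.id_apply,
    ModuleCat.hom_zero, LinearMap.zero_apply] at h1 h2
  rw [map_add, h1, h2, zero_add]

theorem inl_fst_add_inr_snd (i j : ℤ) (hij : j + 1 = i) (m : (mappingCone γ).X j) :
    ((mappingCone.inl γ).v i j (by omega)).hom (((mappingCone.fst γ).1.v j i hij).hom m) +
      ((mappingCone.inr γ).f j).hom (((mappingCone.snd γ).v j j (add_zero _)).hom m) = m := by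
  have h := congr($(mappingCone.id_X γ j i hij).hom m)
  simp only [ModuleCat.hom_comp, LinearMap.comp_apply, ModuleCat.hom_id, LinearMap.id_apply,
    ModuleCat.hom_add, LinearMap.add_apply] at h
  exact h

end ConeElem

theorem fst_piC (i : ℤ) (x : X i) (q : Q.X (i + -1)) :
    ((mappingCone.fst α).1.v (i + -1) i (by omega)).hom (piC Q E X e α i (x, q)) =
      red (X i) (E.X i) (e i) x :=
  fst_inl_add_inr α i (i + -1) (by omega) _ _

theorem snd_piC (i : ℤ) (x : X i) (q : Q.X (i + -1)) :
    ((mappingCone.snd α).v (i + -1) (i + -1) (add_zero _)).hom (piC Q E X e α i (x, q)) =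
      redQ (I := I) Q (i + -1) q :=
  snd_inl_add_inr α i (i + -1) rfl _ _

theorem piC_surjective (i : ℤ) : Function.Surjective (piC Q E X e α i) := by
  intro m
  obtain ⟨x, hx⟩ := red_surjective (X i) (E.X i) (e i)
    (((mappingCone.fst α).1.v (i + -1) i (by omega)).hom m)
  obtain ⟨q, hq⟩ := red_surjective (Q.X (i + -1))
    ((es (Ideal.Quotient.mk I)).obj (Q.X (i + -1))) (esEquiv (I := I) (Q.X (i + -1))).symm
    (((mappingCone.snd α).v (i + -1) (i + -1) (add_zero _)).hom m)
  refine ⟨(x, q), ?_⟩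
  rw [piC_apply, hx]
  refine Eq.trans ?_ (inl_fst_add_inr_snd α i (i + -1) (by omega) m)
  congr 2

theorem ker_piC (i : ℤ) : LinearMap.ker (piC Q E X e α i) = I • ⊤ := by
  apply le_antisymm
  · rintro ⟨x, q⟩ hx
    rw [LinearMap.mem_ker] at hx
    have h1 : red (X i) (E.X i) (e i) x = 0 :=
      (fst_piC Q E X e α i x q).symm.trans
        ((congrArg (((mappingCone.fst α).1.v (i + -1) i (by omega)).hom) hx).trans (map_zero _))
    have h2 : redQ (I := I) Q (i + -1) q = 0 :=
      (snd_piC Q E X e α i x q).symm.trans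
        ((congrArg (((mappingCone.snd α).v (i + -1) (i + -1) (add_zero _)).hom) hx).trans
          (map_zero _))
    apply prod_mem_smul_top
    · rw [← ker_red (X i) (E.X i) (e i), LinearMap.mem_ker]
      exact h1
    · rw [← ker_red (Q.X (i + -1)) ((es (Ideal.Quotient.mk I)).obj (Q.X (i + -1)))
        (esEquiv (I := I) (Q.X (i + -1))).symm, LinearMap.mem_ker]
      exact h2
  · intro z hz
    have := map_mem_smul_top I (piC Q E X e α i) hz
    rw [smul_top_rs, Submodule.mem_bot] at this
    exact this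

end Core

end Groth.Agent.Helper11.Lift
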