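import Groth.Agent.Lib.Helper11.Lift5

/-!
Lifting a representative of a class modulo an ideal: assembling (helper11).
-/

set_option autoImplicit false

open CategoryTheory TensorProduct

universe u

namespace Groth.Agent.Helper11.Lift

open Groth.Agent.Helper11.TA Groth.Agent.Helper11.DC CochainComplex HomComplex

attribute [local instance] HasDerivedCategory.standard

variable {R : Type u} [CommRing R] {I : Ideal R}

section DmLemmas

variable (A B : ℤ → Type u) [∀ i, AddCommGroup (A i)] [∀ i, Module R (A i)]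
  [∀ i, AddCommGroup (B i)] [∀ i, Module R (B i)]
  (β : ∀ i, B i →ₗ[R] B (i + 1)) (i : ℤ) (φ : A i →ₗ[R] A (i + 1) × B (i + 1))

theorem Dm_fst (x : A i) (q : B i) : (Dm A B β i φ (x, q)).1 = (φ x).1 := by
  show (φ x).1 + 0 = _
  rw [add_zero]

theorem Dm_inr (q : B i) : Dm A B β i φ (0, q) = (0, β i q) := by
  show φ 0 + (0, β i q) = _
  rw [map_zero, zero_add]

theorem Dm_inl (x : A i) : Dm A B β i φ (x, 0) = φ x := by
  show φ x + (0, β i 0) = _
  rw [map_zero]
  exact add_zero _

end DmLemmas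

section ConeElem2

variable {E F : DRing.Cx (R ⧸ I)} (γ : E ⟶ F)

theorem fst_d (i j k : ℤ) (hij : i + 1 = j) (hjk : j + 1 = k) (m : (mappingCone γ).X i) :
    ((mappingCone.fst γ).1.v j k hjk).hom (((mappingCone γ).d i j).hom m) =
      -(E.d j k).hom (((mappingCone.fst γ).1.v i j hij).hom m) := by
  have h := congr($(mappingCone.d_fst_v γ i j k hij hjk).hom m)
  simp only [ModuleCat.hom_comp, LinearMap.comp_apply, ModuleCat.hom_neg,
    LinearMap.neg_apply] at h
  exact h

theorem inr_d (i j : ℤ) (z : F.X i) :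
    ((mappingCone γ).d i j).hom (((mappingCone.inr γ).f i).hom z) =
      ((mappingCone.inr γ).f j).hom ((F.d i j).hom z) := by
  have h := congr($(mappingCone.inr_f_d γ i j).hom z)
  simp only [ModuleCat.hom_comp, LinearMap.comp_apply] at h
  exact h

end ConeElem2

section HypSec

variable (Pc : ObjectProperty (ModuleCat.{u} R)) [Pc.IsClosedUnderIsomorphisms]
  (Q : DRing.Cx R) (E : DRing.Cx (R ⧸ I)) (X : ℤ → ModuleCat.{u} R)
  (e : ∀ i, (R ⧸ I) ⊗[R] X i ≃ₗ[R ⧸ I] E.X i)
  (α : E ⟶ (esC (Ideal.Quotient.mk I)).obj Q)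

include Pc in
theorem subsingleton_of_red
    (h2 : ∀ X Y : ModuleCat.{u} R, Pc X → (Pc (ModuleCat.of R (X × Y)) ↔ Pc Y))
    (h3 : ∀ (X Y : ModuleCat.{u} R) (f : X ⟶ Y), Pc X → Pc Y →
      LinearMap.range f.hom ⊔ I • (⊤ : Submodule R Y) = ⊤ → Function.Surjective f.hom)
    (Y : ModuleCat.{u} R) (hY : Pc Y) (N : ModuleCat.{u} (R ⧸ I))
    (eY : (R ⧸ I) ⊗[R] Y ≃ₗ[R ⧸ I] N) (hN : Subsingleton N) : Subsingleton Y := by
  have hM : Pc (ModuleCat.of R (Y × PUnit.{u + 1})) :=
    Pc.prop_of_iso (LinearEquiv.prodUnique (R := R) (M := Y) (M₂ := PUnit.{u + 1})).symm.toModuleIso hY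
  have hPU : Pc (ModuleCat.of R PUnit.{u + 1}) :=
    (h2 Y (ModuleCat.of R PUnit.{u + 1}) hY).mp hM
  have htop : I • (⊤ : Submodule R Y) = ⊤ := by
    rw [← ker_red Y N eY, eq_top_iff]
    intro x _
    rw [LinearMap.mem_ker]
    exact Subsingleton.elim (α := N) _ _
  have hs := h3 (ModuleCat.of R PUnit.{u + 1}) Y 0 hPU hY (by
    rw [htop, sup_top_eq])
  refine ⟨fun x y => ?_⟩
  obtain ⟨u, hu⟩ := hs x
  obtain ⟨v, hv⟩ := hs y
  rw [← hu, ← hv]

theorem hyp
    (h1 : ∀ X : ModuleCat.{u} R, Pc X → Module.Projective R X)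
    (h2 : ∀ X Y : ModuleCat.{u} R, Pc X → (Pc (ModuleCat.of R (X × Y)) ↔ Pc Y))
    (h3 : ∀ (X Y : ModuleCat.{u} R) (f : X ⟶ Y), Pc X → Pc Y →
      LinearMap.range f.hom ⊔ I • (⊤ : Submodule R Y) = ⊤ → Function.Surjective f.hom)
    (c : ℤ) (hQc : DRing.VanishesAbove Q c) (hQ : ∀ i, Pc (Q.X i))
    (b : ℤ) (hEb : DRing.VanishesAbove E b) (hX : ∀ i, Pc (X i))
    (hα : IsIso (DerivedCategory.Q.map α)) :
    Hyp I Pc (fun i => X i) (fun i => Q.X (i + -1))
      (fun i => rs I ((mappingCone α).X (i + -1)))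
      (piC Q E X e α) (dCone Q E α) (fun i => -(Q.d (i + -1) (i + 1 + -1)).hom)
      (max b (c + 1)) :=
  { h1 := h1
    h2 := fun X Y hX hXY => (h2 X Y hX).mp hXY
    h3 := h3
    hπs := piC_surjective Q E X e α
    hπk := ker_piC Q E X e α
    hdC := fun i m => by
      show -((mappingCone α).d (i + 1 + -1) (i + 1 + 1 + -1)).hom
        (-((mappingCone α).d (i + -1) (i + 1 + -1)).hom
          (show (mappingCone α).X (i + -1) from m)) = 0
      rw [map_neg, neg_neg]
      exact congr($((mappingCone α).d_comp_d (i + -1) (i + 1 + -1) (i + 1 + 1 + -1)).hom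
        (show (mappingCone α).X (i + -1) from m))
    hex := fun i m hm => by
      have h4 := range_eq_ker_of_exactAt (mappingCone α) (i + -1) (i + 1 + -1) (i + 1 + 1 + -1)
        (by omega) (by omega) (cone_exactAt α hα _)
      have h5 : (show (mappingCone α).X (i + 1 + -1) from m) ∈
          LinearMap.ker ((mappingCone α).d (i + 1 + -1) (i + 1 + 1 + -1)).hom := by
        rw [LinearMap.mem_ker]
        have h6 : -((mappingCone α).d (i + 1 + -1) (i + 1 + 1 + -1)).hom
          (show (mappingCone α).X (i + 1 + -1) from m) = 0 := hm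
        rw [← neg_eq_zero]
        exact h6
      rw [← h4] at h5
      obtain ⟨y, hy⟩ := h5
      refine ⟨(show rs I ((mappingCone α).X (i + -1)) from -y), ?_⟩
      show -((mappingCone α).d (i + -1) (i + 1 + -1)).hom (-y) = _
      rw [map_neg, neg_neg]
      exact hy
    hβ := fun i q => by
      show -(Q.d (i + 1 + -1) (i + 1 + 1 + -1)).hom (-(Q.d (i + -1) (i + 1 + -1)).hom q) = 0
      rw [map_neg, neg_neg]
      exact congr($(Q.d_comp_d (i + -1) (i + 1 + -1) (i + 1 + 1 + -1)).hom q)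
    hβπ := fun i q => by
      show piC Q E X e α (i + 1) (0, -(Q.d (i + -1) (i + 1 + -1)).hom q) =
        dCone Q E α i (piC Q E X e α i (0, q))
      rw [piC_apply, piC_apply, dCone_apply]
      have hz1 : red (X (i + 1)) (E.X (i + 1)) (e (i + 1)) 0 = 0 := map_zero _
      have hz2 : red (X i) (E.X i) (e i) 0 = 0 := map_zero _
      rw [hz1, hz2]
      have hz3 : ((mappingCone.inl α).v (i + 1) (i + 1 + -1) rfl).hom
        (0 : rs I (E.X (i + 1))) = 0 := map_zero _
      have hz4 : ((mappingCone.inl α).v i (i + -1) rfl).hom (0 : rs I (E.X i)) = 0 := map_zero _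
      rw [hz3, hz4, zero_add, zero_add]
      have h7 : redQ (I := I) Q (i + 1 + -1) (-(Q.d (i + -1) (i + 1 + -1)).hom q) =
          -(((esC (Ideal.Quotient.mk I)).obj Q).d (i + -1) (i + 1 + -1)).hom
            (redQ (I := I) Q (i + -1) q) := by
        rw [map_neg, redQ_nat]
        rfl
      rw [h7]
      exact (map_neg ((mappingCone.inr α).f (i + 1 + -1)).hom _).trans
        (congrArg Neg.neg (inr_d α (i + -1) (i + 1 + -1) _).symm)
    hA := fun i => h1 _ (hX i)
    hM := fun i => (h2 (X i) (Q.X (i + -1)) (hX i)).mpr (hQ _)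
    hbA := fun i hi => subsingleton_of_red Pc h2 h3 (X i) (hX i) (E.X i) (e i)
      (ModuleCat.subsingleton_of_isZero (hEb i (by
        have := le_max_left b (c + 1)
        omega)))
    hbB := fun i hi => ModuleCat.subsingleton_of_isZero (hQc (i + -1) (by
      have := le_max_right b (c + 1)
      omega)) }

end HypSec

end Groth.Agent.Helper11.Lift
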