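import Groth.Agent.Lib.Helper11.Lift6

/-!
Lifting a representative of a class modulo an ideal: the triangle (helper11).
-/

set_option autoImplicit false

open CategoryTheory CategoryTheory.Limits TensorProduct

universe u

namespace Groth.Agent.Helper11.Lift

open Groth.Agent.Helper11.TA Groth.Agent.Helper11.DC CochainComplex HomComplex

attribute [local instance] HasDerivedCategory.standard

variable {R : Type u} [CommRing R]

section Tri

variable (Q : DRing.Cx R) (X : ℤ → ModuleCat.{u} R)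
  (φ : ∀ i, X i →ₗ[R] X (i + 1) × Q.X (i + 1 + -1))

/-- the differential of the big complex -/
noncomputable abbrev DQ (i : ℤ) : X i × Q.X (i + -1) →ₗ[R] X (i + 1) × Q.X (i + 1 + -1) :=
  Dm (fun i => X i) (fun i => Q.X (i + -1)) (fun i => -(Q.d (i + -1) (i + 1 + -1)).hom) i (φ i)

variable (h0 : ∀ i z, DQ Q X φ (i + 1) (DQ Q X φ i z) = 0)

/-- the big complex -/
noncomputable def Ccx : DRing.Cx R :=
  CochainComplex.of (fun i => ModuleCat.of R (X i × Q.X (i + -1)))
    (fun i => ModuleCat.ofHom (DQ Q X φ i)) (fun i => by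
      apply ModuleCat.hom_ext
      apply LinearMap.ext
      intro z
      exact h0 i z)

theorem Ccx_d (i : ℤ) : (Ccx Q X φ h0).d i (i + 1) = ModuleCat.ofHom (DQ Q X φ i) := by
  unfold Ccx
  exact CochainComplex.of_d (fun i => ModuleCat.of R (X i × Q.X (i + -1)))
    (fun i => ModuleCat.ofHom (DQ Q X φ i)) i

/-- the quotient complex -/
noncomputable def Pcx : DRing.Cx R :=
  CochainComplex.of X (fun i => ModuleCat.ofHom (LinearMap.fst R _ _ ∘ₗ φ i)) (fun i => by
    apply ModuleCat.hom_ext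
    apply LinearMap.ext
    intro x
    have h := h0 i (x, 0)
    rw [Dm_inl] at h
    exact (Dm_fst (fun i => X i) (fun i => Q.X (i + -1))
      (fun i => -(Q.d (i + -1) (i + 1 + -1)).hom) (i + 1) (φ (i + 1)) (φ i x).1 (φ i x).2).symm.trans
      (congrArg Prod.fst h))

theorem Pcx_d (i : ℤ) :
    (Pcx Q X φ h0).d i (i + 1) = ModuleCat.ofHom (LinearMap.fst R _ _ ∘ₗ φ i) := by
  unfold Pcx
  exact CochainComplex.of_d X (fun i => ModuleCat.ofHom (LinearMap.fst R _ _ ∘ₗ φ i)) i

theorem shift_d_apply (i : ℤ) (q : Q.X (i + -1)) :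
    (((CategoryTheory.shiftFunctor (DRing.Cx R) (-1 : ℤ)).obj Q).d i (i + 1)).hom q =
      -(Q.d (i + -1) (i + 1 + -1)).hom q := by
  rw [CochainComplex.shiftFunctor_obj_d']
  simp
  rfl

/-- the inclusion of the shifted complex -/
noncomputable def ιcx : (CategoryTheory.shiftFunctor (DRing.Cx R) (-1 : ℤ)).obj Q ⟶ Ccx Q X φ h0 where
  f i := ModuleCat.ofHom (LinearMap.inr R (X i) (Q.X (i + -1)))
  comm' i j hij := by
    obtain rfl : i + 1 = j := hij
    rw [Ccx_d]
    refine ModuleCat.hom_ext (LinearMap.ext fun (q : Q.X (i + -1)) => ?_)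
    show DQ Q X φ i (0, q) = (0, (((CategoryTheory.shiftFunctor (DRing.Cx R) (-1 : ℤ)).obj Q).d i
      (i + 1)).hom q)
    rw [Dm_inr, shift_d_apply]
    rfl

/-- the projection to the quotient complex -/
noncomputable def pcx : Ccx Q X φ h0 ⟶ Pcx Q X φ h0 where
  f i := ModuleCat.ofHom (LinearMap.fst R (X i) (Q.X (i + -1)))
  comm' i j hij := by
    obtain rfl : i + 1 = j := hij
    rw [Ccx_d, Pcx_d]
    apply ModuleCat.hom_ext
    apply LinearMap.ext
    rintro ⟨x, q⟩
    exact (Dm_fst (fun i => X i) (fun i => Q.X (i + -1))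
      (fun i => -(Q.d (i + -1) (i + 1 + -1)).hom) i (φ i) x q).symm

/-- the short complex -/
noncomputable def ses : ShortComplex (DRing.Cx R) :=
  ShortComplex.mk (ιcx Q X φ h0) (pcx Q X φ h0) (by
    ext i q
    rfl)

theorem ses_shortExact : (ses Q X φ h0).ShortExact := by
  apply HomologicalComplex.shortExact_of_degreewise_shortExact
  intro i
  refine ShortComplex.ShortExact.mk' ?_ ?_ ?_
  · rw [ShortComplex.moduleCat_exact_iff]
    rintro ⟨x, q⟩ hx
    have hx' : x = 0 := hx
    subst hx'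
    exact ⟨q, rfl⟩
  · rw [ModuleCat.mono_iff_injective]
    intro q q' h
    exact congrArg Prod.snd h
  · rw [ModuleCat.epi_iff_surjective]
    intro x
    exact ⟨(x, 0), rfl⟩

theorem nonempty_iso_Q
    (hex : ∀ i, LinearMap.ker (DQ Q X φ (i + 1)) ≤ LinearMap.range (DQ Q X φ i)) :
    Nonempty (DerivedCategory.Q.obj (Pcx Q X φ h0) ≅ DerivedCategory.Q.obj Q) := by
  have hT := DerivedCategory.triangleOfSES_distinguished (ses_shortExact Q X φ h0)
  have hz : IsZero (DerivedCategory.Q.obj (Ccx Q X φ h0)) := by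
    apply isZero_Q_of_exactAt
    intro i
    obtain ⟨j, rfl⟩ : ∃ j, i = j + 1 := ⟨i - 1, by omega⟩
    apply exactAt_of_ker_le_range _ j (j + 1) (j + 1 + 1) rfl rfl
    rw [Ccx_d, Ccx_d]
    exact hex j
  have hiso : IsIso (DerivedCategory.triangleOfSESδ (ses_shortExact Q X φ h0)) :=
    (Pretriangulated.Triangle.isZero₂_iff_isIso₃ _ hT).mp hz
  exact ⟨@asIso _ _ _ _ (DerivedCategory.triangleOfSESδ (ses_shortExact Q X φ h0)) hiso ≪≫
    (CategoryTheory.shiftFunctor _ (1 : ℤ)).mapIso
      ((DerivedCategory.Q.commShiftIso (-1 : ℤ)).app Q) ≪≫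
    (shiftFunctorCompIsoId (DerivedCategory (ModuleCat.{u} R)) (-1 : ℤ) 1 (by simp)).app
      (DerivedCategory.Q.obj Q)⟩

end Tri

end Groth.Agent.Helper11.Lift
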