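import Groth.Agent.Lib.Helper11.Lift7
import Groth.Agent.Lib.Helper11.LDer4

/-!
Lifting a representative of a class modulo an ideal: main theorems (helper11).
-/

set_option autoImplicit false

open CategoryTheory CategoryTheory.Limits TensorProduct

universe u

namespace Groth.Agent.Helper11.Lift

open Groth.Agent.Helper11.TA Groth.Agent.Helper11.DC CochainComplex HomComplex

attribute [local instance] HasDerivedCategory.standard

variable {R : Type u} [CommRing R] {I : Ideal R}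

variable (Pc : ObjectProperty (ModuleCat.{u} R)) [Pc.IsClosedUnderIsomorphisms]
  (Q : DRing.Cx R) (E : DRing.Cx (R ⧸ I)) (X : ℤ → ModuleCat.{u} R)
  (e : ∀ i, (R ⧸ I) ⊗[R] X i ≃ₗ[R ⧸ I] E.X i)

theorem fst_d' {E F : DRing.Cx (R ⧸ I)} (γ : E ⟶ F) (i j j' k : ℤ) (hij : i + 1 = j)
    (hjj' : j' = j) (hjk : j + 1 = k) (m : (mappingCone γ).X i) :
    ((mappingCone.fst γ).1.v j' k (by omega)).hom (((mappingCone γ).d i j').hom m) =
      -(E.d j k).hom (((mappingCone.fst γ).1.v i j hij).hom m) := by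
  subst hjj'
  exact fst_d γ i j' k hij hjk m

/-- lifting a quasi-isomorphism `E ⟶ Q ⊗ R/I` to a quasi-isomorphic complex over `R` with
prescribed terms -/
theorem exists_lift_qis
    (h1 : ∀ X : ModuleCat.{u} R, Pc X → Module.Projective R X)
    (h2 : ∀ X Y : ModuleCat.{u} R, Pc X → (Pc (ModuleCat.of R (X × Y)) ↔ Pc Y))
    (h3 : ∀ (X Y : ModuleCat.{u} R) (f : X ⟶ Y), Pc X → Pc Y →
      LinearMap.range f.hom ⊔ I • (⊤ : Submodule R Y) = ⊤ → Function.Surjective f.hom)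
    (c : ℤ) (hQc : DRing.VanishesAbove Q c) (hQ : ∀ i, Pc (Q.X i))
    (b : ℤ) (hEb : DRing.VanishesAbove E b) (hX : ∀ i, Pc (X i))
    (α : E ⟶ (esC (Ideal.Quotient.mk I)).obj Q)
    (hα : IsIso (DerivedCategory.Q.map α)) :
    ∃ (d : ∀ i, X i ⟶ X (i + 1)) (sq : ∀ i, d i ≫ d (i + 1) = 0),
      (∀ i x, red (X (i + 1)) (E.X (i + 1)) (e (i + 1)) ((d i).hom x) =
        (E.d i (i + 1)).hom (red (X i) (E.X i) (e i) x)) ∧
      (∀ i, max b (c + 1) < i → Subsingleton (X i)) ∧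
      Nonempty (DerivedCategory.Q.obj (CochainComplex.of X d sq) ≅ DerivedCategory.Q.obj Q) := by
  have H := hyp Pc Q E X e α h1 h2 h3 c hQc hQ b hEb hX hα
  obtain ⟨φ, hφ⟩ := exists_lift H
  have h0 : ∀ i z, DQ Q X φ (i + 1) (DQ Q X φ i z) = 0 := fun i z => (hφ i).1 z
  have hsq : ∀ i, ModuleCat.ofHom (LinearMap.fst R _ _ ∘ₗ φ i) ≫
      ModuleCat.ofHom (LinearMap.fst R _ _ ∘ₗ φ (i + 1)) = 0 := fun i => by
    apply ModuleCat.hom_ext
    apply LinearMap.ext
    intro x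
    have h := h0 i (x, 0)
    rw [Dm_inl] at h
    exact (Dm_fst (fun i => X i) (fun i => Q.X (i + -1))
      (fun i => -(Q.d (i + -1) (i + 1 + -1)).hom) (i + 1) (φ (i + 1)) (φ i x).1 (φ i x).2).symm.trans
      (congrArg Prod.fst h)
  refine ⟨fun i => ModuleCat.ofHom (LinearMap.fst R _ _ ∘ₗ φ i), hsq, ?_, H.hbA, ?_⟩
  · intro i x
    have h := (hφ i).2.2 (x, 0)
    rw [Dm_inl] at h
    have hR : ∀ m : (mappingCone α).X (i + -1),
        ((mappingCone.fst α).1.v (i + 1 + -1) (i + 1) (by omega)).hom (dCone Q E α i m) =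
          (E.d i (i + 1)).hom (((mappingCone.fst α).1.v (i + -1) i (by omega)).hom m) := by
      intro m
      rw [dCone_apply, map_neg, fst_d' α (i + -1) i (i + 1 + -1) (i + 1) (by omega) (by omega) rfl,
        neg_neg]
    refine (fst_piC Q E X e α (i + 1) (φ i x).1 (φ i x).2).symm.trans ?_
    refine (congrArg (((mappingCone.fst α).1.v (i + 1 + -1) (i + 1) (by omega)).hom) h).trans ?_
    refine (hR _).trans ?_
    exact congrArg (E.d i (i + 1)).hom (fst_piC Q E X e α i x 0)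
  · exact nonempty_iso_Q Q X φ h0 (fun i => (hφ i).2.1)

include e in
/-- the general form of the representative-lifting theorem, with prescribed terms -/
theorem exists_representative [DRing.HasLBaseChange (Ideal.Quotient.mk I)]
    (h1 : ∀ X : ModuleCat.{u} R, Pc X → Module.Projective R X)
    (h2 : ∀ X Y : ModuleCat.{u} R, Pc X → (Pc (ModuleCat.of R (X × Y)) ↔ Pc Y))
    (h3 : ∀ (X Y : ModuleCat.{u} R) (f : X ⟶ Y), Pc X → Pc Y →
      LinearMap.range f.hom ⊔ I • (⊤ : Submodule R Y) = ⊤ → Function.Surjective f.hom)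
    (K : Dual.D R)
    (c : ℤ) (hQc : DRing.VanishesAbove Q c) (hQ : ∀ i, Pc (Q.X i)) (eQ : DRing.toD Q ≅ K)
    (b : ℤ) (hEb : DRing.VanishesAbove E b) (hX : ∀ i, Pc (X i))
    (hE : Nonempty (DRing.toD E ≅ (DRing.LBaseChange (Ideal.Quotient.mk I)).obj K)) :
    ∃ (d : ∀ i, X i ⟶ X (i + 1)) (sq : ∀ i, d i ≫ d (i + 1) = 0),
      DRing.VanishesAbove (CochainComplex.of X d sq) (max b (c + 1)) ∧
      Nonempty (DRing.toD (CochainComplex.of X d sq) ≅ K) ∧
      Nonempty ((esC (Ideal.Quotient.mk I)).obj (CochainComplex.of X d sq) ≅ E) := by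
  haveI : E.IsKProjective := isKProjective_of_vanishesAbove E b hEb (fun i => by
    haveI := h1 _ (hX i)
    exact Module.Projective.of_equiv (e i))
  obtain ⟨eL⟩ := Groth.Agent.Helper11.LDer.nonempty_LBaseChange_iso_of_projRes
    (Ideal.Quotient.mk I) K Q c hQc (fun i => h1 _ (hQ i)) eQ
  obtain ⟨eE⟩ := hE
  obtain ⟨α, hα⟩ := exists_lift_of_isKProjective E ((esC (Ideal.Quotient.mk I)).obj Q)
    (eE ≪≫ eL).hom
  have hiso : IsIso (DerivedCategory.Q.map α) := by
    rw [hα]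
    infer_instance
  obtain ⟨d, sq, hlift, hsub, ⟨eP⟩⟩ := exists_lift_qis Pc Q E X e h1 h2 h3 c hQc hQ b hEb hX α hiso
  refine ⟨d, sq, ?_, ⟨eP ≪≫ eQ⟩, nonempty_iso E X e d sq hlift⟩
  intro i hi
  haveI := hsub i hi
  exact ModuleCat.isZero_of_subsingleton (X i)

end Groth.Agent.Helper11.Lift
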