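import Groth.Agent.Lib.Helper11.Lift8
import Mathlib.Algebra.Module.StablyFree.Basic
import Mathlib.RingTheory.Nakayama
import Mathlib.LinearAlgebra.TensorProduct.Pi
import Mathlib.LinearAlgebra.FreeModule.Finite.Basic

/-!
Lifting finite free and finite stably free modules modulo an ideal in the Jacobson radical
(helper11).
-/

set_option autoImplicit false

open CategoryTheory CategoryTheory.Limits TensorProduct

universe u

namespace Groth.Agent.Helper11.Lift

variable {R : Type u} [CommRing R] {I : Ideal R}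

/-- an `R ⧸ I`-linear equivalence from a reduction map -/
noncomputable def equivOfRed (X : ModuleCat.{u} R) (N : ModuleCat.{u} (R ⧸ I))
    (ρ : X →ₗ[R] rs I N) (hs : Function.Surjective ρ)
    (hk : LinearMap.ker ρ = I • (⊤ : Submodule R X)) : (R ⧸ I) ⊗[R] X ≃ₗ[R ⧸ I] N :=
  let ε : (R ⧸ I) ⊗[R] X ≃ₗ[R] rs I N :=
    (quotTensorEquivQuotSMul X I) ≪≫ₗ (Submodule.quotEquivOfEq _ _ hk.symm) ≪≫ₗ
      (ρ.quotKerEquivOfSurjective hs)
  { toFun := ε
    invFun := ε.symm
    map_add' := ε.map_add
    map_smul' := fun s t => by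
      obtain ⟨r, rfl⟩ := Ideal.Quotient.mk_surjective s
      have h1 : (Ideal.Quotient.mk I r) • t = r • t := by
        rw [← algebraMap_smul (R ⧸ I) r t]
        rfl
      rw [h1]
      exact ε.map_smul r t
    left_inv := ε.left_inv
    right_inv := ε.right_inv }

/-- Nakayama for ideals in the Jacobson radical -/
theorem surjective_of_jacobson (hI : I ≤ Ideal.jacobson (⊥ : Ideal R)) {A B : Type*}
    [AddCommGroup A] [Module R A] [AddCommGroup B] [Module R B] [Module.Finite R B]
    (f : A →ₗ[R] B) (h : LinearMap.range f ⊔ I • (⊤ : Submodule R B) = ⊤) :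
    Function.Surjective f := by
  rw [← LinearMap.range_eq_top, eq_top_iff]
  exact Submodule.le_of_le_smul_of_le_jacobson_bot Module.Finite.fg_top hI h.ge

/-- lifting finite free modules -/
theorem exists_free_lift (L : ModuleCat.{u} (R ⧸ I)) [Module.Finite (R ⧸ I) L]
    [Module.Free (R ⧸ I) L] :
    ∃ F : ModuleCat.{u} R, Module.Finite R F ∧ Module.Free R F ∧
      Nonempty ((R ⧸ I) ⊗[R] F ≃ₗ[R ⧸ I] L) := by
  classical
  let ι := Module.Free.ChooseBasisIndex (R ⧸ I) L
  refine ⟨ModuleCat.of R (ι → R), inferInstanceAs (Module.Finite R (ι → R)),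
    inferInstanceAs (Module.Free R (ι → R)), ⟨?_⟩⟩
  exact (TensorProduct.piScalarRight R (R ⧸ I) (R ⧸ I) ι) ≪≫ₗ
    (Module.Free.chooseBasis (R ⧸ I) L).equivFun.symm

/-- lifting finite stably free modules -/
theorem exists_stablyFree_lift (hI : I ≤ Ideal.jacobson (⊥ : Ideal R))
    (M : ModuleCat.{u} (R ⧸ I)) [Module.Finite (R ⧸ I) M] [Module.IsStablyFree (R ⧸ I) M] :
    ∃ X : ModuleCat.{u} R, Module.Finite R X ∧ Module.IsStablyFree R X ∧
      Nonempty ((R ⧸ I) ⊗[R] X ≃ₗ[R ⧸ I] M) := by
  obtain ⟨N, _, _, _, _, hfree⟩ := Module.IsStablyFree.exist_free_prod (R ⧸ I) M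
  let L : ModuleCat.{u} (R ⧸ I) := ModuleCat.of (R ⧸ I) (M × N)
  haveI : Module.Finite (R ⧸ I) L := inferInstanceAs (Module.Finite (R ⧸ I) (M × N))
  haveI : Module.Free (R ⧸ I) L := hfree
  obtain ⟨F, hFfin, hFfree, ⟨eF⟩⟩ := exists_free_lift (I := I) L
  obtain ⟨G, hGfin, hGfree, ⟨eG⟩⟩ := exists_free_lift (I := I) (ModuleCat.of (R ⧸ I) N)
  let ρF : F →ₗ[R] rs I L := red F L eF
  let ρG : G →ₗ[R] rs I (ModuleCat.of (R ⧸ I) N) := red G (ModuleCat.of (R ⧸ I) N) eG
  let sndR : rs I L →ₗ[R] rs I (ModuleCat.of (R ⧸ I) N) :=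
    rsm (ModuleCat.ofHom (LinearMap.snd (R ⧸ I) M N))
  let fstR : rs I L →ₗ[R] rs I M := rsm (ModuleCat.ofHom (LinearMap.fst (R ⧸ I) M N))
  have hρFs : Function.Surjective ρF := red_surjective F L eF
  have hρGs : Function.Surjective ρG := red_surjective G _ eG
  have hρFk : LinearMap.ker ρF = I • ⊤ := ker_red F L eF
  have hρGk : LinearMap.ker ρG = I • ⊤ := ker_red G _ eG
  obtain ⟨p, hp⟩ := Module.projective_lifting_property ρG (sndR ∘ₗ ρF) hρGs
  have hp' : ∀ f, ρG (p f) = sndR (ρF f) := fun f => congr($hp f)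
  have hps : Function.Surjective p := by
    apply surjective_of_jacobson hI
    rw [eq_top_iff]
    intro g _
    obtain ⟨f, hf⟩ := hρFs (show rs I L from ((0 : M), (show N from ρG g)))
    have h1 : g - p f ∈ I • (⊤ : Submodule R G) := by
      rw [← hρGk, LinearMap.mem_ker, map_sub, hp', hf]
      exact sub_self _
    have h2 : g = p f + (g - p f) := by abel
    rw [h2]
    exact Submodule.add_mem_sup ⟨f, rfl⟩ h1
  obtain ⟨s, hs⟩ := Module.projective_lifting_property p LinearMap.id hps
  have hs' : ∀ g, p (s g) = g := fun g => congr($hs g)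
  let π : F →ₗ[R] LinearMap.ker p := LinearMap.codRestrict (LinearMap.ker p)
    (LinearMap.id - s ∘ₗ p) (fun f => by
      rw [LinearMap.mem_ker]
      show p (f - s (p f)) = 0
      rw [map_sub, hs', sub_self])
  have hπ : ∀ x : LinearMap.ker p, π x.1 = x := fun x => by
    apply Subtype.ext
    show x.1 - s (p x.1) = x.1
    rw [LinearMap.mem_ker.mp x.2, map_zero, sub_zero]
  let eq : F ≃ₗ[R] (LinearMap.ker p × G) :=
    { toFun := fun f => (π f, p f)
      invFun := fun xg => xg.1.1 + s xg.2
      map_add' := fun f f' => by rw [map_add, map_add]; rfl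
      map_smul' := fun r f => by rw [map_smul, map_smul]; rfl
      left_inv := fun f => by
        show (f - s (p f)) + s (p f) = f
        abel
      right_inv := fun xg => by
        obtain ⟨x, g⟩ := xg
        have h1 : p (x.1 + s g) = g := by
          rw [map_add, LinearMap.mem_ker.mp x.2, zero_add, hs']
        refine Prod.ext ?_ h1
        apply Subtype.ext
        show (x.1 + s g) - s (p (x.1 + s g)) = x.1
        rw [h1]
        abel }
  haveI : Module.Finite R (LinearMap.ker p) := Module.Finite.of_surjective π (fun x => ⟨x.1, hπ x⟩)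
  haveI : Module.Free R (LinearMap.ker p × G) := Module.Free.of_equiv eq
  haveI : Module.IsStablyFree R (LinearMap.ker p) := Module.IsStablyFree.of_free_prod R _ G
  let X : ModuleCat.{u} R := ModuleCat.of R (LinearMap.ker p)
  let ρ : X →ₗ[R] rs I M := fstR ∘ₗ ρF ∘ₗ (LinearMap.ker p).subtype
  have hρs : Function.Surjective ρ := by
    intro μ
    obtain ⟨f, hf⟩ := hρFs (show rs I L from ((show M from μ), (0 : N)))
    have h1 : p f ∈ I • (⊤ : Submodule R G) := by
      rw [← hρGk, LinearMap.mem_ker, hp', hf]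
      rfl
    obtain ⟨f', hf', hpf'⟩ := exists_of_mem_smul_top I p hps h1
    have h2 : ρF f' = 0 := by
      rw [← LinearMap.mem_ker, hρFk]
      exact hf'
    refine ⟨⟨f - f', by rw [LinearMap.mem_ker, map_sub, hpf', sub_self]⟩, ?_⟩
    show fstR (ρF (f - f')) = μ
    rw [map_sub, h2, sub_zero, hf]
    rfl
  have hρk : LinearMap.ker ρ = I • (⊤ : Submodule R X) := by
    apply le_antisymm
    · intro x hx
      have h1 : fstR (ρF x.1) = 0 := hx
      have h2 : sndR (ρF x.1) = 0 := by
        rw [← hp', LinearMap.mem_ker.mp x.2, map_zero]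
      have h3 : ρF x.1 = 0 := Prod.ext h1 h2
      have h4 : x.1 ∈ I • (⊤ : Submodule R F) := by
        rw [← hρFk, LinearMap.mem_ker]
        exact h3
      have h5 := map_mem_smul_top I π h4
      rw [hπ] at h5
      exact h5
    · intro x hx
      have := map_mem_smul_top I ρ hx
      rw [smul_top_rs, Submodule.mem_bot] at this
      exact this
  exact ⟨X, inferInstanceAs (Module.Finite R (LinearMap.ker p)),
    inferInstanceAs (Module.IsStablyFree R (LinearMap.ker p)), ⟨equivOfRed X M ρ hρs hρk⟩⟩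

end Groth.Agent.Helper11.Lift
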