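import Mathlib.RingTheory.LocalRing.Module
import Mathlib.RingTheory.LocalRing.ResidueField.Basic
import Mathlib.Algebra.Module.Projective

/-!
A local criterion: exactness modulo the maximal ideal lifts (helper11).
-/

set_option autoImplicit false

universe u

namespace Groth.Agent.Helper11.LocalPerf

open TensorProduct

section Core

variable {R : Type u} [CommRing R] [IsLocalRing R]
  {M₁ M₂ M₃ : Type u} [AddCommGroup M₁] [AddCommGroup M₂] [AddCommGroup M₃]
  [Module R M₁] [Module R M₂] [Module R M₃]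
  (f : M₁ →ₗ[R] M₂) (g : M₂ →ₗ[R] M₃) (hgf : g ∘ₗ f = 0)

local notation "κ" => IsLocalRing.ResidueField R

/-- the induced map `coker f → M₃` -/
def lmap : (M₂ ⧸ LinearMap.range f) →ₗ[R] M₃ :=
  (LinearMap.range f).liftQ g (by
    rintro _ ⟨x, rfl⟩
    exact LinearMap.congr_fun hgf x)

omit [IsLocalRing R] in
theorem lmap_mkQ (y : M₂) : lmap f g hgf ((LinearMap.range f).mkQ y) = g y := rfl

omit [IsLocalRing R] in
theorem range_lmap : LinearMap.range (lmap f g hgf) = LinearMap.range g := by
  apply le_antisymm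
  · rintro _ ⟨p, rfl⟩
    obtain ⟨y, rfl⟩ := (LinearMap.range f).mkQ_surjective p
    exact ⟨y, rfl⟩
  · rintro _ ⟨y, rfl⟩
    exact ⟨(LinearMap.range f).mkQ y, rfl⟩

theorem lTensor_lmap_injective
    (hex : LinearMap.ker (g.lTensor κ) ≤ LinearMap.range (f.lTensor κ)) :
    Function.Injective ((lmap f g hgf).lTensor κ) := by
  rw [← LinearMap.ker_eq_bot, LinearMap.ker_eq_bot']
  intro x hx
  obtain ⟨y, rfl⟩ := LinearMap.lTensor_surjective κ ((LinearMap.range f).mkQ_surjective) x
  have h1 : (g.lTensor κ) y = 0 := by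
    have : g = lmap f g hgf ∘ₗ (LinearMap.range f).mkQ := by
      ext y
      rfl
    rw [this, LinearMap.lTensor_comp]
    exact hx
  obtain ⟨z, rfl⟩ := hex h1
  have h2 : ((LinearMap.range f).mkQ ∘ₗ f) = 0 := by
    ext z
    exact (Submodule.Quotient.mk_eq_zero _).mpr ⟨z, rfl⟩
  have h3 : ((LinearMap.range f).mkQ.lTensor κ) ((f.lTensor κ) z) =
      (((LinearMap.range f).mkQ ∘ₗ f).lTensor κ) z := by
    rw [LinearMap.lTensor_comp]
    rfl
  rw [h3, h2, LinearMap.lTensor_zero]
  rfl

variable [Module.Finite R M₂] [Module.Finite R M₃] [Module.Free R M₃]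

theorem exists_retraction
    (hex : LinearMap.ker (g.lTensor κ) ≤ LinearMap.range (f.lTensor κ)) :
    ∃ l' : M₃ →ₗ[R] (M₂ ⧸ LinearMap.range f), l' ∘ₗ lmap f g hgf = LinearMap.id :=
  (IsLocalRing.split_injective_iff_lTensor_residueField_injective _).mpr
    (lTensor_lmap_injective f g hgf hex)

include hgf in
theorem ker_le_range
    (hex : LinearMap.ker (g.lTensor κ) ≤ LinearMap.range (f.lTensor κ)) :
    LinearMap.ker g ≤ LinearMap.range f := by
  obtain ⟨l', hl'⟩ := exists_retraction f g hgf hex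
  intro y hy
  have h1 : lmap f g hgf ((LinearMap.range f).mkQ y) = 0 := hy
  have h2 := congrArg l' h1
  rw [map_zero] at h2
  have h3 : l' (lmap f g hgf ((LinearMap.range f).mkQ y)) = (LinearMap.range f).mkQ y :=
    LinearMap.congr_fun hl' _
  rw [h3] at h2
  exact (Submodule.Quotient.mk_eq_zero _).mp h2

include hgf in
theorem projective_coker
    (hex : LinearMap.ker (g.lTensor κ) ≤ LinearMap.range (f.lTensor κ)) :
    Module.Projective R (M₃ ⧸ LinearMap.range g) := by
  obtain ⟨l', hl'⟩ := exists_retraction f g hgf hex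
  let l := lmap f g hgf
  let i : (M₃ ⧸ LinearMap.range g) →ₗ[R] M₃ :=
    (LinearMap.range g).liftQ (LinearMap.id - l ∘ₗ l') (by
      rintro _ ⟨y, rfl⟩
      rw [LinearMap.mem_ker, LinearMap.sub_apply, LinearMap.id_apply, LinearMap.comp_apply,
        sub_eq_zero]
      have h3 : l' (l ((LinearMap.range f).mkQ y)) = (LinearMap.range f).mkQ y :=
        LinearMap.congr_fun hl' _
      have h4 : l ((LinearMap.range f).mkQ y) = g y := rfl
      rw [← h4, h3])
  refine Module.Projective.of_split i (LinearMap.range g).mkQ ?_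
  ext y
  show (LinearMap.range g).mkQ (y - l (l' y)) = (LinearMap.range g).mkQ y
  rw [map_sub, sub_eq_self, Submodule.mkQ_apply, Submodule.Quotient.mk_eq_zero,
    ← range_lmap f g hgf]
  exact ⟨l' y, rfl⟩

end Core

end Groth.Agent.Helper11.LocalPerf
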