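import Mathlib

/-!
Bounded finite free subcomplexes of bounded above complexes of free modules (helper11).
-/

set_option autoImplicit false

open CategoryTheory CategoryTheory.Limits

universe u

namespace Groth.Agent.Helper11.SubCx

variable {R : Type u} [CommRing R] (F : CochainComplex (ModuleCat.{u} R) ℤ)

section Sub

variable (G : ∀ n : ℤ, Submodule R (F.X n))
  (hG : ∀ i j : ℤ, ∀ x ∈ G i, (F.d i j).hom x ∈ G j)

/-- a subcomplex from a family of submodules stable under the differential -/
noncomputable def subCx : CochainComplex (ModuleCat.{u} R) ℤ where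
  X n := ModuleCat.of R (G n)
  d i j := ModuleCat.ofHom ((F.d i j).hom.restrict (hG i j))
  shape i j hij := by
    ext x
    show (F.d i j).hom x.1 = 0
    rw [F.shape i j hij]
    rfl
  d_comp_d' i j k _ _ := by
    ext x
    show (F.d j k).hom ((F.d i j).hom x.1) = 0
    have h := F.d_comp_d i j k
    exact congr($(h).hom x.1)

/-- the inclusion -/
noncomputable def subCxι : subCx F G hG ⟶ F where
  f n := ModuleCat.ofHom (G n).subtype
  comm' i j _ := by
    ext x
    rfl

theorem subCxι_injective (n : ℤ) : Function.Injective ((subCxι F G hG).f n) :=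
  fun _ _ h => Subtype.ext h

end Sub

section Reach

variable [hfree : ∀ n : ℤ, Module.Free R (F.X n)]

/-- index types of the chosen bases -/
abbrev Idx (n : ℤ) : Type u := Module.Free.ChooseBasisIndex R (F.X n)

/-- the chosen bases -/
noncomputable def bas (n : ℤ) : Module.Basis (Idx F n) R (F.X n) := Module.Free.chooseBasis R (F.X n)

variable {N : ℕ} (deg : Fin N → ℤ) (f : ∀ i : Fin N, F.X (deg i))

/-- basis elements needed -/
inductive Reach : (Σ n : ℤ, Idx F n) → Prop
  | base (i : Fin N) (e : Idx F (deg i)) :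
      e ∈ ((bas F (deg i)).repr (f i)).support → Reach ⟨deg i, e⟩
  | step (n : ℤ) (e : Idx F n) (e' : Idx F (n + 1)) : Reach ⟨n, e⟩ →
      e' ∈ ((bas F (n + 1)).repr ((F.d n (n + 1)).hom (bas F n e))).support → Reach ⟨n + 1, e'⟩

/-- the lower bound -/
def lo : ℤ := -(∑ i, ((deg i).natAbs : ℤ))

theorem lo_le (i : Fin N) : lo deg ≤ deg i := by
  have h : ((deg i).natAbs : ℤ) ≤ ∑ j, ((deg j).natAbs : ℤ) :=
    Finset.single_le_sum (f := fun j => ((deg j).natAbs : ℤ)) (fun j _ => by positivity)
      (Finset.mem_univ i)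
  unfold lo
  omega

theorem reach_lo (p : Σ n : ℤ, Idx F n) (hp : Reach F deg f p) : lo deg ≤ p.1 := by
  induction hp with
  | base i e _ => exact lo_le deg i
  | step n e e' _ _ ih =>
    show lo deg ≤ n + 1
    have : lo deg ≤ n := ih
    omega

theorem reach_finite_aux (k : ℕ) :
    ({p | Reach F deg f p} ∩ {p | p.1 = lo deg - 1 + k}).Finite := by
  induction k with
  | zero =>
    refine Set.Finite.subset Set.finite_empty ?_
    rintro p ⟨hp, hp'⟩
    have h1 := reach_lo F deg f p hp
    have h2 : p.1 = lo deg - 1 + ((0 : ℕ) : ℤ) := hp'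
    simp at h2
    omega
  | succ k ih =>
    have h1 : (⋃ i : Fin N, (Sigma.mk (deg i)) '' (((bas F (deg i)).repr (f i)).support :
        Set (Idx F (deg i))) : Set (Σ n : ℤ, Idx F n)).Finite :=
      Set.finite_iUnion (fun i => Set.Finite.image _ (Finset.finite_toSet _))
    have h2 : (⋃ p ∈ ({p | Reach F deg f p} ∩ {p | p.1 = lo deg - 1 + (k : ℤ)}),
        (Sigma.mk (p.1 + 1)) '' (((bas F (p.1 + 1)).repr
          ((F.d p.1 (p.1 + 1)).hom (bas F p.1 p.2))).support : Set (Idx F (p.1 + 1))) :
        Set (Σ n : ℤ, Idx F n)).Finite :=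
      Set.Finite.biUnion ih (fun p _ => Set.Finite.image _ (Finset.finite_toSet _))
    refine Set.Finite.subset (h1.union h2) ?_
    rintro p ⟨hp, hp'⟩
    have hp'' : p.1 = lo deg - 1 + ((k + 1 : ℕ) : ℤ) := hp'
    cases hp with
    | base i e he =>
      left
      exact Set.mem_iUnion.2 ⟨i, e, he, rfl⟩
    | step n e e' hr he' =>
      right
      have hn : n = lo deg - 1 + (k : ℤ) := by
        have : n + 1 = lo deg - 1 + ((k + 1 : ℕ) : ℤ) := hp''
        push_cast at this
        omega
      have hmem : (⟨n, e⟩ : Σ n : ℤ, Idx F n) ∈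
          ({p | Reach F deg f p} ∩ {p | p.1 = lo deg - 1 + (k : ℤ)}) := ⟨hr, hn⟩
      have himg : (⟨n + 1, e'⟩ : Σ n : ℤ, Idx F n) ∈ (Sigma.mk (n + 1)) ''
          (((bas F (n + 1)).repr ((F.d n (n + 1)).hom (bas F n e))).support :
            Set (Idx F (n + 1))) := Set.mem_image_of_mem _ he'
      exact Set.mem_biUnion hmem himg

/-- the needed basis elements in degree `n` -/
def S (n : ℤ) : Set (Idx F n) := {e | Reach F deg f ⟨n, e⟩}

theorem S_finite (n : ℤ) : (S F deg f n).Finite := by
  by_cases hn : lo deg ≤ n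
  · have h := reach_finite_aux F deg f (n - lo deg + 1).toNat
    have h' : (S F deg f n) = (Sigma.mk n) ⁻¹'
        ({p | Reach F deg f p} ∩ {p | p.1 = lo deg - 1 + ((n - lo deg + 1).toNat : ℤ)}) := by
      ext e
      refine ⟨fun h => ⟨h, ?_⟩, fun h => h.1⟩
      show n = lo deg - 1 + ((n - lo deg + 1).toNat : ℤ)
      rw [Int.toNat_of_nonneg (by omega)]
      ring
    rw [h']
    exact h.preimage (sigma_mk_injective.injOn)
  · refine Set.Finite.subset Set.finite_empty ?_
    intro e he
    have := reach_lo F deg f _ he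
    exact absurd this hn

/-- the submodules -/
noncomputable def G (n : ℤ) : Submodule R (F.X n) :=
  Submodule.span R (Set.range (fun e : S F deg f n => bas F n e))

theorem G_stable (i j : ℤ) (x : F.X i) (hx : x ∈ G F deg f i) :
    (F.d i j).hom x ∈ G F deg f j := by
  by_cases hij : i + 1 = j
  · subst hij
    have hle : (G F deg f i).map (F.d i (i + 1)).hom ≤ G F deg f (i + 1) := by
      unfold G
      rw [Submodule.map_span, Submodule.span_le]
      rintro _ ⟨_, ⟨e, rfl⟩, rfl⟩
      have h1 := (bas F (i + 1)).mem_span_repr_support ((F.d i (i + 1)).hom (bas F i e))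
      refine Submodule.span_mono ?_ h1
      rintro _ ⟨e', he', rfl⟩
      exact ⟨⟨e', Reach.step i e.1 e' (e.2 : Reach F deg f ⟨i, e.1⟩) he'⟩, rfl⟩
    exact hle (Submodule.mem_map_of_mem hx)
  · rw [F.shape i j hij]
    exact (G F deg f j).zero_mem

theorem mem_G (i : Fin N) : f i ∈ G F deg f (deg i) := by
  have h1 := (bas F (deg i)).mem_span_repr_support (f i)
  refine Submodule.span_mono ?_ h1
  rintro _ ⟨e, he, rfl⟩
  exact ⟨⟨e, Reach.base i e he⟩, rfl⟩

theorem G_free (n : ℤ) : Module.Free R (G F deg f n) := by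
  have hli : LinearIndependent R (fun e : S F deg f n => bas F n e) :=
    (bas F n).linearIndependent.comp _ Subtype.val_injective
  exact Module.Free.of_basis (Module.Basis.span hli)

theorem G_finite (n : ℤ) : Module.Finite R (G F deg f n) := by
  haveI : Finite (S F deg f n) := (S_finite F deg f n).to_subtype
  exact Module.Finite.span_of_finite R (Set.finite_range _)

theorem G_eq_bot (n : ℤ) (hn : n < lo deg) : G F deg f n = ⊥ := by
  unfold G
  rw [Submodule.span_eq_bot]
  rintro _ ⟨e, rfl⟩
  have := reach_lo F deg f _ e.2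
  exact absurd this (by simpa using hn)

end Reach

theorem main (hfree : ∀ n : ℤ, Module.Free R (F.X n))
    (b : ℤ) (hb : ∀ n : ℤ, b < n → IsZero (F.X n))
    (N : ℕ) (deg : Fin N → ℤ) (f : ∀ i : Fin N, F.X (deg i)) :
    ∃ (G' : CochainComplex (ModuleCat.{u} R) ℤ) (ι : G' ⟶ F),
      (∀ n : ℤ, Function.Injective (ι.f n)) ∧
      (∃ a c : ℤ, ∀ n : ℤ, (n < a ∨ c < n) → IsZero (G'.X n)) ∧
      (∀ n : ℤ, Module.Finite R (G'.X n) ∧ Module.Free R (G'.X n)) ∧
      ∀ i : Fin N, f i ∈ Set.range (ι.f (deg i)) := by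
  refine ⟨subCx F (G F deg f) (G_stable F deg f), subCxι F (G F deg f) (G_stable F deg f),
    subCxι_injective F _ _, ⟨lo deg, b, ?_⟩, fun n => ⟨G_finite F deg f n, G_free F deg f n⟩,
    fun i => ⟨⟨f i, mem_G F deg f i⟩, rfl⟩⟩
  rintro n (hn | hn)
  · have h := G_eq_bot F deg f n hn
    haveI : Subsingleton (G F deg f n) := by
      rw [h]
      infer_instance
    exact ModuleCat.isZero_of_subsingleton (ModuleCat.of R (G F deg f n))
  · haveI : Subsingleton (F.X n) := ModuleCat.subsingleton_of_isZero (hb n hn)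
    haveI : Subsingleton (G F deg f n) := inferInstance
    exact ModuleCat.isZero_of_subsingleton (ModuleCat.of R (G F deg f n))

end Groth.Agent.Helper11.SubCx
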