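import Groth.Agent.Lib.Helper11.LocalPerf1
import Groth.Agent.Lib.Helper11.PcBC
import Groth.Agent.Lib.Helper11.SubCx
import Groth.Agent.S6954

/-!
Pseudo-coherent complexes over a local ring whose fibre is bounded below are perfect (helper11).
-/

set_option autoImplicit false

open CategoryTheory Category Limits Pretriangulated DerivedCategory ZeroObject

attribute [local instance] HasDerivedCategory.standard

universe u

namespace Groth.Agent.Helper11.LocalPerf

open Groth.Agent.Helper11.DC Groth.Agent.Helper11.MPC Groth.Agent.Helper11.TA
  Groth.Agent.Helper11.LDer Groth.Agent.Helper11.SubCx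

open TensorProduct

section Bridge

variable {R : Type u} [CommRing R] [IsLocalRing R]

local notation "κ" => IsLocalRing.ResidueField R

/-- identity equivalence between the two `R`-module structures on the residue field -/
noncomputable def e₁ :
    ((ModuleCat.restrictScalars.{u} (IsLocalRing.residue R)).obj (ModuleCat.of κ κ)) ≃ₗ[R] κ :=
  { toFun := fun x => x
    invFun := fun x => x
    map_add' := fun _ _ => rfl
    map_smul' := fun r x => by
      show IsLocalRing.residue R r * (show κ from x) = r • (show κ from x)
      rw [Algebra.smul_def, IsLocalRing.ResidueField.algebraMap_eq]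
    left_inv := fun _ => rfl
    right_inv := fun _ => rfl }

/-- comparison of the two tensor products -/
noncomputable def eT (M : ModuleCat.{u} R) :
    TensorProduct R ((ModuleCat.restrictScalars.{u} (IsLocalRing.residue R)).obj (ModuleCat.of κ κ)) M
      ≃ₗ[R] κ ⊗[R] M :=
  TensorProduct.congr e₁ (LinearEquiv.refl R M)

set_option backward.isDefEq.respectTransparency false in
theorem eT_nat {M N : ModuleCat.{u} R} (f : M ⟶ N)
    (x : TensorProduct R ((ModuleCat.restrictScalars.{u} (IsLocalRing.residue R)).obj
      (ModuleCat.of κ κ)) M) :
    eT N (((ModuleCat.extendScalars.{u,u,u} (IsLocalRing.residue R)).map f).hom x) =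
      (f.hom.lTensor κ) (eT M x) := by
  induction x using TensorProduct.induction_on with
  | zero => rw [map_zero, map_zero, map_zero, map_zero]
  | tmul c m => rfl
  | add x y hx hy => rw [map_add, map_add, map_add, map_add, hx, hy]

set_option backward.isDefEq.respectTransparency false in
theorem hex_of_isZero (E : DRing.Cx R) (i j k : ℤ) (hij : i + 1 = j) (hjk : j + 1 = k)
    (hz : IsZero ((homologyFunctor (ModuleCat.{u} κ) j).obj
      (Q.obj ((esC (IsLocalRing.residue R)).obj E)))) :
    LinearMap.ker ((E.d j k).hom.lTensor κ) ≤ LinearMap.range ((E.d i j).hom.lTensor κ) := by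
  have hex := exactAt_of_homology_isZero _ j hz
  have hr := range_eq_ker_of_exactAt _ i j k hij hjk hex
  intro y hy
  let x := (eT (E.X j)).symm y
  have hx : (((esC (IsLocalRing.residue R)).obj E).d j k).hom x = 0 := by
    apply (eT (E.X k)).injective
    rw [map_zero]
    have := eT_nat (E.d j k) x
    refine this.trans ?_
    rw [LinearEquiv.apply_symm_apply]
    exact hy
  have hx' : x ∈ LinearMap.range (((esC (IsLocalRing.residue R)).obj E).d i j).hom := by
    rw [hr]
    exact hx
  obtain ⟨z, hzx⟩ := hx'
  refine ⟨eT (E.X i) z, ?_⟩
  rw [← eT_nat (E.d i j) z]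
  have : ((ModuleCat.extendScalars.{u,u,u} (IsLocalRing.residue R)).map (E.d i j)).hom z = x := hzx
  rw [this, LinearEquiv.apply_symm_apply]

end Bridge

end Groth.Agent.Helper11.LocalPerf
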