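import Groth.Agent.Lib.Helper11.LocalPerf2

/-!
Truncating a bounded above complex below a degree where it becomes a resolution of a projective
module (helper11).
-/

set_option autoImplicit false

open CategoryTheory Category Limits Pretriangulated DerivedCategory ZeroObject

attribute [local instance] HasDerivedCategory.standard

universe u

namespace Groth.Agent.Helper11.LocalPerf

open Groth.Agent.Helper11.DC Groth.Agent.Helper11.MPC Groth.Agent.Helper11.TA
  Groth.Agent.Helper11.LDer Groth.Agent.Helper11.SubCx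

section Trunc

variable {R : Type u} [CommRing R] (E : DRing.Cx R) (a : ℤ)

/-- boundaries -/
def B (i : ℤ) : Submodule R (E.X i) := ⨆ j : ℤ, LinearMap.range (E.d j i).hom

theorem mem_B (j i : ℤ) (x : E.X j) : (E.d j i).hom x ∈ B E i :=
  Submodule.mem_iSup_of_mem j ⟨x, rfl⟩

theorem B_le_range (i' i : ℤ) (h : i' + 1 = i) : B E i ≤ LinearMap.range (E.d i' i).hom := by
  refine iSup_le (fun j => ?_)
  by_cases hj : j + 1 = i
  · obtain rfl : j = i' := by omega
    exact le_rfl
  · rw [E.shape j i hj]
    rintro _ ⟨x, rfl⟩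
    exact Submodule.zero_mem _

theorem B_le_ker (i k : ℤ) : B E i ≤ LinearMap.ker (E.d i k).hom := by
  refine iSup_le (fun j => ?_)
  rintro _ ⟨x, rfl⟩
  rw [LinearMap.mem_ker]
  exact congr($(E.d_comp_d j i k) x)

/-- the subcomplex `… → E^{a-1} → B^a → 0` -/
def G (i : ℤ) : Submodule R (E.X i) :=
  if i < a then ⊤ else if i = a then B E i else ⊥

theorem G_of_lt {i : ℤ} (h : i < a) : G E a i = ⊤ := by
  simp [G, h]

theorem G_self : G E a a = B E a := by
  simp [G]

theorem G_of_gt {i : ℤ} (h : a < i) : G E a i = ⊥ := by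
  have h1 : ¬ i < a := by omega
  have h2 : ¬ i = a := by omega
  simp [G, h1, h2]

theorem G_le_B {i : ℤ} (h : a ≤ i) : G E a i ≤ B E i := by
  rcases h.lt_or_eq with h | h
  · rw [G_of_gt E a h]
    exact bot_le
  · subst h
    rw [G_self]

theorem G_stable (i j : ℤ) (x : E.X i) (hx : x ∈ G E a i) : (E.d i j).hom x ∈ G E a j := by
  by_cases hij : i + 1 = j
  · subst hij
    rcases lt_trichotomy (i + 1) a with h | h | h
    · rw [G_of_lt E a h]
      trivial
    · rw [← h, G_self]
      exact mem_B E i (i + 1) x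
    · have h1 : x ∈ B E i := G_le_B E a (by omega) hx
      have h2 := B_le_ker E i (i + 1) h1
      rw [LinearMap.mem_ker] at h2
      rw [h2]
      exact Submodule.zero_mem _
  · rw [E.shape i j hij]
    exact Submodule.zero_mem _

/-- the subcomplex -/
noncomputable abbrev S : DRing.Cx R := subCx E (G E a) (G_stable E a)

/-- its inclusion -/
noncomputable abbrev Sι : S E a ⟶ E := subCxι E (G E a) (G_stable E a)

theorem S_exactAt (hE : ∀ k : ℤ, k < a →
    LinearMap.ker (E.d k (k + 1)).hom ≤ LinearMap.range (E.d (k - 1) k).hom) (k : ℤ) :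
    (S E a).ExactAt k := by
  refine exactAt_of_ker_le_range (S E a) (k - 1) k (k + 1) (by omega) rfl ?_
  intro x hx
  have hx' : (E.d k (k + 1)).hom x.1 = 0 := congrArg Subtype.val hx
  rcases lt_trichotomy k a with h | h | h
  · obtain ⟨z, hz⟩ := hE k h (LinearMap.mem_ker.mpr hx')
    have hzG : z ∈ G E a (k - 1) := by
      rw [G_of_lt E a (by omega)]
      trivial
    exact ⟨⟨z, hzG⟩, Subtype.ext hz⟩
  · have h1 : x.1 ∈ B E k := G_le_B E a (by omega) x.2
    obtain ⟨z, hz⟩ := B_le_range E (k - 1) k (by omega) h1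
    have hzG : z ∈ G E a (k - 1) := by
      rw [G_of_lt E a (by omega)]
      trivial
    exact ⟨⟨z, hzG⟩, Subtype.ext hz⟩
  · have h1 : x.1 = 0 := (Submodule.mem_bot R).mp (le_of_eq (G_of_gt E a h) x.2)
    refine ⟨0, ?_⟩
    rw [map_zero]
    exact (Subtype.ext h1).symm

instance : Mono (Sι E a) := by
  apply (config := { allowSynthFailures := true }) HomologicalComplex.mono_of_mono_f
  intro i
  rw [ModuleCat.mono_iff_injective]
  exact subCxι_injective E _ _ i

/-- the short complex `S → E → E/S` -/
noncomputable def sc : ShortComplex (DRing.Cx R) :=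
  ShortComplex.mk (Sι E a) (cokernel.π (Sι E a)) (cokernel.condition _)

theorem sc_shortExact : (sc E a).ShortExact :=
  { exact := ShortComplex.exact_cokernel _
    mono_f := by dsimp [sc]; infer_instance
    epi_g := by dsimp [sc]; infer_instance }

/-- the terms of the quotient -/
theorem nonempty_quot_equiv (i : ℤ) :
    Nonempty ((sc E a).X₃.X i ≃ₗ[R] (E.X i ⧸ G E a i)) := by
  have hS : ((sc E a).map (HomologicalComplex.eval _ _ i)).ShortExact :=
    (sc_shortExact E a).map_of_exact _
  have hex := (ShortComplex.moduleCat_exact_iff_range_eq_ker _).mp hS.exact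
  have hsurj : Function.Surjective ((sc E a).g.f i).hom :=
    (ModuleCat.epi_iff_surjective _).mp hS.epi_g
  have hker : LinearMap.ker ((sc E a).g.f i).hom = G E a i := by
    have h1 : LinearMap.range ((sc E a).f.f i).hom = G E a i := by
      show LinearMap.range (G E a i).subtype = G E a i
      exact Submodule.range_subtype _
    rw [← h1]
    exact hex.symm
  exact ⟨(LinearMap.quotKerEquivOfSurjective _ hsurj).symm ≪≫ₗ Submodule.quotEquivOfEq _ _ hker⟩

end Trunc

end Groth.Agent.Helper11.LocalPerf
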