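import Groth.Agent.Lib.Helper11.LocalPerf3

/-!
Pseudo-coherent complexes over a local ring whose fibre is bounded below are perfect (helper11).
-/

set_option autoImplicit false

open CategoryTheory Category Limits Pretriangulated DerivedCategory ZeroObject

attribute [local instance] HasDerivedCategory.standard

universe u

namespace Groth.Agent.Helper11.LocalPerf

open Groth.Agent.Helper11.DC Groth.Agent.Helper11.MPC Groth.Agent.Helper11.TA
  Groth.Agent.Helper11.LDer Groth.Agent.Helper11.SubCx

section Main

variable {R : Type u} [CommRing R]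

theorem B_eq_range (E : DRing.Cx R) (i' i : ℤ) (h : i' + 1 = i) :
    B E i = LinearMap.range (E.d i' i).hom := by
  refine le_antisymm (B_le_range E i' i h) ?_
  rintro _ ⟨x, rfl⟩
  exact mem_B E i' i x

/-- a bounded above complex of flat modules which is exact below degree `a` and whose cokernel
at `a` is flat has tor amplitude in `[a, b]` -/
theorem hasTorAmplitudeIn_of_exact_below (E : DRing.Cx R) (a b : ℤ)
    (hEb : DRing.VanishesAbove E b) (hflat : ∀ i, Module.Flat R (E.X i))
    (hE : ∀ k : ℤ, k < a →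
      LinearMap.ker (E.d k (k + 1)).hom ≤ LinearMap.range (E.d (k - 1) k).hom)
    (hC : Module.Flat R (E.X a ⧸ LinearMap.range (E.d (a - 1) a).hom)) :
    DRing.HasTorAmplitudeIn R a b (Q.obj E) := by
  have hT := triangleOfSES_distinguished (sc_shortExact E a)
  have hz : IsZero (Q.obj (S E a)) := isZero_Q_of_exactAt _ (S_exactAt E a hE)
  haveI : IsIso (Q.map (sc E a).g) := (Triangle.isZero₁_iff_isIso₂ _ hT).mp hz
  refine ⟨(sc E a).X₃, ?_, ?_, ⟨(asIso (Q.map (sc E a).g)).symm⟩⟩
  · intro i hi
    obtain ⟨e⟩ := nonempty_quot_equiv E a i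
    rcases hi with hi | hi
    · haveI : Subsingleton (E.X i ⧸ G E a i) := by
        rw [G_of_lt E a hi]
        infer_instance
      haveI : Subsingleton ((sc E a).X₃.X i) := e.toEquiv.subsingleton
      exact ModuleCat.isZero_of_subsingleton _
    · haveI : Subsingleton (E.X i) := ModuleCat.subsingleton_of_isZero (hEb i hi)
      haveI : Subsingleton (E.X i ⧸ G E a i) := inferInstance
      haveI : Subsingleton ((sc E a).X₃.X i) := e.toEquiv.subsingleton
      exact ModuleCat.isZero_of_subsingleton _
  · intro i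
    obtain ⟨e⟩ := nonempty_quot_equiv E a i
    suffices Module.Flat R (E.X i ⧸ G E a i) from Module.Flat.of_linearEquiv e
    rcases lt_trichotomy i a with h | h | h
    · haveI : Subsingleton (E.X i ⧸ G E a i) := by
        rw [G_of_lt E a h]
        infer_instance
      infer_instance
    · subst h
      have h1 : G E i i = LinearMap.range (E.d (i - 1) i).hom := by
        rw [G_self, B_eq_range E (i - 1) i (by omega)]
      exact Module.Flat.of_linearEquiv (Submodule.quotEquivOfEq _ _ h1)
    · haveI := hflat i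
      exact Module.Flat.of_linearEquiv (Submodule.quotEquivOfEqBot _ (G_of_gt E a h))

end Main

section Local

variable {R : Type u} [CommRing R] [IsLocalRing R]

local notation "κ" => IsLocalRing.ResidueField R

theorem ker_le_range_of_isZero (E : DRing.Cx R) (hEff : DRing.TermwiseFiniteFree E)
    (i j k : ℤ) (hij : i + 1 = j) (hjk : j + 1 = k)
    (hz : IsZero ((homologyFunctor (ModuleCat.{u} κ) j).obj
      (Q.obj ((esC (IsLocalRing.residue R)).obj E)))) :
    LinearMap.ker (E.d j k).hom ≤ LinearMap.range (E.d i j).hom := by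
  haveI := (hEff j).1
  haveI := (hEff k).1
  haveI := (hEff k).2
  have hgf : (E.d j k).hom ∘ₗ (E.d i j).hom = 0 := by
    ext x
    exact congr($(E.d_comp_d i j k) x)
  exact ker_le_range _ _ hgf (hex_of_isZero E i j k hij hjk hz)

theorem projective_coker_of_isZero (E : DRing.Cx R) (hEff : DRing.TermwiseFiniteFree E)
    (i j k : ℤ) (hij : i + 1 = j) (hjk : j + 1 = k)
    (hz : IsZero ((homologyFunctor (ModuleCat.{u} κ) j).obj
      (Q.obj ((esC (IsLocalRing.residue R)).obj E)))) :
    Module.Projective R (E.X k ⧸ LinearMap.range (E.d j k).hom) := by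
  haveI := (hEff j).1
  haveI := (hEff k).1
  haveI := (hEff k).2
  have hgf : (E.d j k).hom ∘ₗ (E.d i j).hom = 0 := by
    ext x
    exact congr($(E.d_comp_d i j k) x)
  exact projective_coker _ _ hgf (hex_of_isZero E i j k hij hjk hz)

/-- a pseudo-coherent complex over a local ring whose derived fibre is bounded below is perfect -/
theorem isPerfect_of_fibre_bounded_below [DRing.HasLBaseChange (IsLocalRing.residue R)]
    (K : Dual.D R) (hK : DRing.IsPseudoCoherent' R K) (a : ℤ)
    (h : ∀ i : ℤ, i < a → Subsingleton (Dual.HD κ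
      ((DRing.LBaseChange (IsLocalRing.residue R)).obj K) i)) :
    DRing.IsPerfect R K ∧ ∃ b : ℤ, DRing.HasTorAmplitudeIn R a b K := by
  obtain ⟨E, b, hEb, hEff, ⟨e⟩⟩ := hK
  have hEproj : ∀ i, Module.Projective R (E.X i) := fun i => by
    haveI := (hEff i).2
    infer_instance
  obtain ⟨eL⟩ := nonempty_LBaseChange_iso_of_projRes (IsLocalRing.residue R) K E b hEb hEproj e
  have hz : ∀ i : ℤ, i < a → IsZero ((homologyFunctor (ModuleCat.{u} κ) i).obj
      (Q.obj ((esC (IsLocalRing.residue R)).obj E))) := fun i hi => by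
    haveI := h i hi
    exact (ModuleCat.isZero_of_subsingleton _).of_iso
      ((homologyFunctor (ModuleCat.{u} κ) i).mapIso eL.symm)
  have hE : ∀ k : ℤ, k < a →
      LinearMap.ker (E.d k (k + 1)).hom ≤ LinearMap.range (E.d (k - 1) k).hom :=
    fun k hk => ker_le_range_of_isZero E hEff (k - 1) k (k + 1) (by omega) rfl (hz k hk)
  have hC : Module.Projective R (E.X a ⧸ LinearMap.range (E.d (a - 1) a).hom) :=
    projective_coker_of_isZero E hEff (a - 1 - 1) (a - 1) a (by omega) (by omega)
      (hz (a - 1) (by omega))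
  have hTA : DRing.HasTorAmplitudeIn R a b (Q.obj E) :=
    hasTorAmplitudeIn_of_exact_below E a b hEb
      (fun i => by haveI := hEproj i; infer_instance) hE inferInstance
  obtain ⟨F, hF, hFf, ⟨eF⟩⟩ := hTA
  have hTA' : DRing.HasTorAmplitudeIn R a b K := ⟨F, hF, hFf, ⟨eF ≪≫ e⟩⟩
  exact ⟨(Groth.Agent.S6954.result R K).mpr ⟨⟨E, b, hEb, hEff, ⟨e⟩⟩, ⟨a, b, hTA'⟩⟩, b, hTA'⟩

end Local

end Groth.Agent.Helper11.LocalPerf
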