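import Groth.Agent.Lib.Helper11.LocalPerf4
import Groth.Agent.Lib.Helper11.DCTrim

/-!
Bounded above complexes of finite projective modules over a local ring whose fibre has cohomology
in `[a, b]` have tor amplitude in `[a, b]` (helper11).
-/

set_option autoImplicit false

open CategoryTheory Category Limits Pretriangulated DerivedCategory ZeroObject

attribute [local instance] HasDerivedCategory.standard

universe u

namespace Groth.Agent.Helper11.LocalPerf

open Groth.Agent.Helper11.DC Groth.Agent.Helper11.MPC Groth.Agent.Helper11.TA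
  Groth.Agent.Helper11.LDer Groth.Agent.Helper11.SubCx

open TensorProduct

section Local

variable {R : Type u} [CommRing R] [IsLocalRing R]

local notation "κ" => IsLocalRing.ResidueField R

/-- Nakayama: surjectivity can be checked modulo the maximal ideal -/
theorem surjective_of_lTensor_surjective {N P : Type u} [AddCommGroup N] [AddCommGroup P]
    [Module R N] [Module R P] [Module.Finite R P] (g : N →ₗ[R] P)
    (h : Function.Surjective (g.lTensor κ)) : Function.Surjective g := by
  have hsub : Subsingleton (κ ⊗[R] (P ⧸ LinearMap.range g)) := by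
    refine ⟨fun x y => ?_⟩
    suffices hz : ∀ z : κ ⊗[R] (P ⧸ LinearMap.range g), z = 0 by rw [hz x, hz y]
    intro z
    obtain ⟨y, rfl⟩ := LinearMap.lTensor_surjective κ (LinearMap.range g).mkQ_surjective z
    obtain ⟨w, rfl⟩ := h y
    have h2 : ((LinearMap.range g).mkQ ∘ₗ g) = 0 := by
      ext w
      exact (Submodule.Quotient.mk_eq_zero _).mpr ⟨w, rfl⟩
    have h3 : ((LinearMap.range g).mkQ.lTensor κ) ((g.lTensor κ) w) =
        (((LinearMap.range g).mkQ ∘ₗ g).lTensor κ) w := by
      rw [LinearMap.lTensor_comp]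
      rfl
    rw [h3, h2, LinearMap.lTensor_zero]
    rfl
  have h4 := (IsLocalRing.subsingleton_tensorProduct (R := R)
    (M := P ⧸ LinearMap.range g)).mp hsub
  rw [← LinearMap.range_eq_top]
  exact Submodule.Quotient.subsingleton_iff.mp h4

set_option backward.isDefEq.respectTransparency false in
theorem surjective_d_of_isZero (E : DRing.Cx R) (hfin : ∀ i, Module.Finite R (E.X i)) (b₀ : ℤ)
    (hEb : DRing.VanishesAbove E b₀)
    (hz : IsZero ((homologyFunctor (ModuleCat.{u} κ) b₀).obj
      (Q.obj ((esC (IsLocalRing.residue R)).obj E)))) :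
    Function.Surjective (E.d (b₀ - 1) b₀).hom := by
  haveI := hfin b₀
  apply surjective_of_lTensor_surjective
  have hs := surjective_of_homology_isZero ((esC (IsLocalRing.residue R)).obj E) b₀
    (fun i hi => (es (IsLocalRing.residue R)).map_isZero (hEb i hi)) hz
  intro y
  obtain ⟨z, hzx⟩ := hs ((eT (E.X b₀)).symm y)
  refine ⟨eT (E.X (b₀ - 1)) z, ?_⟩
  rw [← eT_nat (E.d (b₀ - 1) b₀) z]
  have : ((ModuleCat.extendScalars.{u,u,u} (IsLocalRing.residue R)).map
    (E.d (b₀ - 1) b₀)).hom z = (eT (E.X b₀)).symm y := hzx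
  rw [this, LinearEquiv.apply_symm_apply]

/-- trimming a bounded above complex of finite projectives whose fibre has no cohomology
above `b` -/
theorem trim_fibre (n : ℕ) : ∀ (E : DRing.Cx R) (b b₀ : ℤ), b₀ ≤ b + n →
    DRing.VanishesAbove E b₀ → (∀ i, Module.Projective R (E.X i)) →
    (∀ i, Module.Finite R (E.X i)) →
    (∀ i : ℤ, b < i → IsZero ((homologyFunctor (ModuleCat.{u} κ) i).obj
      (Q.obj ((esC (IsLocalRing.residue R)).obj E)))) →
    ∃ (E' : DRing.Cx R) (π : E ⟶ E'), IsTrim π ∧ (∀ i : ℤ, b < i → IsZero (E'.X i)) := by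
  induction n with
  | zero =>
    intro E b b₀ hbb hEb _ _ _
    exact ⟨E, 𝟙 E, IsTrim.id E, fun i hi => hEb i (by omega)⟩
  | succ n ih =>
    intro E b b₀ hbb hEb hproj hfin hH
    by_cases hbb' : b₀ ≤ b
    · exact ⟨E, 𝟙 E, IsTrim.id E, fun i hi => hEb i (by omega)⟩
    · obtain ⟨E₁, π₁, hπ₁, hz₁, -⟩ := trim_top E b₀ hEb
        (surjective_d_of_isZero E hfin b₀ hEb (hH b₀ (by omega))) (hproj b₀)
      have hEb₁ : DRing.VanishesAbove E₁ (b₀ - 1) := fun i hi => by
        by_cases hib : i = b₀
        · subst hib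
          exact hz₁
        · exact hπ₁.isZero i (hEb i (by omega))
      have hproj₁ : ∀ i, Module.Projective R (E₁.X i) := fun i => hπ₁.projective i (hproj i)
      haveI := hπ₁.iso
      haveI : IsIso (Q.map ((esC (IsLocalRing.residue R)).map π₁)) :=
        isIso_Q_map_esC_of_flat (IsLocalRing.residue R) E E₁ b₀ (b₀ - 1) hEb hEb₁
          (fun i => by haveI := hproj i; infer_instance)
          (fun i => by haveI := hproj₁ i; infer_instance) π₁ hπ₁.iso
      obtain ⟨E₂, π₂, hπ₂, hz₂⟩ := ih E₁ b (b₀ - 1) (by omega) hEb₁ hproj₁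
        (fun i => hπ₁.finite i (hfin i))
        (fun i hi => (hH i hi).of_iso ((homologyFunctor (ModuleCat.{u} κ) i).mapIso
          (asIso (Q.map ((esC (IsLocalRing.residue R)).map π₁))).symm))
      exact ⟨E₂, π₁ ≫ π₂, hπ₁.comp hπ₂, hz₂⟩

/-- a bounded above complex of finite projective modules over a local ring whose fibre has
cohomology only in `[a, b]` has tor amplitude in `[a, b]` -/
theorem hasTorAmplitudeIn_of_fibre (E : DRing.Cx R) (b₀ : ℤ) (hEb : DRing.VanishesAbove E b₀)
    (hproj : ∀ i, Module.Projective R (E.X i)) (hfin : ∀ i, Module.Finite R (E.X i)) (a b : ℤ)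
    (hH : ∀ i : ℤ, (i < a ∨ b < i) → IsZero ((homologyFunctor (ModuleCat.{u} κ) i).obj
      (Q.obj ((esC (IsLocalRing.residue R)).obj E)))) :
    DRing.HasTorAmplitudeIn R a b (Q.obj E) := by
  obtain ⟨n, hn⟩ : ∃ n : ℕ, b₀ ≤ b + n := ⟨(b₀ - b).toNat, by omega⟩
  obtain ⟨E', π, hπ, hz⟩ := trim_fibre n E b b₀ hn hEb hproj hfin
    (fun i hi => hH i (Or.inr hi))
  have hEb' : DRing.VanishesAbove E' b₀ := fun i hi => hπ.isZero i (hEb i hi)
  have hproj' : ∀ i, Module.Projective R (E'.X i) := fun i => hπ.projective i (hproj i)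
  have hfin' : ∀ i, Module.Finite R (E'.X i) := fun i => hπ.finite i (hfin i)
  have hff' : DRing.TermwiseFiniteFree E' := fun i => by
    haveI := hproj' i
    haveI := hfin' i
    exact ⟨inferInstance, Module.free_of_flat_of_isLocalRing⟩
  haveI := hπ.iso
  haveI : IsIso (Q.map ((esC (IsLocalRing.residue R)).map π)) :=
    isIso_Q_map_esC_of_flat (IsLocalRing.residue R) E E' b₀ b₀ hEb hEb'
      (fun i => by haveI := hproj i; infer_instance)
      (fun i => by haveI := hproj' i; infer_instance) π hπ.iso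
  have hH' : ∀ i : ℤ, i < a → IsZero ((homologyFunctor (ModuleCat.{u} κ) i).obj
      (Q.obj ((esC (IsLocalRing.residue R)).obj E'))) := fun i hi =>
    (hH i (Or.inl hi)).of_iso ((homologyFunctor (ModuleCat.{u} κ) i).mapIso
      (asIso (Q.map ((esC (IsLocalRing.residue R)).map π))).symm)
  have hE : ∀ k : ℤ, k < a →
      LinearMap.ker (E'.d k (k + 1)).hom ≤ LinearMap.range (E'.d (k - 1) k).hom :=
    fun k hk => ker_le_range_of_isZero E' hff' (k - 1) k (k + 1) (by omega) rfl (hH' k hk)
  have hC : Module.Projective R (E'.X a ⧸ LinearMap.range (E'.d (a - 1) a).hom) :=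
    projective_coker_of_isZero E' hff' (a - 1 - 1) (a - 1) a (by omega) (by omega)
      (hH' (a - 1) (by omega))
  have hTA : DRing.HasTorAmplitudeIn R a b (Q.obj E') :=
    hasTorAmplitudeIn_of_exact_below E' a b hz
      (fun i => by haveI := hproj' i; infer_instance) hE inferInstance
  obtain ⟨F, hF, hFf, ⟨eF⟩⟩ := hTA
  exact ⟨F, hF, hFf, ⟨eF ≪≫ (asIso (Q.map π)).symm⟩⟩

end Local

end Groth.Agent.Helper11.LocalPerf
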