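import Groth.Agent.Lib.Helper11.DCFour
import Groth.Agent.Lib.Helper11.DCStupid
import Groth.Agent.Lib.Helper11.DCProjAmp
import Groth.Agent.Lib.Helper11.DCCone2
import Groth.Agent.Lib.Helper11.DCTopHom
import Groth.Agent.Lib.Helper11.DCPc0

/-!
# `m`-pseudo-coherence: removing the bottom term, normalisation, two-out-of-three
-/

set_option autoImplicit false

open CategoryTheory Category Limits Pretriangulated DerivedCategory ZeroObject

attribute [local instance] HasDerivedCategory.standard

universe u

namespace Groth.Agent.Helper11.MPC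

open Groth.Agent.Helper11.DC

variable {R : Type u} [CommRing R]

section Bot

variable (K : DRing.Cx R) (a : ℤ) (ha : ∀ i : ℤ, i < a → IsZero (K.X i))

/-- The projection onto the bottom term. -/
noncomputable def botProj : K ⟶
    (HomologicalComplex.single (ModuleCat.{u} R) (ComplexShape.up ℤ) a).obj (K.X a) :=
  HomologicalComplex.mkHomToSingle (𝟙 _) (fun k hk => (ha k (by
    have : k + 1 = a := by simpa using hk
    omega)).eq_of_src _ _)

instance : Epi (botProj K a ha) := by
  apply (config := { allowSynthFailures := true }) HomologicalComplex.epi_of_epi_f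
  intro i
  by_cases hi : i = a
  · subst hi
    rw [botProj, HomologicalComplex.mkHomToSingle_f]
    infer_instance
  · have hz : IsZero (((HomologicalComplex.single (ModuleCat.{u} R) (ComplexShape.up ℤ) a).obj
        (K.X a)).X i) := HomologicalComplex.isZero_single_obj_X _ _ _ _ hi
    exact ⟨fun g h _ => hz.eq_of_src _ _⟩

/-- The short complex `σ_{>a} K → K → K^a[-a]`. -/
noncomputable def botSC : ShortComplex (DRing.Cx R) :=
  ShortComplex.mk (kernel.ι (botProj K a ha)) (botProj K a ha) (kernel.condition _)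

theorem botSC_shortExact : (botSC K a ha).ShortExact :=
  { exact := ShortComplex.exact_kernel _
    mono_f := by dsimp [botSC]; infer_instance
    epi_g := by dsimp [botSC]; infer_instance }

theorem botSC_eval_shortExact (i : ℤ) :
    ((botSC K a ha).map (HomologicalComplex.eval _ _ i)).ShortExact :=
  (botSC_shortExact K a ha).map_of_exact _

theorem botSC_X₁_isZero : IsZero ((botSC K a ha).X₁.X a) := by
  have h := (botSC_eval_shortExact K a ha a).isIso_g_iff
  refine h.mp ?_
  change IsIso ((botProj K a ha).f a)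
  rw [botProj, HomologicalComplex.mkHomToSingle_f]
  infer_instance

theorem botSC_f_isIso (i : ℤ) (hi : i ≠ a) : IsIso ((botSC K a ha).f.f i) := by
  have hz : IsZero (((HomologicalComplex.single (ModuleCat.{u} R) (ComplexShape.up ℤ) a).obj
      (K.X a)).X i) := HomologicalComplex.isZero_single_obj_X _ _ _ _ hi
  exact (botSC_eval_shortExact K a ha i).isIso_f_iff.mpr hz

theorem botSC_epi (i : ℤ) (hi : i ≠ a) :
    Epi ((Hf R i).map (Q.map (botSC K a ha).f)) := by
  have hT := triangleOfSES_distinguished (botSC_shortExact K a ha)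
  refine (HomologySequence.epi_homologyMap_mor₁_iff _ hT i).mpr ?_
  exact (isZero_homology_of_isZero_X _ i
    (HomologicalComplex.isZero_single_obj_X _ _ _ _ hi)).eq_of_tgt _ _

theorem botSC_mono (i : ℤ) (hi : i - 1 ≠ a) :
    Mono ((Hf R i).map (Q.map (botSC K a ha).f)) := by
  have hT := triangleOfSES_distinguished (botSC_shortExact K a ha)
  refine (HomologySequence.mono_homologyMap_mor₁_iff _ hT (i - 1) i (by omega)).mpr ?_
  exact (isZero_homology_of_isZero_X _ (i - 1)
    (HomologicalComplex.isZero_single_obj_X _ _ _ _ hi)).eq_of_src _ _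

end Bot

/-- Normalisation: the approximating complex may be taken in degrees `≥ m`. -/
theorem normalize_aux (n : ℕ) : ∀ (E : DRing.Cx R) (a b m : ℤ) (K : Dual.D R)
    (α : Q.obj E ⟶ K), m ≤ a + n → DRing.VanishesOutside E a b → DRing.TermwiseFiniteFree E →
    (∀ i : ℤ, m < i → IsIso ((Hf R i).map α)) → Epi ((Hf R m).map α) →
    ∃ (E' : DRing.Cx R) (α' : Q.obj E' ⟶ K), DRing.VanishesOutside E' m b ∧
      DRing.TermwiseFiniteFree E' ∧ (∀ i : ℤ, m < i → IsIso ((Hf R i).map α')) ∧
      Epi ((Hf R m).map α') := by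
  induction n with
  | zero =>
    intro E a b m K α hm hE hff hiso hepi
    refine ⟨E, α, fun i hi => hE i ?_, hff, hiso, hepi⟩
    omega
  | succ n ih =>
    intro E a b m K α hm hE hff hiso hepi
    by_cases hma : m ≤ a
    · refine ⟨E, α, fun i hi => hE i ?_, hff, hiso, hepi⟩
      omega
    · have ha : ∀ i : ℤ, i < a → IsZero (E.X i) := fun i hi => hE i (Or.inl hi)
      let E₁ := (botSC E a ha).X₁
      let ι : E₁ ⟶ E := (botSC E a ha).f
      have hE₁ : DRing.VanishesOutside E₁ (a + 1) b := by
        intro i hi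
        by_cases hia : i = a
        · subst hia
          exact botSC_X₁_isZero E i ha
        · haveI : IsIso (ι.f i) := botSC_f_isIso E a ha i hia
          refine IsZero.of_iso (hE i ?_) (asIso (ι.f i))
          omega
      have hff₁ : DRing.TermwiseFiniteFree E₁ := by
        intro i
        by_cases hia : i = a
        · subst hia
          haveI : Subsingleton (E₁.X i) :=
            ModuleCat.subsingleton_of_isZero (botSC_X₁_isZero E i ha)
          exact ⟨inferInstance, inferInstance⟩
        · haveI : IsIso (ι.f i) := botSC_f_isIso E a ha i hia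
          have e := (asIso (ι.f i)).toLinearEquiv
          haveI := (hff i).1
          haveI := (hff i).2
          exact ⟨Module.Finite.equiv e.symm, Module.Free.of_equiv e.symm⟩
      refine ih E₁ (a + 1) b m K (Q.map ι ≫ α) (by omega) hE₁ hff₁ ?_ ?_
      · intro i hi
        haveI := hiso i hi
        haveI : Epi ((Hf R i).map (Q.map ι)) := botSC_epi E a ha i (by omega)
        haveI : Mono ((Hf R i).map (Q.map ι)) := botSC_mono E a ha i (by omega)
        haveI : IsIso ((Hf R i).map (Q.map ι)) := isIso_of_mono_of_epi _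
        rw [Functor.map_comp]
        infer_instance
      · haveI : Epi ((Hf R m).map (Q.map ι)) := botSC_epi E a ha m (by omega)
        rw [Functor.map_comp]
        exact epi_comp _ _

theorem normalize {m : ℤ} {K : Dual.D R} (h : DRing.IsPseudoCoherent R m K) :
    ∃ (E' : DRing.Cx R) (b : ℤ) (α' : Q.obj E' ⟶ K), DRing.VanishesOutside E' m b ∧
      DRing.TermwiseFiniteFree E' ∧ (∀ i : ℤ, m < i → IsIso ((Hf R i).map α')) ∧
      Epi ((Hf R m).map α') := by
  obtain ⟨E, a, b, α, hE, hff, hiso, hepi⟩ := h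
  obtain ⟨E', α', h1, h2, h3, h4⟩ :=
    normalize_aux (m - a).toNat E a b m K α (by omega) hE hff hiso hepi
  exact ⟨E', b, α', h1, h2, h3, h4⟩

/-- the cone of an `m`-approximation is in `D^{≤ m-1}` -/
theorem cone_isLE {m : ℤ} {X K Z : Dual.D R} (α : X ⟶ K) (g : K ⟶ Z) (h : Z ⟶ X⟦(1 : ℤ)⟧)
    (hT : Triangle.mk α g h ∈ distTriang (Dual.D R))
    (hiso : ∀ i : ℤ, m < i → IsIso ((Hf R i).map α)) (hepi : Epi ((Hf R m).map α)) :
    Z.IsLE (m - 1) := by
  rw [isLE_iff]
  intro i hi
  have hex := HomologySequence.exact₃ _ hT i (i + 1) rfl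
  refine hex.isZero_X₂ ?_ ?_
  · refine (HomologySequence.epi_homologyMap_mor₁_iff _ hT i).mp ?_
    change Epi ((Hf R i).map α)
    by_cases him : i = m
    · subst him; exact hepi
    · haveI := hiso i (by omega)
      infer_instance
  · refine (HomologySequence.mono_homologyMap_mor₁_iff _ hT i (i + 1) rfl).mp ?_
    change Mono ((Hf R (i + 1)).map α)
    haveI := hiso (i + 1) (by omega)
    infer_instance

/-- two-out-of-three, first form. -/
theorem mpc_third (T : Triangle (Dual.D R)) (hT : T ∈ distTriang (Dual.D R)) (m : ℤ)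
    (h₁ : DRing.IsPseudoCoherent R (m + 1) T.obj₁) (h₂ : DRing.IsPseudoCoherent R m T.obj₂) :
    DRing.IsPseudoCoherent R m T.obj₃ := by
  obtain ⟨E₁, b₁, α₁, hE₁, hff₁, hiso₁, hepi₁⟩ := normalize h₁
  obtain ⟨E₂, a₂, b₂, α₂, hE₂, hff₂, hiso₂, hepi₂⟩ := h₂
  obtain ⟨Z, g, h, hZ⟩ := distinguished_cocone_triangle α₂
  haveI : Z.IsLE (m - 1) := cone_isLE α₂ g h hZ hiso₂ hepi₂
  haveI : Z.IsLE (m + 1 - 1) := TStructure.t.isLE_of_le Z (m - 1) (m + 1 - 1) (by omega)
  have hproj₁ : ∀ i, Module.Projective R (E₁.X i) := fun i => by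
    haveI := (hff₁ i).2
    infer_instance
  have hz : (α₁ ≫ T.mor₁) ≫ g = 0 :=
    hom_eq_zero_of_projAmp (m + 1) E₁ b₁ hE₁ hproj₁ Z _
  obtain ⟨γ, hγ⟩ := Triangle.coyoneda_exact₂ _ hZ (α₁ ≫ T.mor₁) hz
  haveI : E₁.IsKProjective :=
    isKProjective_of_vanishesAbove E₁ b₁ (fun i hi => hE₁ i (Or.inr hi)) hproj₁
  obtain ⟨φ, hφ⟩ := exists_lift_of_isKProjective E₁ E₂ γ
  have hT' := DerivedCategory.mappingCone_triangle_distinguished φ
  obtain ⟨α₃, hc2, hc3⟩ := complete_distinguished_triangle_morphism _ T hT' hT α₁ α₂ (by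
    change Q.map φ ≫ α₂ = α₁ ≫ T.mor₁
    rw [hφ]
    exact hγ.symm)
  let ψ : (Q.mapTriangle.obj (CochainComplex.mappingCone.triangle φ)) ⟶ T :=
    { hom₁ := α₁
      hom₂ := α₂
      hom₃ := α₃
      comm₁ := by
        change Q.map φ ≫ α₂ = α₁ ≫ T.mor₁
        rw [hφ]
        exact hγ.symm
      comm₂ := hc2
      comm₃ := hc3 }
  refine ⟨CochainComplex.mappingCone φ, min m a₂ - 1, max b₁ b₂, α₃, ?_, ?_, ?_, ?_⟩
  · intro i hi
    refine mappingCone_isZero φ i (hE₁ _ ?_) (hE₂ _ ?_)
    · omega
    · omega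
  · intro i
    have := (hff₁ (i + 1)).1
    have := (hff₁ (i + 1)).2
    have := (hff₂ i).1
    have := (hff₂ i).2
    exact ⟨Module.Finite.equiv (mappingConeXEquiv φ i).symm,
      Module.Free.of_equiv (mappingConeXEquiv φ i).symm⟩
  · intro i hi
    haveI := hiso₁ (i + 1) (by omega)
    haveI := hiso₂ i hi
    have he : Epi ((Hf R i).map α₃) := epi_hom₃ hT' hT ψ i
      (by change Epi ((Hf R i).map α₂); infer_instance)
      (by change Epi ((Hf R (i + 1)).map α₁); infer_instance)
      (by
        haveI := hiso₂ (i + 1) (by omega)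
        change Mono ((Hf R (i + 1)).map α₂); infer_instance)
    have hm : Mono ((Hf R i).map α₃) := mono_hom₃ hT' hT ψ i
      (by
        by_cases him : i = m + 1
        · subst him; exact hepi₁
        · haveI := hiso₁ i (by omega)
          change Epi ((Hf R i).map α₁); infer_instance)
      (by change Mono ((Hf R i).map α₂); infer_instance)
      (by change Mono ((Hf R (i + 1)).map α₁); infer_instance)
    exact @isIso_of_mono_of_epi _ _ _ _ _ ((Hf R i).map α₃) hm he
  · exact epi_hom₃ hT' hT ψ m hepi₂ hepi₁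
      (by
        haveI := hiso₂ (m + 1) (by omega)
        change Mono ((Hf R (m + 1)).map α₂); infer_instance)

end Groth.Agent.Helper11.MPC
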