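import Groth.Agent.Lib.Helper11.MPC10
import Groth.Prelude.Def_DerCA

/-!
Relative pseudo-coherence does not depend on the presentation.
-/

open CategoryTheory Category Limits Pretriangulated DerivedCategory ZeroObject

attribute [local instance] HasDerivedCategory.standard

universe u

namespace Groth.Agent.Helper11.MPC

open Groth.Agent.Helper11.DC Groth.Agent.Helper11.GenRes Groth.Agent.Helper11.TA

section Step

variable {A B C : Type u} [CommRing A] [CommRing B] [CommRing C]

/-- pulling back further along a map with pseudo-coherent target does not change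
`m`-pseudo-coherence -/
theorem mpc_restrict_comp_iff (ψ : A →+* B) (hψ : BaseIsPc ψ) (φ : B →+* C) (m : ℤ)
    (K : Dual.D C) :
    DRing.IsPseudoCoherent B m ((DRing.restrictD φ).obj K) ↔
      DRing.IsPseudoCoherent A m ((DRing.restrictD (φ.comp ψ)).obj K) :=
  (mpc_restrict_iff hψ m _).trans (mpc_restrict_comp ψ φ m K).symm

end Step

variable {R A : Type u} [CommRing R] [CommRing A] [Algebra R A]

theorem via_key {n k : ℕ} (α : MvPolynomial (Fin n) R →ₐ[R] A)
    (β : MvPolynomial (Fin k) R →ₐ[R] A) (f : Fin k → MvPolynomial (Fin n) R)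
    (hf : ∀ j, α (f j) = β (MvPolynomial.X j)) (g : Fin n → MvPolynomial (Fin k) R)
    (hg : ∀ i, β (g i) = α (MvPolynomial.X i)) :
    (α : MvPolynomial (Fin n) R →+* A).comp
        ((MvPolynomial.aeval f : MvPolynomial (Fin k) (MvPolynomial (Fin n) R) →ₐ[_] _) :
          MvPolynomial (Fin k) (MvPolynomial (Fin n) R) →+* MvPolynomial (Fin n) R) =
      ((β : MvPolynomial (Fin k) R →+* A).comp
        ((MvPolynomial.aeval g : MvPolynomial (Fin n) (MvPolynomial (Fin k) R) →ₐ[_] _) :
          MvPolynomial (Fin n) (MvPolynomial (Fin k) R) →+* MvPolynomial (Fin k) R)).comp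
        ((MvPolynomial.commAlgEquiv R (Fin k) (Fin n) :
          MvPolynomial (Fin k) (MvPolynomial (Fin n) R) ≃ₐ[R] _) :
          MvPolynomial (Fin k) (MvPolynomial (Fin n) R) →+* _) := by
  apply MvPolynomial.ringHom_ext
  · intro p
    induction p using MvPolynomial.induction_on with
    | C r => simp [MvPolynomial.commAlgEquiv_C]
    | add p q hp hq =>
      rw [map_add, map_add, map_add, hp, hq]
    | mul_X p i hp =>
      rw [map_mul, map_mul, map_mul, hp]
      congr 1
      simp [MvPolynomial.commAlgEquiv_C_X, hg]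
  · intro j
    simp [MvPolynomial.commAlgEquiv_X, hf]

/-- independence of the presentation -/
theorem via_iff {n k : ℕ} (α : MvPolynomial (Fin n) R →ₐ[R] A) (hα : Function.Surjective α)
    (β : MvPolynomial (Fin k) R →ₐ[R] A) (hβ : Function.Surjective β) (K : Dual.D A) (m : ℤ) :
    DerCA.IsRelPseudoCoherentVia α m K ↔ DerCA.IsRelPseudoCoherentVia β m K := by
  choose f hf using fun j : Fin k => hα (β (MvPolynomial.X j))
  choose g hg using fun i : Fin n => hβ (α (MvPolynomial.X i))
  have key := via_key α β f hf g hg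
  have h1 := mpc_restrict_comp_iff _ (baseIsPc_aeval k (MvPolynomial (Fin n) R) f)
    (α : MvPolynomial (Fin n) R →+* A) m K
  have h2 := mpc_restrict_comp_iff _ (baseIsPc_aeval n (MvPolynomial (Fin k) R) g)
    (β : MvPolynomial (Fin k) R →+* A) m K
  have h3 := mpc_restrict_comp_iff
    ((MvPolynomial.commAlgEquiv R (Fin k) (Fin n) :
      MvPolynomial (Fin k) (MvPolynomial (Fin n) R) ≃ₐ[R] _) :
      MvPolynomial (Fin k) (MvPolynomial (Fin n) R) →+* _)
    (baseIsPc_of_bijective _ (MvPolynomial.commAlgEquiv R (Fin k) (Fin n)).bijective)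
    ((β : MvPolynomial (Fin k) R →+* A).comp
      ((MvPolynomial.aeval g : MvPolynomial (Fin n) (MvPolynomial (Fin k) R) →ₐ[_] _) :
        MvPolynomial (Fin n) (MvPolynomial (Fin k) R) →+* MvPolynomial (Fin k) R)) m K
  unfold DerCA.IsRelPseudoCoherentVia
  rw [h1, key, ← h3, ← h2]

end Groth.Agent.Helper11.MPC
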