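import Groth.Agent.Lib.Helper11.MPC12
import Groth.Agent.Lib.Helper11.TorAmp6
import Groth.Prelude.Def_DualSh
import Mathlib.CategoryTheory.Triangulated.Subcategory

/-!
Relative perfectness is a thick triangulated property.
-/

open CategoryTheory Category Limits Pretriangulated DerivedCategory ZeroObject

attribute [local instance] HasDerivedCategory.standard

universe u

namespace Groth.Agent.Helper11.MPC

open Groth.Agent.Helper11.DC Groth.Agent.Helper11.GenRes Groth.Agent.Helper11.TA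

section FTD

variable {R : Type u} [CommRing R]

/-- finite tor dimension, in the vanishing form -/
def FTD (L : Dual.D R) : Prop := ∃ a b : ℤ, TorVan a b L

theorem ftd_iff (L : Dual.D R) : DRing.HasFiniteTorDimCx R L ↔ FTD L :=
  ⟨fun ⟨a, b, h⟩ => ⟨a, b, torVan_of_hasTorAmplitudeIn h⟩,
    fun ⟨a, b, h⟩ => ⟨a, b, hasTorAmplitudeIn_of_torVan h⟩⟩

theorem FTD.of_iso {K L : Dual.D R} (e : K ≅ L) (h : FTD K) : FTD L := by
  obtain ⟨a, b, h⟩ := h
  exact ⟨a, b, h.of_iso e⟩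

theorem FTD.zero (K : Dual.D R) (h : IsZero K) : FTD K := ⟨0, 0, TorVan.zero 0 0 K h⟩

theorem FTD.shift {K : Dual.D R} (n : ℤ) (h : FTD K) : FTD (K⟦n⟧) := by
  obtain ⟨a, b, h⟩ := h
  exact ⟨a - n, b - n, h.shift n⟩

theorem FTD.ext (T : Triangle (Dual.D R)) (hT : T ∈ distTriang (Dual.D R)) (h₁ : FTD T.obj₁)
    (h₃ : FTD T.obj₃) : FTD T.obj₂ := by
  obtain ⟨a₁, b₁, h₁⟩ := h₁
  obtain ⟨a₃, b₃, h₃⟩ := h₃
  exact ⟨min a₁ a₃, max b₁ b₃, (TorVan.two_of_three T hT).2.1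
    (h₁.mono (min_le_left _ _) (le_max_left _ _)) (h₃.mono (min_le_right _ _) (le_max_right _ _))⟩

theorem FTD.summands {K L : Dual.D R} (h : FTD (K ⊞ L)) : FTD K ∧ FTD L := by
  obtain ⟨a, b, h⟩ := h
  obtain ⟨hK, hL⟩ := TorVan.biprod_both K L h
  exact ⟨⟨a, b, hK⟩, ⟨a, b, hL⟩⟩

end FTD

section RelPerf

variable (R A : Type u) [CommRing R] [CommRing A] [Algebra R A]

theorem relPerfect_iff (K : Dual.D A) : Dual2.IsRelPerfect R A K ↔
    DRing.IsPseudoCoherent' A K ∧ FTD ((DRing.restrictD (algebraMap R A)).obj K) := by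
  unfold Dual2.IsRelPerfect
  rw [ftd_iff]

theorem relPerfect_zero (K : Dual.D A) (hK : IsZero K) : Dual2.IsRelPerfect R A K := by
  rw [relPerfect_iff]
  exact ⟨thickLike_pc.zero K hK, FTD.zero _ (Functor.map_isZero _ hK)⟩

theorem relPerfect_of_iso {K L : Dual.D A} (e : K ≅ L) (h : Dual2.IsRelPerfect R A K) :
    Dual2.IsRelPerfect R A L := by
  rw [relPerfect_iff] at h ⊢
  exact ⟨thickLike_pc.iso e h.1, h.2.of_iso ((DRing.restrictD (algebraMap R A)).mapIso e)⟩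

theorem relPerfect_shift {K : Dual.D A} (n : ℤ) (h : Dual2.IsRelPerfect R A K) :
    Dual2.IsRelPerfect R A (K⟦n⟧) := by
  rw [relPerfect_iff] at h ⊢
  exact ⟨thickLike_pc.shift K n h.1,
    (h.2.shift n).of_iso (((DRing.restrictD (algebraMap R A)).commShiftIso n).app K).symm⟩

theorem relPerfect_ext (T : Triangle (Dual.D A)) (hT : T ∈ distTriang (Dual.D A))
    (h₁ : Dual2.IsRelPerfect R A T.obj₁) (h₃ : Dual2.IsRelPerfect R A T.obj₃) :
    Dual2.IsRelPerfect R A T.obj₂ := by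
  rw [relPerfect_iff] at h₁ h₃ ⊢
  exact ⟨thickLike_pc.ext T hT h₁.1 h₃.1,
    FTD.ext _ ((DRing.restrictD (algebraMap R A)).map_distinguished _ hT) h₁.2 h₃.2⟩

theorem relPerfect_summands {K L : Dual.D A} (h : Dual2.IsRelPerfect R A (K ⊞ L)) :
    Dual2.IsRelPerfect R A K ∧ Dual2.IsRelPerfect R A L := by
  rw [relPerfect_iff] at h
  rw [relPerfect_iff, relPerfect_iff]
  obtain ⟨hK, hL⟩ := pc'_summands h.1
  haveI : PreservesBinaryBiproducts (DRing.restrictD (algebraMap R A)) :=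
    preservesBinaryBiproducts_of_preservesBiproducts _
  obtain ⟨hK', hL'⟩ := FTD.summands
    (h.2.of_iso ((DRing.restrictD (algebraMap R A)).mapBiprod K L))
  exact ⟨⟨hK, hK'⟩, ⟨hL, hL'⟩⟩

end RelPerf

end Groth.Agent.Helper11.MPC
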