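import Groth.Agent.Lib.Helper11.MPC12
import Mathlib.Algebra.Module.FinitePresentation
import Mathlib.RingTheory.IsTensorProduct

/-!
Finite presentation through a presentation of the ring.
-/

open CategoryTheory Category Limits Pretriangulated DerivedCategory ZeroObject

attribute [local instance] HasDerivedCategory.standard

universe u

namespace Groth.Agent.Helper11.MPC

open Groth.Agent.Helper11.DC Groth.Agent.Helper11.GenRes Groth.Agent.Helper11.TA

section

variable {P A : Type u} [CommRing P] [CommRing A] (φ : P →+* A)

theorem fp_of_restrict_of_surjective (hφ : Function.Surjective φ) (N : ModuleCat.{u} A)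
    (h : Module.FinitePresentation P ((ModuleCat.restrictScalars.{u} φ).obj N)) :
    Module.FinitePresentation A N := by
  letI : Algebra P A := φ.toAlgebra
  letI : Module P N := Module.compHom N φ
  haveI : IsScalarTower P A N := ⟨fun a b n => by
    change (φ a * b) • n = φ a • (b • n)
    rw [mul_smul]⟩
  haveI : Module.FinitePresentation P N := h
  have hbc : IsBaseChange A (LinearMap.id : N →ₗ[P] N) := by
    apply IsBaseChange.of_lift_unique
    intro Q _ _ _ _ g
    have hg : ∀ (a : A) (n : N), g (a • n) = a • g n := by
      intro a n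
      obtain ⟨p, rfl⟩ := hφ a
      have h1 : (φ p) • n = p • n := rfl
      have h2 : (φ p) • g n = p • g n := (algebraMap_smul A p (g n))
      rw [h1, h2, map_smul]
    refine ⟨{ toFun := g, map_add' := g.map_add, map_smul' := hg }, ?_, ?_⟩
    · ext n
      rfl
    · intro g' hg'
      ext n
      exact congr($hg' n)
  exact FinitePresentation.of_isBaseChange (LinearMap.id : N →ₗ[P] N) hbc

end

section

variable {R A : Type u} [CommRing R] [CommRing A] [Algebra R A]

theorem fp_restrict_iff_via {n : ℕ} (α : MvPolynomial (Fin n) R →ₐ[R] A) (N : ModuleCat.{u} A) :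
    Module.FinitePresentation (MvPolynomial (Fin n) R)
        ((ModuleCat.restrictScalars.{u} (α : MvPolynomial (Fin n) R →+* A)).obj N) ↔
      DerCA.IsRelPseudoCoherentVia α (-1) ((singleFunctor (ModuleCat.{u} A) 0).obj N) := by
  unfold DerCA.IsRelPseudoCoherentVia
  rw [mpc_restrict_single_iff]
  constructor
  · intro h
    exact @pcNeg1_of_fp _ _
      ((ModuleCat.restrictScalars.{u} (α : MvPolynomial (Fin n) R →+* A)).obj N) _ _ h
  · intro h
    exact fp_of_pcNeg1
      ((ModuleCat.restrictScalars.{u} (α : MvPolynomial (Fin n) R →+* A)).obj N) h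

theorem fp_restrict_indep {n k : ℕ} (α : MvPolynomial (Fin n) R →ₐ[R] A)
    (hα : Function.Surjective α) (β : MvPolynomial (Fin k) R →ₐ[R] A)
    (hβ : Function.Surjective β) (N : ModuleCat.{u} A) :
    Module.FinitePresentation (MvPolynomial (Fin n) R)
        ((ModuleCat.restrictScalars.{u} (α : MvPolynomial (Fin n) R →+* A)).obj N) ↔
      Module.FinitePresentation (MvPolynomial (Fin k) R)
        ((ModuleCat.restrictScalars.{u} (β : MvPolynomial (Fin k) R →+* A)).obj N) := by
  rw [fp_restrict_iff_via, fp_restrict_iff_via]
  exact via_iff α hα β hβ _ (-1)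

end

end Groth.Agent.Helper11.MPC
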