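import Groth.Agent.Lib.Helper11.MPC1

/-!
# `m`-pseudo-coherence: shifts, two-out-of-three, pseudo-coherent implies `m`-pseudo-coherent
-/

set_option autoImplicit false

open CategoryTheory Category Limits Pretriangulated DerivedCategory ZeroObject

attribute [local instance] HasDerivedCategory.standard

universe u

namespace Groth.Agent.Helper11.MPC

open Groth.Agent.Helper11.DC

variable {R : Type u} [CommRing R]

theorem epi_map_iff_of_natIso {C D : Type*} [Category C] [Category D] {F G : C ⥤ D} (e : F ≅ G)
    {X Y : C} (f : X ⟶ Y) : Epi (F.map f) ↔ Epi (G.map f) := by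
  have h1 : F.map f = e.hom.app X ≫ G.map f ≫ e.inv.app Y := by
    rw [← e.hom.naturality_assoc, Iso.hom_inv_id_app, comp_id]
  have h2 : G.map f = e.inv.app X ≫ F.map f ≫ e.hom.app Y := by
    rw [← e.inv.naturality_assoc, Iso.inv_hom_id_app, comp_id]
  constructor
  · intro _
    rw [h2]
    infer_instance
  · intro _
    rw [h1]
    infer_instance

theorem isIso_map_iff_of_natIso {C D : Type*} [Category C] [Category D] {F G : C ⥤ D}
    (e : F ≅ G) {X Y : C} (f : X ⟶ Y) : IsIso (F.map f) ↔ IsIso (G.map f) := by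
  have h1 : F.map f = e.hom.app X ≫ G.map f ≫ e.inv.app Y := by
    rw [← e.hom.naturality_assoc, Iso.hom_inv_id_app, comp_id]
  have h2 : G.map f = e.inv.app X ≫ F.map f ≫ e.hom.app Y := by
    rw [← e.inv.naturality_assoc, Iso.inv_hom_id_app, comp_id]
  constructor
  · intro _
    rw [h2]
    infer_instance
  · intro _
    rw [h1]
    infer_instance

theorem mpc_of_iso {m : ℤ} {K L : Dual.D R} (e : K ≅ L) (h : DRing.IsPseudoCoherent R m K) :
    DRing.IsPseudoCoherent R m L := by
  obtain ⟨E, a, b, α, hE, hff, hiso, hepi⟩ := h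
  refine ⟨E, a, b, α ≫ e.hom, hE, hff, fun i hi => ?_, ?_⟩
  · haveI := hiso i hi
    rw [Functor.map_comp]
    infer_instance
  · rw [Functor.map_comp]
    infer_instance

theorem mpc_of_le {m m' : ℤ} (hm : m ≤ m') {K : Dual.D R} (h : DRing.IsPseudoCoherent R m K) :
    DRing.IsPseudoCoherent R m' K := by
  obtain ⟨E, a, b, α, hE, hff, hiso, hepi⟩ := h
  refine ⟨E, a, b, α, hE, hff, fun i hi => hiso i (by omega), ?_⟩
  by_cases h : m = m'
  · subst h; exact hepi
  · haveI := hiso m' (by omega)
    infer_instance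

theorem mpc_shift {m : ℤ} {K : Dual.D R} (n : ℤ) (h : DRing.IsPseudoCoherent R m K) :
    DRing.IsPseudoCoherent R (m - n) (K⟦n⟧) := by
  obtain ⟨E, a, b, α, hE, hff, hiso, hepi⟩ := h
  refine ⟨E⟦n⟧, a - n, b - n, (Q.commShiftIso n).hom.app E ≫ α⟦n⟧', ?_, ?_, ?_, ?_⟩
  · intro i hi
    exact hE (i + n) (by omega)
  · intro i
    exact hff (i + n)
  · intro i hi
    rw [Functor.map_comp]
    haveI : IsIso ((homologyFunctor (ModuleCat.{u} R) i).map (α⟦n⟧')) := by
      have := (isIso_map_iff_of_natIso
        ((homologyFunctor (ModuleCat.{u} R) 0).shiftIso n i (n + i) rfl) α).mpr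
        (hiso (n + i) (by omega))
      exact this
    infer_instance
  · rw [Functor.map_comp]
    haveI : Epi ((homologyFunctor (ModuleCat.{u} R) (m - n)).map (α⟦n⟧')) := by
      have := (epi_map_iff_of_natIso
        ((homologyFunctor (ModuleCat.{u} R) 0).shiftIso n (m - n) m (by omega)) α).mpr hepi
      exact this
    exact epi_comp _ _

theorem mpc_of_bounded_free (E : DRing.Cx R) (a b : ℤ) (hE : DRing.VanishesOutside E a b)
    (hff : DRing.TermwiseFiniteFree E) (m : ℤ) : DRing.IsPseudoCoherent R m (Q.obj E) :=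
  ⟨E, a, b, 𝟙 _, hE, hff, fun i _ => by rw [CategoryTheory.Functor.map_id]; infer_instance,
    by rw [CategoryTheory.Functor.map_id]; infer_instance⟩

theorem mpc_two_of_three (T : Triangle (Dual.D R)) (hT : T ∈ distTriang (Dual.D R)) (m : ℤ) :
    (DRing.IsPseudoCoherent R (m + 1) T.obj₁ → DRing.IsPseudoCoherent R m T.obj₂ →
        DRing.IsPseudoCoherent R m T.obj₃) ∧
      (DRing.IsPseudoCoherent R m T.obj₁ → DRing.IsPseudoCoherent R m T.obj₃ →
        DRing.IsPseudoCoherent R m T.obj₂) ∧
      (DRing.IsPseudoCoherent R (m + 1) T.obj₂ → DRing.IsPseudoCoherent R m T.obj₃ →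
        DRing.IsPseudoCoherent R (m + 1) T.obj₁) := by
  refine ⟨mpc_third T hT m, ?_, ?_⟩
  · intro h₁ h₃
    have h₃' := mpc_shift (-1) h₃
    have e1 : m - -1 = m + 1 := by ring
    rw [e1] at h₃'
    exact mpc_third T.invRotate (inv_rot_of_distTriang _ hT) m h₃' h₁
  · intro h₂ h₃
    have h₃' := mpc_shift (-1) h₃
    have h₂' := mpc_shift (-1) h₂
    have e1 : m - -1 = m + 1 := by ring
    have e2 : m + 1 - -1 = m + 1 + 1 := by ring
    rw [e1] at h₃'
    rw [e2] at h₂'
    exact mpc_third T.invRotate.invRotate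
      (inv_rot_of_distTriang _ (inv_rot_of_distTriang _ hT)) (m + 1) h₂' h₃'

/-- an object with no cohomology in degrees `≥ m` is `m`-pseudo-coherent -/
theorem mpc_of_isZero_homology {m : ℤ} (K : Dual.D R)
    (hK : ∀ i : ℤ, m ≤ i → IsZero ((homologyFunctor (ModuleCat.{u} R) i).obj K)) :
    DRing.IsPseudoCoherent R m K := by
  have hz : IsZero (0 : DRing.Cx R) := isZero_zero _
  have hz' : ∀ i : ℤ, IsZero ((0 : DRing.Cx R).X i) := fun i =>
    (HomologicalComplex.eval _ _ i).map_isZero hz
  have hzh : ∀ i : ℤ, IsZero ((homologyFunctor (ModuleCat.{u} R) i).obj (Q.obj (0 : DRing.Cx R))) :=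
    fun i => Functor.map_isZero _ (Q.map_isZero hz)
  refine ⟨0, 0, 0, 0, fun i _ => hz' i, fun i => ?_, fun i hi => ?_, ?_⟩
  · haveI : Subsingleton ((0 : DRing.Cx R).X i) := ModuleCat.subsingleton_of_isZero (hz' i)
    exact ⟨inferInstance, inferInstance⟩
  · exact isIso_of_isZero' _ (hzh i) (hK i (by omega))
  · exact epi_of_isZero_tgt _ (hK m le_rfl)

theorem mpc_of_vanishesAbove_aux (n : ℕ) : ∀ (E : DRing.Cx R) (b m : ℤ), b < m + n →
    DRing.VanishesAbove E b → DRing.TermwiseFiniteFree E →
    DRing.IsPseudoCoherent R m (Q.obj E) := by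
  induction n with
  | zero =>
    intro E b m hbm hb _
    exact mpc_of_isZero_homology _ (fun i hi => isZero_homology_of_isZero_X _ i (hb i (by omega)))
  | succ n ih =>
    intro E b m hbm hb hff
    have hS := topSC_shortExact E b hb
    have hT := triangleOfSES_distinguished hS
    have h3 : DRing.IsPseudoCoherent R m (Q.obj (topSC E b hb).X₃) := by
      refine ih _ (b - 1) m (by omega) ?_ ?_
      · intro i hi
        by_cases hib : i = b
        · subst hib
          exact topSC_X₃_isZero E i hb
        · haveI := topSC_g_isIso E b hb i hib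
          exact (hb i (by omega)).of_iso (asIso ((topSC E b hb).g.f i)).symm
      · intro i
        by_cases hib : i = b
        · subst hib
          haveI : Subsingleton ((topSC E i hb).X₃.X i) :=
            ModuleCat.subsingleton_of_isZero (topSC_X₃_isZero E i hb)
          exact ⟨inferInstance, inferInstance⟩
        · haveI := topSC_g_isIso E b hb i hib
          have e : (E.X i) ≃ₗ[R] ((topSC E b hb).X₃.X i) :=
            (asIso ((topSC E b hb).g.f i)).toLinearEquiv
          haveI := (hff i).1
          haveI := (hff i).2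
          exact ⟨Module.Finite.equiv e, Module.Free.of_equiv e⟩
    have h1 : DRing.IsPseudoCoherent R m (Q.obj (topSC E b hb).X₁) := by
      refine mpc_of_bounded_free _ b b ?_ ?_ m
      · intro i hi
        exact HomologicalComplex.isZero_single_obj_X _ _ _ _ (by omega)
      · intro i
        by_cases hib : i = b
        · subst hib
          have e : (((HomologicalComplex.single (ModuleCat.{u} R) (ComplexShape.up ℤ) i).obj
              (E.X i)).X i) ≃ₗ[R] (E.X i) :=
            (HomologicalComplex.singleObjXSelf (ComplexShape.up ℤ) i (E.X i)).toLinearEquiv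
          haveI := (hff i).1
          haveI := (hff i).2
          exact ⟨Module.Finite.equiv e.symm, Module.Free.of_equiv e.symm⟩
        · have hz : IsZero (((HomologicalComplex.single (ModuleCat.{u} R) (ComplexShape.up ℤ)
            b).obj (E.X b)).X i) := HomologicalComplex.isZero_single_obj_X _ _ _ _ hib
          haveI : Subsingleton (((HomologicalComplex.single (ModuleCat.{u} R) (ComplexShape.up ℤ)
            b).obj (E.X b)).X i) := ModuleCat.subsingleton_of_isZero hz
          change Module.Finite R (((HomologicalComplex.single (ModuleCat.{u} R)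
            (ComplexShape.up ℤ) b).obj (E.X b)).X i) ∧ Module.Free R
            (((HomologicalComplex.single (ModuleCat.{u} R) (ComplexShape.up ℤ) b).obj (E.X b)).X i)
          exact ⟨inferInstance, inferInstance⟩
    exact (mpc_two_of_three _ hT m).2.1 h1 h3

theorem mpc_of_pc' {K : Dual.D R} (h : DRing.IsPseudoCoherent' R K) (m : ℤ) :
    DRing.IsPseudoCoherent R m K := by
  obtain ⟨E, b, hb, hff, ⟨e⟩⟩ := h
  exact mpc_of_iso e (mpc_of_vanishesAbove_aux (b - m + 1).toNat E b m (by omega) hb hff)

end Groth.Agent.Helper11.MPC
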