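import Groth.Agent.Lib.Helper11.MPC3
import Groth.Agent.Lib.Helper11.TorAmp8
import Groth.Agent.Lib.Helper11.TorAmp7
import Groth.Agent.Lib.Helper11.FinProjRes

/-!
# `(m-1)`-pseudo-coherent with tor amplitude in `[m,n]` implies perfect
-/

set_option autoImplicit false

open CategoryTheory Category Limits Pretriangulated DerivedCategory ZeroObject

attribute [local instance] HasDerivedCategory.standard

universe u

namespace Groth.Agent.Helper11.MPC

open Groth.Agent.Helper11.DC Groth.Agent.Helper11.TA

variable {R : Type u} [CommRing R]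

/-- For a module in degree `0`, Tor-vanishing above degree `0` is automatic. -/
theorem torVan_single_trunc {a b : ℤ} (N : ModuleCat.{u} R)
    (h : TorVan a b ((singleFunctor (ModuleCat.{u} R) 0).obj N)) :
    TorVan a 0 ((singleFunctor (ModuleCat.{u} R) 0).obj N) := by
  obtain ⟨h1, h2, ⟨e⟩⟩ := projRes_spec N
  have hfl : ∀ i, Module.Flat R ((projectiveResolution N).cochainComplex.X i) := fun i => by
    haveI := h2 i
    infer_instance
  have hv := torVanCx_of_torVan h _ 0 h1 hfl e
  refine ⟨_, 0, h1, h2, ⟨e⟩, ?_⟩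
  intro M i hi
  rcases hi with hi | hi
  · exact hv M i (Or.inl hi)
  · exact isZero_homology_of_isZero_X _ i (tens_isZero M _ i (h1 i hi))

theorem flat_of_torVan_single {b : ℤ} (N : ModuleCat.{u} R)
    (h : TorVan 0 b ((singleFunctor (ModuleCat.{u} R) 0).obj N)) : Module.Flat R N := by
  have h' := torVan_single_trunc N h
  have h'' : TorVan (-((0 : ℕ) : ℤ)) 0 ((singleFunctor (ModuleCat.{u} R) 0).obj N) := by
    simpa using h'
  have key := (torVan_single_iff N 0).mp h''
  exact flat_of_tor_one (M := N) (fun M => key M 1 (by omega))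

theorem isIso_homology_πTruncGE (E : DRing.Cx R) (m i : ℤ) (hi : m ≤ i) :
    IsIso ((homologyFunctor (ModuleCat.{u} R) i).map (Q.map (CochainComplex.πTruncGE E m))) := by
  have h1 : QuasiIsoAt (CochainComplex.πTruncGE E m) i :=
    CochainComplex.quasiIsoAt_πTruncGE E m i hi
  rw [quasiIsoAt_iff_isIso_homologyMap] at h1
  exact (isIso_map_iff_of_natIso (homologyFunctorFactors (ModuleCat.{u} R) i)
    (CochainComplex.πTruncGE E m)).mpr h1

/-- `(m-1)`-pseudo-coherent and Tor-vanishing outside `[m,n]` implies perfect. -/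
theorem isPerfect_of_mpc_of_torVan {m n : ℤ} {K : Dual.D R}
    (hK : DRing.IsPseudoCoherent R (m - 1) K) (hv : TorVan m n K) : DRing.IsPerfect R K := by
  obtain ⟨E', b, α, hE', hff, hiso, hepi⟩ := normalize hK
  -- K is in D^{≥ m}
  have hKz : ∀ i : ℤ, i < m → IsZero ((homologyFunctor (ModuleCat.{u} R) i).obj K) := by
    intro i hi
    obtain ⟨P, c, hc, hp, ⟨e⟩, hvP⟩ := hv
    exact IsZero.of_iso (isZero_homology_of_torVanCx P hvP i (Or.inl hi))
      ((homologyFunctor (ModuleCat.{u} R) i).mapIso e.symm)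
  let E'' := CochainComplex.truncGE E' m
  let π : E' ⟶ E'' := CochainComplex.πTruncGE E' m
  haveI : (Q.obj E'').IsGE m := inferInstance
  -- the cone of α
  obtain ⟨Z, g, h, hZ⟩ := distinguished_cocone_triangle α
  haveI : Z.IsLE (m - 1 - 1) := cone_isLE α g h hZ hiso hepi
  haveI : (Z⟦(-1 : ℤ)⟧).IsLE (m - 1) :=
    TStructure.t.isLE_shift Z (m - 1 - 1) (-1) (m - 1) (by omega)
  have hT' := inv_rot_of_distTriang _ hZ
  haveI : ((Triangle.mk α g h).invRotate.obj₁).IsLE (m - 1) :=
    ‹(Z⟦(-1 : ℤ)⟧).IsLE (m - 1)›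
  have hzero : (Triangle.mk α g h).invRotate.mor₁ ≫ Q.map π = 0 :=
    TStructure.t.zero _ (m - 1) m (by omega)
  obtain ⟨β, hβ'⟩ : ∃ β : K ⟶ Q.obj E'', Q.map π = α ≫ β :=
    Triangle.yoneda_exact₂ _ hT' (Q.map π) hzero
  haveI : IsIso β := by
    rw [DerivedCategory.isIso_iff]
    intro i
    by_cases hi : m ≤ i
    · haveI := hiso i (by omega)
      haveI : IsIso ((homologyFunctor (ModuleCat.{u} R) i).map α ≫
          (homologyFunctor (ModuleCat.{u} R) i).map β) := by
        rw [← Functor.map_comp, ← hβ']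
        exact isIso_homology_πTruncGE E' m i hi
      exact IsIso.of_isIso_comp_left ((homologyFunctor (ModuleCat.{u} R) i).map α) _
    · exact isIso_of_isZero' _ (hKz i (by omega)) ((Q.obj E'').isZero_of_isGE m i (by omega))
  have eK : Q.obj E'' ≅ K := (asIso β).symm
  -- terms of E''
  have hX : ∀ i : ℤ, m < i → Nonempty (E''.X i ≅ E'.X i) := fun i hi =>
    ⟨CochainComplex.truncGEXIso E' m i hi⟩
  let N : ModuleCat.{u} R := E''.X m
  have hE''z : DRing.VanishesOutside E'' m b := by
    intro i hi'
    by_cases hi0 : i < m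
    · exact CochainComplex.isZero_of_isStrictlyGE _ m i hi0
    · have hi : b < i := by omega
      by_cases him : m < i
      · obtain ⟨e⟩ := hX i him
        exact IsZero.of_iso (hE' i (Or.inr hi)) e
      · obtain rfl : i = m := by omega
        refine IsZero.of_iso ?_ (truncGEXIsoQuot E' i)
        haveI : Subsingleton (E'.X i) := ModuleCat.subsingleton_of_isZero (hE' i (Or.inr hi))
        haveI : Subsingleton (E'.X i ⧸ LinearMap.range (E'.d (i - 1) i).hom) :=
          Quotient.instSubsingletonQuotient _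
        exact ModuleCat.isZero_of_subsingleton _
  -- finite presentation of N
  haveI := (hff m).1
  haveI := (hff m).2
  haveI := (hff (m - 1)).1
  haveI : Module.FinitePresentation R (E'.X m) := Module.finitePresentation_of_projective _ _
  have hfp : Module.FinitePresentation R (E'.X m ⧸ LinearMap.range (E'.d (m - 1) m).hom) := by
    refine Module.finitePresentation_of_surjective (LinearMap.range (E'.d (m - 1) m).hom).mkQ
      (Submodule.mkQ_surjective _) ?_
    rw [Submodule.ker_mkQ, LinearMap.range_eq_map]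
    exact Submodule.FG.map _ Module.Finite.fg_top
  -- σ_{>m} E''
  have ha : ∀ i : ℤ, i < m → IsZero (E''.X i) := fun i hi => hE''z i (Or.inl hi)
  let E₁ := (botSC E'' m ha).X₁
  let ι : E₁ ⟶ E'' := (botSC E'' m ha).f
  have hE₁z : DRing.VanishesOutside E₁ (m + 1) b := by
    intro i hi
    by_cases hia : i = m
    · subst hia
      exact botSC_X₁_isZero E'' i ha
    · haveI : IsIso (ι.f i) := botSC_f_isIso E'' m ha i hia
      refine IsZero.of_iso (hE''z i ?_) (asIso (ι.f i))
      omega
  have hE₁f : DRing.TermwiseFlat E₁ := by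
    intro i
    by_cases hia : i ≤ m
    · have hz : IsZero (E₁.X i) := hE₁z i (Or.inl (by omega))
      haveI : Subsingleton (E₁.X i) := ModuleCat.subsingleton_of_isZero hz
      infer_instance
    · haveI : IsIso (ι.f i) := botSC_f_isIso E'' m ha i (by omega)
      obtain ⟨e⟩ := hX i (by omega)
      haveI := (hff i).2
      exact Module.Flat.of_linearEquiv (asIso (ι.f i) ≪≫ e).toLinearEquiv
  let n' := max n b
  have hv₁ : TorVan (m + 1) (n' + 1) (Q.obj E₁) :=
    (torVan_of_hasTorAmplitudeIn ⟨E₁, hE₁z, hE₁f, ⟨Iso.refl _⟩⟩).mono le_rfl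
      (by simp only [n']; omega)
  have hv₂ : TorVan m n' (Q.obj E'') :=
    (hv.of_iso eK.symm).mono le_rfl (le_max_left _ _)
  have hT₃ := triangleOfSES_distinguished (botSC_shortExact E'' m ha)
  have hv₃ : TorVan m n' ((singleFunctor (ModuleCat.{u} R) m).obj N) :=
    TorVan.third _ hT₃ hv₁ hv₂
  have hv₀ : TorVan 0 (n' - m) ((singleFunctor (ModuleCat.{u} R) 0).obj N) := by
    have h' := hv₃.shift m
    have e1 : m - m = 0 := by ring
    rw [e1] at h'
    exact h'.of_iso (((singleFunctors (ModuleCat.{u} R)).shiftIso m 0 m (by omega)).app N)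
  have hNflat : Module.Flat R N := flat_of_torVan_single N hv₀
  have eN : N ≃ₗ[R] (E'.X m ⧸ LinearMap.range (E'.d (m - 1) m).hom) :=
    (truncGEXIsoQuot E' m).toLinearEquiv
  haveI : Module.Flat R (E'.X m ⧸ LinearMap.range (E'.d (m - 1) m).hom) :=
    Module.Flat.of_linearEquiv eN.symm
  haveI := hfp
  have hquotp : Module.Projective R (E'.X m ⧸ LinearMap.range (E'.d (m - 1) m).hom) :=
    Module.Flat.projective_of_finitePresentation
  refine ⟨E'', m, b, hE''z, ?_, ⟨eK⟩⟩
  intro i
  by_cases hia : i < m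
  · have hz : IsZero (E''.X i) := hE''z i (Or.inl hia)
    haveI : Subsingleton (E''.X i) := ModuleCat.subsingleton_of_isZero hz
    exact ⟨inferInstance, inferInstance⟩
  · by_cases him : m < i
    · obtain ⟨e⟩ := hX i him
      haveI := (hff i).1
      haveI := (hff i).2
      exact ⟨Module.Finite.equiv e.toLinearEquiv.symm,
        Module.Projective.of_equiv e.toLinearEquiv.symm⟩
    · obtain rfl : i = m := by omega
      exact ⟨Module.Finite.equiv eN.symm, Module.Projective.of_equiv eN.symm⟩

end Groth.Agent.Helper11.MPC
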