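import Groth.Agent.Lib.Helper11.MPC6
import Groth.Agent.Lib.Helper11.TorAmp7

/-!
Direct summands of `m`-pseudo-coherent objects.
-/

open CategoryTheory Category Limits Pretriangulated DerivedCategory ZeroObject

attribute [local instance] HasDerivedCategory.standard

universe u

namespace Groth.Agent.Helper11.MPC

open Groth.Agent.Helper11.DC Groth.Agent.Helper11.GenRes Groth.Agent.Helper11.TA

section PiBool

variable {C : Type*} [Category C] [HasZeroMorphisms C] [HasBinaryBiproducts C]

/-- a product indexed by `Bool` is a binary biproduct -/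
noncomputable def piBoolIso (X : Bool → C) [HasProduct X] : ∏ᶜ X ≅ X true ⊞ X false where
  hom := biprod.lift (Pi.π X true) (Pi.π X false)
  inv := Pi.lift (fun j => Bool.rec (motive := fun j => (X true ⊞ X false ⟶ X j))
    biprod.snd biprod.fst j)
  hom_inv_id := by
    apply Pi.hom_ext
    rintro (_ | _) <;> simp
  inv_hom_id := by
    apply biprod.hom_ext <;> simp

end PiBool

variable {R : Type u} [CommRing R]

theorem mpc_sgl (a : ℤ) (F : ModuleCat.{u} R) [Module.Finite R F] [Module.Free R F] (j : ℤ) :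
    DRing.IsPseudoCoherent R j (Q.obj (sgl a F)) :=
  mpc_of_bounded_free _ a a (sgl_vanishesOutside a F) (sgl_termwiseFiniteFree a F) j

theorem mpc_biprod {m : ℤ} {X Y : Dual.D R} (hX : DRing.IsPseudoCoherent R m X)
    (hY : DRing.IsPseudoCoherent R m Y) : DRing.IsPseudoCoherent R m (X ⊞ Y) :=
  (mpc_two_of_three _ (binaryBiproductTriangle_distinguished X Y) m).2.1 hX hY

/-- D-level top cover -/
theorem exists_top_cover (X : Dual.D R) (a : ℤ) (hfin : Module.Finite R ((Hf R a).obj X)) :
    ∃ (k : ℕ) (φ : Q.obj (sgl a (ModuleCat.of R (Fin k → R))) ⟶ X), Epi ((Hf R a).map φ) := by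
  let X' := Q.objPreimage X
  let e : Q.obj X' ≅ X := Q.objObjPreimageIso X
  have hfin' : Module.Finite R (X'.homology a) :=
    Module.Finite.equiv (((Hf R a).mapIso e).symm ≪≫
      (homologyFunctorFactors (ModuleCat.{u} R) a).app X').toLinearEquiv
  obtain ⟨k, τ, hτ⟩ := exists_top_cover_cx X' a hfin'
  refine ⟨k, Q.map τ ≫ e.hom, ?_⟩
  haveI : Epi ((Hf R a).map (Q.map τ)) :=
    (epi_map_iff_of_natIso (homologyFunctorFactors (ModuleCat.{u} R) a) τ).mpr hτ
  rw [Functor.map_comp]
  infer_instance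

theorem isLE_biprod {K L : Dual.D R} (a : ℤ) (hK : K.IsLE a) (hL : L.IsLE a) :
    (K ⊞ L).IsLE a := by
  rw [isLE_iff]
  intro i hi
  have hK0 := (isLE_iff K a).mp hK i hi
  have hL0 := (isLE_iff L a).mp hL i hi
  rw [IsZero.iff_id_eq_zero, ← CategoryTheory.Functor.map_id, ← biprod.total, Functor.map_add,
    Functor.map_comp, Functor.map_comp, hK0.eq_of_tgt ((Hf R i).map biprod.fst) 0,
    hL0.eq_of_tgt ((Hf R i).map biprod.snd) 0, zero_comp, zero_comp, add_zero]

theorem isLE_of_biprod {K L : Dual.D R} (a : ℤ) (h : (K ⊞ L).IsLE a) : K.IsLE a ∧ L.IsLE a := by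
  constructor
  · rw [isLE_iff]
    intro i hi
    exact isZero_of_retract ((Hf R i).map biprod.inl) ((Hf R i).map biprod.fst)
      (by rw [← Functor.map_comp, biprod.inl_fst, CategoryTheory.Functor.map_id])
      ((isLE_iff _ a).mp h i hi)
  · rw [isLE_iff]
    intro i hi
    exact isZero_of_retract ((Hf R i).map biprod.inr) ((Hf R i).map biprod.snd)
      (by rw [← Functor.map_comp, biprod.inr_snd, CategoryTheory.Functor.map_id])
      ((isLE_iff _ a).mp h i hi)

theorem finite_of_retract {X Y : ModuleCat.{u} R} (i : X ⟶ Y) (r : Y ⟶ X) (h : i ≫ r = 𝟙 X)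
    (hY : Module.Finite R Y) : Module.Finite R X :=
  Module.Finite.of_surjective r.hom (fun x => ⟨i.hom x, congr($(h).hom x)⟩)

/-- killing the top cohomology: the cone of a top cover -/
theorem exists_kill_top (K : Dual.D R) (a : ℤ) (hK : K.IsLE a)
    (hfin : Module.Finite R ((Hf R a).obj K)) :
    ∃ T : Triangle (Dual.D R), T ∈ distTriang (Dual.D R) ∧ T.obj₂ = K ∧ T.obj₃.IsLE (a - 1) ∧
      ∀ j : ℤ, DRing.IsPseudoCoherent R j T.obj₁ := by
  obtain ⟨k, φ, hφ⟩ := exists_top_cover K a hfin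
  obtain ⟨K', g, h, hT⟩ := distinguished_cocone_triangle φ
  refine ⟨_, hT, rfl, ?_, fun j => mpc_sgl a _ j⟩
  refine cone_isLE φ g h hT (fun i hi => ?_) hφ
  exact isIso_of_isZero' _ (sgl_isZero_homology a _ i (by omega)) ((isLE_iff K a).mp hK i hi)

theorem mpc_summands_aux (m : ℤ) (n : ℕ) : ∀ (K L : Dual.D R) (a : ℤ), a < m + n → K.IsLE a →
    L.IsLE a → DRing.IsPseudoCoherent R m (K ⊞ L) →
    DRing.IsPseudoCoherent R m K ∧ DRing.IsPseudoCoherent R m L := by
  induction n with
  | zero =>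
    intro K L a ha hK hL _
    exact ⟨mpc_of_isZero_homology K (fun i hi => (isLE_iff K a).mp hK i (by omega)),
      mpc_of_isZero_homology L (fun i hi => (isLE_iff L a).mp hL i (by omega))⟩
  | succ n ih =>
    intro K L a ha hK hL h
    by_cases ham : a < m
    · exact ⟨mpc_of_isZero_homology K (fun i hi => (isLE_iff K a).mp hK i (by omega)),
        mpc_of_isZero_homology L (fun i hi => (isLE_iff L a).mp hL i (by omega))⟩
    · haveI : (K ⊞ L).IsLE a := isLE_biprod a hK hL
      have hfinKL : Module.Finite R ((Hf R a).obj (K ⊞ L)) :=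
        finite_top_homology (mpc_of_le (by omega) h)
      have hfinK : Module.Finite R ((Hf R a).obj K) :=
        finite_of_retract ((Hf R a).map biprod.inl) ((Hf R a).map biprod.fst)
          (by rw [← Functor.map_comp, biprod.inl_fst, CategoryTheory.Functor.map_id]) hfinKL
      have hfinL : Module.Finite R ((Hf R a).obj L) :=
        finite_of_retract ((Hf R a).map biprod.inr) ((Hf R a).map biprod.snd)
          (by rw [← Functor.map_comp, biprod.inr_snd, CategoryTheory.Functor.map_id]) hfinKL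
      obtain ⟨TK, hTK, rfl, hTK3, hTK1⟩ := exists_kill_top K a hK hfinK
      obtain ⟨TL, hTL, rfl, hTL3, hTL1⟩ := exists_kill_top L a hL hfinL
      let T : Bool → Triangle (Dual.D R) := fun j => Bool.rec TL TK j
      have hT : ∀ j, T j ∈ distTriang (Dual.D R) := by
        rintro (_ | _)
        · exact hTL
        · exact hTK
      have hP := productTriangle_distinguished T hT
      have h1 : DRing.IsPseudoCoherent R (m + 1) (productTriangle T).obj₁ :=
        mpc_of_iso (piBoolIso (fun j => (T j).obj₁)).symm (mpc_biprod (hTK1 _) (hTL1 _))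
      have h2 : DRing.IsPseudoCoherent R m (productTriangle T).obj₂ :=
        mpc_of_iso (piBoolIso (fun j => (T j).obj₂)).symm h
      have h3 : DRing.IsPseudoCoherent R m (TK.obj₃ ⊞ TL.obj₃) :=
        mpc_of_iso (piBoolIso (fun j => (T j).obj₃)) (mpc_third _ hP m h1 h2)
      obtain ⟨h3K, h3L⟩ := ih TK.obj₃ TL.obj₃ (a - 1) (by omega) hTK3 hTL3 h3
      exact ⟨(mpc_two_of_three TK hTK m).2.1 (hTK1 m) h3K,
        (mpc_two_of_three TL hTL m).2.1 (hTL1 m) h3L⟩

/-- direct summands of `m`-pseudo-coherent objects are `m`-pseudo-coherent -/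
theorem mpc_summands {m : ℤ} {K L : Dual.D R} (h : DRing.IsPseudoCoherent R m (K ⊞ L)) :
    DRing.IsPseudoCoherent R m K ∧ DRing.IsPseudoCoherent R m L := by
  obtain ⟨b, hb⟩ := exists_isLE_of_mpc h
  obtain ⟨hK, hL⟩ := isLE_of_biprod b hb
  exact mpc_summands_aux m (b - m + 1).toNat K L b (by omega) hK hL h

theorem pc'_summands {K L : Dual.D R} (h : DRing.IsPseudoCoherent' R (K ⊞ L)) :
    DRing.IsPseudoCoherent' R K ∧ DRing.IsPseudoCoherent' R L :=
  ⟨pc'_of_forall_mpc (fun m => (mpc_summands (mpc_of_pc' h m)).1),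
    pc'_of_forall_mpc (fun m => (mpc_summands (mpc_of_pc' h m)).2)⟩

theorem torVan_of_perfect {K : Dual.D R} (h : DRing.IsPerfect R K) : ∃ a b : ℤ, TorVan a b K := by
  obtain ⟨E, a, b, hE, hfp, e⟩ := h
  refine ⟨a, b, torVan_of_hasTorAmplitudeIn ⟨E, hE, fun i => ?_, e⟩⟩
  haveI := (hfp i).2
  infer_instance

theorem perfect_summands {K L : Dual.D R} (h : DRing.IsPerfect R (K ⊞ L)) :
    DRing.IsPerfect R K ∧ DRing.IsPerfect R L := by
  obtain ⟨a, b, hv⟩ := torVan_of_perfect h
  obtain ⟨hvK, hvL⟩ := TorVan.biprod_both K L hv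
  obtain ⟨hK, hL⟩ := pc'_summands (pc_of_perfect h)
  exact ⟨isPerfect_of_pc_of_torVan hK hvK, isPerfect_of_pc_of_torVan hL hvL⟩

end Groth.Agent.Helper11.MPC
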