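import Groth.Agent.Lib.Helper12.ModHomology
import Groth.Agent.Lib.Helper11.Lift9

/-!
Minimal complexes over a local ring: elementwise quasi-isomorphisms and formality over a field
(helper11).
-/

set_option autoImplicit false

open CategoryTheory CategoryTheory.Limits

universe u

namespace Groth.Agent.Helper11.MinCx

open Groth.Agent.Helper12.ModHomology

variable {k : Type u} [CommRing k]

/-- elementwise criterion for a quasi-isomorphism in a given degree -/
theorem quasiIsoAt_of_elementwise {E F : DRing.Cx k} (f : E ⟶ F) (j : ℤ)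
    (hinj : ∀ x : E.X j, (E.d j (j + 1)).hom x = 0 →
      (∃ y : F.X (j - 1), (F.d (j - 1) j).hom y = (f.f j).hom x) →
        ∃ z : E.X (j - 1), (E.d (j - 1) j).hom z = x)
    (hsurj : ∀ y : F.X j, (F.d j (j + 1)).hom y = 0 →
      ∃ x : E.X j, (E.d j (j + 1)).hom x = 0 ∧
        ∃ w : F.X (j - 1), (F.d (j - 1) j).hom w = y - (f.f j).hom x) :
    QuasiIsoAt f j := by
  rw [quasiIsoAt_iff' f (j - 1) j (j + 1) (by simp) (by simp)]
  rw [quasiIso_iff_bijective]
  constructor
  · rw [injective_iff_map_eq_zero]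
    intro q hq
    obtain ⟨xk, rfl⟩ := Submodule.Quotient.mk_surjective _ q
    have h1 : (Submodule.Quotient.mk (kerMap
        ((HomologicalComplex.shortComplexFunctor' _ _ (j - 1) j (j + 1)).map f) xk) :
        _ ⧸ LinearMap.range _) = 0 := hq
    rw [Submodule.Quotient.mk_eq_zero] at h1 ⊢
    obtain ⟨y, hy⟩ := h1
    obtain ⟨z, hz⟩ := hinj xk.1 xk.2 ⟨y, congrArg Subtype.val hy⟩
    exact ⟨z, Subtype.ext hz⟩
  · intro q
    obtain ⟨yk, rfl⟩ := Submodule.Quotient.mk_surjective _ q
    obtain ⟨x, hx, w, hw⟩ := hsurj yk.1 yk.2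
    refine ⟨Submodule.Quotient.mk ⟨x, hx⟩, ?_⟩
    show (Submodule.Quotient.mk (kerMap
        ((HomologicalComplex.shortComplexFunctor' _ _ (j - 1) j (j + 1)).map f) ⟨x, hx⟩) :
        _ ⧸ LinearMap.range _) = Submodule.Quotient.mk yk
    rw [eq_comm, Submodule.Quotient.eq]
    exact ⟨w, Subtype.ext hw⟩

variable (C : DRing.Cx k)

/-- the cohomology complex with zero differentials -/
noncomputable abbrev Hcx : DRing.Cx k where
  X i := C.homology i
  d _ _ := 0
  shape _ _ _ := rfl
  d_comp_d' _ _ _ _ _ := zero_comp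

theorem Hcx_d (i j : ℤ) : (Hcx C).d i j = 0 := rfl

/-- formality: a complex with projective cohomology modules receives a quasi-isomorphism from its
cohomology -/
theorem exists_formal (hproj : ∀ i, Module.Projective k (C.homology i)) :
    ∃ σ : Hcx C ⟶ C, QuasiIso σ := by
  have hπs : ∀ i, Function.Surjective (C.homologyπ i).hom := fun i =>
    (ModuleCat.epi_iff_surjective _).mp inferInstance
  have hιi : ∀ i, Function.Injective (C.iCycles i).hom := fun i =>
    (ModuleCat.mono_iff_injective _).mp inferInstance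
  have hsec : ∀ i, ∃ s : C.homology i ⟶ C.cycles i, s ≫ C.homologyπ i = 𝟙 _ :=
    fun i => by
      haveI := hproj i
      obtain ⟨s, hs⟩ := Module.projective_lifting_property (C.homologyπ i).hom LinearMap.id (hπs i)
      exact ⟨ModuleCat.ofHom s, ModuleCat.hom_ext hs⟩
  choose s hs using hsec
  have hs' : ∀ i (x : C.homology i), (C.homologyπ i).hom ((s i).hom x) = x :=
    fun i x => congr($(hs i).hom x)
  let σ : Hcx C ⟶ C :=
    { f := fun i => (s i ≫ C.iCycles i : C.homology i ⟶ C.X i)
      comm' := fun i j _ => by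
        have hl : (s i ≫ C.iCycles i : C.homology i ⟶ C.X i) ≫ C.d i j = 0 := by
          rw [Category.assoc, C.iCycles_d, comp_zero]
        exact hl.trans zero_comp.symm }
  have hσ : ∀ i (x : C.homology i), (σ.f i).hom x = (C.iCycles i).hom ((s i).hom x) :=
    fun _ _ => rfl
  refine ⟨σ, ⟨fun j => quasiIsoAt_of_elementwise σ j
    (fun (x : C.homology j) _ h => ?_) (fun y hy => ?_)⟩⟩
  · obtain ⟨y, hy⟩ := h
    refine ⟨0, ?_⟩
    rw [map_zero]
    have h1 : (C.iCycles j).hom ((C.toCycles (j - 1) j).hom y) = (C.d (j - 1) j).hom y :=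
      congr($(C.toCycles_i (j - 1) j).hom y)
    have h2 : (C.toCycles (j - 1) j).hom y = (s j).hom x := by
      apply hιi j
      rw [h1, hy]
      rfl
    have h3 : (C.homologyπ j).hom ((C.toCycles (j - 1) j).hom y) = 0 :=
      congr($(C.toCycles_comp_homologyπ (j - 1) j).hom y)
    rw [h2, hs'] at h3
    exact h3.symm
  · let L : ModuleCat.{u} k := ModuleCat.of k (LinearMap.ker (C.d j (j + 1)).hom)
    let kk : L ⟶ C.X j := ModuleCat.ofHom (LinearMap.ker (C.d j (j + 1)).hom).subtype
    have hkk : kk ≫ C.d j (j + 1) = 0 := by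
      apply ModuleCat.hom_ext
      apply LinearMap.ext
      intro z
      exact z.2
    let y' : C.cycles j := (C.liftCycles kk (j + 1) (by simp) hkk).hom ⟨y, hy⟩
    have hy' : (C.iCycles j).hom y' = y :=
      congr($(C.liftCycles_i kk (j + 1) (by simp) hkk).hom ⟨y, hy⟩)
    refine ⟨(C.homologyπ j).hom y', ?_, ?_⟩
    · rw [Hcx_d]
      rfl
    · have hex : (ShortComplex.mk (C.toCycles (j - 1) j) (C.homologyπ j)
          (C.toCycles_comp_homologyπ (j - 1) j)).Exact :=
        ShortComplex.exact_of_g_is_cokernel _ (C.homologyIsCokernel (j - 1) j (by simp))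
      rw [ShortComplex.moduleCat_exact_iff] at hex
      obtain ⟨w, hw⟩ := hex (y' - (s j).hom ((C.homologyπ j).hom y')) (by
        show (C.homologyπ j).hom (y' - (s j).hom ((C.homologyπ j).hom y')) = 0
        rw [map_sub, hs', sub_self])
      refine ⟨w, ?_⟩
      have h1 : (C.iCycles j).hom ((C.toCycles (j - 1) j).hom w) = (C.d (j - 1) j).hom w :=
        congr($(C.toCycles_i (j - 1) j).hom w)
      have hw' : (C.toCycles (j - 1) j).hom w = y' - (s j).hom ((C.homologyπ j).hom y') := hw
      rw [← h1, hw', map_sub, hy']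
      rfl

end Groth.Agent.Helper11.MinCx
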