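import Groth.Agent.Lib.Helper12.MinimalComplex
import Groth.Agent.Lib.Helper11.MinCx1

/-!
Minimal complexes over a local ring: uniqueness ingredients (helper11).
-/

set_option autoImplicit false

open CategoryTheory CategoryTheory.Limits

universe u

namespace Groth.Agent.Helper11.MinCx

open Groth.Agent.Helper12.ModHomology Groth.Agent.Helper12.MinimalComplex
  Groth.Agent.Helper11.Lift Groth.Agent.Helper11.TA

section Field

variable {k : Type u} [CommRing k]

/-- over a field, a complex of finite dimensional spaces whose cohomology has the dimension of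
its terms has zero differentials -/
theorem d_eq_zero_of_finrank (hk : IsField k) (C : DRing.Cx k)
    (hfin : ∀ i, Module.Finite k (C.X i))
    (h : ∀ i, Module.finrank k (C.homology i) = Module.finrank k (C.X i)) (i j : ℤ) :
    C.d i j = 0 := by
  letI := hk.toField
  haveI := hfin i
  have hι : Function.Injective (C.iCycles i).hom := (ModuleCat.mono_iff_injective _).mp inferInstance
  have hπ : Function.Surjective (C.homologyπ i).hom :=
    (ModuleCat.epi_iff_surjective _).mp inferInstance
  haveI : Module.Finite k (C.cycles i) := Module.Finite.of_injective (C.iCycles i).hom hι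
  have h1 : Module.finrank k (C.homology i) ≤ Module.finrank k (C.cycles i) :=
    LinearMap.finrank_le_finrank_of_surjective hπ
  have h2 : Module.finrank k (C.cycles i) ≤ Module.finrank k (C.X i) :=
    LinearMap.finrank_le_finrank_of_injective hι
  have h3 : Module.finrank k (C.cycles i) = Module.finrank k (C.X i) :=
    le_antisymm h2 ((h i).symm.le.trans h1)
  have hsurj : Function.Surjective (C.iCycles i).hom :=
    (LinearMap.injective_iff_surjective_of_finrank_eq_finrank h3).mp hι
  apply ModuleCat.hom_ext
  apply LinearMap.ext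
  intro x
  obtain ⟨z, rfl⟩ := hsurj x
  exact congr($(C.iCycles_d i j).hom z)

end Field

section Ideal

variable {R : Type u} [CommRing R] {I : Ideal R}

/-- if the reduction of a differential vanishes, the differential has image in `I • ⊤` -/
theorem range_d_le_of_reduction_zero (P : DRing.Cx R) (i j : ℤ)
    (h : ((esC (Ideal.Quotient.mk I)).obj P).d i j = 0) :
    LinearMap.range (P.d i j).hom ≤ I • (⊤ : Submodule R (P.X j)) := by
  rintro _ ⟨x, rfl⟩
  rw [← ker_red (P.X j) ((es (Ideal.Quotient.mk I)).obj (P.X j))
    (esEquiv (I := I) (P.X j)).symm, LinearMap.mem_ker]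
  refine (redQ_nat (I := I) P i j x).trans ?_
  rw [h]
  rfl

end Ideal

section Local

variable {R : Type u} [CommRing R] [IsLocalRing R]

omit [IsLocalRing R] in
theorem f_d' {E F : DRing.Cx R} (f : E ⟶ F) (i j : ℤ) (x : E.X i) :
    (f.f j).hom ((E.d i j).hom x) = (F.d i j).hom ((f.f i).hom x) :=
  (congr($(f.comm i j).hom x)).symm

omit [IsLocalRing R] in
theorem d_d' (E : DRing.Cx R) (i j l : ℤ) (x : E.X i) :
    (E.d j l).hom ((E.d i j).hom x) = 0 :=
  congr($(E.d_comp_d i j l).hom x)

/-- a quasi-isomorphism between bounded above minimal complexes is bijective in each degree -/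
theorem bijective_of_quasiIso_minimal (P Q : DRing.Cx R) (b : ℤ)
    (hPb : DRing.VanishesAbove P b) (hQb : DRing.VanishesAbove Q b)
    (hP : ∀ i, Module.Finite R (P.X i))
    (hQ : ∀ i, Module.Finite R (Q.X i) ∧ Module.Projective R (Q.X i))
    (hPmin : ∀ i j, LinearMap.range (P.d i j).hom ≤
      IsLocalRing.maximalIdeal R • (⊤ : Submodule R (P.X j)))
    (hQmin : ∀ i j, LinearMap.range (Q.d i j).hom ≤
      IsLocalRing.maximalIdeal R • (⊤ : Submodule R (Q.X j)))
    (f : P ⟶ Q) [QuasiIso f] (i : ℤ) : Function.Bijective (f.f i).hom := by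
  suffices H : ∀ (n : ℕ) (i : ℤ), b < i + n → Function.Bijective (f.f i).hom from
    H (b - i + 1).toNat i (by omega)
  intro n
  induction n with
  | zero =>
    intro i hi
    haveI : Subsingleton (P.X i) := ModuleCat.subsingleton_of_isZero (hPb i (by simpa using hi))
    haveI : Subsingleton (Q.X i) := ModuleCat.subsingleton_of_isZero (hQb i (by simpa using hi))
    exact ⟨fun _ _ _ => Subsingleton.elim _ _, fun y => ⟨0, Subsingleton.elim _ _⟩⟩
  | succ n ih =>
    intro i hi
    have hb1 : Function.Bijective (f.f (i + 1)).hom := ih (i + 1) (by push_cast at hi; omega)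
    have hb2 : Function.Bijective (f.f (i + 1 + 1)).hom :=
      ih (i + 1 + 1) (by push_cast at hi; omega)
    haveI := hP i
    haveI := (hQ i).1
    haveI := (hQ i).2
    apply bijective_of_nakayama (f.f i).hom
    · intro y
      obtain ⟨x', hx'⟩ := hb1.2 ((Q.d i (i + 1)).hom y)
      have hx'cyc : (P.d (i + 1) (i + 1 + 1)).hom x' = 0 := by
        apply hb2.1
        rw [f_d', hx', d_d', map_zero]
      obtain ⟨z, hz⟩ := inj_of_quasiIsoAt f i (i + 1) (i + 1 + 1) (by simp) (by simp) x' hx'cyc
        ⟨y, hx'.symm⟩
      have hz' : (P.d i (i + 1)).hom z = x' := hz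
      have hcyc : (Q.d i (i + 1)).hom (y - (f.f i).hom z) = 0 := by
        rw [map_sub, ← f_d', hz', hx', sub_self]
      obtain ⟨x, -, w, hw⟩ := surj_of_quasiIsoAt f (i - 1) i (i + 1) (by simp) (by simp)
        (y - (f.f i).hom z) hcyc
      have hw' : (Q.d (i - 1) i).hom w = y - (f.f i).hom z - (f.f i).hom x := hw
      refine ⟨z + x, ?_⟩
      have h1 : y - (f.f i).hom (z + x) = (Q.d (i - 1) i).hom w := by
        rw [hw', map_add]
        abel
      rw [h1]
      exact hQmin (i - 1) i ⟨w, rfl⟩
    · intro x hx
      have hxc : (P.d i (i + 1)).hom x = 0 := by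
        apply hb1.1
        rw [f_d', hx, map_zero, map_zero]
      obtain ⟨z, hz⟩ := inj_of_quasiIsoAt f (i - 1) i (i + 1) (by simp) (by simp) x hxc
        ⟨0, by rw [map_zero]; exact hx.symm⟩
      have hz' : (P.d (i - 1) i).hom z = x := hz
      rw [← hz']
      exact hPmin (i - 1) i ⟨z, rfl⟩

omit [IsLocalRing R] in
/-- a morphism of complexes which is bijective in each degree is an isomorphism -/
theorem isIso_of_bijective {P Q : DRing.Cx R} (f : P ⟶ Q)
    (h : ∀ i, Function.Bijective (f.f i).hom) : IsIso f := by
  haveI : ∀ i, IsIso (f.f i) := fun i =>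
    (ConcreteCategory.isIso_iff_bijective (f.f i)).mpr (h i)
  exact HomologicalComplex.Hom.isIso_of_components f

end Local

end Groth.Agent.Helper11.MinCx
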