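import Groth.Agent.Lib.Helper11.MinCx2
import Mathlib.RingTheory.LocalRing.Module

/-!
Minimal complexes over a local ring: existence and uniqueness (helper11).
-/

set_option autoImplicit false

open CategoryTheory CategoryTheory.Limits TensorProduct

universe u

namespace Groth.Agent.Helper11.MinCx

open Groth.Agent.Helper11.Lift Groth.Agent.Helper11.TA Groth.Agent.Helper11.DC

attribute [local instance] HasDerivedCategory.standard

variable (R : Type u) [CommRing R] [IsLocalRing R]

local notation "𝔪" => IsLocalRing.maximalIdeal R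

theorem isField_quot : IsField (R ⧸ 𝔪) :=
  (Ideal.Quotient.maximal_ideal_iff_isField_quotient 𝔪).mp (IsLocalRing.maximalIdeal.isMaximal R)

theorem max_le_jacobson : 𝔪 ≤ Ideal.jacobson (⊥ : Ideal R) := by
  rw [IsLocalRing.jacobson_eq_maximalIdeal ⊥ bot_ne_top]

variable {R}

/-- the dimension of a term of the reduction -/
theorem finrank_esC (P : DRing.Cx R) (i : ℤ) [Module.Free R (P.X i)] :
    Module.finrank (R ⧸ 𝔪) (((esC (Ideal.Quotient.mk 𝔪)).obj P).X i) =
      Module.finrank R (P.X i) := by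
  haveI : Nontrivial (R ⧸ 𝔪) := (isField_quot R).nontrivial
  exact ((esEquiv (I := 𝔪) (P.X i)).finrank_eq).trans Module.finrank_baseChange

theorem finite_esC (P : DRing.Cx R) (i : ℤ) [Module.Finite R (P.X i)] :
    Module.Finite (R ⧸ 𝔪) (((esC (Ideal.Quotient.mk 𝔪)).obj P).X i) :=
  Module.Finite.equiv (esEquiv (I := 𝔪) (P.X i)).symm

variable (K : Dual.D R)

/-- the cohomology of the derived fibre computed on a representative -/
theorem nonempty_HD_equiv [DRing.HasLBaseChange (Ideal.Quotient.mk 𝔪)] (P : DRing.Cx R) (c : ℤ) (hc : DRing.VanishesAbove P c)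
    (hp : ∀ i, Module.Projective R (P.X i)) (eP : DRing.toD P ≅ K) (i : ℤ) :
    Nonempty (Dual.HD (R ⧸ 𝔪) ((DRing.LBaseChange (Ideal.Quotient.mk 𝔪)).obj K) i ≃ₗ[R ⧸ 𝔪]
      ((esC (Ideal.Quotient.mk 𝔪)).obj P).homology i) := by
  obtain ⟨eL⟩ := Groth.Agent.Helper11.LDer.nonempty_LBaseChange_iso_of_projRes
    (Ideal.Quotient.mk 𝔪) K P c hc hp eP
  exact ⟨((DerivedCategory.homologyFunctor (ModuleCat.{u} (R ⧸ 𝔪)) i).mapIso eL ≪≫
    (DerivedCategory.homologyFunctorFactors (ModuleCat.{u} (R ⧸ 𝔪)) i).app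
      ((esC (Ideal.Quotient.mk 𝔪)).obj P)).toLinearEquiv⟩

/-- a complex of free modules with the minimal ranks has differentials in `𝔪` -/
theorem range_d_le_of_minimal [DRing.HasLBaseChange (Ideal.Quotient.mk 𝔪)] (P : DRing.Cx R) (c : ℤ) (hc : DRing.VanishesAbove P c)
    (hP : ∀ i : ℤ, Module.Free R (P.X i) ∧ Module.Finite R (P.X i) ∧
      Module.finrank R (P.X i) = Module.finrank (R ⧸ 𝔪)
        (Dual.HD (R ⧸ 𝔪) ((DRing.LBaseChange (Ideal.Quotient.mk 𝔪)).obj K) i))
    (eP : DRing.toD P ≅ K) (i j : ℤ) :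
    LinearMap.range (P.d i j).hom ≤ 𝔪 • (⊤ : Submodule R (P.X j)) := by
  apply range_d_le_of_reduction_zero
  apply d_eq_zero_of_finrank (isField_quot R)
  · intro l
    haveI := (hP l).2.1
    exact finite_esC P l
  · intro l
    haveI := (hP l).1
    obtain ⟨e⟩ := nonempty_HD_equiv K P c hc (fun l => by
      haveI := (hP l).1
      infer_instance) eP l
    rw [finrank_esC, (hP l).2.2, e.finrank_eq]

end Groth.Agent.Helper11.MinCx
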