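import Groth.Agent.Lib.Helper11.MinCx3

/-!
Minimal complexes over a local ring: main theorems (helper11).
-/

set_option autoImplicit false

open CategoryTheory CategoryTheory.Limits TensorProduct

universe u

namespace Groth.Agent.Helper11.MinCx

open Groth.Agent.Helper11.Lift Groth.Agent.Helper11.TA Groth.Agent.Helper11.DC

attribute [local instance] HasDerivedCategory.standard

variable {R : Type u} [CommRing R] [IsLocalRing R]

local notation "𝔪" => IsLocalRing.maximalIdeal R

/-- uniqueness of minimal complexes -/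
theorem nonempty_iso_of_minimal [DRing.HasLBaseChange (Ideal.Quotient.mk 𝔪)] (K : Dual.D R)
    (P P' : DRing.Cx R) (c c' : ℤ) (hc : DRing.VanishesAbove P c)
    (hc' : DRing.VanishesAbove P' c')
    (hP : ∀ i : ℤ, Module.Free R (P.X i) ∧ Module.Finite R (P.X i) ∧
      Module.finrank R (P.X i) = Module.finrank (R ⧸ 𝔪)
        (Dual.HD (R ⧸ 𝔪) ((DRing.LBaseChange (Ideal.Quotient.mk 𝔪)).obj K) i))
    (hP' : ∀ i : ℤ, Module.Free R (P'.X i) ∧ Module.Finite R (P'.X i) ∧
      Module.finrank R (P'.X i) = Module.finrank (R ⧸ 𝔪)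
        (Dual.HD (R ⧸ 𝔪) ((DRing.LBaseChange (Ideal.Quotient.mk 𝔪)).obj K) i))
    (eP : DRing.toD P ≅ K) (eP' : DRing.toD P' ≅ K) : Nonempty (P ≅ P') := by
  have hproj : ∀ i, Module.Projective R (P.X i) := fun i => by
    haveI := (hP i).1
    infer_instance
  have hproj' : ∀ i, Module.Projective R (P'.X i) := fun i => by
    haveI := (hP' i).1
    infer_instance
  haveI : P.IsKProjective := isKProjective_of_vanishesAbove P c hc hproj
  obtain ⟨f, hf⟩ := exists_lift_of_isKProjective P P' (eP ≪≫ eP'.symm).hom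
  have hiso : IsIso (DerivedCategory.Q.map f) := by
    rw [hf]
    infer_instance
  haveI : QuasiIso f := (DerivedCategory.isIso_Q_map_iff_quasiIso (φ := f)).mp hiso
  have hb := bijective_of_quasiIso_minimal P P' (max c c')
    (fun i hi => hc i (by have := le_max_left c c'; omega))
    (fun i hi => hc' i (by have := le_max_right c c'; omega))
    (fun i => (hP i).2.1) (fun i => ⟨(hP' i).2.1, hproj' i⟩)
    (range_d_le_of_minimal K P c hc hP eP) (range_d_le_of_minimal K P' c' hc' hP' eP') f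
  haveI := isIso_of_bijective f hb
  exact ⟨asIso f⟩

/-- existence of minimal complexes -/
theorem exists_minimal [DRing.HasLBaseChange (Ideal.Quotient.mk 𝔪)] (K : Dual.D R)
    (hK : DRing.IsPseudoCoherent' R K) :
    (∀ i : ℤ, Module.Finite (R ⧸ 𝔪)
      (Dual.HD (R ⧸ 𝔪) ((DRing.LBaseChange (Ideal.Quotient.mk 𝔪)).obj K) i)) ∧
    (∃ b : ℤ, ∀ i : ℤ, b < i → Subsingleton
      (Dual.HD (R ⧸ 𝔪) ((DRing.LBaseChange (Ideal.Quotient.mk 𝔪)).obj K) i)) ∧
    ∃ P : DRing.Cx R, (∃ b : ℤ, DRing.VanishesAbove P b) ∧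
      (∀ i : ℤ, Module.Free R (P.X i) ∧ Module.Finite R (P.X i) ∧
        Module.finrank R (P.X i) = Module.finrank (R ⧸ 𝔪)
          (Dual.HD (R ⧸ 𝔪) ((DRing.LBaseChange (Ideal.Quotient.mk 𝔪)).obj K) i)) ∧
      Nonempty (DRing.toD P ≅ K) := by
  obtain ⟨Q, c, hQc, hQ, ⟨eQ⟩⟩ := hK
  let Qb : DRing.Cx (R ⧸ 𝔪) := (esC (Ideal.Quotient.mk 𝔪)).obj Q
  have hQp : ∀ i, Module.Projective R (Q.X i) := fun i => by
    haveI := (hQ i).2
    infer_instance
  have hHD := nonempty_HD_equiv K Q c hQc hQp eQ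
  have hfinX : ∀ i, Module.Finite (R ⧸ 𝔪) (Qb.X i) := fun i => by
    haveI := (hQ i).1
    exact finite_esC Q i
  have hfinH : ∀ i, Module.Finite (R ⧸ 𝔪) (Qb.homology i) := fun i => by
    letI := (isField_quot R).toField
    haveI := hfinX i
    have hι : Function.Injective (Qb.iCycles i).hom :=
      (ModuleCat.mono_iff_injective _).mp inferInstance
    have hπ : Function.Surjective (Qb.homologyπ i).hom :=
      (ModuleCat.epi_iff_surjective _).mp inferInstance
    haveI : Module.Finite (R ⧸ 𝔪) (Qb.cycles i) := Module.Finite.of_injective _ hι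
    exact Module.Finite.of_surjective _ hπ
  have hzeroH : ∀ i, c < i → IsZero (Qb.homology i) := fun i hi =>
    (HomologicalComplex.exactAt_iff_isZero_homology _ _).mp
      (ShortComplex.exact_of_isZero_X₂ _ ((es (Ideal.Quotient.mk 𝔪)).map_isZero (hQc i hi)))
  refine ⟨fun i => ?_, ⟨c, fun i hi => ?_⟩, ?_⟩
  · obtain ⟨e⟩ := hHD i
    haveI := hfinH i
    exact Module.Finite.equiv e.symm
  · obtain ⟨e⟩ := hHD i
    haveI := ModuleCat.subsingleton_of_isZero (hzeroH i hi)
    exact e.toEquiv.subsingleton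
  · have hEc : DRing.VanishesAbove (Hcx Qb) c := hzeroH
    have hfree : ∀ i, Module.Free (R ⧸ 𝔪) ((Hcx Qb).X i) := fun i => by
      letI := (isField_quot R).toField
      exact Module.Free.of_divisionRing _ _
    have hlift : ∀ i, ∃ F : ModuleCat.{u} R, Module.Finite R F ∧ Module.Free R F ∧
        Nonempty ((R ⧸ 𝔪) ⊗[R] F ≃ₗ[R ⧸ 𝔪] (Hcx Qb).X i) := fun i => by
      haveI : Module.Finite (R ⧸ 𝔪) ((Hcx Qb).X i) := hfinH i
      haveI := hfree i
      exact exists_free_lift (I := 𝔪) ((Hcx Qb).X i)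
    choose X hXfin hXfree he using hlift
    obtain ⟨σ, hσ⟩ := exists_formal Qb (fun i => by
      haveI : Module.Free (R ⧸ 𝔪) (Qb.homology i) := hfree i
      infer_instance)
    obtain ⟨eL⟩ := Groth.Agent.Helper11.LDer.nonempty_LBaseChange_iso_of_projRes
      (Ideal.Quotient.mk 𝔪) K Q c hQc hQp eQ
    haveI : IsIso (DerivedCategory.Q.map σ) := (DerivedCategory.isIso_Q_map_iff_quasiIso (φ := σ)).mpr hσ
    have hE : Nonempty (DRing.toD (Hcx Qb) ≅
        (DRing.LBaseChange (Ideal.Quotient.mk 𝔪)).obj K) :=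
      ⟨asIso (DerivedCategory.Q.map σ) ≪≫ eL.symm⟩
    let Pc : ObjectProperty (ModuleCat.{u} R) := fun X => Module.Finite R X ∧ Module.Free R X
    haveI : Pc.IsClosedUnderIsomorphisms := ⟨fun {X Y} e h => by
      haveI := h.1
      haveI := h.2
      exact ⟨Module.Finite.equiv e.toLinearEquiv, Module.Free.of_equiv e.toLinearEquiv⟩⟩
    have h1 : ∀ X : ModuleCat.{u} R, Pc X → Module.Projective R X := fun X h => by
      haveI := h.2
      infer_instance
    have h2 : ∀ X Y : ModuleCat.{u} R, Pc X → (Pc (ModuleCat.of R (X × Y)) ↔ Pc Y) := by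
      intro X Y hX
      haveI := hX.1
      haveI := hX.2
      constructor
      · intro hXY
        haveI : Module.Finite R (X × Y) := hXY.1
        haveI : Module.Free R (X × Y) := hXY.2
        haveI : Module.Finite R Y :=
          Module.Finite.of_surjective (LinearMap.snd R X Y) LinearMap.snd_surjective
        haveI : Module.Projective R (X × Y) := Module.Projective.of_free
        haveI : Module.Projective R Y :=
          Module.Projective.of_split (LinearMap.inr R X Y) (LinearMap.snd R X Y)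
            (LinearMap.ext fun _ => rfl)
        exact ⟨inferInstance, Module.free_of_flat_of_isLocalRing⟩
      · intro hY
        haveI := hY.1
        haveI := hY.2
        exact ⟨inferInstanceAs (Module.Finite R (X × Y)),
          inferInstanceAs (Module.Free R (X × Y))⟩
    have h3 : ∀ (X Y : ModuleCat.{u} R) (f : X ⟶ Y), Pc X → Pc Y →
        LinearMap.range f.hom ⊔ 𝔪 • (⊤ : Submodule R Y) = ⊤ → Function.Surjective f.hom :=
      fun X Y f _ hY h => by
        haveI := hY.1
        exact surjective_of_jacobson (max_le_jacobson R) f.hom h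
    obtain ⟨d, sq, hv, ⟨iso⟩, _⟩ := exists_representative Pc Q (Hcx Qb) X
      (fun i => (he i).some) h1 h2 h3 K c hQc (fun i => ⟨(hQ i).1, (hQ i).2⟩) eQ c hEc
      (fun i => ⟨hXfin i, hXfree i⟩) hE
    refine ⟨CochainComplex.of X d sq, ⟨_, hv⟩, fun i => ⟨hXfree i, hXfin i, ?_⟩, ⟨iso⟩⟩
    obtain ⟨e⟩ := hHD i
    haveI := hXfree i
    haveI : Nontrivial (R ⧸ 𝔪) := (isField_quot R).nontrivial
    have e1 : Module.finrank (R ⧸ 𝔪) ((R ⧸ 𝔪) ⊗[R] X i) = Module.finrank R (X i) :=
      Module.finrank_baseChange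
    have e2 : Module.finrank (R ⧸ 𝔪) ((R ⧸ 𝔪) ⊗[R] X i) =
        Module.finrank (R ⧸ 𝔪) ((Hcx Qb).X i) := (he i).some.finrank_eq
    have e3 := e.finrank_eq
    show Module.finrank R (X i) = _
    rw [← e1, e2, e3]

end Groth.Agent.Helper11.MinCx
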