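import Mathlib.RingTheory.NoetherNormalization
import Mathlib.RingTheory.LocalRing.ResidueField.Ideal
import Mathlib.RingTheory.TensorProduct.MvPolynomial
import Groth.Agent.Lib.Helper7.IntDim

/-!
Noether normalization of a fibre, lifted to the base (helper11).
-/

set_option autoImplicit false
universe u
open TensorProduct

namespace Groth.Agent.Helper11.NNFib

variable {A : Type u} [CommRing A] (p : Ideal A) [p.IsPrime]

theorem exists_mul_eq (l : p.ResidueField) :
    ∃ (s a : A), s ∉ p ∧ algebraMap A p.ResidueField s * l = algebraMap A p.ResidueField a := by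
  obtain ⟨x, rfl⟩ := IsLocalRing.residue_surjective (R := Localization.AtPrime p) l
  obtain ⟨a, s, rfl⟩ := IsLocalization.exists_mk'_eq p.primeCompl x
  refine ⟨s, a, s.2, ?_⟩
  rw [IsScalarTower.algebraMap_apply A (Localization.AtPrime p) p.ResidueField,
    IsScalarTower.algebraMap_apply A (Localization.AtPrime p) p.ResidueField]
  show IsLocalRing.residue _ _ * IsLocalRing.residue _ _ = IsLocalRing.residue _ _
  rw [← map_mul, mul_comm, IsLocalization.mk'_spec]

variable {B : Type u} [CommRing B] [Algebra A B]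

theorem algebraMap_smul_one_tmul (s : A) (b : B) :
    algebraMap A p.ResidueField s • ((1 : p.ResidueField) ⊗ₜ[A] b) = 1 ⊗ₜ[A] (s • b) := by
  rw [algebraMap_smul, TensorProduct.tmul_smul]

theorem exists_smul_eq_one_tmul (c : p.ResidueField ⊗[A] B) :
    ∃ (s : A) (b : B), s ∉ p ∧ algebraMap A p.ResidueField s • c = 1 ⊗ₜ[A] b := by
  induction c using TensorProduct.induction_on with
  | zero => exact ⟨1, 0, p.one_notMem, by simp⟩
  | tmul l b =>
    obtain ⟨s, a, hs, h⟩ := exists_mul_eq p l
    refine ⟨s, a • b, hs, ?_⟩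
    rw [TensorProduct.smul_tmul', smul_eq_mul, h, TensorProduct.tmul_smul,
      TensorProduct.smul_tmul', Algebra.smul_def, mul_one]
  | add x y hx hy =>
    obtain ⟨s₁, b₁, hs₁, h₁⟩ := hx
    obtain ⟨s₂, b₂, hs₂, h₂⟩ := hy
    refine ⟨s₁ * s₂, s₂ • b₁ + s₁ • b₂, ‹p.IsPrime›.mul_notMem hs₁ hs₂, ?_⟩
    have e1 : algebraMap A p.ResidueField (s₁ * s₂) • x = 1 ⊗ₜ[A] (s₂ • b₁) := by
      rw [mul_comm, map_mul, mul_smul, h₁, algebraMap_smul_one_tmul]
    have e2 : algebraMap A p.ResidueField (s₁ * s₂) • y = 1 ⊗ₜ[A] (s₁ • b₂) := by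
      rw [map_mul, mul_smul, h₂, algebraMap_smul_one_tmul]
    rw [smul_add, e1, e2, TensorProduct.tmul_add]

theorem main (A B : Type u) [CommRing A] [CommRing B] [Algebra A B] [Algebra.FiniteType A B]
    (p : Ideal A) [p.IsPrime] (d : ℕ) (hd : ringKrullDim (p.ResidueField ⊗[A] B) = d) :
    ∃ π : MvPolynomial (Fin d) A →ₐ[A] B,
      (Algebra.TensorProduct.map (AlgHom.id p.ResidueField p.ResidueField) π).toRingHom.Finite := by
  haveI : Nontrivial (p.ResidueField ⊗[A] B) := by
    by_contra h
    rw [not_nontrivial_iff_subsingleton] at h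
    rw [ringKrullDim_eq_bot_of_subsingleton] at hd
    exact WithBot.bot_ne_coe hd
  obtain ⟨s, g, hinj, hfin⟩ := exists_finite_inj_algHom_of_fg p.ResidueField (p.ResidueField ⊗[A] B)
  have hs : s = d := by
    letI := g.toRingHom.toAlgebra
    haveI : Module.Finite (MvPolynomial (Fin s) p.ResidueField) (p.ResidueField ⊗[A] B) := hfin
    have h1 := Groth.Agent.Helper7.IntDim.ringKrullDim_eq_of_isIntegral_of_injective
      (A := MvPolynomial (Fin s) p.ResidueField) (B := p.ResidueField ⊗[A] B) hinj
    rw [hd, MvPolynomial.ringKrullDim_of_isNoetherianRing, ringKrullDim_eq_zero_of_field,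
      Nat.card_fin, zero_add] at h1
    exact_mod_cast h1.symm
  subst hs
  choose σ b hσ hb using fun i : Fin s => exists_smul_eq_one_tmul p (g (MvPolynomial.X i))
  refine ⟨MvPolynomial.aeval b, ?_⟩
  have hne : ∀ i, algebraMap A p.ResidueField (σ i) ≠ 0 := fun i h =>
    hσ i (Ideal.algebraMap_residueField_eq_zero.mp h)
  let h : MvPolynomial (Fin s) p.ResidueField →ₐ[p.ResidueField]
      p.ResidueField ⊗[A] MvPolynomial (Fin s) A :=
    MvPolynomial.aeval (fun i => (algebraMap A p.ResidueField (σ i))⁻¹ •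
      ((1 : p.ResidueField) ⊗ₜ[A] (MvPolynomial.X i : MvPolynomial (Fin s) A)))
  have hcomp : (Algebra.TensorProduct.map (AlgHom.id p.ResidueField p.ResidueField)
      (MvPolynomial.aeval b : MvPolynomial (Fin s) A →ₐ[A] B)).comp h = g := by
    apply MvPolynomial.algHom_ext
    intro i
    rw [AlgHom.comp_apply, MvPolynomial.aeval_X, map_smul, Algebra.TensorProduct.map_tmul,
      MvPolynomial.aeval_X, AlgHom.id_apply, ← hb i, smul_smul, inv_mul_cancel₀ (hne i), one_smul]
  have hf : ((Algebra.TensorProduct.map (AlgHom.id p.ResidueField p.ResidueField)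
      (MvPolynomial.aeval b : MvPolynomial (Fin s) A →ₐ[A] B)).toRingHom.comp
        h.toRingHom).Finite := by
    have e : (Algebra.TensorProduct.map (AlgHom.id p.ResidueField p.ResidueField)
        (MvPolynomial.aeval b : MvPolynomial (Fin s) A →ₐ[A] B)).toRingHom.comp h.toRingHom =
          g.toRingHom := by
      rw [← hcomp]
      rfl
    rw [e]
    exact hfin
  exact RingHom.Finite.of_comp_finite hf

end Groth.Agent.Helper11.NNFib
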