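import Mathlib

/-!
# Nodes: abstract commutative algebra lemmas

* `krull_quot`: Krull intersection modulo an ideal.
* `eq_of_le_sup_span`: an ideal `K ⊇ I` with `K ⊆ I + (l)` and `l` regular modulo `K` equals `I`.
* `isReduced_of_quadratic`: a ring which is "free of rank two over a one-dimensional base" with a
  separable quadratic relation is reduced.
* `exists_nzd`: a reduced Noetherian local ring which is not a field has a regular element in its
  maximal ideal.
-/

set_option autoImplicit false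

namespace Groth.Agent.Helper11.NodeA

open IsLocalRing

section Krull

variable {R : Type*} [CommRing R] [IsNoetherianRing R] [IsLocalRing R]

theorem krull_quot (I : Ideal R) (l : R) (hl : l ∈ maximalIdeal R) (g : R)
    (hg : ∀ n : ℕ, g ∈ I ⊔ Ideal.span {l ^ (n + 1)}) : g ∈ I := by
  have h0 : (Ideal.Quotient.mk I g) = 0 := by
    apply IsHausdorff.haus' (I := maximalIdeal R)
    intro n
    rw [SModEq.zero]
    obtain ⟨i, hi, z, hz, hgz⟩ := Submodule.mem_sup.1 (hg n)
    obtain ⟨r, rfl⟩ := Ideal.mem_span_singleton'.1 hz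
    have e1 : Ideal.Quotient.mk I g = (l ^ (n + 1)) • (Ideal.Quotient.mk I r) := by
      rw [← hgz, map_add, Ideal.Quotient.eq_zero_iff_mem.2 hi, zero_add, Algebra.smul_def,
        Ideal.Quotient.algebraMap_eq, ← map_mul, mul_comm]
    rw [e1]
    refine Submodule.smul_mem_smul ?_ Submodule.mem_top
    exact Ideal.pow_le_pow_right (Nat.le_succ n) (Ideal.pow_mem_pow hl (n + 1))
  exact Ideal.Quotient.eq_zero_iff_mem.1 h0

theorem eq_of_le_sup_span (I K : Ideal R) (l : R) (hl : l ∈ maximalIdeal R) (hIK : I ≤ K)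
    (hK : K ≤ I ⊔ Ideal.span {l}) (hreg : ∀ r : R, l * r ∈ K → r ∈ K) : K = I := by
  have hpow : ∀ (m : ℕ) (r : R), r * l ^ m ∈ K → r ∈ K := by
    intro m
    induction m with
    | zero => intro r hr; simpa using hr
    | succ m ih =>
      intro r hr
      apply ih
      apply hreg
      have e : l * (r * l ^ m) = r * l ^ (m + 1) := by ring
      rw [e]
      exact hr
  have hstep : ∀ n : ℕ, K ≤ I ⊔ Ideal.span {l ^ (n + 1)} := by
    intro n
    induction n with
    | zero => simpa using hK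
    | succ n ih =>
      intro g hg
      obtain ⟨i, hi, z, hz, hgz⟩ := Submodule.mem_sup.1 (ih hg)
      obtain ⟨r, rfl⟩ := Ideal.mem_span_singleton'.1 hz
      have h1 : r * l ^ (n + 1) ∈ K := by
        have h2 := K.sub_mem hg (hIK hi)
        have e : g - i = r * l ^ (n + 1) := by rw [← hgz]; ring
        rwa [e] at h2
      have h2 : r ∈ K := hpow (n + 1) r h1
      obtain ⟨i', hi', z', hz', hrz⟩ := Submodule.mem_sup.1 (hK h2)
      obtain ⟨r', rfl⟩ := Ideal.mem_span_singleton'.1 hz'
      refine Submodule.mem_sup.2 ⟨i + i' * l ^ (n + 1),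
        I.add_mem hi (I.mul_mem_right _ hi'), r' * l ^ (n + 1 + 1),
        Ideal.mem_span_singleton'.2 ⟨r', rfl⟩, ?_⟩
      rw [← hgz, ← hrz]
      ring
  refine le_antisymm ?_ hIK
  intro g hg
  exact krull_quot I l hl g (fun n => hstep n hg)

end Krull

section Reduced

variable {T : Type*} [CommRing T] {κ : Type*} [Field κ] (σ : κ →+* T) (u v : T)

theorem isReduced_of_quadratic
    (hK : ∀ z : T, (∀ n : ℕ, ∃ w, z = u ^ n * w) → z = 0)
    (hreg : ∀ z : T, u * z = 0 → z = 0)
    (hspan : ∀ t : T, ∃ (p q : κ) (t' : T), t = σ p + σ q * v + u * t')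
    (hind : ∀ p q : κ, (∃ t' : T, σ p + σ q * v = u * t') → p = 0 ∧ q = 0)
    (α β : κ) (hrel : v ^ 2 + σ β * u * v + σ α * u ^ 2 = 0) (hdisc : β ^ 2 - 4 * α ≠ 0) :
    IsReduced T := by
  have hregpow : ∀ (n : ℕ) (z : T), u ^ n * z = 0 → z = 0 := by
    intro n
    induction n with
    | zero => intro z hz; simpa using hz
    | succ n ih =>
      intro z hz
      apply ih
      apply hreg
      rw [← hz]
      ring
  -- the core: no square-zero element outside `uT`
  have core : ∀ z : T, z ^ 2 = 0 → (¬ ∃ w, z = u * w) → False := by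
    intro z hz2 hzu
    obtain ⟨p, q, w, hzw⟩ := hspan z
    rw [hzw] at hz2
    have e1 : σ (p ^ 2) + σ (2 * p * q) * v =
        u * (-(σ q ^ 2 * (-(σ β) * v - σ α * u) + 2 * (σ p + σ q * v) * w + u * w ^ 2)) := by
      simp only [map_pow, map_mul, map_ofNat]
      linear_combination hz2 - (σ q) ^ 2 * hrel
    have hp : p = 0 := by
      have := (hind _ _ ⟨_, e1⟩).1
      exact pow_eq_zero_iff (two_ne_zero) |>.1 this
    subst hp
    have hq : q ≠ 0 := by
      rintro rfl
      apply hzu
      refine ⟨w, ?_⟩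
      rw [hzw]
      simp
    have hqq : σ q⁻¹ * σ q = 1 := by rw [← map_mul, inv_mul_cancel₀ hq, map_one]
    set W := σ q⁻¹ * w with hW
    have hz2' : (v + u * W) ^ 2 = 0 := by
      have e : v + u * W = σ q⁻¹ * (σ 0 + σ q * v + u * w) := by
        rw [hW, map_zero]
        linear_combination (-v) * hqq
      rw [e, mul_pow, hz2, mul_zero]
    -- (★)
    have hstar : (2 * W - σ β) * v + u * (W ^ 2 - σ α) = 0 := by
      apply hreg
      linear_combination hz2' - hrel
    obtain ⟨p1, q1, w1, hw'⟩ := hspan W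
    have e2 : σ 0 + σ (2 * p1 - β) * v =
        u * (-(2 * σ q1 * (-(σ β) * v - σ α * u) + 2 * w1 * v + (W ^ 2 - σ α))) := by
      simp only [map_sub, map_mul, map_ofNat, map_zero]
      linear_combination hstar - 2 * v * hw' - 2 * σ q1 * hrel
    have hβ0 : 2 * p1 - β = 0 := (hind _ _ ⟨_, e2⟩).2
    have hβ : σ β = 2 * σ p1 := by
      have : β = 2 * p1 := by linear_combination -hβ0
      rw [this, map_mul, map_ofNat]
    have hss : 2 * σ q1 * (-(σ β) * v - σ α * u) + 2 * w1 * v + (W ^ 2 - σ α) = 0 := by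
      apply hreg
      linear_combination hstar - 2 * σ q1 * hrel - 2 * v * hw' + v * hβ
    obtain ⟨p2, q2, w2, hw1⟩ := hspan w1
    have e3 : σ (p1 ^ 2 - α) + σ (-2 * q1 * β + 2 * p2 + 2 * p1 * q1) * v =
        u * (-(-2 * σ q1 * σ α + 2 * σ q2 * (-(σ β) * v - σ α * u) + 2 * w2 * v +
          σ q1 ^ 2 * (-(σ β) * v - σ α * u) + 2 * (σ p1 + σ q1 * v) * w1 + u * w1 ^ 2)) := by
      simp only [map_sub, map_add, map_mul, map_pow, map_neg, map_ofNat]
      linear_combination hss - (W + (σ p1 + σ q1 * v + u * w1)) * hw' - 2 * v * hw1 -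
        ((σ q1) ^ 2 + 2 * σ q2) * hrel
    have hα : p1 ^ 2 - α = 0 := (hind _ _ ⟨_, e3⟩).1
    apply hdisc
    have h1 : β = 2 * p1 := by linear_combination -hβ0
    rw [h1]
    linear_combination 4 * hα
  rw [isReduced_iff_pow_one_lt 2 (by norm_num)]
  intro z hz2
  by_contra hz0
  have hex : ∃ n : ℕ, ¬ ∃ w, z = u ^ n * w := by
    by_contra hcon
    push Not at hcon
    exact hz0 (hK z hcon)
  classical
  let n0 := Nat.find hex
  have hn0 : ¬ ∃ w, z = u ^ n0 * w := Nat.find_spec hex
  have hn0pos : n0 ≠ 0 := by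
    intro h0
    apply hn0
    rw [h0]
    exact ⟨z, by simp⟩
  obtain ⟨r, hr⟩ : ∃ r, n0 = r + 1 := Nat.exists_eq_succ_of_ne_zero hn0pos
  have hrlt : r < n0 := by omega
  have hmin := Nat.find_min hex hrlt
  rw [not_not] at hmin
  obtain ⟨z', hz'⟩ := hmin
  refine core z' ?_ ?_
  · apply hregpow (2 * r)
    have : u ^ (2 * r) * z' ^ 2 = (u ^ r * z') ^ 2 := by ring
    rw [this, ← hz', hz2]
  · rintro ⟨w, hw⟩
    apply hn0
    refine ⟨w, ?_⟩
    rw [hz', hw, hr]
    ring

end Reduced

section Nzd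

theorem exists_nzd {A : Type*} [CommRing A] [IsNoetherianRing A] [IsLocalRing A] [IsReduced A]
    (hm : maximalIdeal A ≠ ⊥) : ∃ t ∈ maximalIdeal A, ∀ z : A, t * z = 0 → z = 0 := by
  classical
  by_contra hcon
  push Not at hcon
  have hsub : (maximalIdeal A : Set A) ⊆ ⋃ p ∈ associatedPrimes A A, (p : Set A) := by
    intro t ht
    rw [biUnion_associatedPrimes_eq_zero_divisors]
    obtain ⟨z, hz, hz0⟩ := hcon t ht
    exact ⟨z, hz0, by rw [smul_eq_mul]; exact hz⟩
  have hfin : (associatedPrimes A A).Finite := associatedPrimes.finite A A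
  obtain ⟨p, hp, hmp⟩ : ∃ p ∈ associatedPrimes A A, maximalIdeal A ≤ p := by
    have h1 := (Ideal.subset_union_prime (s := hfin.toFinset) (f := fun p => p) ⊥ ⊥ (by
      intro i hi _ _
      exact ((hfin.mem_toFinset).1 hi).isPrime) (I := maximalIdeal A)).1 (by
        rw [Set.Finite.coe_toFinset]
        exact hsub)
    obtain ⟨i, hi, hle⟩ := h1
    exact ⟨i, (hfin.mem_toFinset).1 hi, hle⟩
  obtain ⟨hprime, z, hz⟩ := (isAssociatedPrime_iff).1 hp
  have hkill : ∀ t ∈ maximalIdeal A, t * z = 0 := by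
    intro t ht
    have h1 : t ∈ p := hmp ht
    rw [hz, Submodule.mem_colon_singleton] at h1
    simpa using h1
  have hz0 : z ≠ 0 := by
    rintro rfl
    apply hprime.ne_top
    rw [hz, Ideal.eq_top_iff_one, Submodule.mem_colon_singleton]
    simp
  have hzm : z ∈ maximalIdeal A := by
    by_contra hzu
    rw [mem_maximalIdeal, mem_nonunits_iff, not_not] at hzu
    apply hm
    rw [eq_bot_iff]
    intro t ht
    have := hkill t ht
    rw [Ideal.mem_bot]
    exact (hzu.mul_left_eq_zero).1 this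
  have hzz : z * z = 0 := hkill z hzm
  exact hz0 (IsReduced.eq_zero z ⟨2, by rw [pow_two]; exact hzz⟩)

end Nzd

end Groth.Agent.Helper11.NodeA
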