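import Mathlib
import Groth.Prelude.Def_QuadSing
import Groth.Agent.Lib.Helper25.JacIdeal
import Groth.Agent.Lib.Helper14.PowerSeriesAdic
import Groth.Agent.Lib.Helper11.GeomRegB

/-!
# Quadratic singularities: power series side, basic lemmas
-/

set_option autoImplicit false

namespace Groth.Agent.Helper11.QSingA

open MvPowerSeries

universe u

variable {k : Type u} [Field k] {N : ℕ}

/-- the ideal of the variables -/
noncomputable def nn (k : Type u) [Field k] (N : ℕ) : Ideal (MvPowerSeries (Fin N) k) :=
  Ideal.span (Set.range (X : Fin N → MvPowerSeries (Fin N) k))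

theorem X_mem_nn (i : Fin N) : (X i : MvPowerSeries (Fin N) k) ∈ nn k N :=
  Ideal.subset_span ⟨i, rfl⟩

theorem mem_nn_iff (g : MvPowerSeries (Fin N) k) : g ∈ nn k N ↔ constantCoeff g = 0 := by
  unfold nn
  rw [← Groth.Agent.Helper14.PowerSeriesAdic.ker_constantCoeff_eq, RingHom.mem_ker]

theorem max_eq : IsLocalRing.maximalIdeal (MvPowerSeries (Fin N) k) = nn k N := by
  ext g
  rw [mem_nn_iff, IsLocalRing.mem_maximalIdeal, mem_nonunits_iff, isUnit_iff_constantCoeff,
    isUnit_iff_ne_zero, not_not]

theorem nn_ne_top : nn k N ≠ ⊤ := by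
  rw [← max_eq]
  exact Ideal.IsPrime.ne_top'

theorem coeff_eq_zero_of_mem_pow : ∀ (t : ℕ) (g : MvPowerSeries (Fin N) k), g ∈ nn k N ^ t →
    ∀ d : Fin N →₀ ℕ, d.degree < t → coeff d g = 0 := by
  classical
  intro t
  induction t with
  | zero => intro g _ d hd; exact absurd hd (Nat.not_lt_zero _)
  | succ t ih =>
    intro g hg
    rw [pow_succ] at hg
    refine Submodule.mul_induction_on hg ?_ ?_
    · intro u hu v hv d hd
      rw [coeff_mul]
      apply Finset.sum_eq_zero
      rintro ⟨p, q⟩ hpq0
      have hpq : p + q = d := Finset.HasAntidiagonal.mem_antidiagonal.1 hpq0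
      by_cases hq : q = 0
      · have h0 : coeff q v = 0 := by
          rw [hq, coeff_zero_eq_constantCoeff_apply]
          exact (mem_nn_iff v).1 hv
        show coeff p u * coeff q v = 0
        rw [h0, mul_zero]
      · have hqd : 1 ≤ q.degree := by
          rw [Nat.one_le_iff_ne_zero]
          intro h0
          exact hq ((Finsupp.degree_eq_zero_iff q).1 h0)
        have hpd : p.degree < t := by
          have h1 := congrArg Finsupp.degree hpq
          rw [map_add] at h1
          change p.degree + q.degree = d.degree at h1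
          omega
        show coeff p u * coeff q v = 0
        rw [ih u hu p hpd, zero_mul]
    · intro x y hx hy d hd
      rw [map_add, hx d hd, hy d hd, add_zero]

theorem mem_pow_of_coeff (t : ℕ) (g : MvPowerSeries (Fin N) k)
    (hg : ∀ d : Fin N →₀ ℕ, d.degree < t → coeff d g = 0) : g ∈ nn k N ^ t :=
  Groth.Agent.Helper25.JacIdeal.mem_pow t g hg

theorem mem_sq_of_low (h : MvPowerSeries (Fin N) k) (h0 : constantCoeff h = 0)
    (h1 : ∀ i : Fin N, coeff (Finsupp.single i 1) h = 0) : h ∈ nn k N ^ 2 := by
  apply mem_pow_of_coeff 2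
  intro m hm
  have hdeg : m.degree = 0 ∨ m.degree = 1 := by omega
  rcases hdeg with hd0 | hd1
  · have h2 : m = 0 := (Finsupp.degree_eq_zero_iff m).mp hd0
    subst h2
    rw [coeff_zero_eq_constantCoeff_apply]
    exact h0
  · obtain ⟨j, rfl⟩ := Groth.Agent.Helper25.JacIdeal.degree_one m hd1
    exact h1 j

theorem mem_sq_of_noLowTerms (h : MvPowerSeries (Fin N) k) (hh : VanCyc.NoLowTerms h) :
    h ∈ nn k N ^ 2 :=
  mem_sq_of_low h hh.1 hh.2

theorem constantCoeff_pderiv (i : Fin N) (h : MvPowerSeries (Fin N) k) :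
    constantCoeff (pderiv k i h) = coeff (Finsupp.single i 1) h := by
  rw [← coeff_zero_eq_constantCoeff_apply, coeff_pderiv, zero_add]
  simp

theorem pderiv_mem_nn (h : MvPowerSeries (Fin N) k)
    (h1 : ∀ i : Fin N, coeff (Finsupp.single i 1) h = 0) (i : Fin N) :
    pderiv k i h ∈ nn k N := by
  rw [mem_nn_iff, constantCoeff_pderiv]
  exact h1 i

open scoped Classical in
/-- the linear coefficients of the partial derivatives are the entries of the polar matrix -/
theorem coeff_single_pderiv (f : MvPowerSeries (Fin N) k) (i j : Fin N) :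
    coeff (Finsupp.single j 1) (pderiv k i f) =
      VanCyc.polarMatrix (VanCyc.quadPart f) i j := by
  rw [coeff_pderiv]
  by_cases hij : i = j
  · subst hij
    have hPii : VanCyc.polarMatrix (VanCyc.quadPart f) i i =
        2 * coeff (Finsupp.single i 2) f := by
      simp only [VanCyc.polarMatrix, VanCyc.quadPart, ↓reduceIte]
    rw [hPii, Finsupp.single_eq_same, ← Finsupp.single_add, Nat.cast_one,
      one_add_one_eq_two, mul_comm, one_add_one_eq_two]
  · have e1 : (Finsupp.single j 1 : Fin N →₀ ℕ) i = 0 := by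
      rw [Finsupp.single_apply, if_neg (fun h => hij h.symm)]
    have hPij : VanCyc.polarMatrix (VanCyc.quadPart f) i j =
        coeff (Finsupp.single j 1 + Finsupp.single i 1) f := by
      rcases lt_or_gt_of_ne hij with hlt | hgt
      · simp only [VanCyc.polarMatrix, VanCyc.quadPart, if_neg hij, if_pos hlt]
        rw [add_comm]
      · have hji : j ≠ i := Ne.symm hij
        simp only [VanCyc.polarMatrix, VanCyc.quadPart, if_neg hij,
          if_neg (not_lt.mpr hgt.le), if_neg hji, if_pos hgt]
    rw [hPij, e1, Nat.cast_zero, zero_add, mul_one]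

theorem coeff_single_sum (c : Fin N → k) (l : Fin N) :
    coeff (Finsupp.single l 1) (∑ l', C (c l') * (X l' : MvPowerSeries (Fin N) k)) = c l := by
  classical
  rw [map_sum, Finset.sum_eq_single l]
  · rw [← smul_eq_C_mul, map_smul, coeff_index_single_self_X, smul_eq_mul, mul_one]
  · intro l' _ hl
    rw [← smul_eq_C_mul, map_smul, coeff_index_single_X, if_neg (Ne.symm hl), smul_zero]
  · intro h
    exact absurd (Finset.mem_univ _) h

/-- the linear coefficient of a product with a series without constant term -/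
theorem coeff_single_mul (s p : MvPowerSeries (Fin N) k) (hp : constantCoeff p = 0) (l : Fin N) :
    coeff (Finsupp.single l 1) (s * p) = constantCoeff s * coeff (Finsupp.single l 1) p := by
  have e : s * p = (s - C (constantCoeff s)) * p + C (constantCoeff s) * p := by ring
  have h1 : (s - C (constantCoeff s)) * p ∈ nn k N ^ 2 := by
    rw [pow_two]
    refine Ideal.mul_mem_mul ?_ ((mem_nn_iff p).2 hp)
    rw [mem_nn_iff, map_sub, constantCoeff_C, sub_self]
  rw [e, map_add, coeff_eq_zero_of_mem_pow 2 _ h1 _ (by rw [Finsupp.degree_single]; norm_num),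
    zero_add, coeff_C_mul]

/-- if the partial derivatives and `h` generate the maximal ideal, the polar form is
non-degenerate -/
theorem det_of_jac (h : MvPowerSeries (Fin N) k) (hh : VanCyc.NoLowTerms h)
    (hJ : nn k N ≤ Ideal.span (Set.range fun i : Fin N => pderiv k i h) ⊔ Ideal.span {h}) :
    IsUnit (VanCyc.polarMatrix (VanCyc.quadPart h)).det := by
  classical
  have hsq := mem_sq_of_noLowTerms h hh
  have hex : ∀ l : Fin N, ∃ s : Fin N → MvPowerSeries (Fin N) k,
      X l - ∑ i, s i * pderiv k i h ∈ nn k N ^ 2 := by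
    intro l
    have h1 := hJ (X_mem_nn l)
    obtain ⟨u, hu, v, hv, huv⟩ := Submodule.mem_sup.1 h1
    obtain ⟨s, hs⟩ := (Ideal.mem_span_range_iff_exists_fun).1 hu
    refine ⟨s, ?_⟩
    have e : X l - ∑ i, s i * pderiv k i h = v := by rw [hs, ← huv]; ring
    rw [e]
    obtain ⟨w, rfl⟩ := Ideal.mem_span_singleton'.1 hv
    exact Ideal.mul_mem_left _ _ hsq
  choose s hs using hex
  let Nm : Matrix (Fin N) (Fin N) k := fun l i => constantCoeff (s l i)
  have hNM : Nm * VanCyc.polarMatrix (VanCyc.quadPart h) = 1 := by
    ext l l'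
    have h2 := coeff_eq_zero_of_mem_pow 2 _ (hs l) (Finsupp.single l' 1)
      (by rw [Finsupp.degree_single]; norm_num)
    rw [map_sub, map_sum, sub_eq_zero] at h2
    rw [Matrix.mul_apply, Matrix.one_apply]
    have h3 : ∀ i, coeff (Finsupp.single l' 1) (s l i * pderiv k i h) =
        Nm l i * VanCyc.polarMatrix (VanCyc.quadPart h) i l' := by
      intro i
      rw [coeff_single_mul _ _ (by rw [constantCoeff_pderiv]; exact hh.2 i), coeff_single_pderiv]
    rw [Finset.sum_congr rfl (fun i _ => h3 i)] at h2
    rw [← h2, coeff_index_single_X]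
    by_cases hll : l = l'
    · rw [if_pos hll, if_pos hll.symm]
    · rw [if_neg hll, if_neg (fun h => hll h.symm)]
  exact Matrix.isUnit_det_of_left_inverse hNM

section Der

variable {Q : Type u} [AddCommGroup Q] [Module (MvPowerSeries (Fin N) k) Q] [Module k Q]
  [IsScalarTower k (MvPowerSeries (Fin N) k) Q]

theorem sum_der_apply' {ι : Type*} (s : Finset ι)
    (g : ι → Derivation k (MvPowerSeries (Fin N) k) Q) (a : MvPowerSeries (Fin N) k) :
    (∑ i ∈ s, g i) a = ∑ i ∈ s, g i a := by
  classical
  induction s using Finset.induction_on with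
  | empty => simp
  | insert i s hi ih =>
    rw [Finset.sum_insert hi, Finset.sum_insert hi, Derivation.add_apply, ih]

/-- a derivation of the power series ring into a finite module is given by the partial
derivatives -/
theorem der_formula [Module.Finite (MvPowerSeries (Fin N) k) Q]
    (D : Derivation k (MvPowerSeries (Fin N) k) Q) (g : MvPowerSeries (Fin N) k) :
    D g = ∑ i, pderiv k i g • D (X i) := by
  classical
  let E : Derivation k (MvPowerSeries (Fin N) k) Q :=
    D - ∑ i, (LinearMap.toSpanSingleton (MvPowerSeries (Fin N) k) Q (D (X i))).compDer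
      (pderiv k i)
  have hE : ∀ g, E g = D g - ∑ i, pderiv k i g • D (X i) := by
    intro g
    show (D - _) g = _
    rw [Derivation.sub_apply, sum_der_apply']
    rfl
  have hEX : ∀ l, E (X l) = 0 := by
    intro l
    rw [hE, Finset.sum_eq_single l, pderiv_X_self, one_smul, sub_self]
    · intro i _ hi
      rw [pderiv_X_of_ne (Ne.symm hi), zero_smul]
    · intro h
      exact absurd (Finset.mem_univ _) h
  have h1 := Groth.Agent.Helper11.GeomRegB.der_mem_span_X
    (AlgHom.id k (MvPowerSeries (Fin N) k)) (fun i => by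
      rw [AlgHom.id_apply, max_eq]
      exact X_mem_nn i) E g
  have h2 : Submodule.span (MvPowerSeries (Fin N) k)
      (Set.range fun i => E ((AlgHom.id k (MvPowerSeries (Fin N) k)) (X i))) = ⊥ := by
    rw [Submodule.span_eq_bot]
    rintro _ ⟨i, rfl⟩
    exact hEX i
  rw [h2, Submodule.mem_bot, AlgHom.id_apply, hE, sub_eq_zero] at h1
  exact h1

end Der

end Groth.Agent.Helper11.QSingA
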