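import Mathlib
import Groth.Agent.Lib.Helper11.QSingA
import Groth.Agent.Lib.Helper11.NodeA
import Groth.Agent.Lib.Helper5.QMorse3
import Groth.Agent.Lib.Helper5.PSR2

/-!
# Nodes: the ring `κ[[u,v]]/(a u² + b uv + c v²)`
-/

set_option autoImplicit false

namespace Groth.Agent.Helper11.NodeB

open MvPowerSeries Groth.Agent.Helper11.QSingA

universe u

variable {κ : Type u} [Field κ]

local notation "PS" => MvPowerSeries (Fin 2) κ

/-- the binary quadratic form as a power series -/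
noncomputable def qf (a b c : κ) : MvPowerSeries (Fin 2) κ :=
  C a * X 0 ^ 2 + C b * X 0 * X 1 + C c * X 1 ^ 2

theorem nn_eq : nn κ 2 = Ideal.span {(X 0 : PS), X 1} := by
  unfold nn
  congr 1
  ext f
  simp only [Set.mem_range, Set.mem_insert_iff, Set.mem_singleton_iff, Fin.exists_fin_two]
  constructor
  · rintro (h | h)
    · exact Or.inl h.symm
    · exact Or.inr h.symm
  · rintro (h | h)
    · exact Or.inl h.symm
    · exact Or.inr h.symm

theorem qf_mem_sq (a b c : κ) : qf a b c ∈ nn κ 2 ^ 2 := by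
  unfold qf
  have h0 := X_mem_nn (k := κ) (N := 2) 0
  have h1 := X_mem_nn (k := κ) (N := 2) 1
  refine Ideal.add_mem _ (Ideal.add_mem _ ?_ ?_) ?_
  · exact Ideal.mul_mem_left _ _ (Ideal.pow_mem_pow h0 2)
  · rw [mul_assoc, pow_two]
    exact Ideal.mul_mem_left _ _ (Ideal.mul_mem_mul h0 h1)
  · exact Ideal.mul_mem_left _ _ (Ideal.pow_mem_pow h1 2)

theorem qf_mem_nn (a b c : κ) : qf a b c ∈ nn κ 2 :=
  Ideal.pow_le_self two_ne_zero (qf_mem_sq a b c)

theorem C_inv_mul_C (c : κ) (hc : c ≠ 0) : (C c⁻¹ : PS) * C c = 1 := by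
  rw [← map_mul, inv_mul_cancel₀ hc, map_one]

theorem nn_sq_le (a b c : κ) (hc : c ≠ 0) :
    nn κ 2 ^ 2 ≤ Ideal.span {qf a b c, X 0} := by
  have hcc := C_inv_mul_C c hc
  rw [nn_eq, pow_two, Ideal.span_pair_mul_span_pair, Ideal.span_le]
  intro f hf
  simp only [Set.mem_insert_iff, Set.mem_singleton_iff] at hf
  rw [SetLike.mem_coe, Ideal.mem_span_pair]
  rcases hf with rfl | rfl | rfl | rfl
  · exact ⟨0, X 0, by ring⟩
  · exact ⟨0, X 1, by ring⟩
  · exact ⟨0, X 1, by ring⟩
  · refine ⟨C c⁻¹, -(C c⁻¹ * (C a * X 0 + C b * X 1)), ?_⟩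
    unfold qf
    linear_combination (X 1 : PS) ^ 2 * hcc

theorem X0_dvd_of_dvd_X1sq_mul (g : PS) (h : (X 0 : PS) ∣ X 1 ^ 2 * g) : (X 0 : PS) ∣ g := by
  rw [X_dvd_iff] at h ⊢
  intro m hm
  have h1 := h (Finsupp.single 1 2 + m) (by
    rw [Finsupp.add_apply, Finsupp.single_apply, if_neg (by decide), zero_add, hm])
  rw [X_pow_eq, coeff_add_monomial_mul, one_mul] at h1
  exact h1

theorem X0_ne_zero : (X 0 : PS) ≠ 0 := by
  intro h0
  have := congrArg (coeff (Finsupp.single (0 : Fin 2) 1)) h0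
  rw [coeff_index_single_self_X, map_zero] at this
  exact one_ne_zero this

theorem X0_reg (a b c : κ) (hc : c ≠ 0) (f : PS)
    (h : X 0 * f ∈ Ideal.span {qf a b c}) : f ∈ Ideal.span {qf a b c} := by
  obtain ⟨g, hg⟩ := Ideal.mem_span_singleton'.1 h
  have hcc := C_inv_mul_C c hc
  have hdvd : (X 0 : PS) ∣ X 1 ^ 2 * g := by
    refine ⟨C c⁻¹ * (f - g * (C a * X 0 + C b * X 1)), ?_⟩
    unfold qf at hg
    linear_combination (C c⁻¹ : PS) * hg - (X 1 : PS) ^ 2 * g * hcc
  obtain ⟨g', hg'⟩ := X0_dvd_of_dvd_X1sq_mul g hdvd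
  refine Ideal.mem_span_singleton'.2 ⟨g', ?_⟩
  apply mul_left_cancel₀ (X0_ne_zero (κ := κ))
  rw [← hg, hg']
  ring

theorem ind (a b c p q : κ)
    (h : C p + C q * X 1 ∈ Ideal.span {qf a b c, (X 0 : PS)}) : p = 0 ∧ q = 0 := by
  classical
  obtain ⟨s, t, hst⟩ := Ideal.mem_span_pair.1 h
  have hsq : s * qf a b c ∈ nn κ 2 ^ 2 := Ideal.mul_mem_left _ _ (qf_mem_sq a b c)
  constructor
  · have h0 := congrArg constantCoeff hst
    simp only [map_add, map_mul, constantCoeff_X, mul_zero, add_zero, constantCoeff_C] at h0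
    rw [(mem_nn_iff _).1 (qf_mem_nn a b c), mul_zero] at h0
    exact h0.symm
  · have h1 := congrArg (coeff (Finsupp.single (1 : Fin 2) 1)) hst
    rw [map_add, map_add,
      coeff_eq_zero_of_mem_pow 2 _ hsq _ (by rw [Finsupp.degree_single]; norm_num), zero_add,
      coeff_single_mul t (X 0) (constantCoeff_X 0) 1, coeff_index_single_X,
      if_neg (by decide), mul_zero, Groth.Agent.Helper5.InvFun.coeff_single_C, zero_add,
      coeff_C_mul, coeff_index_single_self_X, mul_one] at h1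
    exact h1.symm

theorem sub_low_mem_sq (f : PS) :
    f - C (constantCoeff f) - C (coeff (Finsupp.single 0 1) f) * X 0 -
      C (coeff (Finsupp.single 1 1) f) * X 1 ∈ nn κ 2 ^ 2 := by
  classical
  apply mem_sq_of_low
  · simp only [map_sub, map_mul, constantCoeff_C, constantCoeff_X, mul_zero, sub_self]
  · intro i
    rw [map_sub, map_sub, map_sub, coeff_C_mul, coeff_C_mul,
      Groth.Agent.Helper5.InvFun.coeff_single_C, coeff_index_single_X, coeff_index_single_X]
    fin_cases i <;> simp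

theorem exists_pq (a b c : κ) (hc : c ≠ 0) (f : PS) :
    ∃ p q : κ, f - C p - C q * X 1 ∈ Ideal.span {qf a b c, (X 0 : PS)} := by
  refine ⟨constantCoeff f, coeff (Finsupp.single 1 1) f, ?_⟩
  have h3 := nn_sq_le a b c hc (sub_low_mem_sq f)
  have h4 : C (coeff (Finsupp.single 0 1) f) * X 0 ∈ Ideal.span {qf a b c, (X 0 : PS)} :=
    Ideal.mul_mem_left _ _ (Ideal.subset_span (by simp))
  have h5 := Ideal.add_mem _ h3 h4
  have e : f - C (constantCoeff f) - C (coeff (Finsupp.single 0 1) f) * X 0 -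
      C (coeff (Finsupp.single 1 1) f) * X 1 + C (coeff (Finsupp.single 0 1) f) * X 0 =
      f - C (constantCoeff f) - C (coeff (Finsupp.single 1 1) f) * X 1 := by ring
  rwa [e] at h5

theorem isReduced_quot (a b c : κ) (hc : c ≠ 0) (hdisc : 4 * a * c - b ^ 2 ≠ 0) :
    IsReduced (PS ⧸ Ideal.span {qf a b c}) := by
  have hcc := C_inv_mul_C c hc
  have hq0 : Ideal.Quotient.mk (Ideal.span {qf a b c}) (qf a b c) = 0 :=
    Ideal.Quotient.eq_zero_iff_mem.2 (Ideal.subset_span rfl)
  apply Groth.Agent.Helper11.NodeA.isReduced_of_quadratic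
    ((Ideal.Quotient.mk (Ideal.span {qf a b c})).comp C)
    (Ideal.Quotient.mk (Ideal.span {qf a b c}) (X 0))
    (Ideal.Quotient.mk (Ideal.span {qf a b c}) (X 1)) ?_ ?_ ?_ ?_ (a / c) (b / c) ?_ ?_
  · intro z hz
    obtain ⟨f, rfl⟩ := Ideal.Quotient.mk_surjective z
    rw [Ideal.Quotient.eq_zero_iff_mem]
    apply Groth.Agent.Helper11.NodeA.krull_quot (Ideal.span {qf a b c}) (X 0)
      (by rw [max_eq]; exact X_mem_nn 0) f
    intro n
    obtain ⟨w, hw⟩ := hz (n + 1)
    obtain ⟨g, rfl⟩ := Ideal.Quotient.mk_surjective w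
    have h1 : f - X 0 ^ (n + 1) * g ∈ Ideal.span {qf a b c} := by
      rw [← Ideal.Quotient.eq, hw, map_mul, map_pow]
    exact Submodule.mem_sup.2 ⟨f - X 0 ^ (n + 1) * g, h1, X 0 ^ (n + 1) * g,
      Ideal.mem_span_singleton'.2 ⟨g, by ring⟩, by ring⟩
  · intro z hz
    obtain ⟨f, rfl⟩ := Ideal.Quotient.mk_surjective z
    rw [← map_mul, Ideal.Quotient.eq_zero_iff_mem] at hz
    rw [Ideal.Quotient.eq_zero_iff_mem]
    exact X0_reg a b c hc f hz
  · intro t
    obtain ⟨f, rfl⟩ := Ideal.Quotient.mk_surjective t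
    obtain ⟨p, q, hpq⟩ := exists_pq a b c hc f
    obtain ⟨s, t', hst⟩ := Ideal.mem_span_pair.1 hpq
    refine ⟨p, q, Ideal.Quotient.mk _ t', ?_⟩
    have hf : f = C p + C q * X 1 + X 0 * t' + s * qf a b c := by linear_combination -hst
    show Ideal.Quotient.mk _ f = Ideal.Quotient.mk _ (C p) +
      Ideal.Quotient.mk _ (C q) * Ideal.Quotient.mk _ (X 1) +
      Ideal.Quotient.mk _ (X 0) * Ideal.Quotient.mk _ t'
    conv_lhs => rw [hf]
    rw [map_add, map_add, map_add, map_mul, map_mul, map_mul, hq0, mul_zero, add_zero]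
  · rintro p q ⟨t', ht'⟩
    obtain ⟨g, rfl⟩ := Ideal.Quotient.mk_surjective t'
    apply ind a b c p q
    have h1 : C p + C q * X 1 - X 0 * g ∈ Ideal.span {qf a b c} := by
      rw [← Ideal.Quotient.eq, map_add, map_mul, map_mul]
      exact ht'
    obtain ⟨s, hs⟩ := Ideal.mem_span_singleton'.1 h1
    exact Ideal.mem_span_pair.2 ⟨s, g, by linear_combination hs⟩
  · show Ideal.Quotient.mk _ (X 1) ^ 2 +
      Ideal.Quotient.mk _ (C (b / c)) * Ideal.Quotient.mk _ (X 0) * Ideal.Quotient.mk _ (X 1) +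
      Ideal.Quotient.mk _ (C (a / c)) * Ideal.Quotient.mk _ (X 0) ^ 2 = 0
    rw [← map_pow, ← map_mul, ← map_mul, ← map_pow, ← map_mul, ← map_add, ← map_add,
      Ideal.Quotient.eq_zero_iff_mem]
    refine Ideal.mem_span_singleton'.2 ⟨C c⁻¹, ?_⟩
    have hb : (C (b / c) : PS) = C c⁻¹ * C b := by rw [← map_mul, div_eq_inv_mul]
    have ha : (C (a / c) : PS) = C c⁻¹ * C a := by rw [← map_mul, div_eq_inv_mul]
    rw [hb, ha]
    unfold qf
    linear_combination (X 1 : PS) ^ 2 * hcc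
  · intro h
    apply hdisc
    have e : 4 * a * c - b ^ 2 = -c ^ 2 * ((b / c) ^ 2 - 4 * (a / c)) := by
      field_simp
      ring
    rw [e, h, mul_zero]

/-- transport of reducedness along an automorphism -/
theorem isReduced_of_aut (φ : PS ≃ₐ[κ] PS) (F G : PS) (h : φ F = G)
    (hred : IsReduced (PS ⧸ Ideal.span {F})) : IsReduced (PS ⧸ Ideal.span {G}) := by
  let φr : PS ≃+* PS := φ.toRingEquiv
  have hmap : Ideal.span {G} = (Ideal.span {F}).map (φr : PS →+* PS) := by
    rw [Ideal.map_span, Set.image_singleton]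
    have : (φr : PS →+* PS) F = G := h
    rw [this]
  let e : (PS ⧸ Ideal.span {F}) ≃+* (PS ⧸ Ideal.span {G}) :=
    Ideal.quotientEquiv _ _ φr hmap
  haveI := hred
  exact isReduced_of_injective e.symm e.symm.injective

theorem map_C (φ : PS ≃ₐ[κ] PS) (z : κ) : φ (C z) = C z := by
  rw [c_eq_algebraMap]
  exact φ.commutes z

theorem map_qf (φ : PS ≃ₐ[κ] PS) (a b c : κ) :
    φ (qf a b c) = C a * φ (X 0) ^ 2 + C b * φ (X 0) * φ (X 1) + C c * φ (X 1) ^ 2 := by
  unfold qf
  simp only [map_add, map_mul, map_pow, map_C]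

theorem exists_swap : ∃ φ : PS ≃ₐ[κ] PS, φ (X 0) = X 1 ∧ φ (X 1) = X 0 := by
  classical
  let g : Fin 2 → PS := ![X 1, X 0]
  have hg : ∀ i, constantCoeff (g i) = 0 := by
    intro i
    fin_cases i <;> simp [g]
  have hdet : Matrix.det (Matrix.of fun i j : Fin 2 => coeff (Finsupp.single j 1) (g i)) = -1 := by
    rw [Matrix.det_fin_two]
    simp [g, coeff_index_single_X]
  have hJ : IsUnit (Matrix.det (Matrix.of fun i j : Fin 2 =>
      coeff (Finsupp.single j 1) (g i))) := by
    rw [hdet]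
    exact isUnit_one.neg
  refine ⟨Groth.Agent.Helper5.InvFun.substEquiv g hg hJ, ?_, ?_⟩
  · exact Groth.Agent.Helper5.InvFun.substEquiv_X g hg hJ 0
  · exact Groth.Agent.Helper5.InvFun.substEquiv_X g hg hJ 1

theorem exists_shear : ∃ φ : PS ≃ₐ[κ] PS, φ (X 0) = X 0 + X 1 ∧ φ (X 1) = X 1 := by
  classical
  let g : Fin 2 → PS := ![X 0 + X 1, X 1]
  have hg : ∀ i, constantCoeff (g i) = 0 := by
    intro i
    fin_cases i <;> simp [g]
  have hdet : Matrix.det (Matrix.of fun i j : Fin 2 => coeff (Finsupp.single j 1) (g i)) = 1 := by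
    rw [Matrix.det_fin_two]
    simp [g, coeff_index_single_X]
  have hJ : IsUnit (Matrix.det (Matrix.of fun i j : Fin 2 =>
      coeff (Finsupp.single j 1) (g i))) := by
    rw [hdet]
    exact isUnit_one
  refine ⟨Groth.Agent.Helper5.InvFun.substEquiv g hg hJ, ?_, ?_⟩
  · exact Groth.Agent.Helper5.InvFun.substEquiv_X g hg hJ 0
  · exact Groth.Agent.Helper5.InvFun.substEquiv_X g hg hJ 1

theorem isReduced_quot_gen (a b c : κ) (hdisc : 4 * a * c - b ^ 2 ≠ 0) :
    IsReduced (PS ⧸ Ideal.span {qf a b c}) := by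
  by_cases hc : c = 0
  · by_cases ha : a = 0
    · subst hc
      subst ha
      have hb : b ≠ 0 := by
        intro hb
        apply hdisc
        rw [hb]
        ring
      obtain ⟨φ, h0, h1⟩ := exists_shear (κ := κ)
      apply isReduced_of_aut φ (qf 0 b (-b)) (qf 0 b 0) ?_
        (isReduced_quot 0 b (-b) (neg_ne_zero.2 hb) (by
          intro h
          apply hdisc
          linear_combination h))
      rw [map_qf, h0, h1]
      unfold qf
      simp only [map_zero, map_neg]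
      ring
    · subst hc
      obtain ⟨φ, h0, h1⟩ := exists_swap (κ := κ)
      apply isReduced_of_aut φ (qf 0 b a) (qf a b 0) ?_
        (isReduced_quot 0 b a ha (by
          intro h
          apply hdisc
          linear_combination h))
      rw [map_qf, h0, h1]
      unfold qf
      simp only [map_zero]
      ring
  · exact isReduced_quot a b c hc hdisc

/-- the coefficient table of the binary form -/
def tab (a b c : κ) : Fin 2 → Fin 2 → κ := ![![a, b], ![0, c]]

theorem quadPoly_tab (a b c : κ) :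
    ((VanCyc.quadPoly (tab a b c) : MvPolynomial (Fin 2) κ) : PS) = qf a b c := by
  have h : VanCyc.quadPoly (tab a b c) =
      MvPolynomial.C a * MvPolynomial.X 0 * MvPolynomial.X 0 +
        MvPolynomial.C b * MvPolynomial.X 0 * MvPolynomial.X 1 +
        MvPolynomial.C c * MvPolynomial.X 1 * MvPolynomial.X 1 := by
    unfold VanCyc.quadPoly
    rw [Fin.sum_univ_two, Fin.sum_univ_two, Fin.sum_univ_two]
    rw [if_pos (le_refl _), if_pos (by decide), if_neg (by decide), if_pos (le_refl _)]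
    simp [tab]
  rw [h]
  unfold qf
  simp only [MvPolynomial.coe_add, MvPolynomial.coe_mul, MvPolynomial.coe_C, MvPolynomial.coe_X]
  ring

theorem nondeg_tab (a b c : κ) (hdisc : 4 * a * c - b ^ 2 ≠ 0) :
    VanCyc.QuadNondeg (tab a b c) := by
  unfold VanCyc.QuadNondeg
  rw [isUnit_iff_ne_zero, Matrix.det_fin_two]
  have h00 : VanCyc.polarMatrix (tab a b c) 0 0 = 2 * a := by simp [VanCyc.polarMatrix, tab]
  have h01 : VanCyc.polarMatrix (tab a b c) 0 1 = b := by simp [VanCyc.polarMatrix, tab]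
  have h10 : VanCyc.polarMatrix (tab a b c) 1 0 = b := by simp [VanCyc.polarMatrix, tab]
  have h11 : VanCyc.polarMatrix (tab a b c) 1 1 = 2 * c := by simp [VanCyc.polarMatrix, tab]
  rw [h00, h01, h10, h11]
  intro h
  apply hdisc
  linear_combination h

/-- the formal Morse lemma as an automorphism -/
theorem exists_aut (a b c : κ) (hdisc : 4 * a * c - b ^ 2 ≠ 0) (F : PS)
    (hF : ∀ e : Fin 2 →₀ ℕ, e.degree ≤ 2 → coeff e F = coeff e (qf a b c)) :
    ∃ φ : PS ≃ₐ[κ] PS, φ (qf a b c) = F := by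
  classical
  have hnd := nondeg_tab a b c hdisc
  have hQq : ((VanCyc.quadPoly (tab a b c) : MvPolynomial (Fin 2) κ) : PS) = qf a b c :=
    quadPoly_tab a b c
  set G := F - qf a b c with hGdef
  have hG : ((2 + 1 : ℕ) : ℕ∞) ≤ G.order := by
    apply nat_le_order
    intro e he
    rw [hGdef, map_sub, hF e (by omega), sub_self]
  obtain ⟨cc, hcc⟩ := Groth.Agent.Helper5.QMorse.exists_coeffs (tab a b c) hnd
  obtain ⟨ε, hε, hmorse⟩ := Groth.Agent.Helper5.QMorse.morse (VanCyc.quadPoly (tab a b c))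
    (Groth.Agent.Helper5.QMorse.quadPoly_isHomogeneous (tab a b c)) G cc hcc 2 le_rfl hG
  have hε0 : ∀ i, constantCoeff (ε i) = 0 := by
    intro i
    rw [← one_le_order_iff_constCoeff_eq_zero]
    refine le_trans ?_ (hε i)
    exact_mod_cast (by norm_num : (1 : ℕ) ≤ 2)
  let g : Fin 2 → PS := fun i => X i + ε i
  have hg0 : ∀ i, constantCoeff (g i) = 0 := by
    intro i
    simp [g, hε0 i]
  have hJ1 : (Matrix.of fun i j : Fin 2 => coeff (Finsupp.single j 1) (g i)) = 1 := by
    ext i j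
    simp only [Matrix.of_apply, g, map_add]
    rw [Groth.Agent.Helper5.Morse.coeff_eq_zero_of_le_order (hε i) _
      (by rw [Finsupp.degree_single]; omega), add_zero, coeff_index_single_X, Matrix.one_apply]
    by_cases hij : i = j
    · subst hij; simp
    · rw [if_neg (Ne.symm hij), if_neg hij]
  have hJ : IsUnit (Matrix.det (Matrix.of fun i j : Fin 2 =>
      coeff (Finsupp.single j 1) (g i))) := by
    rw [hJ1, Matrix.det_one]
    exact isUnit_one
  let φ := Groth.Agent.Helper5.InvFun.substEquiv g hg0 hJ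
  have hφX : ∀ i, φ (X i) = g i := Groth.Agent.Helper5.InvFun.substEquiv_X g hg0 hJ
  refine ⟨φ, ?_⟩
  have h1 := Groth.Agent.Helper5.QMorse.algHom_coe φ.toAlgHom (VanCyc.quadPoly (tab a b c))
  have h2 : (fun i => φ.toAlgHom (X i)) = g := by
    funext i
    exact hφX i
  rw [h2] at h1
  change φ ((VanCyc.quadPoly (tab a b c) : MvPolynomial (Fin 2) κ) : PS) = _ at h1
  rw [← hQq, h1, ← hmorse, hQq, hGdef]
  ring

theorem mem_nn_of_lin (a b c : κ) (α β : PS)
    (h : α * X 0 + β * X 1 ∈ nn κ 2 ^ 2 ⊔ Ideal.span {qf a b c}) :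
    α ∈ nn κ 2 ∧ β ∈ nn κ 2 := by
  classical
  have hle : nn κ 2 ^ 2 ⊔ Ideal.span {qf a b c} = nn κ 2 ^ 2 := by
    rw [sup_eq_left, Ideal.span_le, Set.singleton_subset_iff]
    exact qf_mem_sq a b c
  rw [hle] at h
  constructor
  · have h0 := coeff_eq_zero_of_mem_pow 2 _ h (Finsupp.single 0 1)
      (by rw [Finsupp.degree_single]; norm_num)
    rw [map_add, coeff_single_mul α (X 0) (constantCoeff_X 0) 0,
      coeff_single_mul β (X 1) (constantCoeff_X 1) 0, coeff_index_single_self_X,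
      coeff_index_single_X, if_neg (by decide), mul_one, mul_zero, add_zero] at h0
    exact (mem_nn_iff α).2 h0
  · have h0 := coeff_eq_zero_of_mem_pow 2 _ h (Finsupp.single 1 1)
      (by rw [Finsupp.degree_single]; norm_num)
    rw [map_add, coeff_single_mul α (X 0) (constantCoeff_X 0) 1,
      coeff_single_mul β (X 1) (constantCoeff_X 1) 1, coeff_index_single_self_X,
      coeff_index_single_X, if_neg (by decide), mul_one, mul_zero, zero_add] at h0
    exact (mem_nn_iff β).2 h0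

end Groth.Agent.Helper11.NodeB
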