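import Mathlib
import Groth.Agent.Lib.Helper11.NodeB
import Groth.Agent.Lib.Helper17.AR5

/-!
# Nodes: from the completion back to the ring
-/

set_option autoImplicit false

namespace Groth.Agent.Helper11.NodeC

open IsLocalRing MvPowerSeries Groth.Agent.Helper11.QSingA Groth.Agent.Helper11.NodeB

universe u

section Compl

variable {A : Type u} [CommRing A] [IsLocalRing A] [IsNoetherianRing A]

local notation "Â" => AdicCompletion (maximalIdeal A) A

theorem exists_sub_mem (b : Â) (n : ℕ) : ∃ l : A, b - algebraMap A Â l ∈ maximalIdeal Â ^ n := by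
  have fg : (maximalIdeal A).FG := (maximalIdeal A).fg_of_isNoetherianRing
  obtain ⟨l, hl⟩ := Submodule.Quotient.mk_surjective _ (b.val n)
  refine ⟨l, ?_⟩
  have hof : algebraMap A Â l = AdicCompletion.of (maximalIdeal A) A l := rfl
  rw [AdicCompletion.maximalIdeal_eq_map, ← Ideal.map_pow, ← Submodule.restrictScalars_mem A,
    ← Ideal.smul_top_eq_map, AdicCompletion.pow_smul_top_eq_ker_eval fg, LinearMap.mem_ker, map_sub,
    hof, AdicCompletion.eval_of, AdicCompletion.eval_apply, Submodule.mkQ_apply, hl, sub_self]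

theorem algebraMap_mem_pow (l : A) (n : ℕ) (h : l ∈ maximalIdeal A ^ n) :
    algebraMap A Â l ∈ maximalIdeal Â ^ n := by
  rw [AdicCompletion.maximalIdeal_eq_map, ← Ideal.map_pow]
  exact Ideal.mem_map_of_mem _ h

theorem mem_pow_of_algebraMap_mem (l : A) (n : ℕ) (h : algebraMap A Â l ∈ maximalIdeal Â ^ n) :
    l ∈ maximalIdeal A ^ n := by
  have fg : (maximalIdeal A).FG := (maximalIdeal A).fg_of_isNoetherianRing
  have hof : algebraMap A Â l = AdicCompletion.of (maximalIdeal A) A l := rfl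
  rw [AdicCompletion.maximalIdeal_eq_map, ← Ideal.map_pow, ← Submodule.restrictScalars_mem A,
    ← Ideal.smul_top_eq_map, AdicCompletion.pow_smul_top_eq_ker_eval fg, LinearMap.mem_ker,
    hof, AdicCompletion.eval_of, Submodule.mkQ_apply, Submodule.Quotient.mk_eq_zero, smul_eq_mul,
    Ideal.mul_top] at h
  exact h

end Compl

section Equiv

theorem map_equiv_maximalIdeal {R S : Type*} [CommRing R] [CommRing S] [IsLocalRing R]
    [IsLocalRing S] (e : R ≃+* S) : (maximalIdeal R).map e = maximalIdeal S := by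
  ext t
  constructor
  · intro h
    obtain ⟨x, hx, rfl⟩ := (Ideal.mem_map_of_equiv e t).1 h
    rw [mem_maximalIdeal, mem_nonunits_iff] at hx ⊢
    intro hu
    apply hx
    have := hu.map e.symm
    rwa [e.symm_apply_apply] at this
  · intro h
    refine (Ideal.mem_map_of_equiv e t).2 ⟨e.symm t, ?_, e.apply_symm_apply t⟩
    rw [mem_maximalIdeal, mem_nonunits_iff] at h ⊢
    intro hu
    apply h
    have := hu.map e
    rwa [e.apply_symm_apply] at this

theorem mem_pow_iff_of_equiv {R S : Type*} [CommRing R] [CommRing S] [IsLocalRing R]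
    [IsLocalRing S] (e : R ≃+* S) (n : ℕ) (y : R) :
    y ∈ maximalIdeal R ^ n ↔ e y ∈ maximalIdeal S ^ n := by
  rw [← map_equiv_maximalIdeal e, ← Ideal.map_pow]
  constructor
  · intro h
    exact Ideal.mem_map_of_mem e h
  · intro h
    obtain ⟨x, hx, hxy⟩ := (Ideal.mem_map_of_equiv e (e y)).1 h
    rwa [← e.injective hxy]

end Equiv

section Descent

variable {A : Type u} [CommRing A] [IsLocalRing A] [IsNoetherianRing A]

theorem residue_smul_toCotangent' (r : A) (a : maximalIdeal A) :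
    (residue A r) • ((maximalIdeal A).toCotangent a : CotangentSpace A) =
      (maximalIdeal A).toCotangent (r • a) := by
  rw [map_smul]
  exact IsScalarTower.algebraMap_smul (ResidueField A) r _

theorem span_eq_of_sup (x y : A) (hx : x ∈ maximalIdeal A) (hy : y ∈ maximalIdeal A)
    (hspan : Ideal.span {x, y} ⊔ maximalIdeal A ^ 2 = maximalIdeal A) :
    Ideal.span {x, y} = maximalIdeal A := by
  refine le_antisymm ?_ ?_
  · rw [Ideal.span_le]
    intro z hz
    simp only [Set.mem_insert_iff, Set.mem_singleton_iff] at hz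
    rcases hz with rfl | rfl
    · exact hx
    · exact hy
  · apply Submodule.le_of_le_smul_of_le_jacobson_bot (I := maximalIdeal A)
      (maximalIdeal A).fg_of_isNoetherianRing
    · exact IsLocalRing.maximalIdeal_le_jacobson ⊥
    · rw [smul_eq_mul, ← pow_two]
      exact hspan.ge

theorem finrank_cotangent_eq_two (x y : A) (hx : x ∈ maximalIdeal A) (hy : y ∈ maximalIdeal A)
    (hspan : Ideal.span {x, y} ⊔ maximalIdeal A ^ 2 = maximalIdeal A)
    (hind : ∀ α β : A, α * x + β * y ∈ maximalIdeal A ^ 2 →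
      α ∈ maximalIdeal A ∧ β ∈ maximalIdeal A) :
    Module.finrank (ResidueField A) (CotangentSpace A) = 2 := by
  classical
  let xm : maximalIdeal A := ⟨x, hx⟩
  let ym : maximalIdeal A := ⟨y, hy⟩
  let v : Fin 2 → CotangentSpace A :=
    ![(maximalIdeal A).toCotangent xm, (maximalIdeal A).toCotangent ym]
  have hli : LinearIndependent (ResidueField A) v := by
    rw [LinearIndependent.pair_iff]
    intro s t hst
    obtain ⟨α, rfl⟩ := residue_surjective s
    obtain ⟨β, rfl⟩ := residue_surjective t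
    rw [residue_smul_toCotangent', residue_smul_toCotangent', ← map_add,
      Ideal.toCotangent_eq_zero] at hst
    have h1 : ((α • xm + β • ym : maximalIdeal A) : A) = α * x + β * y := by
      simp [xm, ym]
    rw [h1] at hst
    obtain ⟨hα, hβ⟩ := hind α β hst
    exact ⟨(residue_eq_zero_iff _).2 hα, (residue_eq_zero_iff _).2 hβ⟩
  have hsp : Submodule.span (ResidueField A) (Set.range v) = ⊤ := by
    have hxy := span_eq_of_sup x y hx hy hspan
    have h1 : Submodule.span A ({xm, ym} : Set (maximalIdeal A)) = ⊤ := by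
      rw [eq_top_iff]
      rintro ⟨z, hz⟩ -
      rw [← hxy] at hz
      obtain ⟨p, q, hpq⟩ := Ideal.mem_span_pair.1 hz
      rw [Submodule.mem_span_pair]
      refine ⟨p, q, ?_⟩
      apply Subtype.ext
      simp only [Submodule.coe_add, Submodule.coe_smul, smul_eq_mul, xm, ym]
      exact hpq
    have h2 := (CotangentSpace.span_image_eq_top_iff (R := A)).2 h1
    have h3 : Set.range v = (maximalIdeal A).toCotangent '' ({xm, ym} : Set (maximalIdeal A)) := by
      ext w
      simp only [Set.mem_range, Fin.exists_fin_two, Set.mem_image, Set.mem_insert_iff,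
        Set.mem_singleton_iff, exists_eq_or_imp, exists_eq_left, v, Matrix.cons_val_zero,
        Matrix.cons_val_one]
    rw [h3]
    exact h2
  have hb := Module.finrank_eq_card_basis (Module.Basis.mk hli hsp.ge)
  rw [hb]
  simp

/-- descent of the node data along a chart `ψ : A → T` -/
theorem descent {T : Type u} [CommRing T] [IsReduced T] (J : Ideal T) (ψ : A →+* T)
    (c2 : ∀ (t : T) (n : ℕ), ∃ l : A, t - ψ l ∈ J ^ n)
    (c3 : ∀ (n : ℕ) (l : A), ψ l ∈ J ^ n ↔ l ∈ maximalIdeal A ^ n)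
    (u v A1 B1 C1 : T) (h1 : J = Ideal.span {u, v})
    (h2 : ∀ α β : T, α * u + β * v ∈ J ^ 2 → α ∈ J ∧ β ∈ J)
    (h3 : A1 * u ^ 2 + B1 * u * v + C1 * v ^ 2 = 0)
    (h4 : 4 * A1 * C1 - B1 ^ 2 ∉ J) :
    IsReduced A ∧ Module.finrank (ResidueField A) (CotangentSpace A) = 2 ∧
      ∃ x y a0 b0 c0 : A, x ∈ maximalIdeal A ∧ y ∈ maximalIdeal A ∧
        Ideal.span {x, y} ⊔ maximalIdeal A ^ 2 = maximalIdeal A ∧
        residue A (4 * a0 * c0 - b0 ^ 2) ≠ 0 ∧
        a0 * x ^ 2 + b0 * x * y + c0 * y ^ 2 ∈ maximalIdeal A ^ 3 := by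
  have hsq : J ^ 2 ≤ J := Ideal.pow_le_self two_ne_zero
  have mulJ : ∀ {p q : T}, p ∈ J → q ∈ J → p * q ∈ J ^ 2 := by
    intro p q hp hq
    rw [pow_two]
    exact Ideal.mul_mem_mul hp hq
  have mul12 : ∀ {p q : T}, p ∈ J → q ∈ J ^ 2 → p * q ∈ J ^ 3 := by
    intro p q hp hq
    rw [pow_succ' J 2]
    exact Ideal.mul_mem_mul hp hq
  have c3one : ∀ l : A, ψ l ∈ J ↔ l ∈ maximalIdeal A := by
    intro l
    have := c3 1 l
    rwa [pow_one, pow_one] at this
  have huJ : u ∈ J := by rw [h1]; exact Ideal.subset_span (by simp)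
  have hvJ : v ∈ J := by rw [h1]; exact Ideal.subset_span (by simp)
  -- injectivity
  have hinj : Function.Injective ψ := by
    rw [injective_iff_map_eq_zero]
    intro l hl
    have h : l ∈ ⨅ n : ℕ, maximalIdeal A ^ n := by
      rw [Ideal.mem_iInf]
      intro n
      rw [← c3, hl]
      exact Ideal.zero_mem _
    rw [Ideal.iInf_pow_eq_bot_of_isLocalRing _ (maximalIdeal.isMaximal A).ne_top] at h
    exact h
  obtain ⟨x, hxu⟩ := c2 u 2
  obtain ⟨y, hyv⟩ := c2 v 2
  obtain ⟨a0, ha0⟩ := c2 A1 1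
  obtain ⟨b0, hb0⟩ := c2 B1 1
  obtain ⟨c0, hc0⟩ := c2 C1 1
  rw [pow_one] at ha0 hb0 hc0
  have hψx : ψ x ∈ J := by
    have := J.sub_mem huJ (hsq hxu)
    rwa [sub_sub_cancel] at this
  have hψy : ψ y ∈ J := by
    have := J.sub_mem hvJ (hsq hyv)
    rwa [sub_sub_cancel] at this
  have hx : x ∈ maximalIdeal A := (c3one x).1 hψx
  have hy : y ∈ maximalIdeal A := (c3one y).1 hψy
  -- spanning
  have hspan : Ideal.span {x, y} ⊔ maximalIdeal A ^ 2 = maximalIdeal A := by
    refine le_antisymm (sup_le ?_ (Ideal.pow_le_self two_ne_zero)) ?_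
    · rw [Ideal.span_le]
      intro z hz
      simp only [Set.mem_insert_iff, Set.mem_singleton_iff] at hz
      rcases hz with rfl | rfl
      · exact hx
      · exact hy
    · intro l hl
      have hψl : ψ l ∈ J := (c3one l).2 hl
      rw [h1] at hψl
      obtain ⟨t1, t2, ht⟩ := Ideal.mem_span_pair.1 hψl
      obtain ⟨l1, hl1⟩ := c2 t1 1
      obtain ⟨l2, hl2⟩ := c2 t2 1
      rw [pow_one] at hl1 hl2
      have hmem : ψ (l - (l1 * x + l2 * y)) ∈ J ^ 2 := by
        have e : ψ (l - (l1 * x + l2 * y)) =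
            (t1 - ψ l1) * u + ψ l1 * (u - ψ x) + ((t2 - ψ l2) * v + ψ l2 * (v - ψ y)) := by
          simp only [map_sub, map_add, map_mul]
          linear_combination -ht
        rw [e]
        exact Ideal.add_mem _ (Ideal.add_mem _ (mulJ hl1 huJ) (Ideal.mul_mem_left _ _ hxu))
          (Ideal.add_mem _ (mulJ hl2 hvJ) (Ideal.mul_mem_left _ _ hyv))
      have h5 := (c3 2 _).1 hmem
      have e2 : l = (l1 * x + l2 * y) + (l - (l1 * x + l2 * y)) := by ring
      rw [e2]
      exact Submodule.add_mem_sup (Ideal.mem_span_pair.2 ⟨l1, l2, rfl⟩) h5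
  -- independence
  have hind : ∀ α β : A, α * x + β * y ∈ maximalIdeal A ^ 2 →
      α ∈ maximalIdeal A ∧ β ∈ maximalIdeal A := by
    intro α β hαβ
    have h5 := (c3 2 _).2 hαβ
    have h6 : ψ α * u + ψ β * v ∈ J ^ 2 := by
      have e : ψ α * u + ψ β * v =
          ψ (α * x + β * y) + (ψ α * (u - ψ x) + ψ β * (v - ψ y)) := by
        simp only [map_add, map_mul]
        ring
      rw [e]
      exact Ideal.add_mem _ h5 (Ideal.add_mem _ (Ideal.mul_mem_left _ _ hxu)
        (Ideal.mul_mem_left _ _ hyv))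
    obtain ⟨h7, h8⟩ := h2 _ _ h6
    exact ⟨(c3one α).1 h7, (c3one β).1 h8⟩
  refine ⟨isReduced_of_injective ψ hinj, finrank_cotangent_eq_two x y hx hy hspan hind,
    x, y, a0, b0, c0, hx, hy, hspan, ?_, ?_⟩
  · intro h0
    have h5 : 4 * a0 * c0 - b0 ^ 2 ∈ maximalIdeal A := (residue_eq_zero_iff _).1 h0
    have h6 : ψ (4 * a0 * c0 - b0 ^ 2) ∈ J := (c3one _).2 h5
    apply h4
    have e : 4 * A1 * C1 - B1 ^ 2 = ψ (4 * a0 * c0 - b0 ^ 2) +
        ((A1 - ψ a0) * (4 * C1) + (C1 - ψ c0) * (4 * ψ a0) - (B1 - ψ b0) * (B1 + ψ b0)) := by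
      simp only [map_sub, map_mul, map_pow, map_ofNat]
      ring
    rw [e]
    exact Ideal.add_mem _ h6 (Ideal.sub_mem _ (Ideal.add_mem _ (Ideal.mul_mem_right _ _ ha0)
      (Ideal.mul_mem_right _ _ hc0)) (Ideal.mul_mem_right _ _ hb0))
  · rw [← c3]
    have e : ψ (a0 * x ^ 2 + b0 * x * y + c0 * y ^ 2) =
        -((A1 - ψ a0) * (ψ x * ψ x) + (B1 - ψ b0) * (ψ x * ψ y) + (C1 - ψ c0) * (ψ y * ψ y)) -
          (A1 * ((u + ψ x) * (u - ψ x)) + B1 * (u * (v - ψ y) + ψ y * (u - ψ x)) +
            C1 * ((v + ψ y) * (v - ψ y))) := by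
      simp only [map_add, map_mul, map_pow]
      linear_combination h3
    rw [e]
    have t1 := mul12 ha0 (mulJ hψx hψx)
    have t2 := mul12 hb0 (mulJ hψx hψy)
    have t3 := mul12 hc0 (mulJ hψy hψy)
    have t4 : A1 * ((u + ψ x) * (u - ψ x)) ∈ J ^ 3 :=
      Ideal.mul_mem_left _ _ (mul12 (J.add_mem huJ hψx) hxu)
    have t5 : B1 * (u * (v - ψ y) + ψ y * (u - ψ x)) ∈ J ^ 3 :=
      Ideal.mul_mem_left _ _ (Ideal.add_mem _ (mul12 huJ hyv) (mul12 hψy hxu))
    have t6 : C1 * ((v + ψ y) * (v - ψ y)) ∈ J ^ 3 :=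
      Ideal.mul_mem_left _ _ (mul12 (J.add_mem hvJ hψy) hyv)
    exact Ideal.sub_mem _ (neg_mem (Ideal.add_mem _ (Ideal.add_mem _ t1 t2) t3))
      (Ideal.add_mem _ (Ideal.add_mem _ t4 t5) t6)

end Descent

end Groth.Agent.Helper11.NodeC
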