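import Mathlib
import Groth.Agent.Lib.Helper11.NodeC

/-!
# Nodes: the ring `T = κ[[u,v]]/(q)` and the implication "completion ⇒ node"
-/

set_option autoImplicit false

namespace Groth.Agent.Helper11.NodeD

open IsLocalRing MvPowerSeries Groth.Agent.Helper11.QSingA Groth.Agent.Helper11.NodeB
  Groth.Agent.Helper11.NodeC

universe u

section TFacts

variable {κ : Type u} [Field κ] (a b c : κ)

local notation "PS" => MvPowerSeries (Fin 2) κ

theorem span_le_nn : Ideal.span {qf a b c} ≤ nn κ 2 :=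
  (Ideal.span_singleton_le_iff_mem _).2 (qf_mem_nn a b c)

theorem span_ne_top : Ideal.span {qf a b c} ≠ ⊤ := by
  intro h
  exact nn_ne_top (top_le_iff.1 (h ▸ span_le_nn a b c))

theorem isLocalRing_T : IsLocalRing (PS ⧸ Ideal.span {qf a b c}) := by
  haveI : Nontrivial (PS ⧸ Ideal.span {qf a b c}) :=
    Ideal.Quotient.nontrivial_iff.2 (span_ne_top a b c)
  exact IsLocalRing.of_surjective' (Ideal.Quotient.mk _) Ideal.Quotient.mk_surjective

theorem maximalIdeal_T [IsLocalRing (PS ⧸ Ideal.span {qf a b c})] :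
    maximalIdeal (PS ⧸ Ideal.span {qf a b c}) =
      (nn κ 2).map (Ideal.Quotient.mk (Ideal.span {qf a b c})) := by
  have hmax : ((maximalIdeal PS).map (Ideal.Quotient.mk (Ideal.span {qf a b c}))).IsMaximal :=
    Ideal.IsMaximal.map_of_surjective_of_ker_le Ideal.Quotient.mk_surjective (by
      rw [Ideal.mk_ker, max_eq]
      exact span_le_nn a b c)
  rw [← max_eq]
  exact (IsLocalRing.eq_maximalIdeal hmax).symm

theorem map_nn_eq_span :
    (nn κ 2).map (Ideal.Quotient.mk (Ideal.span {qf a b c})) =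
      Ideal.span {Ideal.Quotient.mk (Ideal.span {qf a b c}) (X 0),
        Ideal.Quotient.mk (Ideal.span {qf a b c}) (X 1)} := by
  rw [nn_eq, Ideal.map_span, Set.image_pair]

theorem lin_T (α β : PS ⧸ Ideal.span {qf a b c})
    (h : α * Ideal.Quotient.mk (Ideal.span {qf a b c}) (X 0) +
      β * Ideal.Quotient.mk (Ideal.span {qf a b c}) (X 1) ∈
        ((nn κ 2).map (Ideal.Quotient.mk (Ideal.span {qf a b c}))) ^ 2) :
    α ∈ (nn κ 2).map (Ideal.Quotient.mk (Ideal.span {qf a b c})) ∧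
      β ∈ (nn κ 2).map (Ideal.Quotient.mk (Ideal.span {qf a b c})) := by
  obtain ⟨α', rfl⟩ := Ideal.Quotient.mk_surjective α
  obtain ⟨β', rfl⟩ := Ideal.Quotient.mk_surjective β
  rw [← Ideal.map_pow, ← map_mul, ← map_mul, ← map_add,
    Ideal.mem_map_iff_of_surjective _ Ideal.Quotient.mk_surjective] at h
  obtain ⟨f, hf, hfe⟩ := h
  have h1 : α' * X 0 + β' * X 1 - f ∈ Ideal.span {qf a b c} := by
    rw [← Ideal.Quotient.eq]
    exact hfe.symm
  have h2 : α' * X 0 + β' * X 1 ∈ nn κ 2 ^ 2 ⊔ Ideal.span {qf a b c} := by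
    have e : α' * X 0 + β' * X 1 = f + (α' * X 0 + β' * X 1 - f) := by ring
    rw [e]
    exact Submodule.add_mem_sup hf h1
  obtain ⟨h3, h4⟩ := mem_nn_of_lin a b c α' β' h2
  exact ⟨Ideal.mem_map_of_mem _ h3, Ideal.mem_map_of_mem _ h4⟩

theorem rel_T :
    Ideal.Quotient.mk (Ideal.span {qf a b c}) (C a) *
        Ideal.Quotient.mk (Ideal.span {qf a b c}) (X 0) ^ 2 +
      Ideal.Quotient.mk (Ideal.span {qf a b c}) (C b) *
        Ideal.Quotient.mk (Ideal.span {qf a b c}) (X 0) *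
          Ideal.Quotient.mk (Ideal.span {qf a b c}) (X 1) +
      Ideal.Quotient.mk (Ideal.span {qf a b c}) (C c) *
        Ideal.Quotient.mk (Ideal.span {qf a b c}) (X 1) ^ 2 = 0 := by
  have h : Ideal.Quotient.mk (Ideal.span {qf a b c}) (qf a b c) = 0 :=
    Ideal.Quotient.eq_zero_iff_mem.2 (Ideal.subset_span rfl)
  have h2 : Ideal.Quotient.mk (Ideal.span {qf a b c})
      (C a * X 0 ^ 2 + C b * X 0 * X 1 + C c * X 1 ^ 2) = 0 := h
  simpa only [map_add, map_mul, map_pow] using h2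

theorem disc_T (hdisc : 4 * a * c - b ^ 2 ≠ 0) :
    4 * Ideal.Quotient.mk (Ideal.span {qf a b c}) (C a) *
        Ideal.Quotient.mk (Ideal.span {qf a b c}) (C c) -
      Ideal.Quotient.mk (Ideal.span {qf a b c}) (C b) ^ 2 ∉
        (nn κ 2).map (Ideal.Quotient.mk (Ideal.span {qf a b c})) := by
  intro h
  have e : 4 * Ideal.Quotient.mk (Ideal.span {qf a b c}) (C a) *
        Ideal.Quotient.mk (Ideal.span {qf a b c}) (C c) -
      Ideal.Quotient.mk (Ideal.span {qf a b c}) (C b) ^ 2 =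
      Ideal.Quotient.mk (Ideal.span {qf a b c}) (C (4 * a * c - b ^ 2)) := by
    simp only [map_sub, map_mul, map_pow, map_ofNat]
  rw [e, Ideal.mem_map_iff_of_surjective _ Ideal.Quotient.mk_surjective] at h
  obtain ⟨f, hf, hfe⟩ := h
  have h1 : f - C (4 * a * c - b ^ 2) ∈ Ideal.span {qf a b c} := by
    rw [← Ideal.Quotient.eq]
    exact hfe
  have h2 : C (4 * a * c - b ^ 2) ∈ nn κ 2 := by
    have := (nn κ 2).sub_mem hf (span_le_nn a b c h1)
    rwa [sub_sub_cancel] at this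
  rw [mem_nn_iff, constantCoeff_C] at h2
  exact hdisc h2

end TFacts

section Backward

variable {A : Type u} [CommRing A] [IsLocalRing A] [IsNoetherianRing A]

theorem backward (a b c : ResidueField A) (hdisc : 4 * a * c - b ^ 2 ≠ 0)
    (e : AdicCompletion (maximalIdeal A) A ≃+*
      (MvPowerSeries (Fin 2) (ResidueField A) ⧸ Ideal.span {qf a b c})) :
    IsReduced A ∧ Module.finrank (ResidueField A) (CotangentSpace A) = 2 ∧
      ∃ x y a0 b0 c0 : A, x ∈ maximalIdeal A ∧ y ∈ maximalIdeal A ∧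
        Ideal.span {x, y} ⊔ maximalIdeal A ^ 2 = maximalIdeal A ∧
        residue A (4 * a0 * c0 - b0 ^ 2) ≠ 0 ∧
        a0 * x ^ 2 + b0 * x * y + c0 * y ^ 2 ∈ maximalIdeal A ^ 3 := by
  haveI := isLocalRing_T a b c
  haveI := isReduced_quot_gen a b c hdisc
  let ψ : A →+* (MvPowerSeries (Fin 2) (ResidueField A) ⧸ Ideal.span {qf a b c}) :=
    (e : AdicCompletion (maximalIdeal A) A →+* _).comp
      (algebraMap A (AdicCompletion (maximalIdeal A) A))
  have hψ : ∀ l, ψ l = e (algebraMap A (AdicCompletion (maximalIdeal A) A) l) := fun _ => rfl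
  apply descent (maximalIdeal (MvPowerSeries (Fin 2) (ResidueField A) ⧸ Ideal.span {qf a b c})) ψ
    ?_ ?_ (Ideal.Quotient.mk _ (X 0)) (Ideal.Quotient.mk _ (X 1)) (Ideal.Quotient.mk _ (C a))
    (Ideal.Quotient.mk _ (C b)) (Ideal.Quotient.mk _ (C c)) ?_ ?_ (rel_T a b c) ?_
  · intro t n
    obtain ⟨l, hl⟩ := exists_sub_mem (e.symm t) n
    refine ⟨l, ?_⟩
    have := (mem_pow_iff_of_equiv e n _).1 hl
    rwa [map_sub, e.apply_symm_apply] at this
  · intro n l
    rw [hψ, ← mem_pow_iff_of_equiv e n]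
    exact ⟨mem_pow_of_algebraMap_mem l n, algebraMap_mem_pow l n⟩
  · rw [maximalIdeal_T]
    exact map_nn_eq_span a b c
  · rw [maximalIdeal_T]
    exact lin_T a b c
  · rw [maximalIdeal_T]
    exact disc_T a b c hdisc

end Backward

end Groth.Agent.Helper11.NodeD
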