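import Mathlib
import Groth.Agent.Lib.Helper11.NodeD

/-!
# Nodes: the implication "node ⇒ completion"
-/

set_option autoImplicit false

namespace Groth.Agent.Helper11.NodeE

open IsLocalRing MvPowerSeries Groth.Agent.Helper11.QSingA Groth.Agent.Helper11.NodeB
  Groth.Agent.Helper11.NodeC Groth.Agent.Helper11.NodeD

universe u

section Gen

theorem mul_mem_sq {T : Type*} [CommRing T] (J : Ideal T) {p q : T} (hp : p ∈ J) (hq : q ∈ J) :
    p * q ∈ J ^ 2 := by
  rw [pow_two]
  exact Ideal.mul_mem_mul hp hq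

theorem mul_mem_cube {T : Type*} [CommRing T] (J : Ideal T) {p q : T} (hp : p ∈ J)
    (hq : q ∈ J ^ 2) : p * q ∈ J ^ 3 := by
  rw [pow_succ' J 2]
  exact Ideal.mul_mem_mul hp hq

theorem eq_span_of_le {R : Type*} [CommRing R] [IsLocalRing R] [IsNoetherianRing R] (ξ : R)
    (hξ : ξ ∈ maximalIdeal R)
    (h : maximalIdeal R ≤ Ideal.span {ξ} ⊔ maximalIdeal R ^ 2) :
    maximalIdeal R = Ideal.span {ξ} := by
  refine le_antisymm ?_ ((Ideal.span_singleton_le_iff_mem _).2 hξ)
  apply Submodule.le_of_le_smul_of_le_jacobson_bot (I := maximalIdeal R)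
    (maximalIdeal R).fg_of_isNoetherianRing (IsLocalRing.maximalIdeal_le_jacobson ⊥)
  rw [smul_eq_mul, ← pow_two]
  exact h

theorem principal_of_rel {R : Type*} [CommRing R] [IsLocalRing R] [IsNoetherianRing R]
    (ξ η s s' r : R) (hs : s' * s = 1) (hη : η ∈ maximalIdeal R)
    (hspan : maximalIdeal R = Ideal.span {ξ, η})
    (h : s * ξ + r * η ∈ maximalIdeal R ^ 2) : maximalIdeal R = Ideal.span {η} := by
  apply eq_span_of_le η hη
  intro z hz
  rw [hspan] at hz
  obtain ⟨p, q, rfl⟩ := Ideal.mem_span_pair.1 hz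
  have e : p * ξ + q * η = (q - p * s' * r) * η + p * s' * (s * ξ + r * η) := by
    linear_combination (-(p * ξ)) * hs
  rw [e]
  exact Submodule.add_mem_sup (Ideal.mem_span_singleton'.2 ⟨_, rfl⟩) (Ideal.mul_mem_left _ _ h)

end Gen

section Normalize

variable {A : Type u} [CommRing A] [IsLocalRing A] [IsNoetherianRing A]

theorem normalize (x y a b c : A) (hx : x ∈ maximalIdeal A) (hy : y ∈ maximalIdeal A)
    (hspan : Ideal.span {x, y} = maximalIdeal A)
    (hdisc : residue A (4 * a * c - b ^ 2) ≠ 0)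
    (hrel : a * x ^ 2 + b * x * y + c * y ^ 2 ∈ maximalIdeal A ^ 3) :
    ∃ x' y' a' b' c' : A, x' ∈ maximalIdeal A ∧ y' ∈ maximalIdeal A ∧
      Ideal.span {x', y'} = maximalIdeal A ∧ residue A (4 * a' * c' - b' ^ 2) ≠ 0 ∧
      a' * x' ^ 2 + b' * x' * y' + c' * y' ^ 2 ∈ maximalIdeal A ^ 3 ∧ residue A c' ≠ 0 := by
  by_cases hc : residue A c = 0
  · by_cases ha : residue A a = 0
    · have hb : residue A b ≠ 0 := by
        intro hb
        apply hdisc
        rw [map_sub, map_mul, map_mul, map_pow, ha, hb]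
        simp
      refine ⟨x + y, y, a, b - 2 * a, a - b + c, Ideal.add_mem _ hx hy, hy, ?_, ?_, ?_, ?_⟩
      · rw [← hspan]
        apply le_antisymm
        · rw [Ideal.span_le]
          intro z hz
          simp only [Set.mem_insert_iff, Set.mem_singleton_iff] at hz
          rcases hz with rfl | rfl
          · exact Ideal.mem_span_pair.2 ⟨1, 1, by ring⟩
          · exact Ideal.mem_span_pair.2 ⟨0, 1, by ring⟩
        · rw [Ideal.span_le]
          intro z hz
          simp only [Set.mem_insert_iff, Set.mem_singleton_iff] at hz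
          rcases hz with rfl | rfl
          · exact Ideal.mem_span_pair.2 ⟨1, -1, by ring⟩
          · exact Ideal.mem_span_pair.2 ⟨0, 1, by ring⟩
      · have e : 4 * a * (a - b + c) - (b - 2 * a) ^ 2 = 4 * a * c - b ^ 2 := by ring
        rw [e]
        exact hdisc
      · have e : a * (x + y) ^ 2 + (b - 2 * a) * (x + y) * y + (a - b + c) * y ^ 2 =
            a * x ^ 2 + b * x * y + c * y ^ 2 := by ring
        rw [e]
        exact hrel
      · rw [map_add, map_sub, ha, hc, zero_sub, add_zero]
        exact neg_ne_zero.2 hb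
    · refine ⟨y, x, c, b, a, hy, hx, ?_, ?_, ?_, ha⟩
      · rw [Set.pair_comm]
        exact hspan
      · have e : 4 * c * a - b ^ 2 = 4 * a * c - b ^ 2 := by ring
        rw [e]
        exact hdisc
      · have e : c * y ^ 2 + b * y * x + a * x ^ 2 = a * x ^ 2 + b * x * y + c * y ^ 2 := by ring
        rw [e]
        exact hrel
  · exact ⟨x, y, a, b, c, hx, hy, hspan, hdisc, hrel, hc⟩

end Normalize

section Coeff

variable (k : Type u) [Field k] {A : Type u} [CommRing A] [IsLocalRing A] [IsNoetherianRing A]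
  [Algebra k A]

local notation "Â" => AdicCompletion (maximalIdeal A) A

omit [Algebra k A] in
theorem algebraMap_mem (z : A) (hz : z ∈ maximalIdeal A) :
    algebraMap A Â z ∈ maximalIdeal Â := by
  have := algebraMap_mem_pow z 1 (by rwa [pow_one])
  rwa [pow_one] at this

theorem exists_coeff_field [Algebra.IsSeparable k (ResidueField A)] :
    ∃ σ : ResidueField A →+* Â,
      (∀ z : A, σ (residue A z) - algebraMap A Â z ∈ maximalIdeal Â) ∧
      ∀ t : k, σ (algebraMap k (ResidueField A) t) = algebraMap A Â (algebraMap k A t) := by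
  haveI : Algebra.FormallyEtale k (ResidueField A) :=
    Algebra.FormallyEtale.of_isSeparable k (ResidueField A)
  let f0 : ResidueField A →+* Â ⧸ maximalIdeal Â :=
    Ideal.Quotient.lift (maximalIdeal A)
      ((Ideal.Quotient.mk (maximalIdeal Â)).comp (algebraMap A Â))
      (fun z hz => by
        rw [RingHom.comp_apply, Ideal.Quotient.eq_zero_iff_mem]
        exact algebraMap_mem z hz)
  let f : ResidueField A →ₐ[k] Â ⧸ maximalIdeal Â :=
    { f0 with
      commutes' := fun t => by
        show f0 (algebraMap k (ResidueField A) t) = algebraMap k (Â ⧸ maximalIdeal Â) t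
        rfl }
  obtain ⟨g, hg⟩ := Algebra.FormallySmooth.exists_mkₐ_comp_eq_of_isAdicComplete
    (I := maximalIdeal Â) f
  refine ⟨g.toRingHom, ?_, ?_⟩
  · intro z
    have h1 : Ideal.Quotient.mk (maximalIdeal Â) (g (residue A z)) =
        Ideal.Quotient.mk (maximalIdeal Â) (algebraMap A Â z) := AlgHom.congr_fun hg (residue A z)
    exact Ideal.Quotient.eq.1 h1
  · intro t
    exact g.commutes t

end Coeff

section Forward

variable {A : Type u} [CommRing A] [IsLocalRing A] [IsNoetherianRing A]

local notation "Â" => AdicCompletion (maximalIdeal A) A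

theorem maxIdeal_ne_bot (hfr : Module.finrank (ResidueField A) (CotangentSpace A) = 2) :
    maximalIdeal A ≠ ⊥ := by
  intro h
  haveI : Subsingleton (CotangentSpace A) := by
    refine ⟨fun p q => ?_⟩
    obtain ⟨p', rfl⟩ := Ideal.toCotangent_surjective _ p
    obtain ⟨q', rfl⟩ := Ideal.toCotangent_surjective _ q
    have hp : p' = q' := by
      apply Subtype.ext
      have h1 : (p' : A) ∈ (⊥ : Ideal A) := h ▸ p'.2
      have h2 : (q' : A) ∈ (⊥ : Ideal A) := h ▸ q'.2
      rw [Ideal.mem_bot] at h1 h2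
      rw [h1, h2]
    rw [hp]
  rw [Module.finrank_zero_of_subsingleton] at hfr
  exact absurd hfr (by norm_num)

theorem not_principal (hfr : Module.finrank (ResidueField A) (CotangentSpace A) = 2) (ξ : Â) :
    maximalIdeal Â ≠ Ideal.span {ξ} := by
  intro h
  have h1 := AdicCompletion.spanFinrank_maximalIdeal_eq (R := A)
  rw [IsLocalRing.spanFinrank_maximalIdeal_eq_finrank_cotangentSpace A, hfr, h] at h1
  have h2 := Submodule.spanFinrank_span_le_ncard_of_finite (R := Â) (Set.finite_singleton ξ)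
  rw [Set.ncard_singleton] at h2
  have h3 : (Ideal.span {ξ} : Ideal Â).spanFinrank ≤ 1 := h2
  omega

theorem forward (k : Type u) [Field k] [Algebra k A] [Algebra.IsSeparable k (ResidueField A)]
    [IsReduced A]
    (hfr : Module.finrank (ResidueField A) (CotangentSpace A) = 2)
    (x y a b c : A) (hx : x ∈ maximalIdeal A) (hy : y ∈ maximalIdeal A)
    (hspan : Ideal.span {x, y} = maximalIdeal A)
    (hdisc : residue A (4 * a * c - b ^ 2) ≠ 0)
    (hrel : a * x ^ 2 + b * x * y + c * y ^ 2 ∈ maximalIdeal A ^ 3)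
    (hc : residue A c ≠ 0) :
    ∃ e : Â ≃+* (MvPowerSeries (Fin 2) (ResidueField A) ⧸
        Ideal.span {qf (residue A a) (residue A b) (residue A c)}),
      ∀ t : k, e (algebraMap A Â (algebraMap k A t)) =
        Ideal.Quotient.mk _ (C (algebraMap A (ResidueField A) (algebraMap k A t))) := by
  classical
  obtain ⟨σ, hσ1, hσ2⟩ := exists_coeff_field k (A := A)
  haveI : IsNoetherianRing Â :=
    Groth.Agent.Helper17.AR.isNoetherianRing_adicCompletion (maximalIdeal A)
  letI : Algebra (ResidueField A) Â := σ.toAlgebra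
  have hxm : algebraMap A Â x ∈ maximalIdeal Â := algebraMap_mem x hx
  have hym : algebraMap A Â y ∈ maximalIdeal Â := algebraMap_mem y hy
  let bv : Fin 2 → Â := ![algebraMap A Â x, algebraMap A Â y]
  have hbv : ∀ i, bv i ∈ maximalIdeal Â := by
    intro i
    fin_cases i
    · exact hxm
    · exact hym
  let Φ0 : MvPowerSeries (Fin 2) (ResidueField A) →ₐ[ResidueField A] Â :=
    Groth.Agent.Helper5.PSR.evalHom bv hbv
  have hΦ0X0 : Φ0 (X 0) = algebraMap A Â x := Groth.Agent.Helper5.PSR.evalHom_X bv hbv 0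
  have hΦ0X1 : Φ0 (X 1) = algebraMap A Â y := Groth.Agent.Helper5.PSR.evalHom_X bv hbv 1
  have hΦ0C : ∀ z, Φ0 (C z) = σ z := by
    intro z
    rw [c_eq_algebraMap]
    exact Φ0.commutes z
  -- surjectivity of Φ0
  have hres : Function.Surjective ((residue Â).comp (algebraMap (ResidueField A) Â)) := by
    intro yy
    obtain ⟨bb, rfl⟩ := residue_surjective yy
    obtain ⟨l, hl⟩ := exists_sub_mem bb 1
    rw [pow_one] at hl
    refine ⟨residue A l, ?_⟩
    show residue Â (σ (residue A l)) = residue Â bb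
    rw [← sub_eq_zero, ← map_sub, residue_eq_zero_iff]
    have h1 := Ideal.sub_mem _ (hσ1 l) hl
    have e : σ (residue A l) - algebraMap A Â l - (bb - algebraMap A Â l) =
        σ (residue A l) - bb := by ring
    rwa [e] at h1
  have hpair : Ideal.span {algebraMap A Â x, algebraMap A Â y} = maximalIdeal Â := by
    rw [AdicCompletion.maximalIdeal_eq_map, ← hspan, Ideal.map_span, Set.image_pair]
  have hspanB : Ideal.span (Set.range fun i => Φ0 (X i)) = maximalIdeal Â := by
    have h1 : (Set.range fun i : Fin 2 => Φ0 (X i)) =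
        {algebraMap A Â x, algebraMap A Â y} := by
      ext w
      simp only [Set.mem_range, Fin.exists_fin_two, hΦ0X0, hΦ0X1, Set.mem_insert_iff,
        Set.mem_singleton_iff]
      constructor
      · rintro (h | h)
        · exact Or.inl h.symm
        · exact Or.inr h.symm
      · rintro (h | h)
        · exact Or.inl h.symm
        · exact Or.inr h.symm
    rw [h1, hpair]
  have hsurj0 : Function.Surjective Φ0 :=
    Groth.Agent.Helper5.PSR.surjective_of_span_eq hres Φ0 hspanB
  -- the relation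
  have hΦ0q : Φ0 (qf (residue A a) (residue A b) (residue A c)) =
      σ (residue A a) * algebraMap A Â x ^ 2 +
        σ (residue A b) * algebraMap A Â x * algebraMap A Â y +
        σ (residue A c) * algebraMap A Â y ^ 2 := by
    unfold qf
    simp only [map_add, map_mul, map_pow, hΦ0C, hΦ0X0, hΦ0X1]
  have hmem3 : Φ0 (qf (residue A a) (residue A b) (residue A c)) ∈ maximalIdeal Â ^ 3 := by
    have h1 := algebraMap_mem_pow _ 3 hrel
    have e : Φ0 (qf (residue A a) (residue A b) (residue A c)) =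
        algebraMap A Â (a * x ^ 2 + b * x * y + c * y ^ 2) +
        ((σ (residue A a) - algebraMap A Â a) * (algebraMap A Â x * algebraMap A Â x) +
         (σ (residue A b) - algebraMap A Â b) * (algebraMap A Â x * algebraMap A Â y) +
         (σ (residue A c) - algebraMap A Â c) * (algebraMap A Â y * algebraMap A Â y)) := by
      rw [hΦ0q]
      simp only [map_add, map_mul, map_pow]
      ring
    rw [e]
    exact Ideal.add_mem _ h1 (Ideal.add_mem _ (Ideal.add_mem _
      (mul_mem_cube _ (hσ1 a) (mul_mem_sq _ hxm hxm))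
      (mul_mem_cube _ (hσ1 b) (mul_mem_sq _ hxm hym)))
      (mul_mem_cube _ (hσ1 c) (mul_mem_sq _ hym hym)))
  have hmap0 : (nn (ResidueField A) 2).map Φ0 = maximalIdeal Â := by
    rw [nn_eq, Ideal.map_span, Set.image_pair, hΦ0X0, hΦ0X1, hpair]
  obtain ⟨G, hG, hGq⟩ : ∃ G ∈ nn (ResidueField A) 2 ^ 3,
      Φ0 G = Φ0 (qf (residue A a) (residue A b) (residue A c)) := by
    have h1 : Φ0 (qf (residue A a) (residue A b) (residue A c)) ∈
        (nn (ResidueField A) 2 ^ 3).map Φ0 := by
      rw [Ideal.map_pow, hmap0]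
      exact hmem3
    exact (Ideal.mem_map_iff_of_surjective Φ0 hsurj0).1 h1
  have hΦ0F : Φ0 (qf (residue A a) (residue A b) (residue A c) - G) = 0 := by
    rw [map_sub, hGq, sub_self]
  have hFco : ∀ e : Fin 2 →₀ ℕ, e.degree ≤ 2 →
      coeff e (qf (residue A a) (residue A b) (residue A c) - G) =
        coeff e (qf (residue A a) (residue A b) (residue A c)) := by
    intro e he
    rw [map_sub, coeff_eq_zero_of_mem_pow 3 G hG e (by omega), sub_zero]
  have hdisc' : 4 * residue A a * residue A c - residue A b ^ 2 ≠ 0 := by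
    intro h
    apply hdisc
    rw [map_sub, map_mul, map_mul, map_pow, map_ofNat]
    exact h
  obtain ⟨φ, hφ⟩ := exists_aut (residue A a) (residue A b) (residue A c) hdisc' _ hFco
  -- the corrected chart
  let Φ : MvPowerSeries (Fin 2) (ResidueField A) →+* Â :=
    (Φ0 : MvPowerSeries (Fin 2) (ResidueField A) →+* Â).comp
      (φ : MvPowerSeries (Fin 2) (ResidueField A) →+* MvPowerSeries (Fin 2) (ResidueField A))
  have hΦ : ∀ f, Φ f = Φ0 (φ f) := fun _ => rfl
  have hΦq : Φ (qf (residue A a) (residue A b) (residue A c)) = 0 := by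
    rw [hΦ, hφ, hΦ0F]
  have hΦsurj : Function.Surjective Φ := hsurj0.comp φ.surjective
  have hΦC : ∀ z, Φ (C z) = σ z := by
    intro z
    rw [hΦ, Groth.Agent.Helper11.NodeB.map_C, hΦ0C]
  have hker_le : RingHom.ker Φ ≤ maximalIdeal (MvPowerSeries (Fin 2) (ResidueField A)) :=
    IsLocalRing.le_maximalIdeal (RingHom.ker_ne_top Φ)
  have hmapΦ : (nn (ResidueField A) 2).map Φ = maximalIdeal Â := by
    have hmax : ((maximalIdeal (MvPowerSeries (Fin 2) (ResidueField A))).map Φ).IsMaximal :=
      Ideal.IsMaximal.map_of_surjective_of_ker_le hΦsurj hker_le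
    rw [← max_eq]
    exact IsLocalRing.eq_maximalIdeal hmax
  have hspanξ : maximalIdeal Â = Ideal.span {Φ (X 0), Φ (X 1)} := by
    rw [← hmapΦ, nn_eq, Ideal.map_span, Set.image_pair]
  have hξ0m : Φ (X 0) ∈ maximalIdeal Â := by
    rw [hspanξ]
    exact Ideal.subset_span (by simp)
  have hξ1m : Φ (X 1) ∈ maximalIdeal Â := by
    rw [hspanξ]
    exact Ideal.subset_span (by simp)
  have hmapsq : ∀ f ∈ nn (ResidueField A) 2 ^ 2, Φ f ∈ maximalIdeal Â ^ 2 := by
    intro f hf
    have h1 := Ideal.mem_map_of_mem Φ hf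
    rwa [Ideal.map_pow, hmapΦ] at h1
  -- the kernel lies in the square of the maximal ideal
  have hF2 : RingHom.ker Φ ≤ nn (ResidueField A) 2 ^ 2 := by
    intro g hg
    have hg0 : Φ g = 0 := hg
    have hgn : g ∈ nn (ResidueField A) 2 := by
      rw [← max_eq]
      exact hker_le hg
    have hcc : constantCoeff g = 0 := (mem_nn_iff g).1 hgn
    obtain ⟨α, β, h2⟩ : ∃ α β : ResidueField A, g - C α * X 0 - C β * X 1 ∈
        nn (ResidueField A) 2 ^ 2 := by
      have h2 := sub_low_mem_sq g
      rw [hcc, map_zero, sub_zero] at h2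
      exact ⟨_, _, h2⟩
    have h3 := hmapsq _ h2
    rw [map_sub, map_sub, map_mul, map_mul, hg0, hΦC, hΦC, zero_sub] at h3
    have h4 : σ α * Φ (X 0) + σ β * Φ (X 1) ∈ maximalIdeal Â ^ 2 := by
      have := neg_mem h3
      have e : -(-(σ α * Φ (X 0)) - σ β * Φ (X 1)) = σ α * Φ (X 0) + σ β * Φ (X 1) := by ring
      rwa [e] at this
    by_cases hα0 : α = 0
    · by_cases hβ0 : β = 0
      · subst hα0
        subst hβ0
        simpa using h2
      · exfalso
        have hs : σ β⁻¹ * σ β = 1 := by rw [← map_mul, inv_mul_cancel₀ hβ0, map_one]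
        have hsp : maximalIdeal Â = Ideal.span {Φ (X 1), Φ (X 0)} := by
          rw [Set.pair_comm]
          exact hspanξ
        have h5 : σ β * Φ (X 1) + σ α * Φ (X 0) ∈ maximalIdeal Â ^ 2 := by
          rwa [add_comm] at h4
        exact not_principal hfr _ (principal_of_rel _ _ _ _ _ hs hξ0m hsp h5)
    · exfalso
      have hs : σ α⁻¹ * σ α = 1 := by rw [← map_mul, inv_mul_cancel₀ hα0, map_one]
      exact not_principal hfr _ (principal_of_rel _ _ _ _ _ hs hξ1m hspanξ h4)
  have hnnsq := nn_sq_le (residue A a) (residue A b) (residue A c) hc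
  have hsqξ : ∀ z ∈ maximalIdeal Â ^ 2, ∃ w, z = w * Φ (X 0) := by
    intro z hz
    rw [← hmapΦ, ← Ideal.map_pow] at hz
    obtain ⟨f, hf, rfl⟩ := (Ideal.mem_map_iff_of_surjective Φ hΦsurj).1 hz
    obtain ⟨s, r, hsr⟩ := Ideal.mem_span_pair.1 (hnnsq hf)
    refine ⟨Φ r, ?_⟩
    rw [← hsr, map_add, map_mul, map_mul, hΦq, mul_zero, zero_add]
  -- a regular element
  obtain ⟨t, htm, htreg⟩ := Groth.Agent.Helper11.NodeA.exists_nzd (maxIdeal_ne_bot hfr)
  have hreg_t : IsSMulRegular Â (algebraMap A Â t) := by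
    apply IsSMulRegular.of_flat
    intro p q hpq
    have h1 : t * (p - q) = 0 := by
      rw [mul_sub, sub_eq_zero]
      exact hpq
    exact sub_eq_zero.1 (htreg _ h1)
  have hreg_t' : ∀ z : Â, algebraMap A Â t * z = 0 → z = 0 := by
    intro z hz
    apply hreg_t
    show algebraMap A Â t • z = algebraMap A Â t • (0 : Â)
    rw [smul_eq_mul, smul_eq_mul, hz, mul_zero]
  have hξ0reg : ∀ z : Â, Φ (X 0) * z = 0 → z = 0 := by
    intro z hz
    have ht2 : algebraMap A Â t * algebraMap A Â t ∈ maximalIdeal Â ^ 2 :=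
      mul_mem_sq _ (algebraMap_mem t htm) (algebraMap_mem t htm)
    obtain ⟨w, hw⟩ := hsqξ _ ht2
    have h1 : algebraMap A Â t * (algebraMap A Â t * z) = 0 := by
      rw [← mul_assoc, hw, mul_assoc, hz, mul_zero]
    exact hreg_t' _ (hreg_t' _ h1)
  have hker : RingHom.ker Φ = Ideal.span {qf (residue A a) (residue A b) (residue A c)} := by
    apply Groth.Agent.Helper11.NodeA.eq_of_le_sup_span
      (Ideal.span {qf (residue A a) (residue A b) (residue A c)}) (RingHom.ker Φ) (X 0)
    · rw [max_eq]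
      exact X_mem_nn 0
    · rw [Ideal.span_singleton_le_iff_mem]
      exact hΦq
    · refine le_trans hF2 (le_trans hnnsq ?_)
      rw [Ideal.span_insert]
    · intro r hr
      rw [RingHom.mem_ker] at hr ⊢
      rw [map_mul] at hr
      exact hξ0reg _ hr
  let e1 : (MvPowerSeries (Fin 2) (ResidueField A) ⧸ RingHom.ker Φ) ≃+* Â :=
    RingHom.quotientKerEquivOfSurjective hΦsurj
  let e2 : (MvPowerSeries (Fin 2) (ResidueField A) ⧸
      Ideal.span {qf (residue A a) (residue A b) (residue A c)}) ≃+*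
      (MvPowerSeries (Fin 2) (ResidueField A) ⧸ RingHom.ker Φ) :=
    Ideal.quotEquivOfEq hker.symm
  refine ⟨(e2.trans e1).symm, ?_⟩
  intro t
  rw [RingEquiv.symm_apply_eq]
  show _ = e1 (e2 (Ideal.Quotient.mk _ (C _)))
  rw [Ideal.quotEquivOfEq_mk, RingHom.quotientKerEquivOfSurjective_apply_mk, hΦC,
    ← IsScalarTower.algebraMap_apply k A (ResidueField A), hσ2]

end Forward

end Groth.Agent.Helper11.NodeE
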