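import Groth.Agent.Lib.Helper19.NormEx.Defs

set_option autoImplicit false
set_option linter.style.haveILetI false
universe u
open CategoryTheory CategoryTheory.Limits AlgebraicGeometry Opposite

namespace Groth.Agent.Helper11.NormBC

open Groth.Agent.Helper19.NormEx
open TensorProduct

/-- The norm commutes with base change along a pushout square of commutative rings
(`B₁ = A₁ ⊗[A] B` with `B` finite free over `A`). -/
theorem norm_of_isPushout {A B A₁ B₁ : Type u} [CommRing A] [CommRing B] [CommRing A₁]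
    [CommRing B₁] [Algebra A B] [Algebra A A₁] [Algebra A₁ B₁] [Algebra B B₁] [Algebra A B₁]
    [IsScalarTower A A₁ B₁] [IsScalarTower A B B₁] [Algebra.IsPushout A A₁ B B₁]
    [Module.Free A B] [Module.Finite A B] (b : B) :
    Algebra.norm A₁ (algebraMap B B₁ b) = algebraMap A A₁ (Algebra.norm A b) := by
  let e : A₁ ⊗[A] B ≃ₐ[A₁] B₁ := Algebra.IsPushout.equiv A A₁ B B₁
  have he : e (1 ⊗ₜ b) = algebraMap B B₁ b := by
    simp only [e]
    rw [Algebra.IsPushout.equiv_tmul]
    simp
  rw [← he, Algebra.norm_eq_of_algEquiv, Algebra.norm_apply, ← Algebra.baseChange_lmul,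
    LinearMap.det_baseChange, ← Algebra.norm_apply]

/-- Hom form of `norm_of_isPushout` in `CommRingCat`. -/
theorem norm_of_isPushout_hom {A B A₁ B₁ : CommRingCat.{u}} (i : A ⟶ B) (φ : A ⟶ A₁)
    (i₁ : A₁ ⟶ B₁) (ψ : B ⟶ B₁) (h : IsPushout φ i i₁ ψ)
    (hfin : letI := i.hom.toAlgebra; Module.Finite A B)
    (hfree : letI := i.hom.toAlgebra; Module.Free A B) (b : B) :
    @Algebra.norm A₁ B₁ _ _ i₁.hom.toAlgebra (ψ b) =
      φ (@Algebra.norm A B _ _ i.hom.toAlgebra b) := by
  letI := i.hom.toAlgebra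
  letI := φ.hom.toAlgebra
  letI := i₁.hom.toAlgebra
  letI := ψ.hom.toAlgebra
  letI : Algebra A B₁ := (i₁.hom.comp φ.hom).toAlgebra
  haveI : IsScalarTower A A₁ B₁ := IsScalarTower.of_algebraMap_eq' rfl
  haveI : IsScalarTower A B B₁ := IsScalarTower.of_algebraMap_eq' (by
    show i₁.hom.comp φ.hom = ψ.hom.comp i.hom
    have := h.w
    exact congrArg CommRingCat.Hom.hom this)
  haveI : Algebra.IsPushout A A₁ B B₁ :=
    (CommRingCat.isPushout_iff_isPushout (R := A) (R' := A₁) (S := B) (S' := B₁)).mp h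
  exact norm_of_isPushout (A := A) (B := B) (A₁ := A₁) (B₁ := B₁) b

variable {X X' : Scheme.{u}} (f : X' ⟶ X)

theorem isPullback_map [IsFinite f] {T T₁ : Over X} (φ : T₁ ⟶ T) :
    IsPullback ((Over.pullback f).map φ).left (pullback.fst T₁.hom f) (pullback.fst T.hom f)
      φ.left := by
  refine IsPullback.of_right (h₁₂ := pullback.snd T.hom f) (h₂₂ := T.hom) (v₁₃ := f) ?_ ?_
    (IsPullback.of_hasPullback T.hom f).flip
  · have h1 : ((Over.pullback f).map φ).left ≫ pullback.snd T.hom f = pullback.snd T₁.hom f :=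
      pullback.lift_snd _ _ _
    have h2 : φ.left ≫ T.hom = T₁.hom := Over.w φ
    rw [h1, h2]
    exact (IsPullback.of_hasPullback T₁.hom f).flip
  · exact pullback.lift_fst _ _ _

theorem norm_baseChange [IsFinite f] {T T₁ : Over X} (φ : T₁ ⟶ T) (hT : FreeAff f T)
    (hT₁ : FreeAff f T₁) (b : Γ(pullback T.hom f, ⊤)) :
    @Algebra.norm Γ(T₁.left, ⊤) Γ(pullback T₁.hom f, ⊤) _ _ (alg f T₁)
        (((Over.pullback f).map φ).left.appTop b) =
      φ.left.appTop (@Algebra.norm Γ(T.left, ⊤) Γ(pullback T.hom f, ⊤) _ _ (alg f T) b) := by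
  haveI : IsAffine T.left := hT.1
  haveI : IsAffine T₁.left := hT₁.1
  haveI hP : IsAffine (pullback T.hom f) := isAffine_of_isAffineHom (pullback.fst T.hom f)
  haveI : IsAffine ((Over.pullback f).obj T).left := hP
  have hpo := isPushout_appTop_of_isPullback (isPullback_map f φ)
  exact norm_of_isPushout_hom (pullback.fst T.hom f).appTop φ.left.appTop
    (pullback.fst T₁.hom f).appTop ((Over.pullback f).map φ).left.appTop hpo.flip hT.2.1 hT.2.2 b

end Groth.Agent.Helper11.NormBC
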