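import Groth.Agent.Lib.Helper11.NumRow

/-!
Numerical types: chains of `(-2)`-indices of arbitrary length have no chords; explicit lower
bounds for rows (helper11).
-/

set_option autoImplicit false

namespace Groth.Agent.Helper11

open Finset Models

variable {n : ℕ} (T : Models.NumericalType n)

/-- Lower bound of a row by the diagonal term and the terms in a subset. -/
theorem NT_row_ge {k : ℕ} (v : Fin k ↪ Fin n) (c : Fin k → ℤ) (hc : ∀ j, 0 ≤ c j) (j : Fin k)
    (S : Finset (Fin k)) (hS : j ∉ S) :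
    T.a (v j) (v j) * c j + ∑ j' ∈ S, T.a (v j) (v j') * c j' ≤
      ∑ j', T.a (v j) (v j') * c j' := by
  classical
  have h1 : ∑ j' ∈ insert j S, T.a (v j) (v j') * c j' ≤ ∑ j', T.a (v j) (v j') * c j' := by
    apply Finset.sum_le_sum_of_subset_of_nonneg (Finset.subset_univ _)
    intro i _ hi
    have hij : j ≠ i := by
      rintro rfl
      exact hi (Finset.mem_insert_self _ _)
    exact mul_nonneg (T.offDiag_nonneg _ _ (v.injective.ne hij)) (hc i)
  rwa [Finset.sum_insert hS] at h1

theorem NT_row_ge1 {k : ℕ} (v : Fin k ↪ Fin n) (c : Fin k → ℤ) (hc : ∀ j, 0 ≤ c j)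
    (j j1 : Fin k) (h1 : j ≠ j1) :
    T.a (v j) (v j) * c j + T.a (v j) (v j1) * c j1 ≤ ∑ j', T.a (v j) (v j') * c j' := by
  classical
  have := NT_row_ge T v c hc j {j1} (by simpa using h1)
  simpa using this

theorem NT_row_ge2 {k : ℕ} (v : Fin k ↪ Fin n) (c : Fin k → ℤ) (hc : ∀ j, 0 ≤ c j)
    (j j1 j2 : Fin k) (h1 : j ≠ j1) (h2 : j ≠ j2) (h12 : j1 ≠ j2) :
    T.a (v j) (v j) * c j + (T.a (v j) (v j1) * c j1 + T.a (v j) (v j2) * c j2) ≤
      ∑ j', T.a (v j) (v j') * c j' := by
  classical
  have := NT_row_ge T v c hc j {j1, j2} (by simp [h1, h2])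
  rwa [Finset.sum_pair h12] at this

theorem NT_row_ge3 {k : ℕ} (v : Fin k ↪ Fin n) (c : Fin k → ℤ) (hc : ∀ j, 0 ≤ c j)
    (j j1 j2 j3 : Fin k) (h1 : j ≠ j1) (h2 : j ≠ j2) (h3 : j ≠ j3) (h12 : j1 ≠ j2)
    (h13 : j1 ≠ j3) (h23 : j2 ≠ j3) :
    T.a (v j) (v j) * c j + (T.a (v j) (v j1) * c j1 + (T.a (v j) (v j2) * c j2 +
      T.a (v j) (v j3) * c j3)) ≤ ∑ j', T.a (v j) (v j') * c j' := by
  classical
  have := NT_row_ge T v c hc j {j1, j2, j3} (by simp [h1, h2, h3])
  rwa [Finset.sum_insert (by simp [h12, h13]), Finset.sum_pair h23] at this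

/-- A chain of `(-2)`-indices in a proper subset has no chords. -/
theorem NT_chain_zero {k : ℕ} (hk : k < n) (v : Fin k ↪ Fin n) (hv : ∀ j, T.IsMinusTwo (v j))
    (hchain : ∀ j j' : Fin k, j'.val = j.val + 1 → T.a (v j) (v j') ≠ 0)
    (j l : Fin k) (hjl : j.val + 1 < l.val) : T.a (v j) (v l) = 0 := by
  classical
  by_contra hne
  let c : Fin k → ℤ := fun i => if j.val ≤ i.val ∧ i.val ≤ l.val then 1 else 0
  have hc0 : ∀ i, 0 ≤ c i := by
    intro i
    simp only [c]
    split_ifs <;> norm_num
  have hc1 : ∀ i : Fin k, j.val ≤ i.val → i.val ≤ l.val → c i = 1 :=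
    fun i h1 h2 => if_pos ⟨h1, h2⟩
  have hcne : c ≠ 0 := by
    intro h
    have := congrFun h j
    rw [hc1 j le_rfl (by omega)] at this
    simp at this
  apply NT_rows_test T hk v c hc0 hcne
  intro i hi
  have hmem : j.val ≤ i.val ∧ i.val ≤ l.val := by
    by_contra h
    simp only [c, if_neg h] at hi
    exact lt_irrefl _ hi
  have hl := l.isLt
  by_cases hij : i.val = j.val
  · have hi' : i = j := Fin.ext hij
    subst hi'
    let j1 : Fin k := ⟨i.val + 1, by omega⟩
    apply NT_row_nonneg2 T v hv c hc0 i j1 l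
    · intro h; have h' : i.val = i.val + 1 := congrArg Fin.val h; omega
    · intro h; have := congrArg Fin.val h; omega
    · intro h; have h' : i.val + 1 = l.val := congrArg Fin.val h; omega
    · exact hchain i j1 rfl
    · exact hne
    · rw [hc1 i le_rfl (by omega), hc1 j1 (by simp [j1]) (by simp [j1]; omega),
        hc1 l (by omega) le_rfl]
      norm_num
  · by_cases hil : i.val = l.val
    · have hi' : i = l := Fin.ext hil
      subst hi'
      let j1 : Fin k := ⟨i.val - 1, by omega⟩
      apply NT_row_nonneg2 T v hv c hc0 i j1 j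
      · intro h; have h' : i.val = i.val - 1 := congrArg Fin.val h; omega
      · intro h; have := congrArg Fin.val h; omega
      · intro h; have h' : i.val - 1 = j.val := congrArg Fin.val h; omega
      · exact NT_ne_symm T (hchain j1 i (by simp [j1]; omega))
      · exact NT_ne_symm T hne
      · rw [hc1 i (by omega) le_rfl, hc1 j1 (by simp [j1]; omega) (by simp [j1]),
          hc1 j le_rfl (by omega)]
        norm_num
    · let j1 : Fin k := ⟨i.val - 1, by omega⟩
      let j2 : Fin k := ⟨i.val + 1, by omega⟩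
      apply NT_row_nonneg2 T v hv c hc0 i j1 j2
      · intro h; have h' : i.val = i.val - 1 := congrArg Fin.val h; omega
      · intro h; have h' : i.val = i.val + 1 := congrArg Fin.val h; omega
      · intro h; have h' : i.val - 1 = i.val + 1 := congrArg Fin.val h; omega
      · exact NT_ne_symm T (hchain j1 i (by simp [j1]; omega))
      · exact hchain i j2 rfl
      · rw [hc1 i hmem.1 hmem.2, hc1 j1 (by simp [j1]; omega) (by simp [j1]; omega),
          hc1 j2 (by simp [j2]; omega) (by simp [j2]; omega)]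
        norm_num

end Groth.Agent.Helper11
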