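import Groth.Agent.S7353
import Groth.Agent.Lib.Helper11.NumChain

/-!
Numerical types: consequences of the classification of 5-chains, in a uniform "window" form
(helper11).
-/

set_option autoImplicit false

namespace Groth.Agent.Helper11

open Finset Models

variable {n : ℕ} (T : Models.NumericalType n)

/-- simple edge -/
def ESimple (i j : Fin n) : Prop := T.a i j = T.w i ∧ T.a i j = T.w j
/-- double edge, the second vertex is heavier -/
def EUp (i j : Fin n) : Prop := T.a i j = 2 * T.w i ∧ T.a i j = T.w j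
/-- double edge, the first vertex is heavier -/
def EDown (i j : Fin n) : Prop := T.a i j = T.w i ∧ T.a i j = 2 * T.w j

theorem NT_five_window (hn : 5 < n) (v : Fin 5 ↪ Fin n) (hv : ∀ j, T.IsMinusTwo (v j))
    (h01 : T.a (v 0) (v 1) ≠ 0) (h12 : T.a (v 1) (v 2) ≠ 0) (h23 : T.a (v 2) (v 3) ≠ 0)
    (h34 : T.a (v 3) (v 4) ≠ 0) :
    ESimple T (v 1) (v 2) ∧ ESimple T (v 2) (v 3) ∧
      (ESimple T (v 0) (v 1) ∨ EUp T (v 0) (v 1) ∨ EDown T (v 0) (v 1)) ∧
      (ESimple T (v 3) (v 4) ∨ EUp T (v 3) (v 4) ∨ EDown T (v 3) (v 4)) := by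
  obtain ⟨-, u, w, hu, hcases⟩ := Groth.Agent.S7353.result T hn v hv h01 h12 h23 h34
  have s10 := NT_symm T (v 0) (v 1)
  have s21 := NT_symm T (v 1) (v 2)
  have s32 := NT_symm T (v 2) (v 3)
  have s43 := NT_symm T (v 3) (v 4)
  simp only [ESimple, EUp, EDown]
  rcases hu with hu | hu
  · have e0 := hu 0
    have e1 := hu 1
    have e2 := hu 2
    have e3 := hu 3
    have e4 := hu 4
    rw [e0, e1, e2, e3, e4] at hcases
    rcases hcases with ⟨w0, w1, w2, w3, w4, a0, a1, a2, a3, -⟩ | ⟨w0, w1, w2, w3, w4, a0, a1, a2, a3, -⟩ |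
      ⟨w0, w1, w2, w3, w4, a0, a1, a2, a3, -⟩
    · exact ⟨⟨by linarith, by linarith⟩, ⟨by linarith, by linarith⟩,
        Or.inl ⟨by linarith, by linarith⟩, Or.inl ⟨by linarith, by linarith⟩⟩
    · exact ⟨⟨by linarith, by linarith⟩, ⟨by linarith, by linarith⟩,
        Or.inl ⟨by linarith, by linarith⟩, Or.inr (Or.inl ⟨by linarith, by linarith⟩)⟩
    · exact ⟨⟨by linarith, by linarith⟩, ⟨by linarith, by linarith⟩,
        Or.inl ⟨by linarith, by linarith⟩, Or.inr (Or.inr ⟨by linarith, by linarith⟩)⟩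
  · have e0 : u 0 = v 4 := hu 0
    have e1 : u 1 = v 3 := hu 1
    have e2 : u 2 = v 2 := hu 2
    have e3 : u 3 = v 1 := hu 3
    have e4 : u 4 = v 0 := hu 4
    rw [e0, e1, e2, e3, e4] at hcases
    rcases hcases with ⟨w0, w1, w2, w3, w4, a0, a1, a2, a3, -⟩ | ⟨w0, w1, w2, w3, w4, a0, a1, a2, a3, -⟩ |
      ⟨w0, w1, w2, w3, w4, a0, a1, a2, a3, -⟩
    · exact ⟨⟨by linarith, by linarith⟩, ⟨by linarith, by linarith⟩,
        Or.inl ⟨by linarith, by linarith⟩, Or.inl ⟨by linarith, by linarith⟩⟩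
    · exact ⟨⟨by linarith, by linarith⟩, ⟨by linarith, by linarith⟩,
        Or.inr (Or.inr ⟨by linarith, by linarith⟩), Or.inl ⟨by linarith, by linarith⟩⟩
    · exact ⟨⟨by linarith, by linarith⟩, ⟨by linarith, by linarith⟩,
        Or.inr (Or.inl ⟨by linarith, by linarith⟩), Or.inl ⟨by linarith, by linarith⟩⟩

end Groth.Agent.Helper11
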