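import Groth.Agent.Lib.Helper11.NumQuad

/-! Generated test-vector lemmas for a chain classification statement (helper11). -/

set_option autoImplicit false

namespace Groth.Agent.Helper11

open Models

theorem NumC5_z0_2 {n : ℕ} (T : Models.NumericalType n) (hn : 5 < n) (v : Fin 5 ↪ Fin n)
    (hv : ∀ j, T.IsMinusTwo (v j)) (h01 : T.a (v 0) (v 1) ≠ 0) (h12 : T.a (v 1) (v 2) ≠ 0) (h23 : T.a (v 2) (v 3) ≠ 0) (h34 : T.a (v 3) (v 4) ≠ 0) :
    T.a (v 0) (v 2) = 0 := by
  by_contra hne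
  apply NT_rows_test T (by omega) v ![1, 1, 1, 0, 0] (by intro j; fin_cases j <;> simp)
    (by intro h; simpa using congrFun h 0)
  intro j hj
  fin_cases j
  · simp [Fin.sum_univ_succ]
    linarith only [(hv 0).2, NT_ge1 T (v.injective.ne (by decide)) h01, NT_ge1 T (v.injective.ne (by decide)) hne]
  · simp [Fin.sum_univ_succ]
    linarith only [(hv 1).2, NT_ge2 T (v.injective.ne (by decide)) h01, NT_ge1 T (v.injective.ne (by decide)) h12]
  · simp [Fin.sum_univ_succ]
    linarith only [(hv 2).2, NT_ge2 T (v.injective.ne (by decide)) hne, NT_ge2 T (v.injective.ne (by decide)) h12]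
  · simp at hj
  · simp at hj

theorem NumC5_z0_3 {n : ℕ} (T : Models.NumericalType n) (hn : 5 < n) (v : Fin 5 ↪ Fin n)
    (hv : ∀ j, T.IsMinusTwo (v j)) (h01 : T.a (v 0) (v 1) ≠ 0) (h12 : T.a (v 1) (v 2) ≠ 0) (h23 : T.a (v 2) (v 3) ≠ 0) (h34 : T.a (v 3) (v 4) ≠ 0) :
    T.a (v 0) (v 3) = 0 := by
  by_contra hne
  apply NT_rows_test T (by omega) v ![1, 1, 1, 1, 0] (by intro j; fin_cases j <;> simp)
    (by intro h; simpa using congrFun h 0)
  intro j hj
  fin_cases j
  · simp [Fin.sum_univ_succ]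
    linarith only [(hv 0).2, NT_ge1 T (v.injective.ne (by decide)) h01, T.offDiag_nonneg (v 0) (v 2) (v.injective.ne (by decide)), NT_ge1 T (v.injective.ne (by decide)) hne]
  · simp [Fin.sum_univ_succ]
    linarith only [(hv 1).2, NT_ge2 T (v.injective.ne (by decide)) h01, NT_ge1 T (v.injective.ne (by decide)) h12, T.offDiag_nonneg (v 1) (v 3) (v.injective.ne (by decide))]
  · simp [Fin.sum_univ_succ]
    linarith only [(hv 2).2, T.offDiag_nonneg (v 2) (v 0) (v.injective.ne (by decide)), NT_ge2 T (v.injective.ne (by decide)) h12, NT_ge1 T (v.injective.ne (by decide)) h23]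
  · simp [Fin.sum_univ_succ]
    linarith only [(hv 3).2, NT_ge2 T (v.injective.ne (by decide)) hne, T.offDiag_nonneg (v 3) (v 1) (v.injective.ne (by decide)), NT_ge2 T (v.injective.ne (by decide)) h23]
  · simp at hj

theorem NumC5_z0_4 {n : ℕ} (T : Models.NumericalType n) (hn : 5 < n) (v : Fin 5 ↪ Fin n)
    (hv : ∀ j, T.IsMinusTwo (v j)) (h01 : T.a (v 0) (v 1) ≠ 0) (h12 : T.a (v 1) (v 2) ≠ 0) (h23 : T.a (v 2) (v 3) ≠ 0) (h34 : T.a (v 3) (v 4) ≠ 0) :
    T.a (v 0) (v 4) = 0 := by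
  by_contra hne
  apply NT_rows_test T (by omega) v ![1, 1, 1, 1, 1] (by intro j; fin_cases j <;> simp)
    (by intro h; simpa using congrFun h 0)
  intro j hj
  fin_cases j
  · simp [Fin.sum_univ_succ]
    linarith only [(hv 0).2, NT_ge1 T (v.injective.ne (by decide)) h01, T.offDiag_nonneg (v 0) (v 2) (v.injective.ne (by decide)), T.offDiag_nonneg (v 0) (v 3) (v.injective.ne (by decide)), NT_ge1 T (v.injective.ne (by decide)) hne]
  · simp [Fin.sum_univ_succ]
    linarith only [(hv 1).2, NT_ge2 T (v.injective.ne (by decide)) h01, NT_ge1 T (v.injective.ne (by decide)) h12, T.offDiag_nonneg (v 1) (v 3) (v.injective.ne (by decide)), T.offDiag_nonneg (v 1) (v 4) (v.injective.ne (by decide))]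
  · simp [Fin.sum_univ_succ]
    linarith only [(hv 2).2, T.offDiag_nonneg (v 2) (v 0) (v.injective.ne (by decide)), NT_ge2 T (v.injective.ne (by decide)) h12, NT_ge1 T (v.injective.ne (by decide)) h23, T.offDiag_nonneg (v 2) (v 4) (v.injective.ne (by decide))]
  · simp [Fin.sum_univ_succ]
    linarith only [(hv 3).2, T.offDiag_nonneg (v 3) (v 0) (v.injective.ne (by decide)), T.offDiag_nonneg (v 3) (v 1) (v.injective.ne (by decide)), NT_ge2 T (v.injective.ne (by decide)) h23, NT_ge1 T (v.injective.ne (by decide)) h34]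
  · simp [Fin.sum_univ_succ]
    linarith only [(hv 4).2, NT_ge2 T (v.injective.ne (by decide)) hne, T.offDiag_nonneg (v 4) (v 1) (v.injective.ne (by decide)), T.offDiag_nonneg (v 4) (v 2) (v.injective.ne (by decide)), NT_ge2 T (v.injective.ne (by decide)) h34]

theorem NumC5_z1_3 {n : ℕ} (T : Models.NumericalType n) (hn : 5 < n) (v : Fin 5 ↪ Fin n)
    (hv : ∀ j, T.IsMinusTwo (v j)) (h01 : T.a (v 0) (v 1) ≠ 0) (h12 : T.a (v 1) (v 2) ≠ 0) (h23 : T.a (v 2) (v 3) ≠ 0) (h34 : T.a (v 3) (v 4) ≠ 0) :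
    T.a (v 1) (v 3) = 0 := by
  by_contra hne
  apply NT_rows_test T (by omega) v ![0, 1, 1, 1, 0] (by intro j; fin_cases j <;> simp)
    (by intro h; simpa using congrFun h 1)
  intro j hj
  fin_cases j
  · simp at hj
  · simp [Fin.sum_univ_succ]
    linarith only [(hv 1).2, NT_ge1 T (v.injective.ne (by decide)) h12, NT_ge1 T (v.injective.ne (by decide)) hne]
  · simp [Fin.sum_univ_succ]
    linarith only [(hv 2).2, NT_ge2 T (v.injective.ne (by decide)) h12, NT_ge1 T (v.injective.ne (by decide)) h23]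
  · simp [Fin.sum_univ_succ]
    linarith only [(hv 3).2, NT_ge2 T (v.injective.ne (by decide)) hne, NT_ge2 T (v.injective.ne (by decide)) h23]
  · simp at hj

theorem NumC5_z1_4 {n : ℕ} (T : Models.NumericalType n) (hn : 5 < n) (v : Fin 5 ↪ Fin n)
    (hv : ∀ j, T.IsMinusTwo (v j)) (h01 : T.a (v 0) (v 1) ≠ 0) (h12 : T.a (v 1) (v 2) ≠ 0) (h23 : T.a (v 2) (v 3) ≠ 0) (h34 : T.a (v 3) (v 4) ≠ 0) :
    T.a (v 1) (v 4) = 0 := by
  by_contra hne
  apply NT_rows_test T (by omega) v ![0, 1, 1, 1, 1] (by intro j; fin_cases j <;> simp)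
    (by intro h; simpa using congrFun h 1)
  intro j hj
  fin_cases j
  · simp at hj
  · simp [Fin.sum_univ_succ]
    linarith only [(hv 1).2, NT_ge1 T (v.injective.ne (by decide)) h12, T.offDiag_nonneg (v 1) (v 3) (v.injective.ne (by decide)), NT_ge1 T (v.injective.ne (by decide)) hne]
  · simp [Fin.sum_univ_succ]
    linarith only [(hv 2).2, NT_ge2 T (v.injective.ne (by decide)) h12, NT_ge1 T (v.injective.ne (by decide)) h23, T.offDiag_nonneg (v 2) (v 4) (v.injective.ne (by decide))]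
  · simp [Fin.sum_univ_succ]
    linarith only [(hv 3).2, T.offDiag_nonneg (v 3) (v 1) (v.injective.ne (by decide)), NT_ge2 T (v.injective.ne (by decide)) h23, NT_ge1 T (v.injective.ne (by decide)) h34]
  · simp [Fin.sum_univ_succ]
    linarith only [(hv 4).2, NT_ge2 T (v.injective.ne (by decide)) hne, T.offDiag_nonneg (v 4) (v 2) (v.injective.ne (by decide)), NT_ge2 T (v.injective.ne (by decide)) h34]

theorem NumC5_z2_4 {n : ℕ} (T : Models.NumericalType n) (hn : 5 < n) (v : Fin 5 ↪ Fin n)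
    (hv : ∀ j, T.IsMinusTwo (v j)) (h01 : T.a (v 0) (v 1) ≠ 0) (h12 : T.a (v 1) (v 2) ≠ 0) (h23 : T.a (v 2) (v 3) ≠ 0) (h34 : T.a (v 3) (v 4) ≠ 0) :
    T.a (v 2) (v 4) = 0 := by
  by_contra hne
  apply NT_rows_test T (by omega) v ![0, 0, 1, 1, 1] (by intro j; fin_cases j <;> simp)
    (by intro h; simpa using congrFun h 2)
  intro j hj
  fin_cases j
  · simp at hj
  · simp at hj
  · simp [Fin.sum_univ_succ]
    linarith only [(hv 2).2, NT_ge1 T (v.injective.ne (by decide)) h23, NT_ge1 T (v.injective.ne (by decide)) hne]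
  · simp [Fin.sum_univ_succ]
    linarith only [(hv 3).2, NT_ge2 T (v.injective.ne (by decide)) h23, NT_ge1 T (v.injective.ne (by decide)) h34]
  · simp [Fin.sum_univ_succ]
    linarith only [(hv 4).2, NT_ge2 T (v.injective.ne (by decide)) hne, NT_ge2 T (v.injective.ne (by decide)) h34]

end Groth.Agent.Helper11
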