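import Groth.Agent.Lib.Helper11.NumQuad

/-! Generated test-vector lemmas for a chain classification statement (helper11). -/

set_option autoImplicit false

namespace Groth.Agent.Helper11

open Models

theorem NumC5_xf_2_2 {n : ℕ} (T : Models.NumericalType n) (hn : 5 < n) (v : Fin 5 ↪ Fin n)
    (hv : ∀ j, T.IsMinusTwo (v j)) (h01 : T.a (v 0) (v 1) ≠ 0) (h12 : T.a (v 1) (v 2) ≠ 0) (h23 : T.a (v 2) (v 3) ≠ 0) (h34 : T.a (v 3) (v 4) ≠ 0) :
    ¬ (2 * T.w (v 2) ≤ T.a (v 2) (v 3)) := by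
  intro m1
  apply NT_rows_test T (by omega) v ![1, 2, 3, 2, 1] (by intro j; fin_cases j <;> simp)
    (by intro h; simpa using congrFun h 0)
  intro j hj
  fin_cases j
  · simp [Fin.sum_univ_succ]
    linarith only [(hv 0).2, NT_ge1 T (v.injective.ne (by decide)) h01, T.offDiag_nonneg (v 0) (v 2) (v.injective.ne (by decide)), T.offDiag_nonneg (v 0) (v 3) (v.injective.ne (by decide)), T.offDiag_nonneg (v 0) (v 4) (v.injective.ne (by decide)), m1, NT_symm T (v 0) (v 1), NT_symm T (v 0) (v 2), NT_symm T (v 0) (v 3), NT_symm T (v 0) (v 4), NT_symm T (v 1) (v 2), NT_symm T (v 1) (v 3), NT_symm T (v 1) (v 4), NT_symm T (v 2) (v 3), NT_symm T (v 2) (v 4), NT_symm T (v 3) (v 4)]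
  · simp [Fin.sum_univ_succ]
    linarith only [(hv 1).2, NT_ge2 T (v.injective.ne (by decide)) h01, NT_ge1 T (v.injective.ne (by decide)) h12, T.offDiag_nonneg (v 1) (v 3) (v.injective.ne (by decide)), T.offDiag_nonneg (v 1) (v 4) (v.injective.ne (by decide)), m1, NT_symm T (v 0) (v 1), NT_symm T (v 0) (v 2), NT_symm T (v 0) (v 3), NT_symm T (v 0) (v 4), NT_symm T (v 1) (v 2), NT_symm T (v 1) (v 3), NT_symm T (v 1) (v 4), NT_symm T (v 2) (v 3), NT_symm T (v 2) (v 4), NT_symm T (v 3) (v 4)]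
  · simp [Fin.sum_univ_succ]
    linarith only [(hv 2).2, T.offDiag_nonneg (v 2) (v 0) (v.injective.ne (by decide)), NT_ge2 T (v.injective.ne (by decide)) h12, NT_ge1 T (v.injective.ne (by decide)) h23, T.offDiag_nonneg (v 2) (v 4) (v.injective.ne (by decide)), m1, NT_symm T (v 0) (v 1), NT_symm T (v 0) (v 2), NT_symm T (v 0) (v 3), NT_symm T (v 0) (v 4), NT_symm T (v 1) (v 2), NT_symm T (v 1) (v 3), NT_symm T (v 1) (v 4), NT_symm T (v 2) (v 3), NT_symm T (v 2) (v 4), NT_symm T (v 3) (v 4)]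
  · simp [Fin.sum_univ_succ]
    linarith only [(hv 3).2, T.offDiag_nonneg (v 3) (v 0) (v.injective.ne (by decide)), T.offDiag_nonneg (v 3) (v 1) (v.injective.ne (by decide)), NT_ge2 T (v.injective.ne (by decide)) h23, NT_ge1 T (v.injective.ne (by decide)) h34, m1, NT_symm T (v 0) (v 1), NT_symm T (v 0) (v 2), NT_symm T (v 0) (v 3), NT_symm T (v 0) (v 4), NT_symm T (v 1) (v 2), NT_symm T (v 1) (v 3), NT_symm T (v 1) (v 4), NT_symm T (v 2) (v 3), NT_symm T (v 2) (v 4), NT_symm T (v 3) (v 4)]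
  · simp [Fin.sum_univ_succ]
    linarith only [(hv 4).2, T.offDiag_nonneg (v 4) (v 0) (v.injective.ne (by decide)), T.offDiag_nonneg (v 4) (v 1) (v.injective.ne (by decide)), T.offDiag_nonneg (v 4) (v 2) (v.injective.ne (by decide)), NT_ge2 T (v.injective.ne (by decide)) h34, m1, NT_symm T (v 0) (v 1), NT_symm T (v 0) (v 2), NT_symm T (v 0) (v 3), NT_symm T (v 0) (v 4), NT_symm T (v 1) (v 2), NT_symm T (v 1) (v 3), NT_symm T (v 1) (v 4), NT_symm T (v 2) (v 3), NT_symm T (v 2) (v 4), NT_symm T (v 3) (v 4)]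

theorem NumC5_xf_2_3 {n : ℕ} (T : Models.NumericalType n) (hn : 5 < n) (v : Fin 5 ↪ Fin n)
    (hv : ∀ j, T.IsMinusTwo (v j)) (h01 : T.a (v 0) (v 1) ≠ 0) (h12 : T.a (v 1) (v 2) ≠ 0) (h23 : T.a (v 2) (v 3) ≠ 0) (h34 : T.a (v 3) (v 4) ≠ 0) :
    ¬ (2 * T.w (v 3) ≤ T.a (v 2) (v 3)) := by
  intro m1
  apply NT_rows_test T (by omega) v ![1, 2, 3, 4, 2] (by intro j; fin_cases j <;> simp)
    (by intro h; simpa using congrFun h 0)
  intro j hj
  fin_cases j
  · simp [Fin.sum_univ_succ]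
    linarith only [(hv 0).2, NT_ge1 T (v.injective.ne (by decide)) h01, T.offDiag_nonneg (v 0) (v 2) (v.injective.ne (by decide)), T.offDiag_nonneg (v 0) (v 3) (v.injective.ne (by decide)), T.offDiag_nonneg (v 0) (v 4) (v.injective.ne (by decide)), m1, NT_symm T (v 0) (v 1), NT_symm T (v 0) (v 2), NT_symm T (v 0) (v 3), NT_symm T (v 0) (v 4), NT_symm T (v 1) (v 2), NT_symm T (v 1) (v 3), NT_symm T (v 1) (v 4), NT_symm T (v 2) (v 3), NT_symm T (v 2) (v 4), NT_symm T (v 3) (v 4)]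
  · simp [Fin.sum_univ_succ]
    linarith only [(hv 1).2, NT_ge2 T (v.injective.ne (by decide)) h01, NT_ge1 T (v.injective.ne (by decide)) h12, T.offDiag_nonneg (v 1) (v 3) (v.injective.ne (by decide)), T.offDiag_nonneg (v 1) (v 4) (v.injective.ne (by decide)), m1, NT_symm T (v 0) (v 1), NT_symm T (v 0) (v 2), NT_symm T (v 0) (v 3), NT_symm T (v 0) (v 4), NT_symm T (v 1) (v 2), NT_symm T (v 1) (v 3), NT_symm T (v 1) (v 4), NT_symm T (v 2) (v 3), NT_symm T (v 2) (v 4), NT_symm T (v 3) (v 4)]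
  · simp [Fin.sum_univ_succ]
    linarith only [(hv 2).2, T.offDiag_nonneg (v 2) (v 0) (v.injective.ne (by decide)), NT_ge2 T (v.injective.ne (by decide)) h12, NT_ge1 T (v.injective.ne (by decide)) h23, T.offDiag_nonneg (v 2) (v 4) (v.injective.ne (by decide)), m1, NT_symm T (v 0) (v 1), NT_symm T (v 0) (v 2), NT_symm T (v 0) (v 3), NT_symm T (v 0) (v 4), NT_symm T (v 1) (v 2), NT_symm T (v 1) (v 3), NT_symm T (v 1) (v 4), NT_symm T (v 2) (v 3), NT_symm T (v 2) (v 4), NT_symm T (v 3) (v 4)]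
  · simp [Fin.sum_univ_succ]
    linarith only [(hv 3).2, T.offDiag_nonneg (v 3) (v 0) (v.injective.ne (by decide)), T.offDiag_nonneg (v 3) (v 1) (v.injective.ne (by decide)), NT_ge2 T (v.injective.ne (by decide)) h23, NT_ge1 T (v.injective.ne (by decide)) h34, m1, NT_symm T (v 0) (v 1), NT_symm T (v 0) (v 2), NT_symm T (v 0) (v 3), NT_symm T (v 0) (v 4), NT_symm T (v 1) (v 2), NT_symm T (v 1) (v 3), NT_symm T (v 1) (v 4), NT_symm T (v 2) (v 3), NT_symm T (v 2) (v 4), NT_symm T (v 3) (v 4)]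
  · simp [Fin.sum_univ_succ]
    linarith only [(hv 4).2, T.offDiag_nonneg (v 4) (v 0) (v.injective.ne (by decide)), T.offDiag_nonneg (v 4) (v 1) (v.injective.ne (by decide)), T.offDiag_nonneg (v 4) (v 2) (v.injective.ne (by decide)), NT_ge2 T (v.injective.ne (by decide)) h34, m1, NT_symm T (v 0) (v 1), NT_symm T (v 0) (v 2), NT_symm T (v 0) (v 3), NT_symm T (v 0) (v 4), NT_symm T (v 1) (v 2), NT_symm T (v 1) (v 3), NT_symm T (v 1) (v 4), NT_symm T (v 2) (v 3), NT_symm T (v 2) (v 4), NT_symm T (v 3) (v 4)]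

theorem NumC5_xf_1_2 {n : ℕ} (T : Models.NumericalType n) (hn : 5 < n) (v : Fin 5 ↪ Fin n)
    (hv : ∀ j, T.IsMinusTwo (v j)) (h01 : T.a (v 0) (v 1) ≠ 0) (h12 : T.a (v 1) (v 2) ≠ 0) (h23 : T.a (v 2) (v 3) ≠ 0) (h34 : T.a (v 3) (v 4) ≠ 0) :
    ¬ (2 * T.w (v 2) ≤ T.a (v 1) (v 2)) := by
  intro m1
  apply NT_rows_test T (by omega) v ![1, 2, 3, 2, 1] (by intro j; fin_cases j <;> simp)
    (by intro h; simpa using congrFun h 0)
  intro j hj
  fin_cases j
  · simp [Fin.sum_univ_succ]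
    linarith only [(hv 0).2, NT_ge1 T (v.injective.ne (by decide)) h01, T.offDiag_nonneg (v 0) (v 2) (v.injective.ne (by decide)), T.offDiag_nonneg (v 0) (v 3) (v.injective.ne (by decide)), T.offDiag_nonneg (v 0) (v 4) (v.injective.ne (by decide)), m1, NT_symm T (v 0) (v 1), NT_symm T (v 0) (v 2), NT_symm T (v 0) (v 3), NT_symm T (v 0) (v 4), NT_symm T (v 1) (v 2), NT_symm T (v 1) (v 3), NT_symm T (v 1) (v 4), NT_symm T (v 2) (v 3), NT_symm T (v 2) (v 4), NT_symm T (v 3) (v 4)]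
  · simp [Fin.sum_univ_succ]
    linarith only [(hv 1).2, NT_ge2 T (v.injective.ne (by decide)) h01, NT_ge1 T (v.injective.ne (by decide)) h12, T.offDiag_nonneg (v 1) (v 3) (v.injective.ne (by decide)), T.offDiag_nonneg (v 1) (v 4) (v.injective.ne (by decide)), m1, NT_symm T (v 0) (v 1), NT_symm T (v 0) (v 2), NT_symm T (v 0) (v 3), NT_symm T (v 0) (v 4), NT_symm T (v 1) (v 2), NT_symm T (v 1) (v 3), NT_symm T (v 1) (v 4), NT_symm T (v 2) (v 3), NT_symm T (v 2) (v 4), NT_symm T (v 3) (v 4)]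
  · simp [Fin.sum_univ_succ]
    linarith only [(hv 2).2, T.offDiag_nonneg (v 2) (v 0) (v.injective.ne (by decide)), NT_ge2 T (v.injective.ne (by decide)) h12, NT_ge1 T (v.injective.ne (by decide)) h23, T.offDiag_nonneg (v 2) (v 4) (v.injective.ne (by decide)), m1, NT_symm T (v 0) (v 1), NT_symm T (v 0) (v 2), NT_symm T (v 0) (v 3), NT_symm T (v 0) (v 4), NT_symm T (v 1) (v 2), NT_symm T (v 1) (v 3), NT_symm T (v 1) (v 4), NT_symm T (v 2) (v 3), NT_symm T (v 2) (v 4), NT_symm T (v 3) (v 4)]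
  · simp [Fin.sum_univ_succ]
    linarith only [(hv 3).2, T.offDiag_nonneg (v 3) (v 0) (v.injective.ne (by decide)), T.offDiag_nonneg (v 3) (v 1) (v.injective.ne (by decide)), NT_ge2 T (v.injective.ne (by decide)) h23, NT_ge1 T (v.injective.ne (by decide)) h34, m1, NT_symm T (v 0) (v 1), NT_symm T (v 0) (v 2), NT_symm T (v 0) (v 3), NT_symm T (v 0) (v 4), NT_symm T (v 1) (v 2), NT_symm T (v 1) (v 3), NT_symm T (v 1) (v 4), NT_symm T (v 2) (v 3), NT_symm T (v 2) (v 4), NT_symm T (v 3) (v 4)]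
  · simp [Fin.sum_univ_succ]
    linarith only [(hv 4).2, T.offDiag_nonneg (v 4) (v 0) (v.injective.ne (by decide)), T.offDiag_nonneg (v 4) (v 1) (v.injective.ne (by decide)), T.offDiag_nonneg (v 4) (v 2) (v.injective.ne (by decide)), NT_ge2 T (v.injective.ne (by decide)) h34, m1, NT_symm T (v 0) (v 1), NT_symm T (v 0) (v 2), NT_symm T (v 0) (v 3), NT_symm T (v 0) (v 4), NT_symm T (v 1) (v 2), NT_symm T (v 1) (v 3), NT_symm T (v 1) (v 4), NT_symm T (v 2) (v 3), NT_symm T (v 2) (v 4), NT_symm T (v 3) (v 4)]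

theorem NumC5_xf_1_1 {n : ℕ} (T : Models.NumericalType n) (hn : 5 < n) (v : Fin 5 ↪ Fin n)
    (hv : ∀ j, T.IsMinusTwo (v j)) (h01 : T.a (v 0) (v 1) ≠ 0) (h12 : T.a (v 1) (v 2) ≠ 0) (h23 : T.a (v 2) (v 3) ≠ 0) (h34 : T.a (v 3) (v 4) ≠ 0) :
    ¬ (2 * T.w (v 1) ≤ T.a (v 1) (v 2)) := by
  intro m1
  apply NT_rows_test T (by omega) v ![2, 4, 3, 2, 1] (by intro j; fin_cases j <;> simp)
    (by intro h; simpa using congrFun h 0)
  intro j hj
  fin_cases j
  · simp [Fin.sum_univ_succ]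
    linarith only [(hv 0).2, NT_ge1 T (v.injective.ne (by decide)) h01, T.offDiag_nonneg (v 0) (v 2) (v.injective.ne (by decide)), T.offDiag_nonneg (v 0) (v 3) (v.injective.ne (by decide)), T.offDiag_nonneg (v 0) (v 4) (v.injective.ne (by decide)), m1, NT_symm T (v 0) (v 1), NT_symm T (v 0) (v 2), NT_symm T (v 0) (v 3), NT_symm T (v 0) (v 4), NT_symm T (v 1) (v 2), NT_symm T (v 1) (v 3), NT_symm T (v 1) (v 4), NT_symm T (v 2) (v 3), NT_symm T (v 2) (v 4), NT_symm T (v 3) (v 4)]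
  · simp [Fin.sum_univ_succ]
    linarith only [(hv 1).2, NT_ge2 T (v.injective.ne (by decide)) h01, NT_ge1 T (v.injective.ne (by decide)) h12, T.offDiag_nonneg (v 1) (v 3) (v.injective.ne (by decide)), T.offDiag_nonneg (v 1) (v 4) (v.injective.ne (by decide)), m1, NT_symm T (v 0) (v 1), NT_symm T (v 0) (v 2), NT_symm T (v 0) (v 3), NT_symm T (v 0) (v 4), NT_symm T (v 1) (v 2), NT_symm T (v 1) (v 3), NT_symm T (v 1) (v 4), NT_symm T (v 2) (v 3), NT_symm T (v 2) (v 4), NT_symm T (v 3) (v 4)]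
  · simp [Fin.sum_univ_succ]
    linarith only [(hv 2).2, T.offDiag_nonneg (v 2) (v 0) (v.injective.ne (by decide)), NT_ge2 T (v.injective.ne (by decide)) h12, NT_ge1 T (v.injective.ne (by decide)) h23, T.offDiag_nonneg (v 2) (v 4) (v.injective.ne (by decide)), m1, NT_symm T (v 0) (v 1), NT_symm T (v 0) (v 2), NT_symm T (v 0) (v 3), NT_symm T (v 0) (v 4), NT_symm T (v 1) (v 2), NT_symm T (v 1) (v 3), NT_symm T (v 1) (v 4), NT_symm T (v 2) (v 3), NT_symm T (v 2) (v 4), NT_symm T (v 3) (v 4)]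
  · simp [Fin.sum_univ_succ]
    linarith only [(hv 3).2, T.offDiag_nonneg (v 3) (v 0) (v.injective.ne (by decide)), T.offDiag_nonneg (v 3) (v 1) (v.injective.ne (by decide)), NT_ge2 T (v.injective.ne (by decide)) h23, NT_ge1 T (v.injective.ne (by decide)) h34, m1, NT_symm T (v 0) (v 1), NT_symm T (v 0) (v 2), NT_symm T (v 0) (v 3), NT_symm T (v 0) (v 4), NT_symm T (v 1) (v 2), NT_symm T (v 1) (v 3), NT_symm T (v 1) (v 4), NT_symm T (v 2) (v 3), NT_symm T (v 2) (v 4), NT_symm T (v 3) (v 4)]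
  · simp [Fin.sum_univ_succ]
    linarith only [(hv 4).2, T.offDiag_nonneg (v 4) (v 0) (v.injective.ne (by decide)), T.offDiag_nonneg (v 4) (v 1) (v.injective.ne (by decide)), T.offDiag_nonneg (v 4) (v 2) (v.injective.ne (by decide)), NT_ge2 T (v.injective.ne (by decide)) h34, m1, NT_symm T (v 0) (v 1), NT_symm T (v 0) (v 2), NT_symm T (v 0) (v 3), NT_symm T (v 0) (v 4), NT_symm T (v 1) (v 2), NT_symm T (v 1) (v 3), NT_symm T (v 1) (v 4), NT_symm T (v 2) (v 3), NT_symm T (v 2) (v 4), NT_symm T (v 3) (v 4)]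

theorem NumC5_x2_03_03 {n : ℕ} (T : Models.NumericalType n) (hn : 5 < n) (v : Fin 5 ↪ Fin n)
    (hv : ∀ j, T.IsMinusTwo (v j)) (h01 : T.a (v 0) (v 1) ≠ 0) (h12 : T.a (v 1) (v 2) ≠ 0) (h23 : T.a (v 2) (v 3) ≠ 0) (h34 : T.a (v 3) (v 4) ≠ 0) :
    ¬ (2 * T.w (v 0) ≤ T.a (v 0) (v 1) ∧ 2 * T.w (v 3) ≤ T.a (v 3) (v 4)) := by
  rintro ⟨m1, m2⟩
  apply NT_rows_test T (by omega) v ![2, 2, 2, 2, 1] (by intro j; fin_cases j <;> simp)
    (by intro h; simpa using congrFun h 0)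
  intro j hj
  fin_cases j
  · simp [Fin.sum_univ_succ]
    linarith only [(hv 0).2, NT_ge1 T (v.injective.ne (by decide)) h01, T.offDiag_nonneg (v 0) (v 2) (v.injective.ne (by decide)), T.offDiag_nonneg (v 0) (v 3) (v.injective.ne (by decide)), T.offDiag_nonneg (v 0) (v 4) (v.injective.ne (by decide)), m1, m2, NT_symm T (v 0) (v 1), NT_symm T (v 0) (v 2), NT_symm T (v 0) (v 3), NT_symm T (v 0) (v 4), NT_symm T (v 1) (v 2), NT_symm T (v 1) (v 3), NT_symm T (v 1) (v 4), NT_symm T (v 2) (v 3), NT_symm T (v 2) (v 4), NT_symm T (v 3) (v 4)]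
  · simp [Fin.sum_univ_succ]
    linarith only [(hv 1).2, NT_ge2 T (v.injective.ne (by decide)) h01, NT_ge1 T (v.injective.ne (by decide)) h12, T.offDiag_nonneg (v 1) (v 3) (v.injective.ne (by decide)), T.offDiag_nonneg (v 1) (v 4) (v.injective.ne (by decide)), m1, m2, NT_symm T (v 0) (v 1), NT_symm T (v 0) (v 2), NT_symm T (v 0) (v 3), NT_symm T (v 0) (v 4), NT_symm T (v 1) (v 2), NT_symm T (v 1) (v 3), NT_symm T (v 1) (v 4), NT_symm T (v 2) (v 3), NT_symm T (v 2) (v 4), NT_symm T (v 3) (v 4)]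
  · simp [Fin.sum_univ_succ]
    linarith only [(hv 2).2, T.offDiag_nonneg (v 2) (v 0) (v.injective.ne (by decide)), NT_ge2 T (v.injective.ne (by decide)) h12, NT_ge1 T (v.injective.ne (by decide)) h23, T.offDiag_nonneg (v 2) (v 4) (v.injective.ne (by decide)), m1, m2, NT_symm T (v 0) (v 1), NT_symm T (v 0) (v 2), NT_symm T (v 0) (v 3), NT_symm T (v 0) (v 4), NT_symm T (v 1) (v 2), NT_symm T (v 1) (v 3), NT_symm T (v 1) (v 4), NT_symm T (v 2) (v 3), NT_symm T (v 2) (v 4), NT_symm T (v 3) (v 4)]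
  · simp [Fin.sum_univ_succ]
    linarith only [(hv 3).2, T.offDiag_nonneg (v 3) (v 0) (v.injective.ne (by decide)), T.offDiag_nonneg (v 3) (v 1) (v.injective.ne (by decide)), NT_ge2 T (v.injective.ne (by decide)) h23, NT_ge1 T (v.injective.ne (by decide)) h34, m1, m2, NT_symm T (v 0) (v 1), NT_symm T (v 0) (v 2), NT_symm T (v 0) (v 3), NT_symm T (v 0) (v 4), NT_symm T (v 1) (v 2), NT_symm T (v 1) (v 3), NT_symm T (v 1) (v 4), NT_symm T (v 2) (v 3), NT_symm T (v 2) (v 4), NT_symm T (v 3) (v 4)]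
  · simp [Fin.sum_univ_succ]
    linarith only [(hv 4).2, T.offDiag_nonneg (v 4) (v 0) (v.injective.ne (by decide)), T.offDiag_nonneg (v 4) (v 1) (v.injective.ne (by decide)), T.offDiag_nonneg (v 4) (v 2) (v.injective.ne (by decide)), NT_ge2 T (v.injective.ne (by decide)) h34, m1, m2, NT_symm T (v 0) (v 1), NT_symm T (v 0) (v 2), NT_symm T (v 0) (v 3), NT_symm T (v 0) (v 4), NT_symm T (v 1) (v 2), NT_symm T (v 1) (v 3), NT_symm T (v 1) (v 4), NT_symm T (v 2) (v 3), NT_symm T (v 2) (v 4), NT_symm T (v 3) (v 4)]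

theorem NumC5_x2_03_04 {n : ℕ} (T : Models.NumericalType n) (hn : 5 < n) (v : Fin 5 ↪ Fin n)
    (hv : ∀ j, T.IsMinusTwo (v j)) (h01 : T.a (v 0) (v 1) ≠ 0) (h12 : T.a (v 1) (v 2) ≠ 0) (h23 : T.a (v 2) (v 3) ≠ 0) (h34 : T.a (v 3) (v 4) ≠ 0) :
    ¬ (2 * T.w (v 0) ≤ T.a (v 0) (v 1) ∧ 2 * T.w (v 4) ≤ T.a (v 3) (v 4)) := by
  rintro ⟨m1, m2⟩
  apply NT_rows_test T (by omega) v ![2, 2, 2, 2, 2] (by intro j; fin_cases j <;> simp)
    (by intro h; simpa using congrFun h 0)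
  intro j hj
  fin_cases j
  · simp [Fin.sum_univ_succ]
    linarith only [(hv 0).2, NT_ge1 T (v.injective.ne (by decide)) h01, T.offDiag_nonneg (v 0) (v 2) (v.injective.ne (by decide)), T.offDiag_nonneg (v 0) (v 3) (v.injective.ne (by decide)), T.offDiag_nonneg (v 0) (v 4) (v.injective.ne (by decide)), m1, m2, NT_symm T (v 0) (v 1), NT_symm T (v 0) (v 2), NT_symm T (v 0) (v 3), NT_symm T (v 0) (v 4), NT_symm T (v 1) (v 2), NT_symm T (v 1) (v 3), NT_symm T (v 1) (v 4), NT_symm T (v 2) (v 3), NT_symm T (v 2) (v 4), NT_symm T (v 3) (v 4)]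
  · simp [Fin.sum_univ_succ]
    linarith only [(hv 1).2, NT_ge2 T (v.injective.ne (by decide)) h01, NT_ge1 T (v.injective.ne (by decide)) h12, T.offDiag_nonneg (v 1) (v 3) (v.injective.ne (by decide)), T.offDiag_nonneg (v 1) (v 4) (v.injective.ne (by decide)), m1, m2, NT_symm T (v 0) (v 1), NT_symm T (v 0) (v 2), NT_symm T (v 0) (v 3), NT_symm T (v 0) (v 4), NT_symm T (v 1) (v 2), NT_symm T (v 1) (v 3), NT_symm T (v 1) (v 4), NT_symm T (v 2) (v 3), NT_symm T (v 2) (v 4), NT_symm T (v 3) (v 4)]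
  · simp [Fin.sum_univ_succ]
    linarith only [(hv 2).2, T.offDiag_nonneg (v 2) (v 0) (v.injective.ne (by decide)), NT_ge2 T (v.injective.ne (by decide)) h12, NT_ge1 T (v.injective.ne (by decide)) h23, T.offDiag_nonneg (v 2) (v 4) (v.injective.ne (by decide)), m1, m2, NT_symm T (v 0) (v 1), NT_symm T (v 0) (v 2), NT_symm T (v 0) (v 3), NT_symm T (v 0) (v 4), NT_symm T (v 1) (v 2), NT_symm T (v 1) (v 3), NT_symm T (v 1) (v 4), NT_symm T (v 2) (v 3), NT_symm T (v 2) (v 4), NT_symm T (v 3) (v 4)]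
  · simp [Fin.sum_univ_succ]
    linarith only [(hv 3).2, T.offDiag_nonneg (v 3) (v 0) (v.injective.ne (by decide)), T.offDiag_nonneg (v 3) (v 1) (v.injective.ne (by decide)), NT_ge2 T (v.injective.ne (by decide)) h23, NT_ge1 T (v.injective.ne (by decide)) h34, m1, m2, NT_symm T (v 0) (v 1), NT_symm T (v 0) (v 2), NT_symm T (v 0) (v 3), NT_symm T (v 0) (v 4), NT_symm T (v 1) (v 2), NT_symm T (v 1) (v 3), NT_symm T (v 1) (v 4), NT_symm T (v 2) (v 3), NT_symm T (v 2) (v 4), NT_symm T (v 3) (v 4)]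
  · simp [Fin.sum_univ_succ]
    linarith only [(hv 4).2, T.offDiag_nonneg (v 4) (v 0) (v.injective.ne (by decide)), T.offDiag_nonneg (v 4) (v 1) (v.injective.ne (by decide)), T.offDiag_nonneg (v 4) (v 2) (v.injective.ne (by decide)), NT_ge2 T (v.injective.ne (by decide)) h34, m1, m2, NT_symm T (v 0) (v 1), NT_symm T (v 0) (v 2), NT_symm T (v 0) (v 3), NT_symm T (v 0) (v 4), NT_symm T (v 1) (v 2), NT_symm T (v 1) (v 3), NT_symm T (v 1) (v 4), NT_symm T (v 2) (v 3), NT_symm T (v 2) (v 4), NT_symm T (v 3) (v 4)]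

end Groth.Agent.Helper11
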