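import Groth.Agent.Lib.Helper11.NumC5Win

/-!
Numerical types: structure of long chains of `(-2)`-indices (helper11).
-/

set_option autoImplicit false

namespace Groth.Agent.Helper11

open Finset Models

variable {n : ℕ} (T : Models.NumericalType n)

/-- Data of a chain of `(-2)`-indices `x 0, …, x (r+4)` indexed by naturals. -/
structure LongChain (r : ℕ) (x : ℕ → Fin n) : Prop where
  inj : ∀ i i', i < r + 5 → i' < r + 5 → x i = x i' → i = i'
  m2 : ∀ i, i < r + 5 → T.IsMinusTwo (x i)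
  ne : ∀ i, i + 1 < r + 5 → T.a (x i) (x (i + 1)) ≠ 0

variable {T}

theorem LongChain.window {r : ℕ} {x : ℕ → Fin n} (h : LongChain T r x) (hn : r + 5 < n) (s : ℕ)
    (hs : s + 4 < r + 5) :
    ESimple T (x (s + 1)) (x (s + 2)) ∧ ESimple T (x (s + 2)) (x (s + 3)) ∧
      (ESimple T (x s) (x (s + 1)) ∨ EUp T (x s) (x (s + 1)) ∨ EDown T (x s) (x (s + 1))) ∧
      (ESimple T (x (s + 3)) (x (s + 4)) ∨ EUp T (x (s + 3)) (x (s + 4)) ∨
        EDown T (x (s + 3)) (x (s + 4))) := by
  let ws : Fin 5 ↪ Fin n := ⟨fun i => x (s + i.val), fun i i' hii => by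
    have := h.inj _ _ (by have := i.isLt; omega) (by have := i'.isLt; omega) hii
    exact Fin.ext (by omega)⟩
  have key := NT_five_window T (by omega) ws (fun j => h.m2 _ (by have := j.isLt; omega))
    (h.ne s (by omega)) (h.ne (s + 1) (by omega)) (h.ne (s + 2) (by omega))
    (h.ne (s + 3) (by omega))
  exact key

theorem LongChain.simple {r : ℕ} {x : ℕ → Fin n} (h : LongChain T r x) (hn : r + 5 < n)
    (hr : 1 ≤ r) (i : ℕ) (h1 : 1 ≤ i) (h2 : i + 2 < r + 5) : ESimple T (x i) (x (i + 1)) := by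
  by_cases h3 : i + 3 < r + 5
  · obtain ⟨s, rfl⟩ : ∃ s, i = s + 1 := ⟨i - 1, by omega⟩
    exact (h.window hn s (by omega)).1
  · obtain ⟨s, rfl⟩ : ∃ s, i = s + 2 := ⟨i - 2, by omega⟩
    exact (h.window hn s (by omega)).2.1

theorem LongChain.first {r : ℕ} {x : ℕ → Fin n} (h : LongChain T r x) (hn : r + 5 < n) :
    ESimple T (x 0) (x 1) ∨ EUp T (x 0) (x 1) ∨ EDown T (x 0) (x 1) :=
  (h.window hn 0 (by omega)).2.2.1

theorem LongChain.last {r : ℕ} {x : ℕ → Fin n} (h : LongChain T r x) (hn : r + 5 < n) :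
    ESimple T (x (r + 3)) (x (r + 4)) ∨ EUp T (x (r + 3)) (x (r + 4)) ∨
      EDown T (x (r + 3)) (x (r + 4)) :=
  (h.window hn r (by omega)).2.2.2

theorem LongChain.w_eq {r : ℕ} {x : ℕ → Fin n} (h : LongChain T r x) (hn : r + 5 < n)
    (hr : 1 ≤ r) (i : ℕ) (h1 : 1 ≤ i) (h2 : i + 1 < r + 5) : T.w (x i) = T.w (x 1) := by
  induction i with
  | zero => omega
  | succ k ih =>
    by_cases hk : k = 0
    · subst hk; rfl
    · have hs := h.simple hn hr k (by omega) (by omega)
      rw [← ih (by omega) (by omega)]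
      exact hs.2.symm.trans hs.1

theorem LongChain.not_both {r : ℕ} {x : ℕ → Fin n} (h : LongChain T r x) (hn : r + 5 < n)
    (hr : 1 ≤ r) (v : Fin (r + 5) ↪ Fin n) (hxv : ∀ (i : ℕ) (hi : i < r + 5), v ⟨i, hi⟩ = x i)
    (c0 cl : ℤ)
    (h0 : (c0 = 2 ∧ EUp T (x 0) (x 1)) ∨ (c0 = 1 ∧ EDown T (x 0) (x 1)))
    (hl : (cl = 1 ∧ EUp T (x (r + 3)) (x (r + 4))) ∨
      (cl = 2 ∧ EDown T (x (r + 3)) (x (r + 4)))) : False := by
  classical
  let c : Fin (r + 5) → ℤ := fun j => if j.val = 0 then c0 else if j.val = r + 4 then cl else 2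
  have hc0pos : 0 < c0 := by rcases h0 with ⟨rfl, -⟩ | ⟨rfl, -⟩ <;> norm_num
  have hclpos : 0 < cl := by rcases hl with ⟨rfl, -⟩ | ⟨rfl, -⟩ <;> norm_num
  have hcn : ∀ j, 0 ≤ c j := by
    intro j
    simp only [c]
    split_ifs <;> omega
  have hcv0 : ∀ hi : 0 < r + 5, c ⟨0, hi⟩ = c0 := fun hi => if_pos rfl
  have hcvl : ∀ hi : r + 4 < r + 5, c ⟨r + 4, hi⟩ = cl := fun hi => by
    simp only [c]
    rw [if_neg (by omega)]
    simp
  have hcvm : ∀ (i : ℕ) (hi : i < r + 5), 1 ≤ i → i ≤ r + 3 → c ⟨i, hi⟩ = 2 := by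
    intro i hi h1 h2
    simp only [c]
    rw [if_neg (by omega), if_neg (by omega)]
  have hcne : c ≠ 0 := by
    intro hc
    have := congrFun hc ⟨0, by omega⟩
    rw [hcv0] at this
    simp only [Pi.zero_apply] at this
    omega
  have hd : ∀ i, i < r + 5 → T.a (x i) (x i) = -2 * T.w (x i) := fun i hi => (h.m2 i hi).2
  have S := h.simple hn hr
  apply NT_rows_test T hn v c hcn hcne
  rintro ⟨i, hi⟩ -
  by_cases hi0 : i = 0
  · subst hi0
    have key := NT_row_ge1 T v c hcn ⟨0, hi⟩ ⟨1, by omega⟩ (by simp [Fin.ext_iff])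
    refine le_trans ?_ key
    rw [hxv, hxv, hcv0, hcvm 1 (by omega) le_rfl (by omega), hd 0 (by omega)]
    rcases h0 with ⟨rfl, hu⟩ | ⟨rfl, hdn⟩
    · have := hu.1
      linarith
    · have := hdn.1
      linarith
  by_cases hi1 : i = 1
  · subst hi1
    have key := NT_row_ge2 T v c hcn ⟨1, hi⟩ ⟨0, by omega⟩ ⟨2, by omega⟩
      (by simp [Fin.ext_iff]) (by simp [Fin.ext_iff]) (by simp [Fin.ext_iff])
    refine le_trans ?_ key
    rw [hxv, hxv, hxv, hcv0, hcvm 1 (by omega) le_rfl (by omega),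
      hcvm 2 (by omega) (by omega) (by omega), hd 1 (by omega),
      NT_symm T (x 0) (x 1)]
    have s1 := (S 1 le_rfl (by omega)).1
    rcases h0 with ⟨rfl, hu⟩ | ⟨rfl, hdn⟩
    · have := hu.2
      linarith
    · have := hdn.2
      linarith
  by_cases hil : i = r + 4
  · subst hil
    have key := NT_row_ge1 T v c hcn ⟨r + 4, hi⟩ ⟨r + 3, by omega⟩ (by simp [Fin.ext_iff])
    refine le_trans ?_ key
    rw [hxv, hxv, hcvl, hcvm (r + 3) (by omega) (by omega) le_rfl, hd (r + 4) (by omega),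
      NT_symm T (x (r + 3)) (x (r + 4))]
    rcases hl with ⟨rfl, hu⟩ | ⟨rfl, hdn⟩
    · have := hu.2
      linarith
    · have := hdn.2
      linarith
  by_cases hil' : i = r + 3
  · subst hil'
    have key := NT_row_ge2 T v c hcn ⟨r + 3, hi⟩ ⟨r + 2, by omega⟩ ⟨r + 4, by omega⟩
      (by simp [Fin.ext_iff]) (by simp [Fin.ext_iff]) (by simp [Fin.ext_iff])
    refine le_trans ?_ key
    rw [hxv, hxv, hxv, hcvl, hcvm (r + 3) (by omega) (by omega) le_rfl,
      hcvm (r + 2) (by omega) (by omega) (by omega), hd (r + 3) (by omega),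
      NT_symm T (x (r + 2)) (x (r + 3))]
    have s1 := (S (r + 2) (by omega) (by omega)).2
    rcases hl with ⟨rfl, hu⟩ | ⟨rfl, hdn⟩
    · have := hu.1
      linarith
    · have := hdn.1
      linarith
  · obtain ⟨k, rfl⟩ : ∃ k, i = k + 1 := ⟨i - 1, by omega⟩
    have key := NT_row_ge2 T v c hcn ⟨k + 1, hi⟩ ⟨k, by omega⟩ ⟨k + 2, by omega⟩
      (by simp [Fin.ext_iff]) (by simp [Fin.ext_iff]) (by simp [Fin.ext_iff])
    refine le_trans ?_ key
    rw [hxv, hxv, hxv, hcvm (k + 1) (by omega) (by omega) (by omega),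
      hcvm k (by omega) (by omega) (by omega), hcvm (k + 2) (by omega) (by omega) (by omega),
      hd (k + 1) (by omega), NT_symm T (x k) (x (k + 1))]
    have s1 := (S k (by omega) (by omega)).2
    have s2 := (S (k + 1) (by omega) (by omega)).1
    linarith

/-- The natural-number indexed version of an embedding of `Fin (r+5)`. -/
noncomputable def chainX {r : ℕ} (v : Fin (r + 5) ↪ Fin n) : ℕ → Fin n :=
  fun i => if h : i < r + 5 then v ⟨i, h⟩ else v ⟨0, by omega⟩

theorem chainX_eq {r : ℕ} (v : Fin (r + 5) ↪ Fin n) (i : ℕ) (hi : i < r + 5) :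
    v ⟨i, hi⟩ = chainX v i := by
  simp only [chainX, dif_pos hi]

theorem longChain_chainX {r : ℕ} (v : Fin (r + 5) ↪ Fin n) (hv : ∀ j, T.IsMinusTwo (v j))
    (hchain : ∀ j j' : Fin (r + 5), j'.val = j.val + 1 → T.a (v j) (v j') ≠ 0) :
    LongChain T r (chainX v) where
  inj := fun i i' hi hi' h => by
    rw [← chainX_eq v i hi, ← chainX_eq v i' hi'] at h
    exact congrArg Fin.val (v.injective h)
  m2 := fun i hi => by
    rw [← chainX_eq v i hi]
    exact hv _
  ne := fun i hi => by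
    rw [← chainX_eq v i (by omega), ← chainX_eq v (i + 1) hi]
    exact hchain _ _ rfl

/-- A long chain whose first edge is simple is of type A, C or B (without reversal). -/
theorem long_aux (r : ℕ) (hr : 1 ≤ r) (hn : r + 5 < n)
    (v : Fin (r + 5) ↪ Fin n) (hv : ∀ j, T.IsMinusTwo (v j))
    (hchain : ∀ j j' : Fin (r + 5), j'.val = j.val + 1 → T.a (v j) (v j') ≠ 0)
    (hfirst : ESimple T (v ⟨0, by omega⟩) (v ⟨1, by omega⟩)) :
    ∃ w : ℤ,
      ((∀ j : Fin (r + 5), T.w (v j) = w) ∧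
          (∀ j j' : Fin (r + 5), j'.val = j.val + 1 → T.a (v j) (v j') = w) ∨
        ((∀ j : Fin (r + 5), j.val + 1 < r + 5 → T.w (v j) = w) ∧
          (∀ j : Fin (r + 5), j.val + 1 = r + 5 → T.w (v j) = 2 * w) ∧
          (∀ j j' : Fin (r + 5), j'.val = j.val + 1 → j'.val + 1 < r + 5 → T.a (v j) (v j') = w) ∧
          (∀ j j' : Fin (r + 5), j'.val = j.val + 1 → j'.val + 1 = r + 5 →
            T.a (v j) (v j') = 2 * w)) ∨
        ((∀ j : Fin (r + 5), j.val + 1 < r + 5 → T.w (v j) = 2 * w) ∧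
          (∀ j : Fin (r + 5), j.val + 1 = r + 5 → T.w (v j) = w) ∧
          (∀ j j' : Fin (r + 5), j'.val = j.val + 1 → T.a (v j) (v j') = 2 * w))) := by
  classical
  set x := chainX v with hx
  have hxv : ∀ (i : ℕ) (hi : i < r + 5), v ⟨i, hi⟩ = x i := chainX_eq v
  have hL : LongChain T r x := longChain_chainX v hv hchain
  have S := hL.simple hn hr
  have W := hL.w_eq hn hr
  have La := hL.last hn
  rw [hxv, hxv] at hfirst
  have hw : ∀ i, i ≤ r + 3 → T.w (x i) = T.w (x 1) := by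
    intro i hi
    by_cases h0 : i = 0
    · subst h0; exact hfirst.1.symm.trans hfirst.2
    · exact W i (by omega) (by omega)
  have ha : ∀ i, i ≤ r + 2 → T.a (x i) (x (i + 1)) = T.w (x 1) := by
    intro i hi
    by_cases h0 : i = 0
    · subst h0; exact hfirst.2
    · rw [(S i (by omega) (by omega)).1]; exact hw i (by omega)
  have conv_w : ∀ j : Fin (r + 5), T.w (v j) = T.w (x j.val) := fun j => by
    rw [← hxv j.val j.isLt]
  have conv_a : ∀ j j' : Fin (r + 5), j'.val = j.val + 1 →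
      T.a (v j) (v j') = T.a (x j.val) (x (j.val + 1)) := by
    intro j j' h
    have hj' := j'.isLt
    obtain ⟨j', hj''⟩ := j'
    simp only at h
    subst h
    rw [← hxv j.val j.isLt, ← hxv (j.val + 1) (by omega)]
  have hw3 := hw (r + 3) le_rfl
  rcases La with hs | hu | hdn
  · have hs1 := hs.1
    have hs2 := hs.2
    refine ⟨T.w (x 1), Or.inl ⟨fun j => ?_, fun j j' h => ?_⟩⟩
    · rw [conv_w]
      by_cases hj : j.val ≤ r + 3
      · exact hw _ hj
      · have : j.val = r + 4 := by have := j.isLt; omega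
        rw [this]; linarith
    · rw [conv_a j j' h]
      by_cases hj : j.val ≤ r + 2
      · exact ha _ hj
      · have : j.val = r + 3 := by have := j'.isLt; omega
        rw [this]; linarith
  · have hu1 := hu.1
    have hu2 := hu.2
    refine ⟨T.w (x 1), Or.inr (Or.inl ⟨fun j hj => ?_, fun j hj => ?_, fun j j' h hj' => ?_,
      fun j j' h hj' => ?_⟩)⟩
    · rw [conv_w]; exact hw _ (by omega)
    · rw [conv_w]
      have : j.val = r + 4 := by omega
      rw [this]; linarith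
    · rw [conv_a j j' h]; exact ha _ (by omega)
    · rw [conv_a j j' h]
      have : j.val = r + 3 := by omega
      rw [this]; linarith
  · have hd1 := hdn.1
    have hd2 := hdn.2
    refine ⟨T.w (x (r + 4)), Or.inr (Or.inr ⟨fun j hj => ?_, fun j hj => ?_, fun j j' h => ?_⟩)⟩
    · rw [conv_w, hw _ (by omega)]; linarith
    · rw [conv_w]
      have : j.val = r + 4 := by omega
      rw [this]
    · rw [conv_a j j' h]
      by_cases hj : j.val ≤ r + 2
      · rw [ha _ hj]; linarith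
      · have : j.val = r + 3 := by have := j'.isLt; omega
        rw [this]; linarith

end Groth.Agent.Helper11
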