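import Groth.Agent.S7347
import Groth.Agent.Lib.Helper11.NumLong

/-!
Numerical types: proper subgraphs of type `D_n` (helper11).
-/

set_option autoImplicit false

namespace Groth.Agent.Helper11

open Finset Models

variable {n : ℕ} {T : Models.NumericalType n}

/-- The test vector `(c0, 2, …, 2, 1, 1)` excludes a double edge at the far end of a `D`-graph. -/
theorem dn_test (r : ℕ) (hn : r + 6 < n) (v : Fin (r + 6) ↪ Fin n)
    (x : ℕ → Fin n) (hxv : ∀ (i : ℕ) (hi : i < r + 6), v ⟨i, hi⟩ = x i)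
    (w : ℤ) (hd : ∀ i, i < r + 6 → T.a (x i) (x i) = -2 * T.w (x i))
    (W : ∀ i, 1 ≤ i → i < r + 6 → T.w (x i) = w)
    (A : ∀ i, 1 ≤ i → i + 1 < r + 5 → T.a (x i) (x (i + 1)) = w)
    (hb : T.a (x (r + 3)) (x (r + 5)) = w)
    (c0 : ℤ) (h0 : (c0 = 2 ∧ EUp T (x 0) (x 1)) ∨ (c0 = 1 ∧ EDown T (x 0) (x 1))) : False := by
  classical
  let c : Fin (r + 6) → ℤ := fun j => if j.val = 0 then c0 else if j.val ≤ r + 3 then 2 else 1
  have hc0pos : 0 < c0 := by rcases h0 with ⟨rfl, -⟩ | ⟨rfl, -⟩ <;> norm_num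
  have hcn : ∀ j, 0 ≤ c j := by
    intro j
    simp only [c]
    split_ifs <;> omega
  have hcv0 : ∀ hi : 0 < r + 6, c ⟨0, hi⟩ = c0 := fun hi => if_pos rfl
  have hcvm : ∀ (i : ℕ) (hi : i < r + 6), 1 ≤ i → i ≤ r + 3 → c ⟨i, hi⟩ = 2 := by
    intro i hi h1 h2
    simp only [c]
    rw [if_neg (by omega), if_pos h2]
  have hcvl : ∀ (i : ℕ) (hi : i < r + 6), r + 4 ≤ i → c ⟨i, hi⟩ = 1 := by
    intro i hi h1
    simp only [c]
    rw [if_neg (by omega), if_neg (by omega)]
  have hcne : c ≠ 0 := by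
    intro hc
    have := congrFun hc ⟨0, by omega⟩
    rw [hcv0] at this
    simp only [Pi.zero_apply] at this
    omega
  apply NT_rows_test T hn v c hcn hcne
  rintro ⟨i, hi⟩ -
  by_cases hi0 : i = 0
  · subst hi0
    have key := NT_row_ge1 T v c hcn ⟨0, hi⟩ ⟨1, by omega⟩ (by simp)
    refine le_trans ?_ key
    rw [hxv, hxv, hcv0, hcvm 1 (by omega) le_rfl (by omega), hd 0 (by omega)]
    rcases h0 with ⟨rfl, hu⟩ | ⟨rfl, hdn⟩
    · have := hu.1
      linarith
    · have := hdn.1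
      linarith
  by_cases hi1 : i = 1
  · subst hi1
    have key := NT_row_ge2 T v c hcn ⟨1, hi⟩ ⟨0, by omega⟩ ⟨2, by omega⟩
      (by simp) (by simp [Fin.ext_iff]) (by simp [Fin.ext_iff])
    refine le_trans ?_ key
    rw [hxv, hxv, hxv, hcv0, hcvm 1 (by omega) le_rfl (by omega),
      hcvm 2 (by omega) (by omega) (by omega), hd 1 (by omega),
      NT_symm T (x 0) (x 1)]
    have s1 : T.a (x 1) (x 2) = w := A 1 le_rfl (by omega)
    have s2 := W 1 le_rfl (by omega)
    rcases h0 with ⟨rfl, hu⟩ | ⟨rfl, hdn⟩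
    · have := hu.2
      linarith
    · have := hdn.2
      linarith
  by_cases hil : i = r + 5
  · subst hil
    have key := NT_row_ge1 T v c hcn ⟨r + 5, hi⟩ ⟨r + 3, by omega⟩ (by simp [Fin.ext_iff])
    refine le_trans ?_ key
    rw [hxv, hxv, hcvl (r + 5) (by omega) (by omega), hcvm (r + 3) (by omega) (by omega) le_rfl,
      hd (r + 5) (by omega), NT_symm T (x (r + 3)) (x (r + 5))]
    have := W (r + 5) (by omega) (by omega)
    linarith
  by_cases hil' : i = r + 4
  · subst hil'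
    have key := NT_row_ge1 T v c hcn ⟨r + 4, hi⟩ ⟨r + 3, by omega⟩ (by simp [Fin.ext_iff])
    refine le_trans ?_ key
    rw [hxv, hxv, hcvl (r + 4) (by omega) (by omega), hcvm (r + 3) (by omega) (by omega) le_rfl,
      hd (r + 4) (by omega), NT_symm T (x (r + 3)) (x (r + 4))]
    have := W (r + 4) (by omega) (by omega)
    have e : T.a (x (r + 3)) (x (r + 4)) = w := A (r + 3) (by omega) (by omega)
    linarith
  by_cases hib : i = r + 3
  · subst hib
    have key := NT_row_ge3 T v c hcn ⟨r + 3, hi⟩ ⟨r + 2, by omega⟩ ⟨r + 4, by omega⟩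
      ⟨r + 5, by omega⟩ (by simp [Fin.ext_iff]) (by simp [Fin.ext_iff]) (by simp [Fin.ext_iff])
      (by simp [Fin.ext_iff]) (by simp [Fin.ext_iff]) (by simp [Fin.ext_iff])
    refine le_trans ?_ key
    rw [hxv, hxv, hxv, hxv, hcvm (r + 3) (by omega) (by omega) le_rfl,
      hcvm (r + 2) (by omega) (by omega) (by omega), hcvl (r + 4) (by omega) (by omega),
      hcvl (r + 5) (by omega) (by omega), hd (r + 3) (by omega),
      NT_symm T (x (r + 2)) (x (r + 3))]
    have := W (r + 3) (by omega) (by omega)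
    have e1 : T.a (x (r + 2)) (x (r + 3)) = w := A (r + 2) (by omega) (by omega)
    have e2 : T.a (x (r + 3)) (x (r + 4)) = w := A (r + 3) (by omega) (by omega)
    linarith
  · obtain ⟨k, rfl⟩ : ∃ k, i = k + 1 := ⟨i - 1, by omega⟩
    have key := NT_row_ge2 T v c hcn ⟨k + 1, hi⟩ ⟨k, by omega⟩ ⟨k + 2, by omega⟩
      (by simp [Fin.ext_iff]) (by simp [Fin.ext_iff]) (by simp [Fin.ext_iff])
    refine le_trans ?_ key
    rw [hxv, hxv, hxv, hcvm (k + 1) (by omega) (by omega) (by omega),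
      hcvm k (by omega) (by omega) (by omega), hcvm (k + 2) (by omega) (by omega) (by omega),
      hd (k + 1) (by omega), NT_symm T (x k) (x (k + 1))]
    have := W (k + 1) (by omega) (by omega)
    have e1 : T.a (x k) (x (k + 1)) = w := A k (by omega) (by omega)
    have e2 : T.a (x (k + 1)) (x (k + 2)) = w := A (k + 1) (by omega) (by omega)
    linarith

/-- Weights and edges of a proper `D`-subgraph. -/
theorem dn_core (r : ℕ) (hn : r + 6 < n) (v : Fin (r + 6) ↪ Fin n) (hv : ∀ j, T.IsMinusTwo (v j))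
    (x : ℕ → Fin n) (hxv : ∀ (i : ℕ) (hi : i < r + 6), v ⟨i, hi⟩ = x i)
    (hchain : ∀ i, i + 1 < r + 5 → T.a (x i) (x (i + 1)) ≠ 0)
    (hbranch : T.a (x (r + 3)) (x (r + 5)) ≠ 0) :
    ∃ w : ℤ, (∀ i, i < r + 6 → T.w (x i) = w) ∧
      (∀ i, i + 1 < r + 5 → T.a (x i) (x (i + 1)) = w) ∧
      T.a (x (r + 3)) (x (r + 5)) = w ∧ T.a (x (r + 4)) (x (r + 5)) = 0 := by
  classical
  have xinj : ∀ i i', i < r + 6 → i' < r + 6 → x i = x i' → i = i' := by
    intro i i' hi hi' h
    rw [← hxv i hi, ← hxv i' hi'] at h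
    exact congrArg Fin.val (v.injective h)
  have xm2 : ∀ i, i < r + 6 → T.IsMinusTwo (x i) := fun i hi => by
    rw [← hxv i hi]
    exact hv _
  have hL : LongChain T r x :=
    ⟨fun i i' hi hi' => xinj i i' (by omega) (by omega), fun i hi => xm2 i (by omega), hchain⟩
  let d : Fin 5 ↪ Fin n := ⟨fun i => x (r + 1 + i.val), fun i i' hii => by
    have := xinj _ _ (by have := i.isLt; omega) (by have := i'.isLt; omega) hii
    exact Fin.ext (by omega)⟩
  obtain ⟨w, hw, a01, a12, a23, a24, -, -, -, -, -, z34, -⟩ :=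
    Groth.Agent.S7347.result T (by omega) d
      (fun j => xm2 _ (by have := j.isLt; omega)) (hchain (r + 1) (by omega))
      (hchain (r + 2) (by omega)) (hchain (r + 3) (by omega)) hbranch
  have w1 : T.w (x (r + 1)) = w := hw 0
  have w2 : T.w (x (r + 2)) = w := hw 1
  have w3 : T.w (x (r + 3)) = w := hw 2
  have w4 : T.w (x (r + 4)) = w := hw 3
  have w5 : T.w (x (r + 5)) = w := hw 4
  have a12' : T.a (x (r + 2)) (x (r + 3)) = w := a12
  have a23' : T.a (x (r + 3)) (x (r + 4)) = w := a23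
  have a24' : T.a (x (r + 3)) (x (r + 5)) = w := a24
  have z34' : T.a (x (r + 4)) (x (r + 5)) = 0 := z34
  have S : ∀ i, 1 ≤ i → i ≤ r + 1 → ESimple T (x i) (x (i + 1)) := by
    intro i h1 h2
    obtain ⟨s, rfl⟩ : ∃ s, i = s + 1 := ⟨i - 1, by omega⟩
    exact (hL.window (by omega) s (by omega)).1
  have Wd : ∀ k, k ≤ r → T.w (x (r + 1 - k)) = w := by
    intro k
    induction k with
    | zero => intro _; exact w1
    | succ k ih =>
      intro hk
      have hs := S (r + 1 - (k + 1)) (by omega) (by omega)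
      have e : r + 1 - (k + 1) + 1 = r + 1 - k := by omega
      rw [e] at hs
      rw [← ih (by omega)]
      exact hs.1.symm.trans hs.2
  have W : ∀ i, 1 ≤ i → i < r + 6 → T.w (x i) = w := by
    intro i h1 h2
    by_cases h : i ≤ r + 1
    · have := Wd (r + 1 - i) (by omega)
      rwa [show r + 1 - (r + 1 - i) = i by omega] at this
    · obtain rfl | rfl | rfl | rfl : i = r + 2 ∨ i = r + 3 ∨ i = r + 4 ∨ i = r + 5 := by omega
      exacts [w2, w3, w4, w5]
  have A : ∀ i, 1 ≤ i → i + 1 < r + 5 → T.a (x i) (x (i + 1)) = w := by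
    intro i h1 h2
    by_cases h : i ≤ r + 1
    · rw [(S i h1 h).1]
      exact W i h1 (by omega)
    · obtain rfl | rfl : i = r + 2 ∨ i = r + 3 := by omega
      exacts [a12', a23']
  have key : ESimple T (x 0) (x 1) := by
    rcases hL.first (by omega) with h | h | h
    · exact h
    · exact (dn_test r hn v x hxv w (fun i hi => (xm2 i hi).2) W A a24' 2 (Or.inl ⟨rfl, h⟩)).elim
    · exact (dn_test r hn v x hxv w (fun i hi => (xm2 i hi).2) W A a24' 1 (Or.inr ⟨rfl, h⟩)).elim
  refine ⟨w, ?_, ?_, a24', z34'⟩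
  · intro i hi
    by_cases h0 : i = 0
    · subst h0
      rw [← key.1, key.2]
      exact W 1 le_rfl (by omega)
    · exact W i (by omega) hi
  · intro i hi
    by_cases h0 : i = 0
    · subst h0
      rw [key.2]
      exact W 1 le_rfl (by omega)
    · exact A i (by omega) hi

end Groth.Agent.Helper11
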