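import Groth.Agent.Lib.Helper11.NumQuad

/-! Generated test-vector lemmas for a Dynkin-type classification statement (helper11). -/

set_option autoImplicit false

namespace Groth.Agent.Helper11

open Models

theorem NumE6_e1_2a {n : ℕ} (T : Models.NumericalType n) (hn : 6 < n) (v : Fin 6 ↪ Fin n)
    (hv : ∀ j, T.IsMinusTwo (v j)) (h01 : T.a (v 0) (v 1) ≠ 0) (h12 : T.a (v 1) (v 2) ≠ 0) (h23 : T.a (v 2) (v 3) ≠ 0) (h34 : T.a (v 3) (v 4) ≠ 0) (h25 : T.a (v 2) (v 5) ≠ 0) :
    T.a (v 1) (v 2) = T.w (v 1) := by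
  by_contra hne
  have h2 := NT_edge_two T (v.injective.ne (by decide)) h12 hne
  apply NT_rows_test T (by omega) v ![0, 2, 2, 1, 0, 1] (by intro j; fin_cases j <;> simp)
    (by intro h; simpa using congrFun h 1)
  intro j hj
  fin_cases j
  · simp at hj
  · simp [Fin.sum_univ_succ]
    linarith only [(hv 1).2, NT_ge1 T (v.injective.ne (by decide)) h12, T.offDiag_nonneg (v 1) (v 3) (v.injective.ne (by decide)), T.offDiag_nonneg (v 1) (v 5) (v.injective.ne (by decide)), h2, NT_symm T (v 1) (v 2)]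
  · simp [Fin.sum_univ_succ]
    linarith only [(hv 2).2, NT_ge2 T (v.injective.ne (by decide)) h12, NT_ge1 T (v.injective.ne (by decide)) h23, NT_ge1 T (v.injective.ne (by decide)) h25]
  · simp [Fin.sum_univ_succ]
    linarith only [(hv 3).2, T.offDiag_nonneg (v 3) (v 1) (v.injective.ne (by decide)), NT_ge2 T (v.injective.ne (by decide)) h23, T.offDiag_nonneg (v 3) (v 5) (v.injective.ne (by decide))]
  · simp at hj
  · simp [Fin.sum_univ_succ]
    linarith only [(hv 5).2, T.offDiag_nonneg (v 5) (v 1) (v.injective.ne (by decide)), NT_ge2 T (v.injective.ne (by decide)) h25, T.offDiag_nonneg (v 5) (v 3) (v.injective.ne (by decide))]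

theorem NumE6_e1_2b {n : ℕ} (T : Models.NumericalType n) (hn : 6 < n) (v : Fin 6 ↪ Fin n)
    (hv : ∀ j, T.IsMinusTwo (v j)) (h01 : T.a (v 0) (v 1) ≠ 0) (h12 : T.a (v 1) (v 2) ≠ 0) (h23 : T.a (v 2) (v 3) ≠ 0) (h34 : T.a (v 3) (v 4) ≠ 0) (h25 : T.a (v 2) (v 5) ≠ 0) :
    T.a (v 1) (v 2) = T.w (v 2) := by
  by_contra hne
  have h2 := NT_edge_two' T (v.injective.ne (by decide)) h12 hne
  apply NT_rows_test T (by omega) v ![0, 1, 2, 1, 0, 1] (by intro j; fin_cases j <;> simp)
    (by intro h; simpa using congrFun h 1)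
  intro j hj
  fin_cases j
  · simp at hj
  · simp [Fin.sum_univ_succ]
    linarith only [(hv 1).2, NT_ge1 T (v.injective.ne (by decide)) h12, T.offDiag_nonneg (v 1) (v 3) (v.injective.ne (by decide)), T.offDiag_nonneg (v 1) (v 5) (v.injective.ne (by decide))]
  · simp [Fin.sum_univ_succ]
    linarith only [(hv 2).2, NT_ge2 T (v.injective.ne (by decide)) h12, NT_ge1 T (v.injective.ne (by decide)) h23, NT_ge1 T (v.injective.ne (by decide)) h25, h2, NT_symm T (v 1) (v 2)]
  · simp [Fin.sum_univ_succ]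
    linarith only [(hv 3).2, T.offDiag_nonneg (v 3) (v 1) (v.injective.ne (by decide)), NT_ge2 T (v.injective.ne (by decide)) h23, T.offDiag_nonneg (v 3) (v 5) (v.injective.ne (by decide))]
  · simp at hj
  · simp [Fin.sum_univ_succ]
    linarith only [(hv 5).2, T.offDiag_nonneg (v 5) (v 1) (v.injective.ne (by decide)), NT_ge2 T (v.injective.ne (by decide)) h25, T.offDiag_nonneg (v 5) (v 3) (v.injective.ne (by decide))]

theorem NumE6_e2_3a {n : ℕ} (T : Models.NumericalType n) (hn : 6 < n) (v : Fin 6 ↪ Fin n)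
    (hv : ∀ j, T.IsMinusTwo (v j)) (h01 : T.a (v 0) (v 1) ≠ 0) (h12 : T.a (v 1) (v 2) ≠ 0) (h23 : T.a (v 2) (v 3) ≠ 0) (h34 : T.a (v 3) (v 4) ≠ 0) (h25 : T.a (v 2) (v 5) ≠ 0) :
    T.a (v 2) (v 3) = T.w (v 2) := by
  by_contra hne
  have h2 := NT_edge_two T (v.injective.ne (by decide)) h23 hne
  apply NT_rows_test T (by omega) v ![0, 1, 2, 1, 0, 1] (by intro j; fin_cases j <;> simp)
    (by intro h; simpa using congrFun h 1)
  intro j hj
  fin_cases j
  · simp at hj
  · simp [Fin.sum_univ_succ]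
    linarith only [(hv 1).2, NT_ge1 T (v.injective.ne (by decide)) h12, T.offDiag_nonneg (v 1) (v 3) (v.injective.ne (by decide)), T.offDiag_nonneg (v 1) (v 5) (v.injective.ne (by decide))]
  · simp [Fin.sum_univ_succ]
    linarith only [(hv 2).2, NT_ge2 T (v.injective.ne (by decide)) h12, NT_ge1 T (v.injective.ne (by decide)) h23, NT_ge1 T (v.injective.ne (by decide)) h25, h2, NT_symm T (v 2) (v 3)]
  · simp [Fin.sum_univ_succ]
    linarith only [(hv 3).2, T.offDiag_nonneg (v 3) (v 1) (v.injective.ne (by decide)), NT_ge2 T (v.injective.ne (by decide)) h23, T.offDiag_nonneg (v 3) (v 5) (v.injective.ne (by decide))]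
  · simp at hj
  · simp [Fin.sum_univ_succ]
    linarith only [(hv 5).2, T.offDiag_nonneg (v 5) (v 1) (v.injective.ne (by decide)), NT_ge2 T (v.injective.ne (by decide)) h25, T.offDiag_nonneg (v 5) (v 3) (v.injective.ne (by decide))]

theorem NumE6_e2_3b {n : ℕ} (T : Models.NumericalType n) (hn : 6 < n) (v : Fin 6 ↪ Fin n)
    (hv : ∀ j, T.IsMinusTwo (v j)) (h01 : T.a (v 0) (v 1) ≠ 0) (h12 : T.a (v 1) (v 2) ≠ 0) (h23 : T.a (v 2) (v 3) ≠ 0) (h34 : T.a (v 3) (v 4) ≠ 0) (h25 : T.a (v 2) (v 5) ≠ 0) :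
    T.a (v 2) (v 3) = T.w (v 3) := by
  by_contra hne
  have h2 := NT_edge_two' T (v.injective.ne (by decide)) h23 hne
  apply NT_rows_test T (by omega) v ![0, 1, 2, 2, 0, 1] (by intro j; fin_cases j <;> simp)
    (by intro h; simpa using congrFun h 1)
  intro j hj
  fin_cases j
  · simp at hj
  · simp [Fin.sum_univ_succ]
    linarith only [(hv 1).2, NT_ge1 T (v.injective.ne (by decide)) h12, T.offDiag_nonneg (v 1) (v 3) (v.injective.ne (by decide)), T.offDiag_nonneg (v 1) (v 5) (v.injective.ne (by decide))]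
  · simp [Fin.sum_univ_succ]
    linarith only [(hv 2).2, NT_ge2 T (v.injective.ne (by decide)) h12, NT_ge1 T (v.injective.ne (by decide)) h23, NT_ge1 T (v.injective.ne (by decide)) h25]
  · simp [Fin.sum_univ_succ]
    linarith only [(hv 3).2, T.offDiag_nonneg (v 3) (v 1) (v.injective.ne (by decide)), NT_ge2 T (v.injective.ne (by decide)) h23, T.offDiag_nonneg (v 3) (v 5) (v.injective.ne (by decide)), h2, NT_symm T (v 2) (v 3)]
  · simp at hj
  · simp [Fin.sum_univ_succ]
    linarith only [(hv 5).2, T.offDiag_nonneg (v 5) (v 1) (v.injective.ne (by decide)), NT_ge2 T (v.injective.ne (by decide)) h25, T.offDiag_nonneg (v 5) (v 3) (v.injective.ne (by decide))]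

theorem NumE6_e3_4a {n : ℕ} (T : Models.NumericalType n) (hn : 6 < n) (v : Fin 6 ↪ Fin n)
    (hv : ∀ j, T.IsMinusTwo (v j)) (h01 : T.a (v 0) (v 1) ≠ 0) (h12 : T.a (v 1) (v 2) ≠ 0) (h23 : T.a (v 2) (v 3) ≠ 0) (h34 : T.a (v 3) (v 4) ≠ 0) (h25 : T.a (v 2) (v 5) ≠ 0) :
    T.a (v 3) (v 4) = T.w (v 3) := by
  by_contra hne
  have h2 := NT_edge_two T (v.injective.ne (by decide)) h34 hne
  apply NT_rows_test T (by omega) v ![0, 1, 2, 2, 1, 1] (by intro j; fin_cases j <;> simp)
    (by intro h; simpa using congrFun h 1)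
  intro j hj
  fin_cases j
  · simp at hj
  · simp [Fin.sum_univ_succ]
    linarith only [(hv 1).2, NT_ge1 T (v.injective.ne (by decide)) h12, T.offDiag_nonneg (v 1) (v 3) (v.injective.ne (by decide)), T.offDiag_nonneg (v 1) (v 4) (v.injective.ne (by decide)), T.offDiag_nonneg (v 1) (v 5) (v.injective.ne (by decide))]
  · simp [Fin.sum_univ_succ]
    linarith only [(hv 2).2, NT_ge2 T (v.injective.ne (by decide)) h12, NT_ge1 T (v.injective.ne (by decide)) h23, T.offDiag_nonneg (v 2) (v 4) (v.injective.ne (by decide)), NT_ge1 T (v.injective.ne (by decide)) h25]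
  · simp [Fin.sum_univ_succ]
    linarith only [(hv 3).2, T.offDiag_nonneg (v 3) (v 1) (v.injective.ne (by decide)), NT_ge2 T (v.injective.ne (by decide)) h23, NT_ge1 T (v.injective.ne (by decide)) h34, T.offDiag_nonneg (v 3) (v 5) (v.injective.ne (by decide)), h2, NT_symm T (v 3) (v 4)]
  · simp [Fin.sum_univ_succ]
    linarith only [(hv 4).2, T.offDiag_nonneg (v 4) (v 1) (v.injective.ne (by decide)), T.offDiag_nonneg (v 4) (v 2) (v.injective.ne (by decide)), NT_ge2 T (v.injective.ne (by decide)) h34, T.offDiag_nonneg (v 4) (v 5) (v.injective.ne (by decide))]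
  · simp [Fin.sum_univ_succ]
    linarith only [(hv 5).2, T.offDiag_nonneg (v 5) (v 1) (v.injective.ne (by decide)), NT_ge2 T (v.injective.ne (by decide)) h25, T.offDiag_nonneg (v 5) (v 3) (v.injective.ne (by decide)), T.offDiag_nonneg (v 5) (v 4) (v.injective.ne (by decide))]

theorem NumE6_e3_4b {n : ℕ} (T : Models.NumericalType n) (hn : 6 < n) (v : Fin 6 ↪ Fin n)
    (hv : ∀ j, T.IsMinusTwo (v j)) (h01 : T.a (v 0) (v 1) ≠ 0) (h12 : T.a (v 1) (v 2) ≠ 0) (h23 : T.a (v 2) (v 3) ≠ 0) (h34 : T.a (v 3) (v 4) ≠ 0) (h25 : T.a (v 2) (v 5) ≠ 0) :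
    T.a (v 3) (v 4) = T.w (v 4) := by
  by_contra hne
  have h2 := NT_edge_two' T (v.injective.ne (by decide)) h34 hne
  apply NT_rows_test T (by omega) v ![0, 1, 2, 2, 2, 1] (by intro j; fin_cases j <;> simp)
    (by intro h; simpa using congrFun h 1)
  intro j hj
  fin_cases j
  · simp at hj
  · simp [Fin.sum_univ_succ]
    linarith only [(hv 1).2, NT_ge1 T (v.injective.ne (by decide)) h12, T.offDiag_nonneg (v 1) (v 3) (v.injective.ne (by decide)), T.offDiag_nonneg (v 1) (v 4) (v.injective.ne (by decide)), T.offDiag_nonneg (v 1) (v 5) (v.injective.ne (by decide))]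
  · simp [Fin.sum_univ_succ]
    linarith only [(hv 2).2, NT_ge2 T (v.injective.ne (by decide)) h12, NT_ge1 T (v.injective.ne (by decide)) h23, T.offDiag_nonneg (v 2) (v 4) (v.injective.ne (by decide)), NT_ge1 T (v.injective.ne (by decide)) h25]
  · simp [Fin.sum_univ_succ]
    linarith only [(hv 3).2, T.offDiag_nonneg (v 3) (v 1) (v.injective.ne (by decide)), NT_ge2 T (v.injective.ne (by decide)) h23, NT_ge1 T (v.injective.ne (by decide)) h34, T.offDiag_nonneg (v 3) (v 5) (v.injective.ne (by decide))]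
  · simp [Fin.sum_univ_succ]
    linarith only [(hv 4).2, T.offDiag_nonneg (v 4) (v 1) (v.injective.ne (by decide)), T.offDiag_nonneg (v 4) (v 2) (v.injective.ne (by decide)), NT_ge2 T (v.injective.ne (by decide)) h34, T.offDiag_nonneg (v 4) (v 5) (v.injective.ne (by decide)), h2, NT_symm T (v 3) (v 4)]
  · simp [Fin.sum_univ_succ]
    linarith only [(hv 5).2, T.offDiag_nonneg (v 5) (v 1) (v.injective.ne (by decide)), NT_ge2 T (v.injective.ne (by decide)) h25, T.offDiag_nonneg (v 5) (v 3) (v.injective.ne (by decide)), T.offDiag_nonneg (v 5) (v 4) (v.injective.ne (by decide))]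

end Groth.Agent.Helper11
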