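import Groth.Agent.Lib.Helper11.NumQuad

/-! Generated test-vector lemmas for a Dynkin-type classification statement (helper11). -/

set_option autoImplicit false

namespace Groth.Agent.Helper11

open Models

theorem NumE7_e4_5b {n : ℕ} (T : Models.NumericalType n) (hn : 7 < n) (v : Fin 7 ↪ Fin n)
    (hv : ∀ j, T.IsMinusTwo (v j)) (h01 : T.a (v 0) (v 1) ≠ 0) (h12 : T.a (v 1) (v 2) ≠ 0) (h23 : T.a (v 2) (v 3) ≠ 0) (h34 : T.a (v 3) (v 4) ≠ 0) (h45 : T.a (v 4) (v 5) ≠ 0) (h36 : T.a (v 3) (v 6) ≠ 0) :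
    T.a (v 4) (v 5) = T.w (v 5) := by
  by_contra hne
  have h2 := NT_edge_two' T (v.injective.ne (by decide)) h45 hne
  apply NT_rows_test T (by omega) v ![0, 0, 1, 2, 2, 2, 1] (by intro j; fin_cases j <;> simp)
    (by intro h; simpa using congrFun h 2)
  intro j hj
  fin_cases j
  · simp at hj
  · simp at hj
  · simp [Fin.sum_univ_succ]
    linarith only [(hv 2).2, NT_ge1 T (v.injective.ne (by decide)) h23, T.offDiag_nonneg (v 2) (v 4) (v.injective.ne (by decide)), T.offDiag_nonneg (v 2) (v 5) (v.injective.ne (by decide)), T.offDiag_nonneg (v 2) (v 6) (v.injective.ne (by decide))]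
  · simp [Fin.sum_univ_succ]
    linarith only [(hv 3).2, NT_ge2 T (v.injective.ne (by decide)) h23, NT_ge1 T (v.injective.ne (by decide)) h34, T.offDiag_nonneg (v 3) (v 5) (v.injective.ne (by decide)), NT_ge1 T (v.injective.ne (by decide)) h36]
  · simp [Fin.sum_univ_succ]
    linarith only [(hv 4).2, T.offDiag_nonneg (v 4) (v 2) (v.injective.ne (by decide)), NT_ge2 T (v.injective.ne (by decide)) h34, NT_ge1 T (v.injective.ne (by decide)) h45, T.offDiag_nonneg (v 4) (v 6) (v.injective.ne (by decide))]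
  · simp [Fin.sum_univ_succ]
    linarith only [(hv 5).2, T.offDiag_nonneg (v 5) (v 2) (v.injective.ne (by decide)), T.offDiag_nonneg (v 5) (v 3) (v.injective.ne (by decide)), NT_ge2 T (v.injective.ne (by decide)) h45, T.offDiag_nonneg (v 5) (v 6) (v.injective.ne (by decide)), h2, NT_symm T (v 4) (v 5)]
  · simp [Fin.sum_univ_succ]
    linarith only [(hv 6).2, T.offDiag_nonneg (v 6) (v 2) (v.injective.ne (by decide)), NT_ge2 T (v.injective.ne (by decide)) h36, T.offDiag_nonneg (v 6) (v 4) (v.injective.ne (by decide)), T.offDiag_nonneg (v 6) (v 5) (v.injective.ne (by decide))]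

theorem NumE7_e3_6a {n : ℕ} (T : Models.NumericalType n) (hn : 7 < n) (v : Fin 7 ↪ Fin n)
    (hv : ∀ j, T.IsMinusTwo (v j)) (h01 : T.a (v 0) (v 1) ≠ 0) (h12 : T.a (v 1) (v 2) ≠ 0) (h23 : T.a (v 2) (v 3) ≠ 0) (h34 : T.a (v 3) (v 4) ≠ 0) (h45 : T.a (v 4) (v 5) ≠ 0) (h36 : T.a (v 3) (v 6) ≠ 0) :
    T.a (v 3) (v 6) = T.w (v 3) := by
  by_contra hne
  have h2 := NT_edge_two T (v.injective.ne (by decide)) h36 hne
  apply NT_rows_test T (by omega) v ![0, 0, 1, 2, 1, 0, 1] (by intro j; fin_cases j <;> simp)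
    (by intro h; simpa using congrFun h 2)
  intro j hj
  fin_cases j
  · simp at hj
  · simp at hj
  · simp [Fin.sum_univ_succ]
    linarith only [(hv 2).2, NT_ge1 T (v.injective.ne (by decide)) h23, T.offDiag_nonneg (v 2) (v 4) (v.injective.ne (by decide)), T.offDiag_nonneg (v 2) (v 6) (v.injective.ne (by decide))]
  · simp [Fin.sum_univ_succ]
    linarith only [(hv 3).2, NT_ge2 T (v.injective.ne (by decide)) h23, NT_ge1 T (v.injective.ne (by decide)) h34, NT_ge1 T (v.injective.ne (by decide)) h36, h2, NT_symm T (v 3) (v 6)]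
  · simp [Fin.sum_univ_succ]
    linarith only [(hv 4).2, T.offDiag_nonneg (v 4) (v 2) (v.injective.ne (by decide)), NT_ge2 T (v.injective.ne (by decide)) h34, T.offDiag_nonneg (v 4) (v 6) (v.injective.ne (by decide))]
  · simp at hj
  · simp [Fin.sum_univ_succ]
    linarith only [(hv 6).2, T.offDiag_nonneg (v 6) (v 2) (v.injective.ne (by decide)), NT_ge2 T (v.injective.ne (by decide)) h36, T.offDiag_nonneg (v 6) (v 4) (v.injective.ne (by decide))]

theorem NumE7_e3_6b {n : ℕ} (T : Models.NumericalType n) (hn : 7 < n) (v : Fin 7 ↪ Fin n)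
    (hv : ∀ j, T.IsMinusTwo (v j)) (h01 : T.a (v 0) (v 1) ≠ 0) (h12 : T.a (v 1) (v 2) ≠ 0) (h23 : T.a (v 2) (v 3) ≠ 0) (h34 : T.a (v 3) (v 4) ≠ 0) (h45 : T.a (v 4) (v 5) ≠ 0) (h36 : T.a (v 3) (v 6) ≠ 0) :
    T.a (v 3) (v 6) = T.w (v 6) := by
  by_contra hne
  have h2 := NT_edge_two' T (v.injective.ne (by decide)) h36 hne
  apply NT_rows_test T (by omega) v ![0, 0, 1, 2, 1, 0, 2] (by intro j; fin_cases j <;> simp)
    (by intro h; simpa using congrFun h 2)
  intro j hj
  fin_cases j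
  · simp at hj
  · simp at hj
  · simp [Fin.sum_univ_succ]
    linarith only [(hv 2).2, NT_ge1 T (v.injective.ne (by decide)) h23, T.offDiag_nonneg (v 2) (v 4) (v.injective.ne (by decide)), T.offDiag_nonneg (v 2) (v 6) (v.injective.ne (by decide))]
  · simp [Fin.sum_univ_succ]
    linarith only [(hv 3).2, NT_ge2 T (v.injective.ne (by decide)) h23, NT_ge1 T (v.injective.ne (by decide)) h34, NT_ge1 T (v.injective.ne (by decide)) h36]
  · simp [Fin.sum_univ_succ]
    linarith only [(hv 4).2, T.offDiag_nonneg (v 4) (v 2) (v.injective.ne (by decide)), NT_ge2 T (v.injective.ne (by decide)) h34, T.offDiag_nonneg (v 4) (v 6) (v.injective.ne (by decide))]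
  · simp at hj
  · simp [Fin.sum_univ_succ]
    linarith only [(hv 6).2, T.offDiag_nonneg (v 6) (v 2) (v.injective.ne (by decide)), NT_ge2 T (v.injective.ne (by decide)) h36, T.offDiag_nonneg (v 6) (v 4) (v.injective.ne (by decide)), h2, NT_symm T (v 3) (v 6)]

end Groth.Agent.Helper11
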