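import Mathlib
import Groth.Prelude.Def_Models
import Groth.Agent.S2171
import Groth.Agent.Lib.Helper4.NumType

/-!
Numerical types (Def_Models): negativity of the intersection form on vectors with a zero
coordinate, in a form convenient for explicit test vectors (helper11).
-/

set_option autoImplicit false

namespace Groth.Agent.Helper11

open Finset Models

variable {n : ℕ} (T : Models.NumericalType n)

/-- The intersection form of a numerical type. -/
def NTQ (x : Fin n → ℤ) : ℤ := ∑ i, ∑ j, x i * T.a i j * x j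

theorem NTQ_le (x : Fin n → ℤ) : NTQ T x ≤ 0 ∧ (NTQ T x = 0 → ∃ q : ℝ, ∀ i, (x i : ℝ) = q * T.m i) := by
  let A : Matrix (Fin n) (Fin n) ℝ := T.a.map (Int.cast : ℤ → ℝ)
  let mR : Fin n → ℝ := fun i => (T.m i : ℝ)
  let xR : Fin n → ℝ := fun i => (x i : ℝ)
  have hsymm : A.IsSymm := by
    ext i j
    simp only [A, Matrix.transpose_apply, Matrix.map_apply]
    rw [T.symm.apply j i]
  have hA : ∀ i j, i ≠ j → 0 ≤ A i j := by
    intro i j hij
    simp only [A, Matrix.map_apply]
    exact_mod_cast T.offDiag_nonneg i j hij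
  have hm : ∀ i, 0 < mR i := fun i => by
    simp only [mR]; exact_mod_cast T.m_pos i
  have hAm : A.mulVec mR = 0 := by
    funext i
    have := congrFun T.mulVec_m i
    simp only [Matrix.mulVec, dotProduct, Pi.zero_apply] at this
    simp only [A, mR, Matrix.mulVec, dotProduct, Matrix.map_apply, Pi.zero_apply]
    exact_mod_cast this
  have hconn : ∀ I : Finset (Fin n), I.Nonempty → I ≠ univ → ∃ i ∈ I, ∃ j ∉ I, A i j ≠ 0 := by
    intro I h1 h2
    obtain ⟨i, hi, j, hj, hne⟩ := T.connected I h1 h2
    refine ⟨i, hi, j, hj, ?_⟩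
    simp only [A, Matrix.map_apply]
    exact_mod_cast hne
  have hcast : ((NTQ T x : ℤ) : ℝ) = dotProduct xR (A.mulVec xR) := by
    simp only [NTQ, dotProduct, Matrix.mulVec, A, xR, Matrix.map_apply, Finset.mul_sum]
    push_cast
    refine Finset.sum_congr rfl fun i _ => Finset.sum_congr rfl fun j _ => ?_
    ring
  obtain ⟨h1, h2⟩ := Groth.Agent.S2171.result A mR hsymm hA hm hAm hconn xR
  rw [← hcast] at h1 h2
  refine ⟨by exact_mod_cast h1, fun h0 => ?_⟩
  have : ((NTQ T x : ℤ) : ℝ) = 0 := by rw [h0]; simp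
  obtain ⟨q, hq⟩ := h2.mp this
  exact ⟨q, fun i => by have := congrFun hq i; simpa [xR, mR] using this⟩

/-- The intersection form is negative on nonzero vectors having a zero coordinate. -/
theorem NTQ_neg (x : Fin n → ℤ) (hx : x ≠ 0) (i₀ : Fin n) (h0 : x i₀ = 0) : NTQ T x < 0 := by
  obtain ⟨h1, h2⟩ := NTQ_le T x
  rcases h1.lt_or_eq with h | h
  · exact h
  · exfalso
    obtain ⟨q, hq⟩ := h2 h
    have hm : (T.m i₀ : ℝ) ≠ 0 := by exact_mod_cast (T.m_pos i₀).ne'
    have hq0 : q = 0 := by
      have h1 := hq i₀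
      rw [h0] at h1
      simp only [Int.cast_zero] at h1
      rcases mul_eq_zero.mp h1.symm with h | h
      · exact h
      · exact absurd h hm
    apply hx
    funext i
    have := hq i
    rw [hq0, zero_mul] at this
    exact_mod_cast this

/-- The intersection form evaluated on a vector supported on the image of an embedding. -/
theorem NTQ_extend {k : ℕ} (v : Fin k ↪ Fin n) (c : Fin k → ℤ) :
    NTQ T (Function.extend v c 0) = ∑ j, ∑ j', c j * T.a (v j) (v j') * c j' := by
  classical
  have hext : ∀ j, Function.extend v c 0 (v j) = c j := fun j => v.injective.extend_apply c 0 j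
  have hout : ∀ i, i ∉ Finset.univ.map v → Function.extend v c 0 i = 0 := by
    intro i hi
    rw [Function.extend_apply', Pi.zero_apply]
    rintro ⟨j, rfl⟩
    exact hi (Finset.mem_map_of_mem v (Finset.mem_univ j))
  unfold NTQ
  rw [← Finset.sum_subset (Finset.subset_univ (Finset.univ.map v))]
  · rw [Finset.sum_map]
    refine Finset.sum_congr rfl fun j _ => ?_
    rw [← Finset.sum_subset (Finset.subset_univ (Finset.univ.map v))]
    · rw [Finset.sum_map]
      refine Finset.sum_congr rfl fun j' _ => ?_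
      rw [hext, hext]
    · intro i _ hi
      rw [hout i hi, mul_zero]
  · intro i _ hi
    rw [hout i hi]
    simp

/-- Main tool: for `k < n` distinct indices and a nonzero integer vector of coefficients, the
intersection form is negative. -/
theorem NT_quad_neg_embed {k : ℕ} (hk : k < n) (v : Fin k ↪ Fin n) (c : Fin k → ℤ) (hc : c ≠ 0) :
    ∑ j, ∑ j', c j * T.a (v j) (v j') * c j' < 0 := by
  classical
  rw [← NTQ_extend]
  have hns : ¬ Function.Surjective v := by
    intro hs
    have := Fintype.card_le_of_surjective v hs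
    simp at this
    omega
  simp only [Function.Surjective, not_forall, not_exists] at hns
  obtain ⟨i₀, hi₀⟩ := hns
  apply NTQ_neg T _ _ i₀
  · rw [Function.extend_apply', Pi.zero_apply]
    rintro ⟨j, hj⟩
    exact hi₀ j hj
  · intro h
    apply hc
    funext j
    have := congrFun h (v j)
    rwa [v.injective.extend_apply] at this

/-- A nonzero off-diagonal entry is at least both weights. -/
theorem NT_edge_ge {i j : Fin n} (hij : i ≠ j) (h : T.a i j ≠ 0) :
    T.w i ≤ T.a i j ∧ T.w j ≤ T.a i j := by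
  have hpos : 0 < T.a i j := lt_of_le_of_ne (T.offDiag_nonneg i j hij) (Ne.symm h)
  refine ⟨Int.le_of_dvd hpos (T.w_dvd i j), ?_⟩
  have := T.w_dvd j i
  rw [T.symm.apply i j] at this
  exact Int.le_of_dvd hpos this

theorem NT_symm (i j : Fin n) : T.a j i = T.a i j := T.symm.apply i j

/-- Partial row sums over distinct indices are nonpositive. -/
theorem NT_row_le {k : ℕ} (v : Fin k ↪ Fin n) (j : Fin k) :
    ∑ j', T.a (v j) (v j') * T.m (v j') ≤ 0 := by
  classical
  have h := Groth.Agent.Helper4.NT_row_sum T (v j)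
  rw [← Finset.sum_map univ v (fun i => T.a (v j) i * T.m i), ← h]
  apply Finset.sum_le_sum_of_subset_of_nonneg (Finset.subset_univ _)
  intro i _ hi
  have hne : v j ≠ i := by
    rintro rfl
    exact hi (Finset.mem_map_of_mem v (Finset.mem_univ j))
  exact mul_nonneg (T.offDiag_nonneg _ _ hne) (T.m_pos i).le

theorem NT_edge_two {i j : Fin n} (hij : i ≠ j) (h : T.a i j ≠ 0) (hne : T.a i j ≠ T.w i) :
    2 * T.w i ≤ T.a i j := by
  have hpos : 0 < T.a i j := lt_of_le_of_ne (T.offDiag_nonneg i j hij) (Ne.symm h)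
  obtain ⟨c, hc⟩ := T.w_dvd i j
  have hw := T.w_pos i
  have hc1 : 1 ≤ c := by
    by_contra h'
    push Not at h'
    have : c ≤ 0 := by omega
    nlinarith
  have hc2 : c ≠ 1 := by
    rintro rfl
    apply hne
    rw [hc, mul_one]
  have hc3 : 2 ≤ c := by omega
  nlinarith

theorem NT_edge_two' {i j : Fin n} (hij : i ≠ j) (h : T.a i j ≠ 0) (hne : T.a i j ≠ T.w j) :
    2 * T.w j ≤ T.a i j := by
  have := NT_edge_two T hij.symm (by rwa [NT_symm T i j]) (by rwa [NT_symm T i j])
  rwa [NT_symm T i j] at this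

theorem NT_edge_three {i j : Fin n} (hij : i ≠ j) (h : T.a i j ≠ 0) (hne : T.a i j ≠ T.w i)
    (hne2 : T.a i j ≠ 2 * T.w i) : 3 * T.w i ≤ T.a i j := by
  have hpos : 0 < T.a i j := lt_of_le_of_ne (T.offDiag_nonneg i j hij) (Ne.symm h)
  obtain ⟨c, hc⟩ := T.w_dvd i j
  have hw := T.w_pos i
  have hc1 : 1 ≤ c := by
    by_contra h'
    push Not at h'
    have : c ≤ 0 := by omega
    nlinarith
  have hc2 : c ≠ 1 := by
    rintro rfl
    apply hne
    rw [hc, mul_one]
  have hc2' : c ≠ 2 := by
    rintro rfl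
    apply hne2
    rw [hc, mul_comm]
  have hc3 : 3 ≤ c := by omega
  nlinarith

theorem NT_edge_three' {i j : Fin n} (hij : i ≠ j) (h : T.a i j ≠ 0) (hne : T.a i j ≠ T.w j)
    (hne2 : T.a i j ≠ 2 * T.w j) : 3 * T.w j ≤ T.a i j := by
  have := NT_edge_three T hij.symm (by rwa [NT_symm T i j]) (by rwa [NT_symm T i j])
    (by rwa [NT_symm T i j])
  rwa [NT_symm T i j] at this

/-- Row form of the negativity test: a nonnegative nonzero integer vector supported on fewer than
`n` indices has a row (in its support) on which the intersection matrix is negative. -/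
theorem NT_rows_test {k : ℕ} (hk : k < n) (v : Fin k ↪ Fin n) (c : Fin k → ℤ)
    (hc0 : ∀ j, 0 ≤ c j) (hc : c ≠ 0)
    (hrows : ∀ j, 0 < c j → 0 ≤ ∑ j', T.a (v j) (v j') * c j') : False := by
  have hQ := NT_quad_neg_embed T hk v c hc
  have : 0 ≤ ∑ j, ∑ j', c j * T.a (v j) (v j') * c j' := by
    apply Finset.sum_nonneg
    intro j _
    have : ∑ j', c j * T.a (v j) (v j') * c j' = c j * ∑ j', T.a (v j) (v j') * c j' := by
      rw [Finset.mul_sum]
      exact Finset.sum_congr rfl fun j' _ => by ring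
    rw [this]
    rcases (hc0 j).lt_or_eq with h | h
    · exact mul_nonneg h.le (hrows j h)
    · rw [← h, zero_mul]
  linarith

theorem NT_ge1 {i j : Fin n} (hij : i ≠ j) (h : T.a i j ≠ 0) : T.w i ≤ T.a i j :=
  (NT_edge_ge T hij h).1

theorem NT_ge2 {i j : Fin n} (hij : i ≠ j) (h : T.a i j ≠ 0) : T.w j ≤ T.a j i := by
  rw [NT_symm T i j]
  exact (NT_edge_ge T hij h).2

end Groth.Agent.Helper11
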