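import Groth.Agent.Lib.Helper11.NumQuad
import Groth.Agent.S7317

/-!
Numerical types of genus one: every index of a minimal one is a `(-2)`-index (helper11).
-/

set_option autoImplicit false

namespace Groth.Agent.Helper11

open Finset Models

variable {n : ℕ} (T : Models.NumericalType n)

theorem NT_genus_term_nonneg (hn : 1 < n) (hmin : T.IsMinimal) (i : Fin n) :
    0 ≤ T.m i * (2 * T.w i * (T.g i - 1) - T.a i i) := by
  apply mul_nonneg (T.m_pos i).le
  have hneg := Groth.Agent.Helper4.NT_diag_neg T hn i
  obtain ⟨k, hk⟩ := T.w_dvd i i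
  have hw := T.w_pos i
  have hg := T.g_nonneg i
  have hk_neg : k < 0 := by
    by_contra h
    push Not at h
    have := mul_nonneg hw.le h
    linarith
  by_cases hg0 : T.g i = 0
  · have hk1 : k ≠ -1 := by
      intro hk1
      apply hmin i
      refine ⟨hg0, ?_⟩
      rw [hk, hk1]; ring
    have hk2 : k ≤ -2 := by omega
    rw [hg0, hk]
    nlinarith
  · have hg1 : 1 ≤ T.g i := by omega
    rw [hk]
    nlinarith

/-- In a minimal numerical type of genus one on more than one index, all indices are
`(-2)`-indices. -/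
theorem NT_genus_one_allMinusTwo (hn : 1 < n) (hmin : T.IsMinimal) (hg : T.genus = 1)
    (i : Fin n) : T.IsMinusTwo i := by
  have h2 := Groth.Agent.Helper4.NT_two_genus T
  rw [hg] at h2
  have hz : ∑ i, T.m i * (2 * T.w i * (T.g i - 1) - T.a i i) = 0 := by linarith
  have := (Finset.sum_eq_zero_iff_of_nonneg
    (fun i _ => NT_genus_term_nonneg T hn hmin i)).1 hz i (Finset.mem_univ i)
  exact Groth.Agent.S7317.result T hn i this

/-- Row relation in "Cartan" form: if `a i j = w i * c j` for all `j`, then `∑ c j * m j = 0`. -/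
theorem NT_row_cartan (i : Fin n) (c : Fin n → ℤ) (hc : ∀ j, T.a i j = T.w i * c j) :
    ∑ j, c j * T.m j = 0 := by
  have h := Groth.Agent.Helper4.NT_row_sum T i
  have : T.w i * ∑ j, c j * T.m j = 0 := by
    rw [Finset.mul_sum, ← h]
    exact Finset.sum_congr rfl fun j _ => by rw [hc j]; ring
  rcases mul_eq_zero.mp this with h' | h'
  · exact absurd h' (T.w_pos i).ne'
  · exact h'

end Groth.Agent.Helper11
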