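import Groth.Agent.Lib.Helper11.NumG1

/-!
Numerical types of genus one on three indices (helper11).
-/

set_option autoImplicit false

namespace Groth.Agent.Helper11

open Finset Models

/-- The conclusion of the classification for `n = 3`. -/
def G1n3Concl (T : Models.NumericalType 3) : Prop :=
    ∃ (i j k : Fin 3) (m w : ℤ), i ≠ j ∧ j ≠ k ∧ i ≠ k ∧ T.g i = 0 ∧ T.g j = 0 ∧ T.g k = 0 ∧
      ((T.m i = m ∧ T.m j = m ∧ T.m k = m ∧ T.a i i = -2 * w ∧ T.a j j = -2 * w ∧ T.a k k = -2 * w ∧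
          T.a i j = w ∧ T.a i k = w ∧ T.a j k = w ∧ T.w i = w ∧ T.w j = w ∧ T.w k = w) ∨
        (T.m i = m ∧ T.m j = 2 * m ∧ T.m k = m ∧ T.a i i = -2 * w ∧ T.a i j = w ∧ T.a i k = 0 ∧ T.a j j = -2 * w ∧
          T.a j k = 3 * w ∧ T.a k k = -6 * w ∧ T.w i = w ∧ T.w j = w ∧ T.w k = 3 * w) ∨
        (T.m i = m ∧ T.m j = 2 * m ∧ T.m k = 3 * m ∧ T.a i i = -6 * w ∧ T.a i j = 3 * w ∧ T.a i k = 0 ∧ T.a j j = -6 * w ∧
          T.a j k = 3 * w ∧ T.a k k = -2 * w ∧ T.w i = 3 * w ∧ T.w j = 3 * w ∧ T.w k = w) ∨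
        (T.m i = 2 * m ∧ T.m j = 2 * m ∧ T.m k = m ∧ T.a i i = -2 * w ∧ T.a i j = 2 * w ∧ T.a i k = 0 ∧ T.a j j = -4 * w ∧
          T.a j k = 4 * w ∧ T.a k k = -8 * w ∧ T.w i = w ∧ T.w j = 2 * w ∧ T.w k = 4 * w) ∨
        (T.m i = m ∧ T.m j = m ∧ T.m k = m ∧ T.a i i = -2 * w ∧ T.a i j = 2 * w ∧ T.a i k = 0 ∧ T.a j j = -4 * w ∧
          T.a j k = 2 * w ∧ T.a k k = -2 * w ∧ T.w i = w ∧ T.w j = 2 * w ∧ T.w k = w) ∨
        (T.m i = m ∧ T.m j = 2 * m ∧ T.m k = m ∧ T.a i i = -4 * w ∧ T.a i j = 2 * w ∧ T.a i k = 0 ∧ T.a j j = -2 * w ∧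
          T.a j k = 2 * w ∧ T.a k k = -4 * w ∧ T.w i = 2 * w ∧ T.w j = w ∧ T.w k = 2 * w))

theorem n3_path_tuple (mi mj mk cij cji cjk ckj : ℤ) (hmi : 0 < mi) (hmj : 0 < mj) (hmk : 0 < mk)
    (h1 : 0 < cji) (h2 : 0 < cjk)
    (ri : cij * mj = 2 * mi) (rk : ckj * mj = 2 * mk) (rj : cji * mi + cjk * mk = 2 * mj) :
    (cij = 1 ∧ cji = 1 ∧ cjk = 3 ∧ ckj = 1) ∨ (cij = 1 ∧ cji = 1 ∧ cjk = 1 ∧ ckj = 3) ∨
    (cij = 3 ∧ cji = 1 ∧ cjk = 1 ∧ ckj = 1) ∨ (cij = 1 ∧ cji = 3 ∧ cjk = 1 ∧ ckj = 1) ∨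
    (cij = 2 ∧ cji = 1 ∧ cjk = 2 ∧ ckj = 1) ∨ (cij = 2 ∧ cji = 1 ∧ cjk = 1 ∧ ckj = 2) ∨
    (cij = 1 ∧ cji = 2 ∧ cjk = 2 ∧ ckj = 1) ∨ (cij = 1 ∧ cji = 2 ∧ cjk = 1 ∧ ckj = 2) := by
  have hcij : 0 < cij := by
    by_contra h
    push Not at h
    nlinarith
  have hckj : 0 < ckj := by
    by_contra h
    push Not at h
    nlinarith
  have key : cij * cji + cjk * ckj = 4 := by
    have : (cij * cji + cjk * ckj) * mj = 4 * mj := by
      calc (cij * cji + cjk * ckj) * mj = cji * (cij * mj) + cjk * (ckj * mj) := by ring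
        _ = cji * (2 * mi) + cjk * (2 * mk) := by rw [ri, rk]
        _ = 2 * (cji * mi + cjk * mk) := by ring
        _ = 4 * mj := by rw [rj]; ring
    exact mul_right_cancel₀ hmj.ne' this
  have p1 : 1 ≤ cij * cji := by nlinarith
  have p2 : 1 ≤ cjk * ckj := by nlinarith
  have b1 : cij ≤ 3 := by nlinarith
  have b2 : cji ≤ 3 := by nlinarith
  have b3 : cjk ≤ 3 := by nlinarith
  have b4 : ckj ≤ 3 := by nlinarith
  interval_cases cij <;> interval_cases cji <;> interval_cases cjk <;> interval_cases ckj <;>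
    omega

theorem n3_path (T : Models.NumericalType 3) (i j k : Fin 3) (hij : i ≠ j) (hjk : j ≠ k)
    (hik : i ≠ k) (hm2 : ∀ l, T.IsMinusTwo l)
    (hrow : ∀ l, T.a l i * T.m i + T.a l j * T.m j + T.a l k * T.m k = 0)
    (h0 : T.a i k = 0) : G1n3Concl T := by
  obtain ⟨cij, hcij⟩ := T.w_dvd i j
  obtain ⟨cji, hcji⟩ := T.w_dvd j i
  obtain ⟨cjk, hcjk⟩ := T.w_dvd j k
  obtain ⟨ckj, hckj⟩ := T.w_dvd k j
  have sji := NT_symm T i j
  have skj := NT_symm T j k
  have ski := NT_symm T i k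
  have hwi := T.w_pos i
  have hwj := T.w_pos j
  have hwk := T.w_pos k
  have hmi := T.m_pos i
  have hmj := T.m_pos j
  have hmk := T.m_pos k
  have di := (hm2 i).2
  have dj := (hm2 j).2
  have dk := (hm2 k).2
  have gi := (hm2 i).1
  have gj := (hm2 j).1
  have gk := (hm2 k).1
  have ri : cij * T.m j = 2 * T.m i := by
    have h := hrow i
    rw [di, hcij, h0] at h
    have h' : T.w i * (cij * T.m j - 2 * T.m i) = 0 := by linarith
    rcases mul_eq_zero.mp h' with h'' | h''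
    · exact absurd h'' hwi.ne'
    · linarith
  have rk : ckj * T.m j = 2 * T.m k := by
    have h := hrow k
    rw [dk, hckj, ski, h0] at h
    have h' : T.w k * (ckj * T.m j - 2 * T.m k) = 0 := by linarith
    rcases mul_eq_zero.mp h' with h'' | h''
    · exact absurd h'' hwk.ne'
    · linarith
  have rj : cji * T.m i + cjk * T.m k = 2 * T.m j := by
    have h := hrow j
    rw [dj, hcji, hcjk] at h
    have h' : T.w j * (cji * T.m i + cjk * T.m k - 2 * T.m j) = 0 := by linarith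
    rcases mul_eq_zero.mp h' with h'' | h''
    · exact absurd h'' hwj.ne'
    · linarith
  have hcij_pos : 0 < cij := by
    by_contra h
    push Not at h
    nlinarith
  have hckj_pos : 0 < ckj := by
    by_contra h
    push Not at h
    nlinarith
  have e1 : T.w j * cji = T.w i * cij := by rw [← hcji, ← hcij, sji]
  have e2 : T.w j * cjk = T.w k * ckj := by rw [← hcjk, ← hckj, skj]
  have h1 : 0 < cji := by
    have := mul_pos hwi hcij_pos
    by_contra h
    push Not at h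
    nlinarith
  have h2 : 0 < cjk := by
    have := mul_pos hwk hckj_pos
    by_contra h
    push Not at h
    nlinarith
  rcases n3_path_tuple (T.m i) (T.m j) (T.m k) cij cji cjk ckj hmi hmj hmk h1 h2 ri rk rj with
    ⟨rfl, rfl, rfl, rfl⟩ | ⟨rfl, rfl, rfl, rfl⟩ | ⟨rfl, rfl, rfl, rfl⟩ | ⟨rfl, rfl, rfl, rfl⟩ |
    ⟨rfl, rfl, rfl, rfl⟩ | ⟨rfl, rfl, rfl, rfl⟩ | ⟨rfl, rfl, rfl, rfl⟩ | ⟨rfl, rfl, rfl, rfl⟩
  · exact ⟨i, j, k, T.m i, T.w i, hij, hjk, hik, gi, gj, gk, Or.inr (Or.inl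
      ⟨by linarith, by linarith, by linarith, by linarith, by linarith, by linarith, by linarith,
        by linarith, by linarith, by linarith, by linarith, by linarith⟩)⟩
  · exact ⟨i, j, k, T.m i, T.w k, hij, hjk, hik, gi, gj, gk, Or.inr (Or.inr (Or.inl
      ⟨by linarith, by linarith, by linarith, by linarith, by linarith, by linarith, by linarith,
        by linarith, by linarith, by linarith, by linarith, by linarith⟩))⟩
  · exact ⟨k, j, i, T.m k, T.w i, hjk.symm, hij.symm, hik.symm, gk, gj, gi, Or.inr (Or.inr (Or.inl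
      ⟨by linarith, by linarith, by linarith, by linarith, by linarith, by linarith, by linarith,
        by linarith, by linarith, by linarith, by linarith, by linarith⟩))⟩
  · exact ⟨k, j, i, T.m k, T.w k, hjk.symm, hij.symm, hik.symm, gk, gj, gi, Or.inr (Or.inl
      ⟨by linarith, by linarith, by linarith, by linarith, by linarith, by linarith, by linarith,
        by linarith, by linarith, by linarith, by linarith, by linarith⟩)⟩
  · exact ⟨i, j, k, T.m k, T.w i, hij, hjk, hik, gi, gj, gk, Or.inr (Or.inr (Or.inr (Or.inl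
      ⟨by linarith, by linarith, by linarith, by linarith, by linarith, by linarith, by linarith,
        by linarith, by linarith, by linarith, by linarith, by linarith⟩)))⟩
  · exact ⟨i, j, k, T.m i, T.w i, hij, hjk, hik, gi, gj, gk, Or.inr (Or.inr (Or.inr (Or.inr (Or.inl
      ⟨by linarith, by linarith, by linarith, by linarith, by linarith, by linarith, by linarith,
        by linarith, by linarith, by linarith, by linarith, by linarith⟩))))⟩
  · exact ⟨i, j, k, T.m i, T.w j, hij, hjk, hik, gi, gj, gk, Or.inr (Or.inr (Or.inr (Or.inr (Or.inr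
      ⟨by linarith, by linarith, by linarith, by linarith, by linarith, by linarith, by linarith,
        by linarith, by linarith, by linarith, by linarith, by linarith⟩))))⟩
  · exact ⟨k, j, i, T.m i, T.w k, hjk.symm, hij.symm, hik.symm, gk, gj, gi,
      Or.inr (Or.inr (Or.inr (Or.inl
      ⟨by linarith, by linarith, by linarith, by linarith, by linarith, by linarith, by linarith,
        by linarith, by linarith, by linarith, by linarith, by linarith⟩)))⟩

theorem n3_triangle (T : Models.NumericalType 3) (hm2 : ∀ l, T.IsMinusTwo l)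
    (hrow : ∀ l, T.a l 0 * T.m 0 + T.a l 1 * T.m 1 + T.a l 2 * T.m 2 = 0)
    (h01 : T.a 0 1 ≠ 0) (h02 : T.a 0 2 ≠ 0) (h12 : T.a 1 2 ≠ 0) : G1n3Concl T := by
  obtain ⟨c01, hc01⟩ := T.w_dvd 0 1
  obtain ⟨c10, hc10⟩ := T.w_dvd 1 0
  obtain ⟨c02, hc02⟩ := T.w_dvd 0 2
  obtain ⟨c20, hc20⟩ := T.w_dvd 2 0
  obtain ⟨c12, hc12⟩ := T.w_dvd 1 2
  obtain ⟨c21, hc21⟩ := T.w_dvd 2 1
  have s10 := NT_symm T 0 1
  have s20 := NT_symm T 0 2
  have s21 := NT_symm T 1 2
  have hw0 := T.w_pos 0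
  have hw1 := T.w_pos 1
  have hw2 := T.w_pos 2
  have hm0 := T.m_pos 0
  have hm1 := T.m_pos 1
  have hm2' := T.m_pos 2
  have d0 := (hm2 0).2
  have d1 := (hm2 1).2
  have d2 := (hm2 2).2
  have p01 : 0 < T.a 0 1 := lt_of_le_of_ne (T.offDiag_nonneg 0 1 (by decide)) (Ne.symm h01)
  have p02 : 0 < T.a 0 2 := lt_of_le_of_ne (T.offDiag_nonneg 0 2 (by decide)) (Ne.symm h02)
  have p12 : 0 < T.a 1 2 := lt_of_le_of_ne (T.offDiag_nonneg 1 2 (by decide)) (Ne.symm h12)
  have q01 : 1 ≤ c01 := by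
    by_contra h
    push Not at h
    have : c01 ≤ 0 := by omega
    nlinarith
  have q10 : 1 ≤ c10 := by
    by_contra h
    push Not at h
    have : c10 ≤ 0 := by omega
    nlinarith
  have q02 : 1 ≤ c02 := by
    by_contra h
    push Not at h
    have : c02 ≤ 0 := by omega
    nlinarith
  have q20 : 1 ≤ c20 := by
    by_contra h
    push Not at h
    have : c20 ≤ 0 := by omega
    nlinarith
  have q12 : 1 ≤ c12 := by
    by_contra h
    push Not at h
    have : c12 ≤ 0 := by omega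
    nlinarith
  have q21 : 1 ≤ c21 := by
    by_contra h
    push Not at h
    have : c21 ≤ 0 := by omega
    nlinarith
  have r0 : c01 * T.m 1 + c02 * T.m 2 = 2 * T.m 0 := by
    have h := hrow 0
    rw [d0, hc01, hc02] at h
    have h' : T.w 0 * (c01 * T.m 1 + c02 * T.m 2 - 2 * T.m 0) = 0 := by linarith
    rcases mul_eq_zero.mp h' with h'' | h''
    · exact absurd h'' hw0.ne'
    · linarith
  have r1 : c10 * T.m 0 + c12 * T.m 2 = 2 * T.m 1 := by
    have h := hrow 1
    rw [d1, hc10, hc12] at h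
    have h' : T.w 1 * (c10 * T.m 0 + c12 * T.m 2 - 2 * T.m 1) = 0 := by linarith
    rcases mul_eq_zero.mp h' with h'' | h''
    · exact absurd h'' hw1.ne'
    · linarith
  have r2 : c20 * T.m 0 + c21 * T.m 1 = 2 * T.m 2 := by
    have h := hrow 2
    rw [d2, hc20, hc21] at h
    have h' : T.w 2 * (c20 * T.m 0 + c21 * T.m 1 - 2 * T.m 2) = 0 := by linarith
    rcases mul_eq_zero.mp h' with h'' | h''
    · exact absurd h'' hw2.ne'
    · linarith
  have e : (c10 + c20 - 2) * T.m 0 + (c01 + c21 - 2) * T.m 1 + (c02 + c12 - 2) * T.m 2 = 0 := by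
    linarith
  have t0 : 0 ≤ (c10 + c20 - 2) * T.m 0 := mul_nonneg (by linarith) hm0.le
  have t1 : 0 ≤ (c01 + c21 - 2) * T.m 1 := mul_nonneg (by linarith) hm1.le
  have t2 : 0 ≤ (c02 + c12 - 2) * T.m 2 := mul_nonneg (by linarith) hm2'.le
  have z0 : c10 + c20 - 2 = 0 := by
    have : (c10 + c20 - 2) * T.m 0 = 0 := by linarith
    rcases mul_eq_zero.mp this with h | h
    · exact h
    · exact absurd h hm0.ne'
  have z1 : c01 + c21 - 2 = 0 := by
    have : (c01 + c21 - 2) * T.m 1 = 0 := by linarith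
    rcases mul_eq_zero.mp this with h | h
    · exact h
    · exact absurd h hm1.ne'
  have z2 : c02 + c12 - 2 = 0 := by
    have : (c02 + c12 - 2) * T.m 2 = 0 := by linarith
    rcases mul_eq_zero.mp this with h | h
    · exact h
    · exact absurd h hm2'.ne'
  obtain rfl : c10 = 1 := by omega
  obtain rfl : c20 = 1 := by omega
  obtain rfl : c01 = 1 := by omega
  obtain rfl : c21 = 1 := by omega
  obtain rfl : c02 = 1 := by omega
  obtain rfl : c12 = 1 := by omega
  exact ⟨0, 1, 2, T.m 0, T.w 0, by decide, by decide, by decide, (hm2 0).1, (hm2 1).1, (hm2 2).1,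
    Or.inl ⟨by linarith, by linarith, by linarith, by linarith, by linarith, by linarith,
      by linarith, by linarith, by linarith, by linarith, by linarith, by linarith⟩⟩

theorem n3_main (T : Models.NumericalType 3) (hmin : T.IsMinimal) (hg : T.genus = 1) :
    G1n3Concl T := by
  have hm2 := NT_genus_one_allMinusTwo T (by norm_num) hmin hg
  have r : ∀ l, T.a l 0 * T.m 0 + T.a l 1 * T.m 1 + T.a l 2 * T.m 2 = 0 := by
    intro l
    have := Groth.Agent.Helper4.NT_row_sum T l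
    rwa [Fin.sum_univ_three] at this
  by_cases h02 : T.a 0 2 = 0
  · exact n3_path T 0 1 2 (by decide) (by decide) (by decide) hm2 r h02
  by_cases h01 : T.a 0 1 = 0
  · exact n3_path T 0 2 1 (by decide) (by decide) (by decide) hm2 (fun l => by linarith [r l]) h01
  by_cases h12 : T.a 1 2 = 0
  · exact n3_path T 1 0 2 (by decide) (by decide) (by decide) hm2 (fun l => by linarith [r l]) h12
  · exact n3_triangle T hm2 r h01 h02 h12

end Groth.Agent.Helper11
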