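import Groth.Agent.Lib.Helper11.NumG1

/-!
Numerical types of genus one on four indices: preliminary lemmas (helper11).
-/

set_option autoImplicit false

namespace Groth.Agent.Helper11

open Finset Models

/-- Row `i` of a numerical type on four indices, all `(-2)`, in Cartan form. -/
theorem n4_cartan (T : Models.NumericalType 4) (i j k l : Fin 4) (hij : i ≠ j) (hik : i ≠ k)
    (hil : i ≠ l) (hm2 : ∀ x, T.IsMinusTwo x)
    (hrow : ∀ x, T.a x i * T.m i + T.a x j * T.m j + T.a x k * T.m k + T.a x l * T.m l = 0) :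
    ∃ cij cik cil : ℤ, T.a i j = T.w i * cij ∧ T.a i k = T.w i * cik ∧ T.a i l = T.w i * cil ∧
      0 ≤ cij ∧ 0 ≤ cik ∧ 0 ≤ cil ∧ cij * T.m j + cik * T.m k + cil * T.m l = 2 * T.m i := by
  obtain ⟨cij, hcij⟩ := T.w_dvd i j
  obtain ⟨cik, hcik⟩ := T.w_dvd i k
  obtain ⟨cil, hcil⟩ := T.w_dvd i l
  have hw := T.w_pos i
  have nn : ∀ (y : Fin 4) (c : ℤ), i ≠ y → T.a i y = T.w i * c → 0 ≤ c := by
    intro y c hy hc
    have h1 := T.offDiag_nonneg i y hy
    rw [hc] at h1
    by_contra h
    push Not at h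
    nlinarith
  refine ⟨cij, cik, cil, hcij, hcik, hcil, nn j cij hij hcij, nn k cik hik hcik,
    nn l cil hil hcil, ?_⟩
  have h := hrow i
  rw [(hm2 i).2, hcij, hcik, hcil] at h
  have h' : T.w i * (cij * T.m j + cik * T.m k + cil * T.m l - 2 * T.m i) = 0 := by linarith
  rcases mul_eq_zero.mp h' with h'' | h''
  · exact absurd h'' hw.ne'
  · linarith

theorem c_eq_zero {a w c : ℤ} (hw : 0 < w) (ha : a = w * c) (h0 : a = 0) : c = 0 := by
  rw [ha] at h0
  rcases mul_eq_zero.mp h0 with h | h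
  · exact absurd h hw.ne'
  · exact h

theorem c_pos {a w c : ℤ} (hw : 0 < w) (ha : a = w * c) (hne : a ≠ 0) (hc : 0 ≤ c) : 1 ≤ c := by
  by_contra h
  push Not at h
  have : c = 0 := by omega
  apply hne
  rw [ha, this, mul_zero]

/-- an isolated index is impossible -/
theorem n4_isolated (T : Models.NumericalType 4) (i j k l : Fin 4) (hij : i ≠ j) (hik : i ≠ k)
    (hil : i ≠ l) (hm2 : ∀ x, T.IsMinusTwo x)
    (hrow : ∀ x, T.a x i * T.m i + T.a x j * T.m j + T.a x k * T.m k + T.a x l * T.m l = 0)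
    (h1 : T.a i j = 0) (h2 : T.a i k = 0) (h3 : T.a i l = 0) : False := by
  have h := hrow i
  rw [h1, h2, h3, (hm2 i).2] at h
  have := T.w_pos i
  have := T.m_pos i
  nlinarith

/-- a 2+2 split is impossible by connectedness -/
theorem n4_split (T : Models.NumericalType 4) (i j k l : Fin 4) (hik : i ≠ k)
    (hil : i ≠ l) (hjk : j ≠ k) (hjl : j ≠ l)
    (hall : ∀ x : Fin 4, x = i ∨ x = j ∨ x = k ∨ x = l)
    (h1 : T.a i k = 0) (h2 : T.a i l = 0) (h3 : T.a j k = 0) (h4 : T.a j l = 0) : False := by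
  classical
  obtain ⟨x, hx, y, hy, hne⟩ := T.connected {i, j} ⟨i, by simp⟩ (by
    intro h
    have : k ∈ ({i, j} : Finset (Fin 4)) := by rw [h]; exact mem_univ k
    simp only [mem_insert, mem_singleton] at this
    rcases this with h | h
    · exact hik h.symm
    · exact hjk h.symm)
  simp only [mem_insert, mem_singleton] at hx hy
  push Not at hy
  rcases hall y with rfl | rfl | rfl | rfl
  · exact hy.1 rfl
  · exact hy.2 rfl
  · rcases hx with rfl | rfl
    · exact hne h1
    · exact hne h3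
  · rcases hx with rfl | rfl
    · exact hne h2
    · exact hne h4

/-- a triangle is impossible on four indices -/
theorem n4_triangle (T : Models.NumericalType 4) (i j k l : Fin 4) (hij : i ≠ j) (hik : i ≠ k)
    (hil : i ≠ l) (hjk : j ≠ k) (hjl : j ≠ l) (hkl : k ≠ l) (hm2 : ∀ x, T.IsMinusTwo x)
    (hrow : ∀ x, T.a x i * T.m i + T.a x j * T.m j + T.a x k * T.m k + T.a x l * T.m l = 0)
    (h1 : T.a i j ≠ 0) (h2 : T.a j k ≠ 0) (h3 : T.a i k ≠ 0) : False := by
  obtain ⟨cij, cik, cil, aij, aik, ail, nij, nik, nil, ri⟩ :=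
    n4_cartan T i j k l hij hik hil hm2 hrow
  obtain ⟨cji, cjk, cjl, aji, ajk, ajl, nji, njk, njl, rj⟩ :=
    n4_cartan T j i k l hij.symm hjk hjl hm2 (fun x => by linarith [hrow x])
  obtain ⟨cki, ckj, ckl, aki, akj, akl, nki, nkj, nkl, rk⟩ :=
    n4_cartan T k i j l hik.symm hjk.symm hkl hm2 (fun x => by linarith [hrow x])
  obtain ⟨cli, clj, clk, ali, alj, alk, nli, nlj, nlk, rl⟩ :=
    n4_cartan T l i j k hil.symm hjl.symm hkl.symm hm2 (fun x => by linarith [hrow x])
  have sji := NT_symm T i j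
  have skj := NT_symm T j k
  have ski := NT_symm T i k
  have sli := NT_symm T i l
  have slj := NT_symm T j l
  have slk := NT_symm T k l
  have hwi := T.w_pos i
  have hwj := T.w_pos j
  have hwk := T.w_pos k
  have hwl := T.w_pos l
  have hmi := T.m_pos i
  have hmj := T.m_pos j
  have hmk := T.m_pos k
  have hml := T.m_pos l
  have pij := c_pos hwi aij h1 nij
  have pji := c_pos hwj aji (by rw [sji]; exact h1) nji
  have pjk := c_pos hwj ajk h2 njk
  have pkj := c_pos hwk akj (by rw [skj]; exact h2) nkj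
  have pik := c_pos hwi aik h3 nik
  have pki := c_pos hwk aki (by rw [ski]; exact h3) nki
  -- some edge from l
  have hl : 0 < cli * T.m i + clj * T.m j + clk * T.m k := by linarith
  have hl' : 1 ≤ cil ∨ 1 ≤ cjl ∨ 1 ≤ ckl := by
    by_contra hcon
    push Not at hcon
    obtain ⟨c1, c2, c3⟩ := hcon
    have z1 : cil = 0 := by omega
    have z2 : cjl = 0 := by omega
    have z3 : ckl = 0 := by omega
    have y1 : cli = 0 := c_eq_zero hwl ali (by rw [sli, ail, z1, mul_zero])
    have y2 : clj = 0 := c_eq_zero hwl alj (by rw [slj, ajl, z2, mul_zero])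
    have y3 : clk = 0 := c_eq_zero hwl alk (by rw [slk, akl, z3, mul_zero])
    rw [y1, y2, y3] at hl
    simp at hl
  have e : (cji + cki - 2) * T.m i + (cij + ckj - 2) * T.m j + (cik + cjk - 2) * T.m k
      + (cil + cjl + ckl) * T.m l = 0 := by linarith
  have t0 : 0 ≤ (cji + cki - 2) * T.m i := mul_nonneg (by linarith) hmi.le
  have t1 : 0 ≤ (cij + ckj - 2) * T.m j := mul_nonneg (by linarith) hmj.le
  have t2 : 0 ≤ (cik + cjk - 2) * T.m k := mul_nonneg (by linarith) hmk.le
  have t3 : 0 < (cil + cjl + ckl) * T.m l := mul_pos (by rcases hl' with h | h | h <;> linarith) hml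
  linarith

end Groth.Agent.Helper11
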