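import Groth.Agent.Lib.Helper11.NumG1n4a

/-!
Numerical types of genus one on four indices: the three shapes (helper11).
-/

set_option autoImplicit false
set_option maxHeartbeats 1600000

namespace Groth.Agent.Helper11

open Finset Models

/-- The conclusion of the classification for `n = 4`, with four distinct indices. -/
def G1n4Concl (T : Models.NumericalType 4) : Prop :=
  ∃ (i j k l : Fin 4) (m w : ℤ), i ≠ j ∧ i ≠ k ∧ i ≠ l ∧ j ≠ k ∧ j ≠ l ∧ k ≠ l ∧
    (((T.m i = m ∧ T.m j = m ∧ T.m k = m ∧ T.m l = m ∧ T.w i = w ∧ T.w j = w ∧ T.w k = w ∧ T.w l = w ∧ T.a i i = -2 * w ∧ T.a i j = w ∧ T.a i k = 0 ∧ T.a i l = w ∧ T.a j j = -2 * w ∧ T.a j k = w ∧ T.a j l = 0 ∧ T.a k k = -2 * w ∧ T.a k l = w ∧ T.a l l = -2 * w) ∨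
      (T.m i = 2 * m ∧ T.m j = 2 * m ∧ T.m k = 2 * m ∧ T.m l = m ∧ T.w i = w ∧ T.w j = 2 * w ∧ T.w k = 2 * w ∧ T.w l = 4 * w ∧ T.a i i = -2 * w ∧ T.a i j = 2 * w ∧ T.a i k = 0 ∧ T.a i l = 0 ∧ T.a j j = -4 * w ∧ T.a j k = 2 * w ∧ T.a j l = 0 ∧ T.a k k = -4 * w ∧ T.a k l = 4 * w ∧ T.a l l = -8 * w) ∨
      (T.m i = m ∧ T.m j = m ∧ T.m k = m ∧ T.m l = m ∧ T.w i = w ∧ T.w j = 2 * w ∧ T.w k = 2 * w ∧ T.w l = w ∧ T.a i i = -2 * w ∧ T.a i j = 2 * w ∧ T.a i k = 0 ∧ T.a i l = 0 ∧ T.a j j = -4 * w ∧ T.a j k = 2 * w ∧ T.a j l = 0 ∧ T.a k k = -4 * w ∧ T.a k l = 2 * w ∧ T.a l l = -2 * w) ∨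
      (T.m i = m ∧ T.m j = 2 * m ∧ T.m k = 2 * m ∧ T.m l = m ∧ T.w i = 2 * w ∧ T.w j = w ∧ T.w k = w ∧ T.w l = 2 * w ∧ T.a i i = -4 * w ∧ T.a i j = 2 * w ∧ T.a i k = 0 ∧ T.a i l = 0 ∧ T.a j j = -2 * w ∧ T.a j k = w ∧ T.a j l = 0 ∧ T.a k k = -2 * w ∧ T.a k l = 2 * w ∧ T.a l l = -4 * w) ∨
      (T.m i = 2 * m ∧ T.m j = m ∧ T.m k = m ∧ T.m l = m ∧ T.w i = w ∧ T.w j = w ∧ T.w k = w ∧ T.w l = 2 * w ∧ T.a i i = -2 * w ∧ T.a i j = w ∧ T.a i k = w ∧ T.a i l = 2 * w ∧ T.a j j = -2 * w ∧ T.a j k = 0 ∧ T.a j l = 0 ∧ T.a k k = -2 * w ∧ T.a k l = 0 ∧ T.a l l = -4 * w) ∨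
      (T.m i = 2 * m ∧ T.m j = m ∧ T.m k = m ∧ T.m l = 2 * m ∧ T.w i = 2 * w ∧ T.w j = 2 * w ∧ T.w k = 2 * w ∧ T.w l = w ∧ T.a i i = -4 * w ∧ T.a i j = 2 * w ∧ T.a i k = 2 * w ∧ T.a i l = 2 * w ∧ T.a j j = -4 * w ∧ T.a j k = 0 ∧ T.a j l = 0 ∧ T.a k k = -4 * w ∧ T.a k l = 0 ∧ T.a l l = -2 * w)))

/-- the four cycle `i - j - k - l - i` -/
theorem n4_cycle (T : Models.NumericalType 4) (i j k l : Fin 4) (hij : i ≠ j) (hik : i ≠ k)
    (hil : i ≠ l) (hjk : j ≠ k) (hjl : j ≠ l) (hkl : k ≠ l) (hm2 : ∀ x, T.IsMinusTwo x)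
    (hrow : ∀ x, T.a x i * T.m i + T.a x j * T.m j + T.a x k * T.m k + T.a x l * T.m l = 0)
    (h1 : T.a i j ≠ 0) (h2 : T.a j k ≠ 0) (h3 : T.a k l ≠ 0) (h4 : T.a i l ≠ 0)
    (z1 : T.a i k = 0) (z2 : T.a j l = 0) : G1n4Concl T := by
  obtain ⟨cij, cik, cil, aij, aik, ail, nij, nik, nil, ri⟩ :=
    n4_cartan T i j k l hij hik hil hm2 hrow
  obtain ⟨cji, cjk, cjl, aji, ajk, ajl, nji, njk, njl, rj⟩ :=
    n4_cartan T j i k l hij.symm hjk hjl hm2 (fun x => by linarith [hrow x])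
  obtain ⟨cki, ckj, ckl, aki, akj, akl, nki, nkj, nkl, rk⟩ :=
    n4_cartan T k i j l hik.symm hjk.symm hkl hm2 (fun x => by linarith [hrow x])
  obtain ⟨cli, clj, clk, ali, alj, alk, nli, nlj, nlk, rl⟩ :=
    n4_cartan T l i j k hil.symm hjl.symm hkl.symm hm2 (fun x => by linarith [hrow x])
  have sji := NT_symm T i j
  have skj := NT_symm T j k
  have ski := NT_symm T i k
  have sli := NT_symm T i l
  have slj := NT_symm T j l
  have slk := NT_symm T k l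
  have hwi := T.w_pos i
  have hwj := T.w_pos j
  have hwk := T.w_pos k
  have hwl := T.w_pos l
  have hmi := T.m_pos i
  have hmj := T.m_pos j
  have hmk := T.m_pos k
  have hml := T.m_pos l
  have di := (hm2 i).2
  have dj := (hm2 j).2
  have dk := (hm2 k).2
  have dl := (hm2 l).2
  have eij : T.w i * cij = T.w j * cji := by rw [← aij, ← aji, sji]
  have eik : T.w i * cik = T.w k * cki := by rw [← aik, ← aki, ski]
  have eil : T.w i * cil = T.w l * cli := by rw [← ail, ← ali, sli]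
  have ejk : T.w j * cjk = T.w k * ckj := by rw [← ajk, ← akj, skj]
  have ejl : T.w j * cjl = T.w l * clj := by rw [← ajl, ← alj, slj]
  have ekl : T.w k * ckl = T.w l * clk := by rw [← akl, ← alk, slk]
  have pij := c_pos hwi aij h1 nij
  have pji := c_pos hwj aji (by rw [sji]; exact h1) nji
  have pjk := c_pos hwj ajk h2 njk
  have pkj := c_pos hwk akj (by rw [skj]; exact h2) nkj
  have pkl := c_pos hwk akl h3 nkl
  have plk := c_pos hwl alk (by rw [slk]; exact h3) nlk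
  have pil := c_pos hwi ail h4 nil
  have pli := c_pos hwl ali (by rw [sli]; exact h4) nli
  obtain rfl : cik = 0 := c_eq_zero hwi aik z1
  obtain rfl : cki = 0 := c_eq_zero hwk aki (by rw [ski]; exact z1)
  obtain rfl : cjl = 0 := c_eq_zero hwj ajl z2
  obtain rfl : clj = 0 := c_eq_zero hwl alj (by rw [slj]; exact z2)
  have e : (cji + cli - 2) * T.m i + (cij + ckj - 2) * T.m j + (cjk + clk - 2) * T.m k
      + (cil + ckl - 2) * T.m l = 0 := by linarith
  have t0 : 0 ≤ (cji + cli - 2) * T.m i := mul_nonneg (by linarith) hmi.le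
  have t1 : 0 ≤ (cij + ckj - 2) * T.m j := mul_nonneg (by linarith) hmj.le
  have t2 : 0 ≤ (cjk + clk - 2) * T.m k := mul_nonneg (by linarith) hmk.le
  have t3 : 0 ≤ (cil + ckl - 2) * T.m l := mul_nonneg (by linarith) hml.le
  have q0 : cji + cli - 2 = 0 := by
    have : (cji + cli - 2) * T.m i = 0 := by linarith
    rcases mul_eq_zero.mp this with h | h
    · exact h
    · exact absurd h hmi.ne'
  have q1 : cij + ckj - 2 = 0 := by
    have : (cij + ckj - 2) * T.m j = 0 := by linarith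
    rcases mul_eq_zero.mp this with h | h
    · exact h
    · exact absurd h hmj.ne'
  have q2 : cjk + clk - 2 = 0 := by
    have : (cjk + clk - 2) * T.m k = 0 := by linarith
    rcases mul_eq_zero.mp this with h | h
    · exact h
    · exact absurd h hmk.ne'
  have q3 : cil + ckl - 2 = 0 := by
    have : (cil + ckl - 2) * T.m l = 0 := by linarith
    rcases mul_eq_zero.mp this with h | h
    · exact h
    · exact absurd h hml.ne'
  obtain rfl : cji = 1 := by omega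
  obtain rfl : cli = 1 := by omega
  obtain rfl : cij = 1 := by omega
  obtain rfl : ckj = 1 := by omega
  obtain rfl : cjk = 1 := by omega
  obtain rfl : clk = 1 := by omega
  obtain rfl : cil = 1 := by omega
  obtain rfl : ckl = 1 := by omega
  exact ⟨i, j, k, l, T.m i, T.w i, hij, hik, hil, hjk, hjl, hkl, Or.inl ⟨by linarith, by linarith, by linarith, by linarith, by linarith, by linarith, by linarith, by linarith, by linarith, by linarith, by linarith, by linarith, by linarith, by linarith, by linarith, by linarith, by linarith, by linarith⟩⟩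

end Groth.Agent.Helper11
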