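import Groth.Agent.Lib.Helper11.NumG1n4b

/-!
Numerical types of genus one on four indices: stars (helper11).
-/

set_option autoImplicit false
set_option maxHeartbeats 3200000

namespace Groth.Agent.Helper11

open Finset Models

/-- the star with centre `i` -/
theorem n4_star (T : Models.NumericalType 4) (i j k l : Fin 4) (hij : i ≠ j) (hik : i ≠ k)
    (hil : i ≠ l) (hjk : j ≠ k) (hjl : j ≠ l) (hkl : k ≠ l) (hm2 : ∀ x, T.IsMinusTwo x)
    (hrow : ∀ x, T.a x i * T.m i + T.a x j * T.m j + T.a x k * T.m k + T.a x l * T.m l = 0)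
    (h1 : T.a i j ≠ 0) (h2 : T.a i k ≠ 0) (h3 : T.a i l ≠ 0)
    (z1 : T.a j k = 0) (z2 : T.a j l = 0) (z3 : T.a k l = 0) : G1n4Concl T := by
  obtain ⟨cij, cik, cil, aij, aik, ail, nij, nik, nil, ri⟩ :=
    n4_cartan T i j k l hij hik hil hm2 hrow
  obtain ⟨cji, cjk, cjl, aji, ajk, ajl, nji, njk, njl, rj⟩ :=
    n4_cartan T j i k l hij.symm hjk hjl hm2 (fun x => by linarith [hrow x])
  obtain ⟨cki, ckj, ckl, aki, akj, akl, nki, nkj, nkl, rk⟩ :=
    n4_cartan T k i j l hik.symm hjk.symm hkl hm2 (fun x => by linarith [hrow x])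
  obtain ⟨cli, clj, clk, ali, alj, alk, nli, nlj, nlk, rl⟩ :=
    n4_cartan T l i j k hil.symm hjl.symm hkl.symm hm2 (fun x => by linarith [hrow x])
  have sji := NT_symm T i j
  have skj := NT_symm T j k
  have ski := NT_symm T i k
  have sli := NT_symm T i l
  have slj := NT_symm T j l
  have slk := NT_symm T k l
  have hwi := T.w_pos i
  have hwj := T.w_pos j
  have hwk := T.w_pos k
  have hwl := T.w_pos l
  have hmi := T.m_pos i
  have hmj := T.m_pos j
  have hmk := T.m_pos k
  have hml := T.m_pos l
  have di := (hm2 i).2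
  have dj := (hm2 j).2
  have dk := (hm2 k).2
  have dl := (hm2 l).2
  have eij : T.w i * cij = T.w j * cji := by rw [← aij, ← aji, sji]
  have eik : T.w i * cik = T.w k * cki := by rw [← aik, ← aki, ski]
  have eil : T.w i * cil = T.w l * cli := by rw [← ail, ← ali, sli]
  have ejk : T.w j * cjk = T.w k * ckj := by rw [← ajk, ← akj, skj]
  have ejl : T.w j * cjl = T.w l * clj := by rw [← ajl, ← alj, slj]
  have ekl : T.w k * ckl = T.w l * clk := by rw [← akl, ← alk, slk]
  have pij := c_pos hwi aij h1 nij
  have pji := c_pos hwj aji (by rw [sji]; exact h1) nji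
  have pik := c_pos hwi aik h2 nik
  have pki := c_pos hwk aki (by rw [ski]; exact h2) nki
  have pil := c_pos hwi ail h3 nil
  have pli := c_pos hwl ali (by rw [sli]; exact h3) nli
  obtain rfl : cjk = 0 := c_eq_zero hwj ajk z1
  obtain rfl : ckj = 0 := c_eq_zero hwk akj (by rw [skj]; exact z1)
  obtain rfl : cjl = 0 := c_eq_zero hwj ajl z2
  obtain rfl : clj = 0 := c_eq_zero hwl alj (by rw [slj]; exact z2)
  obtain rfl : ckl = 0 := c_eq_zero hwk akl z3
  obtain rfl : clk = 0 := c_eq_zero hwl alk (by rw [slk]; exact z3)
  have hs : cij * cji + cik * cki + cil * cli = 4 := by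
    have h : (cij * cji + cik * cki + cil * cli - 4) * T.m i = 0 := by
      linear_combination 2 * ri + cij * rj + cik * rk + cil * rl
    rcases mul_eq_zero.mp h with h | h
    · linarith
    · exact absurd h hmi.ne'
  have b1 : 1 ≤ cij * cji := by nlinarith
  have b2 : 1 ≤ cik * cki := by nlinarith
  have b3 : 1 ≤ cil * cli := by nlinarith
  have u1 : cij ≤ 2 := by nlinarith
  have u2 : cji ≤ 2 := by nlinarith
  have u3 : cik ≤ 2 := by nlinarith
  have u4 : cki ≤ 2 := by nlinarith
  have u5 : cil ≤ 2 := by nlinarith
  have u6 : cli ≤ 2 := by nlinarith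
  clear b1 b2 b3
  interval_cases cij <;> interval_cases cji <;> interval_cases cik <;> interval_cases cki <;>
    interval_cases cil <;> interval_cases cli <;>
  first
  | (exfalso; omega)
  | exact ⟨i, j, k, l, T.m j, T.w i, hij, hik, hil, hjk, hjl, hkl, Or.inr (Or.inr (Or.inr (Or.inr (Or.inl ⟨by linarith, by linarith, by linarith, by linarith, by linarith, by linarith, by linarith, by linarith, by linarith, by linarith, by linarith, by linarith, by linarith, by linarith, by linarith, by linarith, by linarith, by linarith⟩))))⟩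
  | exact ⟨i, j, k, l, T.m j, T.w l, hij, hik, hil, hjk, hjl, hkl, Or.inr (Or.inr (Or.inr (Or.inr (Or.inr (⟨by linarith, by linarith, by linarith, by linarith, by linarith, by linarith, by linarith, by linarith, by linarith, by linarith, by linarith, by linarith, by linarith, by linarith, by linarith, by linarith, by linarith, by linarith⟩)))))⟩
  | exact ⟨i, j, l, k, T.m j, T.w i, hij, hil, hik, hjl, hjk, hkl.symm, Or.inr (Or.inr (Or.inr (Or.inr (Or.inl ⟨by linarith, by linarith, by linarith, by linarith, by linarith, by linarith, by linarith, by linarith, by linarith, by linarith, by linarith, by linarith, by linarith, by linarith, by linarith, by linarith, by linarith, by linarith⟩))))⟩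
  | exact ⟨i, j, l, k, T.m j, T.w k, hij, hil, hik, hjl, hjk, hkl.symm, Or.inr (Or.inr (Or.inr (Or.inr (Or.inr (⟨by linarith, by linarith, by linarith, by linarith, by linarith, by linarith, by linarith, by linarith, by linarith, by linarith, by linarith, by linarith, by linarith, by linarith, by linarith, by linarith, by linarith, by linarith⟩)))))⟩
  | exact ⟨i, k, l, j, T.m k, T.w i, hik, hil, hij, hkl, hjk.symm, hjl.symm, Or.inr (Or.inr (Or.inr (Or.inr (Or.inl ⟨by linarith, by linarith, by linarith, by linarith, by linarith, by linarith, by linarith, by linarith, by linarith, by linarith, by linarith, by linarith, by linarith, by linarith, by linarith, by linarith, by linarith, by linarith⟩))))⟩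
  | exact ⟨i, k, l, j, T.m k, T.w j, hik, hil, hij, hkl, hjk.symm, hjl.symm, Or.inr (Or.inr (Or.inr (Or.inr (Or.inr (⟨by linarith, by linarith, by linarith, by linarith, by linarith, by linarith, by linarith, by linarith, by linarith, by linarith, by linarith, by linarith, by linarith, by linarith, by linarith, by linarith, by linarith, by linarith⟩)))))⟩

end Groth.Agent.Helper11
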