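import Groth.Agent.Lib.Helper11.NumG1n4b

/-!
Numerical types of genus one on four indices: paths (helper11).
-/

set_option autoImplicit false
set_option maxHeartbeats 3200000

namespace Groth.Agent.Helper11

open Finset Models

/-- the path `i - j - k - l` -/
theorem n4_path (T : Models.NumericalType 4) (i j k l : Fin 4) (hij : i ≠ j) (hik : i ≠ k)
    (hil : i ≠ l) (hjk : j ≠ k) (hjl : j ≠ l) (hkl : k ≠ l) (hm2 : ∀ x, T.IsMinusTwo x)
    (hrow : ∀ x, T.a x i * T.m i + T.a x j * T.m j + T.a x k * T.m k + T.a x l * T.m l = 0)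
    (h1 : T.a i j ≠ 0) (h2 : T.a j k ≠ 0) (h3 : T.a k l ≠ 0)
    (z1 : T.a i k = 0) (z2 : T.a i l = 0) (z3 : T.a j l = 0) : G1n4Concl T := by
  obtain ⟨cij, cik, cil, aij, aik, ail, nij, nik, nil, ri⟩ :=
    n4_cartan T i j k l hij hik hil hm2 hrow
  obtain ⟨cji, cjk, cjl, aji, ajk, ajl, nji, njk, njl, rj⟩ :=
    n4_cartan T j i k l hij.symm hjk hjl hm2 (fun x => by linarith [hrow x])
  obtain ⟨cki, ckj, ckl, aki, akj, akl, nki, nkj, nkl, rk⟩ :=
    n4_cartan T k i j l hik.symm hjk.symm hkl hm2 (fun x => by linarith [hrow x])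
  obtain ⟨cli, clj, clk, ali, alj, alk, nli, nlj, nlk, rl⟩ :=
    n4_cartan T l i j k hil.symm hjl.symm hkl.symm hm2 (fun x => by linarith [hrow x])
  have sji := NT_symm T i j
  have skj := NT_symm T j k
  have ski := NT_symm T i k
  have sli := NT_symm T i l
  have slj := NT_symm T j l
  have slk := NT_symm T k l
  have hwi := T.w_pos i
  have hwj := T.w_pos j
  have hwk := T.w_pos k
  have hwl := T.w_pos l
  have hmi := T.m_pos i
  have hmj := T.m_pos j
  have hmk := T.m_pos k
  have hml := T.m_pos l
  have di := (hm2 i).2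
  have dj := (hm2 j).2
  have dk := (hm2 k).2
  have dl := (hm2 l).2
  have eij : T.w i * cij = T.w j * cji := by rw [← aij, ← aji, sji]
  have eik : T.w i * cik = T.w k * cki := by rw [← aik, ← aki, ski]
  have eil : T.w i * cil = T.w l * cli := by rw [← ail, ← ali, sli]
  have ejk : T.w j * cjk = T.w k * ckj := by rw [← ajk, ← akj, skj]
  have ejl : T.w j * cjl = T.w l * clj := by rw [← ajl, ← alj, slj]
  have ekl : T.w k * ckl = T.w l * clk := by rw [← akl, ← alk, slk]
  have pij := c_pos hwi aij h1 nij
  have pji := c_pos hwj aji (by rw [sji]; exact h1) nji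
  have pjk := c_pos hwj ajk h2 njk
  have pkj := c_pos hwk akj (by rw [skj]; exact h2) nkj
  have pkl := c_pos hwk akl h3 nkl
  have plk := c_pos hwl alk (by rw [slk]; exact h3) nlk
  obtain rfl : cik = 0 := c_eq_zero hwi aik z1
  obtain rfl : cki = 0 := c_eq_zero hwk aki (by rw [ski]; exact z1)
  obtain rfl : cil = 0 := c_eq_zero hwi ail z2
  obtain rfl : cli = 0 := c_eq_zero hwl ali (by rw [sli]; exact z2)
  obtain rfl : cjl = 0 := c_eq_zero hwj ajl z3
  obtain rfl : clj = 0 := c_eq_zero hwl alj (by rw [slj]; exact z3)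
  have hP : (4 - cij * cji) * T.m j = 2 * cjk * T.m k := by
    linear_combination (-cji) * ri + (-2) * rj
  have hR : (4 - ckl * clk) * T.m k = 2 * ckj * T.m j := by
    linear_combination (-ckl) * rl + (-2) * rk
  have hPpos : 0 < 4 - cij * cji := by
    have h0 : 0 < (4 - cij * cji) * T.m j := by
      rw [hP]; exact mul_pos (mul_pos two_pos (by linarith)) hmk
    by_contra h
    push Not at h
    nlinarith
  have hRpos : 0 < 4 - ckl * clk := by
    have h0 : 0 < (4 - ckl * clk) * T.m k := by
      rw [hR]; exact mul_pos (mul_pos two_pos (by linarith)) hmj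
    by_contra h
    push Not at h
    nlinarith
  have hQ : (4 - cij * cji) * (4 - ckl * clk) = 4 * (cjk * ckj) := by
    have h : ((4 - cij * cji) * (4 - ckl * clk) - 4 * (cjk * ckj)) * (T.m j * T.m k) = 0 := by
      linear_combination ((4 - ckl * clk) * T.m k) * hP + (2 * cjk * T.m k) * hR
    rcases mul_eq_zero.mp h with h | h
    · linarith
    · exact absurd h (mul_pos hmj hmk).ne'
  have u1 : cij ≤ 3 := by nlinarith
  have u2 : cji ≤ 3 := by nlinarith
  have u3 : ckl ≤ 3 := by nlinarith
  have u4 : clk ≤ 3 := by nlinarith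
  obtain ⟨Q, hQd⟩ : ∃ Q, Q = cjk * ckj := ⟨_, rfl⟩
  have hQ1 : 1 ≤ Q := by rw [hQd]; nlinarith
  rw [← hQd] at hQ
  have key : cij * cji = 2 ∧ ckl * clk = 2 ∧ Q = 1 := by
    clear hP hR ri rj rk rl eij eik eil ejk ejl ekl
    interval_cases cij <;> interval_cases cji <;> interval_cases ckl <;> interval_cases clk <;>
      omega
  obtain ⟨kP, kR, kQ⟩ := key
  have v1 : cjk = 1 := by nlinarith
  have v2 : ckj = 1 := by nlinarith
  subst v1 v2
  clear hP hR hQ hPpos hRpos hQd hQ1 kQ
  interval_cases cij <;> interval_cases cji <;> interval_cases ckl <;> interval_cases clk <;>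
  first
  | (exfalso; omega)
  | exact ⟨i, j, k, l, T.m l, T.w i, hij, hik, hil, hjk, hjl, hkl, Or.inr (Or.inl ⟨by linarith, by linarith, by linarith, by linarith, by linarith, by linarith, by linarith, by linarith, by linarith, by linarith, by linarith, by linarith, by linarith, by linarith, by linarith, by linarith, by linarith, by linarith⟩)⟩
  | exact ⟨i, j, k, l, T.m i, T.w i, hij, hik, hil, hjk, hjl, hkl, Or.inr (Or.inr (Or.inl ⟨by linarith, by linarith, by linarith, by linarith, by linarith, by linarith, by linarith, by linarith, by linarith, by linarith, by linarith, by linarith, by linarith, by linarith, by linarith, by linarith, by linarith, by linarith⟩))⟩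
  | exact ⟨i, j, k, l, T.m i, T.w j, hij, hik, hil, hjk, hjl, hkl, Or.inr (Or.inr (Or.inr (Or.inl ⟨by linarith, by linarith, by linarith, by linarith, by linarith, by linarith, by linarith, by linarith, by linarith, by linarith, by linarith, by linarith, by linarith, by linarith, by linarith, by linarith, by linarith, by linarith⟩)))⟩
  | exact ⟨l, k, j, i, T.m i, T.w l, hkl.symm, hjl.symm, hil.symm, hjk.symm, hik.symm, hij.symm, Or.inr (Or.inl ⟨by linarith, by linarith, by linarith, by linarith, by linarith, by linarith, by linarith, by linarith, by linarith, by linarith, by linarith, by linarith, by linarith, by linarith, by linarith, by linarith, by linarith, by linarith⟩)⟩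

end Groth.Agent.Helper11
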