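import Groth.Agent.Lib.Helper11.NumG1n4c
import Groth.Agent.Lib.Helper11.NumG1n4d

/-!
Numerical types of genus one on four indices: the classification (helper11).
-/

set_option autoImplicit false
set_option maxHeartbeats 1600000

namespace Groth.Agent.Helper11

open Finset Models

theorem n4_main (T : Models.NumericalType 4) (hmin : T.IsMinimal) (hg : T.genus = 1) :
    G1n4Concl T := by
  have hm2 : ∀ x, T.IsMinusTwo x := fun x => NT_genus_one_allMinusTwo T (by norm_num) hmin hg x
  have r : ∀ x, T.a x 0 * T.m 0 + T.a x 1 * T.m 1 + T.a x 2 * T.m 2 + T.a x 3 * T.m 3 = 0 := by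
    intro x
    have := Groth.Agent.Helper4.NT_row_sum T x
    rw [Fin.sum_univ_four] at this
    exact this
  have s : ∀ x y, T.a x y = T.a y x := fun x y => NT_symm T y x
  have n01 : (0 : Fin 4) ≠ 1 := by decide
  have n02 : (0 : Fin 4) ≠ 2 := by decide
  have n03 : (0 : Fin 4) ≠ 3 := by decide
  have n12 : (1 : Fin 4) ≠ 2 := by decide
  have n13 : (1 : Fin 4) ≠ 3 := by decide
  have n23 : (2 : Fin 4) ≠ 3 := by decide
  by_cases e01 : T.a 0 1 = 0
  · by_cases e02 : T.a 0 2 = 0
    · by_cases e03 : T.a 0 3 = 0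
      · by_cases e12 : T.a 1 2 = 0
        · by_cases e13 : T.a 1 3 = 0
          · by_cases e23 : T.a 2 3 = 0
            · exact (n4_isolated T 0 1 2 3 n01 n02 n03 hm2 (fun x => by linarith [r x]) e01 e02 e03).elim
            · exact (n4_isolated T 0 1 2 3 n01 n02 n03 hm2 (fun x => by linarith [r x]) e01 e02 e03).elim
          · by_cases e23 : T.a 2 3 = 0
            · exact (n4_isolated T 0 1 2 3 n01 n02 n03 hm2 (fun x => by linarith [r x]) e01 e02 e03).elim
            · exact (n4_isolated T 0 1 2 3 n01 n02 n03 hm2 (fun x => by linarith [r x]) e01 e02 e03).elim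
        · by_cases e13 : T.a 1 3 = 0
          · by_cases e23 : T.a 2 3 = 0
            · exact (n4_isolated T 0 1 2 3 n01 n02 n03 hm2 (fun x => by linarith [r x]) e01 e02 e03).elim
            · exact (n4_isolated T 0 1 2 3 n01 n02 n03 hm2 (fun x => by linarith [r x]) e01 e02 e03).elim
          · by_cases e23 : T.a 2 3 = 0
            · exact (n4_isolated T 0 1 2 3 n01 n02 n03 hm2 (fun x => by linarith [r x]) e01 e02 e03).elim
            · exact (n4_isolated T 0 1 2 3 n01 n02 n03 hm2 (fun x => by linarith [r x]) e01 e02 e03).elim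
      · by_cases e12 : T.a 1 2 = 0
        · by_cases e13 : T.a 1 3 = 0
          · by_cases e23 : T.a 2 3 = 0
            · exact (n4_isolated T 1 0 2 3 n01.symm n12 n13 hm2 (fun x => by linarith [r x]) ((s 1 0).trans e01) e12 e13).elim
            · exact (n4_isolated T 1 0 2 3 n01.symm n12 n13 hm2 (fun x => by linarith [r x]) ((s 1 0).trans e01) e12 e13).elim
          · by_cases e23 : T.a 2 3 = 0
            · exact (n4_isolated T 2 0 1 3 n02.symm n12.symm n23 hm2 (fun x => by linarith [r x]) ((s 2 0).trans e02) ((s 2 1).trans e12) e23).elim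
            · exact n4_star T 3 0 1 2 n03.symm n13.symm n23.symm n01 n02 n12 hm2 (fun x => by linarith [r x]) (fun h => e03 ((s 0 3).trans h)) (fun h => e13 ((s 1 3).trans h)) (fun h => e23 ((s 2 3).trans h)) e01 e02 e12
        · by_cases e13 : T.a 1 3 = 0
          · by_cases e23 : T.a 2 3 = 0
            · exact (n4_split T 0 3 1 2 n01 n02 n13.symm n23.symm (by decide) e01 e02 ((s 3 1).trans e13) ((s 3 2).trans e23)).elim
            · exact n4_path T 0 3 2 1 n03 n02 n01 n23.symm n13.symm n12.symm hm2 (fun x => by linarith [r x]) e03 (fun h => e23 ((s 2 3).trans h)) (fun h => e12 ((s 1 2).trans h)) e02 e01 ((s 3 1).trans e13)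
          · by_cases e23 : T.a 2 3 = 0
            · exact n4_path T 0 3 1 2 n03 n01 n02 n13.symm n23.symm n12 hm2 (fun x => by linarith [r x]) e03 (fun h => e13 ((s 1 3).trans h)) e12 e01 e02 ((s 3 2).trans e23)
            · exact (n4_triangle T 1 2 3 0 n12 n13 n01.symm n23 n02.symm n03.symm hm2 (fun x => by linarith [r x]) e12 e23 e13).elim
    · by_cases e03 : T.a 0 3 = 0
      · by_cases e12 : T.a 1 2 = 0
        · by_cases e13 : T.a 1 3 = 0
          · by_cases e23 : T.a 2 3 = 0
            · exact (n4_isolated T 1 0 2 3 n01.symm n12 n13 hm2 (fun x => by linarith [r x]) ((s 1 0).trans e01) e12 e13).elim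
            · exact (n4_isolated T 1 0 2 3 n01.symm n12 n13 hm2 (fun x => by linarith [r x]) ((s 1 0).trans e01) e12 e13).elim
          · by_cases e23 : T.a 2 3 = 0
            · exact (n4_split T 0 2 1 3 n01 n03 n12.symm n23 (by decide) e01 e03 ((s 2 1).trans e12) e23).elim
            · exact n4_path T 0 2 3 1 n02 n03 n01 n23 n12.symm n13.symm hm2 (fun x => by linarith [r x]) e02 e23 (fun h => e13 ((s 1 3).trans h)) e03 e01 ((s 2 1).trans e12)
        · by_cases e13 : T.a 1 3 = 0
          · by_cases e23 : T.a 2 3 = 0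
            · exact (n4_isolated T 3 0 1 2 n03.symm n13.symm n23.symm hm2 (fun x => by linarith [r x]) ((s 3 0).trans e03) ((s 3 1).trans e13) ((s 3 2).trans e23)).elim
            · exact n4_star T 2 0 1 3 n02.symm n12.symm n23 n01 n03 n13 hm2 (fun x => by linarith [r x]) (fun h => e02 ((s 0 2).trans h)) (fun h => e12 ((s 1 2).trans h)) e23 e01 e03 e13
          · by_cases e23 : T.a 2 3 = 0
            · exact n4_path T 0 2 1 3 n02 n01 n03 n12.symm n23 n13 hm2 (fun x => by linarith [r x]) e02 (fun h => e12 ((s 1 2).trans h)) e13 e01 e03 e23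
            · exact (n4_triangle T 1 2 3 0 n12 n13 n01.symm n23 n02.symm n03.symm hm2 (fun x => by linarith [r x]) e12 e23 e13).elim
      · by_cases e12 : T.a 1 2 = 0
        · by_cases e13 : T.a 1 3 = 0
          · by_cases e23 : T.a 2 3 = 0
            · exact (n4_isolated T 1 0 2 3 n01.symm n12 n13 hm2 (fun x => by linarith [r x]) ((s 1 0).trans e01) e12 e13).elim
            · exact (n4_isolated T 1 0 2 3 n01.symm n12 n13 hm2 (fun x => by linarith [r x]) ((s 1 0).trans e01) e12 e13).elim
          · by_cases e23 : T.a 2 3 = 0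
            · exact n4_path T 1 3 0 2 n13 n01.symm n12 n03.symm n23.symm n02 hm2 (fun x => by linarith [r x]) e13 (fun h => e03 ((s 0 3).trans h)) e02 ((s 1 0).trans e01) e12 ((s 3 2).trans e23)
            · exact (n4_triangle T 0 2 3 1 n02 n03 n01 n23 n12.symm n13.symm hm2 (fun x => by linarith [r x]) e02 e23 e03).elim
        · by_cases e13 : T.a 1 3 = 0
          · by_cases e23 : T.a 2 3 = 0
            · exact n4_path T 1 2 0 3 n12 n01.symm n13 n02.symm n23 n03 hm2 (fun x => by linarith [r x]) e12 (fun h => e02 ((s 0 2).trans h)) e03 ((s 1 0).trans e01) e13 e23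
            · exact (n4_triangle T 0 2 3 1 n02 n03 n01 n23 n12.symm n13.symm hm2 (fun x => by linarith [r x]) e02 e23 e03).elim
          · by_cases e23 : T.a 2 3 = 0
            · exact n4_cycle T 0 2 1 3 n02 n01 n03 n12.symm n23 n13 hm2 (fun x => by linarith [r x]) e02 (fun h => e12 ((s 1 2).trans h)) e13 e03 e01 e23
            · exact (n4_triangle T 0 2 3 1 n02 n03 n01 n23 n12.symm n13.symm hm2 (fun x => by linarith [r x]) e02 e23 e03).elim
  · by_cases e02 : T.a 0 2 = 0
    · by_cases e03 : T.a 0 3 = 0
      · by_cases e12 : T.a 1 2 = 0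
        · by_cases e13 : T.a 1 3 = 0
          · by_cases e23 : T.a 2 3 = 0
            · exact (n4_isolated T 2 0 1 3 n02.symm n12.symm n23 hm2 (fun x => by linarith [r x]) ((s 2 0).trans e02) ((s 2 1).trans e12) e23).elim
            · exact (n4_split T 0 1 2 3 n02 n03 n12 n13 (by decide) e02 e03 e12 e13).elim
          · by_cases e23 : T.a 2 3 = 0
            · exact (n4_isolated T 2 0 1 3 n02.symm n12.symm n23 hm2 (fun x => by linarith [r x]) ((s 2 0).trans e02) ((s 2 1).trans e12) e23).elim
            · exact n4_path T 0 1 3 2 n01 n03 n02 n13 n12 n23.symm hm2 (fun x => by linarith [r x]) e01 e13 (fun h => e23 ((s 2 3).trans h)) e03 e02 e12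
        · by_cases e13 : T.a 1 3 = 0
          · by_cases e23 : T.a 2 3 = 0
            · exact (n4_isolated T 3 0 1 2 n03.symm n13.symm n23.symm hm2 (fun x => by linarith [r x]) ((s 3 0).trans e03) ((s 3 1).trans e13) ((s 3 2).trans e23)).elim
            · exact n4_path T 0 1 2 3 n01 n02 n03 n12 n13 n23 hm2 (fun x => by linarith [r x]) e01 e12 e23 e02 e03 e13
          · by_cases e23 : T.a 2 3 = 0
            · exact n4_star T 1 0 2 3 n01.symm n12 n13 n02 n03 n23 hm2 (fun x => by linarith [r x]) (fun h => e01 ((s 0 1).trans h)) e12 e13 e02 e03 e23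
            · exact (n4_triangle T 1 2 3 0 n12 n13 n01.symm n23 n02.symm n03.symm hm2 (fun x => by linarith [r x]) e12 e23 e13).elim
      · by_cases e12 : T.a 1 2 = 0
        · by_cases e13 : T.a 1 3 = 0
          · by_cases e23 : T.a 2 3 = 0
            · exact (n4_isolated T 2 0 1 3 n02.symm n12.symm n23 hm2 (fun x => by linarith [r x]) ((s 2 0).trans e02) ((s 2 1).trans e12) e23).elim
            · exact n4_path T 1 0 3 2 n01.symm n13 n12 n03 n02 n23.symm hm2 (fun x => by linarith [r x]) (fun h => e01 ((s 0 1).trans h)) e03 (fun h => e23 ((s 2 3).trans h)) e13 e12 e02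
          · by_cases e23 : T.a 2 3 = 0
            · exact (n4_isolated T 2 0 1 3 n02.symm n12.symm n23 hm2 (fun x => by linarith [r x]) ((s 2 0).trans e02) ((s 2 1).trans e12) e23).elim
            · exact (n4_triangle T 0 1 3 2 n01 n03 n02 n13 n12 n23.symm hm2 (fun x => by linarith [r x]) e01 e13 e03).elim
        · by_cases e13 : T.a 1 3 = 0
          · by_cases e23 : T.a 2 3 = 0
            · exact n4_path T 2 1 0 3 n12.symm n02.symm n23 n01.symm n13 n03 hm2 (fun x => by linarith [r x]) (fun h => e12 ((s 1 2).trans h)) (fun h => e01 ((s 0 1).trans h)) e03 ((s 2 0).trans e02) e23 e13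
            · exact n4_cycle T 0 1 2 3 n01 n02 n03 n12 n13 n23 hm2 (fun x => by linarith [r x]) e01 e12 e23 e03 e02 e13
          · by_cases e23 : T.a 2 3 = 0
            · exact (n4_triangle T 0 1 3 2 n01 n03 n02 n13 n12 n23.symm hm2 (fun x => by linarith [r x]) e01 e13 e03).elim
            · exact (n4_triangle T 0 1 3 2 n01 n03 n02 n13 n12 n23.symm hm2 (fun x => by linarith [r x]) e01 e13 e03).elim
    · by_cases e03 : T.a 0 3 = 0
      · by_cases e12 : T.a 1 2 = 0
        · by_cases e13 : T.a 1 3 = 0
          · by_cases e23 : T.a 2 3 = 0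
            · exact (n4_isolated T 3 0 1 2 n03.symm n13.symm n23.symm hm2 (fun x => by linarith [r x]) ((s 3 0).trans e03) ((s 3 1).trans e13) ((s 3 2).trans e23)).elim
            · exact n4_path T 1 0 2 3 n01.symm n12 n13 n02 n03 n23 hm2 (fun x => by linarith [r x]) (fun h => e01 ((s 0 1).trans h)) e02 e23 e12 e13 e03
          · by_cases e23 : T.a 2 3 = 0
            · exact n4_path T 2 0 1 3 n02.symm n12.symm n23 n01 n03 n13 hm2 (fun x => by linarith [r x]) (fun h => e02 ((s 0 2).trans h)) e01 e13 ((s 2 1).trans e12) e23 e03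
            · exact n4_cycle T 0 1 3 2 n01 n03 n02 n13 n12 n23.symm hm2 (fun x => by linarith [r x]) e01 e13 (fun h => e23 ((s 2 3).trans h)) e02 e03 e12
        · by_cases e13 : T.a 1 3 = 0
          · by_cases e23 : T.a 2 3 = 0
            · exact (n4_isolated T 3 0 1 2 n03.symm n13.symm n23.symm hm2 (fun x => by linarith [r x]) ((s 3 0).trans e03) ((s 3 1).trans e13) ((s 3 2).trans e23)).elim
            · exact (n4_triangle T 0 1 2 3 n01 n02 n03 n12 n13 n23 hm2 (fun x => by linarith [r x]) e01 e12 e02).elim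
          · by_cases e23 : T.a 2 3 = 0
            · exact (n4_triangle T 0 1 2 3 n01 n02 n03 n12 n13 n23 hm2 (fun x => by linarith [r x]) e01 e12 e02).elim
            · exact (n4_triangle T 0 1 2 3 n01 n02 n03 n12 n13 n23 hm2 (fun x => by linarith [r x]) e01 e12 e02).elim
      · by_cases e12 : T.a 1 2 = 0
        · by_cases e13 : T.a 1 3 = 0
          · by_cases e23 : T.a 2 3 = 0
            · exact n4_star T 0 1 2 3 n01 n02 n03 n12 n13 n23 hm2 (fun x => by linarith [r x]) e01 e02 e03 e12 e13 e23
            · exact (n4_triangle T 0 2 3 1 n02 n03 n01 n23 n12.symm n13.symm hm2 (fun x => by linarith [r x]) e02 e23 e03).elim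
          · by_cases e23 : T.a 2 3 = 0
            · exact (n4_triangle T 0 1 3 2 n01 n03 n02 n13 n12 n23.symm hm2 (fun x => by linarith [r x]) e01 e13 e03).elim
            · exact (n4_triangle T 0 1 3 2 n01 n03 n02 n13 n12 n23.symm hm2 (fun x => by linarith [r x]) e01 e13 e03).elim
        · by_cases e13 : T.a 1 3 = 0
          · by_cases e23 : T.a 2 3 = 0
            · exact (n4_triangle T 0 1 2 3 n01 n02 n03 n12 n13 n23 hm2 (fun x => by linarith [r x]) e01 e12 e02).elim
            · exact (n4_triangle T 0 1 2 3 n01 n02 n03 n12 n13 n23 hm2 (fun x => by linarith [r x]) e01 e12 e02).elim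
          · by_cases e23 : T.a 2 3 = 0
            · exact (n4_triangle T 0 1 2 3 n01 n02 n03 n12 n13 n23 hm2 (fun x => by linarith [r x]) e01 e12 e02).elim
            · exact (n4_triangle T 0 1 2 3 n01 n02 n03 n12 n13 n23 hm2 (fun x => by linarith [r x]) e01 e12 e02).elim

end Groth.Agent.Helper11
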