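import Groth.Agent.Lib.Helper11.NumQuad

/-!
Numerical types: row criteria for test vectors of variable length (helper11).
-/

set_option autoImplicit false

namespace Groth.Agent.Helper11

open Finset Models

variable {n : ℕ} (T : Models.NumericalType n)

/-- If the neighbours in `S` of a `(-2)`-index `j` carry total weight at least `2 c j`, then the
`j`-th row of the intersection matrix is nonnegative on `c`. -/
theorem NT_row_nonneg {k : ℕ} (v : Fin k ↪ Fin n) (hv : ∀ j, T.IsMinusTwo (v j))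
    (c : Fin k → ℤ) (hc : ∀ j, 0 ≤ c j) (j : Fin k) (S : Finset (Fin k)) (hS : j ∉ S)
    (hne : ∀ j' ∈ S, T.a (v j) (v j') ≠ 0) (hsum : 2 * c j ≤ ∑ j' ∈ S, c j') :
    0 ≤ ∑ j', T.a (v j) (v j') * c j' := by
  classical
  have h1 : ∑ j' ∈ insert j S, T.a (v j) (v j') * c j' ≤ ∑ j', T.a (v j) (v j') * c j' := by
    apply Finset.sum_le_sum_of_subset_of_nonneg (Finset.subset_univ _)
    intro i _ hi
    have hij : j ≠ i := by
      rintro rfl
      exact hi (Finset.mem_insert_self _ _)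
    exact mul_nonneg (T.offDiag_nonneg _ _ (v.injective.ne hij)) (hc i)
  rw [Finset.sum_insert hS] at h1
  have h2 : ∑ j' ∈ S, T.w (v j) * c j' ≤ ∑ j' ∈ S, T.a (v j) (v j') * c j' := by
    apply Finset.sum_le_sum
    intro i hi
    have hij : j ≠ i := by
      rintro rfl
      exact hS hi
    exact mul_le_mul_of_nonneg_right (NT_ge1 T (v.injective.ne hij) (hne i hi)) (hc i)
  rw [← Finset.mul_sum] at h2
  have h3 := (hv j).2
  have hw := T.w_pos (v j)
  have h4 : T.w (v j) * (2 * c j) ≤ T.w (v j) * ∑ j' ∈ S, c j' :=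
    mul_le_mul_of_nonneg_left hsum hw.le
  rw [h3] at h1
  nlinarith

theorem NT_row_nonneg1 {k : ℕ} (v : Fin k ↪ Fin n) (hv : ∀ j, T.IsMinusTwo (v j))
    (c : Fin k → ℤ) (hc : ∀ j, 0 ≤ c j) (j j1 : Fin k) (h1 : j ≠ j1)
    (hne1 : T.a (v j) (v j1) ≠ 0) (hsum : 2 * c j ≤ c j1) :
    0 ≤ ∑ j', T.a (v j) (v j') * c j' := by
  classical
  apply NT_row_nonneg T v hv c hc j {j1}
  · simpa using h1
  · intro j' hj'
    rw [Finset.mem_singleton] at hj'
    rw [hj']
    exact hne1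
  · simpa using hsum

theorem NT_row_nonneg2 {k : ℕ} (v : Fin k ↪ Fin n) (hv : ∀ j, T.IsMinusTwo (v j))
    (c : Fin k → ℤ) (hc : ∀ j, 0 ≤ c j) (j j1 j2 : Fin k) (h1 : j ≠ j1) (h2 : j ≠ j2)
    (h12 : j1 ≠ j2) (hne1 : T.a (v j) (v j1) ≠ 0) (hne2 : T.a (v j) (v j2) ≠ 0)
    (hsum : 2 * c j ≤ c j1 + c j2) :
    0 ≤ ∑ j', T.a (v j) (v j') * c j' := by
  classical
  apply NT_row_nonneg T v hv c hc j {j1, j2}
  · simp [h1, h2]
  · intro j' hj'
    simp only [Finset.mem_insert, Finset.mem_singleton] at hj'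
    rcases hj' with rfl | rfl
    · exact hne1
    · exact hne2
  · rw [Finset.sum_pair h12]
    exact hsum

theorem NT_row_nonneg3 {k : ℕ} (v : Fin k ↪ Fin n) (hv : ∀ j, T.IsMinusTwo (v j))
    (c : Fin k → ℤ) (hc : ∀ j, 0 ≤ c j) (j j1 j2 j3 : Fin k) (h1 : j ≠ j1) (h2 : j ≠ j2)
    (h3 : j ≠ j3) (h12 : j1 ≠ j2) (h13 : j1 ≠ j3) (h23 : j2 ≠ j3)
    (hne1 : T.a (v j) (v j1) ≠ 0) (hne2 : T.a (v j) (v j2) ≠ 0) (hne3 : T.a (v j) (v j3) ≠ 0)
    (hsum : 2 * c j ≤ c j1 + c j2 + c j3) :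
    0 ≤ ∑ j', T.a (v j) (v j') * c j' := by
  classical
  apply NT_row_nonneg T v hv c hc j {j1, j2, j3}
  · simp [h1, h2, h3]
  · intro j' hj'
    simp only [Finset.mem_insert, Finset.mem_singleton] at hj'
    rcases hj' with rfl | rfl | rfl
    · exact hne1
    · exact hne2
    · exact hne3
  · rw [Finset.sum_insert (by simp [h12, h13]), Finset.sum_pair h23]
    linarith

theorem NT_ne_symm {i j : Fin n} (h : T.a i j ≠ 0) : T.a j i ≠ 0 := by
  rwa [NT_symm T i j]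

end Groth.Agent.Helper11
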