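import Groth.Agent.Lib.Helper11.RelFin4
import Groth.Agent.Lib.Helper11.DCFlatBC
import Mathlib.RingTheory.TensorProduct.MvPolynomial
import Mathlib.RingTheory.RingHom.Flat

/-!
Polynomial extensions of pseudo-coherent ring maps; transitivity of relative pseudo-coherence
(helper11).
-/

open CategoryTheory Category Limits Pretriangulated DerivedCategory ZeroObject

attribute [local instance] HasDerivedCategory.standard

universe u

namespace Groth.Agent.Helper11.MPC

open Groth.Agent.Helper11.DC Groth.Agent.Helper11.GenRes Groth.Agent.Helper11.TA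

section PolyBC

open TensorProduct

variable {P A : Type u} [CommRing P] [CommRing A] (α : P →+* A) (k : ℕ)

/-- the `P`-linear map `A → A[y]` of constants -/
noncomputable def polyConst :
    (ModuleCat.restrictScalars.{u} α).obj (ModuleCat.of A A) ⟶
      (ModuleCat.restrictScalars.{u} (MvPolynomial.C : P →+* MvPolynomial (Fin k) P)).obj
        ((ModuleCat.restrictScalars.{u} (MvPolynomial.map α :
          MvPolynomial (Fin k) P →+* MvPolynomial (Fin k) A)).obj
          (ModuleCat.of (MvPolynomial (Fin k) A) (MvPolynomial (Fin k) A))) :=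
  ModuleCat.ofHom
    (X := (ModuleCat.restrictScalars.{u} α).obj (ModuleCat.of A A))
    (Y := (ModuleCat.restrictScalars.{u} (MvPolynomial.C : P →+* MvPolynomial (Fin k) P)).obj
        ((ModuleCat.restrictScalars.{u} (MvPolynomial.map α :
          MvPolynomial (Fin k) P →+* MvPolynomial (Fin k) A)).obj
          (ModuleCat.of (MvPolynomial (Fin k) A) (MvPolynomial (Fin k) A))))
    { toFun := fun (a : A) => (MvPolynomial.C a : MvPolynomial (Fin k) A)
      map_add' := fun (a b : A) => MvPolynomial.C_add
      map_smul' := fun p (a : A) => by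
        show MvPolynomial.C (α p * a) =
          MvPolynomial.map α (MvPolynomial.C p) * MvPolynomial.C a
        rw [MvPolynomial.map_C, MvPolynomial.C_mul] }

/-- the comparison map `P[y] ⊗_P A → A[y]` -/
noncomputable def polyBCHom :
    (ModuleCat.extendScalars.{u,u,u} (MvPolynomial.C : P →+* MvPolynomial (Fin k) P)).obj
        ((ModuleCat.restrictScalars.{u} α).obj (ModuleCat.of A A)) ⟶
      (ModuleCat.restrictScalars.{u} (MvPolynomial.map α :
        MvPolynomial (Fin k) P →+* MvPolynomial (Fin k) A)).obj
        (ModuleCat.of (MvPolynomial (Fin k) A) (MvPolynomial (Fin k) A)) :=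
  ModuleCat.ExtendRestrictScalarsAdj.HomEquiv.fromExtendScalars _ (polyConst α k)

theorem polyBCHom_tmul
    (q : (ModuleCat.restrictScalars.{u} (MvPolynomial.C : P →+* MvPolynomial (Fin k) P)).obj
      (ModuleCat.of (MvPolynomial (Fin k) P) (MvPolynomial (Fin k) P)))
    (a : (ModuleCat.restrictScalars.{u} α).obj (ModuleCat.of A A)) :
    (polyBCHom α k).hom (q ⊗ₜ[P] a) =
      (MvPolynomial.map α (show MvPolynomial (Fin k) P from q) *
        MvPolynomial.C (show A from a) : MvPolynomial (Fin k) A) := rfl

/-- the comparison as an additive equivalence built from known equivalences -/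
noncomputable def polyBCEquiv :
    letI : Algebra P A := α.toAlgebra
    (MvPolynomial (Fin k) P ⊗[P] A) ≃+ MvPolynomial (Fin k) A :=
  letI : Algebra P A := α.toAlgebra
  ((TensorProduct.comm P (MvPolynomial (Fin k) P) A).toAddEquiv).trans
    ((MvPolynomial.algebraTensorAlgEquiv (σ := Fin k) P A).toRingEquiv.toAddEquiv)

/-- the full additive equivalence from the extension of scalars -/
noncomputable def polyBCTheta :
    ((ModuleCat.extendScalars.{u,u,u} (MvPolynomial.C : P →+* MvPolynomial (Fin k) P)).obj
        ((ModuleCat.restrictScalars.{u} α).obj (ModuleCat.of A A)) : ModuleCat.{u} _) ≃+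
      MvPolynomial (Fin k) A :=
  letI : Algebra P A := α.toAlgebra
  let e₁ : ((ModuleCat.restrictScalars.{u} (MvPolynomial.C : P →+* MvPolynomial (Fin k) P)).obj
      (ModuleCat.of (MvPolynomial (Fin k) P) (MvPolynomial (Fin k) P))) ≃ₗ[P]
        MvPolynomial (Fin k) P :=
    { toFun := fun x => x
      invFun := fun x => x
      map_add' := fun _ _ => rfl
      map_smul' := fun p (q : MvPolynomial (Fin k) P) => MvPolynomial.C_mul' (a := p) (p := q)
      left_inv := fun _ => rfl
      right_inv := fun _ => rfl }
  let e₂ : ((ModuleCat.restrictScalars.{u} α).obj (ModuleCat.of A A)) ≃ₗ[P] A :=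
    { toFun := fun x => x
      invFun := fun x => x
      map_add' := fun _ _ => rfl
      map_smul' := fun _ _ => rfl
      left_inv := fun _ => rfl
      right_inv := fun _ => rfl }
  (TensorProduct.congr e₁ e₂).toAddEquiv.trans (polyBCEquiv α k)

theorem polyBCTheta_eq (x : ((ModuleCat.extendScalars.{u,u,u}
    (MvPolynomial.C : P →+* MvPolynomial (Fin k) P)).obj
      ((ModuleCat.restrictScalars.{u} α).obj (ModuleCat.of A A)) : ModuleCat.{u} _)) :
    polyBCTheta α k x = (polyBCHom α k).hom x := by
  refine TensorProduct.induction_on x ?_ ?_ ?_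
  · exact (map_zero _).trans (map_zero _).symm
  · intro q a
    rw [polyBCHom_tmul]
    letI : Algebra P A := α.toAlgebra
    show MvPolynomial.algebraTensorAlgEquiv (σ := Fin k) P A
      ((show A from a) ⊗ₜ[P] (show MvPolynomial (Fin k) P from q)) = _
    rw [MvPolynomial.algebraTensorAlgEquiv_tmul, MvPolynomial.smul_eq_C_mul, mul_comm]
    rfl
  · intro x y hx hy
    exact (map_add _ x y).trans ((congrArg₂ (· + ·) hx hy).trans (map_add _ x y).symm)

instance polyBCHom_isIso : IsIso (polyBCHom α k) := by
  rw [ConcreteCategory.isIso_iff_bijective]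
  have h : ⇑(ConcreteCategory.hom (polyBCHom α k)) = ⇑(polyBCTheta α k) := by
    funext x
    exact (polyBCTheta_eq α k x).symm
  rw [h]
  exact (polyBCTheta α k).bijective

theorem flat_C : (MvPolynomial.C : P →+* MvPolynomial (Fin k) P).Flat := by
  have h : (MvPolynomial.C : P →+* MvPolynomial (Fin k) P).toAlgebra =
      (inferInstance : Algebra P (MvPolynomial (Fin k) P)) :=
    Algebra.algebra_ext _ _ (fun r => rfl)
  show @Module.Flat P (MvPolynomial (Fin k) P) _ _
    (MvPolynomial.C : P →+* MvPolynomial (Fin k) P).toAlgebra.toModule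
  rw [h]
  infer_instance

/-- `A` pseudo-coherent over `P` implies `A[y]` pseudo-coherent over `P[y]`. -/
theorem baseIsPc_map (hα : BaseIsPc α) :
    BaseIsPc (MvPolynomial.map α : MvPolynomial (Fin k) P →+* MvPolynomial (Fin k) A) := by
  have h1 := flatBC_pc' (MvPolynomial.C : P →+* MvPolynomial (Fin k) P) (flat_C k)
    ((ModuleCat.restrictScalars.{u} α).obj (ModuleCat.of A A)) hα
  exact thickLike_pc.iso
    ((singleFunctor (ModuleCat.{u} (MvPolynomial (Fin k) P)) 0).mapIso (asIso (polyBCHom α k))) h1

end PolyBC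

section Trans

variable {R A B : Type u} [CommRing R] [CommRing A] [CommRing B]
  [Algebra R A] [Algebra A B] [Algebra R B] [IsScalarTower R A B]

theorem exists_delta {n k : ℕ} (α : MvPolynomial (Fin n) R →ₐ[R] A) (hα : Function.Surjective α)
    (αA : MvPolynomial (Fin k) A →ₐ[A] B) (hαA : Function.Surjective αA) :
    ∃ (δ : MvPolynomial (Fin (k + n)) R →ₐ[R] B)
      (e : MvPolynomial (Fin (k + n)) R ≃ₐ[R] MvPolynomial (Fin k) (MvPolynomial (Fin n) R)),
      Function.Surjective δ ∧
        (δ : MvPolynomial (Fin (k + n)) R →+* B) =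
          ((αA : MvPolynomial (Fin k) A →+* B).comp
            (MvPolynomial.map (α : MvPolynomial (Fin n) R →+* A))).comp
            (e : MvPolynomial (Fin (k + n)) R →+* _) := by
  let μ : MvPolynomial (Fin k) (MvPolynomial (Fin n) R) →+* MvPolynomial (Fin k) A :=
    MvPolynomial.map (α : MvPolynomial (Fin n) R →+* A)
  have hμ : Function.Surjective μ := MvPolynomial.map_surjective _ hα
  let α' : MvPolynomial (Fin k) (MvPolynomial (Fin n) R) →+* B :=
    (αA : MvPolynomial (Fin k) A →+* B).comp μ
  let e : MvPolynomial (Fin (k + n)) R ≃ₐ[R] MvPolynomial (Fin k) (MvPolynomial (Fin n) R) :=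
    (MvPolynomial.renameEquiv R finSumFinEquiv.symm).trans
      (MvPolynomial.sumAlgEquiv R (Fin k) (Fin n))
  let δ : MvPolynomial (Fin (k + n)) R →ₐ[R] B :=
    { α'.comp (e : MvPolynomial (Fin (k + n)) R →+* _) with
      commutes' := fun r => by
        show αA (μ (e (algebraMap R _ r))) = algebraMap R B r
        rw [e.commutes]
        have h : algebraMap R (MvPolynomial (Fin k) (MvPolynomial (Fin n) R)) r =
            MvPolynomial.C (MvPolynomial.C r) := rfl
        rw [h]
        show αA (MvPolynomial.map (α : MvPolynomial (Fin n) R →+* A)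
          (MvPolynomial.C (MvPolynomial.C r))) = _
        rw [MvPolynomial.map_C]
        have h' : (α : MvPolynomial (Fin n) R →+* A) (MvPolynomial.C r) = algebraMap R A r :=
          α.commutes r
        rw [h']
        have h'' : (MvPolynomial.C (algebraMap R A r) : MvPolynomial (Fin k) A) =
            algebraMap A (MvPolynomial (Fin k) A) (algebraMap R A r) := rfl
        rw [h'', αA.commutes, ← IsScalarTower.algebraMap_apply] }
  refine ⟨δ, e, ?_, rfl⟩
  intro b
  obtain ⟨p, rfl⟩ := hαA b
  obtain ⟨q, rfl⟩ := hμ p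
  obtain ⟨q', rfl⟩ := e.surjective q
  exact ⟨q', rfl⟩

/-- transitivity of relative pseudo-coherence when `A` is pseudo-coherent over `R[x]`. -/
theorem rel_trans_iff [Algebra.FiniteType R A] [Algebra.FiniteType A B]
    (hA : DerCA.IsRelPseudoCoherentModuleAll R A A) (K : Dual.D B) (m : ℤ) :
    DerCA.IsRelPseudoCoherent A B m K ↔ DerCA.IsRelPseudoCoherent R B m K := by
  obtain ⟨n, α, hα⟩ := exists_presentation (R := R) (A := A)
  have hbase : BaseIsPc (α : MvPolynomial (Fin n) R →+* A) := by
    have h1 : ∀ j, DRing.IsPseudoCoherent _ j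
        ((DRing.restrictD (α : MvPolynomial (Fin n) R →+* A)).obj (Dual.inD A A)) :=
      fun j => (rel_iff_via α hα j _).1 (hA j)
    have h2 := pc'_of_forall_mpc h1
    exact thickLike_pc.iso
      (((ModuleCat.restrictScalars.{u} (α : MvPolynomial (Fin n) R →+* A)).mapDerivedCategorySingleFunctor
        0).app (ModuleCat.of A A)) h2
  obtain ⟨k, αA, hαA⟩ := exists_presentation (R := A) (A := B)
  obtain ⟨δ, e, hδ, hδe⟩ := exists_delta α hα αA hαA
  rw [rel_iff_via αA hαA, rel_iff_via δ hδ]
  unfold DerCA.IsRelPseudoCoherentVia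
  rw [hδe]
  have h1 := mpc_restrict_comp_iff (MvPolynomial.map (α : MvPolynomial (Fin n) R →+* A) :
      MvPolynomial (Fin k) (MvPolynomial (Fin n) R) →+* MvPolynomial (Fin k) A)
    (baseIsPc_map (α : MvPolynomial (Fin n) R →+* A) k hbase)
    (αA : MvPolynomial (Fin k) A →+* B) m K
  have h2 := mpc_restrict_comp_iff (e : MvPolynomial (Fin (k + n)) R →+* _)
    (baseIsPc_of_bijective _ e.bijective)
    ((αA : MvPolynomial (Fin k) A →+* B).comp
      (MvPolynomial.map (α : MvPolynomial (Fin n) R →+* A))) m K
  exact h1.trans h2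

end Trans

end Groth.Agent.Helper11.MPC
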