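import Groth.Agent.Lib.Helper11.RelLoc8
import Groth.Agent.Lib.Helper11.RelFin5
import Groth.Prelude.Def_MoreMor
import Mathlib.RingTheory.LocalProperties.Basic
import Mathlib.RingTheory.RingHom.FiniteType

/-!
Pseudo-coherent ring maps form a local property of ring homomorphisms (helper11).
-/

set_option autoImplicit false

open CategoryTheory Category Limits DerivedCategory

attribute [local instance] HasDerivedCategory.standard

universe u

namespace Groth.Agent.Helper11.PcHom

open Groth.Agent.Helper11.DC Groth.Agent.Helper11.MPC Groth.Agent.Helper11.TA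

section Alg

variable {A B C : Type u} [CommRing A] [CommRing B] [CommRing C]

theorem finiteType_of_hom [Algebra A B] (h : MoreMor.IsPseudoCoherentHom A B) :
    Algebra.FiniteType A B := by
  obtain ⟨n, φ, hφ, -⟩ := h
  exact Algebra.FiniteType.of_surjective φ hφ

theorem rel_of_hom [Algebra A B] (h : MoreMor.IsPseudoCoherentHom A B) :
    DerCA.IsRelPseudoCoherentModuleAll A B B := by
  intro m
  obtain ⟨n, φ, hφ, hB⟩ := h
  have hB' : BaseIsPc (φ : MvPolynomial (Fin n) A →+* B) := hB
  refine ⟨n, φ, hφ, (mpc_restrict_iff hB' m _).mp ?_⟩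
  exact mpc_of_pc' (pc_of_finite_projective (ModuleCat.of B B)) m

theorem hom_of_rel [Algebra A B] (h : DerCA.IsRelPseudoCoherentModuleAll A B B) :
    MoreMor.IsPseudoCoherentHom A B := by
  obtain ⟨n, α, hα, -⟩ := h 0
  refine ⟨n, α, hα, ?_⟩
  show BaseIsPc (α : MvPolynomial (Fin n) A →+* B)
  refine pc'_of_forall_mpc (fun m => ?_)
  have h1 := (rel_iff_via α hα m _).mp (h m)
  exact (mpc_restrict_single_iff (α : MvPolynomial (Fin n) A →+* B) (ModuleCat.of B B) m).mp h1

theorem hom_iff_rel [Algebra A B] :
    MoreMor.IsPseudoCoherentHom A B ↔ DerCA.IsRelPseudoCoherentModuleAll A B B :=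
  ⟨rel_of_hom, hom_of_rel⟩

theorem hom_comp [Algebra A B] [Algebra B C] [Algebra A C] [IsScalarTower A B C]
    (h1 : MoreMor.IsPseudoCoherentHom A B) (h2 : MoreMor.IsPseudoCoherentHom B C) :
    MoreMor.IsPseudoCoherentHom A C := by
  haveI : Algebra.FiniteType A B := finiteType_of_hom h1
  haveI : Algebra.FiniteType B C := finiteType_of_hom h2
  exact hom_of_rel (fun m => (rel_trans_iff (rel_of_hom h1) _ m).mp (rel_of_hom h2 m))

theorem hom_of_comp [Algebra A B] [Algebra B C] [Algebra A C] [IsScalarTower A B C]
    (h1 : MoreMor.IsPseudoCoherentHom A B) (h3 : MoreMor.IsPseudoCoherentHom A C) :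
    MoreMor.IsPseudoCoherentHom B C := by
  haveI : Algebra.FiniteType A B := finiteType_of_hom h1
  haveI : Algebra.FiniteType A C := finiteType_of_hom h3
  haveI : Algebra.FiniteType B C := Algebra.FiniteType.of_restrictScalars_finiteType A B C
  exact hom_of_rel (fun m => (rel_trans_iff (rel_of_hom h1) _ m).mpr (rel_of_hom h3 m))

theorem hom_of_bijective [Algebra A B] (h : Function.Bijective (algebraMap A B)) :
    MoreMor.IsPseudoCoherentHom A B := by
  let α : MvPolynomial (Fin 0) A →ₐ[A] B :=
    (Algebra.ofId A B).comp (MvPolynomial.isEmptyAlgEquiv A (Fin 0)).toAlgHom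
  have hα : Function.Bijective α := by
    have : (α : MvPolynomial (Fin 0) A → B) =
        (algebraMap A B) ∘ (MvPolynomial.isEmptyAlgEquiv A (Fin 0)) := rfl
    rw [this]
    exact h.comp (MvPolynomial.isEmptyAlgEquiv A (Fin 0)).bijective
  exact ⟨0, α, hα.surjective, baseIsPc_of_bijective (α : MvPolynomial (Fin 0) A →+* B) hα⟩

theorem hom_away [Algebra A B] (r : A) [IsLocalization.Away r B] :
    MoreMor.IsPseudoCoherentHom A B := by
  have h1 : MoreMor.IsPseudoCoherentHom A (Localization.Away r) := hom_of_rel (relPcAll_away r)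
  let e : Localization.Away r ≃ₐ[A] B := IsLocalization.algEquiv (Submonoid.powers r) _ _
  letI : Algebra (Localization.Away r) B := e.toAlgHom.toRingHom.toAlgebra
  haveI : IsScalarTower A (Localization.Away r) B :=
    IsScalarTower.of_algebraMap_eq (fun x => (e.commutes x).symm)
  have h2 : MoreMor.IsPseudoCoherentHom (Localization.Away r) B :=
    hom_of_bijective e.bijective
  exact hom_comp h1 h2

theorem hom_of_cover [Algebra A B] [Algebra.FiniteType A B] {r : ℕ} (f : Fin r → B)
    (hf : Ideal.span (Set.range f) = ⊤)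
    (h : ∀ i, MoreMor.IsPseudoCoherentHom A (Localization.Away (f i))) :
    MoreMor.IsPseudoCoherentHom A B := by
  refine hom_of_rel (fun m => ?_)
  let K : DRing.Cx B :=
    (HomologicalComplex.single (ModuleCat.{u} B) (ComplexShape.up ℤ) 0).obj (ModuleCat.of B B)
  have hK : DRing.IsPseudoCoherent B m (Q.obj K) :=
    mpc_of_pc' (pc_of_finite_projective (ModuleCat.of B B)) m
  refine (rel_cover_iff K m f hf).mpr (fun i => ?_)
  obtain ⟨n, φ, hφ, hB⟩ := h i
  have hB' : BaseIsPc (φ : MvPolynomial (Fin n) A →+* Localization.Away (f i)) := hB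
  refine ⟨n, φ, hφ, (mpc_restrict_iff hB' m _).mp ?_⟩
  exact mpc_esC _ (flat_algebraMap_away (f i)) m K hK

end Alg

/-- the property of ring homomorphisms -/
def Q {A B : Type u} [CommRing A] [CommRing B] (φ : A →+* B) : Prop :=
  letI := φ.toAlgebra
  MoreMor.IsPseudoCoherentHom A B

theorem Q_algebraMap_iff {A B : Type u} [CommRing A] [CommRing B] [Algebra A B] :
    Q (algebraMap A B) ↔ MoreMor.IsPseudoCoherentHom A B := by
  have h : (algebraMap A B).toAlgebra = (inferInstance : Algebra A B) :=
    Algebra.algebra_ext _ _ (fun r => rfl)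
  show @MoreMor.IsPseudoCoherentHom A B _ _ (algebraMap A B).toAlgebra ↔ _
  rw [h]

theorem Q_stableUnderComposition : RingHom.StableUnderComposition @Q := by
  intro R S T _ _ _ f g hf hg
  letI := f.toAlgebra
  letI := g.toAlgebra
  letI := (g.comp f).toAlgebra
  haveI : IsScalarTower R S T := IsScalarTower.of_algebraMap_eq (fun _ => rfl)
  exact hom_comp hf hg

theorem Q_cancel {R S T : Type u} [CommRing R] [CommRing S] [CommRing T] (f : R →+* S)
    (g : S →+* T) (hf : Q f) (hgf : Q (g.comp f)) : Q g := by
  letI := f.toAlgebra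
  letI := g.toAlgebra
  letI := (g.comp f).toAlgebra
  haveI : IsScalarTower R S T := IsScalarTower.of_algebraMap_eq (fun _ => rfl)
  exact hom_of_comp hf hgf

theorem Q_holdsForLocalizationAway : RingHom.HoldsForLocalizationAway @Q := by
  intro R S _ _ _ r _
  exact Q_algebraMap_iff.mpr (hom_away r)

theorem Q_finiteType {A B : Type u} [CommRing A] [CommRing B] {φ : A →+* B} (h : Q φ) :
    φ.FiniteType := by
  letI := φ.toAlgebra
  exact finiteType_of_hom h

theorem Q_ofLocalizationFiniteSpanTarget : RingHom.OfLocalizationFiniteSpanTarget @Q := by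
  intro R S _ _ f s hs H
  letI := f.toAlgebra
  have hft : f.FiniteType := by
    refine RingHom.finiteType_ofLocalizationSpanTarget f (s : Set S) hs (fun r => ?_)
    exact Q_finiteType (H ⟨r.1, r.2⟩)
  haveI : Algebra.FiniteType R S := hft
  have H' : ∀ r : s, MoreMor.IsPseudoCoherentHom R (Localization.Away (r : S)) := fun r => by
    have h := H r
    have heq : ((algebraMap S (Localization.Away (r : S))).comp f).toAlgebra =
        (inferInstance : Algebra R (Localization.Away (r : S))) :=
      Algebra.algebra_ext _ _ (fun x => by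
        show algebraMap S (Localization.Away (r : S)) (f x) = _
        rw [IsScalarTower.algebraMap_apply R S (Localization.Away (r : S))]
        rfl)
    unfold Q at h
    rw [heq] at h
    exact h
  let e := s.equivFin
  show MoreMor.IsPseudoCoherentHom R S
  refine hom_of_cover (fun i : Fin s.card => ((e.symm i : s) : S)) ?_ (fun i => H' (e.symm i))
  have hr : Set.range (fun i : Fin s.card => ((e.symm i : s) : S)) = (s : Set S) := by
    ext x
    constructor
    · rintro ⟨i, rfl⟩
      exact (e.symm i).2
    · intro hx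
      exact ⟨e ⟨x, hx⟩, by simp⟩
  rw [hr]
  exact hs

theorem Q_ofLocalizationSpanTarget : RingHom.OfLocalizationSpanTarget @Q :=
  (RingHom.ofLocalizationSpanTarget_iff_finite _).mpr Q_ofLocalizationFiniteSpanTarget

theorem Q_localizationAwayPreserves : RingHom.LocalizationAwayPreserves @Q := by
  intro R S _ _ f r R' S' _ _ _ _ _ _ hf
  have h1 : Q (algebraMap R R') := Q_holdsForLocalizationAway R' r
  have h2 : Q ((algebraMap S S').comp f) :=
    Q_stableUnderComposition f (algebraMap S S') hf (Q_holdsForLocalizationAway S' (f r))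
  have h3 : (IsLocalization.Away.map R' S' f r).comp (algebraMap R R') =
      (algebraMap S S').comp f := IsLocalization.map_comp _
  exact Q_cancel _ _ h1 (h3 ▸ h2)

theorem Q_isLocal : RingHom.PropertyIsLocal @Q :=
  ⟨Q_localizationAwayPreserves, Q_ofLocalizationSpanTarget,
    Q_ofLocalizationSpanTarget.ofLocalizationSpan
      (Q_stableUnderComposition.stableUnderCompositionWithLocalizationAway
        Q_holdsForLocalizationAway).left,
    (Q_stableUnderComposition.stableUnderCompositionWithLocalizationAway
      Q_holdsForLocalizationAway).right⟩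

end Groth.Agent.Helper11.PcHom
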