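import Groth.Agent.Lib.Helper11.RelFin1
import Mathlib.RingTheory.IntegralClosure.IsIntegralClosure.Basic

/-!
Relative pseudo-coherence and finite extensions (helper11).
-/

open CategoryTheory Category Limits Pretriangulated DerivedCategory ZeroObject

attribute [local instance] HasDerivedCategory.standard

universe u

namespace Groth.Agent.Helper11.MPC

open Groth.Agent.Helper11.DC Groth.Agent.Helper11.GenRes Groth.Agent.Helper11.TA

section Extend

variable {R B : Type u} [CommRing R] [CommRing B] [Algebra R B]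

/-- extend a presentation by one more variable mapping to `b` -/
noncomputable def extendOne {n : ℕ} (γ : MvPolynomial (Fin n) R →ₐ[R] B) (b : B) :
    MvPolynomial (Fin (n + 1)) R →ₐ[R] B :=
  MvPolynomial.aeval (Fin.cons b (fun i => γ (MvPolynomial.X i)))

theorem extendOne_X_zero {n : ℕ} (γ : MvPolynomial (Fin n) R →ₐ[R] B) (b : B) :
    extendOne γ b (MvPolynomial.X 0) = b := by
  simp [extendOne]

theorem extendOne_rename {n : ℕ} (γ : MvPolynomial (Fin n) R →ₐ[R] B) (b : B)
    (q : MvPolynomial (Fin n) R) :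
    extendOne γ b (MvPolynomial.rename Fin.succ q) = γ q := by
  have h : (extendOne γ b).comp (MvPolynomial.rename Fin.succ) = γ := by
    apply MvPolynomial.algHom_ext
    intro i
    simp [extendOne]
  exact DFunLike.congr_fun h q

theorem extendOne_eq {n : ℕ} (γ : MvPolynomial (Fin n) R →ₐ[R] B) (b : B) :
    (extendOne γ b : MvPolynomial (Fin (n + 1)) R →+* B) =
      (Polynomial.eval₂RingHom (γ : MvPolynomial (Fin n) R →+* B) b).comp
        ((MvPolynomial.finSuccEquiv R n : MvPolynomial (Fin (n + 1)) R ≃ₐ[R] _) :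
          MvPolynomial (Fin (n + 1)) R →+* _) := by
  apply MvPolynomial.ringHom_ext
  · intro r
    simp [extendOne, MvPolynomial.finSuccEquiv_apply]
  · intro i
    refine Fin.cases ?_ (fun j => ?_) i
    · simp [extendOne, MvPolynomial.finSuccEquiv_X_zero]
    · simp [extendOne, MvPolynomial.finSuccEquiv_X_succ]

theorem mpc_extendOne_iff {n : ℕ} (γ : MvPolynomial (Fin n) R →ₐ[R] B) (b : B)
    (hb : (γ : MvPolynomial (Fin n) R →+* B).IsIntegralElem b) (m : ℤ) (K : Dual.D B) :
    DRing.IsPseudoCoherent (MvPolynomial (Fin n) R) m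
        ((DRing.restrictD (γ : MvPolynomial (Fin n) R →+* B)).obj K) ↔
      DRing.IsPseudoCoherent (MvPolynomial (Fin (n + 1)) R) m
        ((DRing.restrictD (extendOne γ b : MvPolynomial (Fin (n + 1)) R →+* B)).obj K) := by
  rw [extendOne_eq]
  have h1 := mpc_restrict_eval₂_iff (γ : MvPolynomial (Fin n) R →+* B) b hb m K
  have h2 := mpc_restrict_comp_iff
    ((MvPolynomial.finSuccEquiv R n : MvPolynomial (Fin (n + 1)) R ≃ₐ[R] _) :
      MvPolynomial (Fin (n + 1)) R →+* _)
    (baseIsPc_of_bijective _ (MvPolynomial.finSuccEquiv R n).bijective)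
    (Polynomial.eval₂RingHom (γ : MvPolynomial (Fin n) R →+* B) b) m K
  exact h1.trans h2

theorem exists_extend : ∀ (k : ℕ) (n : ℕ) (γ : MvPolynomial (Fin n) R →ₐ[R] B)
    (_ : (γ : MvPolynomial (Fin n) R →+* B).IsIntegral) (b : Fin k → B),
    ∃ (N : ℕ) (β : MvPolynomial (Fin N) R →ₐ[R] B), (∀ x, γ x ∈ β.range) ∧
      (∀ j, b j ∈ β.range) ∧ ∀ (K : Dual.D B) (m : ℤ),
        (DRing.IsPseudoCoherent (MvPolynomial (Fin n) R) m
          ((DRing.restrictD (γ : MvPolynomial (Fin n) R →+* B)).obj K) ↔
        DRing.IsPseudoCoherent (MvPolynomial (Fin N) R) m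
          ((DRing.restrictD (β : MvPolynomial (Fin N) R →+* B)).obj K)) := by
  intro k
  induction k with
  | zero =>
    intro n γ _ b
    exact ⟨n, γ, fun x => ⟨x, rfl⟩, fun j => j.elim0, fun _ _ => Iff.rfl⟩
  | succ k ih =>
    intro n γ hint b
    have hcomp : (extendOne γ (b 0) : MvPolynomial (Fin (n + 1)) R →+* B).comp
        ((MvPolynomial.rename Fin.succ : MvPolynomial (Fin n) R →ₐ[R] _) :
          MvPolynomial (Fin n) R →+* _) = (γ : MvPolynomial (Fin n) R →+* B) := by
      apply RingHom.ext
      intro q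
      exact extendOne_rename γ (b 0) q
    have hint' : (extendOne γ (b 0) : MvPolynomial (Fin (n + 1)) R →+* B).IsIntegral := by
      apply RingHom.IsIntegral.tower_top
        ((MvPolynomial.rename Fin.succ : MvPolynomial (Fin n) R →ₐ[R] _) :
          MvPolynomial (Fin n) R →+* _)
      rw [hcomp]
      exact hint
    obtain ⟨N, β, h1, h2, h3⟩ := ih (n + 1) (extendOne γ (b 0)) hint' (fun j => b j.succ)
    refine ⟨N, β, fun x => ?_, fun j => ?_, fun K m => ?_⟩
    · rw [← extendOne_rename γ (b 0) x]
      exact h1 _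
    · refine Fin.cases ?_ (fun j' => ?_) j
      · rw [← extendOne_X_zero γ (b 0)]
        exact h1 _
      · exact h2 j'
    · exact (mpc_extendOne_iff γ (b 0) (hint (b 0)) m K).trans (h3 K m)

end Extend

section Finite

variable {R A B : Type u} [CommRing R] [CommRing A] [CommRing B]
  [Algebra R A] [Algebra A B] [Algebra R B] [IsScalarTower R A B]

/-- For a finite `A → B` and a presentation `α` of `A`, a presentation `β` of `B` such that
restrictions of objects of `D(B)` are `m`-pseudo-coherent over `β` iff they are over `α`. -/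
theorem exists_presentation_of_finite [Module.Finite A B] {n : ℕ}
    (α : MvPolynomial (Fin n) R →ₐ[R] A) (hα : Function.Surjective α) :
    ∃ (N : ℕ) (β : MvPolynomial (Fin N) R →ₐ[R] B), Function.Surjective β ∧
      ∀ (K : Dual.D B) (m : ℤ),
        (DerCA.IsRelPseudoCoherentVia α m ((DRing.restrictD (algebraMap A B)).obj K) ↔
          DerCA.IsRelPseudoCoherentVia β m K) := by
  let γ : MvPolynomial (Fin n) R →ₐ[R] B := (IsScalarTower.toAlgHom R A B).comp α
  have hγ : (γ : MvPolynomial (Fin n) R →+* B) =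
      (algebraMap A B).comp (α : MvPolynomial (Fin n) R →+* A) := rfl
  have hint : (γ : MvPolynomial (Fin n) R →+* B).IsIntegral := by
    rw [hγ]
    exact RingHom.IsIntegral.trans _ _ (RingHom.isIntegral_of_surjective _ hα)
      (RingHom.IsIntegral.of_finite (RingHom.finite_algebraMap.mpr inferInstance))
  obtain ⟨k, b, hb⟩ := Module.Finite.exists_fin (R := A) (M := B)
  obtain ⟨N, β, h1, h2, h3⟩ := exists_extend k n γ hint b
  refine ⟨N, β, ?_, fun K m => ?_⟩
  · intro x
    have hx : x ∈ Submodule.span A (Set.range b) := by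
      rw [hb]
      exact Submodule.mem_top
    refine Submodule.span_induction ?_ ?_ ?_ ?_ hx
    · rintro _ ⟨j, rfl⟩
      exact h2 j
    · exact β.range.zero_mem
    · intro y z _ _ hy hz
      exact β.range.add_mem hy hz
    · intro a y _ hy
      obtain ⟨p, rfl⟩ := hα a
      rw [Algebra.smul_def]
      exact β.range.mul_mem (h1 p) hy
  · unfold DerCA.IsRelPseudoCoherentVia
    rw [← h3 K m, hγ]
    exact (mpc_restrict_comp (α : MvPolynomial (Fin n) R →+* A) (algebraMap A B) m K).symm

end Finite

end Groth.Agent.Helper11.MPC
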