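import Groth.Agent.Lib.Helper11.PcHom1
import Groth.Agent.S6984
import Mathlib.AlgebraicGeometry.Morphisms.RingHomProperties
import Mathlib.AlgebraicGeometry.Morphisms.Finite

/-!
Pseudo-coherent morphisms of schemes: locality, composition, cancellation, finite morphisms
(helper11).
-/

set_option autoImplicit false

open CategoryTheory Category Limits DerivedCategory AlgebraicGeometry

attribute [local instance] HasDerivedCategory.standard

universe u

namespace Groth.Agent.Helper11.PcHom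

open Groth.Agent.Helper11.DC Groth.Agent.Helper11.MPC Groth.Agent.Helper11.TA

section Ring

variable {A B : Type u} [CommRing A] [CommRing B]

theorem rel_iff_mpc_of_hom [Algebra A B] (h : MoreMor.IsPseudoCoherentHom A B) (m : ℤ)
    (K : Dual.D B) : DerCA.IsRelPseudoCoherent A B m K ↔ DRing.IsPseudoCoherent B m K := by
  obtain ⟨n, φ, hφ, hB⟩ := h
  have hB' : BaseIsPc (φ : MvPolynomial (Fin n) A →+* B) := hB
  exact (rel_iff_via φ hφ m K).trans (mpc_restrict_iff hB' m K).symm

theorem hom_iff_module_of_finite [Algebra A B] [Module.Finite A B] :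
    MoreMor.IsPseudoCoherentHom A B ↔ DRing.IsPseudoCoherentModule' A B := by
  haveI : Algebra.FiniteType A B := inferInstance
  have hAA : MoreMor.IsPseudoCoherentHom A A := hom_of_bijective Function.bijective_id
  have key : ∀ m : ℤ, DerCA.IsRelPseudoCoherent A B m (Dual.inD B B) ↔
      DRing.IsPseudoCoherent A m (Dual.inD A B) := by
    intro m
    rw [(Groth.Agent.S6984.result (R := A) (A := A) (B := B) (Dual.inD B B) m).1,
      rel_iff_mpc_of_hom hAA, mpc_restrict_single_iff]
    exact ⟨mpc_of_iso ((singleFunctor (ModuleCat.{u} A) 0).mapIso algRestrictIso.symm),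
      mpc_of_iso ((singleFunctor (ModuleCat.{u} A) 0).mapIso algRestrictIso)⟩
  rw [hom_iff_rel]
  constructor
  · intro h
    exact pc'_of_forall_mpc (fun m => (key m).mp (h m))
  · intro h m
    exact (key m).mpr (mpc_of_pc' h m)

end Ring

/-- the morphism property -/
def P : MorphismProperty Scheme.{u} := affineLocally (@Q)

instance : HasRingHomProperty P (@Q) := ⟨Q_isLocal, rfl⟩

theorem pcMor_iff {X Y : Scheme.{u}} (f : X ⟶ Y) : MoreMor.IsPseudoCoherentMor f ↔ P f := by
  show _ ↔ affineLocally (@Q) f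
  rw [affineLocally_iff_forall_isAffineOpen]
  exact ⟨fun h U hU V hV e => h V U hV hU e, fun h U V hU hV e => h hV hU e⟩

theorem Q_sourceStable : RingHom.StableUnderCompositionWithLocalizationAwaySource @Q :=
  (Q_stableUnderComposition.stableUnderCompositionWithLocalizationAway
    Q_holdsForLocalizationAway).left

theorem pcMor_iff_exists {X S : Scheme.{u}} (f : X ⟶ S) :
    MoreMor.IsPseudoCoherentMor f ↔ ∀ x : X, ∃ (U : X.Opens) (V : S.Opens) (hUV : U ≤ f ⁻¹ᵁ V),
      IsAffineOpen U ∧ IsAffineOpen V ∧ x ∈ U ∧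
      (letI := (f.appLE V U hUV).hom.toAlgebra
       MoreMor.IsPseudoCoherentHom Γ(S, V) Γ(X, U)) := by
  rw [pcMor_iff, HasRingHomProperty.iff_exists_appLE (P := P) Q_sourceStable]
  constructor
  · intro h x
    obtain ⟨U, V, hx, e, hQ⟩ := h x
    exact ⟨V.1, U.1, e, V.2, U.2, hx, hQ⟩
  · intro h x
    obtain ⟨U, V, hUV, hU, hV, hx, hQ⟩ := h x
    exact ⟨⟨V, hV⟩, ⟨U, hU⟩, hx, hUV, hQ⟩

theorem pcMor_comp {X Y Z : Scheme.{u}} (f : X ⟶ Y) (g : Y ⟶ Z)
    (hf : MoreMor.IsPseudoCoherentMor f) (hg : MoreMor.IsPseudoCoherentMor g) :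
    MoreMor.IsPseudoCoherentMor (f ≫ g) := by
  rw [pcMor_iff] at hf hg ⊢
  exact (HasRingHomProperty.stableUnderComposition (P := P)
    Q_stableUnderComposition).comp_mem f g hf hg

theorem P_of_comp {X Y Z : Scheme.{u}} {f : X ⟶ Y} {g : Y ⟶ Z} (h : P (f ≫ g)) (hg : P g) :
    P f := by
  wlog hZ : IsAffine Z generalizing X Y Z
  · rw [IsZariskiLocalAtTarget.iff_of_iSup_eq_top (P := P) _
      (g.iSup_preimage_eq_top (iSup_affineOpens_eq_top Z))]
    intro U
    have H := IsZariskiLocalAtTarget.restrict h U.1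
    rw [morphismRestrict_comp] at H
    exact this H (IsZariskiLocalAtTarget.restrict hg U.1) inferInstance
  wlog hY : IsAffine Y generalizing X Y
  · rw [IsZariskiLocalAtTarget.iff_of_iSup_eq_top (P := P) _ (iSup_affineOpens_eq_top Y)]
    intro U
    have H := HasRingHomProperty.comp_of_isOpenImmersion P (f ⁻¹ᵁ U.1).ι (f ≫ g) h
    rw [← morphismRestrict_ι_assoc] at H
    exact this H (HasRingHomProperty.comp_of_isOpenImmersion P U.1.ι g hg) inferInstance
  wlog hX : IsAffine X generalizing X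
  · rw [IsZariskiLocalAtSource.iff_of_iSup_eq_top (P := P) _ (iSup_affineOpens_eq_top X)]
    intro U
    have H := HasRingHomProperty.comp_of_isOpenImmersion P U.1.ι (f ≫ g) h
    rw [← Category.assoc] at H
    exact this H inferInstance
  rw [HasRingHomProperty.iff_of_isAffine (P := P)] at h hg ⊢
  rw [Scheme.Hom.comp_appTop] at h
  exact Q_cancel _ _ hg h

theorem pcMor_of_comp {X Y S : Scheme.{u}} (f : X ⟶ Y) (g : Y ⟶ S)
    (hX : MoreMor.IsPseudoCoherentMor (f ≫ g)) (hY : MoreMor.IsPseudoCoherentMor g) :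
    MoreMor.IsPseudoCoherentMor f := by
  rw [pcMor_iff] at hX hY ⊢
  exact P_of_comp hX hY

theorem pcMor_iff_of_finite {X S : Scheme.{u}} (f : X ⟶ S) [IsFinite f] :
    MoreMor.IsPseudoCoherentMor f ↔ ∀ (V : S.Opens), IsAffineOpen V →
      (letI := (f.app V).hom.toAlgebra
       DRing.IsPseudoCoherentModule' Γ(S, V) Γ(X, f ⁻¹ᵁ V)) := by
  have key : ∀ (V : S.Opens), IsAffineOpen V →
      (Q (f.appLE V (f ⁻¹ᵁ V) le_rfl).hom ↔
        (letI := (f.app V).hom.toAlgebra
         DRing.IsPseudoCoherentModule' Γ(S, V) Γ(X, f ⁻¹ᵁ V))) := by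
    intro V hV
    rw [Scheme.Hom.appLE_eq_app]
    letI := (f.app V).hom.toAlgebra
    haveI : Module.Finite Γ(S, V) Γ(X, f ⁻¹ᵁ V) := IsFinite.finite_app f V hV
    exact hom_iff_module_of_finite
  constructor
  · intro h V hV
    exact (key V hV).mp (h (f ⁻¹ᵁ V) V (hV.preimage f) hV le_rfl)
  · intro h
    rw [pcMor_iff_exists]
    intro x
    obtain ⟨V, hV, hfx, -⟩ := TopologicalSpace.Opens.isBasis_iff_nbhd.mp S.isBasis_affineOpens
      (TopologicalSpace.Opens.mem_top <| f x)
    exact ⟨f ⁻¹ᵁ V, V, le_rfl, hV.preimage f, hV, hfx, (key V hV).mpr (h V hV)⟩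

end Groth.Agent.Helper11.PcHom
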