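import Mathlib.Algebra.Homology.Additive
import Mathlib.Algebra.Homology.HomologicalComplex

/-!
# Transport of complexes of split idempotents along an additive functor
-/

namespace Groth.Agent.Helper11.PerfDesc

open CategoryTheory CategoryTheory.Limits

universe v₁ v₂ u₁ u₂

variable {𝒞 : Type u₁} [Category.{v₁} 𝒞] [Preadditive 𝒞] {𝒟 : Type u₂} [Category.{v₂} 𝒟]
  [Preadditive 𝒟] (G : 𝒞 ⥤ 𝒟) [G.Additive]

theorem nonempty_iso_of_split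
    (K : CochainComplex 𝒞 ℤ) (K' : CochainComplex 𝒟 ℤ)
    (V : ℤ → 𝒞) (V' : ℤ → 𝒟)
    (ι : ∀ i, K.X i ⟶ V i) (π : ∀ i, V i ⟶ K.X i) (D : ∀ i, V i ⟶ V (i + 1))
    (ι' : ∀ i, K'.X i ⟶ V' i) (π' : ∀ i, V' i ⟶ K'.X i) (D' : ∀ i, V' i ⟶ V' (i + 1))
    (hιπ : ∀ i, ι i ≫ π i = 𝟙 _) (hιπ' : ∀ i, ι' i ≫ π' i = 𝟙 _)
    (hd : ∀ i, K.d i (i + 1) = ι i ≫ D i ≫ π (i + 1))
    (hd' : ∀ i, K'.d i (i + 1) = ι' i ≫ D' i ≫ π' (i + 1))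
    (hH : ∀ i, ι i ≫ D i ≫ π (i + 1) ≫ ι (i + 1) = ι i ≫ D i)
    (θ : ∀ i, G.obj (V i) ≅ V' i)
    (hq : ∀ i, G.map (π i ≫ ι i) ≫ (θ i).hom = (θ i).hom ≫ π' i ≫ ι' i)
    (hD : ∀ i, G.map (D i) ≫ (θ (i + 1)).hom = (θ i).hom ≫ D' i) :
    Nonempty ((G.mapHomologicalComplex (ComplexShape.up ℤ)).obj K ≅ K') := by
  have key1 : ∀ i, (θ i).hom ≫ π' i ≫ ι' i ≫ (θ i).inv = G.map (π i ≫ ι i) := fun i => by
    have h := congrArg (· ≫ (θ i).inv) (hq i)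
    simp only [Category.assoc, Iso.hom_inv_id, Category.comp_id] at h
    exact h.symm
  have key2 : ∀ i, (θ i).inv ≫ G.map (π i ≫ ι i) ≫ (θ i).hom = π' i ≫ ι' i := fun i => by
    rw [hq i, Iso.inv_hom_id_assoc]
  have e1 : ∀ i, ι i ≫ (π i ≫ ι i) ≫ π i = 𝟙 _ := fun i => by
    rw [Category.assoc, reassoc_of% (hιπ i), hιπ i]
  have e1' : ∀ i, ι' i ≫ (π' i ≫ ι' i) ≫ π' i = 𝟙 _ := fun i => by
    rw [Category.assoc, reassoc_of% (hιπ' i), hιπ' i]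
  have e2 : ∀ i, ι i ≫ π i ≫ ι i = ι i := fun i => by
    rw [reassoc_of% (hιπ i)]
  have hΦ1 : ∀ i, (G.map (ι i) ≫ (θ i).hom ≫ π' i) ≫ ι' i ≫ (θ i).inv ≫ G.map (π i) =
      𝟙 (G.obj (K.X i)) := fun i => by
    have h : (G.map (ι i) ≫ (θ i).hom ≫ π' i) ≫ ι' i ≫ (θ i).inv ≫ G.map (π i) =
        G.map (ι i) ≫ ((θ i).hom ≫ π' i ≫ ι' i ≫ (θ i).inv) ≫ G.map (π i) := by
      simp only [Category.assoc]
    rw [h, key1, ← G.map_comp, ← G.map_comp, e1, G.map_id]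
  have hΦ2 : ∀ i, (ι' i ≫ (θ i).inv ≫ G.map (π i)) ≫ G.map (ι i) ≫ (θ i).hom ≫ π' i =
      𝟙 (K'.X i) := fun i => by
    have h : (ι' i ≫ (θ i).inv ≫ G.map (π i)) ≫ G.map (ι i) ≫ (θ i).hom ≫ π' i =
        ι' i ≫ ((θ i).inv ≫ G.map (π i ≫ ι i) ≫ (θ i).hom) ≫ π' i := by
      simp only [Category.assoc, G.map_comp]
    rw [h, key2, e1']
  let Φ : ∀ i, G.obj (K.X i) ≅ K'.X i := fun i =>
    { hom := G.map (ι i) ≫ (θ i).hom ≫ π' i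
      inv := ι' i ≫ (θ i).inv ≫ G.map (π i)
      hom_inv_id := hΦ1 i
      inv_hom_id := hΦ2 i }
  refine ⟨HomologicalComplex.Hom.isoOfComponents (fun i => Φ i) ?_⟩
  · intro i j hij
    have hij' : i + 1 = j := hij
    subst hij'
    show (G.map (ι i) ≫ (θ i).hom ≫ π' i) ≫ K'.d i (i + 1) =
      G.map (K.d i (i + 1)) ≫ G.map (ι (i + 1)) ≫ (θ (i + 1)).hom ≫ π' (i + 1)
    have hL : (G.map (ι i) ≫ (θ i).hom ≫ π' i) ≫ K'.d i (i + 1) =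
        G.map (ι i) ≫ (θ i).hom ≫ D' i ≫ π' (i + 1) := by
      rw [hd']
      have h : (G.map (ι i) ≫ (θ i).hom ≫ π' i) ≫ ι' i ≫ D' i ≫ π' (i + 1) =
          G.map (ι i) ≫ ((θ i).hom ≫ π' i ≫ ι' i) ≫ D' i ≫ π' (i + 1) := by
        simp only [Category.assoc]
      rw [h, ← hq i]
      have h2 : G.map (ι i) ≫ (G.map (π i ≫ ι i) ≫ (θ i).hom) ≫ D' i ≫ π' (i + 1) =
          G.map (ι i ≫ π i ≫ ι i) ≫ (θ i).hom ≫ D' i ≫ π' (i + 1) := by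
        simp only [Category.assoc, G.map_comp]
      rw [h2, e2]
    have hR : G.map (K.d i (i + 1)) ≫ G.map (ι (i + 1)) ≫ (θ (i + 1)).hom ≫ π' (i + 1) =
        G.map (ι i) ≫ (θ i).hom ≫ D' i ≫ π' (i + 1) := by
      rw [hd]
      have h : G.map (ι i ≫ D i ≫ π (i + 1)) ≫ G.map (ι (i + 1)) ≫ (θ (i + 1)).hom ≫
          π' (i + 1) = G.map (ι i ≫ D i ≫ π (i + 1) ≫ ι (i + 1)) ≫ (θ (i + 1)).hom ≫
          π' (i + 1) := by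
        simp only [Category.assoc, G.map_comp]
      rw [h, hH, G.map_comp, Category.assoc, reassoc_of% (hD i)]
    rw [hL, hR]

end Groth.Agent.Helper11.PerfDesc
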