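import Mathlib.LinearAlgebra.Matrix.ToLin
import Mathlib.Algebra.Category.ModuleCat.Basic
import Mathlib.Algebra.Homology.HomologicalComplex
import Mathlib.Algebra.Module.Projective
import Mathlib.RingTheory.Finiteness.Basic
import Mathlib.Algebra.Category.ModuleCat.Limits

/-!
# The complex of finite projective modules attached to idempotent matrices
-/

namespace Groth.Agent.Helper11.PerfDesc

open CategoryTheory CategoryTheory.Limits Matrix

universe u

section Data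

variable {S : Type u} [CommRing S] (n : ℤ → ℕ)
  (Q : ∀ i, Matrix (Fin (n i)) (Fin (n i)) S) (D : ∀ i, Matrix (Fin (n (i + 1))) (Fin (n i)) S)

/-- The equations satisfied by the matrices. -/
structure IsData : Prop where
  idem : ∀ i, Q i * Q i = Q i
  comm : ∀ i, Q (i + 1) * D i * Q i = D i * Q i
  sq : ∀ i, D (i + 1) * D i * Q i = 0

variable (S) in
/-- The free modules. -/
abbrev Vm (i : ℤ) : ModuleCat.{u} S := ModuleCat.of S (Fin (n i) → S)

/-- The ranges of the idempotents. -/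
abbrev Xm (i : ℤ) : ModuleCat.{u} S :=
  ModuleCat.of S (LinearMap.range (Matrix.mulVecLin (Q i)))

/-- The inclusion. -/
noncomputable def ιm (i : ℤ) : Xm n Q i ⟶ Vm S n i := ModuleCat.ofHom (Submodule.subtype _)

/-- The projection. -/
noncomputable def πm (i : ℤ) : Vm S n i ⟶ Xm n Q i :=
  ModuleCat.ofHom (Matrix.mulVecLin (Q i)).rangeRestrict

/-- The map given by `D`. -/
noncomputable def Dm (i : ℤ) : Vm S n i ⟶ Vm S n (i + 1) :=
  ModuleCat.ofHom (Matrix.mulVecLin (D i))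

theorem πm_ιm (i : ℤ) : πm n Q i ≫ ιm n Q i = ModuleCat.ofHom (Matrix.mulVecLin (Q i)) := by
  ext v
  rfl

variable {n Q D}

theorem ιm_πm (h : IsData n Q D) (i : ℤ) : ιm n Q i ≫ πm n Q i = 𝟙 _ := by
  apply ModuleCat.hom_ext
  apply LinearMap.ext
  rintro ⟨v, hv⟩
  obtain ⟨w, rfl⟩ := hv
  apply Subtype.ext
  show Q i *ᵥ (Q i *ᵥ w) = Q i *ᵥ w
  rw [Matrix.mulVec_mulVec, h.idem]

theorem hH (h : IsData n Q D) (i : ℤ) :
    ιm n Q i ≫ Dm n D i ≫ πm n Q (i + 1) ≫ ιm n Q (i + 1) = ιm n Q i ≫ Dm n D i := by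
  apply ModuleCat.hom_ext
  apply LinearMap.ext
  rintro ⟨v, hv⟩
  obtain ⟨w, rfl⟩ := hv
  show Q (i + 1) *ᵥ (D i *ᵥ (Q i *ᵥ w)) = D i *ᵥ (Q i *ᵥ w)
  rw [Matrix.mulVec_mulVec, Matrix.mulVec_mulVec, Matrix.mulVec_mulVec, h.comm]

/-- The differential. -/
noncomputable def dm (i : ℤ) : Xm n Q i ⟶ Xm n Q (i + 1) :=
  ιm n Q i ≫ Dm n D i ≫ πm n Q (i + 1)

theorem dm_dm (h : IsData n Q D) (i : ℤ) :
    dm (n := n) (Q := Q) (D := D) i ≫ dm (n := n) (Q := Q) (D := D) (i + 1) = 0 := by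
  apply ModuleCat.hom_ext
  apply LinearMap.ext
  rintro ⟨v, hv⟩
  obtain ⟨w, rfl⟩ := hv
  apply Subtype.ext
  show Q (i + 1 + 1) *ᵥ (D (i + 1) *ᵥ (Q (i + 1) *ᵥ (D i *ᵥ (Q i *ᵥ w)))) = 0
  have h1 : Q (i + 1) *ᵥ (D i *ᵥ (Q i *ᵥ w)) = D i *ᵥ (Q i *ᵥ w) := by
    rw [Matrix.mulVec_mulVec, Matrix.mulVec_mulVec, Matrix.mulVec_mulVec, h.comm]
  have h2 : D (i + 1) *ᵥ (D i *ᵥ (Q i *ᵥ w)) = 0 := by
    rw [Matrix.mulVec_mulVec, Matrix.mulVec_mulVec, h.sq, Matrix.zero_mulVec]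
  rw [h1, h2, Matrix.mulVec_zero]

/-- The complex. -/
noncomputable def mcx (h : IsData n Q D) : CochainComplex (ModuleCat.{u} S) ℤ :=
  CochainComplex.of (Xm n Q) (fun i => dm (n := n) (Q := Q) (D := D) i) (dm_dm h)

theorem mcx_d (h : IsData n Q D) (i : ℤ) :
    (mcx h).d i (i + 1) = dm (n := n) (Q := Q) (D := D) i :=
  CochainComplex.of_d _ _ i

theorem mcx_finite (h : IsData n Q D) (i : ℤ) : Module.Finite S ((mcx h).X i) :=
  inferInstanceAs (Module.Finite S (LinearMap.range (Matrix.mulVecLin (Q i))))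

theorem mcx_projective (h : IsData n Q D) (i : ℤ) : Module.Projective S ((mcx h).X i) := by
  refine Module.Projective.of_split (ιm n Q i).hom (πm n Q i).hom ?_
  have := ιm_πm h i
  ext x
  exact congrArg (fun f => (f.hom x : (mcx h).X i)) this

theorem mcx_isZero (h : IsData n Q D) (i : ℤ) (hi : n i = 0) : IsZero ((mcx h).X i) := by
  haveI : IsEmpty (Fin (n i)) := by rw [hi]; infer_instance
  have hs : Subsingleton (LinearMap.range (Matrix.mulVecLin (Q i))) :=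
    ⟨fun a b => Subtype.ext (Subsingleton.elim _ _)⟩
  haveI : Subsingleton ((mcx h).X i) := hs
  exact ModuleCat.isZero_of_subsingleton _

end Data

end Groth.Agent.Helper11.PerfDesc
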