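import Groth.Agent.Lib.Helper11.PerfDesc1
import Groth.Agent.Lib.Helper11.PerfDesc2
import Mathlib.Algebra.Category.ModuleCat.ChangeOfRings
import Mathlib.LinearAlgebra.TensorProduct.Pi

/-!
# Extension of scalars of the matrix complex
-/

namespace Groth.Agent.Helper11.PerfDesc

open CategoryTheory CategoryTheory.Limits Matrix TensorProduct ChangeOfRings

universe u

section Theta

variable {S S' : Type u} [CommRing S] [CommRing S'] (ψ : S →+* S')

/-- Coordinatewise `ψ`. -/
noncomputable def compLin (m : ℕ) : (Fin m → S) →ₗ[S]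
    ((ModuleCat.restrictScalars.{u} ψ).obj (ModuleCat.of S' (Fin m → S'))) where
  toFun v := (fun k => ψ (v k) : Fin m → S')
  map_add' v w := by
    show (fun k => ψ ((v + w) k)) = (fun k => ψ (v k)) + (fun k => ψ (w k))
    ext k
    simp
  map_smul' r v := by
    show (fun k => ψ ((r • v) k)) = ψ r • (fun k => ψ (v k) : Fin m → S')
    ext k
    simp

/-- The comparison map. -/
noncomputable def θhom (m : ℕ) :
    (ModuleCat.extendScalars.{u,u,u} ψ).obj (ModuleCat.of S (Fin m → S)) ⟶
      ModuleCat.of S' (Fin m → S') :=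
  ModuleCat.ExtendRestrictScalarsAdj.HomEquiv.fromExtendScalars ψ
    (ModuleCat.ofHom (Y := (ModuleCat.restrictScalars.{u} ψ).obj (ModuleCat.of S' (Fin m → S')))
      (compLin ψ m))

theorem θhom_tmul (m : ℕ) (s : S') (v : Fin m → S) :
    (θhom ψ m).hom (s ⊗ₜ[S,ψ] v) = s • (fun k => ψ (v k) : Fin m → S') := rfl

set_option backward.isDefEq.respectTransparency false in
theorem θhom_bijective (m : ℕ) : Function.Bijective (θhom ψ m).hom := by
  letI : Algebra S S' := ψ.toAlgebra
  let e₁ : ((ModuleCat.restrictScalars.{u} ψ).obj (ModuleCat.of S' S')) ≃ₗ[S] S' :=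
    { toFun := fun x => x
      invFun := fun x => x
      map_add' := fun _ _ => rfl
      map_smul' := fun r x => rfl
      left_inv := fun _ => rfl
      right_inv := fun _ => rfl }
  let eT : TensorProduct S ((ModuleCat.restrictScalars.{u} ψ).obj (ModuleCat.of S' S'))
      (Fin m → S) ≃ₗ[S] S' ⊗[S] (Fin m → S) := TensorProduct.congr e₁ (LinearEquiv.refl S _)
  let e2 := TensorProduct.piScalarRight S S' S' (Fin m)
  have hfun : ∀ z, (θhom ψ m).hom z = e2 (eT z) := by
    intro z
    induction z using TensorProduct.induction_on with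
    | zero => rw [map_zero, map_zero, map_zero]
    | tmul s v =>
      have h1 : eT (s ⊗ₜ v) = (e₁ s) ⊗ₜ v := rfl
      rw [h1]
      show (e₁ s) • (fun k => ψ (v k) : Fin m → S') = e2 ((e₁ s) ⊗ₜ v)
      rw [TensorProduct.piScalarRight_apply, TensorProduct.piScalarRightHom_tmul]
      ext k
      show (e₁ s) * ψ (v k) = v k • (e₁ s)
      rw [Algebra.smul_def, mul_comm]
      rfl
    | add x y hx hy => rw [map_add, map_add, map_add, hx, hy]
  have h2 : ((θhom ψ m).hom : _ → _) = fun z => e2 (eT z) := funext hfun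
  rw [h2]
  exact e2.bijective.comp eT.bijective

/-- The comparison isomorphism. -/
noncomputable def θ (m : ℕ) :
    (ModuleCat.extendScalars.{u,u,u} ψ).obj (ModuleCat.of S (Fin m → S)) ≅
      ModuleCat.of S' (Fin m → S') :=
  haveI : IsIso (θhom ψ m) := (ConcreteCategory.isIso_iff_bijective _).2 (θhom_bijective ψ m)
  asIso (θhom ψ m)

theorem θ_hom (m : ℕ) : (θ ψ m).hom = θhom ψ m := rfl

theorem θ_compat {m m' : ℕ} (M : Matrix (Fin m') (Fin m) S) :
    (ModuleCat.extendScalars.{u,u,u} ψ).map (ModuleCat.ofHom (Matrix.mulVecLin M)) ≫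
      (θ ψ m').hom = (θ ψ m).hom ≫ ModuleCat.ofHom (Matrix.mulVecLin (M.map ψ)) := by
  apply ModuleCat.ExtendScalars.hom_ext
  intro v
  show (θhom ψ m').hom ((1 : S') ⊗ₜ[S,ψ] (M *ᵥ v)) =
    (M.map ψ) *ᵥ ((θhom ψ m).hom ((1 : S') ⊗ₜ[S,ψ] v))
  rw [θhom_tmul, θhom_tmul, one_smul, one_smul]
  ext k
  exact RingHom.map_mulVec ψ M v k

end Theta

end Groth.Agent.Helper11.PerfDesc
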