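import Groth.Agent.Lib.Helper11.PerfDesc3
import Groth.Prelude.Def_DDual2

/-!
# Extension of scalars of the matrix complex is the given complex
-/

namespace Groth.Agent.Helper11.PerfDesc

open CategoryTheory CategoryTheory.Limits Matrix

universe u

variable {S S' : Type u} [CommRing S] [CommRing S'] (ψ : S →+* S')

theorem nonempty_ext_iso {n : ℤ → ℕ} {Q : ∀ i, Matrix (Fin (n i)) (Fin (n i)) S}
    {D : ∀ i, Matrix (Fin (n (i + 1))) (Fin (n i)) S} (h : IsData n Q D)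
    (E : CochainComplex (ModuleCat.{u} S') ℤ)
    (ι' : ∀ i, E.X i ⟶ Vm S' n i) (π' : ∀ i, Vm S' n i ⟶ E.X i)
    (hιπ' : ∀ i, ι' i ≫ π' i = 𝟙 _)
    (hQ : ∀ i, π' i ≫ ι' i = ModuleCat.ofHom (Matrix.mulVecLin ((Q i).map ψ)))
    (hD : ∀ i, E.d i (i + 1) =
      ι' i ≫ ModuleCat.ofHom (Matrix.mulVecLin ((D i).map ψ)) ≫ π' (i + 1)) :
    Nonempty (((ModuleCat.extendScalars.{u,u,u} ψ).mapHomologicalComplex
      (ComplexShape.up ℤ)).obj (mcx h) ≅ E) := by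
  refine nonempty_iso_of_split (ModuleCat.extendScalars.{u,u,u} ψ) (mcx h) E (Vm S n) (Vm S' n)
    (ιm n Q) (πm n Q) (Dm n D) ι' π'
    (fun i => ModuleCat.ofHom (Matrix.mulVecLin ((D i).map ψ)))
    (ιm_πm h) hιπ' (mcx_d h) hD (hH h) (fun i => θ ψ (n i)) ?_ ?_
  · intro i
    have h1 := θ_compat ψ (Q i)
    rw [← πm_ιm n Q i, ← hQ i] at h1
    exact h1
  · intro i
    exact θ_compat ψ (D i)

end Groth.Agent.Helper11.PerfDesc
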