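import Mathlib.Algebra.Category.Ring.FilteredColimits
import Mathlib.CategoryTheory.Limits.Types.Filtered
import Mathlib.CategoryTheory.Filtered.Basic
import Mathlib.LinearAlgebra.Matrix.ToLin
import Mathlib.Data.Fintype.Option

/-!
# Descending finitely many elements and equations along a filtered colimit of rings
-/

namespace Groth.Agent.Helper11.PerfDesc

open CategoryTheory CategoryTheory.Limits

universe u w

section Descent

variable {J : Type u} [SmallCategory J] (F : J ⥤ CommRingCat.{u}) (c : Cocone F)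

/-- The structure maps to the colimit. -/
abbrev ph (j : J) : F.obj j →+* c.pt := (c.ι.app j).hom

/-- The transition maps. -/
abbrev rh {j j' : J} (f : j ⟶ j') : F.obj j →+* F.obj j' := (F.map f).hom

theorem ph_rh {j j' : J} (f : j ⟶ j') (x : F.obj j) : ph F c j' (rh F f x) = ph F c j x := by
  have := c.w f
  exact congrArg (fun g : F.obj j ⟶ c.pt => g.hom x) this

theorem ph_comp_rh {j j' : J} (f : j ⟶ j') : (ph F c j').comp (rh F f) = ph F c j :=
  RingHom.ext (ph_rh F c f)

theorem rh_comp {j j' j'' : J} (f : j ⟶ j') (g : j' ⟶ j'') (x : F.obj j) :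
    rh F (f ≫ g) x = rh F g (rh F f x) := by
  have := F.map_comp f g
  exact congrArg (fun g : F.obj j ⟶ F.obj j'' => g.hom x) this

theorem rh_comp' {j j' j'' : J} (f : j ⟶ j') (g : j' ⟶ j'') :
    rh F (f ≫ g) = (rh F g).comp (rh F f) :=
  RingHom.ext (rh_comp F f g)

theorem rh_id (j : J) (x : F.obj j) : rh F (𝟙 j) x = x := by
  have := F.map_id j
  exact congrArg (fun g : F.obj j ⟶ F.obj j => g.hom x) this

variable [IsFiltered J] {F c} (hc : IsColimit c)

include hc in
theorem exists_rep (r : c.pt) : ∃ (j : J) (x : F.obj j), ph F c j x = r := by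
  haveI : PreservesColimitsOfShape J (forget CommRingCat.{u}) :=
    PreservesFilteredColimitsOfSize.preserves_filtered_colimits J
  have hc' := isColimitOfPreserves (forget CommRingCat.{u}) hc
  exact Types.jointly_surjective _ hc' r

include hc in
theorem exists_eq {j : J} (x y : F.obj j) (h : ph F c j x = ph F c j y) :
    ∃ (j' : J) (f : j ⟶ j'), rh F f x = rh F f y := by
  haveI : PreservesColimitsOfShape J (forget CommRingCat.{u}) :=
    PreservesFilteredColimitsOfSize.preserves_filtered_colimits J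
  have hc' := isColimitOfPreserves (forget CommRingCat.{u}) hc
  exact (Types.FilteredColimit.isColimit_eq_iff' hc' x y).1 h

include hc in
theorem exists_lift_family {κ : Type w} [Finite κ] (x : κ → c.pt) :
    ∃ (j : J) (y : κ → F.obj j), ∀ k, ph F c j (y k) = x k := by
  classical
  haveI := Fintype.ofFinite κ
  choose j0 z hz using fun k => exists_rep hc (x k)
  obtain ⟨j, hj⟩ := IsFiltered.sup_objs_exists (Finset.univ.image j0)
  have hmor : ∀ k, Nonempty (j0 k ⟶ j) :=
    fun k => hj (Finset.mem_image_of_mem _ (Finset.mem_univ k))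
  refine ⟨j, fun k => rh F (hmor k).some (z k), fun k => ?_⟩
  rw [ph_rh, hz]

theorem exists_common {κ : Type w} [Finite κ] {j : J} (P : κ → ∀ j' : J, (j ⟶ j') → Prop)
    (hmono : ∀ k (j' : J) (f : j ⟶ j') (j'' : J) (g : j' ⟶ j''), P k j' f → P k j'' (f ≫ g))
    (h : ∀ k, ∃ (j' : J) (f : j ⟶ j'), P k j' f) :
    ∃ (j' : J) (f : j ⟶ j'), ∀ k, P k j' f := by
  revert P
  refine Finite.induction_empty_option (P := fun κ => ∀ P : κ → ∀ j' : J, (j ⟶ j') → Prop,
    (∀ k (j' : J) (f : j ⟶ j') (j'' : J) (g : j' ⟶ j''), P k j' f → P k j'' (f ≫ g)) →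
    (∀ k, ∃ (j' : J) (f : j ⟶ j'), P k j' f) → ∃ (j' : J) (f : j ⟶ j'), ∀ k, P k j' f)
    ?_ ?_ ?_ κ
  · intro α β e ih P hmono h
    obtain ⟨j', f, hf⟩ := ih (fun a => P (e a)) (fun a => hmono (e a)) (fun a => h (e a))
    refine ⟨j', f, fun b => ?_⟩
    have := hf (e.symm b)
    rwa [e.apply_symm_apply] at this
  · intro P _ _
    exact ⟨j, 𝟙 j, fun k => k.elim⟩
  · intro α _ ih P hmono h
    obtain ⟨j1, f1, h1⟩ := ih (fun a => P (some a)) (fun a => hmono (some a))
      (fun a => h (some a))
    obtain ⟨j2, f2, h2⟩ := h none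
    obtain ⟨k, g1, g2, hg⟩ := IsFiltered.span f1 f2
    refine ⟨k, f1 ≫ g1, fun o => ?_⟩
    cases o with
    | none =>
      rw [hg]
      exact hmono none j2 f2 k g2 h2
    | some a => exact hmono (some a) j1 f1 k g1 (h1 a)

include hc in
theorem exists_matrix_eq {m n : Type} [Finite m] [Finite n] {j : J}
    (M N : Matrix m n (F.obj j)) (h : M.map (ph F c j) = N.map (ph F c j)) :
    ∃ (j' : J) (f : j ⟶ j'), M.map (rh F f) = N.map (rh F f) := by
  obtain ⟨j', f, hf⟩ := exists_common (κ := m × n)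
    (fun kl j' f => rh F f (M kl.1 kl.2) = rh F f (N kl.1 kl.2))
    (fun kl j' f j'' g hP => by
      show rh F (f ≫ g) _ = rh F (f ≫ g) _
      rw [rh_comp, rh_comp, hP])
    (fun kl => exists_eq hc _ _ (by
      have := congrFun (congrFun h kl.1) kl.2
      exact this))
  refine ⟨j', f, ?_⟩
  ext k l
  exact hf (k, l)

end Descent

end Groth.Agent.Helper11.PerfDesc
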