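import Groth.Agent.Lib.Helper11.PerfDesc4
import Groth.Prelude.Def_DRing2
import Mathlib.RingTheory.Finiteness.Projective

/-!
# Matrix data of a bounded complex of finite projective modules
-/

namespace Groth.Agent.Helper11.PerfDesc

open CategoryTheory CategoryTheory.Limits Matrix

universe u

section RData

variable {R : Type u} [CommRing R]

theorem exists_retract (M : ModuleCat.{u} R) [Module.Finite R M] [Module.Projective R M] :
    ∃ (n : ℕ) (f : (Fin n → R) →ₗ[R] M) (g : M →ₗ[R] (Fin n → R)),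
      (∀ x, f (g x) = x) ∧ (IsZero M → n = 0) := by
  classical
  by_cases hM : IsZero M
  · haveI : Subsingleton M := ModuleCat.subsingleton_of_isZero hM
    exact ⟨0, 0, 0, fun x => Subsingleton.elim _ _, fun _ => rfl⟩
  · obtain ⟨n, f, g, -, -, hfg⟩ := Module.Finite.exists_comp_eq_id_of_projective R M
    exact ⟨n, f, g, fun x => LinearMap.congr_fun hfg x, fun h => absurd h hM⟩

variable (E : DRing.Cx R) (n : ℤ → ℕ) (f : ∀ i, (Fin (n i) → R) →ₗ[R] E.X i)
  (g : ∀ i, E.X i →ₗ[R] (Fin (n i) → R))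

/-- The idempotent matrices. -/
noncomputable def QR (i : ℤ) : Matrix (Fin (n i)) (Fin (n i)) R :=
  LinearMap.toMatrix' ((g i) ∘ₗ (f i))

/-- The differential matrices. -/
noncomputable def DR (i : ℤ) : Matrix (Fin (n (i + 1))) (Fin (n i)) R :=
  LinearMap.toMatrix' ((g (i + 1)) ∘ₗ (E.d i (i + 1)).hom ∘ₗ (f i))

variable {E n f g} (hfg : ∀ i x, f i (g i x) = x)

include hfg

theorem isData_R : IsData n (QR E n f g) (DR E n f g) where
  idem i := by
    unfold QR
    rw [← LinearMap.toMatrix'_comp]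
    congr 1
    apply LinearMap.ext
    intro x
    show g i (f i (g i (f i x))) = g i (f i x)
    rw [hfg]
  comm i := by
    unfold QR DR
    rw [← LinearMap.toMatrix'_comp, ← LinearMap.toMatrix'_comp, ← LinearMap.toMatrix'_comp]
    congr 1
    apply LinearMap.ext
    intro x
    show g (i + 1) (f (i + 1) (g (i + 1) ((E.d i (i + 1)).hom (f i (g i (f i x)))))) =
      g (i + 1) ((E.d i (i + 1)).hom (f i (g i (f i x))))
    rw [hfg, hfg]
  sq i := by
    unfold QR DR
    rw [← LinearMap.toMatrix'_comp, ← LinearMap.toMatrix'_comp]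
    rw [← map_zero (LinearMap.toMatrix' (R := R) (m := Fin (n (i + 1 + 1))) (n := Fin (n i)))]
    congr 1
    apply LinearMap.ext
    intro x
    show g (i + 1 + 1) ((E.d (i + 1) (i + 1 + 1)).hom (f (i + 1) (g (i + 1)
      ((E.d i (i + 1)).hom (f i (g i (f i x))))))) = 0
    rw [hfg, hfg]
    have h0 : (E.d i (i + 1) ≫ E.d (i + 1) (i + 1 + 1)) = 0 := E.d_comp_d _ _ _
    have h1 := congrArg (fun φ : E.X i ⟶ E.X (i + 1 + 1) => φ.hom (f i x)) h0
    have h2 : (E.d (i + 1) (i + 1 + 1)).hom ((E.d i (i + 1)).hom (f i x)) = 0 := h1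
    rw [h2, map_zero]

theorem ι_π_R (i : ℤ) :
    (ModuleCat.ofHom (g i) : E.X i ⟶ Vm R n i) ≫ (ModuleCat.ofHom (f i) : Vm R n i ⟶ E.X i) =
      𝟙 _ := by
  apply ModuleCat.hom_ext
  apply LinearMap.ext
  intro x
  exact hfg i x

omit hfg in
theorem π_ι_R (i : ℤ) :
    (ModuleCat.ofHom (f i) : Vm R n i ⟶ E.X i) ≫ (ModuleCat.ofHom (g i) : E.X i ⟶ Vm R n i) =
      ModuleCat.ofHom (Matrix.mulVecLin (QR E n f g i)) := by
  apply ModuleCat.hom_ext
  unfold QR
  rw [← Matrix.toLin'_apply', Matrix.toLin'_toMatrix']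
  rfl

theorem d_R (i : ℤ) : E.d i (i + 1) =
    (ModuleCat.ofHom (g i) : E.X i ⟶ Vm R n i) ≫
      ModuleCat.ofHom (Matrix.mulVecLin (DR E n f g i)) ≫
      (ModuleCat.ofHom (f (i + 1)) : Vm R n (i + 1) ⟶ E.X (i + 1)) := by
  apply ModuleCat.hom_ext
  unfold DR
  rw [← Matrix.toLin'_apply', Matrix.toLin'_toMatrix']
  apply LinearMap.ext
  intro x
  show (E.d i (i + 1)).hom x = f (i + 1) (g (i + 1) ((E.d i (i + 1)).hom (f i (g i x))))
  rw [hfg, hfg]

end RData

end Groth.Agent.Helper11.PerfDesc
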