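import Groth.Agent.Lib.Helper11.PerfDesc5
import Groth.Agent.Lib.Helper11.PerfDesc6
import Groth.Agent.Lib.Helper11.LDer3
import Groth.Agent.Lib.Helper11.DCCone2
import Mathlib.Data.Int.Interval

/-!
# Perfect complexes descend along filtered colimits of rings
-/

namespace Groth.Agent.Helper11.PerfDesc

open CategoryTheory CategoryTheory.Limits Matrix

attribute [local instance] HasDerivedCategory.standard

universe u

section Main

variable {J : Type u} [SmallCategory J] [IsFiltered J] {F : J ⥤ CommRingCat.{u}} {c : Cocone F}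
  (hc : IsColimit c)

theorem exists_and {j : J} {P₁ P₂ : ∀ j' : J, (j ⟶ j') → Prop}
    (m₁ : ∀ (j' : J) (f : j ⟶ j') (j'' : J) (g : j' ⟶ j''), P₁ j' f → P₁ j'' (f ≫ g))
    (m₂ : ∀ (j' : J) (f : j ⟶ j') (j'' : J) (g : j' ⟶ j''), P₂ j' f → P₂ j'' (f ≫ g))
    (h₁ : ∃ (j' : J) (f : j ⟶ j'), P₁ j' f) (h₂ : ∃ (j' : J) (f : j ⟶ j'), P₂ j' f) :
    ∃ (j' : J) (f : j ⟶ j'), P₁ j' f ∧ P₂ j' f := by
  obtain ⟨j1, f1, h1⟩ := h₁
  obtain ⟨j2, f2, h2⟩ := h₂
  obtain ⟨k, g1, g2, hg⟩ := IsFiltered.span f1 f2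
  refine ⟨k, f1 ≫ g1, m₁ _ _ _ _ h1, ?_⟩
  rw [hg]
  exact m₂ _ _ _ _ h2

omit [IsFiltered J] in
theorem mono_matrix_eq {κ : Type} {m n : κ → Type} {j : J}
    (A B : ∀ k, Matrix (m k) (n k) (F.obj j)) (j' : J) (f : j ⟶ j') (j'' : J) (g : j' ⟶ j'')
    (hP : ∀ k, (A k).map (rh F f) = (B k).map (rh F f)) :
    ∀ k, (A k).map (rh F (f ≫ g)) = (B k).map (rh F (f ≫ g)) := by
  intro k
  ext p q
  simp only [Matrix.map_apply]
  rw [rh_comp, rh_comp]
  exact congrArg (rh F g) (congrFun (congrFun (hP k) p) q)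

include hc in
theorem exists_matrix_eq_family {κ : Type} [Finite κ] {m n : κ → Type} [∀ k, Finite (m k)]
    [∀ k, Finite (n k)] {j : J} (A B : ∀ k, Matrix (m k) (n k) (F.obj j))
    (h : ∀ k, (A k).map (ph F c j) = (B k).map (ph F c j)) :
    ∃ (j' : J) (f : j ⟶ j'), ∀ k, (A k).map (rh F f) = (B k).map (rh F f) :=
  exists_common (fun k j' f => (A k).map (rh F f) = (B k).map (rh F f))
    (fun k j' f j'' g hP => mono_matrix_eq (κ := Unit) (fun _ => A k) (fun _ => B k) j' f j'' g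
      (fun _ => hP) ())
    (fun k => exists_matrix_eq hc (A k) (B k) (h k))

include hc in
theorem exists_descend (n : ℤ → ℕ) (a b : ℤ) (hn : ∀ i, i ∉ Finset.Icc a b → n i = 0)
    (Q : ∀ i, Matrix (Fin (n i)) (Fin (n i)) c.pt)
    (D : ∀ i, Matrix (Fin (n (i + 1))) (Fin (n i)) c.pt) (h : IsData n Q D) :
    ∃ (j : J) (Q' : ∀ i, Matrix (Fin (n i)) (Fin (n i)) (F.obj j))
      (D' : ∀ i, Matrix (Fin (n (i + 1))) (Fin (n i)) (F.obj j)),
      IsData n Q' D' ∧ (∀ i, (Q' i).map (ph F c j) = Q i) ∧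
        (∀ i, (D' i).map (ph F c j) = D i) := by
  classical
  let κ := Σ i : ↥(Finset.Icc a b),
    (Fin (n (i : ℤ)) × Fin (n (i : ℤ))) ⊕ (Fin (n ((i : ℤ) + 1)) × Fin (n (i : ℤ)))
  let x : κ → c.pt := fun p =>
    Sum.elim (fun q => Q (p.1 : ℤ) q.1 q.2) (fun q => D (p.1 : ℤ) q.1 q.2) p.2
  obtain ⟨j0, y, hy⟩ := exists_lift_family hc x
  let Q0 : ∀ i, Matrix (Fin (n i)) (Fin (n i)) (F.obj j0) := fun i =>
    if hi : i ∈ Finset.Icc a b then Matrix.of (fun k l => y ⟨⟨i, hi⟩, Sum.inl (k, l)⟩) else 0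
  let D0 : ∀ i, Matrix (Fin (n (i + 1))) (Fin (n i)) (F.obj j0) := fun i =>
    if hi : i ∈ Finset.Icc a b then Matrix.of (fun k l => y ⟨⟨i, hi⟩, Sum.inr (k, l)⟩) else 0
  have hempty : ∀ i, i ∉ Finset.Icc a b → IsEmpty (Fin (n i)) := fun i hi => by
    rw [hn i hi]; infer_instance
  have hQ0 : ∀ i, (Q0 i).map (ph F c j0) = Q i := by
    intro i
    by_cases hi : i ∈ Finset.Icc a b
    · ext k l
      simp only [Q0, dif_pos hi, Matrix.map_apply, Matrix.of_apply]
      exact hy ⟨⟨i, hi⟩, Sum.inl (k, l)⟩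
    · haveI := hempty i hi
      ext k l
      exact isEmptyElim l
  have hD0 : ∀ i, (D0 i).map (ph F c j0) = D i := by
    intro i
    by_cases hi : i ∈ Finset.Icc a b
    · ext k l
      simp only [D0, dif_pos hi, Matrix.map_apply, Matrix.of_apply]
      exact hy ⟨⟨i, hi⟩, Sum.inr (k, l)⟩
    · haveI := hempty i hi
      ext k l
      exact isEmptyElim l
  -- the three families of equations
  have e1 := exists_matrix_eq_family hc (κ := ↥(Finset.Icc a b))
    (m := fun i => Fin (n (i : ℤ))) (n := fun i => Fin (n (i : ℤ)))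
    (fun i => Q0 i * Q0 i) (fun i => Q0 i) (fun i => by
      rw [Matrix.map_mul, hQ0, h.idem])
  have e2 := exists_matrix_eq_family hc (κ := ↥(Finset.Icc a b))
    (m := fun i => Fin (n ((i : ℤ) + 1))) (n := fun i => Fin (n (i : ℤ)))
    (fun i => Q0 ((i : ℤ) + 1) * D0 i * Q0 i) (fun i => D0 i * Q0 i) (fun i => by
      rw [Matrix.map_mul, Matrix.map_mul, Matrix.map_mul, hQ0, hQ0, hD0, h.comm])
  have e3 := exists_matrix_eq_family hc (κ := ↥(Finset.Icc a b))
    (m := fun i => Fin (n ((i : ℤ) + 1 + 1))) (n := fun i => Fin (n (i : ℤ)))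
    (fun i => D0 ((i : ℤ) + 1) * D0 i * Q0 i) (fun i => 0) (fun i => by
      rw [Matrix.map_mul, Matrix.map_mul, hQ0, hD0, hD0, h.sq, Matrix.map_zero _ (map_zero _)])
  obtain ⟨j1, f, h1, h2, h3⟩ := exists_and (mono_matrix_eq _ _)
    (fun j' f j'' g hP => ⟨mono_matrix_eq _ _ j' f j'' g hP.1, mono_matrix_eq _ _ j' f j'' g hP.2⟩)
    e1 (exists_and (mono_matrix_eq _ _) (mono_matrix_eq _ _) e2 e3)
  refine ⟨j1, fun i => (Q0 i).map (rh F f), fun i => (D0 i).map (rh F f), ⟨?_, ?_, ?_⟩, ?_, ?_⟩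
  · intro i
    by_cases hi : i ∈ Finset.Icc a b
    · have := h1 ⟨i, hi⟩
      rw [Matrix.map_mul] at this
      exact this
    · haveI := hempty i hi
      ext k l
      exact isEmptyElim l
  · intro i
    by_cases hi : i ∈ Finset.Icc a b
    · have := h2 ⟨i, hi⟩
      rw [Matrix.map_mul, Matrix.map_mul, Matrix.map_mul] at this
      exact this
    · haveI := hempty i hi
      ext k l
      exact isEmptyElim l
  · intro i
    by_cases hi : i ∈ Finset.Icc a b
    · have := h3 ⟨i, hi⟩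
      rw [Matrix.map_mul, Matrix.map_mul, Matrix.map_zero _ (map_zero _)] at this
      exact this
    · haveI := hempty i hi
      ext k l
      exact isEmptyElim l
  · intro i
    ext k l
    simp only [Matrix.map_apply]
    rw [ph_rh]
    exact congrFun (congrFun (hQ0 i) k) l
  · intro i
    ext k l
    simp only [Matrix.map_apply]
    rw [ph_rh]
    exact congrFun (congrFun (hD0 i) k) l

end Main

theorem main {J : Type u} [SmallCategory J] [IsFiltered J]
    (F : J ⥤ CommRingCat.{u}) (c : Cocone F) (hc : IsColimit c)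
    [∀ j : J, DRing.HasLBaseChange (c.ι.app j).hom] (K : Dual.D c.pt)
    (hK : DRing.IsPerfect c.pt K) :
    ∃ (j : J) (Kj : Dual.D (F.obj j)), DRing.IsPerfect (F.obj j) Kj ∧
      Nonempty ((DRing.LBaseChange (c.ι.app j).hom).obj Kj ≅ K) := by
  obtain ⟨E, a, b, hEv, hEp, ⟨eK⟩⟩ := hK
  have hret : ∀ i, ∃ (n : ℕ) (f : (Fin n → c.pt) →ₗ[c.pt] E.X i)
      (g : E.X i →ₗ[c.pt] (Fin n → c.pt)), (∀ x, f (g x) = x) ∧ (IsZero (E.X i) → n = 0) :=
    fun i => by
      haveI := (hEp i).1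
      haveI := (hEp i).2
      exact exists_retract (E.X i)
  choose n f g hfg hn0 using hret
  have hn : ∀ i, i ∉ Finset.Icc a b → n i = 0 := fun i hi =>
    hn0 i (hEv i (by rw [Finset.mem_Icc] at hi; omega))
  obtain ⟨j, Q', D', hdata, hQ', hD'⟩ :=
    exists_descend hc n a b hn (QR E n f g) (DR E n f g) (isData_R hfg)
  obtain ⟨e⟩ := nonempty_ext_iso (ph F c j) hdata E (fun i => ModuleCat.ofHom (g i))
    (fun i => ModuleCat.ofHom (f i)) (ι_π_R hfg)
    (fun i => by rw [hQ' i]; exact π_ι_R i) (fun i => by rw [hD' i]; exact d_R hfg i)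
  have hvan : DRing.VanishesOutside (mcx hdata) a b := fun i hi =>
    mcx_isZero hdata i (hn i (by rw [Finset.mem_Icc]; omega))
  haveI : (mcx hdata).IsKProjective :=
    DC.isKProjective_of_vanishesAbove (mcx hdata) b (fun i hi => hvan i (Or.inr hi))
      (mcx_projective hdata)
  refine ⟨j, DRing.toD (mcx hdata), ⟨mcx hdata, a, b, hvan,
    fun i => ⟨mcx_finite hdata i, mcx_projective hdata i⟩, ⟨Iso.refl _⟩⟩, ⟨?_⟩⟩
  exact LDer.LBaseChangeIso (ph F c j) (mcx hdata) ≪≫ DerivedCategory.Q.mapIso e ≪≫ eK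

end Groth.Agent.Helper11.PerfDesc
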