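import Groth.Agent.Lib.Helper11.PcHom2
import Groth.Agent.Lib.Helper11.PerfHom
import Mathlib.RingTheory.LocalProperties.Exactness
import Mathlib.RingTheory.Localization.BaseChange
import Mathlib.RingTheory.Flat.Localization

/-!
Perfect ring maps and perfect morphisms of schemes: finite tor dimension is a local property of
ring maps; perfect morphisms are local, stable under composition (helper11).
-/

set_option autoImplicit false

open CategoryTheory Category Limits DerivedCategory AlgebraicGeometry TensorProduct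

attribute [local instance] HasDerivedCategory.standard

universe u

namespace Groth.Agent.Helper11.PerfMor

open Groth.Agent.Helper11.DC Groth.Agent.Helper11.MPC Groth.Agent.Helper11.TA
  Groth.Agent.Helper11.PcHom

section Ring

variable {A B C : Type u} [CommRing A] [CommRing B] [CommRing C]

theorem ftd_comp [Algebra A B] [Algebra B C] [Algebra A C] [IsScalarTower A B C]
    (h1 : DRing.HasFiniteTorDim A B) (h2 : DRing.HasFiniteTorDim B C) :
    DRing.HasFiniteTorDim A C := by
  obtain ⟨d1, hd1⟩ := PerfHom.hasFiniteTorDim_iff.mp h1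
  obtain ⟨d2, hd2⟩ := PerfHom.hasFiniteTorDim_iff.mp h2
  have h3 : DRing.HasTorAmplitudeIn B (-(d2 : ℤ)) 0 (Dual.inD B C) :=
    hasTorAmplitudeIn_of_torVan hd2
  have h4 := torVan_restrict d1 hd1 (Dual.inD B C) (-(d2 : ℤ)) 0 h3
  have h5 := h4.of_iso (PerfHom.restrictInD (A := A) (P := B) (B := C))
  refine PerfHom.hasFiniteTorDim_iff.mpr ⟨d2 + d1, h5.mono ?_ le_rfl⟩
  push_cast
  omega

theorem ftd_of_flat [Algebra A B] [Module.Flat A B] : DRing.HasFiniteTorDim A B := by
  have h : DRing.HasTorAmplitudeIn A 0 0 (Dual.inD A B) := by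
    refine ⟨(CochainComplex.singleFunctor (ModuleCat.{u} A) 0).obj (ModuleCat.of A B),
      single_vanishesOutside _, ?_, ⟨Iso.refl _⟩⟩
    intro i
    by_cases hi : i = 0
    · subst hi
      let e := (HomologicalComplex.singleObjXSelf (ComplexShape.up ℤ) 0
        (ModuleCat.of A B)).toLinearEquiv
      haveI : Module.Flat A (ModuleCat.of A B) := ‹Module.Flat A B›
      exact Module.Flat.of_linearEquiv e
    · have hz : IsZero (((CochainComplex.singleFunctor (ModuleCat.{u} A) 0).obj
          (ModuleCat.of A B)).X i) :=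
        HomologicalComplex.isZero_single_obj_X _ _ _ _ hi
      have : Subsingleton (((CochainComplex.singleFunctor (ModuleCat.{u} A) 0).obj
          (ModuleCat.of A B)).X i) :=
        ModuleCat.subsingleton_of_isZero hz
      infer_instance
  refine PerfHom.hasFiniteTorDim_iff.mpr ⟨0, ?_⟩
  exact (torVan_of_hasTorAmplitudeIn h).mono (by simp) le_rfl

theorem ftd_of_isLocalization (M : Submonoid A) [Algebra A B] [IsLocalization M B] [Algebra B C]
    [Algebra A C] [IsScalarTower A B C] (h : DRing.HasFiniteTorDim A C) :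
    DRing.HasFiniteTorDim B C := by
  obtain ⟨d, hd⟩ := PerfHom.hasFiniteTorDim_iff.mp h
  haveI : Module.Flat A B := IsLocalization.flat B M
  have h1 : DRing.HasTorAmplitudeIn A (-(d : ℤ)) 0 (Dual.inD A C) :=
    hasTorAmplitudeIn_of_torVan hd
  have h2 := PerfHom.hasTorAmplitudeIn_of_iso
    (PerfHom.restrictInD (A := A) (P := B) (B := C)).symm h1
  have h3 := hasTorAmplitudeIn_of_restrict (A := A) (B := B)
    (fun N _ _ _ _ hN => (Module.flat_iff_of_isLocalization B M N).mpr hN)
    (Dual.inD B C) (-(d : ℤ)) 0 h2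
  exact PerfHom.hasFiniteTorDim_iff.mpr ⟨d, torVan_of_hasTorAmplitudeIn h3⟩

theorem exact_lTensor_of_away [Algebra A B] (s : Set B) (hs : Ideal.span s = ⊤)
    (Bₚ : s → Type u) [∀ r, CommRing (Bₚ r)] [∀ r, Algebra B (Bₚ r)] [∀ r, Algebra A (Bₚ r)]
    [∀ r, IsScalarTower A B (Bₚ r)] [∀ r : s, IsLocalization.Away r.1 (Bₚ r)]
    {X Y Z : Type u} [AddCommGroup X] [AddCommGroup Y] [AddCommGroup Z] [Module A X]
    [Module A Y] [Module A Z] (f : X →ₗ[A] Y) (g : Y →ₗ[A] Z)
    (H : ∀ r : s, Function.Exact (f.lTensor (Bₚ r)) (g.lTensor (Bₚ r))) :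
    Function.Exact (f.lTensor B) (g.lTensor B) := by
  show Function.Exact (AlgebraTensorModule.lTensor B B f) (AlgebraTensorModule.lTensor B B g)
  refine exact_of_isLocalized_span s hs
    (fun r => Bₚ r ⊗[A] X)
    (fun r => AlgebraTensorModule.rTensor A X (Algebra.linearMap B (Bₚ r)))
    (fun r => Bₚ r ⊗[A] Y)
    (fun r => AlgebraTensorModule.rTensor A Y (Algebra.linearMap B (Bₚ r)))
    (fun r => Bₚ r ⊗[A] Z)
    (fun r => AlgebraTensorModule.rTensor A Z (Algebra.linearMap B (Bₚ r)))
    (AlgebraTensorModule.lTensor B B f) (AlgebraTensorModule.lTensor B B g) ?_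
  intro r
  rw [IsLocalizedModule.map_lTensor, IsLocalizedModule.map_lTensor]
  exact H r

theorem ftd_of_cover [Algebra A B] (s : Finset B) (hs : Ideal.span (s : Set B) = ⊤)
    (H : ∀ r : s, DRing.HasFiniteTorDim A (Localization.Away (r : B))) :
    DRing.HasFiniteTorDim A B := by
  choose d hd using H
  refine ⟨Finset.univ.sup d, fun N _ _ p hp => ?_⟩
  obtain ⟨n, rfl⟩ : ∃ n, p = n + 1 := ⟨p - 1, by omega⟩
  refine ModuleCat.subsingleton_of_isZero ?_
  refine (isZero_tor_succ_iff_exact (ModuleCat.of A B) (ModuleCat.of A N) n).mpr ?_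
  refine exact_lTensor_of_away (s : Set B) hs (fun r => Localization.Away (r : B)) _ _
    (fun r => ?_)
  refine (isZero_tor_succ_iff_exact (ModuleCat.of A (Localization.Away (r : B)))
    (ModuleCat.of A N) n).mp ?_
  haveI := hd ⟨r.1, r.2⟩ N (n + 1)
    (lt_of_le_of_lt (Finset.le_sup (f := d) (Finset.mem_univ _)) hp)
  exact ModuleCat.isZero_of_subsingleton _

end Ring

/-- finite tor dimension as a property of ring homomorphisms -/
def F {A B : Type u} [CommRing A] [CommRing B] (φ : A →+* B) : Prop :=
  letI := φ.toAlgebra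
  DRing.HasFiniteTorDim A B

theorem F_algebraMap_iff {A B : Type u} [CommRing A] [CommRing B] [Algebra A B] :
    F (algebraMap A B) ↔ DRing.HasFiniteTorDim A B := by
  have h : (algebraMap A B).toAlgebra = (inferInstance : Algebra A B) :=
    Algebra.algebra_ext _ _ (fun r => rfl)
  show @DRing.HasFiniteTorDim A _ B _ (@Algebra.toModule A B _ _ (algebraMap A B).toAlgebra) ↔ _
  rw [h]

theorem F_stableUnderComposition : RingHom.StableUnderComposition @F := by
  intro R S T _ _ _ f g hf hg
  letI := f.toAlgebra
  letI := g.toAlgebra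
  letI := (g.comp f).toAlgebra
  haveI : IsScalarTower R S T := IsScalarTower.of_algebraMap_eq (fun _ => rfl)
  exact ftd_comp hf hg

theorem F_holdsForLocalizationAway : RingHom.HoldsForLocalizationAway @F := by
  intro R S _ _ _ r _
  haveI : Module.Flat R S := IsLocalization.flat S (Submonoid.powers r)
  exact F_algebraMap_iff.mpr ftd_of_flat

theorem F_cancel_of_isLocalization {R R' T : Type u} [CommRing R] [CommRing R'] [CommRing T]
    [Algebra R R'] (M : Submonoid R) [IsLocalization M R'] (g : R' →+* T)
    (h : F (g.comp (algebraMap R R'))) : F g := by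
  letI := g.toAlgebra
  letI := (g.comp (algebraMap R R')).toAlgebra
  haveI : IsScalarTower R R' T := IsScalarTower.of_algebraMap_eq (fun _ => rfl)
  exact ftd_of_isLocalization M h

theorem F_ofLocalizationFiniteSpanTarget : RingHom.OfLocalizationFiniteSpanTarget @F := by
  intro R S _ _ f s hs H
  letI := f.toAlgebra
  have H' : ∀ r : s, DRing.HasFiniteTorDim R (Localization.Away (r : S)) := fun r => by
    have h := H r
    have heq : ((algebraMap S (Localization.Away (r : S))).comp f).toAlgebra =
        (inferInstance : Algebra R (Localization.Away (r : S))) :=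
      Algebra.algebra_ext _ _ (fun x => by
        show algebraMap S (Localization.Away (r : S)) (f x) = _
        rw [IsScalarTower.algebraMap_apply R S (Localization.Away (r : S))]
        rfl)
    unfold F at h
    rw [heq] at h
    exact h
  exact ftd_of_cover s hs H'

theorem F_ofLocalizationSpanTarget : RingHom.OfLocalizationSpanTarget @F :=
  (RingHom.ofLocalizationSpanTarget_iff_finite _).mpr F_ofLocalizationFiniteSpanTarget

theorem F_localizationAwayPreserves : RingHom.LocalizationAwayPreserves @F := by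
  intro R S _ _ f r R' S' _ _ _ _ _ _ hf
  have h2 : F ((algebraMap S S').comp f) :=
    F_stableUnderComposition f (algebraMap S S') hf (F_holdsForLocalizationAway S' (f r))
  have h3 : (IsLocalization.Away.map R' S' f r).comp (algebraMap R R') =
      (algebraMap S S').comp f := IsLocalization.map_comp _
  exact F_cancel_of_isLocalization (Submonoid.powers r) _ (h3 ▸ h2)

theorem F_isLocal : RingHom.PropertyIsLocal @F :=
  ⟨F_localizationAwayPreserves, F_ofLocalizationSpanTarget,
    F_ofLocalizationSpanTarget.ofLocalizationSpan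
      (F_stableUnderComposition.stableUnderCompositionWithLocalizationAway
        F_holdsForLocalizationAway).left,
    (F_stableUnderComposition.stableUnderCompositionWithLocalizationAway
      F_holdsForLocalizationAway).right⟩

/-- perfect ring maps as a property of ring homomorphisms -/
def QP {A B : Type u} [CommRing A] [CommRing B] (φ : A →+* B) : Prop :=
  letI := φ.toAlgebra
  MoreMor.IsPerfectHom A B

theorem QP_iff {A B : Type u} [CommRing A] [CommRing B] (φ : A →+* B) : QP φ ↔ Q φ ∧ F φ :=
  Iff.rfl

theorem QP_isLocal : RingHom.PropertyIsLocal @QP := Q_isLocal.and F_isLocal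

theorem QP_stableUnderComposition : RingHom.StableUnderComposition @QP :=
  Q_stableUnderComposition.and F_stableUnderComposition

theorem QP_holdsForLocalizationAway : RingHom.HoldsForLocalizationAway @QP := by
  intro R S _ _ _ r _
  exact ⟨Q_holdsForLocalizationAway S r, F_holdsForLocalizationAway S r⟩

theorem QP_sourceStable : RingHom.StableUnderCompositionWithLocalizationAwaySource @QP :=
  (QP_stableUnderComposition.stableUnderCompositionWithLocalizationAway
    QP_holdsForLocalizationAway).left

/-- the morphism property -/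
def PP : MorphismProperty Scheme.{u} := affineLocally (@QP)

instance : HasRingHomProperty PP (@QP) := ⟨QP_isLocal, rfl⟩

theorem perfMor_iff {X Y : Scheme.{u}} (f : X ⟶ Y) : MoreMor.IsPerfectMor f ↔ PP f := by
  show _ ↔ affineLocally (@QP) f
  rw [affineLocally_iff_forall_isAffineOpen]
  exact ⟨fun h U hU V hV e => h V U hV hU e, fun h U V hU hV e => h hV hU e⟩

theorem perfMor_iff_exists {X S : Scheme.{u}} (f : X ⟶ S) :
    MoreMor.IsPerfectMor f ↔ ∀ x : X, ∃ (U : X.Opens) (V : S.Opens) (hUV : U ≤ f ⁻¹ᵁ V),
      IsAffineOpen U ∧ IsAffineOpen V ∧ x ∈ U ∧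
      (letI := (f.appLE V U hUV).hom.toAlgebra
       MoreMor.IsPerfectHom Γ(S, V) Γ(X, U)) := by
  rw [perfMor_iff, HasRingHomProperty.iff_exists_appLE (P := PP) QP_sourceStable]
  constructor
  · intro h x
    obtain ⟨U, V, hx, e, hQ⟩ := h x
    exact ⟨V.1, U.1, e, V.2, U.2, hx, hQ⟩
  · intro h x
    obtain ⟨U, V, hUV, hU, hV, hx, hQ⟩ := h x
    exact ⟨⟨V, hV⟩, ⟨U, hU⟩, hx, hUV, hQ⟩

theorem perfMor_comp {X Y Z : Scheme.{u}} (f : X ⟶ Y) (g : Y ⟶ Z)
    (hf : MoreMor.IsPerfectMor f) (hg : MoreMor.IsPerfectMor g) :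
    MoreMor.IsPerfectMor (f ≫ g) := by
  rw [perfMor_iff] at hf hg ⊢
  exact (HasRingHomProperty.stableUnderComposition (P := PP)
    QP_stableUnderComposition).comp_mem f g hf hg

end Groth.Agent.Helper11.PerfMor
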