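import Groth.Agent.Lib.Helper11.PerfMor1
import Groth.Agent.Lib.Helper11.KoszPerf2
import Groth.Agent.S15821
import Groth.Prelude.Def_Mor2
import Mathlib.AlgebraicGeometry.Morphisms.ClosedImmersion
import Mathlib.AlgebraicGeometry.IdealSheaf.Basic

/-!
Regular closed immersions are perfect (helper11).
-/

set_option autoImplicit false

open CategoryTheory Category Limits DerivedCategory AlgebraicGeometry TensorProduct

attribute [local instance] HasDerivedCategory.standard

universe u

namespace Groth.Agent.Helper11.PerfMor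

open Groth.Agent.Helper11.DC Groth.Agent.Helper11.MPC Groth.Agent.Helper11.TA
  Groth.Agent.Helper11.PcHom

theorem perfectHom_of_weaklyRegular {A B : Type u} [CommRing A] [CommRing B] [Algebra A B]
    (rs : List A) (hrs : RingTheory.Sequence.IsWeaklyRegular A rs)
    (hsurj : Function.Surjective (algebraMap A B))
    (hker : RingHom.ker (algebraMap A B) = Ideal.ofList rs) : MoreMor.IsPerfectHom A B := by
  have hK : LCI.IsKoszulRegularSeq A rs := (Groth.Agent.S15821.result A rs hrs).1
  haveI : Module.Finite A B := Module.Finite.of_surjective (Algebra.linearMap A B) hsurj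
  have hk : LinearMap.ker (Algebra.linearMap A B) = Ideal.ofList rs := by
    rw [← hker]
    ext x
    rw [LinearMap.mem_ker, RingHom.mem_ker]
    rfl
  let e : B ≃ₗ[A] A ⧸ Ideal.ofList rs :=
    ((Algebra.linearMap A B).quotKerEquivOfSurjective hsurj).symm.trans
      (Submodule.quotEquivOfEq _ _ hk)
  have hperf : DRing.IsPerfectModule A B :=
    Groth.Agent.Helper11.KoszPerf.isPerfect_single_of_koszulRegular A rs hK (ModuleCat.of A B) e
  obtain ⟨hpc, hft⟩ := PerfHom.finiteTorDim_of_isPerfectModule (A := A) (P := A) (B := B) hperf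
  exact ⟨hom_iff_module_of_finite.mpr hpc, hft⟩

theorem perfMor_of_regularClosedImmersion {Z X : Scheme.{u}} (i : Z ⟶ X)
    (hi : Mor2.IsRegularClosedImmersion i) : MoreMor.IsPerfectMor i := by
  obtain ⟨hci, h⟩ := hi
  haveI := hci
  rw [perfMor_iff_exists]
  intro z
  obtain ⟨U, hU, hz, rs, hrs, hker⟩ := h z
  refine ⟨i ⁻¹ᵁ U, U, le_rfl, hU.preimage i, hU, hz, ?_⟩
  letI := (i.appLE U (i ⁻¹ᵁ U) le_rfl).hom.toAlgebra
  refine perfectHom_of_weaklyRegular rs hrs.toIsWeaklyRegular ?_ ?_
  · show Function.Surjective (i.appLE U (i ⁻¹ᵁ U) le_rfl).hom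
    rw [Scheme.Hom.appLE_eq_app]
    exact i.app_surjective U hU
  · show RingHom.ker (i.appLE U (i ⁻¹ᵁ U) le_rfl).hom = Ideal.ofList rs
    rw [Scheme.Hom.appLE_eq_app, ← hker, Scheme.Hom.ker_apply]

end Groth.Agent.Helper11.PerfMor
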