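import Groth.Agent.Lib.Helper11.PerfMor1
import Groth.Agent.Lib.Helper11.DCFlatBC
import Groth.Agent.Lib.Helper11.KoszPerf2
import Mathlib.RingTheory.TensorProduct.Quotient
import Mathlib.RingTheory.TensorProduct.MvPolynomial
import Mathlib.RingTheory.IsTensorProduct
import Mathlib.RingTheory.RingHom.Flat
import Mathlib.RingTheory.Flat.Stability
import Mathlib.AlgebraicGeometry.Morphisms.Flat

/-!
Flat base change of pseudo-coherent and perfect ring maps / morphisms of schemes (helper11).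
-/

set_option autoImplicit false

open CategoryTheory Category Limits DerivedCategory AlgebraicGeometry TensorProduct

attribute [local instance] HasDerivedCategory.standard

universe u

namespace Groth.Agent.Helper11.PerfMor

open Groth.Agent.Helper11.DC Groth.Agent.Helper11.MPC Groth.Agent.Helper11.TA
  Groth.Agent.Helper11.PcHom

theorem pc'_of_iso {R : Type u} [CommRing R] {K L : Dual.D R} (e : K ≅ L)
    (h : DRing.IsPseudoCoherent' R K) : DRing.IsPseudoCoherent' R L := by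
  obtain ⟨E, b, hb, hE, ⟨e'⟩⟩ := h
  exact ⟨E, b, hb, hE, ⟨e' ≪≫ e⟩⟩

section BC

attribute [local instance] MvPolynomial.algebraMvPolynomial

variable {R S T : Type u} [CommRing R] [CommRing S] [CommRing T]

theorem pcHom_tensor [Algebra R S] [Algebra R T] [Module.Flat R S]
    (h : MoreMor.IsPseudoCoherentHom R T) : MoreMor.IsPseudoCoherentHom S (S ⊗[R] T) := by
  obtain ⟨n, α, hα, hT⟩ := h
  let I : Ideal (MvPolynomial (Fin n) R) := RingHom.ker α
  let ψ : MvPolynomial (Fin n) R →+* MvPolynomial (Fin n) S := algebraMap _ _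
  have h1 : DRing.IsPseudoCoherent' (MvPolynomial (Fin n) R)
      ((singleFunctor (ModuleCat.{u} (MvPolynomial (Fin n) R)) 0).obj
        (ModuleCat.of (MvPolynomial (Fin n) R) (MvPolynomial (Fin n) R ⧸ I))) := by
    letI := α.toRingHom.toAlgebra
    have hk : LinearMap.ker (Algebra.linearMap (MvPolynomial (Fin n) R) T) = I := by
      ext x
      rw [LinearMap.mem_ker, RingHom.mem_ker]
      rfl
    let e : T ≃ₗ[MvPolynomial (Fin n) R] (MvPolynomial (Fin n) R ⧸ I) :=
      ((Algebra.linearMap (MvPolynomial (Fin n) R) T).quotKerEquivOfSurjective hα).symm.trans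
        (Submodule.quotEquivOfEq _ _ hk)
    exact pc'_of_iso ((singleFunctor _ 0).mapIso e.toModuleIso) hT
  have hψ : ψ.Flat := by
    refine RingHom.flat_algebraMap_iff.mpr ?_
    exact Module.Flat.isBaseChange R (MvPolynomial (Fin n) R) S (MvPolynomial (Fin n) S)
      (Algebra.IsPushout.out (R := R) (S := MvPolynomial (Fin n) R) (R' := S)
        (S' := MvPolynomial (Fin n) S))
  have h2 := flatBC_pc' ψ hψ (ModuleCat.of _ (MvPolynomial (Fin n) R ⧸ I)) h1
  have h3 : DRing.IsPseudoCoherentModule' (MvPolynomial (Fin n) S)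
      (MvPolynomial (Fin n) S ⧸ I.map ψ) :=
    pc'_of_iso ((singleFunctor _ 0).mapIso (Groth.Agent.Helper11.KoszPerf.esQuotIso ψ I)) h2
  have h4 : MoreMor.IsPseudoCoherentHom S (MvPolynomial (Fin n) S ⧸ I.map ψ) := by
    refine ⟨n, Ideal.Quotient.mkₐ S (I.map ψ), Ideal.Quotient.mkₐ_surjective S (I.map ψ), ?_⟩
    exact baseIsPc_of_module h3
  let e0 : (MvPolynomial (Fin n) R ⧸ I) ≃ₐ[R] T := Ideal.quotientKerAlgEquivOfSurjective hα
  let e1 := Algebra.TensorProduct.quotIdealMapEquivTensorQuot (MvPolynomial (Fin n) S) I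
  let e2 := Algebra.IsPushout.cancelBaseChangeAlg R S (MvPolynomial (Fin n) R)
    (MvPolynomial (Fin n) S) (MvPolynomial (Fin n) R ⧸ I)
  let e3 : S ⊗[R] (MvPolynomial (Fin n) R ⧸ I) ≃ₐ[S] S ⊗[R] T :=
    Algebra.TensorProduct.congr AlgEquiv.refl e0
  let e : (MvPolynomial (Fin n) S ⧸ I.map ψ) ≃ₐ[S] S ⊗[R] T :=
    ((e1.restrictScalars S).trans e2).trans e3
  letI : Algebra (MvPolynomial (Fin n) S ⧸ I.map ψ) (S ⊗[R] T) := e.toAlgHom.toRingHom.toAlgebra
  haveI : IsScalarTower S (MvPolynomial (Fin n) S ⧸ I.map ψ) (S ⊗[R] T) :=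
    IsScalarTower.of_algebraMap_eq (R := S) (S := MvPolynomial (Fin n) S ⧸ I.map ψ)
      (A := S ⊗[R] T) (fun s => (e.commutes s).symm)
  exact hom_comp h4 (hom_of_bijective e.bijective)

set_option backward.isDefEq.respectTransparency false in
theorem ftd_tensor (f : R →+* S) (hf : f.Flat) [Algebra R T] (h : DRing.HasFiniteTorDim R T) :
    letI := f.toAlgebra
    DRing.HasFiniteTorDim S (S ⊗[R] T) := by
  letI := f.toAlgebra
  obtain ⟨d, hd⟩ := PerfHom.hasFiniteTorDim_iff.mp h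
  have h1 : DRing.HasTorAmplitudeIn R (-(d : ℤ)) 0 (Dual.inD R T) :=
    hasTorAmplitudeIn_of_torVan hd
  have h2 := flatBC_torAmp f hf (ModuleCat.of R T) (-(d : ℤ)) 0 h1
  let e : (ModuleCat.extendScalars.{u,u,u} f).obj (ModuleCat.of R T) ≅
      ModuleCat.of S (S ⊗[R] T) :=
    LinearEquiv.toModuleIso (LinearEquiv.refl S (S ⊗[R] T))
  have h3 := PerfHom.hasTorAmplitudeIn_of_iso ((singleFunctor _ 0).mapIso e) h2
  exact PerfHom.hasFiniteTorDim_iff.mpr ⟨d, torVan_of_hasTorAmplitudeIn h3⟩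

theorem Q_tensor (f : R →+* S) (φ : R →+* T) (hf : f.Flat) (hφ : Q φ) :
    letI := f.toAlgebra
    letI := φ.toAlgebra
    Q (algebraMap S (S ⊗[R] T)) := by
  letI := f.toAlgebra
  letI := φ.toAlgebra
  haveI : Module.Flat R S := hf
  exact Q_algebraMap_iff.mpr (pcHom_tensor hφ)

theorem F_tensor (f : R →+* S) (φ : R →+* T) (hf : f.Flat) (hφ : F φ) :
    letI := f.toAlgebra
    letI := φ.toAlgebra
    F (algebraMap S (S ⊗[R] T)) := by
  letI := f.toAlgebra
  letI := φ.toAlgebra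
  exact F_algebraMap_iff.mpr (ftd_tensor f hf hφ)

theorem QP_tensor (f : R →+* S) (φ : R →+* T) (hf : f.Flat) (hφ : QP φ) :
    letI := f.toAlgebra
    letI := φ.toAlgebra
    QP (algebraMap S (S ⊗[R] T)) :=
  ⟨Q_tensor f φ hf hφ.1, F_tensor f φ hf hφ.2⟩

end BC

section Sch

variable {W : ∀ {R S : Type u} [CommRing R] [CommRing S], (R →+* S) → Prop}

set_option backward.isDefEq.respectTransparency false in
theorem of_isPushout (hW : RingHom.RespectsIso @W)
    (hten : ∀ {R S T : Type u} [CommRing R] [CommRing S] [CommRing T] (f : R →+* S)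
      (φ : R →+* T), f.Flat → W φ →
      letI := f.toAlgebra
      letI := φ.toAlgebra
      W (algebraMap S (S ⊗[R] T)))
    {R S T P : CommRingCat.{u}} {a : R ⟶ S} {b : R ⟶ T} {c : S ⟶ P} {d : T ⟶ P}
    (h : IsPushout a b c d) (ha : a.hom.Flat) (hb : W b.hom) : W c.hom := by
  have e1 : pushout.inl a b ≫ h.isoPushout.inv = c := h.inl_isoPushout_inv
  rw [← e1, CommRingCat.hom_comp, hW.cancel_right_isIso]
  letI := a.hom.toAlgebra
  letI := b.hom.toAlgebra
  rw [← show _ = pushout.inl a b from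
      colimit.isoColimitCocone_ι_inv ⟨_, CommRingCat.pushoutCoconeIsColimit R S T⟩ WalkingSpan.left,
    CommRingCat.hom_comp, hW.cancel_right_isIso]
  dsimp only [CommRingCat.pushoutCocone_inl, PushoutCocone.ι_app_left]
  exact hten a.hom b.hom ha hb

theorem baseChange_of_flat {PW : MorphismProperty Scheme.{u}} [HasRingHomProperty PW W]
    (hsrc : RingHom.StableUnderCompositionWithLocalizationAwaySource W)
    (hten : ∀ {R S T : Type u} [CommRing R] [CommRing S] [CommRing T] (f : R →+* S)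
      (φ : R →+* T), f.Flat → W φ →
      letI := f.toAlgebra
      letI := φ.toAlgebra
      W (algebraMap S (S ⊗[R] T)))
    {X S X' S' : Scheme.{u}} (f : X ⟶ S) (f' : X' ⟶ S') (g' : X' ⟶ X) (g : S' ⟶ S) [Flat g]
    (hc : IsPullback g' f' f g) (hf : PW f) : PW f' := by
  rw [HasRingHomProperty.iff_exists_appLE (P := PW) hsrc]
  intro x'
  obtain ⟨V, hV, hxV, -⟩ := TopologicalSpace.Opens.isBasis_iff_nbhd.mp S.isBasis_affineOpens
    (TopologicalSpace.Opens.mem_top (f (g' x')))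
  obtain ⟨U, hU, hxU, hUV⟩ := TopologicalSpace.Opens.isBasis_iff_nbhd.mp X.isBasis_affineOpens
    (show g' x' ∈ f ⁻¹ᵁ V from hxV)
  have hw : g (f' x') = f (g' x') := by
    have := congrArg (fun φ : X' ⟶ S => φ x') hc.w
    simpa using this.symm
  obtain ⟨V', hV', hxV', hV'V⟩ :=
    TopologicalSpace.Opens.isBasis_iff_nbhd.mp S'.isBasis_affineOpens
      (show f' x' ∈ g ⁻¹ᵁ V from by
        show g (f' x') ∈ V
        rw [hw]
        exact hxV)
  have hU' : IsAffineOpen (g' ⁻¹ᵁ U ⊓ f' ⁻¹ᵁ V') := by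
    have : IsAffine _ := hV
    have : IsAffine _ := hV'
    have : IsAffine _ := hU
    exact .of_isIso (Scheme.Hom.isPullback_resLE hc hV'V hUV rfl).isoPullback.hom
  have hpo := (isIso_pushoutSection_iff hc hV'V hUV rfl).mp
    (isIso_pushoutSection_of_isAffineOpen hc hV'V hUV rfl hV hV' hU)
  refine ⟨⟨V', hV'⟩, ⟨g' ⁻¹ᵁ U ⊓ f' ⁻¹ᵁ V', hU'⟩,
    TopologicalSpace.Opens.mem_inf.mpr ⟨hxU, hxV'⟩, inf_le_right, ?_⟩
  exact of_isPushout (HasRingHomProperty.isLocal_ringHomProperty PW).respectsIso hten hpo.flip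
    (Flat.flat_appLE g hV hV' hV'V) (HasRingHomProperty.appLE PW f hf ⟨V, hV⟩ ⟨U, hU⟩ hUV)

end Sch

theorem perfMor_flat_baseChange {X S X' S' : Scheme.{u}} (f : X ⟶ S) (f' : X' ⟶ S')
    (g' : X' ⟶ X) (g : S' ⟶ S) [Flat g] (hc : IsPullback g' f' f g)
    (hf : MoreMor.IsPerfectMor f) : MoreMor.IsPerfectMor f' := by
  rw [perfMor_iff] at hf ⊢
  exact baseChange_of_flat (PW := PP) QP_sourceStable QP_tensor f f' g' g hc hf

theorem pcMor_flat_baseChange {X S X' S' : Scheme.{u}} (f : X ⟶ S) (f' : X' ⟶ S')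
    (g' : X' ⟶ X) (g : S' ⟶ S) [Flat g] (hc : IsPullback g' f' f g)
    (hf : MoreMor.IsPseudoCoherentMor f) : MoreMor.IsPseudoCoherentMor f' := by
  rw [pcMor_iff] at hf ⊢
  exact baseChange_of_flat (PW := P) Q_sourceStable Q_tensor f f' g' g hc hf

end Groth.Agent.Helper11.PerfMor
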