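import Groth.Agent.Lib.Helper11.PerfMor3
import Groth.Agent.Lib.Helper11.TorAmp10
import Groth.Agent.Lib.Helper11.MPC8
import Groth.Agent.Lib.Helper11.MPC9
import Mathlib.RingTheory.Finiteness.Descent
import Mathlib.RingTheory.RingHom.FaithfullyFlat
import Mathlib.AlgebraicGeometry.Morphisms.Descent
import Mathlib.AlgebraicGeometry.Morphisms.FlatDescent

/-!
Faithfully flat descent of pseudo-coherent and perfect ring maps / morphisms (helper11).
-/

set_option autoImplicit false

open CategoryTheory Category Limits DerivedCategory AlgebraicGeometry TensorProduct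

attribute [local instance] HasDerivedCategory.standard

universe u

namespace Groth.Agent.Helper11.PerfMor

open Groth.Agent.Helper11.DC Groth.Agent.Helper11.MPC Groth.Agent.Helper11.TA
  Groth.Agent.Helper11.PcHom

theorem baseIsPc_of_hom {A B : Type u} [CommRing A] [CommRing B] [Algebra A B]
    (h : MoreMor.IsPseudoCoherentHom A B) {n : ℕ}
    (α : MvPolynomial (Fin n) A →ₐ[A] B) (hα : Function.Surjective α) :
    BaseIsPc (α : MvPolynomial (Fin n) A →+* B) := by
  refine pc'_of_forall_mpc (fun m => ?_)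
  have h1 := (rel_iff_via α hα m _).mp (rel_of_hom h m)
  exact (mpc_restrict_single_iff (α : MvPolynomial (Fin n) A →+* B) (ModuleCat.of B B) m).mp h1

section Desc

attribute [local instance] MvPolynomial.algebraMvPolynomial

variable {R S T : Type u} [CommRing R] [CommRing S] [CommRing T]

theorem nonempty_quotEquiv [Algebra R S] [Algebra R T] {n : ℕ}
    (α : MvPolynomial (Fin n) R →ₐ[R] T) (hα : Function.Surjective α) :
    Nonempty ((MvPolynomial (Fin n) S ⧸ (RingHom.ker α).map
      (algebraMap (MvPolynomial (Fin n) R) (MvPolynomial (Fin n) S))) ≃ₐ[S] S ⊗[R] T) := by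
  let I : Ideal (MvPolynomial (Fin n) R) := RingHom.ker α
  let e0 : (MvPolynomial (Fin n) R ⧸ I) ≃ₐ[R] T := Ideal.quotientKerAlgEquivOfSurjective hα
  let e1 := Algebra.TensorProduct.quotIdealMapEquivTensorQuot (MvPolynomial (Fin n) S) I
  let e2 := Algebra.IsPushout.cancelBaseChangeAlg R S (MvPolynomial (Fin n) R)
    (MvPolynomial (Fin n) S) (MvPolynomial (Fin n) R ⧸ I)
  let e3 : S ⊗[R] (MvPolynomial (Fin n) R ⧸ I) ≃ₐ[S] S ⊗[R] T :=
    Algebra.TensorProduct.congr AlgEquiv.refl e0
  exact ⟨((e1.restrictScalars S).trans e2).trans e3⟩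

theorem pcHom_of_tensor [Algebra R S] [Algebra R T] [Module.FaithfullyFlat R S]
    (h : MoreMor.IsPseudoCoherentHom S (S ⊗[R] T)) : MoreMor.IsPseudoCoherentHom R T := by
  haveI : Algebra.FiniteType S (S ⊗[R] T) := finiteType_of_hom h
  haveI hft : Algebra.FiniteType R T :=
    Algebra.FiniteType.of_finiteType_tensorProduct_of_faithfullyFlat S
  obtain ⟨n, α, hα⟩ := Algebra.FiniteType.iff_quotient_mvPolynomial''.mp hft
  let I : Ideal (MvPolynomial (Fin n) R) := RingHom.ker α
  let ψ : MvPolynomial (Fin n) R →+* MvPolynomial (Fin n) S := algebraMap _ _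
  obtain ⟨e⟩ := nonempty_quotEquiv (S := S) α hα
  have h4 : MoreMor.IsPseudoCoherentHom S (MvPolynomial (Fin n) S ⧸ I.map ψ) := by
    letI : Algebra (S ⊗[R] T) (MvPolynomial (Fin n) S ⧸ I.map ψ) :=
      e.symm.toAlgHom.toRingHom.toAlgebra
    haveI : IsScalarTower S (S ⊗[R] T) (MvPolynomial (Fin n) S ⧸ I.map ψ) :=
      IsScalarTower.of_algebraMap_eq (R := S) (S := S ⊗[R] T)
        (A := MvPolynomial (Fin n) S ⧸ I.map ψ) (fun s => (e.symm.commutes s).symm)
    exact hom_comp h (hom_of_bijective e.symm.bijective)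
  have h5 : BaseIsPc ((Ideal.Quotient.mkₐ S (I.map ψ) :
      MvPolynomial (Fin n) S →ₐ[S] MvPolynomial (Fin n) S ⧸ I.map ψ) :
      MvPolynomial (Fin n) S →+* MvPolynomial (Fin n) S ⧸ I.map ψ) :=
    baseIsPc_of_hom h4 _ (Ideal.Quotient.mkₐ_surjective S _)
  have h6 : DRing.IsPseudoCoherent' (MvPolynomial (Fin n) S)
      ((singleFunctor (ModuleCat.{u} (MvPolynomial (Fin n) S)) 0).obj
        (ModuleCat.of (MvPolynomial (Fin n) S) (MvPolynomial (Fin n) S ⧸ I.map ψ))) :=
    pc'_of_iso ((singleFunctor _ 0).mapIso (algRestrictIso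
      (A := MvPolynomial (Fin n) S) (B := MvPolynomial (Fin n) S ⧸ I.map ψ)).symm) h5
  have h7 := pc'_of_iso ((singleFunctor _ 0).mapIso
    (Groth.Agent.Helper11.KoszPerf.esQuotIso ψ I).symm) h6
  have hψ : ψ.FaithfullyFlat := by
    refine RingHom.faithfullyFlat_algebraMap_iff.mpr ?_
    exact Module.FaithfullyFlat.of_linearEquiv _ _
      (Algebra.IsPushout.equiv R (MvPolynomial (Fin n) R) S
        (MvPolynomial (Fin n) S)).symm.toLinearEquiv
  have h8 : ∀ m : ℤ, DRing.IsPseudoCoherent (MvPolynomial (Fin n) R) m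
      ((singleFunctor (ModuleCat.{u} (MvPolynomial (Fin n) R)) 0).obj
        (ModuleCat.of (MvPolynomial (Fin n) R) (MvPolynomial (Fin n) R ⧸ I))) := fun m =>
    mpc_descent_ff ψ hψ m
      ((HomologicalComplex.single (ModuleCat.{u} (MvPolynomial (Fin n) R))
        (ComplexShape.up ℤ) 0).obj (ModuleCat.of _ (MvPolynomial (Fin n) R ⧸ I)))
      (mpc_of_iso (Q.mapIso ((HomologicalComplex.singleMapHomologicalComplex (es ψ)
        (ComplexShape.up ℤ) 0).app (ModuleCat.of _ (MvPolynomial (Fin n) R ⧸ I)))).symm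
        (mpc_of_pc' h7 m))
  have h9 := pc'_of_forall_mpc h8
  refine ⟨n, α, hα, ?_⟩
  letI := α.toRingHom.toAlgebra
  have hk : LinearMap.ker (Algebra.linearMap (MvPolynomial (Fin n) R) T) = I := by
    ext x
    rw [LinearMap.mem_ker, RingHom.mem_ker]
    rfl
  let e' : T ≃ₗ[MvPolynomial (Fin n) R] (MvPolynomial (Fin n) R ⧸ I) :=
    ((Algebra.linearMap (MvPolynomial (Fin n) R) T).quotKerEquivOfSurjective hα).symm.trans
      (Submodule.quotEquivOfEq _ _ hk)
  exact pc'_of_iso ((singleFunctor _ 0).mapIso e'.symm.toModuleIso) h9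

set_option backward.isDefEq.respectTransparency false in
theorem ftd_of_tensor (f : R →+* S) (hf : f.FaithfullyFlat) [Algebra R T]
    (h : letI := f.toAlgebra
      DRing.HasFiniteTorDim S (S ⊗[R] T)) : DRing.HasFiniteTorDim R T := by
  letI := f.toAlgebra
  obtain ⟨d, hd⟩ := PerfHom.hasFiniteTorDim_iff.mp h
  let e : (ModuleCat.extendScalars.{u,u,u} f).obj (ModuleCat.of R T) ≅
      ModuleCat.of S (S ⊗[R] T) :=
    LinearEquiv.toModuleIso (LinearEquiv.refl S (S ⊗[R] T))
  let K : DRing.Cx R :=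
    (HomologicalComplex.single (ModuleCat.{u} R) (ComplexShape.up ℤ) 0).obj (ModuleCat.of R T)
  have iso : Q.obj ((esC f).obj K) ≅ Dual.inD S (S ⊗[R] T) :=
    Q.mapIso ((HomologicalComplex.singleMapHomologicalComplex (es f)
      (ComplexShape.up ℤ) 0).app (ModuleCat.of R T)) ≪≫
      (singleFunctor (ModuleCat.{u} S) 0).mapIso e
  have h1 : TorVan (-(d : ℤ)) 0 (Q.obj ((esC f).obj K)) := hd.of_iso iso.symm
  have h2 : TorVan (-(d : ℤ)) 0 (Q.obj K) :=
    torVan_descent (ι := Unit) (fun _ => S) (fun _ => f) (fun _ => hf.flat)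
      (fun H hH => isZero_of_es_isZero f hf H (hH ())) K (-(d : ℤ)) 0 (fun _ => h1)
  exact PerfHom.hasFiniteTorDim_iff.mpr ⟨d, h2⟩

end Desc

theorem Q_codescends : RingHom.CodescendsAlong @Q RingHom.FaithfullyFlat := by
  refine .mk _ Q_isLocal.respectsIso fun R S T _ _ _ _ _ h h' => ?_
  rw [RingHom.faithfullyFlat_algebraMap_iff] at h
  haveI := h
  exact Q_algebraMap_iff.mpr (pcHom_of_tensor (Q_algebraMap_iff.mp h'))

theorem F_codescends : RingHom.CodescendsAlong @F RingHom.FaithfullyFlat := by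
  refine .mk _ F_isLocal.respectsIso fun R S T _ _ _ _ _ h h' => ?_
  have heq : (algebraMap R S).toAlgebra = ‹Algebra R S› :=
    Algebra.algebra_ext _ _ (fun _ => rfl)
  refine F_algebraMap_iff.mpr (ftd_of_tensor (algebraMap R S) h ?_)
  rw [heq]
  exact F_algebraMap_iff.mp h'

theorem QP_codescends : RingHom.CodescendsAlong @QP RingHom.FaithfullyFlat :=
  Q_codescends.and F_codescends

section Sch

variable {W : ∀ {R S : Type u} [CommRing R] [CommRing S], (R →+* S) → Prop}

set_option backward.isDefEq.respectTransparency.types false in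
theorem descendsAlong_of_flat {PW : MorphismProperty Scheme.{u}} [HasRingHomProperty PW W]
    (hbc : ∀ {X S X' S' : Scheme.{u}} (f : X ⟶ S) (f' : X' ⟶ S') (g' : X' ⟶ X) (g : S' ⟶ S)
      [Flat g], IsPullback g' f' f g → PW f → PW f')
    (hcod : RingHom.CodescendsAlong W RingHom.FaithfullyFlat) :
    PW.DescendsAlong ((@Flat ⊓ @Surjective) ⊓ @QuasiCompact) := by
  apply IsZariskiLocalAtTarget.descendsAlong
  intro R X Y f g hf h
  wlog hX : ∃ T, X = Spec T generalizing X with H
  · have _ : CompactSpace X := by simpa [← quasiCompact_iff_compactSpace f] using hf.2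
    obtain ⟨Y', p, hsurj, hflat, hY'⟩ := X.exists_hom_isAffine_of_isZariskiLocalAtSource @Flat
    haveI := hflat
    haveI := hsurj
    haveI : Flat f := hf.1.1
    haveI : Surjective f := hf.1.2
    refine H (f := (Y'.isoSpec.inv ≫ p) ≫ f) ?_ ?_ ⟨_, rfl⟩
    · exact ⟨⟨inferInstance, inferInstance⟩, inferInstance⟩
    · rw [← pullbackRightPullbackFstIso_inv_fst f g _, PW.cancel_left_of_respectsIso]
      exact hbc (pullback.fst f g) _ _ (Y'.isoSpec.inv ≫ p)
        (IsPullback.of_hasPullback _ _).flip h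
  obtain ⟨T, rfl⟩ := hX
  obtain ⟨φ, rfl⟩ := Spec.map_surjective f
  wlog hY : ∃ S, Y = Spec S generalizing Y
  · rw [IsZariskiLocalAtSource.iff_of_openCover (P := PW) Y.affineCover]
    intro i
    have heq : pullback.fst (Spec.map φ) (Y.affineCover.f i ≫ g) =
        pullback.map _ _ _ _ (𝟙 _) (Y.affineCover.f i) (𝟙 _) (by simp) (by simp) ≫
          pullback.fst (Spec.map φ) g := (pullback.lift_fst _ _ _).symm
    exact this _ (heq ▸ AlgebraicGeometry.IsZariskiLocalAtSource.comp h _) ⟨_, rfl⟩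
  obtain ⟨S, rfl⟩ := hY
  refine of_pullback_fst_Spec_of_codescendsAlong (P := PW)
    (P' := (@Flat ⊓ @Surjective) ⊓ @QuasiCompact) (Q := W) (Q' := RingHom.FaithfullyFlat)
    hcod ?_ ?_ hf h
  · intro _ _ f hf
    rw [← flat_and_surjective_SpecMap_iff]
    exact hf.1
  · intro _ _ f
    exact HasRingHomProperty.Spec_iff (P := PW)

end Sch

theorem perfMor_descent {X S X' S' : Scheme.{u}} (f : X ⟶ S) (f' : X' ⟶ S')
    (g' : X' ⟶ X) (g : S' ⟶ S) [Flat g] [Surjective g] [QuasiCompact g]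
    (hc : IsPullback g' f' f g) (hf' : MoreMor.IsPerfectMor f') : MoreMor.IsPerfectMor f := by
  rw [perfMor_iff] at hf' ⊢
  haveI := descendsAlong_of_flat (PW := PP)
    (fun f f' g' g _ hc hf => baseChange_of_flat QP_sourceStable QP_tensor f f' g' g hc hf)
    QP_codescends
  exact MorphismProperty.of_isPullback_of_descendsAlong (P := PP)
    (Q := (@Flat ⊓ @Surjective) ⊓ @QuasiCompact) hc.flip
    ⟨⟨inferInstance, inferInstance⟩, inferInstance⟩ hf'

theorem pcMor_descent {X S X' S' : Scheme.{u}} (f : X ⟶ S) (f' : X' ⟶ S')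
    (g' : X' ⟶ X) (g : S' ⟶ S) [Flat g] [Surjective g] [QuasiCompact g]
    (hc : IsPullback g' f' f g) (hf' : MoreMor.IsPseudoCoherentMor f') :
    MoreMor.IsPseudoCoherentMor f := by
  rw [pcMor_iff] at hf' ⊢
  haveI := descendsAlong_of_flat (PW := P)
    (fun f f' g' g _ hc hf => baseChange_of_flat Q_sourceStable Q_tensor f f' g' g hc hf)
    Q_codescends
  exact MorphismProperty.of_isPullback_of_descendsAlong (P := P)
    (Q := (@Flat ⊓ @Surjective) ⊓ @QuasiCompact) hc.flip
    ⟨⟨inferInstance, inferInstance⟩, inferInstance⟩ hf'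

end Groth.Agent.Helper11.PerfMor
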