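import Groth.Agent.Lib.Helper11.DCTrim
import Groth.Agent.Lib.Helper11.DCCone2
import Groth.Prelude.Def_DRing2
import Mathlib.CategoryTheory.Abelian.Projective.Extend
import Mathlib.Algebra.Homology.Embedding.RestrictionHomology
import Mathlib.Algebra.Homology.SingleHomology
import Mathlib.Algebra.Homology.DerivedCategory.TStructure

/-!
Perfect modules and finite projective resolutions (helper11).
-/

set_option autoImplicit false

open CategoryTheory Category Limits DerivedCategory

attribute [local instance] HasDerivedCategory.standard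

universe u

namespace Groth.Agent.Helper11.PerfRes

open Groth.Agent.Helper11.DC

variable {R : Type u} [CommRing R]

/-- a bounded projective resolution with finite terms gives a perfect module -/
theorem isPerfect_of_projRes (M : ModuleCat.{u} R) (P : ProjectiveResolution M) (d : ℕ)
    (hz : ∀ i : ℕ, d < i → IsZero (P.complex.X i))
    (hf : ∀ i : ℕ, Module.Finite R (P.complex.X i)) :
    DRing.IsPerfect R ((DerivedCategory.singleFunctor (ModuleCat.{u} R) 0).obj M) := by
  refine ⟨P.cochainComplex, -(d : ℤ), 0, ?_, ?_, ⟨?_⟩⟩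
  · intro i hi
    rcases hi with hi | hi
    · obtain ⟨k, rfl⟩ := Int.exists_eq_neg_ofNat (show i ≤ 0 by omega)
      exact (hz k (by omega)).of_iso (P.cochainComplexXIso (-(k : ℤ)) k rfl)
    · exact CochainComplex.isZero_of_isStrictlyLE _ 0 _ hi
  · intro i
    by_cases hi : i ≤ 0
    · obtain ⟨k, rfl⟩ := Int.exists_eq_neg_ofNat hi
      let e := P.cochainComplexXIso (-(k : ℤ)) k rfl
      constructor
      · haveI := hf k
        exact Module.Finite.equiv e.symm.toLinearEquiv
      · haveI : Module.Projective R (P.complex.X k) :=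
          (IsProjective.iff_projective _).mpr (P.projective k)
        exact Module.Projective.of_equiv e.symm.toLinearEquiv
    · have hz' : IsZero (P.cochainComplex.X i) :=
        CochainComplex.isZero_of_isStrictlyLE _ 0 _ (by omega)
      haveI : Subsingleton (P.cochainComplex.X i) := ModuleCat.subsingleton_of_isZero hz'
      exact ⟨inferInstance, inferInstance⟩
  · haveI : IsIso (Q.map P.π') := by
      rw [isIso_Q_map_iff_quasiIso]
      infer_instance
    exact asIso (Q.map P.π') ≪≫ ((singleFunctorIsoCompQ (ModuleCat.{u} R) 0).app M).symm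

/-- a quasi-isomorphism from a complex of projectives in nonpositive degrees to a module gives a
projective resolution. -/
theorem exists_projRes_of_quasiIso (M : ModuleCat.{u} R) (E : DRing.Cx R)
    (hz : ∀ i : ℤ, 0 < i → IsZero (E.X i)) (hp : ∀ i, Module.Projective R (E.X i))
    (f : E ⟶ (HomologicalComplex.single (ModuleCat.{u} R) (ComplexShape.up ℤ) 0).obj M)
    [QuasiIso f] :
    ∃ P : ProjectiveResolution M, ∀ n : ℕ, Nonempty (P.complex.X n ≅ E.X (-(n : ℤ))) := by
  let e := ComplexShape.embeddingDownNat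
  let P : ChainComplex (ModuleCat.{u} R) ℕ := E.restriction e
  let sX := HomologicalComplex.singleObjXSelf (ComplexShape.up ℤ) 0 M
  let i0 : P.X 0 ≅ E.X 0 := E.restrictionXIso e (by simp [e])
  let i1 : P.X 1 ≅ E.X (-1) := E.restrictionXIso e (by simp [e])
  have hd10 : P.d 1 0 = i1.hom ≫ E.d (-1) 0 ≫ i0.inv := E.restriction_d_eq e _ _
  have hdf : E.d (-1) 0 ≫ f.f 0 = 0 := by
    rw [← f.comm (-1) 0]
    exact comp_zero
  -- exactness of `E` at `0`
  have h0 : (ShortComplex.mk (E.d (-1) 0) (f.f 0) hdf).Exact ∧ Epi (f.f 0) := by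
    have hq : QuasiIsoAt f 0 := inferInstance
    rw [quasiIsoAt_iff' f (-1) 0 1 (by simp) (by simp),
      ShortComplex.quasiIso_iff_of_zeros' _ ((hz 1 (by omega)).eq_of_tgt _ _) rfl rfl] at hq
    exact hq
  let π : P ⟶ (ChainComplex.single₀ (ModuleCat.{u} R)).obj M :=
    (ChainComplex.toSingle₀Equiv P M).symm ⟨i0.hom ≫ f.f 0 ≫ sX.hom, by
      rw [hd10]
      simp only [assoc, Iso.inv_hom_id_assoc]
      rw [reassoc_of% hdf, zero_comp, comp_zero]⟩
  have hPex : ∀ n : ℕ, P.ExactAt (n + 1) := fun n => by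
    rw [HomologicalComplex.exactAt_iff' _ (n + 1 + 1) (n + 1) n (by simp) (by simp)]
    have hE : E.ExactAt (-((n + 1 : ℕ) : ℤ)) :=
      (quasiIsoAt_iff_exactAt' f _ (HomologicalComplex.exactAt_single_obj _ _ _ _
        (by push_cast; omega))).1 inferInstance
    rw [HomologicalComplex.exactAt_iff' _ (-((n + 1 + 1 : ℕ) : ℤ)) (-((n + 1 : ℕ) : ℤ)) (-(n : ℤ))
      (by rw [CochainComplex.prev]; push_cast; ring)
      (by rw [CochainComplex.next]; push_cast; ring)] at hE
    exact (ShortComplex.exact_iff_of_iso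
      (HomologicalComplex.restriction.sc'Iso E e (n + 1 + 1) (n + 1) n rfl rfl rfl
        (by
          show (ComplexShape.up ℤ).prev (-((n + 1 : ℕ) : ℤ)) = -((n + 1 + 1 : ℕ) : ℤ)
          rw [CochainComplex.prev]; push_cast; ring)
        (by
          show (ComplexShape.up ℤ).next (-((n + 1 : ℕ) : ℤ)) = -(n : ℤ)
          rw [CochainComplex.next]; push_cast; ring))).2 hE
  refine ⟨{ complex := P
            projective := fun n => (IsProjective.iff_projective _).mp (hp _)
            π := π
            quasiIso := ⟨fun n => ?_⟩ }, fun n => ⟨E.restrictionXIso e rfl⟩⟩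
  cases n with
  | zero =>
    rw [ChainComplex.quasiIsoAt₀_iff,
      ShortComplex.quasiIso_iff_of_zeros' _ (P.shape 0 0 (by simp)) rfl rfl]
    refine (ShortComplex.exact_and_epi_g_iff_of_iso ?_).2 h0
    refine ShortComplex.isoMk i1 i0 sX.symm ?_ ?_
    · show P.d 1 0 ≫ i0.hom = i1.hom ≫ E.d (-1) 0
      rw [hd10]
      simp only [assoc, Iso.inv_hom_id, comp_id]
    · have hπ0 : π.f 0 = i0.hom ≫ f.f 0 ≫ sX.hom := by simp [π]
      have h2 : (i0.hom ≫ f.f 0 ≫ sX.hom) ≫ sX.inv = i0.hom ≫ f.f 0 := by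
        rw [assoc, assoc, Iso.hom_inv_id, comp_id]
      exact (congrArg (fun t => t ≫ sX.inv) hπ0).trans h2
  | succ n =>
    rw [quasiIsoAt_iff_exactAt']
    · exact hPex n
    · apply ChainComplex.exactAt_succ_single_obj

/-- a perfect module has a bounded resolution by finite projective modules -/
theorem exists_projRes_of_isPerfect (M : ModuleCat.{u} R)
    (h : DRing.IsPerfect R ((DerivedCategory.singleFunctor (ModuleCat.{u} R) 0).obj M)) :
    ∃ (P : ProjectiveResolution M) (d : ℕ), (∀ i : ℕ, d < i → IsZero (P.complex.X i)) ∧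
      ∀ i : ℕ, Module.Finite R (P.complex.X i) := by
  obtain ⟨E, a, b, hE, hfp, ⟨e⟩⟩ := h
  have hH : ∀ i : ℤ, 0 < i →
      IsZero ((homologyFunctor (ModuleCat.{u} R) i).obj (Q.obj E)) := by
    intro i hi
    have h0 : IsZero ((homologyFunctor (ModuleCat.{u} R) i).obj
        ((DerivedCategory.singleFunctor (ModuleCat.{u} R) 0).obj M)) :=
      DerivedCategory.isZero_of_isLE _ 0 i hi
    exact h0.of_iso ((homologyFunctor (ModuleCat.{u} R) i).mapIso e)
  have h1 : ((max b 0).toNat : ℤ) = max b 0 := Int.toNat_of_nonneg (le_max_right _ _)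
  obtain ⟨E', π, hπ, hz, -⟩ := trim_to (max b 0).toNat E 0 (max b 0) (by rw [h1, zero_add])
    (fun i hi => hE i (Or.inr (lt_of_le_of_lt (le_max_left _ _) hi))) (fun i => (hfp i).2) hH
  have hproj' : ∀ i, Module.Projective R (E'.X i) := fun i => hπ.projective i (hfp i).2
  have hfin' : ∀ i, Module.Finite R (E'.X i) := fun i => hπ.finite i (hfp i).1
  have hlow : ∀ i, i < a → IsZero (E'.X i) := fun i hi => hπ.isZero i (hE i (Or.inl hi))
  haveI : E'.IsKProjective := isKProjective_of_vanishesAbove E' 0 hz hproj'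
  haveI := hπ.iso
  let S := (HomologicalComplex.single (ModuleCat.{u} R) (ComplexShape.up ℤ) 0).obj M
  let eS : (DerivedCategory.singleFunctor (ModuleCat.{u} R) 0).obj M ≅ Q.obj S :=
    (singleFunctorIsoCompQ (ModuleCat.{u} R) 0).app M
  obtain ⟨f, hf⟩ := exists_lift_of_isKProjective E' S (inv (Q.map π) ≫ e.hom ≫ eS.hom)
  haveI : QuasiIso f := by
    rw [← isIso_Q_map_iff_quasiIso, hf]
    infer_instance
  obtain ⟨P, hP⟩ := exists_projRes_of_quasiIso M E' hz hproj' f
  refine ⟨P, a.natAbs, fun i hi => ?_, fun i => ?_⟩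
  · obtain ⟨ι⟩ := hP i
    exact (hlow _ (by omega)).of_iso ι
  · obtain ⟨ι⟩ := hP i
    haveI := hfin' (-(i : ℤ))
    exact Module.Finite.equiv ι.symm.toLinearEquiv

end Groth.Agent.Helper11.PerfRes
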