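import Groth.Agent.Lib.Helper11.Dev4

/-!
The Koszul-type short exact sequence `0 → B ⊗_A M → B ⊗_A M → M → 0` for a retraction
`ev : B → A` of `c : A → B` whose kernel is generated by a "variable" (helper11).
-/

set_option autoImplicit false

open CategoryTheory CategoryTheory.Limits TensorProduct

universe u

namespace Groth.Agent.Helper11.PolyZ

open Groth.Agent.Helper11.TA Groth.Agent.Helper11.Dev

variable {A B : Type u} [CommRing A] [CommRing B] (c : A →+* B) (ev : B →+* A)
  (hev : ∀ a, ev (c a) = a)

include hev in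
/-- identity on elements: `M` is its own restriction along `c` then `ev` -/
noncomputable def θM (M : ModuleCat.{u} A) :
    M ⟶ (ModuleCat.restrictScalars.{u} c).obj ((ModuleCat.restrictScalars.{u} ev).obj M) :=
  ModuleCat.ofHom (Y := (ModuleCat.restrictScalars.{u} c).obj
      ((ModuleCat.restrictScalars.{u} ev).obj M))
    { toFun := fun m => m
      map_add' := fun _ _ => rfl
      map_smul' := fun a m => by
        show a • m = ev (c a) • m
        rw [hev] }

/-- the augmentation `B ⊗_A M ⟶ M`, `b ⊗ m ↦ ev b • m` -/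
noncomputable def εM (M : ModuleCat.{u} A) :
    (es c).obj M ⟶ (ModuleCat.restrictScalars.{u} ev).obj M :=
  (es c).map (θM c ev hev M) ≫ (ModuleCat.extendRestrictScalarsAdj.{u} c).counit.app _

open ChangeOfRings in
theorem εM_tmul (M : ModuleCat.{u} A) (b : B) (m : M) :
    (εM c ev hev M).hom (b ⊗ₜ[A, c] m) = (ev b • m : M) := rfl

variable (xB : B) (dv : B →+ B) (hdv : ∀ a b, dv (c a * b) = c a * dv b)

/-- `dv` as an `A`-linear endomorphism of `B` (`A` acting through `c`) -/
noncomputable def dvL : ((ModuleCat.restrictScalars.{u} c).obj (ModuleCat.of B B)) →ₗ[A]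
    ((ModuleCat.restrictScalars.{u} c).obj (ModuleCat.of B B)) where
  toFun b := dv b
  map_add' := dv.map_add
  map_smul' a b := hdv a b

/-- the contracting map `dv ⊗ id` on `B ⊗_A M` -/
noncomputable def DM (M : ModuleCat.{u} A) : (es c).obj M → (es c).obj M :=
  fun n => TensorProduct.map (dvL c dv hdv) (LinearMap.id : M →ₗ[A] M) n

open ChangeOfRings in
theorem DM_tmul (M : ModuleCat.{u} A) (b : B) (m : M) :
    DM c dv hdv M (b ⊗ₜ[A, c] m) = (dv b) ⊗ₜ[A, c] m := rfl

theorem DM_add (M : ModuleCat.{u} A) (x y : (es c).obj M) :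
    DM c dv hdv M (x + y) = DM c dv hdv M x + DM c dv hdv M y :=
  map_add (TensorProduct.map (dvL c dv hdv) (LinearMap.id : M →ₗ[A] M)) x y

theorem DM_zero (M : ModuleCat.{u} A) : DM c dv hdv M 0 = 0 :=
  map_zero (TensorProduct.map (dvL c dv hdv) (LinearMap.id : M →ₗ[A] M))

/-- the section `m ↦ 1 ⊗ m` -/
noncomputable def secM (M : ModuleCat.{u} A) : M → (es c).obj M :=
  fun m => (ModuleCat.extendRestrictScalarsAdj.{u} c).unit.app M m

open ChangeOfRings in
theorem secM_eq (M : ModuleCat.{u} A) (m : M) : secM c M m = (1 : B) ⊗ₜ[A, c] m := rfl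

theorem secM_add (M : ModuleCat.{u} A) (x y : M) :
    secM c M (x + y) = secM c M x + secM c M y :=
  map_add ((ModuleCat.extendRestrictScalarsAdj.{u} c).unit.app M).hom x y

theorem secM_zero (M : ModuleCat.{u} A) : secM c M 0 = 0 :=
  map_zero ((ModuleCat.extendRestrictScalarsAdj.{u} c).unit.app M).hom

set_option backward.isDefEq.respectTransparency false in
open ChangeOfRings in
theorem decomp (h1 : ∀ b, xB * dv b + c (ev b) = b) (M : ModuleCat.{u} A)
    (n : (es c).obj M) :
    xB • DM c dv hdv M n + secM c M ((εM c ev hev M).hom n) = n := by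
  induction n using TensorProduct.induction_on with
  | zero =>
    rw [DM_zero, smul_zero, map_zero, secM_zero, add_zero]
  | tmul b m =>
    rw [DM_tmul, εM_tmul, secM_eq, ModuleCat.ExtendScalars.smul_tmul]
    letI : Module A B := Module.compHom B c
    have h : (1 : B) ⊗ₜ[A, c] (ev b • m : M) = (c (ev b)) ⊗ₜ[A, c] m := by
      have := (TensorProduct.smul_tmul (R := A) (R' := A) (ev b) (1 : B) m).symm
      refine this.trans ?_
      congr 1
      exact mul_one _
    rw [h]
    refine (TensorProduct.add_tmul (R := A) (xB * dv b) (c (ev b)) m).symm.trans ?_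
    rw [h1]
  | add x y hx hy =>
    rw [DM_add, smul_add, map_add, secM_add]
    calc _ = (xB • DM c dv hdv M x + secM c M ((εM c ev hev M).hom x)) +
        (xB • DM c dv hdv M y + secM c M ((εM c ev hev M).hom y)) := by abel
      _ = x + y := by rw [hx, hy]

set_option backward.isDefEq.respectTransparency false in
open ChangeOfRings in
theorem DM_smul (h2 : ∀ b, dv (xB * b) = b) (M : ModuleCat.{u} A) (n : (es c).obj M) :
    DM c dv hdv M (xB • n) = n := by
  induction n using TensorProduct.induction_on with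
  | zero => rw [smul_zero, DM_zero]
  | tmul b m => rw [ModuleCat.ExtendScalars.smul_tmul, DM_tmul, h2]
  | add x y hx hy => rw [smul_add, DM_add, hx, hy]

/-- multiplication by `xB` on `B ⊗_A M` -/
noncomputable def mulM (M : ModuleCat.{u} A) : (es c).obj M ⟶ (es c).obj M :=
  xB • 𝟙 ((es c).obj M)

theorem mulM_apply (M : ModuleCat.{u} A) (n : (es c).obj M) :
    (mulM c xB M).hom n = xB • n := rfl

include hdv in
theorem injective_mulM (h2 : ∀ b, dv (xB * b) = b) (M : ModuleCat.{u} A) :
    Function.Injective (mulM c xB M).hom := by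
  intro x y hxy
  have := congrArg (DM c dv hdv M) hxy
  rwa [mulM_apply, mulM_apply, DM_smul c xB dv hdv h2, DM_smul c xB dv hdv h2] at this

theorem surjective_εM (M : ModuleCat.{u} A) : Function.Surjective (εM c ev hev M).hom := by
  intro (m : M)
  refine ⟨secM c M m, ?_⟩
  have : (εM c ev hev M).hom (secM c M m) = (ev 1 • m : M) := εM_tmul c ev hev M 1 m
  rw [this, map_one, one_smul]

include hdv in
theorem exact_mulM_εM (h1 : ∀ b, xB * dv b + c (ev b) = b) (h3 : ev xB = 0)
    (M : ModuleCat.{u} A) :
    Function.Exact (mulM c xB M).hom (εM c ev hev M).hom := by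
  intro n
  constructor
  · intro hn
    refine ⟨DM c dv hdv M n, ?_⟩
    have h := decomp c ev hev xB dv hdv h1 M n
    have h0 : secM c M ((εM c ev hev M).hom n) = 0 :=
      (congrArg (secM c M) hn).trans (secM_zero c M)
    rw [h0, add_zero] at h
    exact h
  · rintro ⟨n', rfl⟩
    rw [mulM_apply, map_smul]
    show (ev xB • ((εM c ev hev M).hom n' : M) : M) = 0
    rw [h3, zero_smul]

set_option backward.isDefEq.respectTransparency false in
/-- the augmentation as a morphism of complexes -/
noncomputable def εC (T : DRing.Cx A) : (esC c).obj T ⟶ (rsC ev).obj T where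
  f i := εM c ev hev (T.X i)
  comm' i j _ := by
    apply ModuleCat.ExtendScalars.hom_ext
    intro m
    show (T.d i j).hom (ev 1 • m) = ev 1 • (T.d i j).hom m
    exact map_smul _ _ _

/-- multiplication by `xB` on `B ⊗_A T` -/
noncomputable def mulC (T : DRing.Cx A) : (esC c).obj T ⟶ (esC c).obj T :=
  xB • 𝟙 ((esC c).obj T)

theorem mulC_f (T : DRing.Cx A) (i : ℤ) : (mulC c xB T).f i = mulM c xB (T.X i) := rfl

include hdv in
theorem mulC_εC (h1 : ∀ b, xB * dv b + c (ev b) = b) (h3 : ev xB = 0) (T : DRing.Cx A) :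
    mulC c xB T ≫ εC c ev hev T = 0 := by
  ext i : 1
  rw [HomologicalComplex.comp_f, HomologicalComplex.zero_f, mulC_f]
  apply ModuleCat.hom_ext
  exact (exact_mulM_εM c ev hev xB dv hdv h1 h3 (T.X i)).linearMap_comp_eq_zero

include hdv in
theorem shortExact_mulC_εC (h1 : ∀ b, xB * dv b + c (ev b) = b) (h2 : ∀ b, dv (xB * b) = b)
    (h3 : ev xB = 0) (T : DRing.Cx A) :
    (ShortComplex.mk (mulC c xB T) (εC c ev hev T)
      (mulC_εC c ev hev xB dv hdv h1 h3 T)).ShortExact := by
  apply HomologicalComplex.shortExact_of_degreewise_shortExact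
  intro j
  have hmono : Mono ((ShortComplex.mk (mulC c xB T) (εC c ev hev T)
      (mulC_εC c ev hev xB dv hdv h1 h3 T)).map (HomologicalComplex.eval _ _ j)).f := by
    rw [ModuleCat.mono_iff_injective]
    exact injective_mulM c xB dv hdv h2 (T.X j)
  have hepi : Epi ((ShortComplex.mk (mulC c xB T) (εC c ev hev T)
      (mulC_εC c ev hev xB dv hdv h1 h3 T)).map (HomologicalComplex.eval _ _ j)).g := by
    rw [ModuleCat.epi_iff_surjective]
    exact surjective_εM c ev hev (T.X j)
  have hex : ((ShortComplex.mk (mulC c xB T) (εC c ev hev T)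
      (mulC_εC c ev hev xB dv hdv h1 h3 T)).map (HomologicalComplex.eval _ _ j)).Exact := by
    rw [ShortComplex.ShortExact.moduleCat_exact_iff_function_exact]
    exact exact_mulM_εM c ev hev xB dv hdv h1 h3 (T.X j)
  exact { exact := hex, mono_f := hmono, epi_g := hepi }

include hev hdv in
/-- the Koszul-type resolution: `cone (xB : B ⊗_A T → B ⊗_A T)` is quasi-isomorphic to `T`
regarded as a complex of `B`-modules through `ev` -/
theorem exists_quasiIso_mappingCone (h1 : ∀ b, xB * dv b + c (ev b) = b)
    (h2 : ∀ b, dv (xB * b) = b) (h3 : ev xB = 0) (T : DRing.Cx A) :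
    ∃ g : CochainComplex.mappingCone (mulC c xB T) ⟶ (rsC ev).obj T, QuasiIso g :=
  ⟨_, CochainComplex.mappingCone.quasiIso_descShortComplex
    (shortExact_mulC_εC c ev hev xB dv hdv h1 h2 h3 T)⟩

end Groth.Agent.Helper11.PolyZ
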