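import Groth.Agent.Lib.Helper11.PolyZ1
import Groth.Agent.Lib.Helper11.LocalPerf6

/-!
Derived base change of `K` along a retraction `ev : B → A` of `c : A → B` with kernel generated
by a non-zero-divisor "variable": `K ⊗^L_B A ≅ K ⊞ K[1]` (helper11).
-/

set_option autoImplicit false

open CategoryTheory CategoryTheory.Limits

universe u

namespace Groth.Agent.Helper11.PolyZ

open Groth.Agent.Helper11.TA Groth.Agent.Helper11.Dev Groth.Agent.Helper11.LDer
  Groth.Agent.Helper11.LocalPerf

attribute [local instance] HasDerivedCategory.standard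

variable {A B : Type u} [CommRing A] [CommRing B]

/-- the cone of a morphism that vanishes in the derived category splits -/
theorem nonempty_mappingCone_iso_biprod {K L : DRing.Cx A} (f : K ⟶ L)
    (hf : DerivedCategory.Q.map f = 0) :
    Nonempty (DerivedCategory.Q.obj (CochainComplex.mappingCone f) ≅
      DerivedCategory.Q.obj L ⊞ (shiftFunctor (Dual.D A) (1 : ℤ)).obj (DerivedCategory.Q.obj K)) := by
  have hT := DerivedCategory.mappingCone_triangle_distinguished f
  have hT' := Pretriangulated.rot_of_distTriang _ hT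
  obtain ⟨e, -, -⟩ := Pretriangulated.exists_iso_binaryBiproduct_of_distTriang _ hT' (by
    show -(shiftFunctor (Dual.D A) (1 : ℤ)).map (DerivedCategory.Q.map f) = 0
    rw [hf, Functor.map_zero, neg_zero])
  exact ⟨e⟩

set_option backward.isDefEq.respectTransparency false in
open ChangeOfRings TensorProduct in
/-- multiplication by an element of the kernel dies after base change -/
theorem esC_map_smul_eq_zero (ev : B →+* A) (xB : B) (h3 : ev xB = 0) (E : DRing.Cx B) :
    (esC ev).map (xB • 𝟙 E) = 0 := by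
  ext i : 1
  rw [Functor.mapHomologicalComplex_map_f, HomologicalComplex.zero_f]
  apply ModuleCat.ExtendScalars.hom_ext
  intro m
  show (1 : A) ⊗ₜ[B, ev] (xB • m) = 0
  letI : Module B A := Module.compHom A ev
  rw [← TensorProduct.smul_tmul (R := B) (R' := B) xB (1 : A) m]
  have : (xB • (1 : A)) = 0 := by
    show ev xB * 1 = 0
    rw [h3, zero_mul]
  rw [this, TensorProduct.zero_tmul]

/-- extension of scalars along the identity -/
noncomputable def esCIdIso (T : DRing.Cx A) : (esC (RingHom.id A)).obj T ≅ T :=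
  HomologicalComplex.Hom.isoOfComponents
    (fun i => (ModuleCat.extendScalarsId.{u} A).app (T.X i))
    (fun i j _ => ((ModuleCat.extendScalarsId.{u} A).hom.naturality (T.d i j)).symm)

/-- extension of scalars along a retraction pair -/
noncomputable def esCRetractIso (c : A →+* B) (ev : B →+* A) (h : ev.comp c = RingHom.id A)
    (T : DRing.Cx A) : (esC ev).obj ((esC c).obj T) ≅ T :=
  (esCCompIso c ev T).symm ≪≫ eqToIso (by rw [h]) ≪≫ esCIdIso T

/-- `K ⊗^L_B A ≅ K ⊞ K[1]` for a retraction `ev : B → A` of `c : A → B` whose kernel is generated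
by a "variable" `xB` (with a division-by-`xB` operator `dv`) -/
theorem nonempty_LBaseChange_restrictD_iso (c : A →+* B) (ev : B →+* A)
    (hev : ∀ a, ev (c a) = a) (xB : B) (dv : B →+ B)
    (hdv : ∀ a b, dv (c a * b) = c a * dv b) (h1 : ∀ b, xB * dv b + c (ev b) = b)
    (h2 : ∀ b, dv (xB * b) = b) (h3 : ev xB = 0) [DRing.HasLBaseChange ev] (K : Dual.D A)
    [HasBinaryBiproduct K ((shiftFunctor (Dual.D A) (1 : ℤ)).obj K)] :
    Nonempty ((DRing.LBaseChange ev).obj ((DRing.restrictD ev).obj K) ≅
      K ⊞ (shiftFunctor (Dual.D A) (1 : ℤ)).obj K) := by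
  obtain ⟨T, hTK, -, ⟨e⟩⟩ := Groth.Agent.Helper11.Tel.exists_kprojective_rep K
  haveI := hTK
  haveI : ((esC c).obj T).IsKProjective := isKProjective_esC c T
  haveI : (CochainComplex.mappingCone (mulC c xB T)).IsKProjective :=
    Groth.Agent.Helper11.Tel.isKProjective_mappingCone _
  obtain ⟨g, hg⟩ := exists_quasiIso_mappingCone c ev hev xB dv hdv h1 h2 h3 T
  haveI : IsIso (DerivedCategory.Q.map g) :=
    (DerivedCategory.isIso_Q_map_iff_quasiIso (φ := g)).mpr hg
  let e1 : (DRing.restrictD ev).obj K ≅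
      DerivedCategory.Q.obj (CochainComplex.mappingCone (mulC c xB T)) :=
    (DRing.restrictD ev).mapIso e.symm ≪≫
      ((ModuleCat.restrictScalars.{u} ev).mapDerivedCategoryFactors.app T) ≪≫
      (asIso (DerivedCategory.Q.map g)).symm
  let e2 := (DRing.LBaseChange ev).mapIso e1 ≪≫
    LBaseChangeIso ev (CochainComplex.mappingCone (mulC c xB T))
  let e3 := DerivedCategory.Q.mapIso
    (CochainComplex.mappingCone.mapHomologicalComplexIso (mulC c xB T) (es ev))
  obtain ⟨e4⟩ := nonempty_mappingCone_iso_biprod ((esC ev).map (mulC c xB T)) (by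
    rw [mulC, esC_map_smul_eq_zero ev xB h3, Functor.map_zero])
  have hcomp : ev.comp c = RingHom.id A := RingHom.ext hev
  let e5 : DerivedCategory.Q.obj ((esC ev).obj ((esC c).obj T)) ≅ K :=
    DerivedCategory.Q.mapIso (esCRetractIso c ev hcomp T) ≪≫ e
  exact ⟨e2 ≪≫ e3 ≪≫ e4 ≪≫ biprod.mapIso e5 ((shiftFunctor (Dual.D A) (1 : ℤ)).mapIso e5)⟩

end Groth.Agent.Helper11.PolyZ
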