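/-
Power torsion modules: elementary facts (helper11).
-/
import Groth.Prelude.Def_Wider
import Groth.Prelude.Def_DRing3
import Mathlib.RingTheory.Support
import Mathlib.RingTheory.Finiteness.Ideal
import Mathlib.Algebra.Module.LocalizedModule.Basic
import Mathlib.LinearAlgebra.Quotient.Basic

set_option autoImplicit false

namespace Groth.Agent.Helper11

universe u

variable {R : Type u} [CommRing R]

/-- If `I ≤ rad (Ann m)` and `I` is f.g. then a power of `I` kills `m`. -/
theorem exists_pow_smul_eq_zero_of_le_radical (I : Ideal R) (hI : I.FG) {M : Type*}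
    [AddCommGroup M] [Module R M] (m : M)
    (h : I ≤ ((R ∙ m).annihilator).radical) : ∃ n : ℕ, ∀ a ∈ I ^ n, a • m = 0 := by
  obtain ⟨n, hn⟩ := Ideal.exists_pow_le_of_le_radical_of_fg h hI
  exact ⟨n, fun a ha => Submodule.mem_annihilator_span_singleton _ _ |>.mp (hn ha)⟩

theorem support_subset_zeroLocus_of_isPowerTorsion (I : Ideal R) (M : Type u) [AddCommGroup M]
    [Module R M] (h : LocCoh.IsPowerTorsion I M) :
    Module.support R M ⊆ PrimeSpectrum.zeroLocus (I : Set R) := by
  intro p hp
  obtain ⟨m, hm⟩ := Module.mem_support_iff_exists_annihilator.mp hp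
  obtain ⟨n, hn⟩ := h m
  have h1 : I ^ n ≤ p.asIdeal := by
    intro a ha
    exact hm ((Submodule.mem_annihilator_span_singleton _ _).mpr (hn a ha))
  exact (PrimeSpectrum.mem_zeroLocus _ _).mpr (p.isPrime.le_of_pow_le h1)

theorem isPowerTorsion_of_support_subset_zeroLocus (I : Ideal R) (hI : I.FG) (M : Type u)
    [AddCommGroup M] [Module R M]
    (h : Module.support R M ⊆ PrimeSpectrum.zeroLocus (I : Set R)) :
    LocCoh.IsPowerTorsion I M := by
  intro m
  apply exists_pow_smul_eq_zero_of_le_radical I hI m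
  have h1 : PrimeSpectrum.zeroLocus (((R ∙ m).annihilator : Ideal R) : Set R) ⊆
      PrimeSpectrum.zeroLocus (I : Set R) := by
    intro p hp
    apply h
    exact Module.mem_support_iff_exists_annihilator.mpr ⟨m, (PrimeSpectrum.mem_zeroLocus _ _).mp hp⟩
  exact (PrimeSpectrum.zeroLocus_subset_zeroLocus_iff _ _).mp h1

/-- Quotient by the power-torsion submodule has no `I`-torsion when `I` is f.g. -/
theorem torsionBy_quotient_torsionSub (I : Ideal R) (hI : I.FG) (M : Type u) [AddCommGroup M]
    [Module R M] : LocCoh.torsionBy I (M ⧸ DRing.torsionSub I M) = ⊥ := by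
  rw [eq_bot_iff]
  intro y hy
  obtain ⟨m, rfl⟩ := Submodule.Quotient.mk_surjective _ y
  rw [Submodule.mem_bot, Submodule.Quotient.mk_eq_zero]
  -- every element of `I` maps `m` into the torsion submodule
  have h1 : ∀ c ∈ I, c • m ∈ DRing.torsionSub I M := by
    intro c hc
    have := (Submodule.mem_torsionBySet_iff _ _).mp hy ⟨c, hc⟩
    rwa [← Submodule.Quotient.mk_smul, Submodule.Quotient.mk_eq_zero] at this
  -- so `I ≤ rad (Ann m)`
  apply exists_pow_smul_eq_zero_of_le_radical I hI m
  intro c hc
  obtain ⟨n, hn⟩ := h1 c hc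
  refine ⟨n + 1, (Submodule.mem_annihilator_span_singleton _ _).mpr ?_⟩
  have h2 : c ^ n ∈ I ^ n := Ideal.pow_mem_pow hc n
  rw [pow_succ, mul_smul]
  exact hn _ h2

theorem torsionBy_eq_bot_iff_pow (I : Ideal R) (M : Type*) [AddCommGroup M] [Module R M] :
    LocCoh.torsionBy I M = ⊥ ↔ ∀ n : ℕ, 1 ≤ n → LocCoh.torsionBy (I ^ n) M = ⊥ := by
  constructor
  · intro h n hn
    induction n, hn using Nat.le_induction with
    | base => rwa [pow_one]
    | succ n hn ih =>
      rw [eq_bot_iff]
      intro m hm
      have h1 : ∀ a ∈ I ^ n, a • m = 0 := by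
        intro a ha
        have h2 : a • m ∈ LocCoh.torsionBy I M := by
          rw [Submodule.mem_torsionBySet_iff]
          rintro ⟨c, hc⟩
          rw [smul_smul]
          have hmem : c * a ∈ I ^ (n + 1) := by
            rw [pow_succ, mul_comm c a]
            exact Ideal.mul_mem_mul ha hc
          exact (Submodule.mem_torsionBySet_iff _ _).mp hm ⟨c * a, hmem⟩
        rw [h] at h2
        exact h2
      have h3 : m ∈ LocCoh.torsionBy (I ^ n) M := by
        rw [Submodule.mem_torsionBySet_iff]
        rintro ⟨a, ha⟩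
        exact h1 a ha
      rw [ih] at h3
      exact h3
  · intro h
    have := h 1 le_rfl
    rwa [pow_one] at this

theorem torsionBy_eq_bot_iff_localization {t : ℕ} (f : Fin t → R) (I : Ideal R)
    (hI : Ideal.span (Set.range f) = I) (M : Type*) [AddCommGroup M] [Module R M] :
    LocCoh.torsionBy I M = ⊥ ↔
      ∀ m : M, (∀ i : Fin t, LocalizedModule.mkLinearMap (Submonoid.powers (f i)) M m = 0) →
        m = 0 := by
  constructor
  · intro h m hm
    have hfg : I.FG := by
      classical
      exact ⟨Finset.univ.image f, by rw [← hI]; simp⟩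
    have hrad : I ≤ ((R ∙ m).annihilator).radical := by
      rw [← hI, Ideal.span_le]
      rintro _ ⟨i, rfl⟩
      obtain ⟨⟨_, k, rfl⟩, hs⟩ :=
        (IsLocalizedModule.eq_zero_iff (Submonoid.powers (f i))
          (LocalizedModule.mkLinearMap (Submonoid.powers (f i)) M)).mp (hm i)
      exact ⟨k, (Submodule.mem_annihilator_span_singleton _ _).mpr hs⟩
    obtain ⟨n, hn⟩ := exists_pow_smul_eq_zero_of_le_radical I hfg m hrad
    rcases Nat.eq_zero_or_pos n with rfl | hpos
    · have := hn 1 (by simp)
      simpa using this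
    · have h1 := (torsionBy_eq_bot_iff_pow I M).mp h n hpos
      have h2 : m ∈ LocCoh.torsionBy (I ^ n) M := by
        rw [Submodule.mem_torsionBySet_iff]
        rintro ⟨a, ha⟩
        exact hn a ha
      rw [h1] at h2
      exact h2
  · intro h
    rw [eq_bot_iff]
    intro m hm
    apply h m
    intro i
    rw [IsLocalizedModule.eq_zero_iff (Submonoid.powers (f i))]
    refine ⟨⟨f i, Submonoid.mem_powers _⟩, ?_⟩
    have hfi : f i ∈ I := hI ▸ Ideal.subset_span ⟨i, rfl⟩
    exact (Submodule.mem_torsionBySet_iff _ _).mp hm ⟨f i, hfi⟩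

end Groth.Agent.Helper11
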