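/-
Power torsion modules form a Serre class (helper11).
-/
import Groth.Agent.Lib.Helper11.PowTorsion
import Mathlib.CategoryTheory.Abelian.SerreClass.Basic
import Mathlib.Algebra.Category.ModuleCat.Abelian
import Mathlib.Algebra.Category.ModuleCat.EpiMono
import Mathlib.Algebra.Homology.ShortComplex.ModuleCat

set_option autoImplicit false

namespace Groth.Agent.Helper11

open CategoryTheory

universe u

variable {R : Type u} [CommRing R]

theorem isSerreClass_isPowerTorsion (I : Ideal R) (hI : I.FG) :
    ObjectProperty.IsSerreClass (C := ModuleCat.{u} R)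
      (fun M => LocCoh.IsPowerTorsion I M) := by
  refine { exists_zero := ?_, prop_of_mono := ?_, prop_of_epi := ?_, prop_X₂_of_shortExact := ?_ }
  · refine ⟨ModuleCat.of R PUnit, ModuleCat.isZero_of_subsingleton _, ?_⟩
    intro m
    exact ⟨0, fun a _ => Subsingleton.elim _ _⟩
  · intro X Y f hf hY x
    have hinj : Function.Injective f := (ModuleCat.mono_iff_injective f).mp hf
    obtain ⟨n, hn⟩ := hY (f x)
    refine ⟨n, fun a ha => hinj ?_⟩
    rw [map_smul, hn a ha, map_zero]
  · intro X Y f hf hX y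
    have hsurj : Function.Surjective f := (ModuleCat.epi_iff_surjective f).mp hf
    obtain ⟨x, rfl⟩ := hsurj y
    obtain ⟨n, hn⟩ := hX x
    refine ⟨n, fun a ha => ?_⟩
    rw [← map_smul, hn a ha, map_zero]
  · intro S hS h₁ h₃ m
    apply exists_pow_smul_eq_zero_of_le_radical I hI m
    intro c hc
    obtain ⟨n, hn⟩ := h₃ (S.g m)
    have h1 : S.g (c ^ n • m) = 0 := by
      rw [map_smul]
      exact hn _ (Ideal.pow_mem_pow hc n)
    obtain ⟨x₁, hx₁⟩ := (ShortComplex.moduleCat_exact_iff S).mp hS.exact _ h1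
    obtain ⟨k, hk⟩ := h₁ x₁
    refine ⟨k + n, (Submodule.mem_annihilator_span_singleton _ _).mpr ?_⟩
    rw [pow_add, mul_smul, ← hx₁, ← map_smul, hk _ (Ideal.pow_mem_pow hc k), map_zero]

end Groth.Agent.Helper11
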