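import Mathlib

set_option autoImplicit false
universe u
open CategoryTheory CategoryTheory.Limits AlgebraicGeometry

namespace Groth.Agent.Helper11.ProdClosure

theorem key {S X Y P : Scheme.{u}} [IsIntegral S] [Subsingleton S] (f : X ⟶ S) (g : Y ⟶ S)
    (q : P ⟶ X) (p : P ⟶ Y) (h : IsPullback q p f g) (z : P) (W : Set P) (hW : IsOpen W)
    (hz : z ∈ W) (A : Set X) (hA : q z ∈ closure A) :
    ∃ z' ∈ W, q z' ∈ A ∧ p z' = p z := by
  let y : Y := p z
  let ι := Y.fromSpecResidueField y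
  let j : pullback p ι ⟶ P := pullback.fst p ι
  let s : pullback p ι ⟶ Spec (Y.residueField y) := pullback.snd p ι
  have hpb : IsPullback (j ≫ q) s f (ι ≫ g) := (IsPullback.of_hasPullback p ι).paste_horiz h
  haveI : UniversallyOpen (ι ≫ g) := inferInstance
  haveI : UniversallyOpen (j ≫ q) := MorphismProperty.of_isPullback hpb.flip inferInstance
  have hopen : IsOpenMap (j ≫ q) := (j ≫ q).isOpenMap
  obtain ⟨pt⟩ : Nonempty (Spec (Y.residueField y)) := inferInstance
  obtain ⟨zt, hzt1, hzt2⟩ := Scheme.Pullback.exists_preimage_pullback (f := p) (g := ι) z pt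
    (by rw [Scheme.fromSpecResidueField_apply])
  have hWo : IsOpen (j ⁻¹' W) := hW.preimage j.continuous
  have hmem : q z ∈ (j ≫ q) '' (j ⁻¹' W) := by
    refine ⟨zt, ?_, ?_⟩
    · show j zt ∈ W
      rw [hzt1]; exact hz
    · rw [Scheme.Hom.comp_apply, hzt1]
  obtain ⟨a, ⟨w, hw1, hw2⟩, haA⟩ := mem_closure_iff.1 hA _ (hopen _ hWo) hmem
  refine ⟨j w, hw1, ?_, ?_⟩
  · rw [Scheme.Hom.comp_apply] at hw2
    rw [hw2]; exact haA
  · have : p (j w) = ι (s w) := by
      rw [← Scheme.Hom.comp_apply, ← Scheme.Hom.comp_apply, pullback.condition]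
    rw [this, Scheme.fromSpecResidueField_apply]

theorem closure_prod {S X Y P : Scheme.{u}} [IsIntegral S] [Subsingleton S] (f : X ⟶ S) (g : Y ⟶ S)
    (q : P ⟶ X) (p : P ⟶ Y) (h : IsPullback q p f g) (A : Set X) (B : Set Y) :
    closure (q ⁻¹' A ∩ p ⁻¹' B) = q ⁻¹' closure A ∩ p ⁻¹' closure B := by
  apply Set.Subset.antisymm
  · refine (closure_inter_subset_inter_closure _ _).trans (Set.inter_subset_inter ?_ ?_)
    · exact q.continuous.closure_preimage_subset A
    · exact p.continuous.closure_preimage_subset B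
  · rintro z ⟨hzA, hzB⟩
    rw [mem_closure_iff]
    intro W hW hz
    obtain ⟨z', hz'W, hz'A, hz'p⟩ := key f g q p h z W hW hz A hzA
    have hB' : p z' ∈ closure B := by rw [hz'p]; exact hzB
    obtain ⟨z'', hz''W, hz''B, hz''q⟩ := key g f p q h.flip z' W hW hz'W B hB'
    refine ⟨z'', hz''W, ?_, hz''B⟩
    show q z'' ∈ A
    rw [hz''q]; exact hz'A

end Groth.Agent.Helper11.ProdClosure
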