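import Groth.Agent.Lib.Helper11.Glue1
import Groth.Agent.Lib.Helper11.Dev2

/-!
The projection formula `X|_A ⊗_A M ≅ (X ⊗_B (B ⊗_A M))|_A` for complexes (helper11).
-/

set_option autoImplicit false

open CategoryTheory CategoryTheory.Limits MonoidalCategory TensorProduct

universe u

namespace Groth.Agent.Helper11.ProjF

open Groth.Agent.Helper11.DC Groth.Agent.Helper11.TA Groth.Agent.Helper11.LDer
  Groth.Agent.Helper11.Dev

attribute [local instance] HasDerivedCategory.standard

variable {A B : Type u} [CommRing A] [CommRing B] [Algebra A B]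

/-- the base change `B ⊗_A M` as a `B`-module -/
noncomputable abbrev bc (M : ModuleCat.{u} A) : ModuleCat.{u} B := ModuleCat.of B (B ⊗[A] M)

theorem cancel_symm_smul {X M : Type u} [AddCommGroup X] [Module B X] [Module A X]
    [IsScalarTower A B X] [AddCommGroup M] [Module A M] (a : A) (t : X ⊗[A] M) :
    (AlgebraTensorModule.cancelBaseChange A B B X M).symm (a • t) =
      algebraMap A B a • (AlgebraTensorModule.cancelBaseChange A B B X M).symm t := by
  rw [← map_smul, algebraMap_smul]

/-- projection formula, termwise -/
noncomputable def projEquiv (X : ModuleCat.{u} B) (M : ModuleCat.{u} A) :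
    (((ModuleCat.restrictScalars.{u} (algebraMap A B)).obj X) ⊗ M : ModuleCat.{u} A) ≃ₗ[A]
      ((ModuleCat.restrictScalars.{u} (algebraMap A B)).obj (X ⊗ bc M) : ModuleCat.{u} A) := by
  letI : Module A X := ((ModuleCat.restrictScalars.{u} (algebraMap A B)).obj X).isModule
  haveI hST : IsScalarTower A B X := ⟨fun r a m => by rw [Algebra.smul_def, mul_smul]; rfl⟩
  exact
  { toFun := (AlgebraTensorModule.cancelBaseChange A B B X M).symm
    invFun := AlgebraTensorModule.cancelBaseChange A B B X M
    map_add' := map_add _
    map_smul' := fun a t => cancel_symm_smul (X := X) (M := M) a t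
    left_inv := (AlgebraTensorModule.cancelBaseChange A B B X M).symm.left_inv
    right_inv := (AlgebraTensorModule.cancelBaseChange A B B X M).symm.right_inv }

theorem projEquiv_tmul (X : ModuleCat.{u} B) (M : ModuleCat.{u} A) (x : X) (m : M) :
    projEquiv X M (x ⊗ₜ[A] m) = x ⊗ₜ[B] ((1 : B) ⊗ₜ[A] m) := rfl

/-- projection formula for complexes -/
noncomputable def rsTensIso (T : DRing.Cx B) (M : ModuleCat.{u} A) :
    (tens M).obj ((rsC (algebraMap A B)).obj T) ≅
      (rsC (algebraMap A B)).obj ((tens (bc M)).obj T) :=
  HomologicalComplex.Hom.isoOfComponents (fun i => (projEquiv (T.X i) M).toModuleIso)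
    (fun i j _ => by
      apply ModuleCat.hom_ext
      apply LinearMap.ext
      intro t
      induction t using TensorProduct.induction_on with
      | zero => exact (map_zero _).trans (map_zero _).symm
      | tmul x m => rfl
      | add x y hx hy => exact (map_add _ x y).trans ((congrArg₂ (· + ·) hx hy).trans
          (map_add _ x y).symm))

/-- Tor-vanishing of the restriction computes the homology of `T ⊗_B (B ⊗_A M)` -/
theorem isZero_homology_tens_bc (T : DRing.Cx B) (a b : ℤ)
    (h : TorVanCx a b ((rsC (algebraMap A B)).obj T)) (M : ModuleCat.{u} A) (i : ℤ)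
    (hi : i < a ∨ b < i) : IsZero (((tens (bc M)).obj T).homology i) := by
  have h0 : IsZero (((tens M).obj ((rsC (algebraMap A B)).obj T)).homology i) :=
    (h M i hi).of_iso
      ((DerivedCategory.homologyFunctorFactors (ModuleCat.{u} A) i).app _).symm
  rw [← isZero_homology_rsC_iff (algebraMap A B)]
  exact h0.of_iso ((HomologicalComplex.homologyFunctor _ _ i).mapIso (rsTensIso T M)).symm

end Groth.Agent.Helper11.ProjF
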