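import Groth.Agent.Lib.Helper11.Proj1
import Groth.Agent.Lib.Helper11.TorPD

/-!
Dévissage along projective dimension for `H^i(T ⊗ -)` (helper11).
-/

set_option autoImplicit false

open CategoryTheory CategoryTheory.Limits MonoidalCategory TensorProduct

universe u

namespace Groth.Agent.Helper11.ProjF

open Groth.Agent.Helper11.DC Groth.Agent.Helper11.TA Groth.Agent.Helper11.LDer
  Groth.Agent.Helper11.Dev Groth.Agent.Helper11.Glue

attribute [local instance] HasDerivedCategory.standard

variable {B : Type u} [CommRing B]

/-- dévissage, right end of the long exact sequence -/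
theorem isZero_homology_tens_of_ses₃ (T : DRing.Cx B) (hT : ∀ i, Module.Flat B (T.X i))
    {M₁ M₂ M₃ : ModuleCat.{u} B} (f : M₁ ⟶ M₂) (g : M₂ ⟶ M₃)
    (hf : Function.Injective f.hom) (hg : Function.Surjective g.hom)
    (hfg : Function.Exact f.hom g.hom) (i j : ℤ) (hij : i + 1 = j)
    (h2 : IsZero (((tens M₂).obj T).homology i)) (h1 : IsZero (((tens M₁).obj T).homology j)) :
    IsZero (((tens M₃).obj T).homology i) := by
  obtain ⟨w, hS⟩ := exists_tens_shortExact T hT f g hf hg hfg
  have hex := hS.homology_exact₃ i j (by simpa using hij)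
  exact hex.isZero_of_both_isZero h2 h1

/-- vanishing of `H^i(T ⊗ -)` passes to retracts -/
theorem isZero_homology_tens_of_retract (T : DRing.Cx B) {N G : ModuleCat.{u} B} (ι : N ⟶ G)
    (r : G ⟶ N) (h : ι ≫ r = 𝟙 N) (i : ℤ) (hG : IsZero (((tens G).obj T).homology i)) :
    IsZero (((tens N).obj T).homology i) := by
  have hcomp : (tensMap ι).app T ≫ (tensMap r).app T = 𝟙 _ := by
    ext j : 1
    show T.X j ◁ ι ≫ T.X j ◁ r = 𝟙 (T.X j ⊗ N)
    rw [← MonoidalCategory.whiskerLeft_comp, h, MonoidalCategory.whiskerLeft_id]
  rw [IsZero.iff_id_eq_zero]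
  have h1 : 𝟙 (((tens N).obj T).homology i) =
      HomologicalComplex.homologyMap ((tensMap ι).app T) i ≫
        HomologicalComplex.homologyMap ((tensMap r).app T) i := by
    rw [← HomologicalComplex.homologyMap_comp, hcomp, HomologicalComplex.homologyMap_id]
  rw [h1, hG.eq_of_tgt (HomologicalComplex.homologyMap ((tensMap ι).app T) i) 0, zero_comp]

variable {S : Type u} [CommRing S] (ψ : B →+* S)

/-- projective modules: retracts of free modules -/
theorem isZero_homology_tens_of_projective (T : DRing.Cx B) (i : ℤ)
    (hfree : ∀ J : Type u, IsZero (((tens ((ModuleCat.restrictScalars.{u} ψ).obj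
      (ModuleCat.of S (J →₀ S)))).obj T).homology i))
    (N : ModuleCat.{u} S) [Projective N] :
    IsZero (((tens ((ModuleCat.restrictScalars.{u} ψ).obj N)).obj T).homology i) := by
  haveI : Module.Projective S N := (IsProjective.iff_projective (R := S) N).mpr
    (Projective.of_iso (Iso.refl _ : N ≅ ModuleCat.of S N) inferInstance)
  obtain ⟨s, hs⟩ := Module.projective_def'.mp (inferInstance : Module.Projective S N)
  refine isZero_homology_tens_of_retract T
    ((ModuleCat.restrictScalars.{u} ψ).map (ModuleCat.ofHom (X := N)
      (Y := ModuleCat.of S (N →₀ S)) s))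
    ((ModuleCat.restrictScalars.{u} ψ).map (ModuleCat.ofHom (X := ModuleCat.of S (N →₀ S))
      (Y := N) (Finsupp.linearCombination S id))) ?_ i (hfree N)
  rw [← Functor.map_comp, ← ModuleCat.ofHom_comp, hs]
  exact CategoryTheory.Functor.map_id _ _

/-- dévissage along the projective dimension -/
theorem isZero_homology_tens_of_pdLT (T : DRing.Cx B) (hT : ∀ i, Module.Flat B (T.X i))
    (a b : ℤ)
    (hfree : ∀ (J : Type u) (i : ℤ), (i < a ∨ b < i) →
      IsZero (((tens ((ModuleCat.restrictScalars.{u} ψ).obj
        (ModuleCat.of S (J →₀ S)))).obj T).homology i)) :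
    ∀ (e : ℕ) (N : ModuleCat.{u} S), HasProjectiveDimensionLT N (e + 1) →
      ∀ i : ℤ, (i < a - e ∨ b < i) →
        IsZero (((tens ((ModuleCat.restrictScalars.{u} ψ).obj N)).obj T).homology i) := by
  intro e
  induction e with
  | zero =>
    intro N hN i hi
    haveI : Projective N := projective_iff_hasProjectiveDimensionLT_one.mpr hN
    exact isZero_homology_tens_of_projective ψ T i
      (fun J => hfree J i (by simpa using hi)) N
  | succ n ih =>
    intro N hN i hi
    let S' : ShortComplex (ModuleCat.{u} S) :=
      ShortComplex.mk (kernel.ι (Projective.π N)) (Projective.π N) (kernel.condition _)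
    have hS : S'.ShortExact :=
      { exact := ShortComplex.exact_of_f_is_kernel _ (kernelIsKernel _)
        mono_f := by dsimp [S']; infer_instance
        epi_g := by dsimp [S']; infer_instance }
    haveI hPproj : Projective S'.X₂ := by dsimp [S']; infer_instance
    have hP : HasProjectiveDimensionLT S'.X₂ (n + 1) :=
      hasProjectiveDimensionLT_of_ge S'.X₂ 1 (n + 1) (by omega)
    have hK : HasProjectiveDimensionLT S'.X₁ (n + 1) :=
      hS.hasProjectiveDimensionLT_X₁ (n + 1) hP hN
    have hf : Function.Injective S'.f.hom := (ModuleCat.mono_iff_injective _).mp hS.mono_f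
    have hg : Function.Surjective S'.g.hom := (ModuleCat.epi_iff_surjective _).mp hS.epi_g
    have hfg : Function.Exact S'.f.hom S'.g.hom :=
      (ShortComplex.ShortExact.moduleCat_exact_iff_function_exact _).mp hS.exact
    have hi' : i < a ∨ b < i := by
      rcases hi with hi | hi
      · left
        push_cast at hi
        omega
      · exact Or.inr hi
    have hmid := isZero_homology_tens_of_projective ψ T i (fun J => hfree J i hi') S'.X₂
    have hleft := ih S'.X₁ hK (i + 1) (by
      rcases hi with hi | hi
      · left
        push_cast at hi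
        omega
      · right
        omega)
    exact isZero_homology_tens_of_ses₃ T hT ((ModuleCat.restrictScalars.{u} ψ).map S'.f)
      ((ModuleCat.restrictScalars.{u} ψ).map S'.g) hf hg hfg i (i + 1) rfl hmid hleft

end Groth.Agent.Helper11.ProjF
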