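import Groth.Agent.Lib.Helper11.Proj2
import Mathlib.LinearAlgebra.DirectSum.Finsupp
import Mathlib.RingTheory.LocalRing.ResidueField.Ideal

/-!
Fibres with finite global dimension: Tor-vanishing for residue fields (helper11).
-/

set_option autoImplicit false

open CategoryTheory CategoryTheory.Limits MonoidalCategory TensorProduct

universe u

namespace Groth.Agent.Helper11.ProjF

open Groth.Agent.Helper11.DC Groth.Agent.Helper11.TA Groth.Agent.Helper11.LDer
  Groth.Agent.Helper11.Dev Groth.Agent.Helper11.Glue

attribute [local instance] HasDerivedCategory.standard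

variable {A B : Type u} [CommRing A] [CommRing B] [Algebra A B]

section Free

variable (κ : Type u) [CommRing κ] [Algebra A κ]

/-- the inclusion `B → κ ⊗_A B` -/
noncomputable abbrev incB : B →+* κ ⊗[A] B :=
  (Algebra.TensorProduct.includeRight : B →ₐ[A] κ ⊗[A] B).toRingHom

theorem comm_smul (b : B) (u : B ⊗[A] κ) :
    TensorProduct.comm A B κ (b • u) = incB κ b * TensorProduct.comm A B κ u := by
  induction u using TensorProduct.induction_on with
  | zero => rw [smul_zero, map_zero, mul_zero]
  | tmul b' k =>
    rw [TensorProduct.smul_tmul', TensorProduct.comm_tmul, TensorProduct.comm_tmul]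
    show k ⊗ₜ[A] (b • b') = ((1 : κ) ⊗ₜ[A] b) * (k ⊗ₜ[A] b')
    rw [Algebra.TensorProduct.tmul_mul_tmul, one_mul, smul_eq_mul]
  | add x y hx hy => rw [smul_add, map_add, map_add, hx, hy, mul_add]

/-- additive version of `freeEquiv` -/
noncomputable def freeAddEquiv (J : Type u) : (B ⊗[A] (J →₀ κ)) ≃+ (J →₀ κ ⊗[A] B) :=
  letI := Classical.decEq J
  (TensorProduct.finsuppRight A B B κ J).toAddEquiv.trans
    (Finsupp.mapRange.addEquiv (TensorProduct.comm A B κ).toAddEquiv)

theorem freeAddEquiv_apply (J : Type u) (t : B ⊗[A] (J →₀ κ)) (j : J) :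
    freeAddEquiv κ J t j = TensorProduct.comm A B κ
      ((letI := Classical.decEq J; TensorProduct.finsuppRight A B B κ J t) j) := rfl

theorem freeAddEquiv_smul (J : Type u) (b : B) (t : B ⊗[A] (J →₀ κ)) :
    freeAddEquiv κ J (b • t) = incB (A := A) κ b • freeAddEquiv κ J t := by
  ext j
  rw [freeAddEquiv_apply, map_smul, Finsupp.smul_apply, Finsupp.smul_apply, freeAddEquiv_apply,
    comm_smul, smul_eq_mul]

/-- a free `κ ⊗_A B`-module is, over `B`, the base change of a free `κ`-module -/
noncomputable def freeEquiv (J : Type u) :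
    (B ⊗[A] (J →₀ κ)) ≃ₗ[B] ((ModuleCat.restrictScalars.{u} (incB (A := A) (B := B) κ)).obj
      (ModuleCat.of (κ ⊗[A] B) (J →₀ κ ⊗[A] B))) :=
  { toFun := fun t => freeAddEquiv κ J t
    invFun := fun f => (freeAddEquiv κ J).symm (show J →₀ κ ⊗[A] B from f)
    map_add' := fun x y => map_add (freeAddEquiv κ J) x y
    map_smul' := fun b t => freeAddEquiv_smul κ J b t
    left_inv := fun t => (freeAddEquiv κ J).symm_apply_apply t
    right_inv := fun f => (freeAddEquiv κ J).apply_symm_apply (show J →₀ κ ⊗[A] B from f) }

/-- vanishing for free modules over the fibre ring -/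
theorem isZero_homology_tens_free (T : DRing.Cx B) (a b : ℤ)
    (h : TorVanCx a b ((rsC (algebraMap A B)).obj T)) (J : Type u) (i : ℤ)
    (hi : i < a ∨ b < i) :
    IsZero (((tens ((ModuleCat.restrictScalars.{u} (incB (A := A) (B := B) κ)).obj
      (ModuleCat.of (κ ⊗[A] B) (J →₀ κ ⊗[A] B)))).obj T).homology i) := by
  have h0 := isZero_homology_tens_bc T a b h (ModuleCat.of A (J →₀ κ)) i hi
  exact h0.of_iso ((HomologicalComplex.homologyFunctor _ _ i).mapIso
    ((tensIso (freeEquiv κ J).toModuleIso).app T)).symm

end Free

section Residue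

variable (A) (m : Ideal B) [m.IsMaximal]

/-- the prime of `A` below `m` -/
noncomputable abbrev below : PrimeSpectrum A := ⟨m.comap (algebraMap A B), inferInstance⟩

/-- the ring map `κ(p) ⊗_A B → κ(m)` -/
noncomputable def fibToRes : ((below A m).asIdeal.ResidueField ⊗[A] B) →ₐ[A] m.ResidueField :=
  Algebra.TensorProduct.lift
    (Ideal.ResidueField.mapₐ (below A m).asIdeal m (Algebra.ofId A B) rfl)
    (IsScalarTower.toAlgHom A B m.ResidueField) (fun _ _ => Commute.all _ _)

theorem fibToRes_incB (b : B) :
    fibToRes A m (incB (A := A) (below A m).asIdeal.ResidueField b) =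
      algebraMap B m.ResidueField b := by
  show fibToRes A m ((1 : (below A m).asIdeal.ResidueField) ⊗ₜ[A] b) = _
  rw [fibToRes, Algebra.TensorProduct.lift_tmul, map_one, one_mul]
  rfl

/-- the residue field of `m` as a module over the fibre ring -/
noncomputable abbrev resMod : ModuleCat.{u} ((below A m).asIdeal.ResidueField ⊗[A] B) :=
  (ModuleCat.restrictScalars.{u} (fibToRes A m).toRingHom).obj
    (ModuleCat.of m.ResidueField m.ResidueField)

/-- `B ⧸ m` is the residue field, as `B`-modules -/
noncomputable def quotEquiv : (B ⧸ m) ≃ₗ[B]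
    ((ModuleCat.restrictScalars.{u} (incB (A := A) (B := B) (below A m).asIdeal.ResidueField)).obj
      (resMod A m)) :=
  { toFun := fun x => algebraMap (B ⧸ m) m.ResidueField x
    invFun := fun y => (RingEquiv.ofBijective _
      m.bijective_algebraMap_quotient_residueField).symm y
    map_add' := map_add _
    map_smul' := fun b x => by
      show algebraMap (B ⧸ m) m.ResidueField (b • x) =
        fibToRes A m (incB (A := A) (below A m).asIdeal.ResidueField b) *
          algebraMap (B ⧸ m) m.ResidueField x
      rw [fibToRes_incB, Algebra.smul_def, map_mul,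
        ← IsScalarTower.algebraMap_apply B (B ⧸ m) m.ResidueField]
    left_inv := fun x => (RingEquiv.ofBijective _
      m.bijective_algebraMap_quotient_residueField).symm_apply_apply x
    right_inv := fun y => (RingEquiv.ofBijective _
      m.bijective_algebraMap_quotient_residueField).apply_symm_apply y }

end Residue

/-- fibres of finite global dimension: Tor-vanishing against the residue fields of `B` from
the tor amplitude over `A` -/
theorem isZero_homology_tens_quot_of_glDim (d : ℕ)
    (hgl : ∀ (p : PrimeSpectrum A) (M : Type u) [AddCommGroup M]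
      [Module (TensorProduct A p.asIdeal.ResidueField B) M],
      HasProjectiveDimensionLT (ModuleCat.of (TensorProduct A p.asIdeal.ResidueField B) M) (d + 1))
    (T : DRing.Cx B) (hT : ∀ i, Module.Flat B (T.X i)) (a b : ℤ)
    (h : TorVanCx a b ((rsC (algebraMap A B)).obj T)) (m : Ideal B) [m.IsMaximal] (i : ℤ)
    (hi : i < a - d ∨ b < i) :
    IsZero (((tens (ModuleCat.of B (B ⧸ m))).obj T).homology i) := by
  have h1 := isZero_homology_tens_of_pdLT
    (incB (A := A) (B := B) (below A m).asIdeal.ResidueField) T hT a b
    (fun J j hj => isZero_homology_tens_free (below A m).asIdeal.ResidueField T a b h J j hj)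
    d (resMod A m) (@hgl (below A m) m.ResidueField _ (resMod A m).isModule) i hi
  exact h1.of_iso ((HomologicalComplex.homologyFunctor _ _ i).mapIso
    ((tensIso (quotEquiv A m).toModuleIso).app T))

end Groth.Agent.Helper11.ProjF
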