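import Groth.Agent.Lib.Helper11.Glue3
import Groth.Agent.Lib.Helper11.RelPerfBC

/-!
Tor-vanishing along nilpotent surjections for termwise flat complexes (helper11).
-/

set_option autoImplicit false

open CategoryTheory CategoryTheory.Limits MonoidalCategory

universe u

namespace Groth.Agent.Helper11.RelNil

open Groth.Agent.Helper11.DC Groth.Agent.Helper11.TA Groth.Agent.Helper11.LDer
  Groth.Agent.Helper11.PRT Groth.Agent.Helper11.Dev

attribute [local instance] HasDerivedCategory.standard

variable {R' R : Type u} [CommRing R'] [CommRing R] (φ : R' →+* R)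

/-- `T ⊗ N` as the restriction of `(T ⊗ R) ⊗_R (N ⊗ R)` when `N ≅ N ⊗ R` -/
noncomputable def tensEsIso (T : DRing.Cx R') (N : ModuleCat.{u} R') (eN' : N ≅ N ⊗ Bm φ) :
    (tens N).obj T ≅ (rsC φ).obj ((tens ((es φ).obj N)).obj ((esC φ).obj T)) :=
  (tensIso eN').app T ≪≫
    ((Functor.mapHomologicalComplexCompIso
      (tensorRightTensor N (Bm φ)).symm (ComplexShape.up ℤ)).app T).symm ≪≫
    tensBmIso φ ((tens N).obj T) ≪≫ (rsC φ).mapIso (esTensIso φ T N).symm

variable (hφ : Function.Surjective φ)

/-- `R' ⧸ ker φ ≃ R` as `R'`-modules -/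
noncomputable def eBmSurj : (R' ⧸ RingHom.ker φ) ≃ₗ[R'] Bm φ :=
  { toFun := fun q => (RingHom.quotientKerEquivOfSurjective hφ q : R)
    invFun := fun x => (RingHom.quotientKerEquivOfSurjective hφ).symm (show R from x)
    map_add' := fun x y => map_add (RingHom.quotientKerEquivOfSurjective hφ) x y
    map_smul' := fun r q => by
      obtain ⟨y, rfl⟩ := Ideal.Quotient.mk_surjective q
      show RingHom.quotientKerEquivOfSurjective hφ (r • Ideal.Quotient.mk _ y) =
        φ r * RingHom.quotientKerEquivOfSurjective hφ (Ideal.Quotient.mk _ y)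
      rw [Algebra.smul_def, map_mul]
      rfl
    left_inv := fun q => (RingHom.quotientKerEquivOfSurjective hφ).symm_apply_apply q
    right_inv := fun x => (RingHom.quotientKerEquivOfSurjective hφ).apply_symm_apply _ }

/-- a module killed by `ker φ` is its own base change along the surjection `φ` -/
noncomputable def killedTensorIso (M : ModuleCat.{u} R')
    (hM : RingHom.ker φ • (⊤ : Submodule R' M) = ⊥) : M ≅ M ⊗ Bm φ :=
  ((Submodule.quotEquivOfEqBot _ hM).symm ≪≫ₗ
    (TensorProduct.quotTensorEquivQuotSMul M (RingHom.ker φ)).symm ≪≫ₗ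
    (TensorProduct.comm R' (R' ⧸ RingHom.ker φ) M) ≪≫ₗ
    (TensorProduct.congr (LinearEquiv.refl R' M) (eBmSurj φ hφ))).toModuleIso

include hφ in
/-- Tor-vanishing of a termwise flat complex from that of its base change along a nilpotent
surjection -/
theorem isZero_homology_tens_of_esC_iso (hnil : IsNilpotent (RingHom.ker φ))
    (F' : DRing.Cx R') (hF'f : ∀ i, Module.Flat R' (F'.X i)) (G : DRing.Cx R)
    (eG : (esC φ).obj F' ≅ G) (a b : ℤ) (hG : TorVanCx a b G)
    (M : ModuleCat.{u} R') (i : ℤ) (hi : i < a ∨ b < i) :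
    IsZero (((tens M).obj F').homology i) := by
  obtain ⟨n, hn⟩ := hnil
  refine isZero_homology_tens_of_pow_killed' (RingHom.ker φ) F' hF'f i (fun N hN => ?_) n M
    (by rw [hn, Submodule.zero_eq_bot, Submodule.bot_smul])
  have h0 : IsZero (((tens ((es φ).obj N)).obj G).homology i) :=
    (hG _ i hi).of_iso
      ((DerivedCategory.homologyFunctorFactors (ModuleCat.{u} R) i).app _).symm
  have h1 := (isZero_homology_rsC_iff φ _ i).mpr h0
  exact h1.of_iso ((HomologicalComplex.homologyFunctor _ _ i).mapIso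
    (tensEsIso φ F' N (killedTensorIso φ hφ N hN) ≪≫
      (rsC φ).mapIso ((tens ((es φ).obj N)).mapIso eG)))

end Groth.Agent.Helper11.RelNil
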