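import Groth.Agent.Lib.Helper11.Proj3
import Groth.Agent.Lib.Helper11.RelNil1

/-!
Local fibres: Tor-vanishing against modules killed by the maximal ideal (helper11).
-/

set_option autoImplicit false

open CategoryTheory CategoryTheory.Limits MonoidalCategory TensorProduct

universe u

namespace Groth.Agent.Helper11.ProjF

open Groth.Agent.Helper11.DC Groth.Agent.Helper11.TA Groth.Agent.Helper11.LDer
  Groth.Agent.Helper11.Dev Groth.Agent.Helper11.Glue Groth.Agent.Helper11.RelNil

attribute [local instance] HasDerivedCategory.standard

/-- tensoring with a flat module preserves vanishing of cohomology -/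
theorem isZero_homology_tens_of_flat_module {k : Type u} [CommRing k] (C : DRing.Cx k)
    (V : ModuleCat.{u} k) [Module.Flat k V] (i : ℤ) (h : IsZero (C.homology i)) :
    IsZero (((tens V).obj C).homology i) := by
  rw [← HomologicalComplex.exactAt_iff_isZero_homology] at h ⊢
  have h1 := range_eq_ker_of_exactAt C (i - 1) i (i + 1) (by omega) rfl h
  have hex : Function.Exact (C.d (i - 1) i).hom (C.d i (i + 1)).hom :=
    LinearMap.exact_iff.mpr h1.symm
  have hex' := Module.Flat.rTensor_exact V hex
  refine exactAt_of_ker_le_range _ (i - 1) i (i + 1) (by omega) rfl ?_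
  rw [tens_d_hom, tens_d_hom]
  exact (LinearMap.exact_iff.mp hex').le

variable {A B : Type u} [CommRing A] [CommRing B]

/-- if the base change of `T'` to a field `k = A ⧸ ker φ` has cohomology only in `[a, b]`, so has
`T' ⊗ N` for every module `N` killed by `ker φ` -/
theorem isZero_homology_tens_of_field_fibre {k : Type u} [Field k] (φ : A →+* k)
    (hφ : Function.Surjective φ) (T' : DRing.Cx A) (i : ℤ)
    (h : IsZero (((esC φ).obj T').homology i)) (N : ModuleCat.{u} A)
    (hN : RingHom.ker φ • (⊤ : Submodule A N) = ⊥) :
    IsZero (((tens N).obj T').homology i) := by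
  have h1 := isZero_homology_tens_of_flat_module ((esC φ).obj T') ((es φ).obj N) i h
  have h2 := (isZero_homology_rsC_iff φ _ i).mpr h1
  exact h2.of_iso ((HomologicalComplex.homologyFunctor _ _ i).mapIso
    (tensEsIso φ T' N (killedTensorIso φ hφ N hN)))

/-- single module version of `isZero_homology_tens_bc` -/
theorem isZero_homology_tens_bc' [Algebra A B] (T : DRing.Cx B) (M : ModuleCat.{u} A) (i : ℤ)
    (h : IsZero (((tens M).obj ((rsC (algebraMap A B)).obj T)).homology i)) :
    IsZero (((tens (bc M)).obj T).homology i) := by
  rw [← isZero_homology_rsC_iff (algebraMap A B)]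
  exact h.of_iso ((HomologicalComplex.homologyFunctor _ _ i).mapIso (rsTensIso T M)).symm

end Groth.Agent.Helper11.ProjF
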