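import Groth.Agent.Lib.Helper11.Proj4
import Groth.Agent.Lib.Lead.Hom3
import Mathlib.RingTheory.TensorProduct.Quotient

/-!
Flat local homomorphisms with regular closed fibre: Tor-vanishing against the residue field
(helper11).
-/

set_option autoImplicit false

open CategoryTheory CategoryTheory.Limits MonoidalCategory TensorProduct

universe u

namespace Groth.Agent.Helper11.ProjF

open Groth.Agent.Helper11.DC Groth.Agent.Helper11.TA Groth.Agent.Helper11.LDer
  Groth.Agent.Helper11.Dev Groth.Agent.Helper11.Glue Groth.Agent.Helper11.RelNil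

attribute [local instance] HasDerivedCategory.standard

variable (A B : Type u) [CommRing A] [CommRing B] [IsLocalRing A] [IsLocalRing B] [Algebra A B]
  [IsLocalHom (algebraMap A B)]

/-- the fibre ring `κ_A ⊗_A B` -/
abbrev FibRing : Type u := (A ⧸ IsLocalRing.maximalIdeal A) ⊗[A] B

/-- the fibre ring is `B ⧸ m_A B` -/
noncomputable def fibEquiv :
    (B ⧸ (IsLocalRing.maximalIdeal A).map (algebraMap A B)) ≃+* FibRing A B :=
  (Algebra.TensorProduct.quotIdealMapEquivQuotTensor B (IsLocalRing.maximalIdeal A)).toRingEquiv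

omit [IsLocalRing B] [IsLocalHom (algebraMap A B)] in
theorem fibEquiv_symm_incB (b : B) :
    (fibEquiv A B).symm (incB (A := A) (A ⧸ IsLocalRing.maximalIdeal A) b) =
      Ideal.Quotient.mk _ b := by
  rw [RingEquiv.symm_apply_eq]
  rfl

/-- the ring map from the fibre ring to the residue field of `B` -/
noncomputable def fibToResidue : FibRing A B →+* B ⧸ IsLocalRing.maximalIdeal B :=
  (Ideal.Quotient.factor (IsLocalRing.map_maximalIdeal_le (algebraMap A B))).comp
    (fibEquiv A B).symm.toRingHom

theorem fibToResidue_incB (b : B) :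
    fibToResidue A B (incB (A := A) (A ⧸ IsLocalRing.maximalIdeal A) b) =
      Ideal.Quotient.mk _ b := by
  show Ideal.Quotient.factor (IsLocalRing.map_maximalIdeal_le (algebraMap A B))
    ((fibEquiv A B).symm (incB (A := A) (A ⧸ IsLocalRing.maximalIdeal A) b)) = _
  rw [fibEquiv_symm_incB]
  rfl

/-- the residue field of `B` as a module over the fibre ring -/
noncomputable abbrev resModL : ModuleCat.{u} (FibRing A B) :=
  (ModuleCat.restrictScalars.{u} (fibToResidue A B)).obj
    (ModuleCat.of (B ⧸ IsLocalRing.maximalIdeal B) (B ⧸ IsLocalRing.maximalIdeal B))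

/-- the residue field of `B`, as a `B`-module, is the restriction of `resModL` -/
noncomputable def quotEquivL : (B ⧸ IsLocalRing.maximalIdeal B) ≃ₗ[B]
    ((ModuleCat.restrictScalars.{u} (incB (A := A) (B := B)
      (A ⧸ IsLocalRing.maximalIdeal A))).obj (resModL A B)) :=
  { toFun := fun x => x
    invFun := fun y => y
    map_add' := fun _ _ => rfl
    map_smul' := fun b x => by
      show b • x = fibToResidue A B (incB (A := A) (A ⧸ IsLocalRing.maximalIdeal A) b) * x
      rw [fibToResidue_incB, Algebra.smul_def]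
      rfl
    left_inv := fun _ => rfl
    right_inv := fun _ => rfl }

theorem killed_finsupp (J : Type u) :
    RingHom.ker (IsLocalRing.residue A) •
      (⊤ : Submodule A (ModuleCat.of A (J →₀ A ⧸ IsLocalRing.maximalIdeal A))) = ⊥ := by
  rw [eq_bot_iff, Submodule.smul_le]
  intro r hr n _
  rw [Submodule.mem_bot]
  ext j
  show r • (n j) = 0
  obtain ⟨y, hy⟩ := Ideal.Quotient.mk_surjective (n j)
  rw [← hy, ← Ideal.Quotient.mk_eq_mk, ← Submodule.Quotient.mk_smul, smul_eq_mul]
  have hr' : Ideal.Quotient.mk (IsLocalRing.maximalIdeal A) r = 0 := hr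
  rw [Ideal.Quotient.eq_zero_iff_mem] at hr'
  exact (Submodule.Quotient.mk_eq_zero _).mpr (Ideal.mul_mem_right _ _ hr')

/-- flat local homomorphism with regular closed fibre of dimension `d`: the fibre of `T` at the
residue field of `B` has cohomology in `[a - d, b]` if the fibre of `T|_A` at the residue field
of `A` has cohomology in `[a, b]` -/
theorem isZero_homology_tens_residue_of_regular_fibre (d : ℕ)
    [IsRegularLocalRing (B ⧸ (IsLocalRing.maximalIdeal A).map (algebraMap A B))]
    (hd : ringKrullDim (B ⧸ (IsLocalRing.maximalIdeal A).map (algebraMap A B)) = d)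
    (T : DRing.Cx B) (hT : ∀ i, Module.Flat B (T.X i)) (a b : ℤ)
    (hfib : ∀ i : ℤ, (i < a ∨ b < i) → IsZero (((esC (IsLocalRing.residue A)).obj
      ((rsC (algebraMap A B)).obj T)).homology i))
    (i : ℤ) (hi : i < a - d ∨ b < i) :
    IsZero (((tens (ModuleCat.of B (B ⧸ IsLocalRing.maximalIdeal B))).obj T).homology i) := by
  haveI : IsRegularLocalRing (FibRing A B) := IsRegularLocalRing.of_ringEquiv (fibEquiv A B)
  have hdS : ringKrullDim (FibRing A B) = d := by
    rw [← ringKrullDim_eq_of_ringEquiv (fibEquiv A B), hd]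
  have hpd := Groth.Agent.Lead.Hom.hasProjectiveDimensionLT_of_isRegularLocalRing hdS
    (resModL A B)
  have hfree : ∀ (J : Type u) (j : ℤ), (j < a ∨ b < j) →
      IsZero (((tens ((ModuleCat.restrictScalars.{u} (incB (A := A) (B := B)
        (A ⧸ IsLocalRing.maximalIdeal A))).obj
        (ModuleCat.of (FibRing A B) (J →₀ FibRing A B)))).obj T).homology j) := by
    intro J j hj
    have h1 := isZero_homology_tens_of_field_fibre (IsLocalRing.residue A)
      Ideal.Quotient.mk_surjective _ j (hfib j hj)
      (ModuleCat.of A (J →₀ A ⧸ IsLocalRing.maximalIdeal A)) (killed_finsupp A J)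
    have h2 := isZero_homology_tens_bc' T _ j h1
    exact h2.of_iso ((HomologicalComplex.homologyFunctor _ _ j).mapIso
      ((tensIso (freeEquiv (A ⧸ IsLocalRing.maximalIdeal A) J).toModuleIso).app T)).symm
  have h3 := isZero_homology_tens_of_pdLT (incB (A := A) (B := B)
    (A ⧸ IsLocalRing.maximalIdeal A)) T hT a b hfree d (resModL A B) hpd i hi
  exact h3.of_iso ((HomologicalComplex.homologyFunctor _ _ i).mapIso
    ((tensIso (quotEquivL A B).toModuleIso).app T))

end Groth.Agent.Helper11.ProjF
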