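import Groth.Agent.Lib.Helper11.NodeC
import Groth.Prelude.Def_ArtFun4

/-!
# Maps from a completed Noetherian local ring to Artinian local rings (helper11)
-/

set_option autoImplicit false
universe u
open IsLocalRing

namespace Groth.Agent.Helper11.PtPro

theorem exists_pow_eq_bot (A : Type u) [CommRing A] [IsLocalRing A] [IsArtinianRing A] :
    ∃ n : ℕ, maximalIdeal A ^ n = ⊥ := by
  have h := IsArtinianRing.isNilpotent_jacobson_bot (R := A)
  rw [IsLocalRing.jacobson_eq_maximalIdeal ⊥ bot_ne_top] at h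
  obtain ⟨n, hn⟩ := h
  exact ⟨n, hn⟩

section CA
variable {O : Type u} [CommRing O] [IsLocalRing O] [IsNoetherianRing O]

local notation "Ô" => AdicCompletion (maximalIdeal O) O

theorem exists_ext {A : Type u} [CommRing A] [IsLocalRing A] [IsArtinianRing A] (ψ : O →+* A)
    (hψ : ∀ t ∈ maximalIdeal O, ψ t ∈ maximalIdeal A) :
    ∃ φ : Ô →+* A, φ.comp (algebraMap O Ô) = ψ := by
  obtain ⟨n, hn⟩ := exists_pow_eq_bot A
  have hker : ∀ t ∈ maximalIdeal O ^ n, ψ t = 0 := by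
    intro t ht
    have h1 : ψ t ∈ (maximalIdeal O ^ n).map ψ := Ideal.mem_map_of_mem ψ ht
    rw [Ideal.map_pow] at h1
    have h2 : (maximalIdeal O).map ψ ≤ maximalIdeal A :=
      Ideal.map_le_iff_le_comap.2 (fun t ht => hψ t ht)
    have h3 := Ideal.pow_right_mono h2 n h1
    rw [hn] at h3
    exact h3
  refine ⟨(Ideal.Quotient.lift _ ψ hker).comp (AdicCompletion.evalₐ (maximalIdeal O) n).toRingHom, ?_⟩
  ext t
  have hof : algebraMap O Ô t = AdicCompletion.of (maximalIdeal O) O t := rfl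
  simp [hof]

theorem ext_unique {A : Type u} [CommRing A] [IsLocalRing A] [IsArtinianRing A] (φ₁ φ₂ : Ô →+* A)
    (h1 : ∀ t ∈ maximalIdeal O, φ₁ (algebraMap O Ô t) ∈ maximalIdeal A)
    (h : φ₁.comp (algebraMap O Ô) = φ₂.comp (algebraMap O Ô)) : φ₁ = φ₂ := by
  obtain ⟨n, hn⟩ := exists_pow_eq_bot A
  have hcomp : ∀ t, φ₁ (algebraMap O Ô t) = φ₂ (algebraMap O Ô t) := fun t => by
    have := congrArg (fun f => f t) h
    exact this
  have hkill : ∀ (φ : Ô →+* A), (∀ t ∈ maximalIdeal O, φ (algebraMap O Ô t) ∈ maximalIdeal A) →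
      ∀ z ∈ maximalIdeal Ô ^ n, φ z = 0 := by
    intro φ hφ z hz
    have h1 : φ z ∈ (maximalIdeal Ô ^ n).map φ := Ideal.mem_map_of_mem φ hz
    rw [Ideal.map_pow, AdicCompletion.maximalIdeal_eq_map, Ideal.map_map] at h1
    have h2 : (maximalIdeal O).map (φ.comp (algebraMap O Ô)) ≤ maximalIdeal A :=
      Ideal.map_le_iff_le_comap.2 (fun t ht => hφ t ht)
    have h3 := Ideal.pow_right_mono h2 n h1
    rw [hn] at h3
    exact h3
  have h2 : ∀ t ∈ maximalIdeal O, φ₂ (algebraMap O Ô t) ∈ maximalIdeal A := fun t ht => by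
    rw [← hcomp]
    exact h1 t ht
  ext r
  obtain ⟨o, ho⟩ := Groth.Agent.Helper11.NodeC.exists_sub_mem r n
  have e1 := hkill φ₁ h1 _ ho
  have e2 := hkill φ₂ h2 _ ho
  rw [map_sub, sub_eq_zero] at e1 e2
  rw [e1, e2, hcomp]

end CA

end Groth.Agent.Helper11.PtPro
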