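import Groth.Agent.Lib.Helper11.PtProA

/-!
# The local functor of a scheme at a rational point is prorepresentable (helper11)
-/

set_option autoImplicit false
universe u
open CategoryTheory CategoryTheory.Limits AlgebraicGeometry ArtFun ArtFun.Art IsLocalRing

namespace Groth.Agent.Helper11.PtPro

variable {k : Type u} [Field k] (M : Scheme.{u}) (m : M ⟶ Spec (CommRingCat.of k))
  (x₀ : Spec (CommRingCat.of k) ⟶ M)

/-- The augmentation of the local ring at the point. -/
noncomputable def resO : M.presheaf.stalk (x₀ (closedPoint k)) ⟶ CommRingCat.of k :=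
  Scheme.stalkClosedPointTo x₀

instance : IsLocalHom (resO M x₀).hom := Scheme.isLocalHom_stalkClosedPointTo' x₀

/-- The structure map of the local ring at the point. -/
noncomputable def κ : CommRingCat.of k ⟶ M.presheaf.stalk (x₀ (closedPoint k)) :=
  (Scheme.ΓSpecIso (CommRingCat.of k)).inv ≫ m.appTop ≫ M.presheaf.germ ⊤ _ trivial

theorem fromSpecStalk_comp :
    M.fromSpecStalk (x₀ (closedPoint k)) ≫ m = Spec.map (κ M m x₀) := by
  apply ext_of_isAffine
  have h1 : (Spec.map (κ M m x₀)).appTop =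
      (Scheme.ΓSpecIso _).hom ≫ κ M m x₀ ≫ (Scheme.ΓSpecIso _).inv := by
    rw [Scheme.ΓSpecIso_inv_naturality, Iso.hom_inv_id_assoc]
  have h2 : ∀ (X : Scheme.{u}) (h : (⊤ : X.Opens) ⟶ ⊤), X.presheaf.map h.op = 𝟙 _ := by
    intro X h
    rw [Subsingleton.elim h (𝟙 _), op_id, X.presheaf.map_id]
  rw [Scheme.Hom.comp_appTop, Scheme.fromSpecStalk_appTop, h1, h2, κ]
  simp only [Category.assoc, Category.comp_id, Iso.hom_inv_id_assoc]

theorem spec_resO : Spec.map (resO M x₀) ≫ M.fromSpecStalk (x₀ (closedPoint k)) = x₀ :=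
  Scheme.Spec_stalkClosedPointTo_fromSpecStalk x₀

theorem κ_resO (hx₀ : x₀ ≫ m = 𝟙 _) : κ M m x₀ ≫ resO M x₀ = 𝟙 _ := by
  apply Spec.map_injective
  rw [Spec.map_comp, ← fromSpecStalk_comp, ← Category.assoc, spec_resO, hx₀, Spec.map_id]


section Main
variable [IsLocallyNoetherian M]

theorem resO_mem (t : M.presheaf.stalk (x₀ (closedPoint k)))
    (ht : t ∈ maximalIdeal (M.presheaf.stalk (x₀ (closedPoint k)))) :
    (resO M x₀).hom t ∈ maximalIdeal k := by
  rw [mem_maximalIdeal, mem_nonunits_iff] at ht ⊢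
  intro hu
  exact ht (isUnit_of_map_unit (resO M x₀).hom t hu)

theorem resO_eq_zero (t : M.presheaf.stalk (x₀ (closedPoint k)))
    (ht : t ∈ maximalIdeal (M.presheaf.stalk (x₀ (closedPoint k)))) :
    (resO M x₀).hom t = 0 := by
  have := resO_mem M x₀ t ht
  rwa [IsLocalRing.maximalIdeal_eq_bot, Ideal.mem_bot] at this

/-- The completed local ring at the point. -/
abbrev Rc : Type u :=
  AdicCompletion (maximalIdeal (M.presheaf.stalk (x₀ (closedPoint k))))
    (M.presheaf.stalk (x₀ (closedPoint k)))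

/-- The completion map. -/
noncomputable abbrev ιc : M.presheaf.stalk (x₀ (closedPoint k)) →+* Rc M x₀ := algebraMap _ _

/-- The augmentation of the completed local ring. -/
noncomputable def ρ : Rc M x₀ →+* k :=
  Classical.choose (exists_ext (resO M x₀).hom (resO_mem M x₀))

theorem ρ_comp : (ρ M x₀).comp (ιc M x₀) = (resO M x₀).hom :=
  Classical.choose_spec (exists_ext (resO M x₀).hom (resO_mem M x₀))

theorem ρ_ι (t : M.presheaf.stalk (x₀ (closedPoint k))) :
    ρ M x₀ (ιc M x₀ t) = (resO M x₀).hom t := by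
  have := congrArg (fun f => f t) (ρ_comp M x₀)
  exact this

/-- The `k`-algebra structure on the completed local ring. -/
@[reducible] noncomputable def algR : Algebra k (Rc M x₀) :=
  ((ιc M x₀).comp (κ M m x₀).hom).toAlgebra

theorem resO_κ (hx₀ : x₀ ≫ m = 𝟙 _) (c : k) : (resO M x₀).hom ((κ M m x₀).hom c) = c := by
  have := congrArg (fun f => f.hom c) (κ_resO M m x₀ hx₀)
  exact this

/-- The prorepresenting ring. -/
noncomputable def theRing (hx₀ : x₀ ≫ m = 𝟙 _) : CRing k k :=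
  letI := algR M m x₀
  { carrier := Rc M x₀
    commRing := inferInstance
    algebra := algR M m x₀
    isLocalRing := inferInstance
    isNoetherianRing := Groth.Agent.Helper17.AR.isNoetherianRing_adicCompletion _
    res :=
      { toRingHom := ρ M x₀
        commutes' := fun c => by
          change ρ M x₀ (ιc M x₀ ((κ M m x₀).hom c)) = c
          rw [ρ_ι, resO_κ M m x₀ hx₀] }
    res_surjective := fun c => ⟨ιc M x₀ ((κ M m x₀).hom c), by
      change ρ M x₀ (ιc M x₀ ((κ M m x₀).hom c)) = c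
      rw [ρ_ι, resO_κ M m x₀ hx₀]⟩
    isAdicComplete := inferInstance }


variable (hx₀ : x₀ ≫ m = 𝟙 _)

theorem theRing_res_apply (r : Rc M x₀) : (theRing M m x₀ hx₀).res r = ρ M x₀ r := rfl

theorem theRing_algebraMap (c : k) :
    @algebraMap k (theRing M m x₀ hx₀).carrier _ _ (theRing M m x₀ hx₀).algebra c =
      ιc M x₀ ((κ M m x₀).hom c) := rfl

instance instIsLocalHomRes (A : Art k k) : IsLocalHom A.res.toRingHom := by
  refine ⟨fun a ha => ?_⟩
  by_contra h
  have h1 : a ∈ maximalIdeal A := (mem_maximalIdeal a).2 h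
  rw [Art.mem_maximalIdeal_iff] at h1
  have h2 : A.res.toRingHom a = 0 := h1
  rw [h2] at ha
  exact not_isUnit_zero ha

/-- The ring map `O → A` attached to an element of `h_R(A)`. -/
noncomputable def toHom (A : Art k k)
    (φ : HomSet (theRing M m x₀ hx₀).carrier (theRing M m x₀ hx₀).res A) :
    M.presheaf.stalk (x₀ (closedPoint k)) ⟶ CommRingCat.of A :=
  CommRingCat.ofHom (φ.1.toRingHom.comp (ιc M x₀))

theorem toHom_apply (A : Art k k)
    (φ : HomSet (theRing M m x₀ hx₀).carrier (theRing M m x₀ hx₀).res A)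
    (t : M.presheaf.stalk (x₀ (closedPoint k))) :
    (toHom M m x₀ hx₀ A φ).hom t = φ.1 (ιc M x₀ t) := rfl

/-- The morphism `Spec A → M` attached to an element of `h_R(A)`. -/
noncomputable def toG (A : Art k k)
    (φ : HomSet (theRing M m x₀ hx₀).carrier (theRing M m x₀ hx₀).res A) : spec A ⟶ M :=
  Spec.map (toHom M m x₀ hx₀ A φ) ≫ M.fromSpecStalk (x₀ (closedPoint k))

theorem toG_comp_m (A : Art k k)
    (φ : HomSet (theRing M m x₀ hx₀).carrier (theRing M m x₀ hx₀).res A) :
    toG M m x₀ hx₀ A φ ≫ m = specMap (ofBase A) := by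
  rw [toG, Category.assoc, fromSpecStalk_comp, ← Spec.map_comp]
  congr 1
  apply CommRingCat.hom_ext
  ext c
  change φ.1 (ιc M x₀ ((κ M m x₀).hom c)) = algebraMap k A c
  rw [← theRing_algebraMap M m x₀ hx₀ c]
  exact φ.1.commutes c

theorem res_toHom (A : Art k k)
    (φ : HomSet (theRing M m x₀ hx₀).carrier (theRing M m x₀ hx₀).res A) :
    toHom M m x₀ hx₀ A φ ≫ CommRingCat.ofHom A.res.toRingHom = resO M x₀ := by
  apply CommRingCat.hom_ext
  ext t
  change A.res (φ.1 (ιc M x₀ t)) = (resO M x₀).hom t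
  have h : A.res (φ.1 (ιc M x₀ t)) = (theRing M m x₀ hx₀).res (ιc M x₀ t) :=
    congrArg (fun f => f (ιc M x₀ t)) φ.2
  rw [h, theRing_res_apply, ρ_ι]

theorem specRes_toG (A : Art k k)
    (φ : HomSet (theRing M m x₀ hx₀).carrier (theRing M m x₀ hx₀).res A) :
    specRes A ≫ toG M m x₀ hx₀ A φ = x₀ := by
  rw [toG, ← Category.assoc, ← Spec.map_comp, res_toHom, spec_resO]


theorem toG_injective (A : Art k k) : Function.Injective (toG M m x₀ hx₀ A) := by
  intro φ₁ φ₂ h
  rw [toG, toG, cancel_mono] at h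
  have h' := Spec.map_injective h
  have hring : φ₁.1.toRingHom.comp (ιc M x₀) = φ₂.1.toRingHom.comp (ιc M x₀) := by
    have := congrArg CommRingCat.Hom.hom h'
    exact this
  have hmem : ∀ t ∈ maximalIdeal (M.presheaf.stalk (x₀ (closedPoint k))),
      φ₁.1.toRingHom (ιc M x₀ t) ∈ maximalIdeal A := by
    intro t ht
    rw [Art.mem_maximalIdeal_iff]
    have h1 : A.res (φ₁.1 (ιc M x₀ t)) = (theRing M m x₀ hx₀).res (ιc M x₀ t) :=
      congrArg (fun f => f (ιc M x₀ t)) φ₁.2
    change A.res (φ₁.1 (ιc M x₀ t)) = 0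
    rw [h1, theRing_res_apply, ρ_ι, resO_eq_zero M x₀ t ht]
  have := ext_unique φ₁.1.toRingHom φ₂.1.toRingHom hmem hring
  apply Subtype.ext
  apply AlgHom.ext
  intro r
  exact congrArg (fun f => f r) this

theorem toG_surjective_aux (A : Art k k) (g : spec A ⟶ M)
    (hg1 : g ≫ m = specMap (ofBase A)) (hg2 : specRes A ≫ g = x₀)
    (ψ : M.presheaf.stalk (x₀ (closedPoint k)) ⟶ CommRingCat.of A) [IsLocalHom ψ.hom]
    (hψ : g = Spec.map ψ ≫ M.fromSpecStalk (x₀ (closedPoint k))) :
    ∃ φ, toG M m x₀ hx₀ A φ = g := by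
  -- `ψ` is a `k`-algebra map
  have hk : κ M m x₀ ≫ ψ = CommRingCat.ofHom (ofBase A).toAlgHom.toRingHom := by
    apply Spec.map_injective
    rw [Spec.map_comp, ← fromSpecStalk_comp, ← Category.assoc, ← hψ, hg1]
    rfl
  have hkc : ∀ c : k, ψ.hom ((κ M m x₀).hom c) = algebraMap k A c := fun c => by
    have := congrArg (fun f => f.hom c) hk
    exact this
  -- `ψ` is compatible with the augmentations
  have hr : ψ ≫ CommRingCat.ofHom A.res.toRingHom = resO M x₀ := by
    apply Spec.map_injective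
    rw [← cancel_mono (M.fromSpecStalk (x₀ (closedPoint k))), spec_resO, Spec.map_comp,
      Category.assoc, ← hψ]
    exact hg2
  have hrc : ∀ t, A.res (ψ.hom t) = (resO M x₀).hom t := fun t => by
    have := congrArg (fun f => f.hom t) hr
    exact this
  have hloc : ∀ t ∈ maximalIdeal (M.presheaf.stalk (x₀ (closedPoint k))),
      ψ.hom t ∈ maximalIdeal A := by
    intro t ht
    rw [Art.mem_maximalIdeal_iff, hrc, resO_eq_zero M x₀ t ht]
  obtain ⟨φ₀, hφ₀⟩ := exists_ext ψ.hom hloc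
  have hφ₀' : ∀ t, φ₀ (ιc M x₀ t) = ψ.hom t := fun t => congrArg (fun f => f t) hφ₀
  letI := (theRing M m x₀ hx₀).algebra
  let φa : (theRing M m x₀ hx₀).carrier →ₐ[k] A :=
    { toRingHom := φ₀
      commutes' := fun c => by
        change φ₀ (ιc M x₀ ((κ M m x₀).hom c)) = algebraMap k A c
        rw [hφ₀', hkc] }
  have hres : A.res.comp φa = (theRing M m x₀ hx₀).res := by
    have h1 : (A.res.toRingHom.comp φ₀) = ρ M x₀ := by
      apply ext_unique
      · intro t ht
        change A.res (φ₀ (ιc M x₀ t)) ∈ maximalIdeal k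
        rw [hφ₀', hrc]
        exact resO_mem M x₀ t ht
      · ext t
        change A.res (φ₀ (ιc M x₀ t)) = ρ M x₀ (ιc M x₀ t)
        rw [hφ₀', hrc, ρ_ι]
    apply AlgHom.ext
    intro r
    exact congrArg (fun f => f r) h1
  refine ⟨⟨φa, hres⟩, ?_⟩
  rw [hψ]
  change Spec.map (toHom M m x₀ hx₀ A ⟨φa, hres⟩) ≫ _ = _
  congr 2
  apply CommRingCat.hom_ext
  exact hφ₀

theorem toG_surjective (A : Art k k) (g : spec A ⟶ M)
    (hg1 : g ≫ m = specMap (ofBase A)) (hg2 : specRes A ≫ g = x₀) :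
    ∃ φ, toG M m x₀ hx₀ A φ = g := by
  have hy : g (closedPoint A) = x₀ (closedPoint k) := by
    have h1 : g ((specRes A) (closedPoint k)) = x₀ (closedPoint k) := by
      rw [← hg2]
      rfl
    haveI : IsLocalHom (CommRingCat.ofHom A.res.toRingHom).hom := instIsLocalHomRes A
    have h2 : (specRes A) (closedPoint k) = closedPoint A :=
      Spec_closedPoint (R := CommRingCat.of A) (S := CommRingCat.of k)
        (f := CommRingCat.ofHom A.res.toRingHom)
    rw [h2] at h1
    exact h1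
  have key : ∀ (y : M) (_ : y = x₀ (closedPoint k)) (ψ : M.presheaf.stalk y ⟶ CommRingCat.of A)
      [IsLocalHom ψ.hom], g = Spec.map ψ ≫ M.fromSpecStalk y →
      ∃ φ, toG M m x₀ hx₀ A φ = g := by
    intro y hy ψ _ hψ
    subst hy
    exact toG_surjective_aux M m x₀ hx₀ A g hg1 hg2 ψ hψ
  exact key _ hy (Scheme.stalkClosedPointTo g) (Scheme.Spec_stalkClosedPointTo_fromSpecStalk g).symm


include hx₀ in
theorem main :
    ∃ (R : CRing k k)
      (e : ∀ A : Art k k, HomSet R.carrier R.res A ≃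
        {g : spec A ⟶ M // g ≫ m = specMap (ofBase A) ∧ specRes A ≫ g = x₀}),
      ∀ (A B : Art k k) (h : A ⟶ B) (φ : HomSet R.carrier R.res A),
        ((e B) (HomSet.map h φ)).1 = specMap h ≫ ((e A) φ).1 := by
  refine ⟨theRing M m x₀ hx₀, fun A => Equiv.ofBijective
    (fun φ => ⟨toG M m x₀ hx₀ A φ, toG_comp_m M m x₀ hx₀ A φ, specRes_toG M m x₀ hx₀ A φ⟩)
    ⟨?_, ?_⟩, ?_⟩
  · intro φ₁ φ₂ h
    exact toG_injective M m x₀ hx₀ A (congrArg Subtype.val h)
  · rintro ⟨g, hg1, hg2⟩
    obtain ⟨φ, hφ⟩ := toG_surjective M m x₀ hx₀ A g hg1 hg2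
    exact ⟨φ, Subtype.ext hφ⟩
  · intro A B h φ
    change toG M m x₀ hx₀ B (HomSet.map h φ) = specMap h ≫ toG M m x₀ hx₀ A φ
    unfold toG
    rw [← Category.assoc, ← Spec.map_comp]
    rfl

end Main

end Groth.Agent.Helper11.PtPro
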