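import Mathlib
import Groth.Prelude.Def_QuadSing
import Groth.Agent.Lib.Helper11.QSingA
import Groth.Agent.Lib.Helper17.AR10
import Groth.Agent.Lib.Helper14.PowerSeriesComplete

/-!
# Quadratic singularities: the rigidity invariant of `k[[x]]/(h)`
-/

set_option autoImplicit false

namespace Groth.Agent.Helper11.QSingB

open MvPowerSeries Groth.Agent.Helper11.QSingA

universe u

section Rigid

variable {k : Type u} [Field k]

/-- every derivation into the second infinitesimal neighbourhood has values in the ideal -/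
def RigidAt (k : Type u) [Field k] (O : Type u) [CommRing O] [Algebra k O] (I : Ideal O) : Prop :=
  ∀ D : Derivation k O (O ⧸ I ^ 2), ∀ x : O, D x ∈ I.map (Ideal.Quotient.mk (I ^ 2))

theorem RigidAt.of_equiv {O O' : Type u} [CommRing O] [CommRing O'] [Algebra k O] [Algebra k O']
    (e : O ≃ₐ[k] O') (I : Ideal O) (I' : Ideal O') (hI : I' = I.map (e : O →+* O'))
    (h : RigidAt k O' I') : RigidAt k O I := by
  intro D x
  have hI2 : I' ^ 2 = (I ^ 2).map (e : O →+* O') := by rw [hI, Ideal.map_pow]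
  let ē : (O ⧸ I ^ 2) ≃ₐ[k] (O' ⧸ I' ^ 2) := Ideal.quotientEquivAlg (I ^ 2) (I' ^ 2) e hI2
  have hē : ∀ a : O, ē (Ideal.Quotient.mk _ a) = Ideal.Quotient.mk _ (e a) := fun a => rfl
  let D'lin : O' →ₗ[k] (O' ⧸ I' ^ 2) :=
    ē.toLinearMap ∘ₗ D.toLinearMap ∘ₗ e.symm.toLinearMap
  have hD'lin : ∀ y, D'lin y = ē (D (e.symm y)) := fun y => rfl
  have hsm : ∀ (a : O) (q : O ⧸ I ^ 2), ē (a • q) = (e a) • ē q := by
    intro a q
    obtain ⟨b, rfl⟩ := Ideal.Quotient.mk_surjective q
    have h1 : a • (Ideal.Quotient.mk (I ^ 2) b) = Ideal.Quotient.mk (I ^ 2) (a * b) := rfl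
    have h2 : (e a) • (Ideal.Quotient.mk (I' ^ 2) (e b)) =
        Ideal.Quotient.mk (I' ^ 2) (e a * e b) := rfl
    rw [h1, hē, hē, h2, map_mul]
  let D' : Derivation k O' (O' ⧸ I' ^ 2) := Derivation.mk' D'lin (by
    intro y z
    rw [hD'lin, hD'lin, hD'lin, map_mul, Derivation.leibniz, map_add, hsm, hsm,
      AlgEquiv.apply_symm_apply, AlgEquiv.apply_symm_apply])
  have h1 := h D' (e x)
  have h2 : D' (e x) = ē (D x) := by
    show D'lin (e x) = _
    rw [hD'lin, AlgEquiv.symm_apply_apply]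
  rw [h2] at h1
  obtain ⟨y, hy, hyq⟩ := (Ideal.mem_map_iff_of_surjective _ Ideal.Quotient.mk_surjective).1 h1
  have hy' : e.symm y ∈ I := by
    rw [hI] at hy
    obtain ⟨z, hz, hzy⟩ := (Ideal.mem_map_iff_of_surjective (e : O →+* O') e.surjective).1 hy
    have : e z = y := hzy
    rw [← this, AlgEquiv.symm_apply_apply]
    exact hz
  have h3 : D x = Ideal.Quotient.mk _ (e.symm y) := by
    apply ē.injective
    rw [hē, AlgEquiv.apply_symm_apply, hyq]
  rw [h3]
  exact Ideal.mem_map_of_mem _ hy'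

end Rigid

section PS

variable {k : Type u} [Field k] {N : ℕ}

/-- the quotient `k[[x]]/(h)` -/
abbrev TT (h : MvPowerSeries (Fin N) k) : Type u :=
  MvPowerSeries (Fin N) k ⧸ Ideal.span {h}

/-- the image of the ideal of the variables -/
noncomputable def nT (h : MvPowerSeries (Fin N) k) : Ideal (TT h) :=
  (nn k N).map (Ideal.Quotient.mk (Ideal.span {h}))

theorem mk_mem_nT_iff (h : MvPowerSeries (Fin N) k) (hh : h ∈ nn k N)
    (s : MvPowerSeries (Fin N) k) :
    Ideal.Quotient.mk (Ideal.span {h}) s ∈ nT h ↔ s ∈ nn k N :=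
  Ideal.mem_quotient_iff_mem ((Ideal.span_singleton_le_iff_mem _).2 hh)

theorem nT_pow (h : MvPowerSeries (Fin N) k) (t : ℕ) :
    nT h ^ t = (nn k N ^ t).map (Ideal.Quotient.mk (Ideal.span {h})) := by
  unfold nT
  rw [Ideal.map_pow]

theorem mk_mem_nT_sq_iff (h : MvPowerSeries (Fin N) k) (hh : h ∈ nn k N ^ 2)
    (s : MvPowerSeries (Fin N) k) :
    Ideal.Quotient.mk (Ideal.span {h}) s ∈ nT h ^ 2 ↔ s ∈ nn k N ^ 2 := by
  rw [nT_pow]
  exact Ideal.mem_quotient_iff_mem ((Ideal.span_singleton_le_iff_mem _).2 hh)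

theorem isLocalRing_TT (h : MvPowerSeries (Fin N) k) (hh : h ∈ nn k N) : IsLocalRing (TT h) := by
  haveI : Nontrivial (TT h) := by
    apply Ideal.Quotient.nontrivial_iff.2
    intro htop
    have h1 : Ideal.span {h} ≤ nn k N := (Ideal.span_singleton_le_iff_mem _).2 hh
    have h2 : (1 : MvPowerSeries (Fin N) k) ∈ nn k N := h1 (by rw [htop]; trivial)
    exact nn_ne_top ((Ideal.eq_top_iff_one _).2 h2)
  exact IsLocalRing.of_surjective' (Ideal.Quotient.mk (Ideal.span {h}))
    Ideal.Quotient.mk_surjective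

theorem maximalIdeal_TT (h : MvPowerSeries (Fin N) k) [IsLocalRing (TT h)] :
    IsLocalRing.maximalIdeal (TT h) = nT h := by
  rw [← IsLocalRing.map_maximalIdeal_of_surjective (Ideal.Quotient.mk (Ideal.span {h}))
    Ideal.Quotient.mk_surjective, max_eq]
  rfl

/-- `k[[x]]/(h)` is complete -/
theorem isAdicComplete_TT (h : MvPowerSeries (Fin N) k) : IsAdicComplete (nT h) (TT h) := by
  haveI : IsAdicComplete (IsLocalRing.maximalIdeal k) k := by
    rw [IsLocalRing.maximalIdeal_eq_bot]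
    infer_instance
  haveI hS : IsAdicComplete (nn k N) (MvPowerSeries (Fin N) k) := by
    rw [← max_eq]
    exact Groth.Agent.Helper14.PowerSeriesComplete.isAdicComplete_maximalIdeal (Fin N) k
  haveI : IsPrecomplete (nn k N) (TT h) :=
    Groth.Agent.Helper17.AR.isPrecomplete_of_surjective (nn k N)
      (Submodule.mkQ (Ideal.span {h})) (Submodule.mkQ_surjective _)
  haveI : IsHausdorff (nn k N) (TT h) := IsHausdorff.of_isLocalRing (nn k N) (TT h) nn_ne_top
  haveI : IsAdicComplete (nn k N) (TT h) := {}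
  have h1 : IsAdicComplete ((nn k N).map (algebraMap (MvPowerSeries (Fin N) k) (TT h))) (TT h) :=
    (IsAdicComplete.map_algebraMap_iff _ _).mpr inferInstance
  exact h1

/-- the map to the second infinitesimal neighbourhood -/
noncomputable def piQ (h : MvPowerSeries (Fin N) k) :
    MvPowerSeries (Fin N) k →ₐ[k] (TT h ⧸ nT h ^ 2) :=
  (Ideal.Quotient.mkₐ k (nT h ^ 2)).comp (Ideal.Quotient.mkₐ k (Ideal.span {h}))

theorem piQ_apply (h s : MvPowerSeries (Fin N) k) :
    piQ h s = Ideal.Quotient.mk (nT h ^ 2) (Ideal.Quotient.mk (Ideal.span {h}) s) := rfl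

theorem piQ_surjective (h : MvPowerSeries (Fin N) k) : Function.Surjective (piQ h) := by
  intro q
  obtain ⟨t, rfl⟩ := Ideal.Quotient.mk_surjective q
  obtain ⟨b, rfl⟩ := Ideal.Quotient.mk_surjective t
  exact ⟨b, rfl⟩

theorem piQ_eq_zero_iff (h : MvPowerSeries (Fin N) k) (hh : h ∈ nn k N ^ 2)
    (s : MvPowerSeries (Fin N) k) : piQ h s = 0 ↔ s ∈ nn k N ^ 2 := by
  rw [piQ_apply, Ideal.Quotient.eq_zero_iff_mem, mk_mem_nT_sq_iff h hh]

theorem smul_eq_piQ_mul (h s : MvPowerSeries (Fin N) k) (q : TT h ⧸ nT h ^ 2) :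
    s • q = piQ h s * q := by
  obtain ⟨t, rfl⟩ := Ideal.Quotient.mk_surjective q
  obtain ⟨b, rfl⟩ := Ideal.Quotient.mk_surjective t
  rfl

theorem smulT_eq_mul (h : MvPowerSeries (Fin N) k) (t : TT h) (q : TT h ⧸ nT h ^ 2) :
    t • q = Ideal.Quotient.mk (nT h ^ 2) t * q := by
  obtain ⟨t', rfl⟩ := Ideal.Quotient.mk_surjective q
  rfl

theorem piQ_mem_iff (h : MvPowerSeries (Fin N) k) (hh : h ∈ nn k N)
    (s : MvPowerSeries (Fin N) k) :
    piQ h s ∈ (nT h).map (Ideal.Quotient.mk (nT h ^ 2)) ↔ s ∈ nn k N := by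
  rw [piQ_apply, Ideal.mem_quotient_iff_mem (Ideal.pow_le_self two_ne_zero), mk_mem_nT_iff h hh]

/-- non-degenerate polar form implies rigidity -/
theorem rigid_of_det (h : MvPowerSeries (Fin N) k) (hh : VanCyc.NoLowTerms h)
    (hdet : IsUnit (VanCyc.polarMatrix (VanCyc.quadPart h)).det) :
    RigidAt k (TT h) (nT h) := by
  classical
  intro D x
  have hsq : h ∈ nn k N ^ 2 := mem_sq_of_noLowTerms h hh
  have hh1 : h ∈ nn k N := Ideal.pow_le_self two_ne_zero hsq
  let Dt : Derivation k (MvPowerSeries (Fin N) k) (TT h ⧸ nT h ^ 2) :=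
    D.compAlgebraMap (MvPowerSeries (Fin N) k)
  have hDt : ∀ s, Dt s = D (Ideal.Quotient.mk _ s) := fun s => rfl
  haveI : Module.Finite (MvPowerSeries (Fin N) k) (TT h ⧸ nT h ^ 2) :=
    Module.Finite.of_surjective
      (Algebra.linearMap (MvPowerSeries (Fin N) k) (TT h ⧸ nT h ^ 2)) (fun q => by
        obtain ⟨s, rfl⟩ := piQ_surjective h q
        exact ⟨s, rfl⟩)
  have hform := der_formula Dt
  have hex : ∀ i, ∃ s : MvPowerSeries (Fin N) k, Dt (X i) = piQ h s := fun i => by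
    obtain ⟨s, hs⟩ := piQ_surjective h (Dt (X i))
    exact ⟨s, hs.symm⟩
  choose s hs using hex
  have hrel : ∑ i, C (constantCoeff (s i)) * pderiv k i h ∈ nn k N ^ 2 := by
    rw [← piQ_eq_zero_iff h hsq, map_sum]
    have h0 : Dt h = 0 := by
      rw [hDt, Ideal.Quotient.eq_zero_iff_mem.2 (Ideal.mem_span_singleton_self h), map_zero]
    rw [hform h] at h0
    rw [← h0]
    refine Finset.sum_congr rfl fun i _ => ?_
    rw [hs, smul_eq_piQ_mul, ← map_mul, ← sub_eq_zero, ← map_sub, piQ_eq_zero_iff h hsq]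
    have e : C (constantCoeff (s i)) * pderiv k i h - pderiv k i h * s i =
        pderiv k i h * (C (constantCoeff (s i)) - s i) := by ring
    rw [e, pow_two]
    refine Ideal.mul_mem_mul (pderiv_mem_nn h hh.2 i) ?_
    rw [mem_nn_iff, map_sub, constantCoeff_C, sub_self]
  have hvm : Matrix.vecMul (fun i => constantCoeff (s i))
      (VanCyc.polarMatrix (VanCyc.quadPart h)) = 0 := by
    ext l
    have h1 := coeff_eq_zero_of_mem_pow 2 _ hrel (Finsupp.single l 1)
      (by rw [Finsupp.degree_single]; norm_num)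
    rw [map_sum] at h1
    rw [Pi.zero_apply, ← h1]
    show ∑ i, constantCoeff (s i) * VanCyc.polarMatrix (VanCyc.quadPart h) i l = _
    refine Finset.sum_congr rfl fun i _ => ?_
    rw [coeff_C_mul, coeff_single_pderiv]
  have hc0 := Matrix.eq_zero_of_vecMul_eq_zero hdet.ne_zero hvm
  have hsi : ∀ i, s i ∈ nn k N := fun i => (mem_nn_iff _).2 (congrFun hc0 i)
  obtain ⟨g, rfl⟩ := Ideal.Quotient.mk_surjective x
  rw [← hDt, hform g]
  refine Ideal.sum_mem _ fun i _ => ?_
  rw [hs, smul_eq_piQ_mul, ← map_mul, piQ_mem_iff h hh1]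
  exact Ideal.mul_mem_left _ _ (hsi i)

/-- rigidity implies that the polar form is non-degenerate -/
theorem det_of_rigid (h : MvPowerSeries (Fin N) k) (hh : VanCyc.NoLowTerms h)
    (hr : RigidAt k (TT h) (nT h)) :
    IsUnit (VanCyc.polarMatrix (VanCyc.quadPart h)).det := by
  classical
  by_contra hdet
  have hdet0 : (VanCyc.polarMatrix (VanCyc.quadPart h)).det = 0 := by
    rwa [isUnit_iff_ne_zero, not_not] at hdet
  obtain ⟨v, hv0, hvM⟩ := Matrix.exists_vecMul_eq_zero_iff.2 hdet0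
  have hsq : h ∈ nn k N ^ 2 := mem_sq_of_noLowTerms h hh
  have hh1 : h ∈ nn k N := Ideal.pow_le_self two_ne_zero hsq
  let E₀ : Derivation k (MvPowerSeries (Fin N) k) (MvPowerSeries (Fin N) k) :=
    ∑ i, (C (v i) : MvPowerSeries (Fin N) k) • pderiv k i
  have hE₀ : ∀ g, E₀ g = ∑ i, C (v i) * pderiv k i g := by
    intro g
    show (∑ i, (C (v i) : MvPowerSeries (Fin N) k) • pderiv k i) g = _
    rw [sum_der_apply']
    rfl
  have hE₀h : E₀ h ∈ nn k N ^ 2 := by
    rw [hE₀]
    apply mem_sq_of_low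
    · rw [map_sum]
      apply Finset.sum_eq_zero
      intro i _
      rw [map_mul, constantCoeff_pderiv, hh.2 i, mul_zero]
    · intro l
      rw [map_sum]
      have h1 := congrFun hvM l
      rw [Pi.zero_apply] at h1
      rw [← h1]
      show _ = ∑ i, v i * VanCyc.polarMatrix (VanCyc.quadPart h) i l
      refine Finset.sum_congr rfl fun i _ => ?_
      rw [coeff_C_mul, coeff_single_pderiv]
  have hE₀X : ∀ l, E₀ (X l) = C (v l) := by
    intro l
    rw [hE₀, Finset.sum_eq_single l, pderiv_X_self, mul_one]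
    · intro i _ hi
      rw [pderiv_X_of_ne (Ne.symm hi), mul_zero]
    · intro h'
      exact absurd (Finset.mem_univ _) h'
  have hker : ∀ g ∈ Ideal.span {h}, piQ h (E₀ g) = 0 := by
    intro g hg
    obtain ⟨w, rfl⟩ := Ideal.mem_span_singleton'.1 hg
    rw [Derivation.leibniz, smul_eq_mul, smul_eq_mul, map_add, map_mul, map_mul]
    have h1 : piQ h (E₀ h) = 0 := (piQ_eq_zero_iff h hsq _).2 hE₀h
    have h2 : piQ h h = 0 := (piQ_eq_zero_iff h hsq _).2 hsq
    rw [h1, h2, mul_zero, zero_mul, add_zero]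
  let Dlin : TT h →ₗ[k] (TT h ⧸ nT h ^ 2) :=
    (Submodule.liftQ ((Ideal.span {h}).restrictScalars k)
      ((piQ h).toLinearMap ∘ₗ E₀.toLinearMap) (by
        intro g hg
        rw [LinearMap.mem_ker]
        exact hker g hg)) ∘ₗ
    (Submodule.Quotient.restrictScalarsEquiv k (Ideal.span {h})).symm.toLinearMap
  have hDlin : ∀ g, Dlin (Ideal.Quotient.mk _ g) = piQ h (E₀ g) := fun g => rfl
  let D : Derivation k (TT h) (TT h ⧸ nT h ^ 2) := Derivation.mk' Dlin (by
    intro x y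
    obtain ⟨a, rfl⟩ := Ideal.Quotient.mk_surjective x
    obtain ⟨b, rfl⟩ := Ideal.Quotient.mk_surjective y
    rw [← map_mul, hDlin, hDlin, hDlin, Derivation.leibniz, smul_eq_mul, smul_eq_mul, map_add,
      map_mul, map_mul, smulT_eq_mul, smulT_eq_mul]
    rfl)
  have hD : ∀ l, D (Ideal.Quotient.mk _ (X l)) = piQ h (C (v l)) := by
    intro l
    show Dlin _ = _
    rw [hDlin, hE₀X]
  apply hv0
  funext l
  have h1 := hr D (Ideal.Quotient.mk _ (X l))
  rw [hD, piQ_mem_iff h hh1, mem_nn_iff, constantCoeff_C] at h1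
  exact h1

/-- the key invariance statement -/
theorem nondeg_of_equiv (h g : MvPowerSeries (Fin N) k) (hh : VanCyc.NoLowTerms h)
    (hg : VanCyc.NondegQuadSeries g) (ε : TT h ≃ₐ[k] TT g) :
    VanCyc.QuadNondeg (VanCyc.quadPart h) := by
  have hh1 : h ∈ nn k N := Ideal.pow_le_self two_ne_zero (mem_sq_of_noLowTerms h hh)
  have hg1 : g ∈ nn k N := Ideal.pow_le_self two_ne_zero (mem_sq_of_noLowTerms g hg.1)
  haveI := isLocalRing_TT h hh1
  haveI := isLocalRing_TT g hg1
  have hmap : nT g = (nT h).map (ε : TT h →+* TT g) := by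
    rw [← maximalIdeal_TT h, ← maximalIdeal_TT g]
    exact (IsLocalRing.map_maximalIdeal_of_surjective (ε : TT h →+* TT g) ε.surjective).symm
  exact det_of_rigid h hh (RigidAt.of_equiv ε (nT h) (nT g) hmap (rigid_of_det g hg.1 hg.2))

end PS

end Groth.Agent.Helper11.QSingB
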