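import Mathlib
import Groth.Prelude.Def_QuadSing
import Groth.Agent.Lib.Helper11.QSingB
import Groth.Agent.Lib.Helper3.SectionPoly

/-!
# Quadratic singularities: the completed local ring of a hypersurface at a rational point
-/

set_option autoImplicit false

namespace Groth.Agent.Helper11.QSingC

open Groth.Agent.Helper11.QSingA Groth.Agent.Helper11.QSingB

universe u

section Trans

variable {k : Type u} [Field k] {n : ℕ} (a : Fin n → k)

/-- translation by `a` -/
noncomputable def tauP : MvPolynomial (Fin n) k →ₐ[k] MvPolynomial (Fin n) k :=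
  MvPolynomial.aeval fun i => MvPolynomial.X i + MvPolynomial.C (a i)

/-- translation by `-a` -/
noncomputable def tauM : MvPolynomial (Fin n) k →ₐ[k] MvPolynomial (Fin n) k :=
  MvPolynomial.aeval fun i => MvPolynomial.X i - MvPolynomial.C (a i)

theorem tauP_X (i : Fin n) :
    tauP a (MvPolynomial.X i) = MvPolynomial.X i + MvPolynomial.C (a i) := by
  unfold tauP
  rw [MvPolynomial.aeval_X]

theorem tauM_X (i : Fin n) :
    tauM a (MvPolynomial.X i) = MvPolynomial.X i - MvPolynomial.C (a i) := by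
  unfold tauM
  rw [MvPolynomial.aeval_X]

theorem tauP_C (c : k) : tauP a (MvPolynomial.C c) = MvPolynomial.C c := by
  unfold tauP
  rw [MvPolynomial.aeval_C]
  rfl

theorem tauM_C (c : k) : tauM a (MvPolynomial.C c) = MvPolynomial.C c := by
  unfold tauM
  rw [MvPolynomial.aeval_C]
  rfl

theorem tauP_tauM (g : MvPolynomial (Fin n) k) : tauP a (tauM a g) = g := by
  have h : (tauP a).comp (tauM a) = AlgHom.id k _ := by
    apply MvPolynomial.algHom_ext
    intro i
    rw [AlgHom.comp_apply, tauM_X, map_sub, tauP_X, tauP_C, AlgHom.id_apply,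
      add_sub_cancel_right]
  have h2 := DFunLike.congr_fun h g
  rwa [AlgHom.comp_apply, AlgHom.id_apply] at h2

theorem tauM_tauP (g : MvPolynomial (Fin n) k) : tauM a (tauP a g) = g := by
  have h : (tauM a).comp (tauP a) = AlgHom.id k _ := by
    apply MvPolynomial.algHom_ext
    intro i
    rw [AlgHom.comp_apply, tauP_X, map_add, tauM_X, tauM_C, AlgHom.id_apply, sub_add_cancel]
  have h2 := DFunLike.congr_fun h g
  rwa [AlgHom.comp_apply, AlgHom.id_apply] at h2

theorem tauP_pderiv (j : Fin n) (g : MvPolynomial (Fin n) k) :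
    tauP a (MvPolynomial.pderiv j g) = MvPolynomial.pderiv j (tauP a g) := by
  induction g using MvPolynomial.induction_on with
  | C c => rw [MvPolynomial.pderiv_C, map_zero, tauP_C, MvPolynomial.pderiv_C]
  | add p q hp hq => simp only [map_add, hp, hq]
  | mul_X p i hp =>
    rw [Derivation.leibniz, map_mul (tauP a) p (MvPolynomial.X i), Derivation.leibniz]
    simp only [smul_eq_mul, map_add, map_mul, hp, tauP_X, MvPolynomial.pderiv_C, add_zero]
    by_cases hij : i = j
    · subst hij
      simp only [MvPolynomial.pderiv_X_self, map_one]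
    · simp only [MvPolynomial.pderiv_X_of_ne hij, map_zero]

/-- the Taylor expansion at `a` -/
noncomputable def psi0 : MvPolynomial (Fin n) k →ₐ[k] MvPowerSeries (Fin n) k :=
  (MvPolynomial.coeToMvPowerSeries.algHom k).comp (tauP a)

theorem psi0_apply (g : MvPolynomial (Fin n) k) :
    psi0 a g = ((tauP a g : MvPolynomial (Fin n) k) : MvPowerSeries (Fin n) k) := by
  unfold psi0
  rw [AlgHom.comp_apply, MvPolynomial.coeToMvPowerSeries.algHom_apply, Algebra.algebraMap_self,
    MvPowerSeries.map_id, RingHom.id_apply]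

theorem constantCoeff_psi0 (g : MvPolynomial (Fin n) k) :
    MvPowerSeries.constantCoeff (psi0 a g) = MvPolynomial.eval a g := by
  rw [psi0_apply, ← MvPowerSeries.coeff_zero_eq_constantCoeff_apply, MvPolynomial.coeff_coe]
  change MvPolynomial.constantCoeff (tauP a g) = _
  have h : (MvPolynomial.constantCoeff.comp (tauP a).toRingHom) = MvPolynomial.eval a := by
    apply MvPolynomial.ringHom_ext
    · intro c
      rw [RingHom.comp_apply]
      change MvPolynomial.constantCoeff (tauP a (MvPolynomial.C c)) = _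
      rw [tauP_C, MvPolynomial.constantCoeff_C, MvPolynomial.eval_C]
    · intro i
      rw [RingHom.comp_apply]
      change MvPolynomial.constantCoeff (tauP a (MvPolynomial.X i)) = _
      rw [tauP_X, map_add, MvPolynomial.constantCoeff_X, MvPolynomial.constantCoeff_C, zero_add,
        MvPolynomial.eval_X]
  exact RingHom.congr_fun h g

theorem psi0_pderiv (j : Fin n) (g : MvPolynomial (Fin n) k) :
    psi0 a (MvPolynomial.pderiv j g) = MvPowerSeries.pderiv k j (psi0 a g) := by
  rw [psi0_apply, psi0_apply, MvPowerSeries.pderiv_coe, tauP_pderiv]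

theorem psi0_X_sub (i : Fin n) :
    psi0 a (MvPolynomial.X i - MvPolynomial.C (a i)) = MvPowerSeries.X i := by
  rw [psi0_apply, map_sub, tauP_X, tauP_C, add_sub_cancel_right, MvPolynomial.coe_X]

theorem psi0_tauM (p : MvPolynomial (Fin n) k) :
    psi0 a (tauM a p) = (p : MvPowerSeries (Fin n) k) := by
  rw [psi0_apply, tauP_tauM]

/-- the maximal ideal of the point `a` -/
noncomputable def ma : Ideal (MvPolynomial (Fin n) k) :=
  Ideal.span (Set.range fun i => MvPolynomial.X i - MvPolynomial.C (a i))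

theorem mem_ma_pow_of_psi0 (t : ℕ) (q : MvPolynomial (Fin n) k)
    (hq : psi0 a q ∈ nn k n ^ t) : q ∈ ma a ^ t := by
  have h1 : tauP a q ∈ MvPolynomial.idealOfVars (Fin n) k ^ t := by
    rw [MvPolynomial.mem_pow_idealOfVars_iff']
    intro d hd
    rw [← MvPolynomial.coeff_coe, ← psi0_apply]
    exact coeff_eq_zero_of_mem_pow t _ hq d hd
  have h2 : tauM a (tauP a q) ∈ (MvPolynomial.idealOfVars (Fin n) k ^ t).map (tauM a) :=
    Ideal.mem_map_of_mem _ h1
  rw [tauM_tauP, Ideal.map_pow] at h2
  refine Ideal.pow_right_mono ?_ t h2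
  rw [Ideal.map_span, Ideal.span_le]
  rintro _ ⟨_, ⟨i, rfl⟩, rfl⟩
  rw [tauM_X]
  exact Ideal.subset_span ⟨i, rfl⟩

theorem mem_ma_of_eval (g : MvPolynomial (Fin n) k) (hg : MvPolynomial.eval a g = 0) :
    g ∈ ma a := by
  have h1 := mem_ma_pow_of_psi0 a 1 g (by
    rw [pow_one, mem_nn_iff, constantCoeff_psi0]
    exact hg)
  rwa [pow_one] at h1

end Trans

section Gen

variable {k : Type u} [Field k]

/-- the completion of the local `k`-algebra `O` is `k`-isomorphic to `T` -/
def ComplIso (k : Type u) [Field k] (O T : Type u) [CommRing O] [IsLocalRing O] [Algebra k O]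
    [CommRing T] [Algebra k T] : Prop :=
  Nonempty (AdicCompletion (IsLocalRing.maximalIdeal O) O ≃ₐ[k] T)

theorem exists_equiv_of_chart {O T : Type u} [CommRing O] [IsLocalRing O] [Algebra k O]
    [CommRing T] [Algebra k T] (J : Ideal T) [IsAdicComplete J T] (φ : O →ₐ[k] T)
    (h3 : (IsLocalRing.maximalIdeal O).map φ.toRingHom ≤ J)
    (h1 : ∀ t : T, ∃ l : O, t - φ l ∈ J)
    (h2 : ∀ v ∈ J, ∃ j ∈ IsLocalRing.maximalIdeal O, v - φ j ∈ J ^ 2)
    (hinj : ∀ (t : ℕ) (l : O), φ l ∈ J ^ t → l ∈ IsLocalRing.maximalIdeal O ^ t) :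
    ComplIso k O T := by
  have hbij : Function.Bijective (Groth.Agent.Helper17.AR.mapRingHom
      (IsLocalRing.maximalIdeal O) J φ.toRingHom h3) := by
    apply Groth.Agent.Helper3.SectionPoly.mapRingHom_bijective
    intro t
    letI : Algebra O T := φ.toRingHom.toAlgebra
    exact Groth.Agent.Helper3.SectionPoly.quotientMap_bijective
      (IsLocalRing.maximalIdeal O) J h3 h1 h2 hinj t _
  let ρ : AdicCompletion (IsLocalRing.maximalIdeal O) O →+* T :=
    ((AdicCompletion.ofAlgEquiv J).symm : AdicCompletion J T →+* T).comp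
      (Groth.Agent.Helper17.AR.mapRingHom (IsLocalRing.maximalIdeal O) J φ.toRingHom h3)
  have hρbij : Function.Bijective ρ :=
    (AdicCompletion.ofAlgEquiv J).symm.bijective.comp hbij
  have hρc : ∀ c : k, ρ (algebraMap k _ c) = algebraMap k _ c := by
    intro c
    show (AdicCompletion.ofAlgEquiv J).symm
      (Groth.Agent.Helper17.AR.mapRingHom (IsLocalRing.maximalIdeal O) J φ.toRingHom h3
        (algebraMap k _ c)) = _
    rw [AdicCompletion.algebraMap_apply, Groth.Agent.Helper17.AR.mapRingHom_of]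
    have h1' : φ.toRingHom (algebraMap k _ c) = algebraMap k T c := φ.commutes c
    rw [h1', ← AdicCompletion.ofAlgEquiv_apply, AlgEquiv.symm_apply_apply]
  exact ⟨AlgEquiv.ofBijective { ρ with commutes' := hρc } hρbij⟩

end Gen

section Chart

variable {k : Type u} [Field k] {n : ℕ} (a : Fin n → k) (f : MvPolynomial (Fin n) k)

/-- the Taylor expansion of `f` at `a` -/
noncomputable def fa : MvPowerSeries (Fin n) k := psi0 a f

/-- the map from the coordinate ring of the hypersurface -/
noncomputable def phi1 : (MvPolynomial (Fin n) k ⧸ Ideal.span {f}) →ₐ[k] TT (fa a f) :=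
  Ideal.Quotient.liftₐ (Ideal.span {f})
    ((Ideal.Quotient.mkₐ k (Ideal.span {fa a f})).comp (psi0 a)) (by
      intro g hg
      obtain ⟨w, rfl⟩ := Ideal.mem_span_singleton'.1 hg
      rw [AlgHom.comp_apply, map_mul, map_mul]
      have h0 : (Ideal.Quotient.mkₐ k (Ideal.span {fa a f})) (psi0 a f) = 0 :=
        Ideal.Quotient.eq_zero_iff_mem.2 (Ideal.mem_span_singleton_self _)
      rw [h0, mul_zero])

theorem phi1_mk (g : MvPolynomial (Fin n) k) :
    phi1 a f (Ideal.Quotient.mk _ g) = Ideal.Quotient.mk _ (psi0 a g) := rfl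

variable (P : Ideal (MvPolynomial (Fin n) k ⧸ Ideal.span {f})) [P.IsPrime]
  (hPa : ∀ g : MvPolynomial (Fin n) k,
    Ideal.Quotient.mk (Ideal.span {f}) g ∈ P ↔ MvPolynomial.eval a g = 0)

include hPa in
theorem isUnit_phi1 (y : P.primeCompl) : IsUnit (phi1 a f (y : _)) := by
  obtain ⟨g, hg⟩ := Ideal.Quotient.mk_surjective (y : MvPolynomial (Fin n) k ⧸ Ideal.span {f})
  have h1 : MvPolynomial.eval a g ≠ 0 := by
    intro h0
    exact y.2 (by rw [← hg]; exact (hPa g).2 h0)
  rw [← hg, phi1_mk]
  apply IsUnit.map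
  rw [MvPowerSeries.isUnit_iff_constantCoeff, constantCoeff_psi0, isUnit_iff_ne_zero]
  exact h1

/-- the chart map from the local ring to `k[[x]]/(f_a)` -/
noncomputable def phi : Localization.AtPrime P →ₐ[k] TT (fa a f) :=
  IsLocalization.liftAlgHom (M := P.primeCompl) (f := phi1 a f) (isUnit_phi1 a f P hPa)

theorem phi_algebraMap (b : MvPolynomial (Fin n) k ⧸ Ideal.span {f}) :
    phi a f P hPa (algebraMap _ (Localization.AtPrime P) b) = phi1 a f b := by
  unfold phi
  rw [IsLocalization.liftAlgHom_apply]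
  exact IsLocalization.lift_eq _ b

/-- the images of the local coordinates -/
noncomputable def xi (i : Fin n) : Localization.AtPrime P :=
  algebraMap _ (Localization.AtPrime P)
    (Ideal.Quotient.mk (Ideal.span {f}) (MvPolynomial.X i - MvPolynomial.C (a i)))

theorem phi_xi (i : Fin n) :
    phi a f P hPa (xi a f P i) = Ideal.Quotient.mk _ (MvPowerSeries.X i) := by
  unfold xi
  rw [phi_algebraMap, phi1_mk, psi0_X_sub]

include hPa in
theorem map_ma_le : (ma a).map (Ideal.Quotient.mk (Ideal.span {f})) ≤ P := by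
  rw [Ideal.map_le_iff_le_comap]
  unfold ma
  rw [Ideal.span_le]
  rintro _ ⟨i, rfl⟩
  show Ideal.Quotient.mk _ _ ∈ P
  rw [hPa, map_sub, MvPolynomial.eval_X, MvPolynomial.eval_C, sub_self]

include hPa in
theorem P_eq : P = (ma a).map (Ideal.Quotient.mk (Ideal.span {f})) := by
  apply le_antisymm
  · intro b hb
    obtain ⟨g, rfl⟩ := Ideal.Quotient.mk_surjective b
    exact Ideal.mem_map_of_mem _ (mem_ma_of_eval a g ((hPa g).1 hb))
  · exact map_ma_le a f P hPa

include hPa in
theorem maxIdeal_eq_span :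
    IsLocalRing.maximalIdeal (Localization.AtPrime P) = Ideal.span (Set.range (xi a f P)) := by
  calc IsLocalRing.maximalIdeal (Localization.AtPrime P)
      = P.map (algebraMap _ (Localization.AtPrime P)) :=
        (Localization.AtPrime.map_eq_maximalIdeal).symm
    _ = ((ma a).map (Ideal.Quotient.mk (Ideal.span {f}))).map
          (algebraMap _ (Localization.AtPrime P)) :=
        congrArg (Ideal.map (algebraMap _ (Localization.AtPrime P))) (P_eq a f P hPa)
    _ = Ideal.span (Set.range (xi a f P)) := by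
        unfold ma
        rw [Ideal.map_span, Ideal.map_span, ← Set.range_comp, ← Set.range_comp]
        rfl

include hPa in
theorem xi_mem (i : Fin n) : xi a f P i ∈ IsLocalRing.maximalIdeal (Localization.AtPrime P) := by
  rw [maxIdeal_eq_span a f P hPa]
  exact Ideal.subset_span ⟨i, rfl⟩

theorem map_phi_le :
    (IsLocalRing.maximalIdeal (Localization.AtPrime P)).map (phi a f P hPa).toRingHom ≤
      nT (fa a f) := by
  rw [maxIdeal_eq_span a f P hPa, Ideal.map_span, Ideal.span_le]
  rintro _ ⟨_, ⟨i, rfl⟩, rfl⟩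
  show phi a f P hPa (xi a f P i) ∈ _
  rw [phi_xi]
  exact Ideal.mem_map_of_mem _ (X_mem_nn i)

theorem exists_sub_mem (t : TT (fa a f)) :
    ∃ l : Localization.AtPrime P, t - phi a f P hPa l ∈ nT (fa a f) := by
  obtain ⟨s, rfl⟩ := Ideal.Quotient.mk_surjective t
  refine ⟨algebraMap k _ (MvPowerSeries.constantCoeff s), ?_⟩
  rw [AlgHom.commutes]
  have h1 : algebraMap k (TT (fa a f)) (MvPowerSeries.constantCoeff s) =
      Ideal.Quotient.mk _ (MvPowerSeries.C (MvPowerSeries.constantCoeff s)) := rfl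
  rw [h1, ← map_sub]
  refine Ideal.mem_map_of_mem _ ?_
  rw [mem_nn_iff, map_sub, MvPowerSeries.constantCoeff_C, sub_self]

theorem exists_sub_mem_sq (v : TT (fa a f)) (hv : v ∈ nT (fa a f)) :
    ∃ j ∈ IsLocalRing.maximalIdeal (Localization.AtPrime P),
      v - phi a f P hPa j ∈ nT (fa a f) ^ 2 := by
  classical
  have hv' : v ∈ (nn k n).map (Ideal.Quotient.mk (Ideal.span {fa a f})) := hv
  obtain ⟨s, hs, rfl⟩ := (Ideal.mem_map_iff_of_surjective _ Ideal.Quotient.mk_surjective).1 hv'
  have hs' : s ∈ Ideal.span (Set.range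
      (MvPowerSeries.X : Fin n → MvPowerSeries (Fin n) k)) := hs
  obtain ⟨e, he⟩ := (Ideal.mem_span_range_iff_exists_fun).1 hs'
  refine ⟨∑ i, algebraMap k _ (MvPowerSeries.constantCoeff (e i)) * xi a f P i, ?_, ?_⟩
  · exact Ideal.sum_mem _ fun i _ => Ideal.mul_mem_left _ _ (xi_mem a f P hPa i)
  · rw [map_sum]
    have h1 : ∀ i, phi a f P hPa
        (algebraMap k _ (MvPowerSeries.constantCoeff (e i)) * xi a f P i) =
        Ideal.Quotient.mk _
          (MvPowerSeries.C (MvPowerSeries.constantCoeff (e i)) * MvPowerSeries.X i) := by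
      intro i
      rw [map_mul, AlgHom.commutes, phi_xi, map_mul]
      rfl
    rw [Finset.sum_congr rfl (fun i _ => h1 i), ← map_sum, ← map_sub, nT_pow]
    refine Ideal.mem_map_of_mem _ ?_
    rw [← he, ← Finset.sum_sub_distrib]
    refine Ideal.sum_mem _ fun i _ => ?_
    rw [← sub_mul, pow_two]
    refine Ideal.mul_mem_mul ?_ (X_mem_nn i)
    rw [mem_nn_iff, map_sub, MvPowerSeries.constantCoeff_C, sub_self]

include hPa in
theorem mem_pow_of_phi1 (t : ℕ) (b : MvPolynomial (Fin n) k ⧸ Ideal.span {f})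
    (hb : phi1 a f b ∈ nT (fa a f) ^ t) : b ∈ P ^ t := by
  obtain ⟨g, rfl⟩ := Ideal.Quotient.mk_surjective b
  rw [phi1_mk, nT_pow, Ideal.mem_quotient_iff_mem_sup] at hb
  obtain ⟨u, hu, v, hv, huv⟩ := Submodule.mem_sup.1 hb
  obtain ⟨s, rfl⟩ := Ideal.mem_span_singleton'.1 hv
  have hp : s - ((MvPowerSeries.truncTotal t s : MvPolynomial (Fin n) k) :
      MvPowerSeries (Fin n) k) ∈ nn k n ^ t :=
    Groth.Agent.Helper14.PowerSeriesAdic.sub_truncTotal_mem_pow t s
  have h1 : psi0 a (g - tauM a (MvPowerSeries.truncTotal t s) * f) ∈ nn k n ^ t := by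
    have e : psi0 a (g - tauM a (MvPowerSeries.truncTotal t s) * f) =
        u + (s - ((MvPowerSeries.truncTotal t s : MvPolynomial (Fin n) k) :
          MvPowerSeries (Fin n) k)) * fa a f := by
      rw [map_sub, map_mul, psi0_tauM, ← huv]
      unfold fa
      ring
    rw [e]
    exact Ideal.add_mem _ hu (Ideal.mul_mem_right _ _ hp)
  have h2 := mem_ma_pow_of_psi0 a t _ h1
  have h3 : Ideal.Quotient.mk (Ideal.span {f}) g =
      Ideal.Quotient.mk (Ideal.span {f}) (g - tauM a (MvPowerSeries.truncTotal t s) * f) := by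
    rw [map_sub, map_mul, Ideal.Quotient.eq_zero_iff_mem.2 (Ideal.mem_span_singleton_self f),
      mul_zero, sub_zero]
  rw [h3]
  have h5 := Ideal.mem_map_of_mem (Ideal.Quotient.mk (Ideal.span {f})) h2
  rw [Ideal.map_pow] at h5
  exact Ideal.pow_right_mono (map_ma_le a f P hPa) t h5

theorem mem_pow_of_phi (t : ℕ) (l : Localization.AtPrime P)
    (hl : phi a f P hPa l ∈ nT (fa a f) ^ t) :
    l ∈ IsLocalRing.maximalIdeal (Localization.AtPrime P) ^ t := by
  obtain ⟨b, y, rfl⟩ := IsLocalization.exists_mk'_eq P.primeCompl l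
  rw [IsLocalization.mk'_mem_iff]
  have h1 : phi a f P hPa (algebraMap _ _ b) ∈ nT (fa a f) ^ t := by
    rw [← IsLocalization.mk'_spec (Localization.AtPrime P) b y, map_mul]
    exact Ideal.mul_mem_right _ _ hl
  rw [phi_algebraMap] at h1
  have h2 := mem_pow_of_phi1 a f P hPa t b h1
  rw [← Localization.AtPrime.map_eq_maximalIdeal, ← Ideal.map_pow]
  exact Ideal.mem_map_of_mem _ h2

include hPa in
/-- the completed local ring is `k[[x]]/(f_a)` -/
theorem exists_chartEquiv : ComplIso k (Localization.AtPrime P) (TT (fa a f)) := by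
  haveI := isAdicComplete_TT (fa a f)
  exact exists_equiv_of_chart (nT (fa a f)) (phi a f P hPa) (map_phi_le a f P hPa)
    (exists_sub_mem a f P hPa) (exists_sub_mem_sq a f P hPa) (mem_pow_of_phi a f P hPa)

end Chart

end Groth.Agent.Helper11.QSingC
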