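import Mathlib
import Groth.Prelude.Def_QuadSing
import Groth.Agent.Lib.Helper11.QSingC

/-!
# Quadratic singularities: the Jacobian criterion at a rational point of a hypersurface
-/

set_option autoImplicit false

namespace Groth.Agent.Helper11.QSingD

open Groth.Agent.Helper11.QSingA Groth.Agent.Helper11.QSingB Groth.Agent.Helper11.QSingC

universe u

section Nak

theorem nak {O : Type*} [CommRing O] [IsLocalRing O] (J : Ideal O)
    (hfg : (IsLocalRing.maximalIdeal O).FG)
    (h : IsLocalRing.maximalIdeal O ≤ J ⊔ IsLocalRing.maximalIdeal O • IsLocalRing.maximalIdeal O) :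
    IsLocalRing.maximalIdeal O ≤ J :=
  Submodule.le_of_le_smul_of_le_jacobson_bot hfg
    (IsLocalRing.jacobson_eq_maximalIdeal ⊥ bot_ne_top).ge h

end Nak

section Main

variable {k : Type u} [Field k] {n : ℕ} (a : Fin n → k) (f : MvPolynomial (Fin n) k)
  (P : Ideal (MvPolynomial (Fin n) k ⧸ Ideal.span {f})) [P.IsPrime]
  (hPa : ∀ g : MvPolynomial (Fin n) k,
    Ideal.Quotient.mk (Ideal.span {f}) g ∈ P ↔ MvPolynomial.eval a g = 0)

/-- the images of the partial derivatives in the local ring -/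
noncomputable def eta (j : Fin n) : Localization.AtPrime P :=
  algebraMap _ (Localization.AtPrime P)
    (Ideal.Quotient.mk (Ideal.span {f}) (MvPolynomial.pderiv j f))

theorem phi_eta (j : Fin n) :
    phi a f P hPa (eta f P j) =
      Ideal.Quotient.mk _ (MvPowerSeries.pderiv k j (fa a f)) := by
  unfold eta
  rw [phi_algebraMap, phi1_mk, psi0_pderiv]
  rfl

theorem jac_map_eq :
    Ideal.map (algebraMap (MvPolynomial (Fin n) k ⧸ Ideal.span {f}) (Localization.AtPrime P))
      (Ideal.span (Set.range fun j : Fin n =>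
        Ideal.Quotient.mk (Ideal.span {f}) (MvPolynomial.pderiv j f))) =
      Ideal.span (Set.range (eta f P)) := by
  rw [Ideal.map_span, ← Set.range_comp]
  rfl

include hPa in
theorem noLowTerms_fa
    (hf : ∀ j : Fin n, Ideal.Quotient.mk (Ideal.span {f}) (MvPolynomial.pderiv j f) ∈ P) :
    VanCyc.NoLowTerms (fa a f) := by
  constructor
  · unfold fa
    rw [constantCoeff_psi0, ← hPa,
      Ideal.Quotient.eq_zero_iff_mem.2 (Ideal.mem_span_singleton_self f)]
    exact P.zero_mem
  · intro i
    rw [← constantCoeff_pderiv]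
    unfold fa
    rw [← psi0_pderiv, constantCoeff_psi0, ← hPa]
    exact hf i

include hPa in
theorem det_of_b
    (hf : ∀ j : Fin n, Ideal.Quotient.mk (Ideal.span {f}) (MvPolynomial.pderiv j f) ∈ P)
    (hb : Ideal.span (Set.range (eta f P)) =
      IsLocalRing.maximalIdeal (Localization.AtPrime P)) :
    IsUnit (VanCyc.polarMatrix (VanCyc.quadPart (fa a f))).det := by
  classical
  apply det_of_jac (fa a f) (noLowTerms_fa a f P hPa hf)
  unfold nn
  rw [Ideal.span_le]
  rintro _ ⟨i, rfl⟩
  have h1 : xi a f P i ∈ Ideal.span (Set.range (eta f P)) := by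
    rw [hb]
    exact xi_mem a f P hPa i
  obtain ⟨l, hl⟩ := (Ideal.mem_span_range_iff_exists_fun).1 h1
  have h2 := congrArg (phi a f P hPa) hl
  rw [map_sum, phi_xi] at h2
  have hex : ∀ j, ∃ s : MvPowerSeries (Fin n) k,
      Ideal.Quotient.mk (Ideal.span {fa a f}) s = phi a f P hPa (l j) :=
    fun j => Ideal.Quotient.mk_surjective _
  choose s hs using hex
  have h3 : Ideal.Quotient.mk (Ideal.span {fa a f})
      (∑ j, s j * MvPowerSeries.pderiv k j (fa a f)) =
      Ideal.Quotient.mk _ (MvPowerSeries.X i) := by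
    rw [← h2, map_sum]
    refine Finset.sum_congr rfl fun j _ => ?_
    rw [map_mul, map_mul, hs, phi_eta]
  rw [Ideal.Quotient.eq] at h3
  have e : (MvPowerSeries.X i : MvPowerSeries (Fin n) k) =
      (∑ j, s j * MvPowerSeries.pderiv k j (fa a f)) -
        ((∑ j, s j * MvPowerSeries.pderiv k j (fa a f)) - MvPowerSeries.X i) := by ring
  rw [SetLike.mem_coe, e]
  refine Ideal.sub_mem _ (Ideal.mem_sup_left ?_) (Ideal.mem_sup_right h3)
  exact Ideal.sum_mem _ fun j _ => Ideal.mul_mem_left _ _ (Ideal.subset_span ⟨j, rfl⟩)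

include hPa in
theorem b_of_det
    (hf : ∀ j : Fin n, Ideal.Quotient.mk (Ideal.span {f}) (MvPolynomial.pderiv j f) ∈ P)
    (hdet : IsUnit (VanCyc.polarMatrix (VanCyc.quadPart (fa a f))).det) :
    Ideal.span (Set.range (eta f P)) =
      IsLocalRing.maximalIdeal (Localization.AtPrime P) := by
  classical
  have hnl := noLowTerms_fa a f P hPa hf
  have hjac := Groth.Agent.Helper25.JacIdeal.main (fa a f) ⟨hnl, hdet⟩
  apply le_antisymm
  · rw [Ideal.span_le]
    rintro _ ⟨j, rfl⟩
    rw [SetLike.mem_coe, ← Localization.AtPrime.map_eq_maximalIdeal]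
    exact Ideal.mem_map_of_mem _ (hf j)
  · have hfg : (IsLocalRing.maximalIdeal (Localization.AtPrime P)).FG := by
      rw [maxIdeal_eq_span a f P hPa]
      exact Submodule.fg_span (Set.finite_range _)
    apply nak (Ideal.span (Set.range (eta f P))) hfg
    conv_lhs => rw [maxIdeal_eq_span a f P hPa]
    rw [Ideal.span_le]
    rintro _ ⟨i, rfl⟩
    have h1 : (MvPowerSeries.X i : MvPowerSeries (Fin n) k) ∈
        Ideal.span (Set.range fun j => MvPowerSeries.pderiv k j (fa a f)) := by
      rw [hjac, max_eq]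
      exact X_mem_nn i
    obtain ⟨s, hs⟩ := (Ideal.mem_span_range_iff_exists_fun).1 h1
    have h1' : ∀ j, phi a f P hPa
        (algebraMap k _ (MvPowerSeries.constantCoeff (s j)) * eta f P j) =
        Ideal.Quotient.mk _ (MvPowerSeries.C (MvPowerSeries.constantCoeff (s j)) *
          MvPowerSeries.pderiv k j (fa a f)) := by
      intro j
      rw [map_mul, AlgHom.commutes, phi_eta, map_mul]
      rfl
    have hz : phi a f P hPa (xi a f P i -
        ∑ j, algebraMap k _ (MvPowerSeries.constantCoeff (s j)) * eta f P j) ∈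
        nT (fa a f) ^ 2 := by
      rw [map_sub, map_sum, phi_xi, Finset.sum_congr rfl (fun j _ => h1' j), ← map_sum,
        ← map_sub, nT_pow]
      refine Ideal.mem_map_of_mem _ ?_
      rw [← hs, ← Finset.sum_sub_distrib]
      refine Ideal.sum_mem _ fun j _ => ?_
      rw [← sub_mul, pow_two]
      refine Ideal.mul_mem_mul ?_ (pderiv_mem_nn _ hnl.2 j)
      rw [mem_nn_iff, map_sub, MvPowerSeries.constantCoeff_C, sub_self]
    have hz2 := mem_pow_of_phi a f P hPa 2 _ hz
    have e : xi a f P i =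
        ∑ j, algebraMap k _ (MvPowerSeries.constantCoeff (s j)) * eta f P j +
          (xi a f P i -
            ∑ j, algebraMap k _ (MvPowerSeries.constantCoeff (s j)) * eta f P j) := by ring
    rw [SetLike.mem_coe, e]
    refine Submodule.add_mem _ (Submodule.mem_sup_left ?_) (Submodule.mem_sup_right ?_)
    · exact Ideal.sum_mem _ fun j _ => Ideal.mul_mem_left _ _ (Ideal.subset_span ⟨j, rfl⟩)
    · rw [smul_eq_mul, ← pow_two]
      exact hz2

end Main

section Final

variable {k : Type u} [Field k] {m : ℕ} (a : Fin (m + 1) → k)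
  (f : MvPolynomial (Fin (m + 1)) k)
  (P : Ideal (MvPolynomial (Fin (m + 1)) k ⧸ Ideal.span {f})) [P.IsPrime]
  (hPa : ∀ g : MvPolynomial (Fin (m + 1)) k,
    Ideal.Quotient.mk (Ideal.span {f}) g ∈ P ↔ MvPolynomial.eval a g = 0)

include hPa in
theorem main
    (hf : ∀ j : Fin (m + 1),
      Ideal.Quotient.mk (Ideal.span {f}) (MvPolynomial.pderiv j f) ∈ P) :
    Ideal.map (algebraMap (MvPolynomial (Fin (m + 1)) k ⧸ Ideal.span {f})
        (Localization.AtPrime P))
        (Ideal.span (Set.range fun j : Fin (m + 1) =>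
          Ideal.Quotient.mk (Ideal.span {f}) (MvPolynomial.pderiv j f))) =
      IsLocalRing.maximalIdeal (Localization.AtPrime P) ↔
    VanCyc.IsNondegQuadSing k (Localization.AtPrime P) m := by
  rw [jac_map_eq]
  have hch := exists_chartEquiv a f P hPa
  unfold ComplIso at hch
  obtain ⟨e⟩ := hch
  constructor
  · intro hb
    exact ⟨fa a f, ⟨noLowTerms_fa a f P hPa hf, det_of_b a f P hPa hf hb⟩, ⟨e⟩⟩
  · rintro ⟨g, hg, ⟨e'⟩⟩
    exact b_of_det a f P hPa hf
      (nondeg_of_equiv (fa a f) g (noLowTerms_fa a f P hPa hf) hg (e.symm.trans e'))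

end Final

section AlgClosed

variable {k : Type u} [Field k] [IsAlgClosed k] {m : ℕ}
  (f : MvPolynomial (Fin (m + 1)) k)
  (P : Ideal (MvPolynomial (Fin (m + 1)) k ⧸ Ideal.span {f})) [P.IsMaximal]

theorem exists_point : ∃ a : Fin (m + 1) → k, ∀ g : MvPolynomial (Fin (m + 1)) k,
    Ideal.Quotient.mk (Ideal.span {f}) g ∈ P ↔ MvPolynomial.eval a g = 0 := by
  have hmax : (P.comap (Ideal.Quotient.mk (Ideal.span {f}))).IsMaximal :=
    Ideal.comap_isMaximal_of_surjective _ Ideal.Quotient.mk_surjective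
  obtain ⟨a, ha⟩ := MvPolynomial.isMaximal_iff_eq_vanishingIdeal_singleton.1 hmax
  refine ⟨a, fun g => ?_⟩
  rw [← Ideal.mem_comap, ha, MvPolynomial.mem_vanishingIdeal_singleton_iff]
  rfl

end AlgClosed

end Groth.Agent.Helper11.QSingD
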