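import Mathlib
import Groth.Agent.Lib.Helper26.LesDim
import Groth.Agent.Lib.Helper13.FreeMod

/-!
# A dimension count for a quotient of the structure sheaf (helper11, for helper13)

For a short exact sequence `0 → I → O_X → Q → 0` on a scheme over a field with `h⁰(O_X) = 1`,
`H¹(O_X) = 0` and `H¹(I) ≠ 0`, one has `h⁰(Q) ≥ 2`.
-/

set_option autoImplicit false
set_option linter.unusedSectionVars false
set_option linter.unusedVariables false
set_option linter.style.haveILetI false

universe u

open CategoryTheory CategoryTheory.Limits AlgebraicGeometry Opposite TopologicalSpace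

namespace Groth.Agent.Helper11.QuotModRank

open Groth.Agent.Helper13.LocFree Groth.Agent.Helper26.LesDim Groth.Agent.Helper26.PnFin
  Groth.Agent.Helper26.DualFun

variable {X : Scheme.{u}}

/-- a morphism out of the structure sheaf which kills the global section `1` is zero -/
theorem hom_eq_zero_of_app_top {M : X.Modules} (g : Coh.structureModule X ⟶ M)
    (h : g.app ⊤ (toO ⊤ 1) = 0) : g = 0 := by
  apply M.unitHomEquiv.injective
  apply PresheafOfModules.sections_ext
  intro V
  have h1 := PresheafOfModules.sections_property (M.unitHomEquiv g)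
    (homOfLE (le_top : V.unop ≤ ⊤)).op
  have h2 : (M.unitHomEquiv g).val (op ⊤) = 0 := h
  rw [h2] at h1
  have h3 : (M.unitHomEquiv (0 : Coh.structureModule X ⟶ M)).val V = 0 := rfl
  exact (h1.symm.trans (map_zero _)).trans h3.symm

/-- if `H⁰` of a morphism out of the structure sheaf vanishes, the morphism is zero -/
theorem hom_eq_zero_of_H0 {M : X.Modules} (g : Coh.structureModule X ⟶ M)
    (h : ∀ y : Coh.HH X (Coh.structureModule X) 0,
      Sheaf.H.map ((SheafOfModules.toSheaf X.ringCatSheaf).map g) 0 y = 0) : g = 0 := by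
  apply hom_eq_zero_of_app_top
  have hT : IsTerminal (⊤ : Opens X) := isTerminalTop
  have hn := Sheaf.H.equiv₀_naturality hT ((SheafOfModules.toSheaf X.ringCatSheaf).map g)
    ((Sheaf.H.equiv₀ (Coh.toAb (Coh.structureModule X)) hT).symm (toO ⊤ 1))
  rw [h, map_zero] at hn
  have e := AddEquiv.apply_symm_apply
    (Sheaf.H.equiv₀ (Coh.toAb (Coh.structureModule X)) hT) (toO ⊤ 1)
  have e2 := congrArg
    (fun t => (((SheafOfModules.toSheaf X.ringCatSheaf).map g).hom.app (op ⊤)) t) e
  exact e2.symm.trans hn

variable (k : Type u) [Field k] [X.Over (Spec (CommRingCat.of k))]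

/-- the dimension count -/
theorem two_le_finrank_of_shortExact {I Q : X.Modules} (f : I ⟶ Coh.structureModule X)
    (g : Coh.structureModule X ⟶ Q) (w : f ≫ g = 0) (hS : (ShortComplex.mk f g w).ShortExact)
    [FiniteDimensional k (Coh.HH X I 0)]
    [FiniteDimensional k (Coh.HH X (Coh.structureModule X) 0)]
    [FiniteDimensional k (Coh.HH X Q 0)] [FiniteDimensional k (Coh.HH X I 1)]
    (h0 : Module.finrank k (Coh.HH X (Coh.structureModule X) 0) = 1)
    (hg : Subsingleton (Coh.HH X (Coh.structureModule X) 1))
    (h1 : Nontrivial (Coh.HH X I 1)) :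
    2 ≤ Module.finrank k (Coh.HH X Q 0) := by
  have hfour := finrank_four_bot k (ShortComplex.mk f g w) hS hg
  dsimp only at hfour
  have hh : 0 < Module.finrank k (Coh.HH X I 1) := Module.finrank_pos
  have hinj := HHlin_f_injective_zero k (ShortComplex.mk f g w) hS
  dsimp only at hinj
  have hle : Module.finrank k (Coh.HH X I 0) ≤
      Module.finrank k (Coh.HH X (Coh.structureModule X) 0) :=
    LinearMap.finrank_le_finrank_of_injective hinj
  have ha : Module.finrank k (Coh.HH X I 0) = 0 := by
    by_contra hne
    have heq : Module.finrank k (Coh.HH X I 0) =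
        Module.finrank k (Coh.HH X (Coh.structureModule X) 0) := by omega
    have hsurj : Function.Surjective (Canon.HHlin k f 0) :=
      (LinearMap.injective_iff_surjective_of_finrank_eq_finrank heq).mp hinj
    have hg0 : ∀ y, Canon.HHlin k g 0 y = 0 := by
      intro y
      obtain ⟨x, rfl⟩ := hsurj y
      exact HHlin_g_f k (ShortComplex.mk f g w) 0 x
    have hgz : g = 0 := hom_eq_zero_of_H0 g hg0
    haveI : Epi g := hS.epi_g
    have hQ : IsZero Q := by
      rw [IsZero.iff_id_eq_zero]
      apply (cancel_epi g).mp
      rw [hgz, zero_comp, zero_comp]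
    have hz : Module.finrank k (Coh.HH X Q 0) = 0 := by
      haveI : Subsingleton (Coh.HH X Q 0) := by
        refine ⟨fun a b => ?_⟩
        have hid : (𝟙 Q : Q ⟶ Q) = 0 := hQ.eq_of_src _ _
        have key : ∀ c : Coh.HH X Q 0, c = 0 := by
          intro c
          have h1 : Canon.HHlin k (𝟙 Q) 0 c = c := by
            rw [HHlin_id]
            rfl
          rw [hid, HHlin_zero] at h1
          exact h1.symm
        rw [key a, key b]
      exact Module.finrank_zero_of_subsingleton
    omega
  omega

end Groth.Agent.Helper11.QuotModRank
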