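import Mathlib

/-!
# Right derived functors from functorial right resolutions (helper11)

Dual of `Groth.Agent.Lib.Helper5.LDer1`.
-/

set_option autoImplicit false
set_option linter.unusedSectionVars false
set_option linter.unusedVariables false
set_option linter.style.haveILetI false

open CategoryTheory CategoryTheory.Limits

namespace Groth.Agent.Helper11.RDer

universe v₁ v₂ v₃ u₁ u₂ u₃

variable {C : Type u₁} {D : Type u₂} {H : Type u₃} [Category.{v₁} C] [Category.{v₂} D]
  [Category.{v₃} H]
  (L : C ⥤ D) (W : MorphismProperty C) [L.IsLocalization W]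
  (F : C ⥤ H) (P : C ⥤ C) (ψ : 𝟭 C ⟶ P)
  (hψ : ∀ X, W (ψ.app X))
  (hPF : W.IsInvertedBy (P ⋙ F))
  (hF' : ∀ Y, IsIso (F.map (ψ.app (P.obj Y))))

/-- the candidate right derived functor -/
noncomputable def RF : D ⥤ H := Localization.lift (P ⋙ F) hPF L

/-- the defining isomorphism of the candidate -/
noncomputable def RFiso : L ⋙ RF L W F P hPF ≅ P ⋙ F := Localization.fac _ _ _

/-- the unit of the candidate -/
noncomputable def α : F ⟶ L ⋙ RF L W F P hPF where
  app X := F.map (ψ.app X) ≫ (RFiso L W F P hPF).inv.app X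
  naturality X Y f := by
    have h1 := (RFiso L W F P hPF).inv.naturality f
    have h2 := ψ.naturality f
    simp only [Functor.comp_map, Functor.id_map] at h1 h2 ⊢
    rw [Category.assoc, ← h1, ← F.map_comp_assoc, ← F.map_comp_assoc, h2]

lemma α_app (X : C) :
    (α L W F P ψ hPF).app X = F.map (ψ.app X) ≫ (RFiso L W F P hPF).inv.app X := rfl

include hψ in
lemma isIso_L_ψ (X : C) : IsIso (L.map (ψ.app X)) := Localization.inverts L W _ (hψ X)

section Desc

variable (G : D ⥤ H) (β : F ⟶ L ⋙ G)

include hψ in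
lemma isIso_GLψ (X : C) : IsIso (G.map (L.map (ψ.app X))) := by
  haveI := isIso_L_ψ L W P ψ hψ X
  infer_instance

/-- the natural transformation `L ⋙ RF ⟶ L ⋙ G` inducing the descent -/
noncomputable def τ : L ⋙ RF L W F P hPF ⟶ L ⋙ G where
  app X :=
    haveI := isIso_GLψ L W P ψ hψ G X
    (RFiso L W F P hPF).hom.app X ≫ β.app (P.obj X) ≫ inv (G.map (L.map (ψ.app X)))
  naturality X Y f := by
    haveI := isIso_GLψ L W P ψ hψ G X
    haveI := isIso_GLψ L W P ψ hψ G Y
    have h1 := (RFiso L W F P hPF).hom.naturality f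
    have h2 := ψ.naturality f
    have h3 := β.naturality (P.map f)
    simp only [Functor.comp_map, Functor.id_map] at h1 h2 h3 ⊢
    have h4 : inv (G.map (L.map (ψ.app X))) ≫ G.map (L.map f) =
        G.map (L.map (P.map f)) ≫ inv (G.map (L.map (ψ.app Y))) := by
      rw [IsIso.eq_comp_inv, Category.assoc, IsIso.inv_comp_eq, ← G.map_comp, ← L.map_comp, h2,
        L.map_comp, G.map_comp]
    rw [reassoc_of% h1, reassoc_of% h3, ← h4, Category.assoc, Category.assoc]

lemma τ_app (X : C) :
    haveI := isIso_GLψ L W P ψ hψ G X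
    (τ L W F P ψ hψ hPF G β).app X =
      (RFiso L W F P hPF).hom.app X ≫ β.app (P.obj X) ≫ inv (G.map (L.map (ψ.app X))) := rfl

/-- the descent -/
noncomputable def γ : RF L W F P hPF ⟶ G :=
  Localization.liftNatTrans L W (L ⋙ RF L W F P hPF) (L ⋙ G) (RF L W F P hPF) G
    (τ L W F P ψ hψ hPF G β)

lemma γ_app (X : C) :
    (γ L W F P ψ hψ hPF G β).app (L.obj X) = (τ L W F P ψ hψ hPF G β).app X := by
  rw [γ, Localization.liftNatTrans_app]
  simp [Localization.Lifting.iso]

lemma γ_fac (X : C) :
    (α L W F P ψ hPF).app X ≫ (γ L W F P ψ hψ hPF G β).app (L.obj X) = β.app X := by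
  haveI := isIso_GLψ L W P ψ hψ G X
  have n := β.naturality (ψ.app X)
  simp only [Functor.comp_map, Functor.id_obj] at n
  rw [γ_app, τ_app, α_app, Category.assoc, Iso.inv_hom_id_app_assoc, reassoc_of% n,
    IsIso.hom_inv_id, Category.comp_id]

end Desc

section Unique

include hψ in
lemma L_map_eq (X : C) : L.map (P.map (ψ.app X)) = L.map (ψ.app (P.obj X)) := by
  haveI := isIso_L_ψ L W P ψ hψ X
  rw [← cancel_epi (L.map (ψ.app X)), ← L.map_comp, ← L.map_comp]
  exact congrArg L.map (ψ.naturality (ψ.app X)).symm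

lemma RF_map_L (X Y : C) (f : X ⟶ Y) :
    (RF L W F P hPF).map (L.map f) =
      (RFiso L W F P hPF).hom.app X ≫ F.map (P.map f) ≫ (RFiso L W F P hPF).inv.app Y := by
  have h1 := (RFiso L W F P hPF).hom.naturality f
  simp only [Functor.comp_map] at h1
  calc (RF L W F P hPF).map (L.map f)
      = (RF L W F P hPF).map (L.map f) ≫ (RFiso L W F P hPF).hom.app Y ≫
          (RFiso L W F P hPF).inv.app Y := by simp
    _ = _ := by rw [← Category.assoc, h1, Category.assoc]

include L W hψ hPF in
lemma FP_map_eq (X : C) :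
    F.map (P.map (P.map (ψ.app X))) = F.map (P.map (ψ.app (P.obj X))) := by
  have h1 := RF_map_L L W F P hPF _ _ (P.map (ψ.app X))
  have h2 := RF_map_L L W F P hPF _ _ (ψ.app (P.obj X))
  rw [L_map_eq L W P ψ hψ X, h2] at h1
  have h3 := congrArg (fun t => (RFiso L W F P hPF).inv.app _ ≫ t ≫
    (RFiso L W F P hPF).hom.app _) h1
  simpa using h3.symm

include L W hψ hPF hF' in
lemma F_map_eq (X : C) : F.map (P.map (ψ.app X)) = F.map (ψ.app (P.obj X)) := by
  haveI := hF' (P.obj X)
  rw [← cancel_mono (F.map (ψ.app (P.obj (P.obj X)))), ← F.map_comp, ← F.map_comp]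
  have na := ψ.naturality (P.map (ψ.app X))
  have nb := ψ.naturality (ψ.app (P.obj X))
  simp only [Functor.id_map, Functor.id_obj] at na nb
  rw [na, nb, F.map_comp, F.map_comp, FP_map_eq L W F P ψ hψ hPF X]

variable (G : D ⥤ H) (β : F ⟶ L ⋙ G)

include hF' in
lemma γ_uniq (γ' : RF L W F P hPF ⟶ G)
    (h : ∀ X, (α L W F P ψ hPF).app X ≫ γ'.app (L.obj X) = β.app X) :
    γ' = γ L W F P ψ hψ hPF G β := by
  apply Localization.natTrans_ext L W
  intro X
  haveI := isIso_GLψ L W P ψ hψ G X
  rw [γ_app, τ_app, ← Category.assoc, IsIso.eq_comp_inv]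
  have n1 := γ'.naturality (L.map (ψ.app X))
  simp only [Functor.id_obj] at n1
  rw [← n1, ← h (P.obj X), α_app, RF_map_L, F_map_eq L W F P ψ hψ hPF hF' X]
  simp only [Category.assoc]

end Unique

section Main

include hψ hF' in
theorem isRightDerivedFunctor :
    (RF L W F P hPF).IsRightDerivedFunctor (α L W F P ψ hPF) W := by
  constructor
  refine ⟨⟨IsInitial.ofUniqueHom
    (fun E => StructuredArrow.homMk (γ L W F P ψ hψ hPF E.right E.hom) ?_) ?_⟩⟩
  · ext X
    exact γ_fac L W F P ψ hψ hPF E.right E.hom X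
  · intro E m
    apply StructuredArrow.hom_ext
    refine γ_uniq L W F P ψ hψ hPF hF' E.right E.hom m.right ?_
    intro X
    exact congrArg (fun t => t.app X) (StructuredArrow.w m)

include L W hψ hPF hF' in
theorem hasRightDerivedFunctor : F.HasRightDerivedFunctor W := by
  haveI := isRightDerivedFunctor L W F P ψ hψ hPF hF'
  exact Functor.HasRightDerivedFunctor.mk' (RF L W F P hPF) (α L W F P ψ hPF)

include L W hψ hPF hF' in
/-- the unit of any right derived functor is an isomorphism at `X` as soon as `F` inverts the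
resolution of `X` -/
theorem isIso_unit_app (RF' : D ⥤ H) (α' : F ⟶ L ⋙ RF') [RF'.IsRightDerivedFunctor α' W]
    (X : C) (hX : IsIso (F.map (ψ.app X))) : IsIso (α'.app X) := by
  haveI := isRightDerivedFunctor L W F P ψ hψ hPF hF'
  let e := Functor.rightDerivedNatIso RF' (RF L W F P hPF) α' (α L W F P ψ hPF) W (Iso.refl F)
  have h : α'.app X ≫ e.hom.app (L.obj X) = (α L W F P ψ hPF).app X := by
    have h0 := Functor.rightDerivedNatTrans_app RF' (RF L W F P hPF) α' (α L W F P ψ hPF) W
      (𝟙 F) X
    rw [NatTrans.id_app, Category.id_comp] at h0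
    exact h0
  have h' : α'.app X = (α L W F P ψ hPF).app X ≫ e.inv.app (L.obj X) := by
    rw [← h, Category.assoc, Iso.hom_inv_id_app]
    exact (Category.comp_id _).symm
  rw [h', α_app]
  infer_instance

include L W hψ hPF hF' in
/-- a functor with a natural transformation from `F` which is an isomorphism on the resolutions
is a right derived functor -/
theorem isRightDerivedFunctor_of_isIso (G : D ⥤ H) (β : F ⟶ L ⋙ G)
    (hβ : ∀ X, IsIso (β.app (P.obj X))) : G.IsRightDerivedFunctor β W := by
  haveI := isRightDerivedFunctor L W F P ψ hψ hPF hF'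
  rw [Functor.isRightDerivedFunctor_iff_isIso_rightDerivedDesc (RF L W F P hPF)
    (α L W F P ψ hPF) W G β]
  set g := (RF L W F P hPF).rightDerivedDesc (α L W F P ψ hPF) W G β with hg
  have h1 : ∀ X, IsIso (g.app (L.obj (P.obj X))) := by
    intro X
    have hfac := Functor.rightDerived_fac_app (RF L W F P hPF) (α L W F P ψ hPF) W G β (P.obj X)
    haveI := hβ X
    haveI : IsIso ((α L W F P ψ hPF).app (P.obj X)) := by
      rw [α_app]
      haveI := hF' X
      infer_instance
    have : g.app (L.obj (P.obj X)) = inv ((α L W F P ψ hPF).app (P.obj X)) ≫ β.app (P.obj X) := by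
      rw [IsIso.eq_inv_comp]
      exact hfac
    rw [this]
    infer_instance
  have h2 : ∀ X, IsIso (g.app (L.obj X)) := by
    intro X
    haveI := isIso_L_ψ L W P ψ hψ X
    haveI := h1 X
    have n := g.naturality (L.map (ψ.app X))
    simp only [Functor.id_obj] at n
    have : g.app (L.obj X) = (RF L W F P hPF).map (L.map (ψ.app X)) ≫
        g.app (L.obj (P.obj X)) ≫ inv (G.map (L.map (ψ.app X))) := by
      rw [← Category.assoc, IsIso.eq_comp_inv]
      exact n.symm
    rw [this]
    infer_instance
  haveI : L.EssSurj := Localization.essSurj L W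
  haveI : ∀ Y : D, IsIso (g.app Y) := by
    intro Y
    have e := L.objObjPreimageIso Y
    have n := g.naturality e.hom
    haveI := h2 (L.objPreimage Y)
    have : g.app Y = (RF L W F P hPF).map e.inv ≫ g.app (L.obj (L.objPreimage Y)) ≫
        G.map e.hom := by
      rw [← n, ← Category.assoc, ← Functor.map_comp, e.inv_hom_id,
        CategoryTheory.Functor.map_id, Category.id_comp]
    rw [this]
    infer_instance
  exact NatIso.isIso_of_isIso_app g

end Main

end Groth.Agent.Helper11.RDer
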