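import Groth.Agent.Lib.Helper11.KI1
import Groth.Agent.Lib.Helper11.DCP5
import Groth.Prelude.Def_DRing3
import Mathlib.Algebra.Homology.Linear

/-!
# `RΓ_I` on K-injective complexes; `RΓ_I` kills complexes on which some `f ∈ I` is invertible
(helper11)
-/

set_option autoImplicit false

open CategoryTheory CategoryTheory.Limits DerivedCategory

universe u

attribute [local instance] HasDerivedCategory.standard

namespace Groth.Agent.Helper11.RGam

open Groth.Agent.Helper11.DCP Groth.Agent.Helper11.DC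

variable {A : Type u} [CommRing A] (I : Ideal A)

instance gammaI_linear : (DRing.gammaI I).Linear A where
  map_smul := by
    intro X Y g r
    rfl

/-- the termwise torsion complex -/
noncomputable abbrev gamCx (J : DRing.Cx A) : DRing.Cx A :=
  ((DRing.gammaI I).mapHomologicalComplex (ComplexShape.up ℤ)).obj J

/-- `RΓ_I` of a K-injective complex is computed termwise -/
noncomputable def RgammaIIso [DRing.HasRgammaI I] (J : DRing.Cx A) [J.IsKInjective] :
    (DRing.RgammaI I).obj (Q.obj J) ≅ Q.obj (gamCx I J) := by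
  haveI := Groth.Agent.Helper11.KI.isIso_unit (DRing.gammaIKh I) (DRing.RgammaI I)
    ((DRing.gammaIKh I).totalRightDerivedUnit Qh
      (HomotopyCategory.quasiIso (ModuleCat.{u} A) (ComplexShape.up ℤ))) J
  exact (DRing.RgammaI I).mapIso ((quotientCompQhIso (ModuleCat.{u} A)).symm.app J) ≪≫
    (asIso (((DRing.gammaIKh I).totalRightDerivedUnit Qh
      (HomotopyCategory.quasiIso (ModuleCat.{u} A) (ComplexShape.up ℤ))).app
        ((HomotopyCategory.quotient (ModuleCat.{u} A) (ComplexShape.up ℤ)).obj J))).symm ≪≫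
    Qh.mapIso (((DRing.gammaI I).mapHomotopyCategoryFactors (ComplexShape.up ℤ)).app J) ≪≫
    (quotientCompQhIso (ModuleCat.{u} A)).app (gamCx I J)

theorem eq_zero_of_pow_smul_eq_zero {M : Type u} [AddCommGroup M] [Module A M] (f : A)
    (hinj : Function.Injective (fun x : M => f • x)) (m : ℕ) (x : M) (h : f ^ m • x = 0) :
    x = 0 := by
  induction m with
  | zero => simpa using h
  | succ m ih =>
    apply ih
    rw [pow_succ', mul_smul] at h
    exact hinj (show f • (f ^ m • x) = f • 0 by rw [h, smul_zero])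

/-- elements of the cohomology of the torsion complex are killed by a power of `f ∈ I` -/
theorem exists_pow_smul_homology_gamCx (J : DRing.Cx A) (f : A) (hf : f ∈ I) (n : ℤ)
    (x : (gamCx I J).homology n) : ∃ m : ℕ, f ^ m • x = 0 := by
  have hsurj : Function.Surjective ((gamCx I J).homologyπ n) :=
    (ModuleCat.epi_iff_surjective _).mp inferInstance
  have hinj : Function.Injective ((gamCx I J).iCycles n) :=
    (ModuleCat.mono_iff_injective _).mp inferInstance
  obtain ⟨z, rfl⟩ := hsurj x
  have hw : ∃ m : ℕ, f ^ m • ((gamCx I J).iCycles n).hom z = 0 := by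
    let w : DRing.torsionSub I (J.X n) := ((gamCx I J).iCycles n).hom z
    obtain ⟨m, hm⟩ := w.2
    refine ⟨m, ?_⟩
    show f ^ m • w = 0
    apply Subtype.ext
    exact hm (f ^ m) (Ideal.pow_mem_pow hf m)
  obtain ⟨m, hm⟩ := hw
  refine ⟨m, ?_⟩
  have hz : f ^ m • z = 0 := by
    apply hinj
    rw [map_smul, map_zero]
    exact hm
  rw [← map_smul, hz, map_zero]

theorem isZero_Q_gamCx_of_smul (J : DRing.Cx A) [J.IsKInjective] (f : A) (hf : f ∈ I)
    (hJ : IsIso (f • 𝟙 (Q.obj J))) : IsZero (Q.obj (gamCx I J)) := by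
  -- `f` on `J` is a quasi-isomorphism, hence a homotopy equivalence
  have h1 : Q.map (f • 𝟙 J) = f • 𝟙 (Q.obj J) := by
    rw [Functor.map_smul, CategoryTheory.Functor.map_id]
  haveI : IsIso (Q.map (f • 𝟙 J)) := by
    rw [h1]
    exact hJ
  haveI hq : QuasiIso (f • 𝟙 J) := (isIso_Q_map_iff_quasiIso _ (f • 𝟙 J)).mp inferInstance
  haveI h2 : IsIso ((HomotopyCategory.quotient (ModuleCat.{u} A) (ComplexShape.up ℤ)).map
      (f • 𝟙 J)) :=
    Groth.Agent.Helper11.KI.isIso_of_W _
      ((HomotopyCategory.quotient_map_mem_quasiIso_iff (f • 𝟙 J)).2 hq)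
  -- apply `Γ_I`
  haveI h3 : IsIso (((DRing.gammaI I).mapHomologicalComplex (ComplexShape.up ℤ) ⋙
      HomotopyCategory.quotient (ModuleCat.{u} A) (ComplexShape.up ℤ)).map (f • 𝟙 J)) := by
    rw [← NatIso.isIso_map_iff ((DRing.gammaI I).mapHomotopyCategoryFactors (ComplexShape.up ℤ))]
    dsimp only [Functor.comp_map]
    infer_instance
  have h4 : ((DRing.gammaI I).mapHomologicalComplex (ComplexShape.up ℤ)).map (f • 𝟙 J) =
      f • 𝟙 (gamCx I J) := by
    rw [Functor.map_smul, CategoryTheory.Functor.map_id]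
  have h5 : HomotopyCategory.quasiIso (ModuleCat.{u} A) (ComplexShape.up ℤ)
      ((HomotopyCategory.quotient (ModuleCat.{u} A) (ComplexShape.up ℤ)).map
        (f • 𝟙 (gamCx I J))) := by
    rw [← h4]
    refine (HomotopyCategory.mem_quasiIso_iff _).2 (fun n => ?_)
    have : IsIso ((HomotopyCategory.quotient (ModuleCat.{u} A) (ComplexShape.up ℤ)).map
        (((DRing.gammaI I).mapHomologicalComplex (ComplexShape.up ℤ)).map (f • 𝟙 J))) := h3
    infer_instance
  haveI h6 : QuasiIso (f • 𝟙 (gamCx I J)) :=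
    (HomotopyCategory.quotient_map_mem_quasiIso_iff _).1 h5
  apply isZero_of_homology_isZero
  intro n
  refine IsZero.of_iso ?_ ((homologyFunctorFactors (ModuleCat.{u} A) n).app (gamCx I J))
  show IsZero ((gamCx I J).homology n)
  have h7 : IsIso (HomologicalComplex.homologyMap (f • 𝟙 (gamCx I J)) n) := inferInstance
  have h8 : HomologicalComplex.homologyMap (f • 𝟙 (gamCx I J)) n =
      f • 𝟙 ((gamCx I J).homology n) := by
    have := hc_homologyFunctor_linear A (ModuleCat.{u} A) n
    show (HomologicalComplex.homologyFunctor (ModuleCat.{u} A) (ComplexShape.up ℤ) n).map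
      (f • 𝟙 (gamCx I J)) = _
    rw [Functor.map_smul, CategoryTheory.Functor.map_id]
    rfl
  rw [h8] at h7
  have hbij := (ConcreteCategory.isIso_iff_bijective
    (f • 𝟙 ((gamCx I J).homology n))).mp h7
  have hzero : ∀ x : (gamCx I J).homology n, x = 0 := by
    intro x
    obtain ⟨m, hm⟩ := exists_pow_smul_homology_gamCx I J f hf n x
    exact eq_zero_of_pow_smul_eq_zero f hbij.1 m x hm
  haveI : Subsingleton ((gamCx I J).homology n) := ⟨fun a b => by rw [hzero a, hzero b]⟩
  exact ModuleCat.isZero_of_subsingleton _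

/-- statement S8933 -/
theorem S8933_statement (I : Ideal A) [DRing.HasRgammaI I]
    (K : CochainComplex (ModuleCat.{u} A) ℤ) (f : A) (hf : f ∈ I)
    (hK : ∀ n : ℤ, Function.Bijective (fun x : K.X n => f • x)) :
    IsZero ((DRing.RgammaI I).obj (DerivedCategory.Q.obj K)) := by
  obtain ⟨J, r, hJ, hr, _, _⟩ := Groth.Agent.Helper29.KInjE.exists_kInjective_resolution K
  haveI : IsIso (Q.map r) := by
    rw [isIso_Q_map_iff_quasiIso]
    exact hr
  let e : Q.obj K ≅ Q.obj J := asIso (Q.map r)
  have hK' : FLocal f (Q.obj K) := isIso_smul_toD K f hK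
  have hJ' : IsIso (f • 𝟙 (Q.obj J)) := hK'.of_iso e
  exact IsZero.of_iso (isZero_Q_gamCx_of_smul I J f hf hJ')
    ((DRing.RgammaI I).mapIso e ≪≫ RgammaIIso I J)

end Groth.Agent.Helper11.RGam
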