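import Groth.Agent.Lib.Helper11.RGam1
import Groth.Agent.Lib.Helper8.LCNoeth
import Mathlib.Algebra.Homology.HomologySequenceLemmas

/-!
# `Γ_f C → C` is a quasi-isomorphism for complexes of injectives with `f`-power torsion cohomology
(Noetherian ring; helper11)
-/

set_option autoImplicit false

open CategoryTheory CategoryTheory.Limits DerivedCategory

universe u

attribute [local instance] HasDerivedCategory.standard

namespace Groth.Agent.Helper11.RGam

open Groth.Agent.Helper11.DCP Groth.Agent.Helper11.DC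

variable {A : Type u} [CommRing A]

theorem mem_torsionSub_span_singleton_iff (f : A) {M : Type u} [AddCommGroup M] [Module A M]
    (x : M) : x ∈ DRing.torsionSub (Ideal.span {f}) M ↔ ∃ k : ℕ, f ^ k • x = 0 := by
  constructor
  · rintro ⟨n, hn⟩
    exact ⟨n, hn _ (Ideal.pow_mem_pow (Ideal.mem_span_singleton_self f) n)⟩
  · rintro ⟨k, hk⟩
    refine ⟨k, fun a ha => ?_⟩
    rw [Ideal.span_singleton_pow, Ideal.mem_span_singleton'] at ha
    obtain ⟨c, rfl⟩ := ha
    rw [mul_smul, hk, smul_zero]

/-- over a Noetherian ring, an injective module is `f`-divisible modulo `f`-power torsion -/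
theorem exists_pow_succ_smul_eq [IsNoetherianRing A] (E : Type u) [AddCommGroup E] [Module A E]
    [Module.Injective A E] (f : A) (x : E) :
    ∃ (n : ℕ) (y : E), f ^ (n + 1) • y = f ^ n • x := by
  let c : ℕ →o Submodule A A :=
    { toFun := fun n => LinearMap.ker (LinearMap.toSpanSingleton A A (f ^ n))
      monotone' := by
        intro n m hnm a ha
        rw [LinearMap.mem_ker, LinearMap.toSpanSingleton_apply, smul_eq_mul] at ha ⊢
        obtain ⟨k, rfl⟩ := Nat.exists_eq_add_of_le hnm
        rw [pow_add, ← mul_assoc, ha, zero_mul] }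
  obtain ⟨n, hn⟩ := monotone_stabilizes_iff_noetherian.mpr (inferInstance : IsNoetherian A A) c
  have hker : ∀ a : A, a * f ^ (n + 1) = 0 → a * f ^ n = 0 := by
    intro a ha
    have h1 : a ∈ c (n + 1) := by
      show a ∈ LinearMap.ker (LinearMap.toSpanSingleton A A (f ^ (n + 1)))
      rw [LinearMap.mem_ker, LinearMap.toSpanSingleton_apply, smul_eq_mul, ha]
    rw [← hn (n + 1) (Nat.le_succ n)] at h1
    have h2 : a ∈ LinearMap.ker (LinearMap.toSpanSingleton A A (f ^ n)) := h1
    rwa [LinearMap.mem_ker, LinearMap.toSpanSingleton_apply, smul_eq_mul] at h2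
  let K : Submodule A A := LinearMap.ker (LinearMap.toSpanSingleton A A (f ^ (n + 1)))
  let φ : (A ⧸ K) →ₗ[A] A := K.liftQ (LinearMap.toSpanSingleton A A (f ^ (n + 1))) le_rfl
  have hφ : Function.Injective φ := by
    rw [← LinearMap.ker_eq_bot]
    exact Submodule.ker_liftQ_eq_bot _ _ _ le_rfl
  let g : (A ⧸ K) →ₗ[A] E := K.liftQ (LinearMap.toSpanSingleton A E (f ^ n • x)) (by
    intro a ha
    have ha' : a * f ^ (n + 1) = 0 := by
      have h : a ∈ LinearMap.ker (LinearMap.toSpanSingleton A A (f ^ (n + 1))) := ha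
      rwa [LinearMap.mem_ker, LinearMap.toSpanSingleton_apply, smul_eq_mul] at h
    rw [LinearMap.mem_ker, LinearMap.toSpanSingleton_apply, smul_smul, hker a ha', zero_smul])
  obtain ⟨h, hh⟩ := Module.Injective.extension_property A E (A ⧸ K) A φ hφ g
  refine ⟨n, h 1, ?_⟩
  have h1 : h (φ (Submodule.Quotient.mk 1)) = g (Submodule.Quotient.mk 1) := by
    rw [← hh]
    rfl
  have h2 : φ (Submodule.Quotient.mk 1) = f ^ (n + 1) := by
    show (LinearMap.toSpanSingleton A A (f ^ (n + 1))) 1 = _
    rw [LinearMap.toSpanSingleton_apply, one_smul]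
  have h3 : g (Submodule.Quotient.mk 1) = f ^ n • x := by
    show (LinearMap.toSpanSingleton A E (f ^ n • x)) 1 = _
    rw [LinearMap.toSpanSingleton_apply, one_smul]
  rw [h2, h3] at h1
  rw [← h1, ← map_smul, smul_eq_mul, mul_one]

variable (I : Ideal A)

/-- the inclusion of the termwise torsion complex -/
noncomputable def gamι (C : DRing.Cx A) : gamCx I C ⟶ C :=
  (NatTrans.mapHomologicalComplex (DRing.gammaIι I) (ComplexShape.up ℤ)).app C ≫
    (Functor.mapHomologicalComplexIdIso (ModuleCat.{u} A) (ComplexShape.up ℤ)).hom.app C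

theorem gamι_f (C : DRing.Cx A) (n : ℤ) :
    (gamι I C).f n = (DRing.gammaIι I).app (C.X n) := by
  simp only [gamι, Functor.mapHomologicalComplexIdIso, HomologicalComplex.comp_f,
    NatTrans.mapHomologicalComplex_app_f, NatIso.ofComponents_hom_app]
  exact Category.comp_id _

theorem gamι_f_apply (C : DRing.Cx A) (n : ℤ) (x : DRing.torsionSub I (C.X n)) :
    ((gamι I C).f n).hom x = x.1 := by
  rw [gamι_f]
  rfl

instance mono_gamι_f (C : DRing.Cx A) (n : ℤ) : Mono ((gamι I C).f n) := by
  rw [gamι_f]
  exact (ModuleCat.mono_iff_injective _).mpr Subtype.val_injective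

instance mono_gamι (C : DRing.Cx A) : Mono (gamι I C) :=
  HomologicalComplex.mono_of_mono_f _ (fun _ => inferInstance)

/-- elements of the cohomology of the torsion complex are killed by a power of `I` -/
theorem isPowerTorsion_homology_gamCx (J : DRing.Cx A) (n : ℤ) :
    LocCoh.IsPowerTorsion I ((gamCx I J).homology n) := by
  intro x
  have hsurj : Function.Surjective ((gamCx I J).homologyπ n) :=
    (ModuleCat.epi_iff_surjective _).mp inferInstance
  have hinj : Function.Injective ((gamCx I J).iCycles n) :=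
    (ModuleCat.mono_iff_injective _).mp inferInstance
  obtain ⟨z, rfl⟩ := hsurj x
  let w : DRing.torsionSub I (J.X n) := ((gamCx I J).iCycles n).hom z
  obtain ⟨m, hm⟩ := w.2
  refine ⟨m, fun a ha => ?_⟩
  have hw : a • ((gamCx I J).iCycles n).hom z = 0 := by
    show a • w = 0
    apply Subtype.ext
    exact hm a ha
  have hz : a • z = 0 := by
    apply hinj
    rw [map_smul, map_zero]
    exact hw
  rw [← map_smul, hz, map_zero]

section SES

variable (C : DRing.Cx A)

/-- the short exact sequence `0 → Γ_I C → C → C/Γ_I C → 0` -/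
noncomputable abbrev gamS : ShortComplex (DRing.Cx A) :=
  ShortComplex.mk (gamι I C) (cokernel.π (gamι I C)) (cokernel.condition _)

theorem gamS_shortExact : (gamS I C).ShortExact where
  exact := ShortComplex.exact_cokernel (gamι I C)
  mono_f := mono_gamι I C
  epi_g := inferInstanceAs (Epi (cokernel.π (gamι I C)))

theorem gamS_π_surjective (n : ℤ) : Function.Surjective ((cokernel.π (gamι I C)).f n) := by
  have h := ((gamS_shortExact I C).map_of_exact
    (HomologicalComplex.eval (ModuleCat.{u} A) (ComplexShape.up ℤ) n)).epi_g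
  exact (ModuleCat.epi_iff_surjective _).mp h

theorem gamS_exact (n : ℤ) (x : C.X n) (hx : ((cokernel.π (gamι I C)).f n).hom x = 0) :
    x ∈ DRing.torsionSub I (C.X n) := by
  have h := ((gamS_shortExact I C).map_of_exact
    (HomologicalComplex.eval (ModuleCat.{u} A) (ComplexShape.up ℤ) n)).exact
  rw [ShortComplex.moduleCat_exact_iff] at h
  obtain ⟨y, hy⟩ := h x hx
  rw [← hy]
  show ((gamι I C).f n).hom y ∈ _
  let y' : DRing.torsionSub I (C.X n) := y
  rw [gamι_f_apply I C n y']
  exact y'.2

theorem gamS_π_of_mem (n : ℤ) (x : C.X n) (hx : x ∈ DRing.torsionSub I (C.X n)) :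
    ((cokernel.π (gamι I C)).f n).hom x = 0 := by
  have h4 : (gamι I C).f n ≫ (cokernel.π (gamι I C)).f n = 0 := by
    rw [← HomologicalComplex.comp_f, cokernel.condition, HomologicalComplex.zero_f]
  have h5 : ((cokernel.π (gamι I C)).f n).hom (((gamι I C).f n).hom
      (⟨x, hx⟩ : DRing.torsionSub I (C.X n))) = 0 := by
    have h6 : ((gamι I C).f n ≫ (cokernel.π (gamι I C)).f n).hom
        (⟨x, hx⟩ : DRing.torsionSub I (C.X n)) = 0 := by
      rw [h4]
      rfl
    exact h6
  rw [gamι_f_apply] at h5
  exact h5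

end SES

section Principal

variable [IsNoetherianRing A] (f : A) (C : DRing.Cx A)

theorem smul_bijective_coker (hinj : ∀ n, Injective (C.X n)) (n : ℤ) :
    Function.Bijective (fun z : (cokernel (gamι (Ideal.span {f}) C)).X n => f • z) := by
  have hπ := gamS_π_surjective (Ideal.span {f}) C n
  constructor
  · have key : ∀ w : (cokernel (gamι (Ideal.span {f}) C)).X n, f • w = 0 → w = 0 := by
      intro w hw
      obtain ⟨x, rfl⟩ := hπ w
      have h1 : ((cokernel.π (gamι (Ideal.span {f}) C)).f n).hom (f • x) = 0 := by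
        rw [map_smul]
        exact hw
      have h2 := gamS_exact (Ideal.span {f}) C n (f • x) h1
      obtain ⟨k, hk⟩ := (mem_torsionSub_span_singleton_iff f _).mp h2
      have h3 : x ∈ DRing.torsionSub (Ideal.span {f}) (C.X n) :=
        (mem_torsionSub_span_singleton_iff f _).mpr ⟨k + 1, by
          rw [pow_succ, mul_smul]
          exact hk⟩
      exact gamS_π_of_mem (Ideal.span {f}) C n x h3
    intro z z' hzz'
    have h := key (z - z') (by
      rw [smul_sub]
      exact sub_eq_zero.mpr hzz')
    exact sub_eq_zero.mp h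
  · intro z
    obtain ⟨x, rfl⟩ := hπ z
    haveI : Injective (ModuleCat.of A (C.X n)) := hinj n
    haveI : Module.Injective A (C.X n) := Module.injective_module_of_injective_object A (C.X n)
    obtain ⟨m, y, hy⟩ := exists_pow_succ_smul_eq (C.X n) f x
    refine ⟨((cokernel.π (gamι (Ideal.span {f}) C)).f n).hom y, ?_⟩
    have h3 : f • y - x ∈ DRing.torsionSub (Ideal.span {f}) (C.X n) :=
      (mem_torsionSub_span_singleton_iff f _).mpr ⟨m, by
        rw [smul_sub, smul_smul, ← pow_succ, hy, sub_self]⟩
    have h4 := gamS_π_of_mem (Ideal.span {f}) C n _ h3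
    rw [map_sub, map_smul, sub_eq_zero] at h4
    exact h4

theorem isZero_homology_coker (hinj : ∀ n, Injective (C.X n))
    (hC : ∀ n (x : C.homology n), ∃ k : ℕ, f ^ k • x = 0) (n : ℤ) :
    IsZero ((cokernel (gamι (Ideal.span {f}) C)).homology n) := by
  have hS := gamS_shortExact (Ideal.span {f}) C
  haveI : ∀ m, IsIso ((f • 𝟙 (cokernel (gamι (Ideal.span {f}) C))).f m) := fun m => by
    rw [HomologicalComplex.smul_f_apply, HomologicalComplex.id_f]
    exact (ConcreteCategory.isIso_iff_bijective _).mpr (smul_bijective_coker f C hinj m)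
  haveI : IsIso (f • 𝟙 (cokernel (gamι (Ideal.span {f}) C))) :=
    HomologicalComplex.Hom.isIso_of_components _
  have h7 : IsIso (HomologicalComplex.homologyMap
      (f • 𝟙 (cokernel (gamι (Ideal.span {f}) C))) n) := inferInstance
  have h8 : HomologicalComplex.homologyMap (f • 𝟙 (cokernel (gamι (Ideal.span {f}) C))) n =
      f • 𝟙 ((cokernel (gamι (Ideal.span {f}) C)).homology n) := by
    have := hc_homologyFunctor_linear A (ModuleCat.{u} A) n
    show (HomologicalComplex.homologyFunctor (ModuleCat.{u} A) (ComplexShape.up ℤ) n).map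
      (f • 𝟙 (cokernel (gamι (Ideal.span {f}) C))) = _
    rw [Functor.map_smul, CategoryTheory.Functor.map_id]
    rfl
  rw [h8] at h7
  have hbij := (ConcreteCategory.isIso_iff_bijective
    (f • 𝟙 ((cokernel (gamι (Ideal.span {f}) C)).homology n))).mp h7
  have hzero : ∀ z : (cokernel (gamι (Ideal.span {f}) C)).homology n, z = 0 := by
    intro z
    obtain ⟨a, ha⟩ := exists_pow_smul_homology_gamCx (Ideal.span {f}) C f
      (Ideal.mem_span_singleton_self f) (n + 1) ((hS.δ n (n + 1) (by simp)).hom z)
    have h1 : (hS.δ n (n + 1) (by simp)).hom (f ^ a • z) = 0 := by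
      rw [map_smul]
      exact ha
    have hex := hS.homology_exact₃ n (n + 1) (by simp)
    rw [ShortComplex.moduleCat_exact_iff] at hex
    obtain ⟨w, hw⟩ := hex (f ^ a • z) h1
    obtain ⟨b, hb⟩ := hC n w
    have hw' : (HomologicalComplex.homologyMap (cokernel.π (gamι (Ideal.span {f}) C)) n).hom w =
        f ^ a • z := hw
    have h2 : f ^ (b + a) • z = 0 := by
      rw [pow_add, mul_smul, ← hw', ← map_smul, hb, map_zero]
    exact eq_zero_of_pow_smul_eq_zero f hbij.1 (b + a) z h2
  haveI : Subsingleton ((cokernel (gamι (Ideal.span {f}) C)).homology n) :=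
    ⟨fun a b => by rw [hzero a, hzero b]⟩
  exact ModuleCat.isZero_of_subsingleton _

/-- principal case -/
theorem quasiIso_gamι_span_singleton (hinj : ∀ n, Injective (C.X n))
    (hC : ∀ n (x : C.homology n), ∃ k : ℕ, f ^ k • x = 0) :
    QuasiIso (gamι (Ideal.span {f}) C) := by
  have hS := gamS_shortExact (Ideal.span {f}) C
  have hz := isZero_homology_coker f C hinj hC
  rw [quasiIso_iff]
  intro n
  rw [quasiIsoAt_iff_isIso_homologyMap]
  haveI : Mono (HomologicalComplex.homologyMap (gamι (Ideal.span {f}) C) n) :=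
    (hS.homology_exact₁ (n - 1) n (by simp)).mono_g ((hz (n - 1)).eq_of_src _ _)
  haveI : Epi (HomologicalComplex.homologyMap (gamι (Ideal.span {f}) C) n) :=
    (hS.homology_exact₂ n).epi_f ((hz n).eq_of_tgt _ _)
  exact isIso_of_mono_of_epi _

end Principal

end Groth.Agent.Helper11.RGam
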