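import Groth.Agent.Lib.Helper11.RGam2

/-!
# Noetherian rings: `Γ_I C → C` is a quasi-isomorphism for complexes of injectives with `I`-power
torsion cohomology; complexes of injectives compute `RΓ_I` (helper11)
-/

set_option autoImplicit false

open CategoryTheory CategoryTheory.Limits DerivedCategory

universe u

attribute [local instance] HasDerivedCategory.standard

namespace Groth.Agent.Helper11.RGam

open Groth.Agent.Helper11.DCP Groth.Agent.Helper11.DC

variable {A : Type u} [CommRing A]

section Sup

variable (I J : Ideal A)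

theorem mem_torsionSub_sup_iff {M : Type u} [AddCommGroup M] [Module A M] (x : M) :
    x ∈ DRing.torsionSub (I ⊔ J) M ↔
      x ∈ DRing.torsionSub I M ∧ x ∈ DRing.torsionSub J M := by
  constructor
  · rintro ⟨n, hn⟩
    exact ⟨⟨n, fun a ha => hn a (Ideal.pow_right_mono le_sup_left n ha)⟩,
      ⟨n, fun a ha => hn a (Ideal.pow_right_mono le_sup_right n ha)⟩⟩
  · rintro ⟨⟨n, hn⟩, ⟨m, hm⟩⟩
    refine ⟨n + m, fun a ha => ?_⟩
    have h := Ideal.sup_pow_add_le_pow_sup_pow ha
    obtain ⟨b, hb, c, hc, rfl⟩ := Submodule.mem_sup.mp h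
    rw [add_smul, hn b hb, hm c hc, add_zero]

/-- `Γ_{I+J} M ≃ Γ_J (Γ_I M)` -/
def torsionSupEquiv (M : Type u) [AddCommGroup M] [Module A M] :
    DRing.torsionSub (I ⊔ J) M ≃ₗ[A] DRing.torsionSub J (DRing.torsionSub I M) where
  toFun x := ⟨⟨x.1, ((mem_torsionSub_sup_iff I J x.1).mp x.2).1⟩, by
    obtain ⟨m, hm⟩ := ((mem_torsionSub_sup_iff I J x.1).mp x.2).2
    exact ⟨m, fun a ha => Subtype.ext (hm a ha)⟩⟩
  map_add' _ _ := rfl
  map_smul' _ _ := rfl
  invFun y := ⟨y.1.1, (mem_torsionSub_sup_iff I J _).mpr ⟨y.1.2, by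
    obtain ⟨m, hm⟩ := y.2
    exact ⟨m, fun a ha => congrArg Subtype.val (hm a ha)⟩⟩⟩
  left_inv _ := rfl
  right_inv _ := rfl

/-- `Γ_{I+J} C ≅ Γ_J (Γ_I C)` -/
noncomputable def gamSupIso (C : DRing.Cx A) : gamCx (I ⊔ J) C ≅ gamCx J (gamCx I C) :=
  HomologicalComplex.Hom.isoOfComponents
    (fun n => (torsionSupEquiv I J (C.X n)).toModuleIso) (by
      intro i j _
      apply ModuleCat.hom_ext
      apply LinearMap.ext
      intro x
      rfl)

theorem gamSupIso_hom_comp (C : DRing.Cx A) :
    (gamSupIso I J C).hom ≫ gamι J (gamCx I C) ≫ gamι I C = gamι (I ⊔ J) C := by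
  apply HomologicalComplex.hom_ext
  intro n
  rw [HomologicalComplex.comp_f, HomologicalComplex.comp_f, gamι_f, gamι_f, gamι_f]
  apply ModuleCat.hom_ext
  apply LinearMap.ext
  intro x
  rfl

end Sup

theorem isPowerTorsion_of_injective (I : Ideal A) {M N : Type u} [AddCommGroup M] [Module A M]
    [AddCommGroup N] [Module A N] (φ : M →ₗ[A] N) (hφ : Function.Injective φ)
    (h : LocCoh.IsPowerTorsion I N) : LocCoh.IsPowerTorsion I M := by
  intro x
  obtain ⟨n, hn⟩ := h (φ x)
  refine ⟨n, fun a ha => hφ ?_⟩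
  rw [map_smul, hn a ha, map_zero]

theorem isPowerTorsion_mono {I J : Ideal A} (h : I ≤ J) {M : Type u} [AddCommGroup M]
    [Module A M] (hM : LocCoh.IsPowerTorsion J M) : LocCoh.IsPowerTorsion I M := by
  intro x
  obtain ⟨n, hn⟩ := hM x
  exact ⟨n, fun a ha => hn a (Ideal.pow_right_mono h n ha)⟩

section Noeth

variable [IsNoetherianRing A]

theorem injective_gamCx_X (I : Ideal A) (C : DRing.Cx A) (hinj : ∀ n, Injective (C.X n))
    (n : ℤ) : Injective ((gamCx I C).X n) := by
  haveI : Injective (ModuleCat.of A (C.X n)) := hinj n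
  haveI : Module.Injective A (C.X n) := Module.injective_module_of_injective_object A (C.X n)
  haveI : Module.Injective A (DRing.torsionSub I (C.X n)) :=
    Groth.Agent.Helper8.LC.injective_gam I (M := C.X n)
  exact Module.injective_object_of_injective_module A (DRing.torsionSub I (C.X n))

/-- over a Noetherian ring, for a complex of injectives with `I`-power torsion cohomology the
inclusion of the termwise torsion complex is a quasi-isomorphism -/
theorem quasiIso_gamι (I : Ideal A) :
    ∀ (C : DRing.Cx A), (∀ n, Injective (C.X n)) →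
      (∀ n, LocCoh.IsPowerTorsion I (C.homology n)) → QuasiIso (gamι I C) := by
  refine Submodule.fg_induction (R := A) (M := A)
    (motive := fun (I : Submodule A A) _ => ∀ (C : DRing.Cx A),
    (∀ n, Injective (C.X n)) → (∀ n, LocCoh.IsPowerTorsion (I : Ideal A) (C.homology n)) →
      QuasiIso (gamι (I : Ideal A) C)) ?_ ?_ I (IsNoetherian.noetherian I)
  · intro f C hinj hC
    exact quasiIso_gamι_span_singleton f C hinj (fun n x => by
      obtain ⟨k, hk⟩ := hC n x
      exact ⟨k, hk _ (Ideal.pow_mem_pow (Ideal.mem_span_singleton_self f) k)⟩)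
  · intro I J _ _ hI hJ C hinj hC
    have q1 : QuasiIso (gamι I C) := hI C hinj (fun n => isPowerTorsion_mono le_sup_left (hC n))
    have hinj1 : ∀ n, Injective ((gamCx I C).X n) := injective_gamCx_X I C hinj
    have hC1 : ∀ n, LocCoh.IsPowerTorsion J ((gamCx I C).homology n) := fun n => by
      haveI : IsIso (HomologicalComplex.homologyMap (gamι I C) n) := inferInstance
      exact isPowerTorsion_of_injective J (HomologicalComplex.homologyMap (gamι I C) n).hom
        ((ModuleCat.mono_iff_injective _).mp inferInstance)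
        (isPowerTorsion_mono le_sup_right (hC n))
    have q2 : QuasiIso (gamι J (gamCx I C)) := hJ (gamCx I C) hinj1 hC1
    show QuasiIso (gamι (I ⊔ J) C)
    rw [← gamSupIso_hom_comp I J C]
    infer_instance

/-- `Γ_I` preserves quasi-isomorphisms between complexes of injectives -/
theorem quasiIso_map_gam (I : Ideal A) {L L' : DRing.Cx A} (r : L ⟶ L') [QuasiIso r]
    (hL : ∀ n, Injective (L.X n)) (hL' : ∀ n, Injective (L'.X n)) :
    QuasiIso (((DRing.gammaI I).mapHomologicalComplex (ComplexShape.up ℤ)).map r) := by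
  have hz : IsZero (Q.obj (CochainComplex.mappingCone r)) := by
    have hT := DerivedCategory.mappingCone_triangle_distinguished r
    refine (Pretriangulated.Triangle.isZero₃_iff_isIso₁ _ hT).mpr ?_
    show IsIso (Q.map r)
    infer_instance
  have hcone_inj : ∀ n, Injective ((CochainComplex.mappingCone r).X n) := fun n =>
    Injective.of_iso (HomologicalComplex.homotopyCofiber.XIsoBiprod r n (n + 1) rfl).symm
      inferInstance
  have hcone_h : ∀ n, IsZero ((CochainComplex.mappingCone r).homology n) := fun n =>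
    IsZero.of_iso ((homologyFunctor (ModuleCat.{u} A) n).map_isZero hz)
      ((homologyFunctorFactors (ModuleCat.{u} A) n).app (CochainComplex.mappingCone r)).symm
  haveI q : QuasiIso (gamι I (CochainComplex.mappingCone r)) :=
    quasiIso_gamι I _ hcone_inj (fun n x => ⟨0, fun a _ => by
      haveI := ModuleCat.subsingleton_of_isZero (hcone_h n)
      exact Subsingleton.elim _ _⟩)
  have hz2 : IsZero (Q.obj (gamCx I (CochainComplex.mappingCone r))) :=
    IsZero.of_iso hz (asIso (Q.map (gamι I (CochainComplex.mappingCone r))))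
  have hz3 : IsZero (Q.obj (CochainComplex.mappingCone
      (((DRing.gammaI I).mapHomologicalComplex (ComplexShape.up ℤ)).map r))) :=
    IsZero.of_iso hz2
      (Q.mapIso (CochainComplex.mappingCone.mapHomologicalComplexIso r (DRing.gammaI I))).symm
  have hT2 := DerivedCategory.mappingCone_triangle_distinguished
    (((DRing.gammaI I).mapHomologicalComplex (ComplexShape.up ℤ)).map r)
  have h4 : IsIso (Q.map (((DRing.gammaI I).mapHomologicalComplex (ComplexShape.up ℤ)).map r)) :=
    (Pretriangulated.Triangle.isZero₃_iff_isIso₁ _ hT2).mp hz3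
  exact (isIso_Q_map_iff_quasiIso _ _).mp h4

end Noeth

end Groth.Agent.Helper11.RGam
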