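import Groth.Agent.Lib.Helper11.HomKFl1
import Groth.Agent.Lib.Helper11.HomTen1
import Groth.Agent.Lib.Helper11.KI2
import Groth.Agent.Lib.Helper11.RGam4
import Groth.Agent.Lib.Helper5.KFlat12

/-!
# `RHom(E, -)` on K-injective complexes; `RHom(A_f, RHom(A_g, K)) ≅ RHom(A_{fg}, K)` (helper11)

* `RHomLoc.homCxMapHomotopy`: `Hom•(E, -)` preserves homotopies.
* `RHomLoc.RHomCxIsoInj`: `RHom(E, Q J) ≅ Q (Hom•(E, J))` for `J` K-injective (any `E`).
* `RHomLoc.isKInjective_homCx`: `Hom•(E, J)` is K-injective for `E` K-flat and `J` K-injective.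
* `RHomLoc.kfl_single`: a flat module in degree `0` is K-flat.
* `RHomLoc.singleIso`: `P[0] ≅ K` for a complex `K` concentrated in degree `0` with `P ≅ K⁰`.
* `RHomLoc.S7099_statement`.
-/

set_option autoImplicit false
set_option linter.unusedSectionVars false
set_option linter.unusedVariables false
set_option linter.style.haveILetI false

open CategoryTheory CategoryTheory.Limits MonoidalCategory CochainComplex HomComplex
open scoped TensorProduct

universe u

attribute [local instance] HasDerivedCategory.standard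

namespace Groth.Agent.Helper11.RHomLoc

open Groth.Agent.Helper3.HT Groth.Agent.Helper5.KF Groth.Agent.Helper11.HomKFl
  Groth.Agent.Helper11.HomTen

variable {A : Type u} [CommRing A]

theorem homCxMap_eq_curH (E : DRing.Cx A) {L L' : DRing.Cx A} (g : L ⟶ L') :
    DRing.homCxMap E g = curH (evH E L ≫ g) := by
  apply uncH_injective
  rw [uncH_curH]
  have h := uncH_comp_right (𝟙 (DRing.homCx E L)) g
  rw [Category.id_comp] at h
  exact h

/-- `Hom•(E, -)` preserves homotopies -/
noncomputable def homCxMapHomotopy (E : DRing.Cx A) {L L' : DRing.Cx A} {g g' : L ⟶ L'}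
    (H : Homotopy g g') : Homotopy (DRing.homCxMap E g) (DRing.homCxMap E g') :=
  (Homotopy.ofEq (homCxMap_eq_curH E g)).trans
    ((curHomotopy (H.compLeft (evH E L))).trans (Homotopy.ofEq (homCxMap_eq_curH E g').symm))

theorem homCxQ_map_eq_of_homotopy (E : DRing.Cx A) {L L' : DRing.Cx A} (g g' : L ⟶ L')
    (H : Homotopy g g') : (DRing.homCxQ E).map g = (DRing.homCxQ E).map g' := by
  change DerivedCategory.Qh.map ((HomotopyCategory.quotient _ _).map (DRing.homCxMap E g)) =
    DerivedCategory.Qh.map ((HomotopyCategory.quotient _ _).map (DRing.homCxMap E g'))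
  rw [HomotopyCategory.eq_of_homotopy _ _ (homCxMapHomotopy E H)]

/-- the unit of `RHom(E, -)` is an isomorphism on K-injective complexes -/
theorem isIso_RHomCx_unit_app (E J : DRing.Cx A) [DRing.HasRHomCx E] [J.IsKInjective] :
    IsIso (((DRing.homCxQ E).totalRightDerivedUnit DerivedCategory.Q
      (HomologicalComplex.quasiIso (ModuleCat.{u} A) (ComplexShape.up ℤ))).app J) :=
  Groth.Agent.Helper11.KI.isIso_unit_cx (DRing.homCxQ E)
    (fun _ _ g g' H => homCxQ_map_eq_of_homotopy E g g' H) (DRing.RHomCx E) _ J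

/-- `RHom(E, Q J) ≅ Q (Hom•(E, J))` for `J` K-injective -/
noncomputable def RHomCxIsoInj (E J : DRing.Cx A) [DRing.HasRHomCx E] [J.IsKInjective] :
    (DRing.RHomCx E).obj (DerivedCategory.Q.obj J) ≅ DerivedCategory.Q.obj (DRing.homCx E J) :=
  haveI := isIso_RHomCx_unit_app E J
  (asIso (((DRing.homCxQ E).totalRightDerivedUnit DerivedCategory.Q
      (HomologicalComplex.quasiIso (ModuleCat.{u} A) (ComplexShape.up ℤ))).app J)).symm

theorem curH_zero (S P W : DRing.Cx A) : curH (0 : S ⊗ P ⟶ W) = 0 := by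
  apply uncH_injective
  rw [uncH_curH]
  apply Cochain.ofHom_injective
  rw [ofHom_uncH, Cochain.ofHom_zero, Cochain.ofHom_zero, unc_zero]

/-- `Hom•(E, J)` is K-injective for `E` K-flat and `J` K-injective -/
theorem isKInjective_homCx (E J : DRing.Cx A) (hE : KFl E) [J.IsKInjective] :
    (DRing.homCx E J).IsKInjective := by
  refine ⟨fun {X} φ hX => ?_⟩
  have hXE : (X ⊗ E).Acyclic :=
    acyclic_of_isZero_homology _ (hE X (fun i => isZero_homology_of_acyclic X hX i))
  obtain ⟨H⟩ := IsKInjective.nonempty_homotopy_zero (uncH φ) hXE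
  exact ⟨(Homotopy.ofEq (curH_uncH φ).symm).trans
    ((curHomotopy H).trans (Homotopy.ofEq (curH_zero X E J)))⟩

/-- a flat module placed in degree `0` is K-flat -/
theorem kfl_single (M : Type u) [AddCommGroup M] [Module A M] [Module.Flat A M] :
    KFl ((HomologicalComplex.single (ModuleCat.{u} A) (ComplexShape.up ℤ) 0).obj
      (ModuleCat.of A M)) := by
  apply KFl.of_d_eq_zero
  · intro i j
    exact HomologicalComplex.single_obj_d _ _ _ _ _
  · intro i
    by_cases hi : i = 0
    · subst hi
      exact Module.Flat.of_linearEquiv (R := A) (M := M)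
        (HomologicalComplex.singleObjXSelf (ComplexShape.up ℤ) 0 (ModuleCat.of A M)).toLinearEquiv
    · haveI : Subsingleton (((HomologicalComplex.single (ModuleCat.{u} A) (ComplexShape.up ℤ) 0).obj
          (ModuleCat.of A M)).X i) :=
        ModuleCat.subsingleton_of_isZero
          (HomologicalComplex.isZero_single_obj_X (ComplexShape.up ℤ) 0 (ModuleCat.of A M) i hi)
      infer_instance

section Single

variable {P : ModuleCat.{u} A} (K : DRing.Cx A) (hK : ∀ n : ℤ, n ≠ 0 → IsZero (K.X n))
  (φ : P ⟶ K.X 0)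

/-- the morphism `P[0] ⟶ K` for a complex `K` concentrated in degree `0` -/
noncomputable def singleHom :
    (HomologicalComplex.single (ModuleCat.{u} A) (ComplexShape.up ℤ) 0).obj P ⟶ K :=
  HomologicalComplex.mkHomFromSingle φ (fun k hk =>
    (hK k (by
      change (0 : ℤ) + 1 = k at hk
      omega)).eq_of_tgt _ _)

theorem isIso_singleHom [IsIso φ] : IsIso (singleHom K hK φ) := by
  haveI : ∀ n : ℤ, IsIso ((singleHom K hK φ).f n) := by
    intro n
    by_cases hn : n = 0
    · subst hn
      rw [singleHom, HomologicalComplex.mkHomFromSingle_f]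
      infer_instance
    · have h1 := HomologicalComplex.isZero_single_obj_X (ComplexShape.up ℤ) 0 P n hn
      have h2 := hK n hn
      exact ⟨⟨0, h1.eq_of_src _ _, h2.eq_of_src _ _⟩⟩
  exact HomologicalComplex.Hom.isIso_of_components _

end Single

section TensorSingle

/-- a module placed in degree `0` -/
noncomputable abbrev sg (M : ModuleCat.{u} A) : DRing.Cx A :=
  (HomologicalComplex.single (ModuleCat.{u} A) (ComplexShape.up ℤ) 0).obj M

theorem isZero_sg_X (M : ModuleCat.{u} A) (p : ℤ) (hp : p ≠ 0) : IsZero ((sg M).X p) :=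
  HomologicalComplex.isZero_single_obj_X _ _ _ _ hp

variable (M N : ModuleCat.{u} A)

theorem isZero_tensor_sg_X (n : ℤ) (hn : n ≠ 0) : IsZero ((sg M ⊗ sg N).X n) := by
  haveI := isIso_ι_left (sg M) (sg N) 0 (fun p hp => isZero_sg_X M p hp) n n (zero_add n)
  have hz : IsZero ((sg M).X 0 ⊗ (sg N).X n : ModuleCat.{u} A) :=
    isZero_tensor_right _ (isZero_sg_X N n hn)
  exact hz.of_iso (asIso (HomologicalComplex.ιTensorObj (sg M) (sg N) 0 n n (zero_add n))).symm

/-- the comparison `(M ⊗ N)[0] ⟶ M[0] ⊗ N[0]` -/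
noncomputable def tensorSingleHom : sg (M ⊗ N) ⟶ sg M ⊗ sg N :=
  singleHom (sg M ⊗ sg N) (isZero_tensor_sg_X M N)
    ((MonoidalCategory.tensorIso (HomologicalComplex.singleObjXSelf (ComplexShape.up ℤ) 0 M).symm
        (HomologicalComplex.singleObjXSelf (ComplexShape.up ℤ) 0 N).symm).hom ≫
      HomologicalComplex.ιTensorObj (sg M) (sg N) 0 0 0 (zero_add 0))

instance isIso_tensorSingleHom : IsIso (tensorSingleHom M N) := by
  haveI := isIso_ι_left (sg M) (sg N) 0 (fun p hp => isZero_sg_X M p hp) 0 0 (zero_add 0)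
  exact isIso_singleHom _ _ _

end TensorSingle

section Away

/-- `A_{fg} ≃ A_f ⊗ A_g` -/
noncomputable def awayMulEquiv (f g : A) :
    Localization.Away (f * g) ≃ₗ[A] (Localization.Away f ⊗[A] Localization.Away g) := by
  haveI : IsLocalization.Away (algebraMap A (Localization.Away f) g)
      (Localization.Away f ⊗[A] Localization.Away g) := IsLocalization.Away.tensor g _
  haveI : IsLocalization.Away (f * g) (Localization.Away f ⊗[A] Localization.Away g) :=
    IsLocalization.Away.mul' (Localization.Away f) _ f g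
  exact (IsLocalization.algEquiv (Submonoid.powers (f * g)) (Localization.Away (f * g))
    (Localization.Away f ⊗[A] Localization.Away g)).toLinearEquiv

/-- `A_{fg}[0] ≅ A_f[0] ⊗ A_g[0]` -/
noncomputable def sgAwayIso (f g : A) :
    sg (ModuleCat.of A (Localization.Away (f * g))) ≅
      sg (ModuleCat.of A (Localization.Away f)) ⊗ sg (ModuleCat.of A (Localization.Away g)) :=
  (HomologicalComplex.single (ModuleCat.{u} A) (ComplexShape.up ℤ) 0).mapIso
      (awayMulEquiv f g).toModuleIso ≪≫
    asIso (tensorSingleHom (ModuleCat.of A (Localization.Away f))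
      (ModuleCat.of A (Localization.Away g)))

end Away

/-- `Hom•(-, W)` on isomorphisms -/
noncomputable def homCxPreIso {P P' : DRing.Cx A} (u : P' ≅ P) (W : DRing.Cx A) :
    DRing.homCx P W ≅ DRing.homCx P' W where
  hom := homCxPre u.hom W
  inv := homCxPre u.inv W
  hom_inv_id := by rw [← homCxPre_comp, u.inv_hom_id, homCxPre_id]
  inv_hom_id := by rw [← homCxPre_comp, u.hom_inv_id, homCxPre_id]

/-- `RHom(A_f, RHom(A_g, K)) ≅ RHom(A_{fg}, K)` -/
theorem S7099_statement (f g : A)
    [DRing.HasRHomCx ((HomologicalComplex.single (ModuleCat.{u} A) (ComplexShape.up ℤ) 0).obj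
      (ModuleCat.of A (Localization.Away f)))]
    [DRing.HasRHomCx ((HomologicalComplex.single (ModuleCat.{u} A) (ComplexShape.up ℤ) 0).obj
      (ModuleCat.of A (Localization.Away g)))]
    [DRing.HasRHomCx ((HomologicalComplex.single (ModuleCat.{u} A) (ComplexShape.up ℤ) 0).obj
      (ModuleCat.of A (Localization.Away (f * g))))]
    (K : Dual.D A) :
    Nonempty ((DRing.RHomCx ((HomologicalComplex.single (ModuleCat.{u} A) (ComplexShape.up ℤ) 0).obj
        (ModuleCat.of A (Localization.Away f)))).obj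
      ((DRing.RHomCx ((HomologicalComplex.single (ModuleCat.{u} A) (ComplexShape.up ℤ) 0).obj
        (ModuleCat.of A (Localization.Away g)))).obj K) ≅
      (DRing.RHomCx ((HomologicalComplex.single (ModuleCat.{u} A) (ComplexShape.up ℤ) 0).obj
        (ModuleCat.of A (Localization.Away (f * g))))).obj K) := by
  obtain ⟨J, e, hJ, _⟩ := Groth.Agent.Helper11.RGam.exists_kInj_iso K
  haveI := hJ
  let Sf := sg (ModuleCat.of A (Localization.Away f))
  let Sg := sg (ModuleCat.of A (Localization.Away g))
  let Sfg := sg (ModuleCat.of A (Localization.Away (f * g)))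
  haveI hK : (DRing.homCx Sg J).IsKInjective :=
    isKInjective_homCx Sg J (kfl_single (Localization.Away g))
  let e1 : (DRing.RHomCx Sg).obj K ≅ DerivedCategory.Q.obj (DRing.homCx Sg J) :=
    (DRing.RHomCx Sg).mapIso e ≪≫ RHomCxIsoInj Sg J
  let e2 : (DRing.RHomCx Sf).obj ((DRing.RHomCx Sg).obj K) ≅
      DerivedCategory.Q.obj (DRing.homCx Sf (DRing.homCx Sg J)) :=
    (DRing.RHomCx Sf).mapIso e1 ≪≫ RHomCxIsoInj Sf (DRing.homCx Sg J)
  let e3 : DRing.homCx Sf (DRing.homCx Sg J) ≅ DRing.homCx Sfg J :=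
    homCxTensorIso Sf Sg J ≪≫ homCxPreIso (sgAwayIso f g) J
  let e5 : (DRing.RHomCx Sfg).obj K ≅ DerivedCategory.Q.obj (DRing.homCx Sfg J) :=
    (DRing.RHomCx Sfg).mapIso e ≪≫ RHomCxIsoInj Sfg J
  exact ⟨e2 ≪≫ DerivedCategory.Q.mapIso e3 ≪≫ e5.symm⟩

end Groth.Agent.Helper11.RHomLoc
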