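import Groth.Agent.Lib.Helper11.RHomDual1
import Groth.Agent.Lib.Helper11.GM3
import Groth.Agent.Lib.Helper11.GM2
import Groth.Agent.Lib.Helper11.KPF2
import Mathlib.Algebra.Homology.DerivedCategory.ShortExact

/-!
# `RHom(K, -)` on distinguished triangles with local cone; `RHom(K, -)` and derived completion
(helper11)

* `RHomTri.rOrth_RHomCx`: `RHom(K, M)` is right orthogonal to `f`-local objects if `M` is.
* `RHomTri.bijective_RHomCx_map_comp`: for a distinguished triangle `X ⟶ Y ⟶ Z` with `Z`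
  `f`-local and `E` right orthogonal to `f`-local objects, `Hom(RHom(K, Y), E) ≃ Hom(RHom(K, X), E)`.
* `RHomTri.S7101_statement`.
-/

set_option autoImplicit false
set_option linter.unusedSectionVars false
set_option linter.unusedVariables false
set_option linter.style.haveILetI false

open CategoryTheory CategoryTheory.Limits MonoidalCategory CochainComplex HomComplex
  Pretriangulated DerivedCategory
open scoped TensorProduct

universe u

attribute [local instance] HasDerivedCategory.standard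

namespace Groth.Agent.Helper11.RHomTri

open Groth.Agent.Helper3.HT Groth.Agent.Helper3.KF Groth.Agent.Helper5.KF
  Groth.Agent.Helper11.RHomLoc Groth.Agent.Helper11.DCP Groth.Agent.Helper11.GM
  Groth.Agent.Helper11.RGam

variable {A : Type u} [CommRing A]

theorem homCxMap_smul (K : DRing.Cx A) {L L' : DRing.Cx A} (a : A) (g : L ⟶ L') :
    DRing.homCxMap K (a • g) = a • DRing.homCxMap K g := by
  refine HomologicalComplex.hom_ext _ _ fun i =>
    ModuleCat.hom_ext (LinearMap.ext fun (z : Cochain K L i) => ?_)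
  change z.comp (Cochain.ofHom (a • g)) (add_zero i) = a • z.comp (Cochain.ofHom g) (add_zero i)
  refine Cochain.ext _ _ (fun p q hpq => ?_)
  rw [Cochain.comp_zero_cochain_v, Cochain.ofHom_v, Cochain.smul_v, Cochain.comp_zero_cochain_v,
    Cochain.ofHom_v]
  simp

theorem homCxMap_id (K L : DRing.Cx A) : DRing.homCxMap K (𝟙 L) = 𝟙 _ :=
  (DRing.homCxFunctor K).map_id L

/-- the cone of a morphism between K-injective complexes is K-injective -/
theorem isKInjective_mappingCone {X Y : DRing.Cx A} (φ : X ⟶ Y) [X.IsKInjective]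
    [Y.IsKInjective] : (mappingCone φ).IsKInjective := by
  rw [isKInjective_iff_rightOrthogonal]
  exact ObjectProperty.ext_of_isTriangulatedClosed₃ _ _
    (HomotopyCategory.mappingCone_triangleh_distinguished φ)
    (IsKInjective.rightOrthogonal X) (IsKInjective.rightOrthogonal Y)

theorem smul_id_Q (f : A) (X : DRing.Cx A) :
    f • 𝟙 (Q.obj X) = Q.map (f • 𝟙 X) := by
  rw [Functor.map_smul, CategoryTheory.Functor.map_id]

/-- `Hom•(K, -)` preserves `f`-locality of K-injective complexes -/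
theorem fLocal_Q_homCx (K J : DRing.Cx A) [J.IsKInjective] (f : A)
    (h : FLocal f (Q.obj J)) : FLocal f (Q.obj (DRing.homCx K J)) := by
  unfold FLocal at h ⊢
  rw [smul_id_Q] at h
  have hq : HomologicalComplex.quasiIso _ _ (f • 𝟙 J) :=
    (HomologicalComplex.mem_quasiIso_iff _).mpr ((isIso_Q_map_iff_quasiIso _ _).mp h)
  haveI : IsIso ((Groth.Agent.Helper11.KI.quo (ModuleCat.{u} A)).map (f • 𝟙 J)) :=
    Groth.Agent.Helper11.KI.isIso_of_W (I := J) (I' := J) _
      ((HomotopyCategory.quotient_map_mem_quasiIso_iff _).mpr hq)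
  have h2 : IsIso ((Groth.Agent.Helper11.KI.liftK (DRing.homCxQ K)
      (fun _ _ g g' H => homCxQ_map_eq_of_homotopy K g g' H)).map
      ((Groth.Agent.Helper11.KI.quo (ModuleCat.{u} A)).map (f • 𝟙 J))) := inferInstance
  rw [Groth.Agent.Helper11.KI.liftK_map] at h2
  have h3 : (DRing.homCxQ K).map (f • 𝟙 J) = f • 𝟙 (Q.obj (DRing.homCx K J)) := by
    change Q.map (DRing.homCxMap K (f • 𝟙 J)) = _
    rw [homCxMap_smul, Functor.map_smul, homCxMap_id, CategoryTheory.Functor.map_id]
  rw [h3] at h2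
  exact h2

theorem smul_id_whiskerRight (f : A) (S K : DRing.Cx A) :
    f • 𝟙 (S ⊗ K) = (f • 𝟙 S) ▷ K := by
  apply tensor_hom_ext
  intro p q m hpq x y
  rw [whiskerRight_ι_tmul]
  have h1 : ((f • 𝟙 (S ⊗ K)).f m).hom ((HomologicalComplex.ιTensorObj S K p q m hpq).hom (x ⊗ₜ[A] y)) =
      f • (HomologicalComplex.ιTensorObj S K p q m hpq).hom (x ⊗ₜ[A] y) := by
    simp
  have h2 : ((f • 𝟙 S).f p).hom x = f • x := by simp
  rw [h1, h2, ← map_smul, TensorProduct.smul_tmul']

/-- tensoring a K-flat complex on which `f` acts invertibly with any complex gives an `f`-local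
object -/
theorem fLocal_Q_tensor (S K : DRing.Cx A) (hS : KFl S) (f : A) (h : FLocal f (Q.obj S)) :
    FLocal f (Q.obj (S ⊗ K)) := by
  unfold FLocal at h ⊢
  rw [smul_id_Q] at h
  have hq : QuasiIso (f • 𝟙 S) := (isIso_Q_map_iff_quasiIso _ _).mp h
  haveI hq2 : QuasiIso (K ◁ (f • 𝟙 S)) := KFl.quasiIso_whiskerLeft hS hS _ hq K
  have hb := DTen.braidCx_naturality (f • 𝟙 S) (𝟙 K)
  rw [MonoidalCategory.tensorHom_id, MonoidalCategory.id_tensorHom] at hb
  have h2 : (f • 𝟙 S) ▷ K = (DTen.braidCx S K).hom ≫ (K ◁ (f • 𝟙 S)) ≫ (DTen.braidCx S K).inv := by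
    rw [← Category.assoc, ← hb, Category.assoc, Iso.hom_inv_id, Category.comp_id]
  haveI hq3 : QuasiIso ((f • 𝟙 S) ▷ K) := by
    rw [h2]
    infer_instance
  rw [smul_id_Q, smul_id_whiskerRight, isIso_Q_map_iff_quasiIso]
  exact hq3

/-- `RHom(K, M)` is right orthogonal to the `f`-local objects as soon as `M` is -/
theorem rOrth_RHomCx (K : DRing.Cx A) [DRing.HasRHomCx K] (f : A) (M : Dual.D A)
    (hM : ROrth f M) : ROrth f ((DRing.RHomCx K).obj M) := by
  intro X hX
  obtain ⟨J, e, hJ, _⟩ := exists_kInj_iso M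
  haveI := hJ
  obtain ⟨S, p, hSk, _, hSf, hp⟩ :=
    Groth.Agent.Helper11.KPF.exists_kprojective_kflat_resolution (Q.objPreimage X)
  haveI := hSk
  haveI : IsIso (Q.map p) := by
    rw [isIso_Q_map_iff_quasiIso]
    exact hp
  let eX : Q.obj S ≅ X := asIso (Q.map p) ≪≫ Q.objObjPreimageIso X
  let eR : (DRing.RHomCx K).obj M ≅ Q.obj (DRing.homCx K J) :=
    (DRing.RHomCx K).mapIso e ≪≫ RHomCxIsoInj K J
  have key : ∀ g : Q.obj S ⟶ Q.obj (DRing.homCx K J), g = 0 := by
    intro g
    obtain ⟨ψ, rfl⟩ := Groth.Agent.Helper11.DC.exists_lift_of_isKProjective S (DRing.homCx K J) g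
    have hloc : FLocal f (Q.obj (S ⊗ K)) := fLocal_Q_tensor S K hSf f (hX.of_iso eX.symm)
    have h0 : Q.map (uncH ψ) ≫ e.inv = 0 := (hM _ hloc).elim _ _
    have h1 : Q.map (uncH ψ) = Q.map (0 : S ⊗ K ⟶ J) := by
      rw [Functor.map_zero, ← cancel_mono e.inv, h0, zero_comp]
    obtain ⟨H⟩ := homotopy_of_Q_map_eq_of_isKInjective (S ⊗ K) J _ _ h1
    have H' : Homotopy ψ 0 := (Homotopy.ofEq (curH_uncH ψ).symm).trans
      ((curHomotopy H).trans (Homotopy.ofEq (curH_zero S K J)))
    rw [DerivedCategory.Q_map_eq_of_homotopy (h := H'), Functor.map_zero]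
  have hz : ∀ g : X ⟶ (DRing.RHomCx K).obj M, g = 0 := fun g => by
    have h := key (eX.hom ≫ g ≫ eR.hom)
    rw [← cancel_epi eX.hom, ← cancel_mono eR.hom]
    simpa using h
  exact ⟨fun a b => by rw [hz a, hz b]⟩

/-- for a distinguished triangle `X ⟶ Y ⟶ Z` with `Z` `f`-local and `E` right orthogonal to the
`f`-local objects, `RHom(K, X) ⟶ RHom(K, Y)` induces a bijection on morphisms to `E` -/
theorem bijective_RHomCx_map_comp (K : DRing.Cx A) [DRing.HasRHomCx K] (T : Triangle (Dual.D A))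
    (hT : T ∈ distTriang (Dual.D A)) (f : A) (hZ : FLocal f T.obj₃) (E : Dual.D A)
    (hE : ROrth f E) :
    Function.Bijective (fun φ : (DRing.RHomCx K).obj T.obj₂ ⟶ E =>
      (DRing.RHomCx K).map T.mor₁ ≫ φ) := by
  have hT' := inv_rot_of_distTriang _ hT
  obtain ⟨JZ, eZ, hJZ, _⟩ := exists_kInj_iso (T.obj₃⟦(-1 : ℤ)⟧)
  obtain ⟨JX, eX, hJX, _⟩ := exists_kInj_iso T.obj₁
  haveI := hJZ
  haveI := hJX
  obtain ⟨φ, hφ⟩ := exists_lift_of_isKInjective JZ JX (eZ.inv ≫ T.invRotate.mor₁ ≫ eX.hom)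
  have hT'' := DerivedCategory.mappingCone_triangle_distinguished φ
  have hcm : T.invRotate.mor₁ ≫ eX.hom =
      eZ.hom ≫ (Q.mapTriangle.obj (mappingCone.triangle φ)).mor₁ := by
    change T.invRotate.mor₁ ≫ eX.hom = eZ.hom ≫ Q.map φ
    rw [hφ]
    exact (eZ.hom_inv_id_assoc _).symm
  obtain ⟨Θ, hΘ⟩ : ∃ Θ : T.invRotate ≅ Q.mapTriangle.obj (mappingCone.triangle φ),
      Θ.hom.hom₂ = eX.hom :=
    ⟨isoTriangleOfIso₁₂ T.invRotate (Q.mapTriangle.obj (mappingCone.triangle φ)) hT' hT'' eZ eX hcm,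
      isoTriangleOfIso₁₂_hom_hom₂ _ _ _ _ _ _ _⟩
  let eY : T.obj₂ ≅ Q.obj (mappingCone φ) := Triangle.π₃.mapIso Θ
  have hcomm : T.mor₁ ≫ eY.hom = eX.hom ≫ Q.map (mappingCone.inr φ) := by
    have h := Θ.hom.comm₂
    rw [hΘ] at h
    exact h
  haveI : (mappingCone φ).IsKInjective := isKInjective_mappingCone φ
  have hSE := ((dsplit_coneSC φ).homRight K).shortExact
  have hTS := DerivedCategory.triangleOfSES_distinguished hSE
  have hW : FLocal f (Q.obj (DRing.homCx K (JZ⟦(1 : ℤ)⟧))) := by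
    apply fLocal_Q_homCx
    have h1 : FLocal f (T.obj₃⟦(-1 : ℤ)⟧) := hZ.shift (-1)
    have h2 : FLocal f (Q.obj JZ) := h1.of_iso eZ
    have h3 : FLocal f ((Q.obj JZ)⟦(1 : ℤ)⟧) := h2.shift 1
    exact h3.of_iso ((Q.commShiftIso (1 : ℤ)).app JZ).symm
  have hb : Function.Bijective (fun ψ : Q.obj (DRing.homCx K (mappingCone φ)) ⟶ E =>
      Q.map (DRing.homCxMap K (mappingCone.inr φ)) ≫ ψ) :=
    bijective_mor₁_comp_of_right _ hTS E (hE _ hW) (hE _ (hW.shift (-1)))
  let R := DRing.RHomCx K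
  obtain ⟨aX, haX, iX⟩ : ∃ aX : Q.obj (DRing.homCx K JX) ⟶ R.obj (Q.obj JX),
      aX = ((DRing.homCxQ K).totalRightDerivedUnit DerivedCategory.Q
        (HomologicalComplex.quasiIso (ModuleCat.{u} A) (ComplexShape.up ℤ))).app JX ∧ IsIso aX :=
    ⟨_, rfl, isIso_RHomCx_unit_app K JX⟩
  obtain ⟨aC, haC, iC⟩ : ∃ aC : Q.obj (DRing.homCx K (mappingCone φ)) ⟶
      R.obj (Q.obj (mappingCone φ)),
      aC = ((DRing.homCxQ K).totalRightDerivedUnit DerivedCategory.Q
        (HomologicalComplex.quasiIso (ModuleCat.{u} A) (ComplexShape.up ℤ))).app (mappingCone φ) ∧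
        IsIso aC :=
    ⟨_, rfl, isIso_RHomCx_unit_app K (mappingCone φ)⟩
  have nat : aX ≫ R.map (Q.map (mappingCone.inr φ)) =
      Q.map (DRing.homCxMap K (mappingCone.inr φ)) ≫ aC := by
    rw [haX, haC]
    exact (((DRing.homCxQ K).totalRightDerivedUnit DerivedCategory.Q
      (HomologicalComplex.quasiIso (ModuleCat.{u} A) (ComplexShape.up ℤ))).naturality
        (mappingCone.inr φ)).symm
  have h1 : R.map T.mor₁ ≫ R.map eY.hom = R.map eX.hom ≫ R.map (Q.map (mappingCone.inr φ)) := by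
    rw [← R.map_comp, hcomm, R.map_comp]
  have h2 : R.map (Q.map (mappingCone.inr φ)) =
      inv aX ≫ Q.map (DRing.homCxMap K (mappingCone.inr φ)) ≫ aC :=
    (IsIso.eq_inv_comp _).mpr nat
  have hR : R.map T.mor₁ = (R.map eX.hom ≫ inv aX) ≫
      Q.map (DRing.homCxMap K (mappingCone.inr φ)) ≫ (aC ≫ R.map eY.inv) := by
    calc R.map T.mor₁ = (R.map T.mor₁ ≫ R.map eY.hom) ≫ R.map eY.inv := by
          rw [Category.assoc, ← R.map_comp, eY.hom_inv_id, R.map_id, Category.comp_id]
      _ = _ := by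
          rw [h1, h2]
          simp only [Category.assoc]
  have b1 := bijective_iso_comp (aC ≫ R.map eY.inv) E
  have b3 := bijective_iso_comp (R.map eX.hom ≫ inv aX) E
  have hfun : (fun ψ : R.obj T.obj₂ ⟶ E => R.map T.mor₁ ≫ ψ) =
      (fun ψ => (R.map eX.hom ≫ inv aX) ≫ ψ) ∘
        (fun ψ => Q.map (DRing.homCxMap K (mappingCone.inr φ)) ≫ ψ) ∘
        (fun ψ => (aC ≫ R.map eY.inv) ≫ ψ) := by
    funext ψ
    simp only [Function.comp, hR, Category.assoc]
  change Function.Bijective (fun ψ : R.obj T.obj₂ ⟶ E => R.map T.mor₁ ≫ ψ)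
  rw [hfun]
  exact b3.comp (hb.comp b1)

/-- `RHom(K, L^)` is the derived completion of `RHom(K, L)` -/
theorem S7101_statement (I : Ideal A) (hI : I.FG) [DRing.HasDerivedCompletion I]
    (K : DRing.Cx A) [DRing.HasRHomCx K] (L : Dual.D A) :
    DRing.IsDerivedComplete I ((DRing.RHomCx K).obj ((DRing.derivedCompletion I).obj L).obj) ∧
      ∀ E : Dual.D A, DRing.IsDerivedComplete I E →
        Function.Bijective (fun φ : (DRing.RHomCx K).obj ((DRing.derivedCompletion I).obj L).obj ⟶ E =>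
          (DRing.RHomCx K).map (DRing.toDerivedCompletion I L) ≫ φ) := by
  classical
  obtain ⟨s, hs⟩ := hI
  have hl : Ideal.span {x : A | x ∈ s.toList} = I := by
    rw [← hs]
    congr 1
    ext x
    simp
  constructor
  · rw [isDerivedComplete_iff_list s.toList I hl]
    intro f hf
    apply rOrth_RHomCx
    exact (isDerivedComplete_iff_list s.toList I hl _).mp
      ((DRing.derivedCompletion I).obj L).property f hf
  · intro E hE
    have hE' := (isDerivedComplete_iff_list s.toList I hl E).mp hE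
    obtain ⟨K', η, h1, h2, h3⟩ := exists_completion_list_P (A := A) hasPow
      (fun X Y u => Function.Bijective (fun φ : (DRing.RHomCx K).obj Y ⟶ E =>
        (DRing.RHomCx K).map u ≫ φ))
      (fun X => by
        have : (fun φ : (DRing.RHomCx K).obj X ⟶ E => (DRing.RHomCx K).map (𝟙 X) ≫ φ) = id :=
          funext (fun φ => by rw [CategoryTheory.Functor.map_id, Category.id_comp]; rfl)
        rw [this]
        exact Function.bijective_id)
      (fun X Y Z u v hu hv => by
        have : (fun φ : (DRing.RHomCx K).obj Z ⟶ E => (DRing.RHomCx K).map (u ≫ v) ≫ φ) =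
            (fun φ : (DRing.RHomCx K).obj Y ⟶ E => (DRing.RHomCx K).map u ≫ φ) ∘
              (fun φ : (DRing.RHomCx K).obj Z ⟶ E => (DRing.RHomCx K).map v ≫ φ) :=
          funext (fun φ => by rw [Functor.map_comp, Category.assoc]; rfl)
        rw [this]
        exact hu.comp hv)
      s.toList
      (fun f hf T hT hZ => bijective_RHomCx_map_comp K T hT f hZ E (hE' f hf)) L
    have hc : DRing.IsDerivedComplete I K' := (isDerivedComplete_iff_list s.toList I hl K').mpr h1
    have hu : ∀ E' : Dual.D A, DRing.IsDerivedComplete I E' →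
        Function.Bijective (fun φ : K' ⟶ E' => η ≫ φ) := fun E' hE'' =>
      h2 E' ((isDerivedComplete_iff_list s.toList I hl E').mp hE'')
    obtain ⟨e, he⟩ := exists_iso_completion I L K' η hc hu
    have hη : DRing.toDerivedCompletion I L = η ≫ e.inv := by
      rw [← he, Category.assoc, e.hom_inv_id, Category.comp_id]
    rw [hη]
    have b1 := bijective_iso_comp ((DRing.RHomCx K).map e.inv) E
    have hfun : (fun φ : (DRing.RHomCx K).obj ((DRing.derivedCompletion I).obj L).obj ⟶ E =>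
        (DRing.RHomCx K).map (η ≫ e.inv) ≫ φ) =
        (fun φ : (DRing.RHomCx K).obj K' ⟶ E => (DRing.RHomCx K).map η ≫ φ) ∘
          (fun φ => (DRing.RHomCx K).map e.inv ≫ φ) :=
      funext (fun φ => by rw [Functor.map_comp, Category.assoc]; rfl)
    rw [hfun]
    exact h3.comp b1

end Groth.Agent.Helper11.RHomTri
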