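import Mathlib

set_option autoImplicit false

universe u

open CategoryTheory CategoryTheory.Limits AlgebraicGeometry

namespace Groth.Agent.Helper11.RedKLqf

/-- Descent of local quasi-finiteness along a surjective morphism of one-point schemes with
integral target (e.g. a field extension). -/
theorem lqf_of_pullback_snd {Z S T : Scheme.{u}} (F : Z ⟶ S) (θ : T ⟶ S)
    [LocallyOfFiniteType F] [IsIntegral S] [Subsingleton S] [Subsingleton T] [Surjective θ]
    (h : LocallyQuasiFinite (pullback.snd F θ)) : LocallyQuasiFinite F := by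
  rw [locallyQuasiFinite_iff_isDiscrete_preimage_singleton]
  intro y
  have hq_open : IsOpenMap (pullback.fst F θ) := (pullback.fst F θ).isOpenMap
  have hq_surj : Function.Surjective (pullback.fst F θ) := (pullback.fst F θ).surjective
  have hdisc : ∀ a : Z, IsOpen ({a} : Set Z) := by
    intro a
    obtain ⟨b, rfl⟩ := hq_surj a
    have hP : _root_.IsDiscrete ((pullback.snd F θ) ⁻¹' {pullback.snd F θ b}) :=
      (pullback.snd F θ).isDiscrete_preimage_singleton _
    have huniv : (pullback.snd F θ) ⁻¹' {pullback.snd F θ b} = Set.univ := by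
      ext c
      simp only [Set.mem_preimage, Set.mem_singleton_iff, Set.mem_univ, iff_true]
      exact Subsingleton.elim _ _
    rw [huniv, isDiscrete_univ_iff] at hP
    have h1 : IsOpen ((pullback.fst F θ) ⁻¹' {pullback.fst F θ b}) := isOpen_discrete _
    have h2 := hq_open _ h1
    rwa [Set.image_preimage_eq _ hq_surj] at h2
  have hZ : DiscreteTopology Z := discreteTopology_iff_isOpen_singleton.mpr hdisc
  exact ⟨inferInstance⟩

theorem subsingleton_spec_of_artinian_local (A : Type u) [CommRing A] [IsArtinianRing A]
    [IsLocalRing A] : Subsingleton (Spec (CommRingCat.of A)) := by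
  refine ⟨fun (p q : PrimeSpectrum A) => ?_⟩
  apply PrimeSpectrum.ext
  have := p.isPrime
  have := q.isPrime
  have hp : p.asIdeal.IsMaximal := IsArtinianRing.isMaximal_of_isPrime p.asIdeal
  have hq : q.asIdeal.IsMaximal := IsArtinianRing.isMaximal_of_isPrime q.asIdeal
  rw [IsLocalRing.eq_maximalIdeal hp, IsLocalRing.eq_maximalIdeal hq]

theorem REDK_lqf {A K : Type u} [CommRing A] [IsArtinianRing A] [IsLocalRing A] [Field K]
    (ψ : A →+* K) {X : Scheme.{u}} (g : X ⟶ Spec (CommRingCat.of A)) [LocallyOfFiniteType g]
    (h : LocallyQuasiFinite (pullback.snd g (Spec.map (CommRingCat.ofHom ψ)))) :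
    LocallyQuasiFinite g := by
  refine LocallyQuasiFinite.of_fiberToSpecResidueField g (fun x => ?_)
  have hsub : Subsingleton (Spec (CommRingCat.of A)) := subsingleton_spec_of_artinian_local A
  have hx : (Spec.map (CommRingCat.ofHom ψ)) (IsLocalRing.closedPoint K) = x :=
    Subsingleton.elim _ _
  subst hx
  have hθ := Scheme.descResidueField_stalkClosedPointTo_fromSpecResidueField K
    (Spec (CommRingCat.of A)) (Spec.map (CommRingCat.ofHom ψ))
  generalize Spec.map (Scheme.descResidueField
    (Scheme.stalkClosedPointTo (Spec.map (CommRingCat.ofHom ψ)))) = θ at hθ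
  have h1 : LocallyQuasiFinite (pullback.snd g (θ ≫ (Spec (CommRingCat.of A)).fromSpecResidueField
      ((Spec.map (CommRingCat.ofHom ψ)) (IsLocalRing.closedPoint K)))) := by
    rw [hθ]; exact h
  have h2 : LocallyQuasiFinite (pullback.snd (pullback.snd g
      ((Spec (CommRingCat.of A)).fromSpecResidueField
        ((Spec.map (CommRingCat.ofHom ψ)) (IsLocalRing.closedPoint K)))) θ) := by
    rw [← pullbackLeftPullbackSndIso_hom_snd]
    infer_instance
  have h3 : LocallyOfFiniteType (pullback.snd g
      ((Spec (CommRingCat.of A)).fromSpecResidueField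
        ((Spec.map (CommRingCat.ofHom ψ)) (IsLocalRing.closedPoint K)))) := inferInstance
  have : Subsingleton (Spec ((Spec (CommRingCat.of A)).residueField
      ((Spec.map (CommRingCat.ofHom ψ)) (IsLocalRing.closedPoint K)))) :=
    inferInstanceAs (Subsingleton (PrimeSpectrum _))
  have : Subsingleton (Spec (CommRingCat.of K)) :=
    inferInstanceAs (Subsingleton (PrimeSpectrum K))
  have : Nonempty (Spec (CommRingCat.of K)) := ⟨IsLocalRing.closedPoint K⟩
  exact lqf_of_pullback_snd (pullback.snd g
      ((Spec (CommRingCat.of A)).fromSpecResidueField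
        ((Spec.map (CommRingCat.ofHom ψ)) (IsLocalRing.closedPoint K)))) θ h2

end Groth.Agent.Helper11.RedKLqf
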