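import Groth.Agent.Lib.Helper11.Dev3
import Groth.Agent.Lib.Helper11.MPC12
import Groth.Agent.Lib.Helper11.TorAmp5
import Groth.Agent.Lib.Helper11.PcBC
import Groth.Agent.Lib.Helper11.FpPc

/-!
Tensoring a complex whose restriction is `m`-pseudo-coherent with a pseudo-coherent module
(helper11).
-/

set_option autoImplicit false

open CategoryTheory Category Limits Pretriangulated DerivedCategory ZeroObject MonoidalCategory

attribute [local instance] HasDerivedCategory.standard

universe u

namespace Groth.Agent.Helper11.RelBC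

open Groth.Agent.Helper11.DC Groth.Agent.Helper11.MPC Groth.Agent.Helper11.TA
  Groth.Agent.Helper11.LDer Groth.Agent.Helper11.Dev Groth.Agent.Helper11.PcBC

section TensSES

variable {A : Type u} [CommRing A] (T : DRing.Cx A) {M₁ M₂ M₃ : ModuleCat.{u} A}
  (f : M₁ ⟶ M₂) (g : M₂ ⟶ M₃)

theorem tens_comp_zero (hfg : Function.Exact f.hom g.hom) (hg : Function.Surjective g.hom) :
    (tensMap f).app T ≫ (tensMap g).app T = 0 := by
  ext j : 1
  rw [HomologicalComplex.comp_f, tensMap_app_f, tensMap_app_f, HomologicalComplex.zero_f]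
  apply ModuleCat.hom_ext
  apply LinearMap.ext
  intro x
  have h : (LinearMap.lTensor (T.X j) g.hom ∘ₗ LinearMap.lTensor (T.X j) f.hom) x = 0 := by
    have := (lTensor_exact (T.X j) hfg hg).linearMap_comp_eq_zero
    rw [this]
    rfl
  exact h

/-- the short complex `T ⊗ M₁ → T ⊗ M₂ → T ⊗ M₃` -/
noncomputable def tensSC (hfg : Function.Exact f.hom g.hom) (hg : Function.Surjective g.hom) :
    ShortComplex (DRing.Cx A) :=
  ShortComplex.mk _ _ (tens_comp_zero T f g hfg hg)

theorem tensSC_shortExact (hT : ∀ i, Module.Flat A (T.X i)) (hf : Function.Injective f.hom)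
    (hfg : Function.Exact f.hom g.hom) (hg : Function.Surjective g.hom) :
    (tensSC T f g hfg hg).ShortExact := by
  apply HomologicalComplex.shortExact_of_degreewise_shortExact
  intro j
  haveI := hT j
  have hmono : Mono ((tensSC T f g hfg hg).map (HomologicalComplex.eval _ _ j)).f := by
    rw [ModuleCat.mono_iff_injective]
    exact Module.Flat.lTensor_preserves_injective_linearMap (M := T.X j) f.hom hf
  have hepi : Epi ((tensSC T f g hfg hg).map (HomologicalComplex.eval _ _ j)).g := by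
    rw [ModuleCat.epi_iff_surjective]
    exact LinearMap.lTensor_surjective (T.X j) hg
  have hex : ((tensSC T f g hfg hg).map (HomologicalComplex.eval _ _ j)).Exact := by
    rw [ShortComplex.ShortExact.moduleCat_exact_iff_function_exact]
    exact lTensor_exact (T.X j) hfg hg
  exact { exact := hex, mono_f := hmono, epi_g := hepi }

end TensSES

section PT

variable {P' C : Type u} [CommRing P'] [CommRing C] (ρ : P' →+* C) (T : DRing.Cx C)

/-- `T ⊗ N`, restricted along `ρ`, is `m`-pseudo-coherent -/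
def PT (m : ℤ) (N : ModuleCat.{u} C) : Prop :=
  DRing.IsPseudoCoherent P' m ((DRing.restrictD ρ).obj (Q.obj ((tens N).obj T)))

/-- the module is pseudo-coherent -/
def NN (N : ModuleCat.{u} C) : Prop :=
  ∀ k : ℤ, DRing.IsPseudoCoherent C k ((singleFunctor (ModuleCat.{u} C) 0).obj N)

variable {ρ T}

theorem PT_of_iso {m : ℤ} {N N' : ModuleCat.{u} C} (e : N ≅ N') (h : PT ρ T m N) :
    PT ρ T m N' :=
  mpc_of_iso ((DRing.restrictD ρ).mapIso (Q.mapIso ((tensIso e).app T))) h

theorem PT_of_le {m m' : ℤ} (hm : m ≤ m') {N : ModuleCat.{u} C} (h : PT ρ T m N) :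
    PT ρ T m' N :=
  mpc_of_le hm h

theorem PT_of_isLE {m c : ℤ} (hm : c < m) (N : ModuleCat.{u} C)
    (h1 : (Q.obj ((tens N).obj T)).IsLE c) : PT ρ T m N := by
  have h2 := isLE_restrict ρ _ c h1
  exact mpc_of_isZero_homology _ (fun i hi => (isLE_iff _ c).mp h2 i (by omega))

theorem PT_of_lt (c : ℤ) (hc : DRing.VanishesAbove T c) {m : ℤ} (hm : c < m)
    (N : ModuleCat.{u} C) : PT ρ T m N :=
  PT_of_isLE hm N (isLE_of_vanishesAbove _ c (fun i hi => tens_isZero N T i (hc i hi)))

theorem PT_of_subsingleton (m : ℤ) (N : ModuleCat.{u} C) [Subsingleton N] : PT ρ T m N := by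
  refine PT_of_isLE (c := m - 1) (by omega) N ?_
  rw [isLE_iff]
  intro i _
  rw [isZero_homology_Q_iff_exactAt, HomologicalComplex.exactAt_iff_isZero_homology]
  exact isZero_homology_tens_of_subsingleton T N i

theorem PT_ext (hT : ∀ i, Module.Flat C (T.X i)) {N₁ N₂ N₃ : ModuleCat.{u} C}
    (f : N₁ ⟶ N₂) (g : N₂ ⟶ N₃) (hf : Function.Injective f.hom)
    (hg : Function.Surjective g.hom) (hfg : Function.Exact f.hom g.hom) (m : ℤ) :
    (PT ρ T (m + 1) N₁ → PT ρ T m N₂ → PT ρ T m N₃) ∧
      (PT ρ T m N₁ → PT ρ T m N₃ → PT ρ T m N₂) := by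
  have hS := tensSC_shortExact T f g hT hf hfg hg
  have hT' := (DRing.restrictD ρ).map_distinguished _ (triangleOfSES_distinguished hS)
  have h := mpc_two_of_three _ hT' m
  exact ⟨h.1, h.2.1⟩

theorem PT_unit {m : ℤ}
    (hm : DRing.IsPseudoCoherent P' m ((DRing.restrictD ρ).obj (Q.obj T))) :
    PT ρ T m (𝟙_ (ModuleCat.{u} C)) :=
  mpc_of_iso ((DRing.restrictD ρ).mapIso (Q.mapIso (tensUnitIso.app T).symm)) hm

theorem PT_prod (hT : ∀ i, Module.Flat C (T.X i)) {m : ℤ} (X Y : ModuleCat.{u} C)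
    (hX : PT ρ T m X) (hY : PT ρ T m Y) : PT ρ T m (ModuleCat.of C (X × Y)) := by
  refine (PT_ext hT (ModuleCat.ofHom (LinearMap.inl C X Y))
    (ModuleCat.ofHom (LinearMap.snd C X Y)) ?_ ?_ ?_ m).2 hX hY
  · exact LinearMap.inl_injective
  · exact LinearMap.snd_surjective
  · intro y
    constructor
    · intro h
      exact ⟨y.1, Prod.ext rfl h.symm⟩
    · rintro ⟨x, rfl⟩
      rfl

theorem PT_pi (hT : ∀ i, Module.Flat C (T.X i)) {m : ℤ} (X : ModuleCat.{u} C)
    (hX : PT ρ T m X) (k : ℕ) : PT ρ T m (ModuleCat.of C (Fin k → X)) := by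
  induction k with
  | zero => exact PT_of_subsingleton m _
  | succ k ih =>
    exact PT_of_iso
      (Fin.consLinearEquiv C (fun _ : Fin (k + 1) => (X : Type u))).toModuleIso
      (PT_prod hT X (ModuleCat.of C (Fin k → X)) hX ih)

/-- a pseudo-coherent module is a quotient of a finite free module by a pseudo-coherent module -/
theorem exists_ses_of_NN (N : ModuleCat.{u} C) (hN : NN N) :
    ∃ (k : ℕ) (N' : ModuleCat.{u} C) (f : N' ⟶ ModuleCat.of C (Fin k → C))
      (g : ModuleCat.of C (Fin k → C) ⟶ N),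
      Function.Injective f.hom ∧ Function.Surjective g.hom ∧ Function.Exact f.hom g.hom ∧
        NN N' := by
  have hpc : DRing.IsPseudoCoherentModule' C N := pc'_of_forall_mpc hN
  haveI : Module.FinitePresentation C N := fp_of_pc' N hpc
  obtain ⟨k, p, hp⟩ := Module.Finite.exists_fin' C N
  let S : ShortComplex (ModuleCat.{u} C) :=
    ShortComplex.mk (ModuleCat.ofHom (LinearMap.ker p).subtype) (ModuleCat.ofHom p)
      (by ext x; simp)
  have hS : S.ShortExact := by
    refine ShortComplex.ShortExact.mk' ?_ ?_ ?_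
    · rw [ShortComplex.moduleCat_exact_iff_range_eq_ker]
      simp [S]
    · exact (ModuleCat.mono_iff_injective _).mpr (Submodule.subtype_injective _)
    · exact (ModuleCat.epi_iff_surjective _).mpr hp
  refine ⟨k, ModuleCat.of C (LinearMap.ker p), ModuleCat.ofHom (LinearMap.ker p).subtype,
    ModuleCat.ofHom p, Submodule.subtype_injective _, hp, ?_, ?_⟩
  · intro y
    constructor
    · intro h
      exact ⟨⟨y, h⟩, rfl⟩
    · rintro ⟨x, rfl⟩
      exact x.2
  · intro j
    have hT := hS.singleTriangle_distinguished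
    have h2 : DRing.IsPseudoCoherent C (j - 1 + 1) hS.singleTriangle.obj₂ :=
      mpc_of_bounded_free _ 0 0 (single_vanishesOutside (ModuleCat.of C (Fin k → C)))
        (single_termwiseFiniteFree (ModuleCat.of C (Fin k → C))) _
    have h3 : DRing.IsPseudoCoherent C (j - 1) hS.singleTriangle.obj₃ := hN (j - 1)
    have h1 := (mpc_two_of_three _ hT (j - 1)).2.2 h2 h3
    rw [sub_add_cancel] at h1
    exact h1

theorem PT_aux (hT : ∀ i, Module.Flat C (T.X i)) (c : ℤ) (hc : DRing.VanishesAbove T c) (m : ℤ)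
    (hm : DRing.IsPseudoCoherent P' m ((DRing.restrictD ρ).obj (Q.obj T))) (j : ℕ) :
    m ≤ c + 1 - (j : ℤ) → ∀ N : ModuleCat.{u} C, NN N → PT ρ T (c + 1 - (j : ℤ)) N := by
  induction j with
  | zero =>
    intro _ N _
    exact PT_of_lt c hc (by push_cast; omega) N
  | succ j ih =>
    intro hmj N hN
    have ih' := ih (by push_cast at hmj ⊢; omega)
    obtain ⟨k, N', f, g, hf, hg, hfg, hN'⟩ := exists_ses_of_NN N hN
    have h1 : PT ρ T (c + 1 - ((j + 1 : ℕ) : ℤ) + 1) N' := by
      have e : c + 1 - ((j + 1 : ℕ) : ℤ) + 1 = c + 1 - (j : ℤ) := by push_cast; omega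
      rw [e]
      exact ih' N' hN'
    have h2 : PT ρ T (c + 1 - ((j + 1 : ℕ) : ℤ)) (ModuleCat.of C (Fin k → C)) :=
      PT_of_le hmj (PT_pi hT (𝟙_ (ModuleCat.{u} C)) (PT_unit hm) k)
    exact (PT_ext hT f g hf hg hfg _).1 h1 h2

/-- **Tensoring with a pseudo-coherent module**: if `T` is a bounded above complex of flat
`C`-modules whose restriction along `ρ : P' → C` is `m`-pseudo-coherent, and `N` is a
pseudo-coherent `C`-module, then the restriction of `T ⊗ N` is `m`-pseudo-coherent. -/
theorem PT_of_NN (hT : ∀ i, Module.Flat C (T.X i)) (c : ℤ) (hc : DRing.VanishesAbove T c) (m : ℤ)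
    (hm : DRing.IsPseudoCoherent P' m ((DRing.restrictD ρ).obj (Q.obj T)))
    (N : ModuleCat.{u} C) (hN : NN N) : PT ρ T m N := by
  by_cases h : c < m
  · exact PT_of_lt c hc h N
  · have h1 := PT_aux hT c hc m hm (c + 1 - m).toNat (by omega) N hN
    have e : c + 1 - ((c + 1 - m).toNat : ℤ) = m := by omega
    rw [e] at h1
    exact h1

end PT

end Groth.Agent.Helper11.RelBC
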