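import Groth.Agent.Lib.Helper11.MPC8

/-!
Flat ascent of `m`-pseudo-coherence (helper11).
-/

open CategoryTheory Category Limits Pretriangulated DerivedCategory ZeroObject

attribute [local instance] HasDerivedCategory.standard

universe u

namespace Groth.Agent.Helper11.MPC

open Groth.Agent.Helper11.DC Groth.Agent.Helper11.GenRes Groth.Agent.Helper11.TA

variable {R R' : Type u} [CommRing R] [CommRing R'] (φ : R →+* R')

theorem mpc_esC_aux (hφ : φ.Flat) (m : ℤ) (n : ℕ) :
    ∀ (K : DRing.Cx R) (a : ℤ), a < m + n → (Q.obj K).IsLE a →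
      DRing.IsPseudoCoherent R m (Q.obj K) →
      DRing.IsPseudoCoherent R' m (Q.obj ((esC φ).obj K)) := by
  induction n with
  | zero =>
    intro K a ha hK _
    have hK' := isLE_esC φ hφ K a hK
    exact mpc_of_isZero_homology _ (fun i hi => (isLE_iff _ a).mp hK' i (by omega))
  | succ n ih =>
    intro K a ha hK h
    have hK' := isLE_esC φ hφ K a hK
    by_cases ham : a < m
    · exact mpc_of_isZero_homology _ (fun i hi => (isLE_iff _ a).mp hK' i (by omega))
    · have hfinK : Module.Finite R (K.homology a) := by
        haveI := hK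
        have h1 : Module.Finite R ((Hf R a).obj (Q.obj K)) :=
          finite_top_homology (mpc_of_le (by omega) h)
        haveI : Module.Finite R
            ↑((Q ⋙ homologyFunctor (ModuleCat.{u} R) a).obj K) := h1
        exact Module.Finite.equiv
          ((homologyFunctorFactors (ModuleCat.{u} R) a).app K).toLinearEquiv
      obtain ⟨k, τ, hτ⟩ := exists_top_cover_cx K a hfinK
      have hC := cone_top_cover_isLE K a hK τ hτ
      have hT := DerivedCategory.mappingCone_triangle_distinguished τ
      have hC' : DRing.IsPseudoCoherent R m (Q.obj (CochainComplex.mappingCone τ)) :=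
        mpc_third _ hT m (mpc_sgl a _ (m + 1)) h
      have h2 := ih _ (a - 1) (by omega) hC hC'
      have hTi := DerivedCategory.mappingCone_triangle_distinguished ((esC φ).map τ)
      have h3 : DRing.IsPseudoCoherent R' m
          (Q.obj (CochainComplex.mappingCone ((esC φ).map τ))) :=
        mpc_of_iso (Q.mapIso
          (CochainComplex.mappingCone.mapHomologicalComplexIso τ (es φ))) h2
      exact (mpc_two_of_three _ hTi m).2.1 (mpc_esC_sgl φ a _ m) h3

/-- flat base change preserves `m`-pseudo-coherence -/
theorem mpc_esC (hφ : φ.Flat) (m : ℤ) (K : DRing.Cx R)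
    (h : DRing.IsPseudoCoherent R m (Q.obj K)) :
    DRing.IsPseudoCoherent R' m (Q.obj ((esC φ).obj K)) := by
  obtain ⟨b, hb⟩ := exists_isLE_of_mpc h
  exact mpc_esC_aux φ hφ m (b - m + 1).toNat K b (by omega) hb h

end Groth.Agent.Helper11.MPC
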