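import Groth.Agent.Lib.Helper11.RelBC1
import Groth.Agent.Lib.Helper11.FlatPc5
import Groth.Agent.Lib.Helper11.RelLoc2
import Groth.Agent.Lib.Helper11.LocalPerf6
import Mathlib.RingTheory.TensorProduct.MvPolynomial

/-!
Relative pseudo-coherence is preserved by base change along a relatively pseudo-coherent ring
map (helper11).
-/

set_option autoImplicit false

open CategoryTheory Category Limits Pretriangulated DerivedCategory ZeroObject MonoidalCategory

attribute [local instance] HasDerivedCategory.standard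

universe u

namespace Groth.Agent.Helper11.RelBC

open Groth.Agent.Helper11.DC Groth.Agent.Helper11.MPC Groth.Agent.Helper11.TA
  Groth.Agent.Helper11.LDer Groth.Agent.Helper11.Dev Groth.Agent.Helper11.PcBC

section Step1

variable (P S A T : Type u) [CommRing P] [CommRing S] [CommRing A] [CommRing T]
  [Algebra P S] [Algebra P A] [Algebra P T] [Algebra A T] [Algebra S T]
  [IsScalarTower P A T] [IsScalarTower P S T] [Algebra.IsPushout P S A T] [Module.Flat P S]

/-- flat base change along a pushout square -/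
theorem mpc_po (K : DRing.Cx A) (m : ℤ)
    (h : DRing.IsPseudoCoherent P m ((DRing.restrictD (algebraMap P A)).obj (Q.obj K))) :
    DRing.IsPseudoCoherent S m
      ((DRing.restrictD (algebraMap S T)).obj (Q.obj ((esC (algebraMap A T)).obj K))) := by
  have h1 : DRing.IsPseudoCoherent P m (Q.obj ((rsC (algebraMap P A)).obj K)) :=
    mpc_of_iso
      ((ModuleCat.restrictScalars.{u} (algebraMap P A)).mapDerivedCategoryFactors.app K) h
  have h2 := mpc_esC (algebraMap P S) (RingHom.flat_algebraMap_iff.mpr inferInstance) m _ h1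
  have h3 := mpc_of_iso (Q.mapIso (FlatPc.bcCxIso_po P S A T K)) h2
  exact mpc_of_iso
    ((ModuleCat.restrictScalars.{u} (algebraMap S T)).mapDerivedCategoryFactors.app _).symm h3

end Step1

section Core

attribute [local instance] MvPolynomial.algebraMvPolynomial

variable {R A B : Type u} [CommRing R] [CommRing A] [CommRing B] [Algebra R A] [Algebra A B]
  [Algebra R B] [IsScalarTower R A B]

/-- `R[x, y] ≃ R[x][y]` -/
noncomputable def polyEquiv (R : Type u) [CommRing R] (n₁ n₂ : ℕ) :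
    MvPolynomial (Fin (n₂ + n₁)) R ≃ₐ[R] MvPolynomial (Fin n₂) (MvPolynomial (Fin n₁) R) :=
  (MvPolynomial.renameEquiv R finSumFinEquiv.symm).trans
    (MvPolynomial.sumAlgEquiv R (Fin n₂) (Fin n₁))

/-- the composite presentation of `B` over `R` -/
noncomputable def gamma {n₁ n₂ : ℕ} (α : MvPolynomial (Fin n₁) R →ₐ[R] A)
    (β : MvPolynomial (Fin n₂) A →ₐ[A] B) : MvPolynomial (Fin (n₂ + n₁)) R →ₐ[R] B :=
  ((β.restrictScalars R).comp (MvPolynomial.mapAlgHom α)).comp
    (polyEquiv R n₁ n₂ : _ ≃ₐ[R] _).toAlgHom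

theorem gamma_surjective {n₁ n₂ : ℕ} (α : MvPolynomial (Fin n₁) R →ₐ[R] A)
    (hα : Function.Surjective α) (β : MvPolynomial (Fin n₂) A →ₐ[A] B)
    (hβ : Function.Surjective β) : Function.Surjective (gamma α β) := by
  have h1 : Function.Surjective (MvPolynomial.mapAlgHom (σ := Fin n₂) α) :=
    MvPolynomial.map_surjective (α : MvPolynomial (Fin n₁) R →+* A) hα
  exact (hβ.comp h1).comp (polyEquiv R n₁ n₂).surjective

theorem core_aux {n₁ n₂ : ℕ} (α : MvPolynomial (Fin n₁) R →ₐ[R] A)
    (β : MvPolynomial (Fin n₂) A →ₐ[A] B)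
    (hβ_pc : ∀ k, DerCA.IsRelPseudoCoherentVia β k (Dual.inD B B))
    (T : DRing.Cx A) (c : ℤ) (hc : DRing.VanishesAbove T c) (hT : ∀ i, Module.Flat A (T.X i))
    (m : ℤ) (hα_pc : DerCA.IsRelPseudoCoherentVia α m (Q.obj T)) :
    DerCA.IsRelPseudoCoherentVia (gamma α β) m (Q.obj ((esC (algebraMap A B)).obj T)) := by
  letI : Algebra (MvPolynomial (Fin n₁) R) A := (α : MvPolynomial (Fin n₁) R →+* A).toAlgebra
  have h1 := mpc_po (MvPolynomial (Fin n₁) R) (MvPolynomial (Fin n₂) (MvPolynomial (Fin n₁) R)) A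
    (MvPolynomial (Fin n₂) A) T m hα_pc
  have hNN : NN (Bm (β : MvPolynomial (Fin n₂) A →+* B)) := fun k =>
    mpc_of_iso (((ModuleCat.restrictScalars.{u}
      (β : MvPolynomial (Fin n₂) A →+* B)).mapDerivedCategorySingleFunctor 0).app
        (ModuleCat.of B B)) (hβ_pc k)
  have hTC_flat : ∀ i, Module.Flat (MvPolynomial (Fin n₂) A)
      (((esC (algebraMap A (MvPolynomial (Fin n₂) A))).obj T).X i) := fun i => by
    haveI := hT i
    exact es_flat (algebraMap A (MvPolynomial (Fin n₂) A)) (T.X i)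
  have hTC_c : DRing.VanishesAbove ((esC (algebraMap A (MvPolynomial (Fin n₂) A))).obj T) c :=
    fun i hi => (es (algebraMap A (MvPolynomial (Fin n₂) A))).map_isZero (hc i hi)
  have h2 := PT_of_NN hTC_flat c hTC_c m h1 _ hNN
  have hcomp : (β : MvPolynomial (Fin n₂) A →+* B).comp
      (algebraMap A (MvPolynomial (Fin n₂) A)) = algebraMap A B := β.comp_algebraMap
  have e2 : (esC (β : MvPolynomial (Fin n₂) A →+* B)).obj
      ((esC (algebraMap A (MvPolynomial (Fin n₂) A))).obj T) ≅ (esC (algebraMap A B)).obj T :=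
    (LocalPerf.esCCompIso (algebraMap A (MvPolynomial (Fin n₂) A))
      (β : MvPolynomial (Fin n₂) A →+* B) T).symm ≪≫
      eqToIso (congrArg (fun φ : A →+* B => (esC φ).obj T) hcomp)
  have e3 : Q.obj ((tens (Bm (β : MvPolynomial (Fin n₂) A →+* B))).obj
      ((esC (algebraMap A (MvPolynomial (Fin n₂) A))).obj T)) ≅
      (DRing.restrictD (β : MvPolynomial (Fin n₂) A →+* B)).obj
        (Q.obj ((esC (algebraMap A B)).obj T)) :=
    Q.mapIso (tensBmIso (β : MvPolynomial (Fin n₂) A →+* B) _ ≪≫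
      (rsC (β : MvPolynomial (Fin n₂) A →+* B)).mapIso e2) ≪≫
      ((ModuleCat.restrictScalars.{u}
        (β : MvPolynomial (Fin n₂) A →+* B)).mapDerivedCategoryFactors.app _).symm
  have h3 : DRing.IsPseudoCoherent (MvPolynomial (Fin n₂) (MvPolynomial (Fin n₁) R)) m
      ((DRing.restrictD (algebraMap (MvPolynomial (Fin n₂) (MvPolynomial (Fin n₁) R))
        (MvPolynomial (Fin n₂) A))).obj
        ((DRing.restrictD (β : MvPolynomial (Fin n₂) A →+* B)).obj
          (Q.obj ((esC (algebraMap A B)).obj T)))) :=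
    mpc_of_iso ((DRing.restrictD _).mapIso e3) h2
  have h4 := (mpc_restrict_comp (algebraMap (MvPolynomial (Fin n₂) (MvPolynomial (Fin n₁) R))
    (MvPolynomial (Fin n₂) A)) (β : MvPolynomial (Fin n₂) A →+* B) m _).mpr h3
  have h5 := (mpc_restrict_comp_iff
    ((polyEquiv R n₁ n₂ : _ ≃ₐ[R] _) :
      MvPolynomial (Fin (n₂ + n₁)) R →+* MvPolynomial (Fin n₂) (MvPolynomial (Fin n₁) R))
    (baseIsPc_of_bijective _ (polyEquiv R n₁ n₂).bijective)
    ((β : MvPolynomial (Fin n₂) A →+* B).comp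
      (algebraMap (MvPolynomial (Fin n₂) (MvPolynomial (Fin n₁) R)) (MvPolynomial (Fin n₂) A)))
    m _).mp h4
  have hγ : ((gamma α β : MvPolynomial (Fin (n₂ + n₁)) R →ₐ[R] B) :
      MvPolynomial (Fin (n₂ + n₁)) R →+* B) =
      ((β : MvPolynomial (Fin n₂) A →+* B).comp
        (algebraMap (MvPolynomial (Fin n₂) (MvPolynomial (Fin n₁) R))
          (MvPolynomial (Fin n₂) A))).comp
        ((polyEquiv R n₁ n₂ : _ ≃ₐ[R] _) :
          MvPolynomial (Fin (n₂ + n₁)) R →+* MvPolynomial (Fin n₂) (MvPolynomial (Fin n₁) R)) :=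
    RingHom.ext fun x => rfl
  unfold DerCA.IsRelPseudoCoherentVia
  rw [hγ]
  exact h5

/-- **Core**: base change of a bounded above complex of flat modules along a relatively
pseudo-coherent finite type ring map preserves relative `m`-pseudo-coherence. -/
theorem core [Algebra.FiniteType A B] (hB : DerCA.IsRelPseudoCoherentModuleAll A B B)
    (T : DRing.Cx A) (c : ℤ) (hc : DRing.VanishesAbove T c) (hT : ∀ i, Module.Flat A (T.X i))
    (m : ℤ) (h : DerCA.IsRelPseudoCoherent R A m (Q.obj T)) :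
    DerCA.IsRelPseudoCoherent R B m (Q.obj ((esC (algebraMap A B)).obj T)) := by
  obtain ⟨n₁, α, hα, hα_pc⟩ := h
  obtain ⟨n₂, β, hβ⟩ := exists_presentation (R := A) (A := B)
  have hβ_pc : ∀ k, DerCA.IsRelPseudoCoherentVia β k (Dual.inD B B) := fun k =>
    (rel_iff_via β hβ k _).mp (hB k)
  exact ⟨n₂ + n₁, gamma α β, gamma_surjective α hα β hβ,
    core_aux α β hβ_pc T c hc hT m hα_pc⟩

end Core

end Groth.Agent.Helper11.RelBC
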