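import Groth.Agent.Lib.Helper11.RelBC2
import Groth.Agent.Lib.Helper11.ProjResTower
import Groth.Agent.Lib.Helper11.LDer4
import Groth.Agent.Lib.Helper11.DCFlatBC
import Groth.Agent.Lib.Helper11.TorAmp8
import Groth.Agent.Lib.Helper11.FlatPc1

/-!
Relative pseudo-coherence and derived base change along a relatively pseudo-coherent ring map:
statement-level wrappers (helper11).
-/

set_option autoImplicit false

open CategoryTheory Category Limits Pretriangulated DerivedCategory ZeroObject MonoidalCategory

attribute [local instance] HasDerivedCategory.standard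

universe u

namespace Groth.Agent.Helper11.RelBC

open Groth.Agent.Helper11.DC Groth.Agent.Helper11.MPC Groth.Agent.Helper11.TA
  Groth.Agent.Helper11.LDer Groth.Agent.Helper11.Dev Groth.Agent.Helper11.PcBC

variable {R A B : Type u} [CommRing R] [CommRing A] [CommRing B] [Algebra R A] [Algebra A B]
  [Algebra R B] [IsScalarTower R A B]

theorem rel_of_iso {m : ℤ} {K L : Dual.D A} (e : K ≅ L)
    (h : DerCA.IsRelPseudoCoherent R A m K) : DerCA.IsRelPseudoCoherent R A m L := by
  obtain ⟨n, α, hα, h⟩ := h
  exact ⟨n, α, hα, mpc_of_iso ((DRing.restrictD _).mapIso e) h⟩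

/-- relative `m`-pseudo-coherence is preserved by derived base change along a finite type ring
map `A → B` with `B` pseudo-coherent relative to `A`. -/
theorem rel_LBaseChange [Algebra.FiniteType A B] (hB : DerCA.IsRelPseudoCoherentModuleAll A B B)
    [DRing.HasLBaseChange (algebraMap A B)] (K : Dual.D A) (m : ℤ)
    (h : DerCA.IsRelPseudoCoherent R A m K) :
    DerCA.IsRelPseudoCoherent R B m ((DRing.LBaseChange (algebraMap A B)).obj K) := by
  obtain ⟨n, α, hα, hα_pc⟩ := h
  obtain ⟨b, hb⟩ := exists_isLE_of_mpc hα_pc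
  have hK : K.IsLE b := isLE_of_restrict (α : MvPolynomial (Fin n) R →+* A) K b hb
  obtain ⟨P, c, hc, hp, ⟨e⟩⟩ := PRT.hasProjRes_of_isLE K b hK
  obtain ⟨e'⟩ := nonempty_LBaseChange_iso_of_projRes (algebraMap A B) K P c hc hp e
  have h1 : DerCA.IsRelPseudoCoherent R A m (Q.obj P) := rel_of_iso e.symm ⟨n, α, hα, hα_pc⟩
  have h2 := core hB P c hc (fun i => by haveI := hp i; infer_instance) m h1
  exact rel_of_iso e'.symm h2

/-- the statement of S6986 -/
theorem S6986_statement [Algebra.FiniteType A B] (hB : DerCA.IsRelPseudoCoherentModuleAll A B B)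
    [DRing.HasLBaseChange (algebraMap A B)] (K : Dual.D A) (m : ℤ) :
    (DerCA.IsRelPseudoCoherent R A m K →
      DerCA.IsRelPseudoCoherent R B m ((DRing.LBaseChange (algebraMap A B)).obj K)) ∧
      (DerCA.IsRelPseudoCoherentAll R A K →
        DerCA.IsRelPseudoCoherentAll R B ((DRing.LBaseChange (algebraMap A B)).obj K)) :=
  ⟨rel_LBaseChange hB K m, fun h k => rel_LBaseChange hB K k (h k)⟩

/-- flat base change of a module -/
theorem rel_module_baseChange [Algebra.FiniteType A B] [Module.Flat A B]
    (hB : DerCA.IsRelPseudoCoherentModuleAll A B B) (m : ℤ) (M : Type u) [AddCommGroup M]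
    [Module A M] (h : DerCA.IsRelPseudoCoherentModule R A m M) :
    DerCA.IsRelPseudoCoherentModule R B m (TensorProduct A B M) := by
  obtain ⟨hc, hp, ⟨e⟩⟩ := projRes_spec (ModuleCat.of A M)
  have h1 : DerCA.IsRelPseudoCoherent R A m
      (Q.obj (projectiveResolution (ModuleCat.of A M)).cochainComplex) := rel_of_iso e.symm h
  have h2 := core hB _ 0 hc (fun i => by haveI := hp i; infer_instance) m h1
  obtain ⟨e2⟩ := flatBC_single_rep (algebraMap A B) (RingHom.flat_algebraMap_iff.mpr inferInstance)
    _ (ModuleCat.of A M) e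
  have e3 : (ModuleCat.extendScalars.{u,u,u} (algebraMap A B)).obj (ModuleCat.of A M) ≅
      ModuleCat.of B (TensorProduct A B M) :=
    (FlatPc.esEquiv (R := A) (S := B) (ModuleCat.of A M)).toModuleIso
  exact rel_of_iso (e2 ≪≫ (singleFunctor (ModuleCat.{u} B) 0).mapIso e3) h2

/-- the statement of S7025 -/
theorem S7025_statement [Algebra.FiniteType A B] [Module.Flat A B]
    (hB : DerCA.IsRelPseudoCoherentModuleAll A B B) (m : ℤ) (M : Type u) [AddCommGroup M]
    [Module A M] :
    (DerCA.IsRelPseudoCoherentModule R A m M →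
      DerCA.IsRelPseudoCoherentModule R B m (TensorProduct A B M)) ∧
      (DerCA.IsRelPseudoCoherentModuleAll R A M →
        DerCA.IsRelPseudoCoherentModuleAll R B (TensorProduct A B M)) :=
  ⟨rel_module_baseChange hB m M, fun h k => rel_module_baseChange hB k M (h k)⟩

end Groth.Agent.Helper11.RelBC
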