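import Groth.Agent.Lib.Helper11.MPC12
import Mathlib.RingTheory.AdjoinRoot

/-!
Adjoining an integral element does not change `m`-pseudo-coherence of restrictions (helper11).
-/

open CategoryTheory Category Limits Pretriangulated DerivedCategory ZeroObject

attribute [local instance] HasDerivedCategory.standard

universe u

namespace Groth.Agent.Helper11.MPC

open Groth.Agent.Helper11.DC Groth.Agent.Helper11.GenRes Groth.Agent.Helper11.TA

section AdjoinRoot

open Polynomial

variable {P : Type u} [CommRing P] (f : P[X])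

theorem baseIsPc_adjoinRoot_of (hf : f.Monic) : BaseIsPc (AdjoinRoot.of f) := by
  haveI := hf.free_adjoinRoot
  haveI := hf.finite_adjoinRoot
  have h : DRing.IsPseudoCoherentModule' P (AdjoinRoot f) :=
    pc_of_finite_projective (ModuleCat.of P (AdjoinRoot f))
  have := baseIsPc_of_module h
  rwa [AdjoinRoot.algebraMap_eq] at this

/-- the short complex `P[X] → P[X] → P[X]/(f)` -/
noncomputable def adjSC : ShortComplex (ModuleCat.{u} P[X]) :=
  ShortComplex.mk
    (X₁ := ModuleCat.of P[X] P[X]) (X₂ := ModuleCat.of P[X] P[X])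
    (X₃ := (ModuleCat.restrictScalars.{u} (AdjoinRoot.mk f)).obj
      (ModuleCat.of (AdjoinRoot f) (AdjoinRoot f)))
    (ModuleCat.ofHom (LinearMap.mulLeft P[X] f))
    (ModuleCat.ofHom (X := ModuleCat.of P[X] P[X])
      (Y := (ModuleCat.restrictScalars.{u} (AdjoinRoot.mk f)).obj
        (ModuleCat.of (AdjoinRoot f) (AdjoinRoot f)))
      { toFun := fun p => (AdjoinRoot.mk f p : AdjoinRoot f)
        map_add' := fun p q => map_add (AdjoinRoot.mk f) p q
        map_smul' := fun q p => map_mul (AdjoinRoot.mk f) q p })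
    (by
      apply ModuleCat.hom_ext
      apply LinearMap.ext
      intro p
      change AdjoinRoot.mk f (f * p) = 0
      rw [AdjoinRoot.mk_eq_zero]
      exact dvd_mul_right f p)

theorem adjSC_shortExact (hf : f.Monic) : (adjSC f).ShortExact := by
  refine ShortComplex.ShortExact.mk' ?_ ?_ ?_
  · rw [ShortComplex.moduleCat_exact_iff]
    intro p hp
    have hp' : AdjoinRoot.mk f (p : P[X]) = 0 := hp
    obtain ⟨q, hq⟩ := AdjoinRoot.mk_eq_zero.mp hp'
    exact ⟨q, hq.symm⟩
  · rw [ModuleCat.mono_iff_injective]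
    intro p q hpq
    exact hf.isRegular.left hpq
  · rw [ModuleCat.epi_iff_surjective]
    intro a
    obtain ⟨p, hp⟩ := AdjoinRoot.mk_surjective a
    exact ⟨p, hp⟩

theorem baseIsPc_adjoinRoot_mk (hf : f.Monic) : BaseIsPc (AdjoinRoot.mk f) := by
  have hT := (adjSC_shortExact f hf).singleTriangle_distinguished
  have h := pc_of_finite_projective (ModuleCat.of P[X] P[X])
  exact (pc_two_of_three _ hT).1 h h

variable {B : Type u} [CommRing B]

/-- Adjoining an integral element: `K|_P` is `m`-pseudo-coherent iff `K|_{P[X]}` is. -/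
theorem mpc_restrict_eval₂_iff (ψ : P →+* B) (b : B) (hb : ψ.IsIntegralElem b) (m : ℤ)
    (K : Dual.D B) :
    DRing.IsPseudoCoherent P m ((DRing.restrictD ψ).obj K) ↔
      DRing.IsPseudoCoherent P[X] m ((DRing.restrictD (Polynomial.eval₂RingHom ψ b)).obj K) := by
  obtain ⟨f, hf, hfb⟩ := hb
  let χ : AdjoinRoot f →+* B := AdjoinRoot.lift ψ b hfb
  have e1 : χ.comp (AdjoinRoot.of f) = ψ := AdjoinRoot.lift_comp_of _
  have e2 : χ.comp (AdjoinRoot.mk f) = Polynomial.eval₂RingHom ψ b := by
    apply RingHom.ext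
    intro p
    exact AdjoinRoot.lift_mk hfb p
  have h1 := mpc_restrict_comp_iff (AdjoinRoot.of f) (baseIsPc_adjoinRoot_of f hf) χ m K
  have h2 := mpc_restrict_comp_iff (AdjoinRoot.mk f) (baseIsPc_adjoinRoot_mk f hf) χ m K
  rw [e1] at h1
  rw [e2] at h2
  exact h1.symm.trans h2

end AdjoinRoot

end Groth.Agent.Helper11.MPC
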