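import Groth.Agent.Lib.Helper11.RelFin2
import Groth.Agent.Lib.Helper11.MPC14

/-!
Relative finite presentation and finite extensions (helper11).
-/

open CategoryTheory Category Limits Pretriangulated DerivedCategory ZeroObject

attribute [local instance] HasDerivedCategory.standard

universe u

namespace Groth.Agent.Helper11.MPC

open Groth.Agent.Helper11.DC Groth.Agent.Helper11.GenRes Groth.Agent.Helper11.TA

section

variable {R A B : Type u} [CommRing R] [CommRing A] [CommRing B]
  [Algebra R A] [Algebra A B] [Algebra R B] [IsScalarTower R A B]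

/-- restriction of scalars of a `B`-module with a compatible `A`-module structure -/
noncomputable def restrictTowerIso (M : Type u) [AddCommGroup M] [Module B M] [Module A M]
    [IsScalarTower A B M] :
    (ModuleCat.restrictScalars.{u} (algebraMap A B)).obj (ModuleCat.of B M) ≅ ModuleCat.of A M :=
  { hom := ModuleCat.ofHom
      (X := (ModuleCat.restrictScalars.{u} (algebraMap A B)).obj (ModuleCat.of B M))
      (Y := ModuleCat.of A M)
      { toFun := fun x => x
        map_add' := fun _ _ => rfl
        map_smul' := fun a (x : M) => algebraMap_smul B a x }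
    inv := ModuleCat.ofHom (X := ModuleCat.of A M)
      (Y := (ModuleCat.restrictScalars.{u} (algebraMap A B)).obj (ModuleCat.of B M))
      { toFun := fun x => x
        map_add' := fun _ _ => rfl
        map_smul' := fun a (x : M) => (algebraMap_smul B a x).symm }
    hom_inv_id := rfl
    inv_hom_id := rfl }

theorem via_restrict_module_iff (M : Type u) [AddCommGroup M] [Module B M] [Module A M]
    [IsScalarTower A B M] {n : ℕ} (α : MvPolynomial (Fin n) R →ₐ[R] A) (m : ℤ) :
    DerCA.IsRelPseudoCoherentVia α m
        ((DRing.restrictD (algebraMap A B)).obj (Dual.inD B M)) ↔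
      DerCA.IsRelPseudoCoherentVia α m (Dual.inD A M) := by
  have e : (DRing.restrictD (algebraMap A B)).obj (Dual.inD B M) ≅ Dual.inD A M :=
    ((ModuleCat.restrictScalars.{u} (algebraMap A B)).mapDerivedCategorySingleFunctor 0).app
      (ModuleCat.of B M) ≪≫
    (singleFunctor (ModuleCat.{u} A) 0).mapIso (restrictTowerIso M)
  have e' := (DRing.restrictD (α : MvPolynomial (Fin n) R →+* A)).mapIso e
  exact ⟨mpc_of_iso e', mpc_of_iso e'.symm⟩

theorem fp_finite_extension_iff [Module.Finite A B] (M : Type u) [AddCommGroup M] [Module B M]
    [Module A M] [IsScalarTower A B M] {n k : ℕ} (α : MvPolynomial (Fin n) R →ₐ[R] A)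
    (hα : Function.Surjective α) (β : MvPolynomial (Fin k) R →ₐ[R] B)
    (hβ : Function.Surjective β) :
    Module.FinitePresentation (MvPolynomial (Fin n) R)
        ((ModuleCat.restrictScalars.{u} (α : MvPolynomial (Fin n) R →+* A)).obj
          (ModuleCat.of A M)) ↔
      Module.FinitePresentation (MvPolynomial (Fin k) R)
        ((ModuleCat.restrictScalars.{u} (β : MvPolynomial (Fin k) R →+* B)).obj
          (ModuleCat.of B M)) := by
  rw [fp_restrict_iff_via, fp_restrict_iff_via]
  obtain ⟨N, β', hβ', h⟩ := exists_presentation_of_finite (B := B) α hα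
  rw [via_iff β hβ β' hβ', ← h]
  exact (via_restrict_module_iff M α (-1)).symm

end

end Groth.Agent.Helper11.MPC
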