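import Groth.Agent.Lib.Helper11.RelFin3
import Mathlib.RingTheory.FinitePresentation
import Mathlib.RingTheory.Polynomial.Basic

/-!
Relative finite presentation is transitive along finitely presented ring maps (helper11).
-/

open CategoryTheory Category Limits Pretriangulated DerivedCategory ZeroObject

attribute [local instance] HasDerivedCategory.standard

universe u

namespace Groth.Agent.Helper11.MPC

open Groth.Agent.Helper11.DC Groth.Agent.Helper11.GenRes Groth.Agent.Helper11.TA

section

variable {Q S : Type u} [CommRing Q] [CommRing S]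

theorem fp_restrict_of_surjective_of_fg_ker (μ : Q →+* S) (hμ : Function.Surjective μ)
    (hk : (RingHom.ker μ).FG) (N : ModuleCat.{u} S) (h : Module.FinitePresentation S N) :
    Module.FinitePresentation Q ((ModuleCat.restrictScalars.{u} μ).obj N) := by
  letI : Algebra Q S := μ.toAlgebra
  letI : Module Q N := Module.compHom N μ
  haveI : IsScalarTower Q S N := ⟨fun a b n => by
    change (μ a * b) • n = μ a • (b • n)
    rw [mul_smul]⟩
  haveI : Module.FinitePresentation Q S := by
    refine Module.finitePresentation_of_surjective (Algebra.linearMap Q S) hμ ?_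
    have : LinearMap.ker (Algebra.linearMap Q S) = RingHom.ker μ := by
      ext x
      rfl
    rw [this]
    exact hk
  exact Module.FinitePresentation.trans Q N S

end

section

variable {R A B : Type u} [CommRing R] [CommRing A] [CommRing B]
  [Algebra R A] [Algebra A B] [Algebra R B] [IsScalarTower R A B]

theorem fp_rel_trans [Algebra.FinitePresentation R A] (M : Type u) [AddCommGroup M] [Module B M]
    {n k : ℕ} (α : MvPolynomial (Fin n) A →ₐ[A] B) (hα : Function.Surjective α)
    (β : MvPolynomial (Fin k) R →ₐ[R] B) (hβ : Function.Surjective β)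
    (hM : Module.FinitePresentation (MvPolynomial (Fin n) A)
      ((ModuleCat.restrictScalars.{u} (α : MvPolynomial (Fin n) A →+* B)).obj
        (ModuleCat.of B M))) :
    Module.FinitePresentation (MvPolynomial (Fin k) R)
      ((ModuleCat.restrictScalars.{u} (β : MvPolynomial (Fin k) R →+* B)).obj
        (ModuleCat.of B M)) := by
  obtain ⟨l, f, hf, hker⟩ := Algebra.FinitePresentation.out (R := R) (A := A)
  let μ : MvPolynomial (Fin n) (MvPolynomial (Fin l) R) →+* MvPolynomial (Fin n) A :=
    MvPolynomial.map (f : MvPolynomial (Fin l) R →+* A)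
  have hμ : Function.Surjective μ := MvPolynomial.map_surjective _ hf
  have hkerμ : (RingHom.ker μ).FG := by
    rw [MvPolynomial.ker_map]
    exact hker.map _
  have h1 := fp_restrict_of_surjective_of_fg_ker μ hμ hkerμ _ hM
  let α' : MvPolynomial (Fin n) (MvPolynomial (Fin l) R) →+* B :=
    (α : MvPolynomial (Fin n) A →+* B).comp μ
  have h2 : Module.FinitePresentation (MvPolynomial (Fin n) (MvPolynomial (Fin l) R))
      ((ModuleCat.restrictScalars.{u} α').obj (ModuleCat.of B M)) := h1
  have h3 : DRing.IsPseudoCoherent (MvPolynomial (Fin n) (MvPolynomial (Fin l) R)) (-1)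
      ((DRing.restrictD α').obj (Dual.inD B M)) := by
    rw [mpc_restrict_single_iff]
    exact @pcNeg1_of_fp _ _ ((ModuleCat.restrictScalars.{u} α').obj (ModuleCat.of B M)) _ _ h2
  let e : MvPolynomial (Fin (n + l)) R ≃ₐ[R] MvPolynomial (Fin n) (MvPolynomial (Fin l) R) :=
    (MvPolynomial.renameEquiv R finSumFinEquiv.symm).trans
      (MvPolynomial.sumAlgEquiv R (Fin n) (Fin l))
  let δ : MvPolynomial (Fin (n + l)) R →ₐ[R] B :=
    { α'.comp (e : MvPolynomial (Fin (n + l)) R →+* _) with
      commutes' := fun r => by
        show α (μ (e (algebraMap R _ r))) = algebraMap R B r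
        rw [e.commutes]
        have h : algebraMap R (MvPolynomial (Fin n) (MvPolynomial (Fin l) R)) r =
            MvPolynomial.C (MvPolynomial.C r) := rfl
        rw [h]
        show α (MvPolynomial.map (f : MvPolynomial (Fin l) R →+* A)
          (MvPolynomial.C (MvPolynomial.C r))) = _
        rw [MvPolynomial.map_C]
        have h' : (f : MvPolynomial (Fin l) R →+* A) (MvPolynomial.C r) = algebraMap R A r :=
          f.commutes r
        rw [h']
        have h'' : (MvPolynomial.C (algebraMap R A r) : MvPolynomial (Fin n) A) =
            algebraMap A (MvPolynomial (Fin n) A) (algebraMap R A r) := rfl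
        rw [h'', α.commutes, ← IsScalarTower.algebraMap_apply] }
  have hδ : Function.Surjective δ := by
    intro b
    obtain ⟨p, rfl⟩ := hα b
    obtain ⟨q, rfl⟩ := hμ p
    obtain ⟨q', rfl⟩ := e.surjective q
    exact ⟨q', rfl⟩
  have h4 : DerCA.IsRelPseudoCoherentVia δ (-1) (Dual.inD B M) :=
    (mpc_restrict_comp_iff (e : MvPolynomial (Fin (n + l)) R →+* _)
      (baseIsPc_of_bijective _ e.bijective) α' (-1) (Dual.inD B M)).1 h3
  rw [fp_restrict_iff_via]
  exact (via_iff δ hδ β hβ _ (-1)).1 h4

end

end Groth.Agent.Helper11.MPC
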