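import Groth.Agent.Lib.Helper11.RelFin2
import Mathlib.RingTheory.Localization.Away.AdjoinRoot
import Mathlib.RingTheory.PowerSeries.Inverse

/-!
Adjoining the inverse of an element does not change `m`-pseudo-coherence of restrictions
(helper11).
-/

open CategoryTheory Category Limits Pretriangulated DerivedCategory ZeroObject

attribute [local instance] HasDerivedCategory.standard

universe u

namespace Groth.Agent.Helper11.MPC

open Groth.Agent.Helper11.DC Groth.Agent.Helper11.GenRes Groth.Agent.Helper11.TA

section

open Polynomial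

variable {P : Type u} [CommRing P]

/-- `a X - 1` is a regular element of `P[X]` -/
theorem isRegular_C_mul_X_sub_one (a : P) : IsRegular (C a * X - 1 : P[X]) := by
  have hu : IsUnit ((C a * X - 1 : P[X]) : PowerSeries P) := by
    rw [PowerSeries.isUnit_iff_constantCoeff]
    have : PowerSeries.constantCoeff ((C a * X - 1 : P[X]) : PowerSeries P) = -1 := by
      rw [← PowerSeries.coeff_zero_eq_constantCoeff_apply, Polynomial.coeff_coe]
      simp
    rw [this]
    exact isUnit_one.neg
  refine (Commute.isRegular_iff (fun b => Commute.all _ b)).mpr ?_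
  intro p q hpq
  have hpq' : (C a * X - 1 : P[X]) * p = (C a * X - 1 : P[X]) * q := hpq
  have h1 : ((C a * X - 1 : P[X]) : PowerSeries P) * (p : PowerSeries P) =
      ((C a * X - 1 : P[X]) : PowerSeries P) * (q : PowerSeries P) := by
    rw [← Polynomial.coe_mul, ← Polynomial.coe_mul, hpq']
  exact Polynomial.coe_injective P (hu.mul_left_cancel h1)

theorem adjSC_shortExact_of_regular (f : P[X]) (hf : IsRegular f) : (adjSC f).ShortExact := by
  refine ShortComplex.ShortExact.mk' ?_ ?_ ?_
  · rw [ShortComplex.moduleCat_exact_iff]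
    intro p hp
    have hp' : AdjoinRoot.mk f (p : P[X]) = 0 := hp
    obtain ⟨q, hq⟩ := AdjoinRoot.mk_eq_zero.mp hp'
    exact ⟨q, hq.symm⟩
  · rw [ModuleCat.mono_iff_injective]
    intro p q hpq
    exact hf.left hpq
  · rw [ModuleCat.epi_iff_surjective]
    intro a
    obtain ⟨p, hp⟩ := AdjoinRoot.mk_surjective a
    exact ⟨p, hp⟩

theorem baseIsPc_adjoinRoot_mk_of_regular (f : P[X]) (hf : IsRegular f) :
    BaseIsPc (AdjoinRoot.mk f) := by
  have hT := (adjSC_shortExact_of_regular f hf).singleTriangle_distinguished
  have h := pc_of_finite_projective (ModuleCat.of P[X] P[X])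
  exact (pc_two_of_three _ hT).1 h h

variable {B : Type u} [CommRing B]

/-- Adjoining an inverse: `K|_{P_f}` is `m`-pseudo-coherent iff `K|_{P[X]}` is. -/
theorem mpc_restrict_eval₂_away_iff (f : P) (S : Type u) [CommRing S] [Algebra P S]
    [IsLocalization.Away f S] (χ : S →+* B) (b : B) (hb : χ (algebraMap P S f) * b = 1)
    (m : ℤ) (K : Dual.D B) :
    DRing.IsPseudoCoherent S m ((DRing.restrictD χ).obj K) ↔
      DRing.IsPseudoCoherent P[X] m
        ((DRing.restrictD (Polynomial.eval₂RingHom (χ.comp (algebraMap P S)) b)).obj K) := by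
  haveI := IsLocalization.adjoin_inv f
  let g : P[X] := C f * X - 1
  let e : AdjoinRoot g ≃ₐ[P] S := IsLocalization.algEquiv (Submonoid.powers f) _ _
  let ev : P[X] →+* S := (e : AdjoinRoot g →+* S).comp (AdjoinRoot.mk g)
  have hev : BaseIsPc ev :=
    baseIsPc_comp (baseIsPc_adjoinRoot_mk_of_regular g (isRegular_C_mul_X_sub_one f))
      (baseIsPc_of_bijective _ e.bijective)
  have hroot : AdjoinRoot.root g * AdjoinRoot.of g f = 1 := by
    have h0 : AdjoinRoot.mk g g = 0 := AdjoinRoot.mk_self
    have h1 : AdjoinRoot.mk g g = AdjoinRoot.of g f * AdjoinRoot.root g - 1 := by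
      simp [g]
    rw [h0] at h1
    rw [mul_comm]
    exact (sub_eq_zero.mp h1.symm)
  have hcomp : Polynomial.eval₂RingHom (χ.comp (algebraMap P S)) b = χ.comp ev := by
    apply Polynomial.ringHom_ext
    · intro p
      simp only [Polynomial.coe_eval₂RingHom, Polynomial.eval₂_C, RingHom.comp_apply, ev]
      congr 1
      rw [AdjoinRoot.mk_C]
      exact (e.commutes p).symm
    · simp only [Polynomial.coe_eval₂RingHom, Polynomial.eval₂_X, RingHom.comp_apply, ev]
      rw [AdjoinRoot.mk_X]
      have h2 : e (AdjoinRoot.root g) * algebraMap P S f = 1 := by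
        have := congrArg e hroot
        rw [map_mul, map_one] at this
        rw [← this]
        congr 1
        exact (e.commutes f).symm
      have h3 : χ (e (AdjoinRoot.root g)) * χ (algebraMap P S f) = 1 := by
        rw [← map_mul, h2, map_one]
      calc b = (χ (e (AdjoinRoot.root g)) * χ (algebraMap P S f)) * b := by rw [h3, one_mul]
        _ = χ (e (AdjoinRoot.root g)) * (χ (algebraMap P S f) * b) := by ring
        _ = χ (e (AdjoinRoot.root g)) := by rw [hb, mul_one]
  rw [hcomp]
  exact mpc_restrict_comp_iff ev hev χ m K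

end

end Groth.Agent.Helper11.MPC
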