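import Groth.Agent.Lib.Helper11.RelLoc2
import Groth.Agent.Lib.Helper11.RelFin5
import Mathlib.RingTheory.Localization.BaseChange

/-!
Base change along a localization commutes with restriction of scalars (helper11).
-/

open CategoryTheory Category Limits Pretriangulated DerivedCategory ZeroObject

attribute [local instance] HasDerivedCategory.standard

universe u

namespace Groth.Agent.Helper11.MPC

open Groth.Agent.Helper11.DC Groth.Agent.Helper11.GenRes Groth.Agent.Helper11.TA

section BC

open TensorProduct ChangeOfRings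

variable {P A S T : Type u} [CommRing P] [CommRing A] [CommRing S] [CommRing T]
  (α : P →+* A) (ιP : P →+* S) (ιA : A →+* T) (αf : S →+* T)

theorem one_tmul_smul (M : ModuleCat.{u} A) (a : A) (m : M) :
    ((1 : T) ⊗ₜ[A,ιA] (a • m)) = ((ιA a) ⊗ₜ[A,ιA] m) := by
  have h1 : ((ιA a) ⊗ₜ[A,ιA] m) =
      ((a • (show (ModuleCat.restrictScalars.{u} ιA).obj (ModuleCat.of T T) from (1 : T)))
        ⊗ₜ[A] m) := by
    congr 1
    show ιA a = ιA a * 1
    rw [mul_one]
  rw [h1, TensorProduct.smul_tmul]
  rfl

set_option backward.isDefEq.respectTransparency false in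
/-- `m ↦ 1 ⊗ m` -/
noncomputable def bcUnit (hcomm : αf.comp ιP = ιA.comp α) (M : ModuleCat.{u} A) :
    (ModuleCat.restrictScalars.{u} α).obj M ⟶
      (ModuleCat.restrictScalars.{u} ιP).obj ((ModuleCat.restrictScalars.{u} αf).obj
        ((ModuleCat.extendScalars.{u,u,u} ιA).obj M)) :=
  ModuleCat.ofHom
    (X := (ModuleCat.restrictScalars.{u} α).obj M)
    (Y := (ModuleCat.restrictScalars.{u} ιP).obj ((ModuleCat.restrictScalars.{u} αf).obj
        ((ModuleCat.extendScalars.{u,u,u} ιA).obj M)))
    { toFun := fun (m : M) => ((1 : T) ⊗ₜ[A,ιA] m)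
      map_add' := fun (m m' : M) => TensorProduct.tmul_add _ m m'
      map_smul' := fun p (m : M) => by
        show ((1 : T) ⊗ₜ[A,ιA] (α p • m)) =
          (αf (ιP p)) • (((1 : T) ⊗ₜ[A,ιA] m) : (ModuleCat.extendScalars.{u,u,u} ιA).obj M)
        rw [ModuleCat.ExtendScalars.smul_tmul, mul_one, one_tmul_smul]
        have : αf (ιP p) = ιA (α p) := RingHom.congr_fun hcomm p
        rw [this] }

/-- the base change comparison `S ⊗_P M → T ⊗_A M` -/
noncomputable def bcHom (hcomm : αf.comp ιP = ιA.comp α) (M : ModuleCat.{u} A) :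
    (ModuleCat.extendScalars.{u,u,u} ιP).obj ((ModuleCat.restrictScalars.{u} α).obj M) ⟶
      (ModuleCat.restrictScalars.{u} αf).obj ((ModuleCat.extendScalars.{u,u,u} ιA).obj M) :=
  ModuleCat.ExtendRestrictScalarsAdj.HomEquiv.fromExtendScalars _ (bcUnit α ιP ιA αf hcomm M)

set_option backward.isDefEq.respectTransparency false in
theorem bcHom_tmul (hcomm : αf.comp ιP = ιA.comp α) (M : ModuleCat.{u} A) (s : S) (m : M) :
    (bcHom α ιP ιA αf hcomm M).hom
        (s ⊗ₜ[P,ιP] (show (ModuleCat.restrictScalars.{u} α).obj M from m)) =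
      ((αf s) ⊗ₜ[A,ιA] m) := by
  show (αf s) • (((1 : T) ⊗ₜ[A,ιA] m) : (ModuleCat.extendScalars.{u,u,u} ιA).obj M) = _
  rw [ModuleCat.ExtendScalars.smul_tmul, mul_one]

set_option backward.isDefEq.respectTransparency false in
theorem bcHom_bijective (hcomm : αf.comp ιP = ιA.comp α) (f : P)
    (hS : letI := ιP.toAlgebra; IsLocalization.Away f S)
    (hT : letI := ιA.toAlgebra; IsLocalization.Away (α f) T) (M : ModuleCat.{u} A) :
    Function.Bijective (bcHom α ιP ιA αf hcomm M).hom := by
  letI : Algebra P A := α.toAlgebra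
  letI : Algebra P S := ιP.toAlgebra
  letI : Algebra A T := ιA.toAlgebra
  letI : Algebra S T := αf.toAlgebra
  letI : Algebra P T := (ιA.comp α).toAlgebra
  haveI : IsScalarTower P A T := IsScalarTower.of_algebraMap_eq (fun x => rfl)
  haveI : IsScalarTower P S T :=
    IsScalarTower.of_algebraMap_eq (fun x => (RingHom.congr_fun hcomm x).symm)
  letI : Module P M := Module.compHom M α
  haveI : IsScalarTower P A M := ⟨fun p a m => by
    show (α p * a) • m = α p • (a • m)
    rw [mul_smul]⟩
  letI : Module S (TensorProduct A T M) := Module.compHom (TensorProduct A T M) αf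
  letI : Module P (TensorProduct A T M) := Module.compHom (TensorProduct A T M) (ιA.comp α)
  haveI hAT : IsScalarTower A T (TensorProduct A T M) := inferInstance
  haveI : IsScalarTower P A (TensorProduct A T M) := ⟨fun p a n => by
    show (α p * a) • n = (ιA (α p)) • (a • n)
    rw [← IsScalarTower.algebraMap_smul T (α p * a) n, ← IsScalarTower.algebraMap_smul T a n,
      ← mul_smul]
    congr 1
    exact map_mul ιA _ _⟩
  haveI : IsScalarTower P S (TensorProduct A T M) := ⟨fun p s n => by
    show (αf (ιP p * s)) • n = (ιA (α p)) • ((αf s) • n)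
    rw [← mul_smul, map_mul]
    congr 2
    exact RingHom.congr_fun hcomm p⟩
  let j : M →ₗ[A] TensorProduct A T M := TensorProduct.mk A T M 1
  haveI : IsLocalization (Submonoid.powers (α f)) T := hT
  haveI : IsLocalizedModule (Submonoid.powers (algebraMap P A f)) j := by
    show IsLocalizedModule (Submonoid.powers (α f)) (TensorProduct.mk A T M 1)
    infer_instance
  haveI := IsLocalizedModule.restrictScalars_powers (R := P) f j
  haveI : IsLocalization (Submonoid.powers f) S := hS
  have hbc : IsBaseChange S (j.restrictScalars P) :=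
    IsLocalizedModule.isBaseChange (Submonoid.powers f) S _
  have key : ∀ x : TensorProduct P S M, (bcHom α ιP ιA αf hcomm M).hom x = hbc.equiv x := by
    intro x
    induction x using TensorProduct.induction_on with
    | zero => rw [map_zero, map_zero]
    | tmul s m =>
      rw [hbc.equiv_tmul]
      refine (bcHom_tmul α ιP ιA αf hcomm M s m).trans ?_
      show (αf s) ⊗ₜ[A] m = (αf s) • ((1 : T) ⊗ₜ[A] m)
      rw [TensorProduct.smul_tmul', smul_eq_mul, mul_one]
    | add x y hx hy => rw [map_add, map_add, hx, hy]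
  have hfun : ⇑(bcHom α ιP ιA αf hcomm M).hom = ⇑hbc.equiv := funext key
  rw [hfun]
  exact hbc.equiv.bijective

theorem bcHom_isIso (hcomm : αf.comp ιP = ιA.comp α) (f : P)
    (hS : letI := ιP.toAlgebra; IsLocalization.Away f S)
    (hT : letI := ιA.toAlgebra; IsLocalization.Away (α f) T) (M : ModuleCat.{u} A) :
    IsIso (bcHom α ιP ιA αf hcomm M) :=
  (ConcreteCategory.isIso_iff_bijective _).mpr (bcHom_bijective α ιP ιA αf hcomm f hS hT M)

set_option backward.isDefEq.respectTransparency false in
theorem bcHom_naturality (hcomm : αf.comp ιP = ιA.comp α) {M N : ModuleCat.{u} A} (g : M ⟶ N) :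
    (ModuleCat.extendScalars.{u,u,u} ιP).map ((ModuleCat.restrictScalars.{u} α).map g) ≫
        bcHom α ιP ιA αf hcomm N =
      bcHom α ιP ιA αf hcomm M ≫
        (ModuleCat.restrictScalars.{u} αf).map ((ModuleCat.extendScalars.{u,u,u} ιA).map g) := by
  apply ModuleCat.ExtendScalars.hom_ext
  intro m
  have h1 := bcHom_tmul α ιP ιA αf hcomm N 1 (g.hom m)
  have h2 := bcHom_tmul α ιP ιA αf hcomm M 1 m
  rw [CategoryTheory.comp_apply, CategoryTheory.comp_apply]
  refine Eq.trans (b := ((αf 1) ⊗ₜ[A,ιA] (g.hom m))) h1 ?_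
  refine Eq.trans ?_ (congrArg (fun z => ((ModuleCat.restrictScalars.{u} αf).map
    ((ModuleCat.extendScalars.{u,u,u} ιA).map g)).hom z) h2.symm)
  rfl

/-- the comparison on complexes -/
noncomputable def bcCxIso (hcomm : αf.comp ιP = ιA.comp α) (f : P)
    (hS : letI := ιP.toAlgebra; IsLocalization.Away f S)
    (hT : letI := ιA.toAlgebra; IsLocalization.Away (α f) T) (K : DRing.Cx A) :
    (esC ιP).obj (((ModuleCat.restrictScalars.{u} α).mapHomologicalComplex
        (ComplexShape.up ℤ)).obj K) ≅
      ((ModuleCat.restrictScalars.{u} αf).mapHomologicalComplex (ComplexShape.up ℤ)).obj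
        ((esC ιA).obj K) :=
  HomologicalComplex.Hom.isoOfComponents
    (fun i => @asIso _ _ _ _ (bcHom α ιP ιA αf hcomm (K.X i))
      (bcHom_isIso α ιP ιA αf hcomm f hS hT (K.X i)))
    (fun i j _ => (bcHom_naturality α ιP ιA αf hcomm (K.d i j)).symm)

/-- `m`-pseudo-coherence of the two sides of the base change comparison -/
theorem mpc_bc_iff (hcomm : αf.comp ιP = ιA.comp α) (f : P)
    (hS : letI := ιP.toAlgebra; IsLocalization.Away f S)
    (hT : letI := ιA.toAlgebra; IsLocalization.Away (α f) T) (K : DRing.Cx A) (m : ℤ) :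
    DRing.IsPseudoCoherent S m ((DRing.restrictD αf).obj (Q.obj ((esC ιA).obj K))) ↔
      DRing.IsPseudoCoherent S m (Q.obj ((esC ιP).obj
        (((ModuleCat.restrictScalars.{u} α).mapHomologicalComplex
          (ComplexShape.up ℤ)).obj K))) := by
  have e : (DRing.restrictD αf).obj (Q.obj ((esC ιA).obj K)) ≅
      Q.obj ((esC ιP).obj (((ModuleCat.restrictScalars.{u} α).mapHomologicalComplex
          (ComplexShape.up ℤ)).obj K)) :=
    (ModuleCat.restrictScalars.{u} αf).mapDerivedCategoryFactors.app ((esC ιA).obj K) ≪≫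
      Q.mapIso (bcCxIso α ιP ιA αf hcomm f hS hT K).symm
  exact ⟨mpc_of_iso e, mpc_of_iso e.symm⟩

theorem mpc_restrict_Q_iff (K : DRing.Cx A) (m : ℤ) :
    DRing.IsPseudoCoherent P m ((DRing.restrictD α).obj (Q.obj K)) ↔
      DRing.IsPseudoCoherent P m (Q.obj
        (((ModuleCat.restrictScalars.{u} α).mapHomologicalComplex (ComplexShape.up ℤ)).obj K)) := by
  have e := (ModuleCat.restrictScalars.{u} α).mapDerivedCategoryFactors.app K
  exact ⟨mpc_of_iso e, mpc_of_iso e.symm⟩

end BC

end Groth.Agent.Helper11.MPC
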