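import Groth.Agent.Lib.Helper11.RelLoc1
import Groth.Agent.Lib.Helper11.RelLoc3

/-!
Relative pseudo-coherence and principal localizations: one open (helper11).
-/

open CategoryTheory Category Limits Pretriangulated DerivedCategory ZeroObject

attribute [local instance] HasDerivedCategory.standard

universe u

namespace Groth.Agent.Helper11.MPC

open Groth.Agent.Helper11.DC Groth.Agent.Helper11.GenRes Groth.Agent.Helper11.TA

theorem isLocalization_toAlgebra {P S : Type u} [CommRing P] [CommRing S] [Algebra P S] (f : P)
    [IsLocalization.Away f S] :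
    letI := (algebraMap P S).toAlgebra; IsLocalization.Away f S := by
  have h : (algebraMap P S).toAlgebra = (inferInstance : Algebra P S) :=
    Algebra.algebra_ext _ _ (fun r => rfl)
  show @IsLocalization P _ (Submonoid.powers f) S _ (algebraMap P S).toAlgebra
  rw [h]
  infer_instance

theorem flat_algebraMap_away {P : Type u} [CommRing P] (f : P) :
    (algebraMap P (Localization.Away f)).Flat :=
  (RingHom.flat_algebraMap_iff).mpr inferInstance

section One

variable {R A : Type u} [CommRing R] [CommRing A] [Algebra R A] {n : ℕ}
  (α : MvPolynomial (Fin n) R →ₐ[R] A) (ft : MvPolynomial (Fin n) R)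

/-- the presentation of `A_f` obtained by adjoining the inverse of `f` -/
noncomputable def awayPres :
    MvPolynomial (Fin (n + 1)) R →ₐ[R]
      Localization.Away ((α : MvPolynomial (Fin n) R →+* A) ft) :=
  extendOne ((IsScalarTower.toAlgHom R A
      (Localization.Away ((α : MvPolynomial (Fin n) R →+* A) ft))).comp α)
    (IsLocalization.Away.invSelf ((α : MvPolynomial (Fin n) R →+* A) ft))

theorem awayPres_surjective (hα : Function.Surjective α) :
    Function.Surjective (awayPres α ft) := by
  intro z
  obtain ⟨k, a, hz⟩ := IsLocalization.Away.surj ((α : MvPolynomial (Fin n) R →+* A) ft) z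
  obtain ⟨p, rfl⟩ := hα a
  refine ⟨MvPolynomial.rename Fin.succ p * MvPolynomial.X 0 ^ k, ?_⟩
  unfold awayPres
  rw [map_mul, map_pow, extendOne_rename, extendOne_X_zero]
  set b := IsLocalization.Away.invSelf (S := Localization.Away
    ((α : MvPolynomial (Fin n) R →+* A) ft)) ((α : MvPolynomial (Fin n) R →+* A) ft) with hb
  have h1 : algebraMap A (Localization.Away ((α : MvPolynomial (Fin n) R →+* A) ft))
      ((α : MvPolynomial (Fin n) R →+* A) ft) * b = 1 := IsLocalization.Away.mul_invSelf _
  show algebraMap A _ (α p) * b ^ k = z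
  rw [← hz, mul_assoc, ← mul_pow, h1, one_pow, mul_one]

theorem mpc_awayPres_iff (L : Dual.D (Localization.Away ((α : MvPolynomial (Fin n) R →+* A) ft)))
    (m : ℤ) :
    DerCA.IsRelPseudoCoherentVia (awayPres α ft) m L ↔
      DRing.IsPseudoCoherent (Localization.Away ft) m
        ((DRing.restrictD (Localization.awayMap (α : MvPolynomial (Fin n) R →+* A) ft)).obj L) := by
  unfold DerCA.IsRelPseudoCoherentVia awayPres
  rw [extendOne_eq]
  set γ := (IsScalarTower.toAlgHom R A
      (Localization.Away ((α : MvPolynomial (Fin n) R →+* A) ft))).comp α with hγ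
  set b := IsLocalization.Away.invSelf (S := Localization.Away
    ((α : MvPolynomial (Fin n) R →+* A) ft)) ((α : MvPolynomial (Fin n) R →+* A) ft) with hb
  have hcomm : (Localization.awayMap (α : MvPolynomial (Fin n) R →+* A) ft).comp
      (algebraMap (MvPolynomial (Fin n) R) (Localization.Away ft)) =
      (algebraMap A _).comp (α : MvPolynomial (Fin n) R →+* A) := IsLocalization.map_comp _
  have hγ' : (γ : MvPolynomial (Fin n) R →+* _) =
      (Localization.awayMap (α : MvPolynomial (Fin n) R →+* A) ft).comp
        (algebraMap (MvPolynomial (Fin n) R) (Localization.Away ft)) := by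
    rw [hcomm]
    rfl
  have hb1 : (Localization.awayMap (α : MvPolynomial (Fin n) R →+* A) ft)
      (algebraMap (MvPolynomial (Fin n) R) (Localization.Away ft) ft) * b = 1 := by
    have := RingHom.congr_fun hcomm ft
    simp only [RingHom.comp_apply] at this
    rw [this]
    exact IsLocalization.Away.mul_invSelf _
  have h1 := mpc_restrict_eval₂_away_iff ft (Localization.Away ft)
    (Localization.awayMap (α : MvPolynomial (Fin n) R →+* A) ft) b hb1 m L
  rw [← hγ'] at h1
  have h2 := mpc_restrict_comp_iff
    ((MvPolynomial.finSuccEquiv R n : MvPolynomial (Fin (n + 1)) R ≃ₐ[R] _) :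
      MvPolynomial (Fin (n + 1)) R →+* _)
    (baseIsPc_of_bijective _ (MvPolynomial.finSuccEquiv R n).bijective)
    (Polynomial.eval₂RingHom (γ : MvPolynomial (Fin n) R →+* _) b) m L
  exact (h1.trans h2).symm

end One

end Groth.Agent.Helper11.MPC
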