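import Groth.Agent.Lib.Helper11.RelLoc4

/-!
Relative pseudo-coherence and principal localizations: both directions and gluing (helper11).
-/

open CategoryTheory Category Limits Pretriangulated DerivedCategory ZeroObject

attribute [local instance] HasDerivedCategory.standard

universe u

namespace Groth.Agent.Helper11.MPC

open Groth.Agent.Helper11.DC Groth.Agent.Helper11.GenRes Groth.Agent.Helper11.TA

section Zero

open TensorProduct ChangeOfRings

set_option backward.isDefEq.respectTransparency false in
theorem isZero_es_of_kills {P : Type u} [CommRing P] (κ : P) (N : ModuleCat.{u} P)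
    (hN : ∀ x : N, κ • x = 0) :
    IsZero ((es (algebraMap P (Localization.Away κ))).obj N) := by
  haveI : Subsingleton ((es (algebraMap P (Localization.Away κ))).obj N) := by
    refine ⟨fun x y => ?_⟩
    have h0 : ∀ z : (es (algebraMap P (Localization.Away κ))).obj N, z = 0 := by
      intro z
      induction z using TensorProduct.induction_on with
      | zero => rfl
      | tmul s x =>
        let s' : Localization.Away κ := s
        set u := IsLocalization.Away.invSelf (S := Localization.Away κ) κ with hu
        have h1 : algebraMap P (Localization.Away κ) κ * u = 1 :=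
          IsLocalization.Away.mul_invSelf κ
        have h2 : s' = algebraMap P (Localization.Away κ) κ * (s' * u) := by
          rw [mul_comm s' u, ← mul_assoc, h1, one_mul]
        have h3 : (s ⊗ₜ[P] x) =
            ((κ • (show (ModuleCat.restrictScalars.{u} (algebraMap P (Localization.Away κ))).obj
              (ModuleCat.of _ (Localization.Away κ)) from (s' * u))) ⊗ₜ[P] x) := by
          congr 1
        rw [h3, TensorProduct.smul_tmul, hN, TensorProduct.tmul_zero]
      | add a b ha hb => rw [ha, hb, add_zero]
    rw [h0 x, h0 y]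
  exact ModuleCat.isZero_of_subsingleton _

theorem smul_restrict_eq_zero {P A : Type u} [CommRing P] [CommRing A] (α : P →+* A) (κ : P)
    (h : α κ = 0) (M : ModuleCat.{u} A) (x : (ModuleCat.restrictScalars.{u} α).obj M) :
    κ • x = 0 := by
  show α κ • (show M from x) = 0
  rw [h, zero_smul]

end Zero

section Dir

variable {R A : Type u} [CommRing R] [CommRing A] [Algebra R A] {n : ℕ}
  (α : MvPolynomial (Fin n) R →ₐ[R] A) (ft : MvPolynomial (Fin n) R)

theorem via_iff_mpc_away (K : DRing.Cx A) (m : ℤ) :
    DerCA.IsRelPseudoCoherentVia (awayPres α ft) m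
        (Q.obj ((esC (algebraMap A (Localization.Away
          ((α : MvPolynomial (Fin n) R →+* A) ft)))).obj K)) ↔
      DRing.IsPseudoCoherent (Localization.Away ft) m
        (Q.obj ((esC (algebraMap (MvPolynomial (Fin n) R) (Localization.Away ft))).obj
          (((ModuleCat.restrictScalars.{u} (α : MvPolynomial (Fin n) R →+* A)).mapHomologicalComplex
            (ComplexShape.up ℤ)).obj K))) :=
  (mpc_awayPres_iff α ft _ m).trans
    (mpc_bc_iff (α : MvPolynomial (Fin n) R →+* A)
      (algebraMap (MvPolynomial (Fin n) R) (Localization.Away ft))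
      (algebraMap A (Localization.Away ((α : MvPolynomial (Fin n) R →+* A) ft)))
      (Localization.awayMap (α : MvPolynomial (Fin n) R →+* A) ft)
      (IsLocalization.map_comp _) ft (isLocalization_toAlgebra ft)
      (isLocalization_toAlgebra ((α : MvPolynomial (Fin n) R →+* A) ft)) K m)

theorem rel_away_of_via (hα : Function.Surjective α) (K : DRing.Cx A) (m : ℤ)
    (h : DerCA.IsRelPseudoCoherentVia α m (Q.obj K)) :
    DerCA.IsRelPseudoCoherent R (Localization.Away ((α : MvPolynomial (Fin n) R →+* A) ft)) m
      (Q.obj ((esC (algebraMap A (Localization.Away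
        ((α : MvPolynomial (Fin n) R →+* A) ft)))).obj K)) :=
  ⟨n + 1, awayPres α ft, awayPres_surjective α ft hα,
    (via_iff_mpc_away α ft K m).mpr
      (mpc_esC _ (flat_algebraMap_away ft) m _
        ((mpc_restrict_Q_iff (α : MvPolynomial (Fin n) R →+* A) K m).mp h))⟩

theorem mpc_away_of_rel (hα : Function.Surjective α) (K : DRing.Cx A) (m : ℤ)
    (h : DerCA.IsRelPseudoCoherent R (Localization.Away ((α : MvPolynomial (Fin n) R →+* A) ft)) m
      (Q.obj ((esC (algebraMap A (Localization.Away
        ((α : MvPolynomial (Fin n) R →+* A) ft)))).obj K))) :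
    DRing.IsPseudoCoherent (Localization.Away ft) m
      (Q.obj ((esC (algebraMap (MvPolynomial (Fin n) R) (Localization.Away ft))).obj
        (((ModuleCat.restrictScalars.{u} (α : MvPolynomial (Fin n) R →+* A)).mapHomologicalComplex
          (ComplexShape.up ℤ)).obj K))) :=
  (via_iff_mpc_away α ft K m).mp
    ((rel_iff_via (awayPres α ft) (awayPres_surjective α ft hα) m _).mp h)

end Dir

section Glue

variable {R A : Type u} [CommRing R] [CommRing A] [Algebra R A] {n : ℕ}
  (α : MvPolynomial (Fin n) R →ₐ[R] A)

theorem via_of_cover (hα : Function.Surjective α) (K : DRing.Cx A) (m : ℤ) {r : ℕ}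
    (ft : Fin r → MvPolynomial (Fin n) R)
    (hspan : Ideal.span (Set.range (fun i => α (ft i))) = ⊤)
    (h : ∀ i, DRing.IsPseudoCoherent (Localization.Away (ft i)) m
      (Q.obj ((esC (algebraMap (MvPolynomial (Fin n) R) (Localization.Away (ft i)))).obj
        (((ModuleCat.restrictScalars.{u} (α : MvPolynomial (Fin n) R →+* A)).mapHomologicalComplex
          (ComplexShape.up ℤ)).obj K)))) :
    DerCA.IsRelPseudoCoherentVia α m (Q.obj K) := by
  have h1 : (1 : A) ∈ Ideal.span (Set.range (fun i => α (ft i))) := by
    rw [hspan]; trivial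
  obtain ⟨c, hc⟩ := (Ideal.mem_span_range_iff_exists_fun).mp h1
  choose p hp using fun i => hα (c i)
  set κ : MvPolynomial (Fin n) R := 1 - ∑ i, p i * ft i with hκ
  have hακ : α κ = 0 := by
    rw [hκ, map_sub, map_one, map_sum, ← hc, sub_eq_zero]
    refine Finset.sum_congr rfl (fun i _ => ?_)
    rw [map_mul, hp]
  let g : Fin (r + 1) → MvPolynomial (Fin n) R := Fin.cons κ ft
  have hg : Ideal.span (Set.range g) = ⊤ := by
    rw [Ideal.eq_top_iff_one]
    have h2 : (1 : MvPolynomial (Fin n) R) = κ + ∑ i, p i * ft i := by rw [hκ]; ring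
    rw [h2]
    refine Ideal.add_mem _ (Ideal.subset_span ⟨0, rfl⟩) (Ideal.sum_mem _ (fun i _ => ?_))
    exact Ideal.mul_mem_left _ _ (Ideal.subset_span ⟨i.succ, rfl⟩)
  unfold DerCA.IsRelPseudoCoherentVia
  rw [mpc_restrict_Q_iff]
  refine mpc_descent_away g hg m _ (Fin.cases ?_ (fun i => ?_))
  · show DRing.IsPseudoCoherent (Localization.Away κ) m _
    refine mpc_of_isZero_homology _ (fun i _ => isZero_homology_of_isZero_X _ i ?_)
    exact isZero_es_of_kills κ _ (fun x => smul_restrict_eq_zero
      (α : MvPolynomial (Fin n) R →+* A) κ hακ (K.X i) x)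
  · exact h i

end Glue

end Groth.Agent.Helper11.MPC
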