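import Groth.Agent.Lib.Helper11.RelLoc5

/-!
Relative pseudo-coherence passes to principal localizations; `R_f` is pseudo-coherent
relative to `R` (helper11).
-/

open CategoryTheory Category Limits Pretriangulated DerivedCategory ZeroObject

attribute [local instance] HasDerivedCategory.standard

universe u

namespace Groth.Agent.Helper11.MPC

open Groth.Agent.Helper11.DC Groth.Agent.Helper11.GenRes Groth.Agent.Helper11.TA

section

variable {R A : Type u} [CommRing R] [CommRing A] [Algebra R A]

/-- relative `m`-pseudo-coherence passes to a principal localization -/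
theorem rel_away (g : A) (K : DRing.Cx A) (m : ℤ)
    (h : DerCA.IsRelPseudoCoherent R A m (Q.obj K)) :
    DerCA.IsRelPseudoCoherent R (Localization.Away g) m
      (Q.obj ((esC (algebraMap A (Localization.Away g))).obj K)) := by
  obtain ⟨n, α, hα, hvia⟩ := h
  obtain ⟨gt, hgt⟩ := hα g
  have key : ∀ (a : A) (p : MvPolynomial (Fin n) R), α p = a →
      DerCA.IsRelPseudoCoherent R (Localization.Away a) m
        (Q.obj ((esC (algebraMap A (Localization.Away a))).obj K)) := by
    rintro _ p rfl
    exact rel_away_of_via α p hα K m hvia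
  exact key g gt hgt

/-- `R_f` is pseudo-coherent relative to `R` -/
theorem relPcAll_away (f : R) :
    DerCA.IsRelPseudoCoherentModuleAll R (Localization.Away f) (Localization.Away f) := by
  obtain ⟨α₀, hα₀⟩ : ∃ α₀ : MvPolynomial (Fin 0) R →ₐ[R] R, Function.Bijective α₀ :=
    ⟨(MvPolynomial.isEmptyAlgEquiv R (Fin 0)).toAlgHom,
      (MvPolynomial.isEmptyAlgEquiv R (Fin 0)).bijective⟩
  have hCf : α₀ (MvPolynomial.C f) = f := by
    have := α₀.commutes f
    rwa [MvPolynomial.algebraMap_eq] at this
  have key : ∀ a : R, (α₀ : MvPolynomial (Fin 0) R →+* R) (MvPolynomial.C f) = a →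
      DerCA.IsRelPseudoCoherentModuleAll R (Localization.Away a) (Localization.Away a) := by
    rintro _ rfl
    intro m
    refine ⟨0 + 1, awayPres α₀ (MvPolynomial.C f), awayPres_surjective α₀ _ hα₀.surjective, ?_⟩
    refine (mpc_awayPres_iff α₀ (MvPolynomial.C f) _ m).mpr ?_
    have hbij : Function.Bijective
        (Localization.awayMap (α₀ : MvPolynomial (Fin 0) R →+* R) (MvPolynomial.C f)) := by
      constructor
      · rw [Localization.awayMap_injective_iff]
        intro a ha
        refine ⟨0, ?_⟩
        rw [pow_zero, one_mul]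
        exact hα₀.injective (ha.trans (map_zero _).symm)
      · rw [Localization.awayMap_surjective_iff]
        intro a
        obtain ⟨b, hb⟩ := hα₀.surjective a
        exact ⟨b, 0, by rw [pow_zero, one_mul]; exact hb⟩
    have hpc : BaseIsPc
        (Localization.awayMap (α₀ : MvPolynomial (Fin 0) R →+* R) (MvPolynomial.C f)) :=
      baseIsPc_of_bijective _ hbij
    have h2 : DRing.IsPseudoCoherent' _ ((DRing.restrictD
        (Localization.awayMap (α₀ : MvPolynomial (Fin 0) R →+* R) (MvPolynomial.C f))).obj
        (Dual.inD _ (Localization.Away ((α₀ : MvPolynomial (Fin 0) R →+* R)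
          (MvPolynomial.C f))))) :=
      (pc'_restrict_iff hpc _).mp
        (pc_of_finite_projective (ModuleCat.of _ (Localization.Away
          ((α₀ : MvPolynomial (Fin 0) R →+* R) (MvPolynomial.C f)))))
    exact mpc_of_pc' h2 m
  exact key f hCf

end

end Groth.Agent.Helper11.MPC
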