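import Groth.Agent.Lib.Helper11.RelLoc6
import Groth.Agent.Lib.Helper11.MPC14

/-!
Localized modules versus extension of scalars, in the derived category (helper11).
-/

open CategoryTheory Category Limits Pretriangulated DerivedCategory ZeroObject

attribute [local instance] HasDerivedCategory.standard

universe u

namespace Groth.Agent.Helper11.MPC

open Groth.Agent.Helper11.DC Groth.Agent.Helper11.GenRes Groth.Agent.Helper11.TA

section

variable {A : Type u} [CommRing A]

set_option backward.isDefEq.respectTransparency false in
/-- `A_f ⊗_A M ≅ M_f` as `A_f`-modules -/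
theorem nonempty_esLocIso (f : A) (M : ModuleCat.{u} A) :
    Nonempty ((es (algebraMap A (Localization.Away f))).obj M ≅
      ModuleCat.of (Localization.Away f) (LocalizedModule (Submonoid.powers f) M)) := by
  have hsm : ∀ (a : A) (x : LocalizedModule (Submonoid.powers f) M),
      (algebraMap A (Localization.Away f) a) • x = a • x := fun a x => algebraMap_smul _ a x
  have hloc := isLocalization_toAlgebra (P := A) (S := Localization.Away f) f
  letI : Algebra A (Localization.Away f) := (algebraMap A (Localization.Away f)).toAlgebra
  haveI : IsLocalization (Submonoid.powers f) (Localization.Away f) := hloc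
  haveI : @IsScalarTower A (Localization.Away f) (LocalizedModule (Submonoid.powers f) M)
      Algebra.toSMul _ _ :=
    @IsScalarTower.mk A (Localization.Away f) (LocalizedModule (Submonoid.powers f) M)
      Algebra.toSMul _ _ (fun a s x => by
        show ((algebraMap A (Localization.Away f) a) * s) • x = a • (s • x)
        rw [mul_smul]
        exact hsm a (s • x))
  have hbc : IsBaseChange (Localization.Away f)
      (LocalizedModule.mkLinearMap (Submonoid.powers f) M) :=
    IsLocalizedModule.isBaseChange (Submonoid.powers f) (Localization.Away f) _
  exact ⟨LinearEquiv.toModuleIso hbc.equiv⟩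

end

section

variable {R A : Type u} [CommRing R] [CommRing A] [Algebra R A]

theorem rel_of_iso {K L : Dual.D A} (e : K ≅ L) (m : ℤ)
    (h : DerCA.IsRelPseudoCoherent R A m K) : DerCA.IsRelPseudoCoherent R A m L := by
  obtain ⟨n, α, hα, h⟩ := h
  exact ⟨n, α, hα, mpc_of_iso ((DRing.restrictD (α : MvPolynomial (Fin n) R →+* A)).mapIso e) h⟩

/-- the localization of a module placed in degree zero -/
theorem nonempty_single_away_iso (f : A) (M : ModuleCat.{u} A) :
    Nonempty (Q.obj ((esC (algebraMap A (Localization.Away f))).obj
        ((HomologicalComplex.single (ModuleCat.{u} A) (ComplexShape.up ℤ) 0).obj M)) ≅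
      (singleFunctor (ModuleCat.{u} (Localization.Away f)) 0).obj
        (ModuleCat.of (Localization.Away f) (LocalizedModule (Submonoid.powers f) M))) := by
  obtain ⟨e⟩ := nonempty_esLocIso f M
  exact ⟨Q.mapIso ((HomologicalComplex.singleMapHomologicalComplex
      (es (algebraMap A (Localization.Away f))) (ComplexShape.up ℤ) 0).app M) ≪≫
    (singleFunctor (ModuleCat.{u} (Localization.Away f)) 0).mapIso e⟩

theorem rel_single_away_iff (f : A) (M : ModuleCat.{u} A) (m : ℤ) :
    DerCA.IsRelPseudoCoherent R (Localization.Away f) m
        (Q.obj ((esC (algebraMap A (Localization.Away f))).obj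
          ((HomologicalComplex.single (ModuleCat.{u} A) (ComplexShape.up ℤ) 0).obj M))) ↔
      DerCA.IsRelPseudoCoherent R (Localization.Away f) m
        ((singleFunctor (ModuleCat.{u} (Localization.Away f)) 0).obj
          (ModuleCat.of (Localization.Away f) (LocalizedModule (Submonoid.powers f) M))) := by
  obtain ⟨e⟩ := nonempty_single_away_iso f M
  exact ⟨rel_of_iso e m, rel_of_iso e.symm m⟩

end

end Groth.Agent.Helper11.MPC
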