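import Groth.Agent.Lib.Helper11.RelLoc7

/-!
Relative pseudo-coherence is local for principal open covers (helper11).
-/

open CategoryTheory CategoryTheory.Limits

attribute [local instance] HasDerivedCategory.standard

universe u

namespace Groth.Agent.Helper11.MPC

open Groth.Agent.Helper11.TA DerCA

theorem rel_cover_iff {R A : Type u} [CommRing R] [CommRing A] [Algebra R A]
    [Algebra.FiniteType R A] (K : DRing.Cx A) (m : ℤ) {r : ℕ} (f : Fin r → A)
    (hf : Ideal.span (Set.range f) = ⊤) :
    DerCA.IsRelPseudoCoherent R A m (DRing.toD K) ↔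
      ∀ i, DerCA.IsRelPseudoCoherent R (Localization.Away (f i)) m
        (DRing.toD (((ModuleCat.extendScalars (algebraMap A (Localization.Away (f i)))).mapHomologicalComplex
          (ComplexShape.up ℤ)).obj K)) := by
  obtain ⟨n, α, hα⟩ := exists_presentation (R := R) (A := A)
  choose ft hft using fun i => hα (f i)
  have key : ∀ (a : A) (p : MvPolynomial (Fin n) R), α p = a →
      (DerCA.IsRelPseudoCoherent R (Localization.Away a) m
        (DRing.toD (((ModuleCat.extendScalars (algebraMap A (Localization.Away a))).mapHomologicalComplex
          (ComplexShape.up ℤ)).obj K)) ↔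
      DRing.IsPseudoCoherent (Localization.Away p) m
        (DerivedCategory.Q.obj ((esC (algebraMap (MvPolynomial (Fin n) R) (Localization.Away p))).obj
          (((ModuleCat.restrictScalars.{u} (α : MvPolynomial (Fin n) R →+* A)).mapHomologicalComplex
            (ComplexShape.up ℤ)).obj K)))) := by
    rintro _ p rfl
    exact ⟨mpc_away_of_rel α p hα K m, fun h =>
      ⟨n + 1, awayPres α p, awayPres_surjective α p hα, (via_iff_mpc_away α p K m).mpr h⟩⟩
  constructor
  · intro h i
    have hvia := (rel_iff_via α hα m _).mp h
    refine (key (f i) (ft i) (hft i)).mpr ?_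
    exact mpc_esC _ (flat_algebraMap_away (ft i)) m _
      ((mpc_restrict_Q_iff (α : MvPolynomial (Fin n) R →+* A) K m).mp hvia)
  · intro h
    refine (rel_iff_via α hα m _).mpr ?_
    refine via_of_cover α hα K m ft ?_ (fun i => (key (f i) (ft i) (hft i)).mp (h i))
    have : (fun i => α (ft i)) = f := funext hft
    rw [this]
    exact hf


end Groth.Agent.Helper11.MPC
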