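import Groth.Agent.Lib.Helper11.RelNil1

/-!
Relative perfectness descends along nilpotent thickenings of the base (helper11).
-/

set_option autoImplicit false

open CategoryTheory CategoryTheory.Limits MonoidalCategory DerivedCategory TensorProduct

universe u

namespace Groth.Agent.Helper11.RelNil

open Groth.Agent.Helper11.DC Groth.Agent.Helper11.TA Groth.Agent.Helper11.LDer
  Groth.Agent.Helper11.PRT Groth.Agent.Helper11.Dev Groth.Agent.Helper11.RPBC

attribute [local instance] HasDerivedCategory.standard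

variable (R' A' R : Type u) [CommRing R'] [CommRing A'] [Algebra R' A'] [CommRing R]
  [Algebra R' R]

theorem ker_incR_le (hs : Function.Surjective (algebraMap R' R)) (x : A')
    (hx : x ∈ RingHom.ker (incR R' A' R)) :
    x ∈ (RingHom.ker (algebraMap R' R)).map (algebraMap R' A') := by
  let I := RingHom.ker (algebraMap R' R)
  let fI : I →ₗ[R'] R' := Submodule.subtype I
  let g : R' →ₗ[R'] R := Algebra.linearMap R' R
  have hfg : Function.Exact fI g := by
    intro r
    constructor
    · intro hr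
      exact ⟨⟨r, hr⟩, rfl⟩
    · rintro ⟨y, rfl⟩
      exact y.2
  have hx0 : (1 : R) ⊗ₜ[R'] x = 0 := hx
  have hex := rTensor_exact A' hfg hs
  have h1 : (g.rTensor A') ((1 : R') ⊗ₜ[R'] x) = 0 := by
    rw [LinearMap.rTensor_tmul]
    show (algebraMap R' R 1) ⊗ₜ[R'] x = 0
    rw [map_one]
    exact hx0
  obtain ⟨y, hy⟩ := (hex _).mp h1
  have key : ∀ y : I ⊗[R'] A', TensorProduct.lid R' A' ((fI.rTensor A') y) ∈
      (RingHom.ker (algebraMap R' R)).map (algebraMap R' A') := by
    intro y
    induction y using TensorProduct.induction_on with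
    | zero => rw [map_zero, map_zero]; exact Submodule.zero_mem _
    | tmul i a =>
      rw [LinearMap.rTensor_tmul, TensorProduct.lid_tmul, Algebra.smul_def]
      exact Ideal.mul_mem_right _ _ (Ideal.mem_map_of_mem _ i.2)
    | add y₁ y₂ h₁ h₂ => rw [map_add, map_add]; exact Submodule.add_mem _ h₁ h₂
  have h2 := key y
  rw [hy, TensorProduct.lid_tmul, one_smul] at h2
  exact h2

theorem isNilpotent_ker_incR (hs : Function.Surjective (algebraMap R' R))
    (hn : IsNilpotent (RingHom.ker (algebraMap R' R))) :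
    IsNilpotent (RingHom.ker (incR R' A' R)) := by
  obtain ⟨n, hn⟩ := hn
  refine ⟨n, ?_⟩
  have hle : RingHom.ker (incR R' A' R) ≤
      (RingHom.ker (algebraMap R' R)).map (algebraMap R' A') := fun x hx =>
    ker_incR_le R' A' R hs x hx
  have h1 := Ideal.pow_right_mono hle n
  rw [← Ideal.map_pow, hn, Ideal.zero_eq_bot, Ideal.map_bot] at h1
  exact le_bot_iff.mp h1

/-- S7076 -/
theorem isRelPerfect_of_LBaseChange_nilpotent [Module.Flat R' A']
    (hs : Function.Surjective (algebraMap R' R)) (hn : IsNilpotent (RingHom.ker (algebraMap R' R)))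
    [DRing.HasLBaseChange (incR R' A' R)] (K' : Dual.D A')
    (hK : Dual2.IsRelPerfect R (R ⊗[R'] A') ((DRing.LBaseChange (incR R' A' R)).obj K')) :
    Dual2.IsRelPerfect R' A' K' := by
  obtain ⟨hpc, ⟨a, b, hTA⟩⟩ := hK
  have hsurj : Function.Surjective (incR R' A' R) :=
    Algebra.TensorProduct.includeRight_surjective A' hs
  have hpc' : DRing.IsPseudoCoherent' A' K' :=
    (isPseudoCoherent'_iff_of_nilpotent (incR R' A' R) hsurj
      (isNilpotent_ker_incR R' A' R hs hn) K').mp hpc
  refine ⟨hpc', ⟨a, b, ?_⟩⟩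
  obtain ⟨E, b₀, hEb, hEff, ⟨e⟩⟩ := hpc'
  have hEproj : ∀ i, Module.Projective A' (E.X i) := fun i => by
    haveI := (hEff i).2
    infer_instance
  obtain ⟨eL⟩ := nonempty_LBaseChange_iso_of_projRes (incR R' A' R) K' E b₀ hEb hEproj e
  -- the restriction of `E` to `R'`
  let F' := ((ModuleCat.restrictScalars.{u} (algebraMap R' A')).mapHomologicalComplex
    (ComplexShape.up ℤ)).obj E
  have hF'b : DRing.VanishesAbove F' b₀ := fun i hi =>
    (ModuleCat.restrictScalars.{u} (algebraMap R' A')).map_isZero (hEb i hi)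
  have hF'f : ∀ i, Module.Flat R' (F'.X i) := fun i => by
    haveI : Module.Flat A' (E.X i) := by
      haveI := (hEff i).2
      infer_instance
    exact flat_restrictScalars R' A' (E.X i)
  -- the restriction of the base change to `R`
  let G := ((ModuleCat.restrictScalars.{u} (algebraMap R (R ⊗[R'] A'))).mapHomologicalComplex
    (ComplexShape.up ℤ)).obj ((esC (incR R' A' R)).obj E)
  have hGb : DRing.VanishesAbove G b₀ := fun i hi =>
    (ModuleCat.restrictScalars.{u} (algebraMap R (R ⊗[R'] A'))).map_isZero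
      ((es (incR R' A' R)).map_isZero (hEb i hi))
  have hGf : ∀ i, Module.Flat R (G.X i) := fun i => by
    haveI : Module.Flat (R ⊗[R'] A') (((esC (incR R' A' R)).obj E).X i) := by
      haveI : Module.Flat A' (E.X i) := by
        haveI := (hEff i).2
        infer_instance
      exact es_flat (incR R' A' R) (E.X i)
    exact flat_restrictScalars R (R ⊗[R'] A') (((esC (incR R' A' R)).obj E).X i)
  have eG : Q.obj G ≅ (DRing.restrictD (algebraMap R (R ⊗[R'] A'))).obj
      ((DRing.LBaseChange (incR R' A' R)).obj K') :=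
    ((ModuleCat.restrictScalars.{u} (algebraMap R (R ⊗[R'] A'))).mapDerivedCategoryFactors.app
        ((esC (incR R' A' R)).obj E)).symm ≪≫
      (DRing.restrictD (algebraMap R (R ⊗[R'] A'))).mapIso eL.symm
  have hGv : TorVanCx a b G :=
    torVanCx_of_torVan (torVan_of_hasTorAmplitudeIn hTA) G b₀ hGb hGf eG
  have hF'v : TorVanCx a b F' := by
    intro M i hi
    refine IsZero.of_iso ?_ ((DerivedCategory.homologyFunctorFactors (ModuleCat.{u} R') i).app _)
    exact isZero_homology_tens_of_esC_iso (algebraMap R' R) hs hn F' hF'f G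
      (bcCxIso_tp R' A' R E) a b hGv M i hi
  have hres : HasProjRes (Q.obj F') :=
    hasProjRes_of_isLE (Q.obj F') b₀ (Groth.Agent.Helper11.PcBC.isLE_of_vanishesAbove F' b₀ hF'b)
  obtain ⟨F₀, hF₀, hF₀flat, ⟨eF₀⟩⟩ :=
    hasTorAmplitudeIn_of_torVan (torVan_of_torVanCx F' b₀ hF'b hF'f hres hF'v)
  exact ⟨F₀, hF₀, hF₀flat, ⟨eF₀ ≪≫
    ((ModuleCat.restrictScalars.{u} (algebraMap R' A')).mapDerivedCategoryFactors.app E).symm ≪≫
    (DRing.restrictD (algebraMap R' A')).mapIso e⟩⟩

end Groth.Agent.Helper11.RelNil
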