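import Groth.Agent.Lib.Helper5.PCZ8
import Groth.Agent.Lib.Helper5.PCM3
import Groth.Agent.Lib.Helper9.RelPC4
import Groth.Agent.Lib.Helper11.MPC12

/-!
# Relative pseudo-coherence of a module placed in degree `0`, part A

General constructors / destructors for `DerSch.IsPseudoCoherentRel`, the chart complex of a module
in degree `0`, and the fact that every module is `m`-pseudo-coherent relative to a morphism locally
of finite type for `m > 0`.
-/

set_option autoImplicit false
set_option linter.unusedSectionVars false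
set_option linter.unusedVariables false
set_option linter.style.haveILetI false

universe u

open CategoryTheory CategoryTheory.Limits AlgebraicGeometry TopologicalSpace Opposite

attribute [local instance] HasDerivedCategory.standard

namespace Groth.Agent.Helper11.RelPCMod

open Groth.Agent.Helper5.PCZ
  Groth.Agent.Helper5.LDer Groth.Agent.Helper5.RT Groth.Agent.Helper9.RelPC
  Groth.Agent.Helper11.MPC Groth.Agent.Helper5.PCT Groth.Agent.Helper5.PCM

/-- the chart morphism through `Spec Γ(X, U)` -/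
lemma chartImm_eq' {X Y : Scheme.{u}} {U : X.Opens} (hU : IsAffineOpen U) (V : Y.Opens)
    {n : ℕ} (φ : MvPolynomial (Fin n) Γ(Y, V) →+* Γ(X, U)) :
    hU.isoSpec.hom ≫ Spec.map (CommRingCat.ofHom φ) = DerSch.chartImm U φ := by
  unfold DerSch.chartImm
  rw [hU.isoSpec_hom]

variable {X S : Scheme.{u}} (f : X ⟶ S)

/-- relative pseudo-coherence only depends on the isomorphism class -/
theorem rel_of_iso_obj {K K' : DCoh.D X} (e : K ≅ K') (m : ℤ)
    (h : DerSch.IsPseudoCoherentRel f m K) : DerSch.IsPseudoCoherentRel f m K' := by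
  obtain ⟨h0, 𝒱, h𝒱, H⟩ := h
  refine ⟨h0, 𝒱, h𝒱, fun V hV => ?_⟩
  obtain ⟨𝒰, h𝒰, HU⟩ := H V hV
  refine ⟨𝒰, h𝒰, fun U hU h => ?_⟩
  obtain ⟨n, φ, hφ, hpc⟩ := HU U hU h
  exact ⟨n, φ, hφ, fun G ⟨eG⟩ => hpc G ⟨eG ≪≫ e.symm⟩⟩

/-- if the chart test holds for every chart on every affine pair, the object is pseudo-coherent
relative to the morphism -/
theorem rel_of_forall_chart [LocallyOfFiniteType f] (m : ℤ) (K : DCoh.D X)
    (H : ∀ (U : X.Opens) (hU : IsAffineOpen U) (V : S.Opens) (hV : IsAffineOpen V)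
      (hUV : U ≤ f ⁻¹ᵁ V) (n : ℕ) (φ : MvPolynomial (Fin n) Γ(S, V) →+* Γ(X, U)),
      DerSch.IsChart f U V hUV φ → DerSch.ChartPC m K U V φ) :
    DerSch.IsPseudoCoherentRel f m K := by
  refine ⟨inferInstance, Set.univ, ?_, fun V _ => ⟨{U : X.affineOpens | U.1 ≤ f ⁻¹ᵁ V.1}, ?_, ?_⟩⟩
  · simpa using iSup_affineOpens_eq_top S
  · apply le_antisymm
    · exact iSup₂_le (fun U hU => hU)
    · intro x hx
      obtain ⟨W, hW, hxW, hWi⟩ :=
        (TopologicalSpace.Opens.isBasis_iff_nbhd.mp X.isBasis_affineOpens) hx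
      simp only [TopologicalSpace.Opens.mem_iSup]
      exact ⟨⟨W, hW⟩, hWi, hxW⟩
  · intro U _ h
    letI := (f.appLE V.1 U.1 h).hom.toAlgebra
    haveI : Algebra.FiniteType Γ(S, V.1) Γ(X, U.1) := by
      have h' := f.finiteType_appLE V.2 U.2 h
      exact h'
    obtain ⟨n, α, hα⟩ := exists_presentation (R := Γ(S, V.1)) (A := Γ(X, U.1))
    have hchart : DerSch.IsChart f U.1 V.1 h
        (α : MvPolynomial (Fin n) Γ(S, V.1) →+* Γ(X, U.1)) := by
      refine ⟨hα, ?_⟩
      ext r
      exact α.commutes r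
    exact ⟨n, _, hchart, H U.1 U.2 V.1 V.2 h n _ hchart⟩

/-- a relatively pseudo-coherent object admits, near every point, a chart whose test holds -/
theorem exists_chart_of_rel (m : ℤ) (K : DCoh.D X) (h : DerSch.IsPseudoCoherentRel f m K)
    (x : X) :
    ∃ (U : X.Opens) (_ : IsAffineOpen U) (V : S.Opens) (_ : IsAffineOpen V) (hUV : U ≤ f ⁻¹ᵁ V)
      (n : ℕ) (φ : MvPolynomial (Fin n) Γ(S, V) →+* Γ(X, U)),
      x ∈ U ∧ DerSch.IsChart f U V hUV φ ∧ DerSch.ChartPC m K U V φ := by
  obtain ⟨_, 𝒱, h𝒱, H⟩ := h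
  have hfx : f x ∈ (⨆ W ∈ 𝒱, (W : S.Opens)) := by rw [h𝒱]; trivial
  simp only [TopologicalSpace.Opens.mem_iSup] at hfx
  obtain ⟨W, hW, hfxW⟩ := hfx
  obtain ⟨𝒰, h𝒰, HW⟩ := H W hW
  have hx' : x ∈ (⨆ T ∈ 𝒰, (T : X.Opens)) := by rw [h𝒰]; exact hfxW
  simp only [TopologicalSpace.Opens.mem_iSup] at hx'
  obtain ⟨T, hT, hxT⟩ := hx'
  have hTW : (T : X.Opens) ≤ f ⁻¹ᵁ (W : S.Opens) := by
    rw [← h𝒰]
    exact le_iSup₂ (f := fun (T : X.affineOpens) (_ : T ∈ 𝒰) => (T : X.Opens)) T hT
  obtain ⟨n, φ, hφ, hpc⟩ := HW T hT hTW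
  exact ⟨T.1, T.2, W.1, W.2, hTW, n, φ, hxT, hφ, hpc⟩

section Chart

variable {U : X.Opens} (hU : IsAffineOpen U) (V : S.Opens) {n : ℕ}
  (φ : MvPolynomial (Fin n) Γ(S, V) →+* Γ(X, U))

include hU

/-- the chart morphism of an affine open along a surjection is a closed immersion -/
theorem isClosedImmersion_chartImm (hφ : Function.Surjective φ) :
    IsClosedImmersion (DerSch.chartImm U φ) := by
  rw [← chartImm_eq' hU V φ]
  haveI : IsClosedImmersion (Spec.map (CommRingCat.ofHom φ)) :=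
    IsClosedImmersion.spec_of_surjective _ hφ
  infer_instance

/-- the chart complex of a module placed in degree `0` -/
noncomputable def chartSingle (hφ : Function.Surjective φ) (M : X.Modules)
    (G : CochainComplex X.Modules ℤ) (eG : DCoh.toD X G ≅ DCoh.inD X M) :
    DCoh.toD (Spec (CommRingCat.of (MvPolynomial (Fin n) Γ(S, V))))
        ((DerSch.pushCx (DerSch.chartImm U φ)).obj ((DCoh.restrictCx U).obj G)) ≅
      DCoh.inD _ ((Scheme.Modules.pushforward (DerSch.chartImm U φ)).obj (M.restrict U.ι)) :=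
  haveI := isClosedImmersion_chartImm hU V φ hφ
  pushQIso (DerSch.chartImm U φ) (restrictInDIso U M G eG) ≪≫
    DerivedCategory.Q.mapIso
      ((HomologicalComplex.singleMapHomologicalComplex
        (Scheme.Modules.pushforward (DerSch.chartImm U φ)) (ComplexShape.up ℤ) 0).app
          (M.restrict U.ι)) ≪≫
    (inDIso _).symm

end Chart

/-- a module in degree `0` is `m`-pseudo-coherent for every `m > 0` -/
theorem pc_inD_of_pos {Y : Scheme.{u}} (N : Y.Modules) (m : ℤ) (hm : 0 < m) :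
    DCoh.IsPseudoCoherentD m (DCoh.inD Y N) := by
  refine isPseudoCoherentD_of_iso (inDIso N).symm
    (pc_of_isZero_homology _ m (fun j hj => ?_))
  exact HomologicalComplex.isZero_single_obj_homology (ComplexShape.up ℤ) 0 N j (by omega)

/-- every module, placed in degree `0`, is `m`-pseudo-coherent relative to a morphism locally of
finite type, for `m > 0` -/
theorem rel_inD_of_pos [LocallyOfFiniteType f] (M : X.Modules) (m : ℤ) (hm : 0 < m) :
    DerSch.IsPseudoCoherentRel f m (DCoh.inD X M) := by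
  refine rel_of_forall_chart f m _ (fun U hU V hV hUV n φ hφ => ?_)
  intro G ⟨eG⟩
  exact isPseudoCoherentD_of_iso (chartSingle hU V φ hφ.1 M G eG).symm (pc_inD_of_pos _ m hm)

end Groth.Agent.Helper11.RelPCMod
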