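import Groth.Agent.Lib.Helper11.RelPCModA
import Groth.Agent.S6518

/-!
# Relative pseudo-coherence of a module placed in degree `0`, part B

Finite type is local and is preserved by direct image along a closed immersion; a module is
`0`-pseudo-coherent relative to a morphism locally of finite type exactly when it is of finite
type.
-/

set_option autoImplicit false
set_option linter.unusedSectionVars false
set_option linter.unusedVariables false
set_option linter.style.haveILetI false

universe u

open CategoryTheory CategoryTheory.Limits AlgebraicGeometry TopologicalSpace Opposite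

attribute [local instance] HasDerivedCategory.standard

namespace Groth.Agent.Helper11.RelPCMod

open Groth.Agent.Helper5.PCZ
  Groth.Agent.Helper5.LDer Groth.Agent.Helper5.RT Groth.Agent.Helper9.RelPC
  Groth.Agent.Helper11.MPC Groth.Agent.Helper5.PCT Groth.Agent.Helper5.PCM
  Groth.Agent.Helper13.FinType Groth.Agent.Helper5.CI Groth.Agent.Helper5.Sky

/-- finite type is a local property -/
theorem isFiniteType_of_forall_restrict {X : Scheme.{u}} (M : X.Modules)
    (h : ∀ x : X, ∃ U : X.Opens, x ∈ U ∧
      SheafOfModules.IsFiniteType (R := (U : Scheme.{u}).ringCatSheaf) (M.restrict U.ι)) :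
    SheafOfModules.IsFiniteType (R := X.ringCatSheaf) M := by
  apply isFiniteType_of_genOn
  intro x
  obtain ⟨U, hxU, hft⟩ := h x
  haveI := hft
  obtain ⟨W', hxW', I, hI, s, hs⟩ :=
    exists_genOn_of_isFiniteType (M.restrict U.ι) (⟨x, hxU⟩ : (U : Scheme.{u}))
  have h2 := LocGenOn.of_restrict U.ι M W' s (LocGenOn.of_genOn hs)
  exact ⟨U.ι ''ᵁ W', ⟨⟨x, hxU⟩, hxW', rfl⟩, I, hI, _, GenOn.of_locGenOn h2⟩

/-- the direct image of a module of finite type along a closed immersion is of finite type -/
theorem isFiniteType_push {Z Y : Scheme.{u}} (i : Z ⟶ Y) [IsClosedImmersion i] (M : Z.Modules)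
    (h : SheafOfModules.IsFiniteType (R := Z.ringCatSheaf) M) :
    SheafOfModules.IsFiniteType (R := Y.ringCatSheaf)
      ((Scheme.Modules.pushforward i).obj M) := by
  haveI := h
  have hzero : ∀ y' : Y, y' ∉ Set.range i.base →
      ∀ a b : ((Scheme.Modules.pushforward i).obj M).presheaf.stalk y', a = b := by
    intro y' hy' a b
    haveI : Subsingleton ((DerSch.stalkFunctor Y y').obj ((Scheme.Modules.pushforward i).obj M)) :=
      ModuleCat.subsingleton_of_isZero (isZero_stalk_pushforward i M y' hy')
    exact Subsingleton.elim (α := ((DerSch.stalkFunctor Y y').obj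
      ((Scheme.Modules.pushforward i).obj M))) a b
  apply isFiniteType_of_genOn
  intro y
  by_cases hy : y ∈ Set.range i.base
  · obtain ⟨z, rfl⟩ := hy
    obtain ⟨W, hzW, I, hI, s, hs⟩ := exists_genOn_of_isFiniteType M z
    obtain ⟨W', hzW', hle⟩ := exists_opens_preimage_le i W z hzW
    refine ⟨W', hzW', I, hI,
      fun k => (M.presheaf.map (homOfLE hle).op (s k) : Γ(M, i ⁻¹ᵁ W')), ?_⟩
    intro y' hy'
    by_cases hy'r : y' ∈ Set.range i.base
    · obtain ⟨z', rfl⟩ := hy'r
      have h1 := hs z' (hle hy')
      haveI := isIso_sigma i z' M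
      have hinj : Function.Injective (sigma i z' M).hom :=
        (ConcreteCategory.bijective_of_isIso (sigma i z' M)).1
      have hφ : Function.Surjective (φst i z') := i.stalkMap_surjective z'
      have key : ∀ m : M.presheaf.stalk z',
          ∃ t' ∈ Submodule.span (Y.presheaf.stalk (i.base z'))
            (Set.range fun k => ((Scheme.Modules.pushforward i).obj M).presheaf.germ W'
              (i.base z') hy' (M.presheaf.map (homOfLE hle).op (s k) : Γ(M, i ⁻¹ᵁ W'))),
            (sigma i z' M).hom t' = m := by
        intro m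
        have hm : m ∈ Submodule.span (Z.presheaf.stalk z')
            (Set.range fun k => M.presheaf.germ W z' (hle hy') (s k)) := by
          rw [h1]; trivial
        induction hm using Submodule.span_induction with
        | mem m hm =>
          obtain ⟨k, rfl⟩ := hm
          refine ⟨_, Submodule.subset_span ⟨k, rfl⟩, ?_⟩
          refine (sigma_germ i z' M W' hy' _).trans ?_
          exact TopCat.Presheaf.germ_res_apply M.presheaf (homOfLE hle) z' hy' (s k)
        | zero => exact ⟨0, Submodule.zero_mem _, map_zero _⟩
        | add a b _ _ ha hb =>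
          obtain ⟨ta, hta, rfl⟩ := ha
          obtain ⟨tb, htb, rfl⟩ := hb
          exact ⟨ta + tb, Submodule.add_mem _ hta htb, map_add _ _ _⟩
        | smul a m _ hm =>
          obtain ⟨tm, htm, rfl⟩ := hm
          obtain ⟨b, rfl⟩ := hφ a
          exact ⟨b • tm, Submodule.smul_mem _ _ htm, map_smul _ _ _⟩
      rw [eq_top_iff]
      rintro t -
      obtain ⟨t', ht', e⟩ := key ((sigma i z' M).hom t)
      rw [← hinj e]
      exact ht'
    · rw [eq_top_iff]
      rintro t -
      rw [hzero y' hy'r t 0]
      exact Submodule.zero_mem _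
  · refine ⟨⟨(Set.range i.base)ᶜ, i.isClosedEmbedding.isClosed_range.isOpen_compl⟩, hy,
      PEmpty.{u + 1}, inferInstance, fun k => k.elim, ?_⟩
    intro y' hy'
    rw [eq_top_iff]
    rintro t -
    rw [hzero y' hy' t 0]
    exact Submodule.zero_mem _

variable {X S : Scheme.{u}} (f : X ⟶ S)

/-- a module in degree `0` is `0`-pseudo-coherent relative to a morphism locally of finite type
exactly when it is of finite type -/
theorem rel_inD_zero_iff [LocallyOfFiniteType f] (M : X.Modules) :
    DerSch.IsPseudoCoherentRel f 0 (DCoh.inD X M) ↔ CohB1.IsFT M := by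
  constructor
  · intro h
    refine isFiniteType_of_forall_restrict M (fun x => ?_)
    obtain ⟨U, hU, V, hV, hUV, n, φ, hxU, hφ, hpc⟩ := exists_chart_of_rel f 0 _ h x
    refine ⟨U, hxU, ?_⟩
    haveI := isClosedImmersion_chartImm hU V φ hφ.1
    have h1 := hpc ((CochainComplex.singleFunctor X.Modules 0).obj M) ⟨(inDIso M).symm⟩
    have h2 := isPseudoCoherentD_of_iso (chartSingle hU V φ hφ.1 M _ (inDIso M).symm) h1
    have h3 : CohB1.IsFT ((Scheme.Modules.pushforward (DerSch.chartImm U φ)).obj
        (M.restrict U.ι)) := (Groth.Agent.S6518.result _).1.mp h2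
    exact isFiniteType_of_push (DerSch.chartImm U φ) _ h3
  · intro h
    refine rel_of_forall_chart f 0 _ (fun U hU V hV hUV n φ hφ => ?_)
    intro G ⟨eG⟩
    haveI := isClosedImmersion_chartImm hU V φ hφ.1
    haveI : SheafOfModules.IsFiniteType (R := X.ringCatSheaf) M := h
    have h1 : SheafOfModules.IsFiniteType (R := (U : Scheme.{u}).ringCatSheaf)
        (M.restrict U.ι) := isFiniteType_restrict U.ι M
    have h2 : CohB1.IsFT ((Scheme.Modules.pushforward (DerSch.chartImm U φ)).obj
        (M.restrict U.ι)) := isFiniteType_push (DerSch.chartImm U φ) _ h1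
    exact isPseudoCoherentD_of_iso (chartSingle hU V φ hφ.1 M G eG).symm
      ((Groth.Agent.S6518.result _).1.mpr h2)

end Groth.Agent.Helper11.RelPCMod
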