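import Groth.Agent.Lib.Helper11.RelPCModB
import Groth.Agent.Lib.Helper5.CHP8
import Groth.Agent.Lib.Helper9.RelPC2
import Groth.Agent.S7021
import Groth.Agent.S9742

/-!
# Relative pseudo-coherence of a module placed in degree `0`, part C

A module is `(-1)`-pseudo-coherent relative to a morphism locally of finite type exactly when it is
quasi-coherent and finitely presented relative to the morphism.
-/

set_option autoImplicit false
set_option linter.unusedSectionVars false
set_option linter.unusedVariables false
set_option linter.style.haveILetI false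

universe u

open CategoryTheory CategoryTheory.Limits AlgebraicGeometry TopologicalSpace Opposite

attribute [local instance] HasDerivedCategory.standard

namespace Groth.Agent.Helper11.RelPCMod

open Groth.Agent.Helper5.CHP Groth.Agent.Helper5.PCZ
  Groth.Agent.Helper5.LDer Groth.Agent.Helper5.RT Groth.Agent.Helper9.RelPC
  Groth.Agent.Helper11.MPC Groth.Agent.Helper5.PCT Groth.Agent.Helper5.PCM
  Groth.Agent.Helper13.FinType Groth.Agent.Helper5.TB Groth.Agent.Helper13.Pullback
  Groth.Agent.Helper5.RPR Groth.Agent.Helper5.TBA Groth.Agent.Helper5.TT Groth.Agent.Helper5.KF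

/-- transfer of finite presentation through a ring map along a linear equivalence -/
theorem fp_transfer {P A : Type u} [CommRing P] [CommRing A] (φ : P →+* A) {N N' : Type u}
    [AddCommGroup N] [Module A N] [AddCommGroup N'] [Module A N'] (e : N ≃ₗ[A] N')
    (h : @Module.FinitePresentation P N _ _ (Module.compHom N φ)) :
    @Module.FinitePresentation P N' _ _ (Module.compHom N' φ) := by
  letI : Module P N := Module.compHom N φ
  letI : Module P N' := Module.compHom N' φ
  let e' : N ≃ₗ[P] N' :=
    { e.toAddEquiv with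
      map_smul' := fun p x => e.map_smul (φ p) x }
  haveI : Module.FinitePresentation P N := h
  exact Module.FinitePresentation.of_equiv e'

variable {X S : Scheme.{u}} (f : X ⟶ S)

/-- relative finite presentation of the sections over an affine pair, in terms of the ring-level
relative `(-1)`-pseudo-coherence of the module of sections of the restriction to the spectrum -/
theorem relFPOn_iff_single [LocallyOfFiniteType f] (M : X.Modules) {U : X.Opens}
    (hU : IsAffineOpen U) {V : S.Opens} (hV : IsAffineOpen V) (hUV : U ≤ f ⁻¹ᵁ V) :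
    Flatn.RelFPOn f M ⟨U, hU⟩ ⟨V, hV⟩ hUV ↔
      @DerCA.IsRelPseudoCoherent Γ(S, V) Γ(X, U) _ _ (f.appLE V U hUV).hom.toAlgebra (-1)
        ((DerivedCategory.singleFunctor (ModuleCat.{u} Γ(X, U)) 0).obj
          ((Γf Γ(X, U)).obj ((Scheme.Modules.restrictFunctor hU.fromSpec).obj M))) := by
  letI := (f.appLE V U hUV).hom.toAlgebra
  haveI : Algebra.FiniteType Γ(S, V) Γ(X, U) := by
    have h := f.finiteType_appLE hV hU hUV
    exact h
  let N : ModuleCat.{u} Γ(X, U) :=
    (Γf Γ(X, U)).obj ((Scheme.Modules.restrictFunctor hU.fromSpec).obj M)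
  let e : Γ(M, U) ≃ₗ[Γ(X, U)] N := sectionsEquiv M hU
  constructor
  · rintro ⟨n, α, hα, hfp⟩
    have h1 := fp_transfer α.toRingHom e hfp
    exact ((Groth.Agent.S7021.result α hα N).2).mpr h1
  · intro h
    obtain ⟨n, α, hα⟩ := exists_presentation (R := Γ(S, V)) (A := Γ(X, U))
    have h1 := ((Groth.Agent.S7021.result α hα N).2).mp h
    exact ⟨n, α, hα, fp_transfer α.toRingHom e.symm h1⟩

/-- a module in degree `0` which is `(-1)`-pseudo-coherent relative to `f` is quasi-coherent as an
object of the derived category -/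
theorem isQCohD_single_of_rel' (M : X.Modules)
    (hpc : DerSch.IsPseudoCoherentRel f (-1)
      (DCoh.toD X ((HomologicalComplex.single _ (ComplexShape.up ℤ) 0).obj M))) :
    DCoh.IsQCohD (DCoh.toD X ((HomologicalComplex.single _ (ComplexShape.up ℤ) 0).obj M)) := by
  intro i
  by_cases hi : (-1 : ℤ) < i
  · exact Groth.Agent.Helper9.RelPC.isQCoh_HD_of_isPseudoCoherentRel f (-1) _ hpc i hi
  · have hi0 : i ≠ 0 := by omega
    have e : DCoh.HD (DCoh.toD X ((HomologicalComplex.single _ (ComplexShape.up ℤ) 0).obj M)) i ≅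
        ((HomologicalComplex.single _ (ComplexShape.up ℤ) 0).obj M).homology i :=
      (DerivedCategory.homologyFunctorFactors X.Modules i).app _
    exact Groth.Agent.Helper13.QCohFin.isQuasicoherent_of_isZero
      (IsZero.of_iso (HomologicalComplex.isZero_single_obj_homology (ComplexShape.up ℤ) 0 M i hi0) e)

/-- a module which, placed in degree `0`, is `(-1)`-pseudo-coherent relative to `f` is
quasi-coherent -/
theorem isQuasicoherent_of_rel' (M : X.Modules)
    (hpc : DerSch.IsPseudoCoherentRel f (-1)
      (DCoh.toD X ((HomologicalComplex.single _ (ComplexShape.up ℤ) 0).obj M))) :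
    M.IsQuasicoherent := by
  have h := isQCohD_single_of_rel' f M hpc 0
  have e : DCoh.HD (DCoh.toD X ((HomologicalComplex.single _ (ComplexShape.up ℤ) 0).obj M)) 0 ≅ M :=
    (DerivedCategory.homologyFunctorFactors X.Modules 0).app _ ≪≫
      HomologicalComplex.singleObjHomologySelfIso (ComplexShape.up ℤ) 0 M
  haveI : (DCoh.HD (DCoh.toD X
      ((HomologicalComplex.single _ (ComplexShape.up ℤ) 0).obj M)) 0).IsQuasicoherent := h
  exact Groth.Agent.Helper13.QCohLocal.isQuasicoherent_of_iso e

/-- the chart of a quasi-coherent module in degree `0` -/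
noncomputable def chartSingleIso' (M : X.Modules) [M.IsQuasicoherent] {U : X.Opens}
    (hU : IsAffineOpen U) :
    chart (DCoh.toD X ((HomologicalComplex.single _ (ComplexShape.up ℤ) 0).obj M)) hU ≅
      (DCoh.tildeD Γ(X, U)).obj ((DerivedCategory.singleFunctor (ModuleCat.{u} Γ(X, U)) 0).obj
        ((Γf Γ(X, U)).obj ((Scheme.Modules.restrictFunctor hU.fromSpec).obj M))) := by
  haveI hM' : ((Scheme.Modules.restrictFunctor hU.fromSpec).obj M).IsQuasicoherent :=
    inferInstance
  haveI : IsIso ((tilde.adjunction (R := Γ(X, U))).counit.app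
      ((Scheme.Modules.restrictFunctor hU.fromSpec).obj M)) :=
    @Scheme.Modules.isIso_fromTildeΓ_of_isQuasicoherent Γ(X, U)
      ((Scheme.Modules.restrictFunctor hU.fromSpec).obj M) hM'
  exact chartIso _ hU ((HomologicalComplex.single _ (ComplexShape.up ℤ) 0).obj M) (Iso.refl _) ≪≫
    DerivedCategory.Q.mapIso
      ((HomologicalComplex.singleMapHomologicalComplex
          (Scheme.Modules.restrictFunctor hU.fromSpec) (ComplexShape.up ℤ) 0).app M ≪≫
        (HomologicalComplex.single _ (ComplexShape.up ℤ) 0).mapIso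
          (asIso ((tilde.adjunction (R := Γ(X, U))).counit.app
            ((Scheme.Modules.restrictFunctor hU.fromSpec).obj M))).symm ≪≫
        ((HomologicalComplex.singleMapHomologicalComplex
          (tilde.functor Γ(X, U)) (ComplexShape.up ℤ) 0).app
          ((Γf Γ(X, U)).obj ((Scheme.Modules.restrictFunctor hU.fromSpec).obj M))).symm) ≪≫
    QtildeIso Γ(X, U) _ ≪≫
    (DCoh.tildeD Γ(X, U)).mapIso
      ((DerivedCategory.singleFunctorIsoCompQ (ModuleCat.{u} Γ(X, U)) 0).app _).symm

/-- a quasi-coherent module in degree `0` has quasi-coherent cohomology sheaves -/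
theorem isQCohD_single (M : X.Modules) [hq : M.IsQuasicoherent] :
    DCoh.IsQCohD (DCoh.toD X ((HomologicalComplex.single _ (ComplexShape.up ℤ) 0).obj M)) := by
  intro i
  have e : DCoh.HD (DCoh.toD X ((HomologicalComplex.single _ (ComplexShape.up ℤ) 0).obj M)) i ≅
      ((HomologicalComplex.single _ (ComplexShape.up ℤ) 0).obj M).homology i :=
    (DerivedCategory.homologyFunctorFactors X.Modules i).app _
  by_cases hi : i = 0
  · subst hi
    exact Groth.Agent.Helper13.QCohLocal.isQuasicoherent_of_iso (M := M)
      (e ≪≫ HomologicalComplex.singleObjHomologySelfIso (ComplexShape.up ℤ) 0 M).symm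
  · exact Groth.Agent.Helper13.QCohFin.isQuasicoherent_of_isZero
      (IsZero.of_iso (HomologicalComplex.isZero_single_obj_homology (ComplexShape.up ℤ) 0 M i hi) e)

/-- a module in degree `0` is `(-1)`-pseudo-coherent relative to a morphism locally of finite type
exactly when it is quasi-coherent and finitely presented relative to the morphism -/
theorem rel_inD_negOne_iff [LocallyOfFiniteType f] (M : X.Modules) :
    DerSch.IsPseudoCoherentRel f (-1) (DCoh.inD X M) ↔
      (Coh.IsQCoh M ∧ Flatn.IsRelFP f M) := by
  constructor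
  · intro h
    have h' : DerSch.IsPseudoCoherentRel f (-1)
        (DCoh.toD X ((HomologicalComplex.single _ (ComplexShape.up ℤ) 0).obj M)) :=
      rel_of_iso_obj f (inDIso M) (-1) h
    haveI hq : M.IsQuasicoherent := isQuasicoherent_of_rel' f M h'
    have hqD := isQCohD_single_of_rel' f M h'
    have H := (rel_iff_relPC f _ (-1) hqD).mp h'
    haveI : Coh.IsQCoh M := hq
    refine ⟨hq, (Groth.Agent.S9742.result f M).mpr (fun U V hUV => ?_)⟩
    exact (relFPOn_iff_single f M U.2 V.2 hUV).mpr
      (H U.1 U.2 V.1 V.2 hUV _ ⟨chartSingleIso' M U.2⟩)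
  · rintro ⟨hq, hfp⟩
    haveI : Coh.IsQCoh M := hq
    haveI hq' : M.IsQuasicoherent := hq
    have Hall := (Groth.Agent.S9742.result f M).mp hfp
    refine rel_of_iso_obj f (inDIso M).symm (-1) ?_
    refine (rel_iff_relPC f (DCoh.toD X ((HomologicalComplex.single _ (ComplexShape.up ℤ) 0).obj M))
      (-1) (isQCohD_single M)).mpr ?_
    intro U hU V hV hUV M' ⟨e⟩
    obtain ⟨e'⟩ := repr_unique _ hU _ _ (chartSingleIso' M hU) e
    refine rel_of_iso' f (-1) hUV e' ?_
    exact (relFPOn_iff_single f M hU hV hUV).mp (Hall ⟨U, hU⟩ ⟨V, hV⟩ hUV)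

end Groth.Agent.Helper11.RelPCMod
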