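import Groth.Agent.Lib.Helper11.MPC13
import Groth.Agent.Lib.Helper3.TH2
import Groth.Agent.Lib.Helper11.LTen3

/-!
# Tensoring with a finite projective module, functorially in the module (helper11)
-/

set_option autoImplicit false

open CategoryTheory CategoryTheory.Limits MonoidalCategory Pretriangulated

universe u

attribute [local instance] HasDerivedCategory.standard

namespace Groth.Agent.Helper11.RelPT

open Groth.Agent.Helper11.MPC

variable {A : Type u} [CommRing A]

/-- `N ↦ N ⊗ Y^•` as a functor in `N` -/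
noncomputable def Gf (Y : DRing.Cx A) : ModuleCat.{u} A ⥤ DRing.Cx A where
  obj N := ((tensorLeft N).mapHomologicalComplex (ComplexShape.up ℤ)).obj Y
  map {N N'} f :=
    { f := fun i => f ▷ Y.X i
      comm' := fun i j _ => by
        change (f ▷ Y.X i) ≫ (N' ◁ Y.d i j) = (N ◁ Y.d i j) ≫ (f ▷ Y.X j)
        exact (whisker_exchange f (Y.d i j)).symm }
  map_id N := by
    apply HomologicalComplex.hom_ext
    intro i
    exact MonoidalCategory.id_whiskerRight N (Y.X i)
  map_comp f g := by
    apply HomologicalComplex.hom_ext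
    intro i
    exact MonoidalCategory.comp_whiskerRight f g (Y.X i)

instance (Y : DRing.Cx A) : (Gf Y).Additive where
  map_add {N N' f g} := by
    apply HomologicalComplex.hom_ext
    intro i
    change (f + g) ▷ Y.X i = f ▷ Y.X i + g ▷ Y.X i
    exact MonoidalPreadditive.add_whiskerRight _ _

/-- `𝟙 ⊗ Y^• ≅ Y` -/
noncomputable def GfUnitIso (Y : DRing.Cx A) : (Gf Y).obj (𝟙_ (ModuleCat.{u} A)) ≅ Y :=
  HomologicalComplex.Hom.isoOfComponents (fun i => λ_ (Y.X i)) (by
    intro i j _
    change (λ_ (Y.X i)).hom ≫ Y.d i j = (𝟙_ _ ◁ Y.d i j) ≫ (λ_ (Y.X j)).hom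
    exact (leftUnitor_naturality (Y.d i j)).symm)

theorem FTD.biprod {R : Type u} [CommRing R] {K L : Dual.D R} (hK : FTD K) (hL : FTD L) :
    FTD (K ⊞ L) :=
  FTD.ext _ (binaryBiproductTriangle_distinguished K L) hK hL

/-- a finite projective module is a direct summand of a finite free module -/
theorem exists_biprod_iso (N : ModuleCat.{u} A) [Module.Finite A N] [Module.Projective A N] :
    ∃ (n : ℕ) (K : ModuleCat.{u} A), Nonempty (ModuleCat.of A (Fin n → A) ≅ N ⊞ K) := by
  obtain ⟨n, f, hf⟩ := Module.Finite.exists_fin' A N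
  obtain ⟨s, hs⟩ := Module.projective_lifting_property f LinearMap.id hf
  have hfs : ∀ y, f (s y) = y := fun y => LinearMap.congr_fun hs y
  let fwd : (Fin n → A) →ₗ[A] (N × LinearMap.ker f) :=
    f.prod (LinearMap.codRestrict (LinearMap.ker f) (LinearMap.id - s ∘ₗ f) (fun x => by
      rw [LinearMap.mem_ker, LinearMap.sub_apply, map_sub, LinearMap.comp_apply, hfs]
      exact sub_self _))
  let bwd : (N × LinearMap.ker f) →ₗ[A] (Fin n → A) := s.coprod (LinearMap.ker f).subtype
  have h1 : ∀ x, bwd (fwd x) = x := by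
    intro x
    change s (f x) + (x - s (f x)) = x
    abel
  have h2 : ∀ p, fwd (bwd p) = p := by
    rintro ⟨y, k⟩
    have hk : f k.1 = 0 := k.2
    apply Prod.ext
    · change f (s y + k.1) = y
      rw [map_add, hfs, hk, add_zero]
    · apply Subtype.ext
      change (s y + k.1) - s (f (s y + k.1)) = k.1
      rw [map_add, hfs, hk, add_zero]
      abel
  let e : (Fin n → A) ≃ₗ[A] (N × LinearMap.ker f) :=
    LinearEquiv.ofLinear fwd bwd (LinearMap.ext h2) (LinearMap.ext h1)
  exact ⟨n, ModuleCat.of A (LinearMap.ker f),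
    ⟨e.toModuleIso ≪≫ (ModuleCat.biprodIsoProd N (ModuleCat.of A (LinearMap.ker f))).symm⟩⟩

/-- a class of modules containing `A`, zero, closed under isomorphisms, binary biproducts and direct
summands contains all finite projective modules -/
theorem of_finite_projective (𝒞 : ModuleCat.{u} A → Prop)
    (h_iso : ∀ N N' : ModuleCat.{u} A, (N ≅ N') → 𝒞 N → 𝒞 N')
    (h_zero : ∀ N : ModuleCat.{u} A, IsZero N → 𝒞 N)
    (h_unit : 𝒞 (𝟙_ (ModuleCat.{u} A)))
    (h_biprod : ∀ N N' : ModuleCat.{u} A, 𝒞 N → 𝒞 N' → 𝒞 (N ⊞ N'))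
    (h_summand : ∀ N N' : ModuleCat.{u} A, 𝒞 (N ⊞ N') → 𝒞 N)
    (N : ModuleCat.{u} A) [Module.Finite A N] [Module.Projective A N] : 𝒞 N := by
  have hfree : ∀ n : ℕ, 𝒞 (ModuleCat.of A (Fin n → A)) := by
    intro n
    induction n with
    | zero => exact h_zero _ (ModuleCat.isZero_of_subsingleton _)
    | succ n ih =>
      have e1 : (A × (Fin n → A)) ≃ₗ[A] (Fin (n + 1) → A) :=
        Fin.consLinearEquiv A (fun _ : Fin (n + 1) => A)
      have e2 : (𝟙_ (ModuleCat.{u} A)) ⊞ ModuleCat.of A (Fin n → A) ≅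
          ModuleCat.of A (Fin (n + 1) → A) :=
        ModuleCat.biprodIsoProd (𝟙_ (ModuleCat.{u} A)) (ModuleCat.of A (Fin n → A)) ≪≫
          e1.toModuleIso
      exact h_iso _ _ e2 (h_biprod _ _ h_unit ih)
  obtain ⟨n, K, ⟨e⟩⟩ := exists_biprod_iso N
  exact h_summand N K (h_iso _ _ e (hfree n))

end Groth.Agent.Helper11.RelPT
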