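import Groth.Agent.Lib.Helper11.RelPT1

/-!
# Relative perfectness is preserved by derived tensor product with a perfect complex (helper11)
-/

set_option autoImplicit false

open CategoryTheory CategoryTheory.Limits MonoidalCategory Pretriangulated

universe u

attribute [local instance] HasDerivedCategory.standard

namespace Groth.Agent.Helper11.RelPT

open Groth.Agent.Helper11.MPC Groth.Agent.Helper11.DC Groth.Agent.Helper11.LTen
open Groth.Agent.Helper3.TH Groth.Agent.Helper3.DS

variable (R : Type u) {A : Type u} [CommRing R] [CommRing A] [Algebra R A]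

/-- finite tor dimension over `R` of a complex of `A`-modules -/
def FT (X : DRing.Cx A) : Prop :=
  FTD ((DRing.restrictD (algebraMap R A)).obj (DRing.toD X))

variable {R}

theorem FT.of_iso {X X' : DRing.Cx A} (e : X ≅ X') (h : FT R X) : FT R X' :=
  FTD.of_iso ((DRing.restrictD (algebraMap R A)).mapIso (DerivedCategory.Q.mapIso e)) h

theorem FT.shift {X : DRing.Cx A} (n : ℤ) (h : FT R X) : FT R (X⟦n⟧) := by
  have e1 : DerivedCategory.Q.obj (X⟦n⟧) ≅ (DerivedCategory.Q.obj X)⟦n⟧ :=
    (DerivedCategory.Q.commShiftIso n).app X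
  have e2 : (DRing.restrictD (algebraMap R A)).obj ((DerivedCategory.Q.obj X)⟦n⟧) ≅
      ((DRing.restrictD (algebraMap R A)).obj (DerivedCategory.Q.obj X))⟦n⟧ :=
    ((DRing.restrictD (algebraMap R A)).commShiftIso n).app (DerivedCategory.Q.obj X)
  exact FTD.of_iso (((DRing.restrictD (algebraMap R A)).mapIso e1 ≪≫ e2).symm)
    (FTD.shift n h)

/-- the additive functor `N ↦ (N ⊗ Y)|_R` to `D(R)` -/
noncomputable abbrev Ψ (R : Type u) {A : Type u} [CommRing R] [CommRing A] [Algebra R A]
    (Y : DRing.Cx A) : ModuleCat.{u} A ⥤ Dual.D R :=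
  (Gf Y ⋙ DerivedCategory.Q) ⋙ DRing.restrictD (algebraMap R A)

theorem FT_Gf (Y : DRing.Cx A) (hY : FT R Y) (N : ModuleCat.{u} A) [Module.Finite A N]
    [Module.Projective A N] : FT R ((Gf Y).obj N) := by
  haveI : (Ψ R Y).Additive := inferInstance
  haveI : PreservesBinaryBiproducts (Ψ R Y) := preservesBinaryBiproducts_of_preservesBiproducts _
  refine of_finite_projective (fun N => FT R ((Gf Y).obj N)) ?_ ?_ ?_ ?_ ?_ N
  · intro N N' e h
    exact FT.of_iso ((Gf Y).mapIso e) h
  · intro N hN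
    exact FTD.zero _ ((Ψ R Y).map_isZero hN)
  · exact FT.of_iso (GfUnitIso Y).symm hY
  · intro N N' h h'
    exact FTD.of_iso ((Ψ R Y).mapBiprod N N').symm (FTD.biprod h h')
  · intro N N' h
    exact (FTD.summands (FTD.of_iso ((Ψ R Y).mapBiprod N N') h)).1


/-- tensoring with a bounded complex of finite projective modules preserves finite tor dimension
over `R` -/
theorem FT_tensor (P : DRing.Cx A) (hP : FT R P) (E : DRing.Cx A) (a b : ℤ)
    (hE : DRing.VanishesOutside E a b) (hfp : DRing.TermwiseFiniteProjective E) :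
    FT R (P ⊗ E) := by
  refine devissage (A := A) (fun E : DRing.Cx A => FT R (P ⊗ E)) ?_ ?_ ?_ E a b hE hfp
  · intro E E' e h
    exact FT.of_iso (whiskerLeftIso P e) h
  · intro S hS h1 h3
    have hS' := (hS.whiskerLeft P).shortExact
    have hT := DerivedCategory.triangleOfSES_distinguished hS'
    have hT' := (DRing.restrictD (algebraMap R A)).map_distinguished _ hT
    exact FTD.ext _ hT' h1 h3
  · intro N b hN1 hN2
    obtain ⟨hz, h1, h2⟩ := single_props N b
    set E₁ := (HomologicalComplex.single (ModuleCat.{u} A) (ComplexShape.up ℤ) b).obj N with hE₁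
    haveI := isIso_gHom E₁ b hz P
    have e : (Gf (P⟦-b⟧)).obj (E₁.X b) ≅ P ⊗ E₁ :=
      (gIso (E₁.X b) b P).symm ≪≫ asIso (gHom E₁ b hz P) ≪≫ (DTen.braidCx P E₁).symm
    exact FT.of_iso e (FT_Gf (P⟦-b⟧) (FT.shift (-b) hP) (E₁.X b))

/-- `M ⊗^L E` is `R`-perfect for `M` `R`-perfect and `E` a bounded complex of finite projective
modules -/
theorem isRelPerfect_LTensorCx (E : DRing.Cx A) (a b : ℤ) (hEb : DRing.VanishesOutside E a b)
    (hEp : DRing.TermwiseFiniteProjective E) [DRing.HasLTensorCx A E] (M : Dual.D A)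
    (hM : Dual2.IsRelPerfect R A M) :
    Dual2.IsRelPerfect R A ((DRing.LTensorCx A E).obj M) := by
  rw [relPerfect_iff] at hM ⊢
  obtain ⟨hpc, hftd⟩ := hM
  have hEperf : DRing.IsPerfect A (DRing.toD E) := ⟨E, a, b, hEb, hEp, ⟨Iso.refl _⟩⟩
  refine ⟨isPseudoCoherent'_LTensorCx M hpc E (pc_of_perfect hEperf), ?_⟩
  obtain ⟨P, c, hPc, hPff, ⟨eP⟩⟩ := hpc
  obtain ⟨e⟩ := nonempty_LTensorCx_iso M E P E c b hPc (fun i hi => hEb i (Or.inr hi))
    (fun i => by haveI := (hPff i).2; infer_instance) (fun i => (hEp i).2) eP (Iso.refl _)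
  have hP : FT R P := FTD.of_iso ((DRing.restrictD (algebraMap R A)).mapIso eP.symm) hftd
  exact FTD.of_iso ((DRing.restrictD (algebraMap R A)).mapIso e) (FT_tensor P hP E a b hEb hEp)

end Groth.Agent.Helper11.RelPT
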