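import Groth.Agent.Lib.Helper11.FlatPc6
import Groth.Agent.S6938

/-!
Relatively perfect complexes over a flat finitely presented algebra are represented by bounded
complexes of finitely presented modules flat over the base (helper11).
-/

set_option autoImplicit false

open CategoryTheory Category Limits Pretriangulated DerivedCategory

attribute [local instance] HasDerivedCategory.standard

universe u

namespace Groth.Agent.Helper11.RelPerfFlat

open Groth.Agent.Helper11.DC Groth.Agent.Helper11.TA Groth.Agent.Helper11.Dev
  Groth.Agent.Helper11.RPBC Groth.Agent.Helper11.MPC Groth.Agent.Helper11.LocalPerf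
  Groth.Agent.Helper11.FlatPc

section RS

variable {R A : Type u} [CommRing R] [CommRing A] (φ : R →+* A)

/-- a submodule, restricted along `φ` -/
def rsSub {N : ModuleCat.{u} A} (G : Submodule A N) :
    Submodule R ((ModuleCat.restrictScalars.{u} φ).obj N) where
  carrier := {x | (show N from x) ∈ G}
  add_mem' := fun hx hy => G.add_mem hx hy
  zero_mem' := G.zero_mem
  smul_mem' := fun r _ hx => G.smul_mem (φ r) hx

theorem mem_rsSub {N : ModuleCat.{u} A} (G : Submodule A N)
    (x : (ModuleCat.restrictScalars.{u} φ).obj N) :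
    x ∈ rsSub φ G ↔ (show N from x) ∈ G := Iff.rfl

/-- quotients commute with restriction of scalars -/
noncomputable def rsQuotEquiv {N N' : ModuleCat.{u} A} (g : N ⟶ N')
    (hg : Function.Surjective g.hom) (G : Submodule A N) (hker : LinearMap.ker g.hom = G) :
    (((ModuleCat.restrictScalars.{u} φ).obj N) ⧸ rsSub φ G) ≃ₗ[R]
      ((ModuleCat.restrictScalars.{u} φ).obj N') :=
  (Submodule.quotEquivOfEq _ _ (by
    ext x
    rw [mem_rsSub, ← hker, LinearMap.mem_ker, LinearMap.mem_ker]
    exact Iff.rfl)).trans
    (LinearMap.quotKerEquivOfSurjective ((ModuleCat.restrictScalars.{u} φ).map g).hom hg)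

end RS

section Main

variable (R A : Type u) [CommRing R] [CommRing A] [Algebra R A]

theorem relPerfect_of_flat_terms [Module.Flat R A] [Algebra.FinitePresentation R A]
    (K : Dual.D A) (E : DRing.Cx A) (a b : ℤ) (hE : DRing.VanishesOutside E a b)
    (hterms : ∀ i : ℤ, Module.FinitePresentation A (E.X i) ∧
      Module.Flat R ((ModuleCat.restrictScalars (algebraMap R A)).obj (E.X i)))
    (e : DRing.toD E ≅ K) : Dual2.IsRelPerfect R A K := by
  constructor
  · have hpcE : DRing.IsPseudoCoherent' A (DRing.toD E) := by
      refine (Groth.Agent.S6938.result A 0 E b (fun i hi => hE i (Or.inr hi))).2 (fun i => ?_)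
      letI : Module R (E.X i) := Module.compHom (E.X i) (algebraMap R A)
      haveI : IsScalarTower R A (E.X i) := ⟨fun r a m => by
        show (r • a) • m = algebraMap R A r • (a • m)
        rw [Algebra.smul_def, mul_smul]⟩
      haveI := (hterms i).1
      haveI : Module.Flat R (E.X i) := (hterms i).2
      exact pc_module_of_flat_fp R A (E.X i)
    obtain ⟨E', b', h1, h2, ⟨e'⟩⟩ := hpcE
    exact ⟨E', b', h1, h2, ⟨e' ≪≫ e⟩⟩
  · exact ⟨a, b, (rsC (algebraMap R A)).obj E,
      fun i hi => (ModuleCat.restrictScalars.{u} (algebraMap R A)).map_isZero (hE i hi),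
      fun i => (hterms i).2,
      ⟨((ModuleCat.restrictScalars.{u} (algebraMap R A)).mapDerivedCategoryFactors.app E).symm ≪≫
        (DRing.restrictD (algebraMap R A)).mapIso e⟩⟩

theorem exists_flat_terms_of_relPerfect [Module.Flat R A] (K : Dual.D A)
    (hK : Dual2.IsRelPerfect R A K) :
    ∃ (E : DRing.Cx A) (a b : ℤ), DRing.VanishesOutside E a b ∧
      (∀ i : ℤ, Module.FinitePresentation A (E.X i) ∧
        Module.Flat R ((ModuleCat.restrictScalars (algebraMap R A)).obj (E.X i))) ∧
      Nonempty (DRing.toD E ≅ K) := by
  obtain ⟨⟨E, b₀, hEb, hEff, ⟨e⟩⟩, ⟨a, b, hTA⟩⟩ := hK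
  have eR : Q.obj ((rsC (algebraMap R A)).obj E) ≅ (DRing.restrictD (algebraMap R A)).obj K :=
    ((ModuleCat.restrictScalars.{u} (algebraMap R A)).mapDerivedCategoryFactors.app E).symm ≪≫ (DRing.restrictD (algebraMap R A)).mapIso e
  have hflatR : ∀ i, Module.Flat R ((ModuleCat.restrictScalars.{u} (algebraMap R A)).obj (E.X i)) := fun i => by
    haveI : Module.Flat A (E.X i) := by
      haveI := (hEff i).2
      infer_instance
    exact flat_restrictScalars R A (E.X i)
  have hex : ∀ k : ℤ, k < a → E.ExactAt k := by
    intro k hk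
    have h1 := isZero_homology_of_hasTorAmplitudeIn _ a b hTA k (Or.inl hk)
    have h2 : IsZero ((homologyFunctor (ModuleCat.{u} R) k).obj (Q.obj ((rsC (algebraMap R A)).obj E))) :=
      h1.of_iso ((homologyFunctor (ModuleCat.{u} R) k).mapIso eR)
    have h3 : IsZero (((rsC (algebraMap R A)).obj E).homology k) :=
      h2.of_iso ((homologyFunctorFactors (ModuleCat.{u} R) k).app _).symm
    have h4 : IsZero (E.homology k) := (isZero_homology_rsC_iff (algebraMap R A) E k).mp h3
    exact (HomologicalComplex.exactAt_iff_isZero_homology E k).mpr h4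
  have hE : ∀ k : ℤ, k < a →
      LinearMap.ker (E.d k (k + 1)).hom ≤ LinearMap.range (E.d (k - 1) k).hom := by
    intro k hk
    exact (range_eq_ker_of_exactAt E (k - 1) k (k + 1) (by omega) rfl (hex k hk)).ge
  have hT := triangleOfSES_distinguished (sc_shortExact E a)
  have hz : IsZero (Q.obj (S E a)) := isZero_Q_of_exactAt _ (S_exactAt E a hE)
  haveI : IsIso (Q.map (sc E a).g) := (Triangle.isZero₁_iff_isIso₂ _ hT).mp hz
  have hcx : TorVanCx a b ((rsC (algebraMap R A)).obj E) :=
    torVanCx_of_torVan (torVan_of_hasTorAmplitudeIn hTA) ((rsC (algebraMap R A)).obj E) b₀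
      (fun i hi => (ModuleCat.restrictScalars.{u} (algebraMap R A)).map_isZero (hEb i hi)) hflatR eR
  have hCflat : Module.Flat R ((ModuleCat.restrictScalars.{u} (algebraMap R A)).obj (E.X a) ⧸
      LinearMap.range ((ModuleCat.restrictScalars.{u} (algebraMap R A)).map (E.d (a - 1) a)).hom) :=
    flat_coker_of_torVanCx ((rsC (algebraMap R A)).obj E) hflatR hcx
  refine ⟨(sc E a).X₃, a, b₀, ?_, ?_, ⟨(asIso (Q.map (sc E a).g)).symm ≪≫ e⟩⟩
  · intro i hi
    obtain ⟨ε⟩ := nonempty_quot_equiv E a i
    rcases hi with hi | hi
    · haveI : Subsingleton (E.X i ⧸ G E a i) := by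
        rw [G_of_lt E a hi]
        infer_instance
      haveI : Subsingleton ((sc E a).X₃.X i) := ε.toEquiv.subsingleton
      exact ModuleCat.isZero_of_subsingleton _
    · haveI : Subsingleton (E.X i) := ModuleCat.subsingleton_of_isZero (hEb i hi)
      haveI : Subsingleton (E.X i ⧸ G E a i) := inferInstance
      haveI : Subsingleton ((sc E a).X₃.X i) := ε.toEquiv.subsingleton
      exact ModuleCat.isZero_of_subsingleton _
  · intro i
    obtain ⟨ε⟩ := nonempty_quot_equiv E a i
    let l : E.X i →ₗ[A] (sc E a).X₃.X i := ε.symm.toLinearMap ∘ₗ (G E a i).mkQ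
    have hl : Function.Surjective l := ε.symm.surjective.comp (Submodule.mkQ_surjective _)
    have hker : LinearMap.ker l = G E a i := by
      rw [LinearEquiv.ker_comp, Submodule.ker_mkQ]
    have hGfg : (G E a i).FG := by
      haveI := (hEff i).1
      rcases lt_trichotomy i a with h | h | h
      · rw [G_of_lt E a h]
        exact Module.Finite.fg_top
      · subst h
        rw [G_self, B_eq_range E (i - 1) i (by omega), LinearMap.range_eq_map]
        haveI := (hEff (i - 1)).1
        exact Module.Finite.fg_top.map _
      · rw [G_of_gt E a h]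
        exact Submodule.fg_bot
    constructor
    · haveI := (hEff i).1
      haveI := (hEff i).2
      exact Module.finitePresentation_of_free_of_surjective l hl (hker ▸ hGfg)
    · let Ψ := rsQuotEquiv (algebraMap R A) (ModuleCat.ofHom l) hl (G E a i) hker
      suffices Module.Flat R ((ModuleCat.restrictScalars.{u} (algebraMap R A)).obj (E.X i) ⧸ rsSub (algebraMap R A) (G E a i)) from
        Module.Flat.of_linearEquiv Ψ.symm
      rcases lt_trichotomy i a with h | h | h
      · have hEq : rsSub (algebraMap R A) (G E a i) = ⊤ := by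
          ext x
          rw [mem_rsSub, G_of_lt E a h]
          exact ⟨fun _ => trivial, fun _ => trivial⟩
        haveI : Subsingleton ((ModuleCat.restrictScalars.{u} (algebraMap R A)).obj (E.X i) ⧸ rsSub (algebraMap R A) (G E a i)) := by
          rw [hEq]
          infer_instance
        infer_instance
      · subst h
        have hEq : rsSub (algebraMap R A) (G E i i) =
            LinearMap.range ((ModuleCat.restrictScalars.{u} (algebraMap R A)).map (E.d (i - 1) i)).hom := by
          ext x
          rw [mem_rsSub, G_self, B_eq_range E (i - 1) i (by omega)]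
          exact Iff.rfl
        haveI := hCflat
        exact Module.Flat.of_linearEquiv (Submodule.quotEquivOfEq _ _ hEq)
      · have hEq : rsSub (algebraMap R A) (G E a i) = ⊥ := by
          ext x
          rw [mem_rsSub, G_of_gt E a h]
          exact Iff.rfl
        haveI := hflatR i
        exact Module.Flat.of_linearEquiv (Submodule.quotEquivOfEqBot _ hEq)

end Main

end Groth.Agent.Helper11.RelPerfFlat
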