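import Groth.Agent.Lib.Helper11.RelWN
import Groth.Agent.Lib.Helper11.EvalBridge

/-!
Relative seminormalization: the subalgebra generated by images of universal-homeomorphism algebras
with trivial residue field extensions.
-/

open CategoryTheory AlgebraicGeometry

universe u

namespace Groth.Agent.Helper11.UH

section InK

variable {A C : Type u} [CommRing A] [CommRing C] (ψ : A →+* C) (q : PrimeSpectrum C)

theorem inK_map (a : A) : InK ψ q (ψ a) := by
  refine ⟨a, 1, ?_, ?_⟩
  · rw [map_one]
    exact fun h1 => q.isPrime.ne_top ((Ideal.eq_top_iff_one _).mpr h1)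
  · rw [map_one, one_mul, sub_self]
    exact Ideal.zero_mem _

theorem inK_add {x y : C} (hx : InK ψ q x) (hy : InK ψ q y) : InK ψ q (x + y) := by
  obtain ⟨a, s, hs, hsa⟩ := hx
  obtain ⟨a', s', hs', hsa'⟩ := hy
  refine ⟨s' * a + s * a', s * s', ?_, ?_⟩
  · rw [map_mul]
    exact fun hmem => (q.isPrime.mem_or_mem hmem).elim hs hs'
  · have : ψ (s * s') * (x + y) - ψ (s' * a + s * a') =
        ψ s' * (ψ s * x - ψ a) + ψ s * (ψ s' * y - ψ a') := by
      simp only [map_mul, map_add]
      ring
    rw [this]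
    exact Ideal.add_mem _ (Ideal.mul_mem_left _ _ hsa) (Ideal.mul_mem_left _ _ hsa')

theorem inK_mul {x y : C} (hx : InK ψ q x) (hy : InK ψ q y) : InK ψ q (x * y) := by
  obtain ⟨a, s, hs, hsa⟩ := hx
  obtain ⟨a', s', hs', hsa'⟩ := hy
  refine ⟨a * a', s * s', ?_, ?_⟩
  · rw [map_mul]
    exact fun hmem => (q.isPrime.mem_or_mem hmem).elim hs hs'
  · have : ψ (s * s') * (x * y) - ψ (a * a') =
        (ψ s' * y) * (ψ s * x - ψ a) + ψ a * (ψ s' * y - ψ a') := by
      simp only [map_mul]
      ring
    rw [this]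
    exact Ideal.add_mem _ (Ideal.mul_mem_left _ _ hsa) (Ideal.mul_mem_left _ _ hsa')

end InK

variable (A B : Type u) [CommRing A] [CommRing B] [Algebra A B]

/-- Generators of the relative seminormalization. -/
def relGenSN : Set B :=
  {x | ∃ (C : Type u) (_ : CommRing C) (_ : Algebra A C) (g : C →ₐ[A] B),
    UHom (algebraMap A C) ∧ RFTriv (algebraMap A C) ∧ x ∈ g.range}

/-- The relative seminormalization of `A` in `B`. -/
def relSN : Subalgebra A B := Algebra.adjoin A (relGenSN A B)

variable {A B}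

theorem range_le_relSN {C : Type u} [CommRing C] [Algebra A C] (g : C →ₐ[A] B)
    (h : UHom (algebraMap A C)) (hr : RFTriv (algebraMap A C)) : g.range ≤ relSN A B := by
  rintro x hx
  exact Algebra.subset_adjoin ⟨C, _, _, g, h, hr, hx⟩

theorem relSN_isIntegral : (algebraMap A (relSN A B)).IsIntegral := by
  have : Algebra.IsIntegral A (relSN A B) := by
    apply Algebra.IsIntegral.adjoin
    rintro x ⟨C, _, _, g, h, -, c, rfl⟩
    exact IsIntegral.map g (h.1 c)
  exact algebraMap_isIntegral_iff.mpr this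

theorem relSN_surjective (hker : RingHom.ker (algebraMap A B) ≤ nilradical A) :
    Function.Surjective (PrimeSpectrum.comap (algebraMap A (relSN A B))) := by
  intro p
  have hint : Algebra.IsIntegral A (relSN A B) := algebraMap_isIntegral_iff.mp relSN_isIntegral
  have hle : (⊥ : Ideal (relSN A B)).comap (algebraMap A (relSN A B)) ≤ p.asIdeal := by
    intro a ha
    have h0 : algebraMap A (relSN A B) a = 0 := ha
    have h1 : algebraMap A B a = 0 := by
      have := congrArg (relSN A B).val h0
      simpa using this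
    exact nilradical_le_prime p.asIdeal (hker h1)
  obtain ⟨Q, -, hQ, hQp⟩ := Ideal.exists_ideal_over_prime_of_isIntegral p.asIdeal
    (⊥ : Ideal (relSN A B)) hle
  exact ⟨⟨Q, hQ⟩, PrimeSpectrum.ext hQp⟩

theorem relSN_radicial : Radicial (algebraMap A (relSN A B)) := by
  intro K _ g₁ g₂ hg
  suffices H : ∀ (x : B) (hx : x ∈ relSN A B), g₁ ⟨x, hx⟩ = g₂ ⟨x, hx⟩ by
    ext b
    exact H b.1 b.2
  intro x hx
  induction hx using Algebra.adjoin_induction with
  | mem x hx =>
    obtain ⟨C, _, _, g, h, hr, c, rfl⟩ := hx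
    let g' : C →ₐ[A] relSN A B := g.codRestrict (relSN A B)
      (fun c => range_le_relSN g h hr ⟨c, rfl⟩)
    have e : (g₁.comp g'.toRingHom).comp (algebraMap A C) =
        (g₂.comp g'.toRingHom).comp (algebraMap A C) := by
      have hc : g'.toRingHom.comp (algebraMap A C) = algebraMap A (relSN A B) := g'.comp_algebraMap
      rw [RingHom.comp_assoc, RingHom.comp_assoc, hc, hg]
    have := h.2.2 K _ _ e
    exact congrFun (congrArg DFunLike.coe this) c
  | algebraMap a =>
    exact congrFun (congrArg DFunLike.coe hg) a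
  | add x y hx hy hx' hy' =>
    have : (⟨x + y, Subalgebra.add_mem _ hx hy⟩ : relSN A B) = ⟨x, hx⟩ + ⟨y, hy⟩ := rfl
    rw [this, map_add, map_add, hx', hy']
  | mul x y hx hy hx' hy' =>
    have : (⟨x * y, Subalgebra.mul_mem _ hx hy⟩ : relSN A B) = ⟨x, hx⟩ * ⟨y, hy⟩ := rfl
    rw [this, map_mul, map_mul, hx', hy']

theorem relSN_uhom (hker : RingHom.ker (algebraMap A B) ≤ nilradical A) :
    UHom (algebraMap A (relSN A B)) :=
  ⟨relSN_isIntegral, relSN_surjective hker, relSN_radicial⟩

theorem relSN_rftriv : RFTriv (algebraMap A (relSN A B)) := by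
  intro q
  suffices H : ∀ (x : B) (hx : x ∈ relSN A B), InK (algebraMap A (relSN A B)) q ⟨x, hx⟩ by
    intro b
    exact H b.1 b.2
  intro x hx
  induction hx using Algebra.adjoin_induction with
  | mem x hx =>
    obtain ⟨C, _, _, g, h, hr, c, rfl⟩ := hx
    let g' : C →ₐ[A] relSN A B := g.codRestrict (relSN A B)
      (fun c => range_le_relSN g h hr ⟨c, rfl⟩)
    obtain ⟨a, s, hs, hsa⟩ := hr (PrimeSpectrum.comap g'.toRingHom q) c
    refine ⟨a, s, ?_, ?_⟩
    · intro hmem
      apply hs
      change g' (algebraMap A C s) ∈ q.asIdeal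
      rw [AlgHom.commutes]
      exact hmem
    · have h1 : g' (algebraMap A C s * c - algebraMap A C a) ∈ q.asIdeal := hsa
      rw [map_sub, map_mul, AlgHom.commutes, AlgHom.commutes] at h1
      exact h1
  | algebraMap a => exact inK_map _ q a
  | add x y hx hy hx' hy' =>
    have : (⟨x + y, Subalgebra.add_mem _ hx hy⟩ : relSN A B) = ⟨x, hx⟩ + ⟨y, hy⟩ := rfl
    rw [this]
    exact inK_add _ q hx' hy'
  | mul x y hx hy hx' hy' =>
    have : (⟨x * y, Subalgebra.mul_mem _ hx hy⟩ : relSN A B) = ⟨x, hx⟩ * ⟨y, hy⟩ := rfl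
    rw [this]
    exact inK_mul _ q hx' hy'

theorem exists_relSN [IsDominant (Spec.map (CommRingCat.ofHom (algebraMap A B)))] :
    ∃ B' : Subalgebra A B,
      (FlatMor.IsUnivHomeo (Spec.map (CommRingCat.ofHom (algebraMap A B'))) ∧
        ∀ x : Spec (CommRingCat.of B'), Function.Surjective
          ((Spec.map (CommRingCat.ofHom (algebraMap A B'))).residueFieldMap x)) ∧
      ∀ (C : Type u) [CommRing C] [Algebra A C] (g : C →ₐ[A] B),
        FlatMor.IsUnivHomeo (Spec.map (CommRingCat.ofHom (algebraMap A C))) →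
        (∀ x : Spec (CommRingCat.of C), Function.Surjective
          ((Spec.map (CommRingCat.ofHom (algebraMap A C))).residueFieldMap x)) →
        g.range ≤ B' := by
  refine ⟨relSN A B,
    ⟨(isUnivHomeo_spec_iff' _).mpr (relSN_uhom ker_le_nilradical_of_isDominant),
      (rftriv_iff _).mpr relSN_rftriv⟩,
    fun C _ _ g hC hC' => ?_⟩
  exact range_le_relSN g ((isUnivHomeo_spec_iff' _).mp hC) ((rftriv_iff _).mp hC')

end Groth.Agent.Helper11.UH
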