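import Groth.Agent.Lib.Helper11.AWNRing
import Mathlib.RingTheory.Spectrum.Prime.Topology

/-!
Relative weak normalization: for a ring map `A → B` with dense image on spectra, the subalgebra of
`B` generated by the images of all universal-homeomorphism `A`-algebras mapping to `B` is again a
universal homeomorphism over `A`.
-/

open CategoryTheory AlgebraicGeometry

universe u

namespace Groth.Agent.Helper11.UH

variable (A B : Type u) [CommRing A] [CommRing B] [Algebra A B]

/-- Generators of the relative weak normalization. -/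
def relGen : Set B :=
  {x | ∃ (C : Type u) (_ : CommRing C) (_ : Algebra A C) (g : C →ₐ[A] B),
    UHom (algebraMap A C) ∧ x ∈ g.range}

/-- The relative weak normalization of `A` in `B`. -/
def relWN : Subalgebra A B := Algebra.adjoin A (relGen A B)

variable {A B}

theorem range_le_relWN {C : Type u} [CommRing C] [Algebra A C] (g : C →ₐ[A] B)
    (h : UHom (algebraMap A C)) : g.range ≤ relWN A B := by
  rintro x hx
  exact Algebra.subset_adjoin ⟨C, _, _, g, h, hx⟩

theorem relWN_isIntegral : (algebraMap A (relWN A B)).IsIntegral := by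
  have : Algebra.IsIntegral A (relWN A B) := by
    apply Algebra.IsIntegral.adjoin
    rintro x ⟨C, _, _, g, h, c, rfl⟩
    exact IsIntegral.map g (h.1 c)
  exact algebraMap_isIntegral_iff.mpr this

theorem relWN_surjective (hker : RingHom.ker (algebraMap A B) ≤ nilradical A) :
    Function.Surjective (PrimeSpectrum.comap (algebraMap A (relWN A B))) := by
  intro p
  have hint : Algebra.IsIntegral A (relWN A B) := algebraMap_isIntegral_iff.mp relWN_isIntegral
  have hle : (⊥ : Ideal (relWN A B)).comap (algebraMap A (relWN A B)) ≤ p.asIdeal := by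
    intro a ha
    have h0 : algebraMap A (relWN A B) a = 0 := ha
    have h1 : algebraMap A B a = 0 := by
      have := congrArg (relWN A B).val h0
      simpa using this
    exact nilradical_le_prime p.asIdeal (hker h1)
  obtain ⟨Q, -, hQ, hQp⟩ := Ideal.exists_ideal_over_prime_of_isIntegral p.asIdeal
    (⊥ : Ideal (relWN A B)) hle
  exact ⟨⟨Q, hQ⟩, PrimeSpectrum.ext hQp⟩

theorem relWN_radicial : Radicial (algebraMap A (relWN A B)) := by
  intro K _ g₁ g₂ hg
  suffices H : ∀ (x : B) (hx : x ∈ relWN A B), g₁ ⟨x, hx⟩ = g₂ ⟨x, hx⟩ by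
    ext b
    exact H b.1 b.2
  intro x hx
  induction hx using Algebra.adjoin_induction with
  | mem x hx =>
    obtain ⟨C, _, _, g, h, c, rfl⟩ := hx
    let g' : C →ₐ[A] relWN A B := g.codRestrict (relWN A B)
      (fun c => range_le_relWN g h ⟨c, rfl⟩)
    have e : (g₁.comp g'.toRingHom).comp (algebraMap A C) =
        (g₂.comp g'.toRingHom).comp (algebraMap A C) := by
      have hc : g'.toRingHom.comp (algebraMap A C) = algebraMap A (relWN A B) := g'.comp_algebraMap
      rw [RingHom.comp_assoc, RingHom.comp_assoc, hc, hg]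
    have := h.2.2 K _ _ e
    exact congrFun (congrArg DFunLike.coe this) c
  | algebraMap a =>
    exact congrFun (congrArg DFunLike.coe hg) a
  | add x y hx hy hx' hy' =>
    have : (⟨x + y, Subalgebra.add_mem _ hx hy⟩ : relWN A B) = ⟨x, hx⟩ + ⟨y, hy⟩ := rfl
    rw [this, map_add, map_add, hx', hy']
  | mul x y hx hy hx' hy' =>
    have : (⟨x * y, Subalgebra.mul_mem _ hx hy⟩ : relWN A B) = ⟨x, hx⟩ * ⟨y, hy⟩ := rfl
    rw [this, map_mul, map_mul, hx', hy']

theorem relWN_uhom (hker : RingHom.ker (algebraMap A B) ≤ nilradical A) :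
    UHom (algebraMap A (relWN A B)) :=
  ⟨relWN_isIntegral, relWN_surjective hker, relWN_radicial⟩

theorem ker_le_nilradical_of_isDominant
    [IsDominant (Spec.map (CommRingCat.ofHom (algebraMap A B)))] :
    RingHom.ker (algebraMap A B) ≤ nilradical A := by
  have h : DenseRange (PrimeSpectrum.comap (algebraMap A B)) :=
    IsDominant.denseRange (f := Spec.map (CommRingCat.ofHom (algebraMap A B)))
  exact (PrimeSpectrum.denseRange_comap_iff_ker_le_nilRadical _).mp h

theorem exists_relWN [IsDominant (Spec.map (CommRingCat.ofHom (algebraMap A B)))] :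
    ∃ B' : Subalgebra A B, FlatMor.IsUnivHomeo (Spec.map (CommRingCat.ofHom (algebraMap A B'))) ∧
      ∀ (C : Type u) [CommRing C] [Algebra A C] (g : C →ₐ[A] B),
        FlatMor.IsUnivHomeo (Spec.map (CommRingCat.ofHom (algebraMap A C))) → g.range ≤ B' := by
  refine ⟨relWN A B, (isUnivHomeo_spec_iff' _).mpr (relWN_uhom ker_le_nilradical_of_isDominant),
    fun C _ _ g hC => ?_⟩
  exact range_le_relWN g ((isUnivHomeo_spec_iff' _).mp hC)

end Groth.Agent.Helper11.UH
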