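import Groth.Agent.Lib.Helper24.DProd4
import Groth.Prelude.Def_DCoh2

/-!
Derived limits of towers of complexes: a short exact sequence `0 → L → ∏ Fₙ → ∏ Fₙ → 0` of complexes
(second map "identity minus shift") exhibits `Q L` as a derived limit of `(Q Fₙ)`; transport of
`DCoh.IsRlim` along isomorphisms of towers (helper11).
-/

set_option autoImplicit false

open CategoryTheory Category Limits Pretriangulated DerivedCategory

universe w v u

namespace Groth.Agent.Helper11.RlimTw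

open Groth.Agent.Helper24.DProd

section Transport

variable {T : Type u} [Category.{v} T] [Preadditive T] [HasZeroObject T] [HasShift T ℤ]
  [∀ n : ℤ, (shiftFunctor T n).Additive] [Pretriangulated T]

/-- transport of `IsRlim` along an isomorphism of the limit object -/
theorem isRlim_of_iso_obj {K : ℕ → T} {t : ∀ n, K (n + 1) ⟶ K n} [HasProduct K] {L L' : T}
    (e : L ≅ L') (h : DCoh.IsRlim K t L) : DCoh.IsRlim K t L' := by
  obtain ⟨a, c, hT⟩ := h
  refine ⟨e.inv ≫ a, c ≫ e.hom⟦(1 : ℤ)⟧', isomorphic_distinguished _ hT _ ?_⟩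
  refine Triangle.isoMk _ _ e.symm (Iso.refl _) (Iso.refl _) ?_ ?_ ?_
  · exact comp_id _
  · exact (comp_id _).trans (id_comp _).symm
  · change (c ≫ (shiftFunctor T (1 : ℤ)).map e.hom) ≫ (shiftFunctor T (1 : ℤ)).map e.inv = 𝟙 _ ≫ c
    rw [assoc, ← Functor.map_comp, e.hom_inv_id, CategoryTheory.Functor.map_id, id_comp]
    exact comp_id c

/-- transport of `IsRlim` along an isomorphism of towers -/
theorem isRlim_of_iso_tower {K K' : ℕ → T} {t : ∀ n, K (n + 1) ⟶ K n}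
    {t' : ∀ n, K' (n + 1) ⟶ K' n} [HasProduct K] [HasProduct K'] {L : T}
    (e : ∀ n, K n ≅ K' n) (he : ∀ n, t n ≫ (e n).hom = (e (n + 1)).hom ≫ t' n)
    (h : DCoh.IsRlim K t L) : DCoh.IsRlim K' t' L := by
  obtain ⟨a, c, hT⟩ := h
  let E : ∏ᶜ K ≅ ∏ᶜ K' :=
    { hom := Limits.Pi.map fun n => (e n).hom
      inv := Limits.Pi.map fun n => (e n).inv
      hom_inv_id := by
        apply Pi.hom_ext
        intro n
        simp
      inv_hom_id := by
        apply Pi.hom_ext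
        intro n
        simp }
  refine ⟨a ≫ E.hom, E.inv ≫ c, isomorphic_distinguished _ hT _ ?_⟩
  refine Triangle.isoMk _ _ (Iso.refl _) E.symm E.symm ?_ ?_ ?_
  · change (a ≫ E.hom) ≫ E.inv = 𝟙 _ ≫ a
    rw [assoc, E.hom_inv_id, id_comp]
    exact comp_id a
  · change (Pi.lift fun n => Pi.π K' n - Pi.π K' (n + 1) ≫ t' n) ≫ E.inv =
      E.inv ≫ (Pi.lift fun n => Pi.π K n - Pi.π K (n + 1) ≫ t n)
    apply Pi.hom_ext
    intro n
    have h1 := he n
    have h2 : t' n ≫ (e n).inv = (e (n + 1)).inv ≫ t n := by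
      rw [← cancel_mono (e n).hom, assoc, assoc, Iso.inv_hom_id, comp_id, h1,
        Iso.inv_hom_id_assoc]
    simp only [E, assoc, Limits.Pi.map_π, Pi.lift_π, Preadditive.sub_comp, Preadditive.comp_sub,
      Limits.Pi.map_π_assoc, Pi.lift_π_assoc, h2]
  · change (E.inv ≫ c) ≫ (shiftFunctor T (1 : ℤ)).map (𝟙 L) = E.inv ≫ c
    rw [CategoryTheory.Functor.map_id]
    exact comp_id _

end Transport

section Cx

variable {𝒜 : Type u} [Category.{v} 𝒜] [Abelian 𝒜] [HasDerivedCategory.{w} 𝒜]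
  [HasProductsOfShape ℕ 𝒜] [PreservesFiniteColimits (lim : (Discrete ℕ ⥤ 𝒜) ⥤ 𝒜)]

/-- "identity minus shift" on the product of a tower of complexes -/
noncomputable def oneSubShift (F : ℕ → CochainComplex 𝒜 ℤ) (τ : ∀ n, F (n + 1) ⟶ F n) :
    prodCx F ⟶ prodCx F :=
  prodLift fun n => prodπ F n - prodπ F (n + 1) ≫ τ n

omit [HasDerivedCategory.{w} 𝒜] [PreservesFiniteColimits (lim : (Discrete ℕ ⥤ 𝒜) ⥤ 𝒜)] in
@[reassoc (attr := simp)]
theorem oneSubShift_π (F : ℕ → CochainComplex 𝒜 ℤ) (τ : ∀ n, F (n + 1) ⟶ F n) (n : ℕ) :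
    oneSubShift F τ ≫ prodπ F n = prodπ F n - prodπ F (n + 1) ≫ τ n :=
  prodLift_π _ n

/-- a short exact sequence `0 → L → ∏ Fₙ → ∏ Fₙ → 0` gives a derived limit -/
theorem isRlim_of_shortExact (F : ℕ → CochainComplex 𝒜 ℤ) (τ : ∀ n, F (n + 1) ⟶ F n)
    [HasProduct fun n => Q.obj (F n)]
    (L : CochainComplex 𝒜 ℤ) (f : L ⟶ prodCx F) (hf : f ≫ oneSubShift F τ = 0)
    (hS : (ShortComplex.mk f (oneSubShift F τ) hf).ShortExact) :
    DCoh.IsRlim (fun n => Q.obj (F n)) (fun n => Q.map (τ n)) (Q.obj L) := by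
  have hT := triangleOfSES_distinguished hS
  let c := isLimitFan' (𝒜 := 𝒜) F
  let e : Q.obj (prodCx F) ≅ ∏ᶜ fun n => Q.obj (F n) :=
    c.conePointUniqueUpToIso (productIsProduct fun n => Q.obj (F n))
  have heπ : ∀ n, e.hom ≫ Pi.π (fun n => Q.obj (F n)) n = Q.map (prodπ F n) := fun n =>
    c.conePointUniqueUpToIso_hom_comp (productIsProduct fun n => Q.obj (F n)) ⟨n⟩
  refine ⟨Q.map f ≫ e.hom, e.inv ≫ triangleOfSESδ hS, isomorphic_distinguished _ hT _ ?_⟩
  refine Triangle.isoMk _ _ (Iso.refl _) e.symm e.symm ?_ ?_ ?_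
  · change (Q.map f ≫ e.hom) ≫ e.inv = 𝟙 _ ≫ Q.map f
    rw [assoc, e.hom_inv_id, id_comp]
    exact comp_id _
  · change (Pi.lift fun n => Pi.π (fun n => Q.obj (F n)) n -
        Pi.π (fun n => Q.obj (F n)) (n + 1) ≫ Q.map (τ n)) ≫ e.inv =
      e.inv ≫ Q.map (oneSubShift F τ)
    rw [← cancel_mono e.hom, assoc, assoc, Iso.inv_hom_id, comp_id]
    apply Pi.hom_ext
    intro n
    rw [Pi.lift_π, assoc, assoc, heπ, ← Functor.map_comp, oneSubShift_π, Functor.map_sub,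
      Functor.map_comp, ← heπ n, ← heπ (n + 1), Preadditive.comp_sub, Iso.inv_hom_id_assoc, assoc,
      Iso.inv_hom_id_assoc]
  · change (e.inv ≫ triangleOfSESδ hS) ≫ (shiftFunctor _ (1 : ℤ)).map (𝟙 (Q.obj L)) =
      e.inv ≫ triangleOfSESδ hS
    rw [CategoryTheory.Functor.map_id]
    exact comp_id _

end Cx

end Groth.Agent.Helper11.RlimTw
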