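import Groth.Agent.Lib.Helper11.RlimTw1

/-!
Derived limits of towers of complexes of modules with surjective transition maps (helper11).
-/

set_option autoImplicit false

open CategoryTheory Category Limits Pretriangulated DerivedCategory

universe w u

namespace Groth.Agent.Helper11.RlimTw

open Groth.Agent.Helper24.DProd

variable {A : Type u} [CommRing A]

theorem pi_ext (Z : ℕ → ModuleCat.{u} A) (x y : ↑(∏ᶜ Z : ModuleCat.{u} A))
    (h : ∀ n, (Pi.π Z n).hom x = (Pi.π Z n).hom y) : x = y := by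
  have hinj : Function.Injective (ModuleCat.piIsoPi Z).hom.hom :=
    ((ModuleCat.mono_iff_injective _).mp inferInstance)
  apply hinj
  funext n
  have h1 := ModuleCat.piIsoPi_hom_ker_subtype_apply Z n x
  have h2 := ModuleCat.piIsoPi_hom_ker_subtype_apply Z n y
  exact (h1.trans (h n)).trans h2.symm

theorem pi_mk (Z : ℕ → ModuleCat.{u} A) (z : ∀ n, Z n) :
    ∃ x : ↑(∏ᶜ Z : ModuleCat.{u} A), ∀ n, (Pi.π Z n).hom x = z n :=
  ⟨(ModuleCat.piIsoPi Z).inv.hom z, fun n => ModuleCat.piIsoPi_inv_kernel_ι_apply Z n z⟩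

/-- a tower of complexes of modules with surjective transition maps, and a complex which is
degreewise its inverse limit, give a short exact sequence `0 → L → ∏ Fₙ → ∏ Fₙ → 0` -/
theorem shortExact_of_tower (F : ℕ → CochainComplex (ModuleCat.{u} A) ℤ)
    (τ : ∀ n, F (n + 1) ⟶ F n)
    (hτ : ∀ n q, Function.Surjective ((τ n).f q).hom)
    (L : CochainComplex (ModuleCat.{u} A) ℤ) (p : ∀ n, L ⟶ F n) (hp : ∀ n, p (n + 1) ≫ τ n = p n)
    (hinj : ∀ q (x : L.X q), (∀ n, ((p n).f q).hom x = 0) → x = 0)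
    (hsurj : ∀ q (y : ∀ n, (F n).X q), (∀ n, ((τ n).f q).hom (y (n + 1)) = y n) →
      ∃ x : L.X q, ∀ n, ((p n).f q).hom x = y n) :
    ∃ hf : prodLift p ≫ oneSubShift F τ = 0,
      (ShortComplex.mk (prodLift p) (oneSubShift F τ) hf).ShortExact := by
  have hf : prodLift p ≫ oneSubShift F τ = 0 := by
    apply prod_hom_ext
    intro n
    rw [assoc, oneSubShift_π, Preadditive.comp_sub, prodLift_π, prodLift_π_assoc, hp, sub_self,
      zero_comp]
  refine ⟨hf, HomologicalComplex.shortExact_of_degreewise_shortExact _ (fun q => ?_)⟩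
  -- degreewise description of the maps
  have hfπ : ∀ n (x : L.X q), (Pi.π (fun n => (F n).X q) n).hom (((prodLift p).f q).hom x) =
      ((p n).f q).hom x := by
    intro n x
    have h1 : (prodLift p).f q ≫ Pi.π (fun n => (F n).X q) n = (p n).f q := by
      have := congrArg (fun φ => φ.f q) (prodLift_π p n)
      exact this
    rw [← h1]
    rfl
  have hgπ : ∀ n (x : (prodCx F).X q),
      (Pi.π (fun n => (F n).X q) n).hom (((oneSubShift F τ).f q).hom x) =
        (Pi.π (fun n => (F n).X q) n).hom x -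
          ((τ n).f q).hom ((Pi.π (fun n => (F n).X q) (n + 1)).hom x) := by
    intro n x
    have h1 : (oneSubShift F τ).f q ≫ Pi.π (fun n => (F n).X q) n =
        Pi.π (fun n => (F n).X q) n - Pi.π (fun n => (F n).X q) (n + 1) ≫ (τ n).f q := by
      have := congrArg (fun φ => φ.f q) (oneSubShift_π F τ n)
      exact this
    have h2 : (Pi.π (fun n => (F n).X q) n).hom (((oneSubShift F τ).f q).hom x) =
        ((oneSubShift F τ).f q ≫ Pi.π (fun n => (F n).X q) n).hom x := rfl
    rw [h2, h1]
    rfl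
  refine ShortComplex.ShortExact.mk' ?_ ?_ ?_
  · -- exactness
    rw [ShortComplex.moduleCat_exact_iff]
    intro (x : (prodCx F).X q) hx
    change ((oneSubShift F τ).f q).hom x = 0 at hx
    let y : ∀ n, (F n).X q := fun n => (Pi.π (fun n => (F n).X q) n).hom x
    have hy : ∀ n, ((τ n).f q).hom (y (n + 1)) = y n := by
      intro n
      have h4 : (Pi.π (fun n => (F n).X q) n).hom (((oneSubShift F τ).f q).hom x) = 0 := by
        rw [hx]
        exact map_zero _
      have h5 := (hgπ n x).symm.trans h4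
      exact (sub_eq_zero.mp h5).symm
    obtain ⟨l, hl⟩ := hsurj q y hy
    refine ⟨l, ?_⟩
    change ((prodLift p).f q).hom l = x
    apply pi_ext
    intro n
    rw [hfπ, hl]
  · -- injectivity
    rw [ModuleCat.mono_iff_injective]
    intro (x : L.X q) (x' : L.X q) hxx
    change ((prodLift p).f q).hom x = ((prodLift p).f q).hom x' at hxx
    have h3 : x - x' = 0 := by
      apply hinj
      intro n
      have h6 : ((p n).f q).hom (x - x') = ((p n).f q).hom x - ((p n).f q).hom x' :=
        map_sub _ x x'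
      rw [h6, ← hfπ n x, ← hfπ n x', hxx, sub_self]
    exact sub_eq_zero.mp h3
  · -- surjectivity
    rw [ModuleCat.epi_iff_surjective]
    intro (y : (prodCx F).X q)
    let yn : ∀ n, (F n).X q := fun n => (Pi.π (fun n => (F n).X q) n).hom y
    let xs : ∀ n, (F n).X q := fun n =>
      Nat.rec (motive := fun n => (F n).X q) 0 (fun n xn => (hτ n q (xn - yn n)).choose) n
    have hxs : ∀ n, ((τ n).f q).hom (xs (n + 1)) = xs n - yn n := fun n =>
      (hτ n q (xs n - yn n)).choose_spec
    obtain ⟨x, hx⟩ := pi_mk (fun n => (F n).X q) xs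
    refine ⟨x, ?_⟩
    change ((oneSubShift F τ).f q).hom x = y
    apply pi_ext
    intro n
    refine (hgπ n x).trans ?_
    rw [hx, hx, hxs]
    exact sub_sub_cancel _ _

/-- the derived limit statement for towers of complexes of modules -/
theorem isRlim_of_tower [HasDerivedCategory.{w} (ModuleCat.{u} A)]
    (F : ℕ → CochainComplex (ModuleCat.{u} A) ℤ) (τ : ∀ n, F (n + 1) ⟶ F n)
    [HasProduct fun n => Q.obj (F n)]
    (hτ : ∀ n q, Function.Surjective ((τ n).f q).hom)
    (L : CochainComplex (ModuleCat.{u} A) ℤ) (p : ∀ n, L ⟶ F n) (hp : ∀ n, p (n + 1) ≫ τ n = p n)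
    (hinj : ∀ q (x : L.X q), (∀ n, ((p n).f q).hom x = 0) → x = 0)
    (hsurj : ∀ q (y : ∀ n, (F n).X q), (∀ n, ((τ n).f q).hom (y (n + 1)) = y n) →
      ∃ x : L.X q, ∀ n, ((p n).f q).hom x = y n) :
    DCoh.IsRlim (fun n => Q.obj (F n)) (fun n => Q.map (τ n)) (Q.obj L) := by
  obtain ⟨hf, hS⟩ := shortExact_of_tower F τ hτ L p hp hinj hsurj
  exact isRlim_of_shortExact F τ L (prodLift p) hf hS

end Groth.Agent.Helper11.RlimTw
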