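import Groth.Prelude.Def_HTop2
import Mathlib.RingTheory.Localization.Away.Basic
import Mathlib.RingTheory.Ideal.Basic
import Mathlib.RingTheory.Ideal.Operations
import Mathlib.RingTheory.Nilpotent.Defs
import Mathlib.Algebra.CharP.Lemmas
import Mathlib.LinearAlgebra.Finsupp.LinearCombination

/-!
Generic "weighted root extraction" conditions on rings, covering seminormality
(`x^3 = y^2 → ∃! a, x = a^2 ∧ y = a^3`) and the `p`-condition of absolute weak normality
(`p^p x = y^p → ∃! a, x = a^p ∧ y = p a`), and their behaviour under localization.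
-/

namespace Groth.Agent.Helper11.SemiN

/-- Parameters: relation `r1 * x^e1 = r2 * y^e2`, solutions `x = k1 * a^d1`, `y = k2 * a^d2`. -/
structure Par where
  k1 : ℕ
  d1 : ℕ
  k2 : ℕ
  d2 : ℕ
  r1 : ℕ
  e1 : ℕ
  r2 : ℕ
  e2 : ℕ
  hd1 : 0 < d1
  hd2 : 0 < d2
  he1 : 0 < e1
  hom : e1 * d1 = e2 * d2
  cons : r1 * k1 ^ e1 = r2 * k2 ^ e2

variable (P : Par) (A : Type*) [CommRing A]

def Rel (x y : A) : Prop := (P.r1 : A) * x ^ P.e1 = (P.r2 : A) * y ^ P.e2

def Sol (x y a : A) : Prop := x = (P.k1 : A) * a ^ P.d1 ∧ y = (P.k2 : A) * a ^ P.d2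

def Good : Prop := ∀ x y : A, Rel P A x y → ∃! a, Sol P A x y a

def Uniq : Prop := ∀ a b : A, (P.k1 : A) * a ^ P.d1 = P.k1 * b ^ P.d1 →
  (P.k2 : A) * a ^ P.d2 = P.k2 * b ^ P.d2 → a = b

def Ex : Prop := ∀ x y : A, Rel P A x y → ∃ a, Sol P A x y a

lemma rel_of_sol (a : A) : Rel P A ((P.k1 : A) * a ^ P.d1) ((P.k2 : A) * a ^ P.d2) := by
  unfold Rel
  have h1 : ((P.r1 * P.k1 ^ P.e1 : ℕ) : A) = ((P.r2 * P.k2 ^ P.e2 : ℕ) : A) := by rw [P.cons]
  push_cast at h1
  have h2 : (a ^ P.d1) ^ P.e1 = (a ^ P.d2) ^ P.e2 := by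
    rw [← pow_mul, ← pow_mul, mul_comm P.d1, mul_comm P.d2, P.hom]
  rw [mul_pow, mul_pow, h2, ← mul_assoc, ← mul_assoc, h1]

lemma good_iff : Good P A ↔ Uniq P A ∧ Ex P A := by
  constructor
  · intro h
    refine ⟨fun a b h1 h2 => ?_, fun x y hxy => (h x y hxy).exists⟩
    obtain ⟨c, -, hc⟩ := h _ _ (rel_of_sol P A a)
    rw [hc a ⟨rfl, rfl⟩, hc b ⟨h1, h2⟩]
  · rintro ⟨hU, hE⟩ x y hxy
    obtain ⟨a, ha⟩ := hE x y hxy
    refine ⟨a, ha, fun b hb => hU b a ?_ ?_⟩
    · rw [← hb.1, ← ha.1]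
    · rw [← hb.2, ← ha.2]

variable {A}

lemma eq_zero_of_span (s : Finset A) (hs : Ideal.span (s : Set A) = ⊤) (z : A)
    (h : ∀ f ∈ s, ∃ n : ℕ, f ^ n * z = 0) : z = 0 := by
  let I : Ideal A :=
    { carrier := {r | r * z = 0}
      add_mem' := by
        intro a b ha hb
        simp only [Set.mem_ofPred_eq] at ha hb ⊢
        rw [add_mul, ha, hb, add_zero]
      zero_mem' := by simp
      smul_mem' := by
        intro c a ha
        simp only [Set.mem_ofPred_eq, smul_eq_mul] at ha ⊢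
        rw [mul_assoc, ha, mul_zero] }
  have h1 : Ideal.span (s : Set A) ≤ I.radical := by
    rw [Ideal.span_le]
    intro f hf
    obtain ⟨n, hn⟩ := h f hf
    exact ⟨n, hn⟩
  rw [hs, top_le_iff, Ideal.radical_eq_top] at h1
  have h2 : (1 : A) ∈ I := by rw [h1]; trivial
  have h3 : (1 : A) * z = 0 := h2
  rwa [one_mul] at h3

/-- The local datum at `f` for solving `(x, y)`. -/
def Q (x y f : A) (n : ℕ) (c : A) : Prop :=
  (P.k1 : A) * c ^ P.d1 = x * f ^ (P.d1 * n) ∧ (P.k2 : A) * c ^ P.d2 = y * f ^ (P.d2 * n)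

lemma Q_mono (x y f : A) (n : ℕ) (c : A) (h : Q P x y f n c) (k : ℕ) :
    Q P x y f (n + k) (c * f ^ k) := by
  obtain ⟨h1, h2⟩ := h
  refine ⟨?_, ?_⟩
  · rw [mul_pow, ← mul_assoc, h1, mul_add, pow_add, ← pow_mul, mul_assoc, mul_comm k]
  · rw [mul_pow, ← mul_assoc, h2, mul_add, pow_add, ← pow_mul, mul_assoc, mul_comm k]

lemma Q_uniform (x y : A) (s : Finset A) (h : ∀ f ∈ s, ∃ n c, Q P x y f n c) :
    ∃ N, ∀ f ∈ s, ∃ c, Q P x y f N c := by
  classical
  induction s using Finset.induction_on with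
  | empty => exact ⟨0, by simp⟩
  | insert g s hg ih =>
    obtain ⟨N, hN⟩ := ih (fun f hf => h f (Finset.mem_insert_of_mem hf))
    obtain ⟨n, c, hc⟩ := h g (Finset.mem_insert_self g s)
    refine ⟨n + N, fun f hf => ?_⟩
    rcases Finset.mem_insert.mp hf with rfl | hf
    · exact ⟨_, Q_mono P x y f n c hc N⟩
    · obtain ⟨c', hc'⟩ := hN f hf
      refine ⟨c' * f ^ n, ?_⟩
      have := Q_mono P x y f N c' hc' n
      rwa [add_comm] at this

lemma glue (hU : Uniq P A) (s : Finset A) (hs : Ideal.span (s : Set A) = ⊤) (x y : A)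
    (h : ∀ f ∈ s, ∃ n c, Q P x y f n c) : ∃ a, Sol P A x y a := by
  classical
  obtain ⟨N, hN⟩ := Q_uniform P x y s h
  choose! c hc using hN
  -- cross relation
  have hcross : ∀ f ∈ s, ∀ g ∈ s, c f * g ^ N = c g * f ^ N := by
    intro f hf g hg
    obtain ⟨hf1, hf2⟩ := hc f hf
    obtain ⟨hg1, hg2⟩ := hc g hg
    apply hU
    · rw [mul_pow, mul_pow, ← mul_assoc, ← mul_assoc, hf1, hg1, ← pow_mul, ← pow_mul,
        mul_comm N]
      ring
    · rw [mul_pow, mul_pow, ← mul_assoc, ← mul_assoc, hf2, hg2, ← pow_mul, ← pow_mul,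
        mul_comm N]
      ring
  have hspan : Ideal.span ((fun f : A => f ^ N) '' (s : Set A)) = ⊤ :=
    Ideal.span_pow_eq_top _ hs N
  have h1 : (1 : A) ∈ Ideal.span ((fun f : A => f ^ N) '' (s : Set A)) := by
    rw [hspan]; trivial
  rw [Ideal.span, Submodule.mem_span_image_iff_exists_fun] at h1
  obtain ⟨t, hts, r, hr⟩ := h1
  -- define a
  let a : A := ∑ i : t, r i * c (i : A)
  have hga : ∀ g ∈ s, g ^ N * a = c g := by
    intro g hg
    calc g ^ N * a = ∑ i : t, r i * (c (i : A) * g ^ N) := by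
          simp only [a, Finset.mul_sum]
          refine Finset.sum_congr rfl fun i _ => ?_
          ring
      _ = ∑ i : t, r i * (c g * (i : A) ^ N) := by
          refine Finset.sum_congr rfl fun i _ => ?_
          rw [hcross (i : A) (hts i.2) g hg]
      _ = c g * ∑ i : t, r i • (i : A) ^ N := by
          rw [Finset.mul_sum]
          refine Finset.sum_congr rfl fun i _ => ?_
          simp only [smul_eq_mul]
          ring
      _ = c g := by rw [hr, mul_one]
  refine ⟨a, ?_, ?_⟩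
  · have : x - (P.k1 : A) * a ^ P.d1 = 0 := by
      apply eq_zero_of_span s hs
      intro g hg
      refine ⟨P.d1 * N, ?_⟩
      obtain ⟨hg1, -⟩ := hc g hg
      have : g ^ (P.d1 * N) * ((P.k1 : A) * a ^ P.d1) = (P.k1 : A) * (g ^ N * a) ^ P.d1 := by
        rw [mul_pow, ← pow_mul, mul_comm N]; ring
      rw [mul_sub, this, hga g hg, hg1]; ring
    exact sub_eq_zero.mp this
  · have : y - (P.k2 : A) * a ^ P.d2 = 0 := by
      apply eq_zero_of_span s hs
      intro g hg
      refine ⟨P.d2 * N, ?_⟩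
      obtain ⟨-, hg2⟩ := hc g hg
      have : g ^ (P.d2 * N) * ((P.k2 : A) * a ^ P.d2) = (P.k2 : A) * (g ^ N * a) ^ P.d2 := by
        rw [mul_pow, ← pow_mul, mul_comm N]; ring
      rw [mul_sub, this, hga g hg, hg2]; ring
    exact sub_eq_zero.mp this

section Loc

variable (f : A) (S : Type*) [CommRing S] [Algebra A S] [IsLocalization.Away f S]

omit [IsLocalization.Away f S] in
lemma rel_map (x y : A) (h : Rel P A x y) : Rel P S (algebraMap A S x) (algebraMap A S y) := by
  unfold Rel at h ⊢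
  have := congrArg (algebraMap A S) h
  simpa only [map_mul, map_pow, map_natCast] using this

lemma locEx (x y : A) (α : S) (h : Sol P S (algebraMap A S x) (algebraMap A S y) α) :
    ∃ n c, Q P x y f n c := by
  obtain ⟨h1, h2⟩ := h
  obtain ⟨n, b, hb⟩ := IsLocalization.Away.surj f α
  have e1 : algebraMap A S ((P.k1 : A) * b ^ P.d1) = algebraMap A S (x * f ^ (P.d1 * n)) := by
    simp only [map_mul, map_pow, map_natCast]
    rw [← hb, h1, mul_pow, ← pow_mul, mul_comm n]; ring
  have e2 : algebraMap A S ((P.k2 : A) * b ^ P.d2) = algebraMap A S (y * f ^ (P.d2 * n)) := by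
    simp only [map_mul, map_pow, map_natCast]
    rw [← hb, h2, mul_pow, ← pow_mul, mul_comm n]; ring
  obtain ⟨m1, hm1⟩ := IsLocalization.Away.exists_of_eq f e1
  obtain ⟨m2, hm2⟩ := IsLocalization.Away.exists_of_eq f e2
  refine ⟨n + (m1 + m2), b * f ^ (m1 + m2), ?_, ?_⟩
  · obtain ⟨t, ht⟩ : ∃ t, (m1 + m2) * P.d1 = m1 + t :=
      ⟨(m1 + m2) * P.d1 - m1, by
        have : m1 ≤ (m1 + m2) * P.d1 :=
          le_trans (Nat.le_add_right _ _) (Nat.le_mul_of_pos_right _ P.hd1)
        omega⟩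
    rw [mul_pow, ← pow_mul, ht, mul_add, pow_add, pow_add, mul_comm P.d1 (m1 + m2), ht, pow_add]
    linear_combination (f ^ t) * hm1
  · obtain ⟨t, ht⟩ : ∃ t, (m1 + m2) * P.d2 = m2 + t :=
      ⟨(m1 + m2) * P.d2 - m2, by
        have : m2 ≤ (m1 + m2) * P.d2 :=
          le_trans (Nat.le_add_left _ _) (Nat.le_mul_of_pos_right _ P.hd2)
        omega⟩
    rw [mul_pow, ← pow_mul, ht, mul_add, pow_add, pow_add, mul_comm P.d2 (m1 + m2), ht, pow_add]
    linear_combination (f ^ t) * hm2

include f in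
/-- Uniqueness descends to a localization away from an element. -/
lemma uniq_loc (hU : Uniq P A) : Uniq P S := by
  intro α β h1 h2
  obtain ⟨n, a, ha⟩ := IsLocalization.Away.surj f α
  obtain ⟨n', b, hb⟩ := IsLocalization.Away.surj f β
  set F := algebraMap A S f with hF
  have hFu : IsUnit F := IsLocalization.Away.algebraMap_isUnit f
  -- common denominators
  obtain ⟨N, a', b', ha', hb'⟩ : ∃ (N : ℕ) (a' b' : A), α * F ^ N = algebraMap A S a' ∧
      β * F ^ N = algebraMap A S b' := by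
    refine ⟨n + n', a * f ^ n', b * f ^ n, ?_, ?_⟩
    · rw [pow_add, ← mul_assoc, ha, map_mul, map_pow]
    · rw [pow_add, mul_comm (F ^ n), ← mul_assoc, hb, map_mul, map_pow]
  have e1 : algebraMap A S ((P.k1 : A) * a' ^ P.d1) = algebraMap A S ((P.k1 : A) * b' ^ P.d1) := by
    simp only [map_mul, map_pow, map_natCast]
    rw [← ha', ← hb', mul_pow, mul_pow, ← mul_assoc, ← mul_assoc, h1]
  have e2 : algebraMap A S ((P.k2 : A) * a' ^ P.d2) = algebraMap A S ((P.k2 : A) * b' ^ P.d2) := by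
    simp only [map_mul, map_pow, map_natCast]
    rw [← ha', ← hb', mul_pow, mul_pow, ← mul_assoc, ← mul_assoc, h2]
  obtain ⟨m1, hm1⟩ := IsLocalization.Away.exists_of_eq f e1
  obtain ⟨m2, hm2⟩ := IsLocalization.Away.exists_of_eq f e2
  have key : a' * f ^ (m1 + m2) = b' * f ^ (m1 + m2) := by
    apply hU
    · obtain ⟨t, ht⟩ : ∃ t, (m1 + m2) * P.d1 = m1 + t :=
        ⟨(m1 + m2) * P.d1 - m1, by
          have : m1 ≤ (m1 + m2) * P.d1 :=
            le_trans (Nat.le_add_right _ _) (Nat.le_mul_of_pos_right _ P.hd1)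
          omega⟩
      rw [mul_pow, mul_pow, ← pow_mul, ht, pow_add]
      linear_combination (f ^ t) * hm1
    · obtain ⟨t, ht⟩ : ∃ t, (m1 + m2) * P.d2 = m2 + t :=
        ⟨(m1 + m2) * P.d2 - m2, by
          have : m2 ≤ (m1 + m2) * P.d2 :=
            le_trans (Nat.le_add_left _ _) (Nat.le_mul_of_pos_right _ P.hd2)
          omega⟩
      rw [mul_pow, mul_pow, ← pow_mul, ht, pow_add]
      linear_combination (f ^ t) * hm2
  have key' := congrArg (algebraMap A S) key
  simp only [map_mul, map_pow] at key'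
  rw [← ha', ← hb'] at key'
  have hu : IsUnit (F ^ N * F ^ (m1 + m2)) := (hFu.pow _).mul (hFu.pow _)
  rw [mul_assoc, mul_assoc] at key'
  exact hu.mul_left_injective key'

include f in
/-- Existence descends to a localization away from an element. -/
lemma ex_loc (hE : Ex P A) : Ex P S := by
  intro X Y hXY
  obtain ⟨n, u, hu⟩ := IsLocalization.Away.surj f X
  obtain ⟨m, v, hv⟩ := IsLocalization.Away.surj f Y
  set F := algebraMap A S f with hF
  have hFu : IsUnit F := IsLocalization.Away.algebraMap_isUnit f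
  obtain ⟨G, hG⟩ := isUnit_iff_exists_inv.mp hFu
  have hFG : ∀ k : ℕ, F ^ k * G ^ k = 1 := fun k => by rw [← mul_pow, hG, one_pow]
  set K := n + m with hK
  obtain ⟨t1, ht1⟩ : ∃ t, P.d1 * K = n + t :=
    ⟨P.d1 * K - n, by
      have : n ≤ P.d1 * K :=
        le_trans (Nat.le_add_right _ _) (Nat.le_mul_of_pos_left _ P.hd1)
      omega⟩
  obtain ⟨t2, ht2⟩ : ∃ t, P.d2 * K = m + t :=
    ⟨P.d2 * K - m, by
      have : m ≤ P.d2 * K :=
        le_trans (Nat.le_add_left _ _) (Nat.le_mul_of_pos_left _ P.hd2)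
      omega⟩
  obtain ⟨u', hu'⟩ : ∃ u' : A, X * F ^ (P.d1 * K) = algebraMap A S u' :=
    ⟨u * f ^ t1, by rw [ht1, pow_add, ← mul_assoc, hu, map_mul, map_pow]⟩
  obtain ⟨v', hv'⟩ : ∃ v' : A, Y * F ^ (P.d2 * K) = algebraMap A S v' :=
    ⟨v * f ^ t2, by rw [ht2, pow_add, ← mul_assoc, hv, map_mul, map_pow]⟩
  have e : algebraMap A S ((P.r1 : A) * u' ^ P.e1) = algebraMap A S ((P.r2 : A) * v' ^ P.e2) := by
    simp only [map_mul, map_pow, map_natCast]
    rw [← hu', ← hv', mul_pow, mul_pow, ← mul_assoc, ← mul_assoc, hXY, ← pow_mul, ← pow_mul]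
    have : P.d1 * K * P.e1 = P.d2 * K * P.e2 := by
      have := P.hom
      calc P.d1 * K * P.e1 = (P.e1 * P.d1) * K := by ring
        _ = (P.e2 * P.d2) * K := by rw [this]
        _ = P.d2 * K * P.e2 := by ring
    rw [this]
  obtain ⟨N, hN⟩ := IsLocalization.Away.exists_of_eq f e
  -- adjust by powers of f
  have hrel : Rel P A (u' * f ^ (P.d1 * N)) (v' * f ^ (P.d2 * N)) := by
    unfold Rel
    obtain ⟨t, ht⟩ : ∃ t, P.d1 * N * P.e1 = N + t :=
      ⟨P.d1 * N * P.e1 - N, by
        have : N ≤ P.d1 * N * P.e1 :=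
          le_trans (Nat.le_mul_of_pos_left _ P.hd1) (Nat.le_mul_of_pos_right _ P.he1)
        omega⟩
    have ht' : P.d2 * N * P.e2 = N + t := by
      rw [← ht]
      have := P.hom
      calc P.d2 * N * P.e2 = (P.e2 * P.d2) * N := by ring
        _ = (P.e1 * P.d1) * N := by rw [this]
        _ = P.d1 * N * P.e1 := by ring
    rw [mul_pow, mul_pow, ← pow_mul, ← pow_mul, ht, ht', pow_add]
    linear_combination (f ^ t) * hN
  obtain ⟨a, ha1, ha2⟩ := hE _ _ hrel
  refine ⟨algebraMap A S a * G ^ (K + N), ?_, ?_⟩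
  · have h1 : X * F ^ (P.d1 * (K + N)) = (P.k1 : S) * (algebraMap A S a) ^ P.d1 := by
      have := congrArg (algebraMap A S) ha1
      simp only [map_mul, map_pow, map_natCast] at this
      rw [← this, ← hu', mul_add, pow_add, mul_assoc]
    calc X = X * (F ^ (P.d1 * (K + N)) * G ^ (P.d1 * (K + N))) := by rw [hFG, mul_one]
      _ = (P.k1 : S) * (algebraMap A S a) ^ P.d1 * G ^ (P.d1 * (K + N)) := by
          rw [← mul_assoc, h1]
      _ = (P.k1 : S) * (algebraMap A S a * G ^ (K + N)) ^ P.d1 := by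
          rw [mul_pow, ← pow_mul, mul_comm (K + N), mul_assoc]
  · have h2 : Y * F ^ (P.d2 * (K + N)) = (P.k2 : S) * (algebraMap A S a) ^ P.d2 := by
      have := congrArg (algebraMap A S) ha2
      simp only [map_mul, map_pow, map_natCast] at this
      rw [← this, ← hv', mul_add, pow_add, mul_assoc]
    calc Y = Y * (F ^ (P.d2 * (K + N)) * G ^ (P.d2 * (K + N))) := by rw [hFG, mul_one]
      _ = (P.k2 : S) * (algebraMap A S a) ^ P.d2 * G ^ (P.d2 * (K + N)) := by
          rw [← mul_assoc, h2]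
      _ = (P.k2 : S) * (algebraMap A S a * G ^ (K + N)) ^ P.d2 := by
          rw [mul_pow, ← pow_mul, mul_comm (K + N), mul_assoc]

include f in
/-- Goodness passes to localizations away from an element. -/
theorem good_loc (h : Good P A) : Good P S := by
  rw [good_iff] at h ⊢
  exact ⟨uniq_loc P f S h.1, ex_loc P f S h.2⟩

end Loc

/-- Uniqueness is local. -/
lemma uniq_local (s : Finset A) (hs : Ideal.span (s : Set A) = ⊤)
    (h : ∀ f ∈ s, Uniq P (Localization.Away f)) : Uniq P A := by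
  intro a b h1 h2
  have : a - b = 0 := by
    apply eq_zero_of_span s hs
    intro f hf
    have e : algebraMap A (Localization.Away f) a = algebraMap A (Localization.Away f) b := by
      apply h f hf
      · have := congrArg (algebraMap A (Localization.Away f)) h1
        simpa only [map_mul, map_pow, map_natCast] using this
      · have := congrArg (algebraMap A (Localization.Away f)) h2
        simpa only [map_mul, map_pow, map_natCast] using this
    obtain ⟨n, hn⟩ := IsLocalization.Away.exists_of_eq f e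
    exact ⟨n, by rw [mul_sub, hn, sub_self]⟩
  exact sub_eq_zero.mp this

/-- Goodness is local. -/
theorem good_local (s : Finset A) (hs : Ideal.span (s : Set A) = ⊤)
    (h : ∀ f ∈ s, Good P (Localization.Away f)) : Good P A := by
  have h' : ∀ f ∈ s, Uniq P (Localization.Away f) ∧ Ex P (Localization.Away f) :=
    fun f hf => (good_iff P _).mp (h f hf)
  rw [good_iff]
  have hU : Uniq P A := uniq_local P s hs (fun f hf => (h' f hf).1)
  refine ⟨hU, fun x y hxy => ?_⟩
  apply glue P hU s hs x y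
  intro f hf
  obtain ⟨α, hα⟩ := (h' f hf).2 _ _ (rel_map P (Localization.Away f) x y hxy)
  exact locEx P f (Localization.Away f) x y α hα

/-- Goodness is invariant under ring isomorphisms. -/
theorem good_of_ringEquiv {B : Type*} [CommRing B] (e : A ≃+* B) (h : Good P A) : Good P B := by
  intro x y hxy
  have hrel : Rel P A (e.symm x) (e.symm y) := by
    unfold Rel at hxy ⊢
    have := congrArg e.symm hxy
    simpa only [map_mul, map_pow, map_natCast] using this
  obtain ⟨a, ⟨ha1, ha2⟩, hau⟩ := h _ _ hrel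
  refine ⟨e a, ⟨?_, ?_⟩, ?_⟩
  · have := congrArg e ha1
    simpa only [map_mul, map_pow, map_natCast, RingEquiv.apply_symm_apply] using this
  · have := congrArg e ha2
    simpa only [map_mul, map_pow, map_natCast, RingEquiv.apply_symm_apply] using this
  · rintro b ⟨hb1, hb2⟩
    have : e.symm b = a := by
      apply hau
      refine ⟨?_, ?_⟩
      · have := congrArg e.symm hb1
        simpa only [map_mul, map_pow, map_natCast] using this
      · have := congrArg e.symm hb2
        simpa only [map_mul, map_pow, map_natCast] using this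
    rw [← this, RingEquiv.apply_symm_apply]

/-! ### Specializations -/

/-- Parameters for seminormality. -/
def semiPar : Par where
  k1 := 1
  d1 := 2
  k2 := 1
  d2 := 3
  r1 := 1
  e1 := 3
  r2 := 1
  e2 := 2
  hd1 := by norm_num
  hd2 := by norm_num
  he1 := by norm_num
  hom := by norm_num
  cons := by norm_num

/-- Parameters for the `p`-condition of absolute weak normality. -/
def pPar (p : ℕ) (hp : 0 < p) : Par where
  k1 := 1
  d1 := p
  k2 := p
  d2 := 1
  r1 := p ^ p
  e1 := 1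
  r2 := 1
  e2 := p
  hd1 := hp
  hd2 := by norm_num
  he1 := by norm_num
  hom := by simp
  cons := by simp

theorem seminormal_iff_good (A : Type*) [CommRing A] :
    HTop.IsSeminormalRing A ↔ Good semiPar A := by
  unfold HTop.IsSeminormalRing Good Rel Sol
  simp only [semiPar, Nat.cast_one, one_mul]

/-- The `p`-part of absolute weak normality. -/
def PCond (A : Type*) [CommRing A] (p : ℕ) : Prop :=
  ∀ x y : A, (p : A) ^ p * x = y ^ p → ∃! a : A, x = a ^ p ∧ y = (p : A) * a

theorem pCond_iff_good (A : Type*) [CommRing A] (p : ℕ) (hp : 0 < p) :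
    PCond A p ↔ Good (pPar p hp) A := by
  unfold PCond Good Rel Sol
  simp only [pPar, Nat.cast_one, one_mul, pow_one, Nat.cast_pow]

theorem awn_iff (A : Type*) [CommRing A] :
    HTop.IsAWNRing A ↔ HTop.IsSeminormalRing A ∧ ∀ p : ℕ, p.Prime → PCond A p := Iff.rfl

end Groth.Agent.Helper11.SemiN
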