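import Groth.Prelude.Def_W4stktopologysheavesBas

/-!
# Sheaves on a basis: cofinal systems of coverings
-/

namespace Groth.Agent.Helper11.ShBLib

open TopologicalSpace ShB

universe u

variable {X : Type u} [TopologicalSpace X] {B : Set (Opens X)}

/-- Separatedness: sections agreeing on a covering by members agree. -/
def IsSep (F : Pre B) : Prop :=
  ∀ (U : B) (ι : Type u) (V : ι → B) (hV : ∀ i, (V i : Opens X) ≤ (U : Opens X)),
    (U : Opens X) ≤ ⨆ i, (V i : Opens X) →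
    ∀ a b : F.obj U, (∀ i, F.res (hV i) a = F.res (hV i) b) → a = b

theorem sep_aux (F : Pre B) (c : Cover B) (hc : GluesUniquely F c) (a b : F.obj c.U)
    (h : ∀ i, F.res (c.V_le i) a = F.res (c.V_le i) b) : a = b := by
  have hcompat : ∀ i j k, F.res (c.W_le_left i j k) (F.res (c.V_le i) a) =
      F.res (c.W_le_right i j k) (F.res (c.V_le j) a) := by
    intro i j k
    rw [F.res_comp, F.res_comp]
  exact (hc (fun i => F.res (c.V_le i) a) hcompat).unique (fun i => rfl) (fun i => (h i).symm)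

section Cofinal

variable (F : Pre B) (C : ∀ U : B, Set (Cover B)) (hCU : ∀ U, ∀ c ∈ C U, c.U = U)
  (hC : ∀ (U : B) (ι : Type u) (V : ι → B), (∀ i, (V i : Opens X) ≤ (U : Opens X)) →
      (U : Opens X) ≤ ⨆ i, (V i : Opens X) →
      ∃ c ∈ C U, ∀ i' : c.ι, ∃ i, (c.V i' : Opens X) ≤ (V i : Opens X))
  (H : ∀ U, ∀ c ∈ C U, GluesUniquely F c)

include hCU hC H in
theorem isSep_of_cofinal : IsSep F := by
  intro U ι V hV hcov a b hab
  obtain ⟨c, hc, href⟩ := hC U ι V hV hcov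
  have hcU := hCU U c hc
  have hglue := H U c hc
  subst hcU
  refine sep_aux F c hglue a b fun i' => ?_
  obtain ⟨i, hi⟩ := href i'
  have h1 := congrArg (F.res hi) (hab i)
  rw [F.res_comp, F.res_comp] at h1
  exact h1

/-- Sections agreeing on members covering an open agree on any member inside that open. -/
theorem agree_of_cover (hB : Opens.IsBasis B) (hsep : IsSep F) {P Q : B} (a : F.obj P)
    (b : F.obj Q) {κ : Type u} (W : κ → B) (hWP : ∀ k, (W k : Opens X) ≤ (P : Opens X))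
    (hWQ : ∀ k, (W k : Opens X) ≤ (Q : Opens X))
    (hab : ∀ k, F.res (hWP k) a = F.res (hWQ k) b)
    (O : B) (hOP : (O : Opens X) ≤ (P : Opens X)) (hOQ : (O : Opens X) ≤ (Q : Opens X))
    (hO : (O : Opens X) ≤ ⨆ k, (W k : Opens X)) : F.res hOP a = F.res hOQ b := by
  have hx : ∀ x : (O : Opens X), ∃ (k : κ) (N : B), x.1 ∈ (N : Opens X) ∧
      (N : Opens X) ≤ (O : Opens X) ∧ (N : Opens X) ≤ (W k : Opens X) := by
    intro x
    obtain ⟨k, hk⟩ := Opens.mem_iSup.1 (hO x.2)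
    obtain ⟨N, hNB, hxN, hN⟩ := Opens.isBasis_iff_nbhd.1 hB
      (show x.1 ∈ (O : Opens X) ⊓ (W k : Opens X) from ⟨x.2, hk⟩)
    exact ⟨k, ⟨N, hNB⟩, hxN, hN.trans inf_le_left, hN.trans inf_le_right⟩
  choose k N hxN hNO hNW using hx
  refine hsep O _ N hNO ?_ _ _ fun x => ?_
  · intro y hy
    exact Opens.mem_iSup.2 ⟨⟨y, hy⟩, hxN ⟨y, hy⟩⟩
  · rw [F.res_comp, F.res_comp]
    have h1 := congrArg (F.res (hNW x)) (hab (k x))
    rw [F.res_comp, F.res_comp] at h1
    exact h1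

include hCU hC H in
theorem isSheaf_of_cofinal (hB : Opens.IsBasis B) : IsSheaf F := by
  have hsep : IsSep F := isSep_of_cofinal F C hCU hC H
  rintro ⟨U, ι, V, V_le, V_cover, κ, W, Wl, Wr, Wc⟩ s hs
  dsimp only at s hs ⊢
  -- Step A
  have stepA : ∀ (i j : ι) (O : B) (hOi : (O : Opens X) ≤ (V i : Opens X))
      (hOj : (O : Opens X) ≤ (V j : Opens X)), F.res hOi (s i) = F.res hOj (s j) := by
    intro i j O hOi hOj
    exact agree_of_cover F hB hsep (s i) (s j) (W i j) (Wl i j) (Wr i j) (hs i j) O hOi hOj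
      ((le_inf hOi hOj).trans (Wc i j))
  -- Step B
  obtain ⟨c, hc, href⟩ := hC U ι V V_le V_cover
  have hcU := hCU U c hc
  have hglue := H U c hc
  subst hcU
  choose α hα using href
  have hcompat : ∀ i' j' k', F.res (c.W_le_left i' j' k') (F.res (hα i') (s (α i'))) =
      F.res (c.W_le_right i' j' k') (F.res (hα j') (s (α j'))) := by
    intro i' j' k'
    rw [F.res_comp, F.res_comp]
    exact stepA _ _ _ _ _
  obtain ⟨t, ht, htuniq⟩ := hglue (fun i' => F.res (hα i') (s (α i'))) hcompat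
  refine ⟨t, ?_, ?_⟩
  · -- Step C
    intro i
    have hx : ∀ x : (V i : Opens X), ∃ (i' : c.ι) (N : B), x.1 ∈ (N : Opens X) ∧
        (N : Opens X) ≤ (V i : Opens X) ∧ (N : Opens X) ≤ (c.V i' : Opens X) := by
      intro x
      obtain ⟨i', hi'⟩ := Opens.mem_iSup.1 (c.V_cover (V_le i x.2))
      obtain ⟨N, hNB, hxN, hN⟩ := Opens.isBasis_iff_nbhd.1 hB
        (show x.1 ∈ (V i : Opens X) ⊓ (c.V i' : Opens X) from ⟨x.2, hi'⟩)
      exact ⟨i', ⟨N, hNB⟩, hxN, hN.trans inf_le_left, hN.trans inf_le_right⟩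
    choose i' N hxN hNV hNc using hx
    refine hsep (V i) _ N hNV ?_ _ _ fun x => ?_
    · intro y hy
      exact Opens.mem_iSup.2 ⟨⟨y, hy⟩, hxN ⟨y, hy⟩⟩
    · rw [F.res_comp]
      have h1 := congrArg (F.res (hNc x)) (ht (i' x))
      rw [F.res_comp, F.res_comp] at h1
      rw [h1]
      exact stepA _ _ _ _ _
  · -- Step D
    intro t' ht'
    refine htuniq t' fun i' => ?_
    have h1 := congrArg (F.res (hα i')) (ht' (α i'))
    rw [F.res_comp] at h1
    exact h1

end Cofinal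

end Groth.Agent.Helper11.ShBLib

namespace Groth.Agent.Helper11.ShBLib

open TopologicalSpace ShB

universe u

variable {X : Type u} [TopologicalSpace X] {B : Set (Opens X)}

/-- The covering datum obtained from a cover by using the pairwise intersections themselves. -/
def interCover (hBi : ∀ U ∈ B, ∀ U' ∈ B, ∀ U'' ∈ B, U' ≤ U → U'' ≤ U → U' ⊓ U'' ∈ B)
    (c : Cover B) : Cover B where
  U := c.U
  ι := c.ι
  V := c.V
  V_le := c.V_le
  V_cover := c.V_cover
  κ := fun _ _ => PUnit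
  W := fun i j _ => ⟨(c.V i : Opens X) ⊓ c.V j,
    hBi c.U c.U.2 _ (c.V i).2 _ (c.V j).2 (c.V_le i) (c.V_le j)⟩
  W_le_left := fun _ _ _ => inf_le_left
  W_le_right := fun _ _ _ => inf_le_right
  W_cover := fun i j => le_iSup (fun _ : PUnit =>
    ((⟨(c.V i : Opens X) ⊓ c.V j,
      hBi c.U c.U.2 _ (c.V i).2 _ (c.V j).2 (c.V_le i) (c.V_le j)⟩ : B) : Opens X)) PUnit.unit

theorem isSheaf_iff_inter (hB : Opens.IsBasis B)
    (hBi : ∀ U ∈ B, ∀ U' ∈ B, ∀ U'' ∈ B, U' ≤ U → U'' ≤ U → U' ⊓ U'' ∈ B)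
    (F : Pre B) (C : ∀ U : B, Set (Cover B)) (hCU : ∀ U, ∀ c ∈ C U, c.U = U)
    (hC : ∀ (U : B) (ι : Type u) (V : ι → B), (∀ i, (V i : Opens X) ≤ (U : Opens X)) →
      (U : Opens X) ≤ ⨆ i, (V i : Opens X) →
      ∃ c ∈ C U, ∀ i' : c.ι, ∃ i, (c.V i' : Opens X) ≤ (V i : Opens X)) :
    IsSheaf F ↔ ∀ (U : B), ∀ c ∈ C U, GluesUniquely F (interCover hBi c) := by
  constructor
  · intro hF U c _
    exact hF _
  · intro H
    refine isSheaf_of_cofinal F (fun U => interCover hBi '' C U) ?_ ?_ ?_ hB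
    · rintro U _ ⟨c, hc, rfl⟩
      exact hCU U c hc
    · intro U ι V hV hcov
      obtain ⟨c, hc, href⟩ := hC U ι V hV hcov
      exact ⟨interCover hBi c, ⟨c, hc, rfl⟩, href⟩
    · rintro U _ ⟨c, hc, rfl⟩
      exact H U c hc

end Groth.Agent.Helper11.ShBLib
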