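import Groth.Agent.Lib.Helper11.ShBasisGerm
import Mathlib.Topology.Sheaves.SheafCondition.UniqueGluing
import Mathlib.Topology.Sheaves.Sheaf

/-!
# Sheaves on a basis: extension to a sheaf on the space
-/

namespace Groth.Agent.Helper11.ShBLib

open TopologicalSpace ShB CategoryTheory Opposite

universe u

variable {X : Type u} [TopologicalSpace X] {B : Set (Opens X)}

/-- Sections of the extension over an open `U`: compatible families over the members inside `U`. -/
def ExtObj (F : Pre B) (U : Opens X) : Type u :=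
  { s : ∀ V : B, (V : Opens X) ≤ U → F.obj V //
    ∀ (V V' : B) (hV : (V : Opens X) ≤ U) (hV' : (V' : Opens X) ≤ U)
      (h : (V' : Opens X) ≤ (V : Opens X)), F.res h (s V hV) = s V' hV' }

theorem ExtObj.ext {F : Pre B} {U : Opens X} {s t : ExtObj F U}
    (h : ∀ (V : B) (hV : (V : Opens X) ≤ U), s.1 V hV = t.1 V hV) : s = t := by
  apply Subtype.ext
  funext V hV
  exact h V hV

/-- Restriction of sections of the extension. -/
def extRes (F : Pre B) {U U' : Opens X} (h : U' ≤ U) (s : ExtObj F U) : ExtObj F U' :=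
  ⟨fun V hV => s.1 V (hV.trans h), fun V V' hV hV' hVV' => s.2 V V' _ _ hVV'⟩

/-- The extension presheaf. -/
def extPre (F : Pre B) : (Opens X)ᵒᵖ ⥤ Type u where
  obj U := ExtObj F U.unop
  map f := TypeCat.ofHom (extRes F f.unop.le)
  map_id U := rfl
  map_comp f g := rfl

theorem extPre_map_apply (F : Pre B) {U U' : (Opens X)ᵒᵖ} (f : U ⟶ U') (s : ExtObj F U.unop)
    (V : B) (hV : (V : Opens X) ≤ U'.unop) :
    ((extPre F).map f s).1 V hV = s.1 V (hV.trans f.unop.le) := rfl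

section Glue

variable (hB : Opens.IsBasis B) (F : Pre B) (hF : IsSheaf F)
  {ι : Type u} (U : ι → Opens X) (sf : ∀ i, ExtObj F (U i))
  (hsf : ∀ (i j : ι) (N : B) (hi : (N : Opens X) ≤ U i) (hj : (N : Opens X) ≤ U j),
    (sf i).1 N hi = (sf j).1 N hj)

include hB hF hsf in
/-- Local gluing over a member of the basis. -/
theorem existsUnique_local (V : B) (hV : (V : Opens X) ≤ iSup U) :
    ∃! t : F.obj V, ∀ (i : ι) (N : B) (hNV : (N : Opens X) ≤ (V : Opens X))
      (hNi : (N : Opens X) ≤ U i), F.res hNV t = (sf i).1 N hNi := by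
  have hsep := isSep_of_isSheaf hB F hF
  have hi : ∀ x : (V : Opens X), ∃ i, x.1 ∈ U i := fun x => Opens.mem_iSup.1 (hV x.2)
  choose i hi using hi
  let N : ↥(V : Opens X) → B := fun x =>
    nbhd hB (O := (V : Opens X) ⊓ U (i x)) ⟨x.1, x.2, hi x⟩
  have hxN : ∀ x, x.1 ∈ (N x : Opens X) := fun x =>
    mem_nbhd hB (O := (V : Opens X) ⊓ U (i x)) ⟨x.1, x.2, hi x⟩
  have hNV : ∀ x, (N x : Opens X) ≤ (V : Opens X) := fun x =>
    (nbhd_le hB (O := (V : Opens X) ⊓ U (i x)) ⟨x.1, x.2, hi x⟩).trans inf_le_left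
  have hNU : ∀ x, (N x : Opens X) ≤ U (i x) := fun x =>
    (nbhd_le hB (O := (V : Opens X) ⊓ U (i x)) ⟨x.1, x.2, hi x⟩).trans inf_le_right
  have hcov : (V : Opens X) ≤ ⨆ x, (N x : Opens X) := fun y hy =>
    Opens.mem_iSup.2 ⟨⟨y, hy⟩, hxN ⟨y, hy⟩⟩
  have hcompat : ∀ (x x' : (V : Opens X)) (O : B) (hOx : (O : Opens X) ≤ (N x : Opens X))
      (hOx' : (O : Opens X) ≤ (N x' : Opens X)),
      F.res hOx ((sf (i x)).1 (N x) (hNU x)) = F.res hOx' ((sf (i x')).1 (N x') (hNU x')) := by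
    intro x x' O hOx hOx'
    rw [(sf (i x)).2 (N x) O (hNU x) (hOx.trans (hNU x)) hOx,
      (sf (i x')).2 (N x') O (hNU x') (hOx'.trans (hNU x')) hOx']
    exact hsf _ _ _ _ _
  obtain ⟨t, ht, htuniq⟩ := glue_of_isSheaf hB F hF V _ N hNV hcov
    (fun x => (sf (i x)).1 (N x) (hNU x)) hcompat
  refine ⟨t, ?_, ?_⟩
  · intro j M hMV hMj
    -- separatedness on `M`
    let P : ↥(M : Opens X) → B := fun y =>
      nbhd hB (O := (M : Opens X) ⊓ (N ⟨y.1, hMV y.2⟩ : Opens X)) ⟨y.1, y.2, hxN ⟨y.1, hMV y.2⟩⟩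
    have hyP : ∀ y, y.1 ∈ (P y : Opens X) := fun y =>
      mem_nbhd hB (O := (M : Opens X) ⊓ (N ⟨y.1, hMV y.2⟩ : Opens X))
        ⟨y.1, y.2, hxN ⟨y.1, hMV y.2⟩⟩
    have hPM : ∀ y, (P y : Opens X) ≤ (M : Opens X) := fun y =>
      (nbhd_le hB (O := (M : Opens X) ⊓ (N ⟨y.1, hMV y.2⟩ : Opens X))
        ⟨y.1, y.2, hxN ⟨y.1, hMV y.2⟩⟩).trans inf_le_left
    have hPN : ∀ y, (P y : Opens X) ≤ (N ⟨y.1, hMV y.2⟩ : Opens X) := fun y =>
      (nbhd_le hB (O := (M : Opens X) ⊓ (N ⟨y.1, hMV y.2⟩ : Opens X))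
        ⟨y.1, y.2, hxN ⟨y.1, hMV y.2⟩⟩).trans inf_le_right
    refine hsep M _ P hPM (fun y hy => Opens.mem_iSup.2 ⟨⟨y, hy⟩, hyP ⟨y, hy⟩⟩) _ _ fun y => ?_
    rw [F.res_comp]
    have h1 := congrArg (F.res (hPN y)) (ht ⟨y.1, hMV y.2⟩)
    rw [F.res_comp] at h1
    rw [h1, (sf _).2 _ (P y) _ ((hPN y).trans (hNU _)) (hPN y),
      (sf j).2 M (P y) hMj ((hPM y).trans hMj) (hPM y)]
    exact hsf _ _ _ _ _
  · intro t' ht'
    exact htuniq t' fun x => ht' (i x) (N x) (hNV x) (hNU x)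

include hB hF hsf in
/-- Gluing of sections of the extension. -/
theorem existsUnique_glue :
    ∃! s : ExtObj F (iSup U), ∀ (i : ι) (V : B) (hV : (V : Opens X) ≤ U i),
      s.1 V (hV.trans (le_iSup U i)) = (sf i).1 V hV := by
  have key := existsUnique_local hB F hF U sf hsf
  choose t ht htuniq using fun (V : B) (hV : (V : Opens X) ≤ iSup U) => (key V hV)
  have hcompat : ∀ (V V' : B) (hV : (V : Opens X) ≤ iSup U) (hV' : (V' : Opens X) ≤ iSup U)
      (h : (V' : Opens X) ≤ (V : Opens X)), F.res h (t V hV) = t V' hV' := by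
    intro V V' hV hV' h
    refine htuniq V' hV' _ fun i N hNV' hNi => ?_
    rw [F.res_comp]
    exact ht V hV i N (hNV'.trans h) hNi
  refine ⟨⟨t, hcompat⟩, ?_, ?_⟩
  · intro i V hV
    show t V _ = (sf i).1 V hV
    symm
    refine htuniq V _ _ fun j N hNV hNj => ?_
    rw [(sf i).2 V N hV (hNV.trans hV) hNV]
    exact hsf _ _ _ _ _
  · intro s' hs'
    apply ExtObj.ext
    intro V hV
    show s'.1 V hV = t V hV
    refine htuniq V hV _ fun i N hNV hNi => ?_
    rw [s'.2 V N hV (hNV.trans hV) hNV]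
    exact hs' i N hNi

end Glue

theorem extPre_isSheaf (hB : Opens.IsBasis B) (F : Pre B) (hF : IsSheaf F) :
    TopCat.Presheaf.IsSheaf (X := TopCat.of X) (extPre F) := by
  apply TopCat.Presheaf.isSheaf_of_isSheafUniqueGluing_types
  intro ι U sf hcompat
  have hsf : ∀ (i j : ι) (N : B) (hi : (N : Opens X) ≤ U i) (hj : (N : Opens X) ≤ U j),
      (sf i).1 N hi = (sf j).1 N hj := by
    intro i j N hi hj
    have h1 := hcompat i j
    have h2 := congrArg (fun s : ExtObj F (U i ⊓ U j) => s.1 N (le_inf hi hj)) h1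
    exact h2
  obtain ⟨s, hs, hsuniq⟩ := existsUnique_glue hB F hF U sf hsf
  refine ⟨s, fun i => ?_, fun s' hs' => hsuniq s' fun i V hV => ?_⟩
  · apply ExtObj.ext
    intro V hV
    exact hs i V hV
  · have h1 := hs' i
    exact congrArg (fun t : ExtObj F (U i) => t.1 V hV) h1

/-- The extension sheaf. -/
def extSheaf (hB : Opens.IsBasis B) (F : Pre B) (hF : IsSheaf F) :
    TopCat.Sheaf (Type u) (TopCat.of X) :=
  ⟨extPre F, extPre_isSheaf hB F hF⟩

/-- The restriction of the extension to the basis is the original presheaf. -/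
def extIso (F : Pre B) : ShB.Iso (ShB.restrict B (extPre F)) F where
  hom :=
    { app := fun V (s : ExtObj F V) => s.1 V le_rfl
      natural := by
        intro U V h s
        exact (s : ExtObj F U).2 U V le_rfl h h }
  inv :=
    { app := fun V a => (⟨fun V' h => F.res h a, fun V' V'' hV' hV'' h => F.res_comp _ _ _⟩ :
        ExtObj F V)
      natural := by
        intro U V h a
        apply ExtObj.ext
        intro V' hV'
        exact (F.res_comp _ _ _).symm }
  hom_inv := by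
    intro U s
    apply ExtObj.ext
    intro V' hV'
    exact (s : ExtObj F U).2 U V' le_rfl hV' hV'
  inv_hom := by
    intro U a
    exact F.res_id U a

end Groth.Agent.Helper11.ShBLib
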