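import Groth.Agent.Lib.Helper11.ShBasis

/-!
# Sheaves on a basis: sections and germs
-/

namespace Groth.Agent.Helper11.ShBLib

open TopologicalSpace ShB

universe u

variable {X : Type u} [TopologicalSpace X] {B : Set (Opens X)}

/-- A chosen basis neighbourhood of a point inside an open. -/
noncomputable def nbhd (hB : Opens.IsBasis B) {O : Opens X} (x : O) : B :=
  ⟨(Opens.isBasis_iff_nbhd.1 hB x.2).choose, (Opens.isBasis_iff_nbhd.1 hB x.2).choose_spec.1⟩

theorem mem_nbhd (hB : Opens.IsBasis B) {O : Opens X} (x : O) :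
    x.1 ∈ (nbhd hB x : Opens X) :=
  (Opens.isBasis_iff_nbhd.1 hB x.2).choose_spec.2.1

theorem nbhd_le (hB : Opens.IsBasis B) {O : Opens X} (x : O) : (nbhd hB x : Opens X) ≤ O :=
  (Opens.isBasis_iff_nbhd.1 hB x.2).choose_spec.2.2

/-- A covering datum from a covering by members, with chosen coverings of the overlaps. -/
noncomputable def mkCover (hB : Opens.IsBasis B) (U : B) (ι : Type u) (V : ι → B)
    (hV : ∀ i, (V i : Opens X) ≤ (U : Opens X)) (hcov : (U : Opens X) ≤ ⨆ i, (V i : Opens X)) :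
    Cover B where
  U := U
  ι := ι
  V := V
  V_le := hV
  V_cover := hcov
  κ := fun i j => ↥((V i : Opens X) ⊓ (V j : Opens X))
  W := fun _ _ x => nbhd hB x
  W_le_left := fun _ _ x => (nbhd_le hB x).trans inf_le_left
  W_le_right := fun _ _ x => (nbhd_le hB x).trans inf_le_right
  W_cover := fun _ _ y hy => Opens.mem_iSup.2 ⟨⟨y, hy⟩, mem_nbhd hB _⟩

theorem isSep_of_isSheaf (hB : Opens.IsBasis B) (F : Pre B) (hF : IsSheaf F) : IsSep F := by
  intro U ι V hV hcov a b hab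
  exact sep_aux F (mkCover hB U ι V hV hcov) (hF _) a b hab

/-- Gluing for a sheaf on a basis: sections which agree locally on overlaps glue uniquely. -/
theorem glue_of_isSheaf (hB : Opens.IsBasis B) (F : Pre B) (hF : IsSheaf F) (U : B) (ι : Type u)
    (V : ι → B) (hV : ∀ i, (V i : Opens X) ≤ (U : Opens X))
    (hcov : (U : Opens X) ≤ ⨆ i, (V i : Opens X)) (s : ∀ i, F.obj (V i))
    (hs : ∀ (i j : ι) (O : B) (hOi : (O : Opens X) ≤ (V i : Opens X))
      (hOj : (O : Opens X) ≤ (V j : Opens X)), F.res hOi (s i) = F.res hOj (s j)) :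
    ∃! t : F.obj U, ∀ i, F.res (hV i) t = s i :=
  hF (mkCover hB U ι V hV hcov) s (fun i j k => hs i j _ _ _)

theorem stalkRel_equivalence (hB : Opens.IsBasis B) (F : Pre B) (x : X) :
    Equivalence (StalkRel F x) := by
  refine ⟨fun a => ⟨a.1.1, a.1.2, le_rfl, le_rfl, rfl⟩, ?_, ?_⟩
  · rintro a b ⟨W, hxW, ha, hb, h⟩
    exact ⟨W, hxW, hb, ha, h.symm⟩
  · rintro a b c ⟨W, hxW, ha, hb, h⟩ ⟨W', hxW', hb', hc, h'⟩
    obtain ⟨N, hNB, hxN, hN⟩ := Opens.isBasis_iff_nbhd.1 hB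
      (show x ∈ (W : Opens X) ⊓ (W' : Opens X) from ⟨hxW, hxW'⟩)
    refine ⟨⟨N, hNB⟩, hxN, (hN.trans inf_le_left).trans ha, (hN.trans inf_le_right).trans hc, ?_⟩
    have h1 := congrArg (F.res (U := W) (V := ⟨N, hNB⟩) (hN.trans inf_le_left)) h
    have h2 := congrArg (F.res (U := W') (V := ⟨N, hNB⟩) (hN.trans inf_le_right)) h'
    rw [F.res_comp, F.res_comp] at h1 h2
    rw [h1, ← h2]

theorem germ_eq_iff (hB : Opens.IsBasis B) (F : Pre B) {U V : B} (x : X)
    (hxU : x ∈ (U : Opens X)) (hxV : x ∈ (V : Opens X)) (s : F.obj U) (s' : F.obj V) :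
    germ F x hxU s = germ F x hxV s' ↔
      ∃ (W : B) (_ : x ∈ (W : Opens X)) (ha : (W : Opens X) ≤ (U : Opens X))
        (hb : (W : Opens X) ≤ (V : Opens X)), F.res ha s = F.res hb s' := by
  have h1 : germ F x hxU s = germ F x hxV s' ↔
      Relation.EqvGen (StalkRel F x) ⟨⟨U, hxU⟩, s⟩ ⟨⟨V, hxV⟩, s'⟩ :=
    Quot.eq (r := StalkRel F x)
  rw [h1, (stalkRel_equivalence hB F x).eqvGen_iff]
  rfl

theorem germ_res (F : Pre B) {U V : B} (h : (V : Opens X) ≤ (U : Opens X)) (x : X)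
    (hxV : x ∈ (V : Opens X)) (s : F.obj U) :
    germ F x hxV (F.res h s) = germ F x (h hxV) s := by
  refine Quot.sound ⟨V, hxV, le_rfl, h, ?_⟩
  rw [F.res_comp]

theorem germ_injective (hB : Opens.IsBasis B) (F : Pre B) (hF : IsSheaf F) (U : B) :
    Function.Injective (fun (s : F.obj U) (x : (U : Opens X)) => germ F x.1 x.2 s) := by
  intro s s' h
  have hx : ∀ x : (U : Opens X), ∃ (W : B) (_ : x.1 ∈ (W : Opens X))
      (ha : (W : Opens X) ≤ (U : Opens X)) (hb : (W : Opens X) ≤ (U : Opens X)),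
      F.res ha s = F.res hb s' := fun x =>
    (germ_eq_iff hB F x.1 x.2 x.2 s s').1 (congrFun h x)
  choose W hxW ha hb hW using hx
  refine isSep_of_isSheaf hB F hF U _ W ha ?_ s s' hW
  intro y hy
  exact Opens.mem_iSup.2 ⟨⟨y, hy⟩, hxW ⟨y, hy⟩⟩

theorem germ_image (hB : Opens.IsBasis B) (F : Pre B) (hF : IsSheaf F) (U : B)
    (f : ∀ x : (U : Opens X), Stalk F x.1) :
    (∃ s : F.obj U, ∀ x, germ F x.1 x.2 s = f x) ↔
      ∀ x : (U : Opens X), ∃ (V : B) (_ : x.1 ∈ (V : Opens X))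
        (hVU : (V : Opens X) ≤ (U : Opens X)) (σ : F.obj V),
        ∀ (y : X) (hy : y ∈ (V : Opens X)), germ F y hy σ = f ⟨y, hVU hy⟩ := by
  constructor
  · rintro ⟨s, hs⟩ x
    exact ⟨U, x.2, le_rfl, s, fun y hy => hs ⟨y, hy⟩⟩
  · intro h
    choose V hxV hVU σ hσ using h
    have hcov : (U : Opens X) ≤ ⨆ x, (V x : Opens X) := by
      intro y hy
      exact Opens.mem_iSup.2 ⟨⟨y, hy⟩, hxV ⟨y, hy⟩⟩
    have hcompat : ∀ (x x' : (U : Opens X)) (O : B) (hOi : (O : Opens X) ≤ (V x : Opens X))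
        (hOj : (O : Opens X) ≤ (V x' : Opens X)), F.res hOi (σ x) = F.res hOj (σ x') := by
      intro x x' O hOi hOj
      have hy : ∀ y : (O : Opens X), ∃ (W : B) (_ : y.1 ∈ (W : Opens X))
          (ha : (W : Opens X) ≤ (O : Opens X)) (hb : (W : Opens X) ≤ (O : Opens X)),
          F.res ha (F.res hOi (σ x)) = F.res hb (F.res hOj (σ x')) := by
        intro y
        refine (germ_eq_iff hB F y.1 y.2 y.2 _ _).1 ?_
        rw [germ_res, germ_res, hσ x y.1 (hOi y.2), hσ x' y.1 (hOj y.2)]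
      choose W hyW ha hb hW using hy
      refine isSep_of_isSheaf hB F hF O _ W ha ?_ _ _ hW
      intro z hz
      exact Opens.mem_iSup.2 ⟨⟨z, hz⟩, hyW ⟨z, hz⟩⟩
    obtain ⟨t, ht, -⟩ := glue_of_isSheaf hB F hF U _ V hVU hcov σ hcompat
    refine ⟨t, fun x => ?_⟩
    rw [← germ_res F (hVU x) x.1 (hxV x) t, ht x]
    exact hσ x x.1 (hxV x)

end Groth.Agent.Helper11.ShBLib
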