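import Groth.Agent.Lib.Helper11.ShBasisExt

/-!
# Sheaves on a basis: uniqueness of the extension
-/

namespace Groth.Agent.Helper11.ShBLib

open TopologicalSpace ShB CategoryTheory Opposite

universe u

variable {X : Type u} [TopologicalSpace X] {B : Set (Opens X)}

section Compare

variable (hB : Opens.IsBasis B) (F : Pre B) (G : TopCat.Sheaf (Type u) (TopCat.of X))
  (e : ShB.Iso (ShB.restrict B G.presheaf) F)

theorem map_map_homOfLE {U V W : Opens X} (h₁ : V ≤ U) (h₂ : W ≤ V)
    (s : G.presheaf.obj (op U)) :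
    G.presheaf.map (homOfLE h₂).op (G.presheaf.map (homOfLE h₁).op s) =
      G.presheaf.map (homOfLE (h₂.trans h₁)).op s := by
  rw [← FunctorToTypes.map_comp_apply, ← op_comp, homOfLE_comp]

/-- The comparison map from sections of `G` to sections of the extension of `F`. -/
def cmpFun (U : Opens X) (s : G.presheaf.obj (op U)) : ExtObj F U :=
  ⟨fun V hV => e.hom.app V (G.presheaf.map (homOfLE hV).op s), by
    intro V V' hV hV' h
    rw [e.hom.natural h]
    congr 1
    exact map_map_homOfLE G hV h s⟩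

theorem cmpFun_apply (U : Opens X) (s : G.presheaf.obj (op U)) (V : B)
    (hV : (V : Opens X) ≤ U) :
    (cmpFun F G e U s).1 V hV = e.hom.app V (G.presheaf.map (homOfLE hV).op s) := rfl

theorem le_iSup_basis (hB : Opens.IsBasis B) (U : Opens X) :
    U ≤ ⨆ V : {V : B // (V : Opens X) ≤ U}, ((V : B) : Opens X) := by
  intro x hx
  obtain ⟨N, hNB, hxN, hN⟩ := Opens.isBasis_iff_nbhd.1 hB hx
  exact Opens.mem_iSup.2 ⟨⟨⟨N, hNB⟩, hN⟩, hxN⟩

include hB in
theorem cmpFun_injective (U : Opens X) : Function.Injective (cmpFun F G e U) := by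
  intro s s' h
  refine TopCat.Sheaf.eq_of_locally_eq' G
    (fun V : {V : B // (V : Opens X) ≤ U} => ((V : B) : Opens X)) U
    (fun V => homOfLE V.2) (le_iSup_basis hB U) s s' fun V => ?_
  have h1 := congrArg (fun t : ExtObj F U => t.1 V.1 V.2) h
  simp only [cmpFun_apply] at h1
  have h2 := congrArg (e.inv.app V.1) h1
  rw [e.hom_inv, e.hom_inv] at h2
  exact h2

include hB in
theorem cmpFun_surjective (U : Opens X) : Function.Surjective (cmpFun F G e U) := by
  intro a
  let sf : ∀ V : {V : B // (V : Opens X) ≤ U}, G.presheaf.obj (op ((V : B) : Opens X)) :=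
    fun V => e.inv.app V.1 (a.1 V.1 V.2)
  have hres : ∀ (V : {V : B // (V : Opens X) ≤ U}) (N : B)
      (f : ((N : B) : Opens X) ⟶ ((V.1 : B) : Opens X)),
      G.presheaf.map f.op (sf V) = e.inv.app N (a.1 N (f.le.trans V.2)) := by
    intro V N f
    have hf : f = homOfLE f.le := Subsingleton.elim _ _
    have h1 := e.inv.natural f.le (a.1 V.1 V.2)
    rw [a.2 V.1 N V.2 (f.le.trans V.2) f.le] at h1
    rw [hf]
    exact h1
  have hcompat : TopCat.Presheaf.IsCompatible G.presheaf
      (fun V : {V : B // (V : Opens X) ≤ U} => ((V : B) : Opens X)) sf := by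
    intro V V'
    refine TopCat.Sheaf.eq_of_locally_eq' G
      (fun N : {N : B // (N : Opens X) ≤ (V.1 : Opens X) ⊓ (V'.1 : Opens X)} =>
        ((N : B) : Opens X)) _
      (fun N => homOfLE N.2) (le_iSup_basis hB _) _ _ fun N => ?_
    rw [← FunctorToTypes.map_comp_apply, ← FunctorToTypes.map_comp_apply, ← op_comp, ← op_comp,
      hres V N.1, hres V' N.1]
  obtain ⟨s, hs, -⟩ := TopCat.Sheaf.existsUnique_gluing' G
    (fun V : {V : B // (V : Opens X) ≤ U} => ((V : B) : Opens X)) U
    (fun V => homOfLE V.2) (le_iSup_basis hB U) sf hcompat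
  refine ⟨s, ?_⟩
  apply ExtObj.ext
  intro V hV
  rw [cmpFun_apply, hs ⟨V, hV⟩]
  exact e.inv_hom V _

/-- The comparison as a morphism of presheaves. -/
def cmp : G.presheaf ⟶ extPre F where
  app U := TypeCat.ofHom (cmpFun F G e U.unop)
  naturality := by
    intro U U' f
    ext s
    apply ExtObj.ext
    intro V hV
    show e.hom.app V (G.presheaf.map (homOfLE hV).op (G.presheaf.map f s)) =
      e.hom.app V (G.presheaf.map (homOfLE (hV.trans f.unop.le)).op s)
    congr 1
    rw [← FunctorToTypes.map_comp_apply]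
    congr 1

include hB in
theorem isIso_cmp : IsIso (cmp F G e) := by
  have : ∀ U, IsIso ((cmp F G e).app U) := fun U =>
    (isIso_iff_bijective _).2 ⟨cmpFun_injective hB F G e U.unop, cmpFun_surjective hB F G e U.unop⟩
  exact NatIso.isIso_of_isIso_app _

theorem cmp_app_apply (U : Opens X) (s : G.presheaf.obj (op U)) :
    (cmp F G e).app (op U) s = cmpFun F G e U s := rfl

end Compare

section Unique

variable (hB : Opens.IsBasis B) (F : Pre B) (G G' : TopCat.Sheaf (Type u) (TopCat.of X))
  (e : ShB.Iso (ShB.restrict B G.presheaf) F) (e' : ShB.Iso (ShB.restrict B G'.presheaf) F)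

include hB in
theorem existsUnique_iso :
    ∃! φ : G ⟶ G', IsIso φ ∧ ∀ (U : B) (s : G.presheaf.obj (op (U : Opens X))),
        e'.hom.app U (φ.1.app (op (U : Opens X)) s) = e.hom.app U s := by
  have := isIso_cmp hB F G e
  have := isIso_cmp hB F G' e'
  let ψ : G.presheaf ⟶ G'.presheaf := cmp F G e ≫ inv (cmp F G' e')
  have hψ : ψ ≫ cmp F G' e' = cmp F G e := by
    simp only [ψ, Category.assoc, IsIso.inv_hom_id, Category.comp_id]
  let φ : G ⟶ G' := ObjectProperty.homMk ψ
  have hcond : ∀ (φ₁ : G ⟶ G'), (∀ (U : B) (s : G.presheaf.obj (op (U : Opens X))),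
      e'.hom.app U (φ₁.1.app (op (U : Opens X)) s) = e.hom.app U s) →
      φ₁.1 ≫ cmp F G' e' = cmp F G e := by
    intro φ₁ h
    ext U s
    apply ExtObj.ext
    intro V hV
    show e'.hom.app V (G'.presheaf.map (homOfLE hV).op (φ₁.1.app U s)) =
      e.hom.app V (G.presheaf.map (homOfLE hV).op s)
    rw [← h V]
    congr 1
    exact (FunctorToTypes.naturality φ₁.1 (homOfLE hV).op s).symm
  refine ⟨φ, ⟨?_, ?_⟩, ?_⟩
  · have : IsIso ((TopCat.Sheaf.forget (Type u) (TopCat.of X)).map φ) := by
      show IsIso ψ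
      infer_instance
    exact isIso_of_fully_faithful (TopCat.Sheaf.forget (Type u) (TopCat.of X)) φ
  · intro U s
    have h1 := congrArg (fun (α : G.presheaf ⟶ extPre F) => (α.app (op (U : Opens X)) s)) hψ
    have h2 : e'.hom.app U (G'.presheaf.map (homOfLE (le_refl (U : Opens X))).op
          (ψ.app (op (U : Opens X)) s)) =
        e.hom.app U (G.presheaf.map (homOfLE (le_refl (U : Opens X))).op s) :=
      congrArg (fun t : ExtObj F (U : Opens X) => t.1 U le_rfl) h1
    have e1 : (homOfLE (le_refl (U : Opens X))).op = 𝟙 (op (U : Opens X)) := rfl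
    rw [e1, FunctorToTypes.map_id_apply, FunctorToTypes.map_id_apply] at h2
    exact h2
  · rintro φ₁ ⟨-, h₁⟩
    have h2 : φ₁.1 ≫ cmp F G' e' = ψ ≫ cmp F G' e' := (hcond φ₁ h₁).trans hψ.symm
    have h3 : φ₁.1 = ψ := (cancel_mono (cmp F G' e')).1 h2
    exact (TopCat.Sheaf.forget (Type u) (TopCat.of X)).map_injective h3

end Unique

end Groth.Agent.Helper11.ShBLib
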