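import Groth.Agent.Lib.Helper11.TorsBC6
import Groth.Agent.Lib.Helper11.LDer5
import Groth.Agent.Lib.Helper8.RMod1
import Groth.Agent.Lib.Helper29.DAdjA

/-!
# Formal properties of derived restriction / extension of scalars and of right adjoints of
restriction (helper11)
-/

set_option autoImplicit false
set_option linter.unusedSectionVars false
set_option linter.unusedVariables false
set_option linter.style.haveILetI false

open CategoryTheory CategoryTheory.Limits DerivedCategory Pretriangulated

attribute [local instance] HasDerivedCategory.standard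

universe u

namespace Groth.Agent.Helper11.Shr

open Groth.Agent.Helper11.TorsBC Groth.Agent.Helper8.RMod

section Gen

variable {C₁ C₂ C₃ : Type (u + 1)} [Category.{u} C₁] [Category.{u} C₂] [Category.{u} C₃]
  [Abelian C₁] [Abelian C₂] [Abelian C₃]
  [HasDerivedCategory.{u + 1} C₁] [HasDerivedCategory.{u + 1} C₂] [HasDerivedCategory.{u + 1} C₃]
  (F : C₁ ⥤ C₂) (G : C₂ ⥤ C₃) (H : C₁ ⥤ C₃) [F.Additive] [G.Additive] [H.Additive]
  [PreservesFiniteLimits F] [PreservesFiniteColimits F]
  [PreservesFiniteLimits G] [PreservesFiniteColimits G]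
  [PreservesFiniteLimits H] [PreservesFiniteColimits H]

/-- the composite of the induced functors lifts the induced functor of the composite -/
noncomputable def liftingComp (e : F ⋙ G ≅ H) :
    Q ⋙ (F.mapDerivedCategory ⋙ G.mapDerivedCategory) ≅
      H.mapHomologicalComplex (ComplexShape.up ℤ) ⋙ Q :=
  (Functor.associator _ _ _).symm ≪≫
    Functor.isoWhiskerRight F.mapDerivedCategoryFactors G.mapDerivedCategory ≪≫
    Functor.associator _ _ _ ≪≫
    Functor.isoWhiskerLeft (F.mapHomologicalComplex (ComplexShape.up ℤ))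
      G.mapDerivedCategoryFactors ≪≫
    (Functor.associator _ _ _).symm ≪≫
    Functor.isoWhiskerRight (Functor.mapHomologicalComplexCompIso e (ComplexShape.up ℤ)) Q

/-- composition of exact functors and induced functors on derived categories -/
noncomputable def mapDComp (e : F ⋙ G ≅ H) :
    H.mapDerivedCategory ≅ F.mapDerivedCategory ⋙ G.mapDerivedCategory :=
  letI : Localization.Lifting Q (HomologicalComplex.quasiIso C₁ (ComplexShape.up ℤ))
      (H.mapHomologicalComplex (ComplexShape.up ℤ) ⋙ Q)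
      (F.mapDerivedCategory ⋙ G.mapDerivedCategory) := ⟨liftingComp F G H e⟩
  Localization.liftNatIso Q (HomologicalComplex.quasiIso C₁ (ComplexShape.up ℤ))
    (H.mapHomologicalComplex (ComplexShape.up ℤ) ⋙ Q)
    (H.mapHomologicalComplex (ComplexShape.up ℤ) ⋙ Q)
    H.mapDerivedCategory (F.mapDerivedCategory ⋙ G.mapDerivedCategory) (Iso.refl _)

end Gen

section Rings

variable {A B C : Type u} [CommRing A] [CommRing B] [CommRing C]
  (φ : A →+* B) (ψ : B →+* C) (χ : A →+* C)

/-- derived restriction of scalars along a composite -/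
noncomputable def resDComp (h : χ = ψ.comp φ) : resD χ ≅ resD ψ ⋙ resD φ :=
  mapDComp (Rs ψ) (Rs φ) (Rs χ) (ModuleCat.restrictScalarsComp'.{u} φ ψ χ h).symm

/-- derived extension of scalars along a composite of flat maps -/
noncomputable def gdComp (h : χ = ψ.comp φ) [PreservesFiniteLimits (Es φ)]
    [PreservesFiniteLimits (Es ψ)] [PreservesFiniteLimits (Es χ)] :
    Gd χ ≅ Gd φ ⋙ Gd ψ :=
  mapDComp (Es φ) (Es ψ) (Es χ) (by
    subst h
    exact (ModuleCat.extendScalarsComp φ ψ).symm)

/-- right adjoints of restriction along a composite -/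
noncomputable def rightAdjComp (h : χ = ψ.comp φ)
    (Rφ : Dual.D A ⥤ Dual.D B) (adjφ : resD φ ⊣ Rφ)
    (Rψ : Dual.D B ⥤ Dual.D C) (adjψ : resD ψ ⊣ Rψ)
    (Rχ : Dual.D A ⥤ Dual.D C) (adjχ : resD χ ⊣ Rχ) : Rχ ≅ Rφ ⋙ Rψ :=
  Adjunction.rightAdjointUniq adjχ ((adjψ.comp adjφ).ofNatIsoLeft (resDComp φ ψ χ h).symm)

end Rings

section KInj

variable {A B : Type u} [CommRing A] [CommRing B] (φ : A →+* B)

/-- a right adjoint of derived restriction of scalars is computed by termwise coextension on
K-injective complexes -/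
theorem nonempty_rightAdj_obj_iso (R : Dual.D A ⥤ Dual.D B) (adj : resD φ ⊣ R)
    (I : CochainComplex (ModuleCat.{u} A) ℤ) [I.IsKInjective] :
    Nonempty (R.obj (Q.obj I) ≅ Q.obj ((coC φ).obj I)) := by
  let c : (resD φ).obj (Q.obj ((coC φ).obj I)) ⟶ Q.obj I :=
    Groth.Agent.Helper29.DAdjA.cMap (adjM φ) I
  obtain ⟨u, hu, -⟩ := Groth.Agent.Helper29.DAdjA.existsUnique_lift (adjM φ)
    (R.obj (Q.obj I)) I (adj.counit.app (Q.obj I))
  obtain ⟨u', -, huu'⟩ := Groth.Agent.Helper29.DAdjA.existsUnique_lift (adjM φ)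
    (Q.obj ((coC φ).obj I)) I c
  let w : Q.obj ((coC φ).obj I) ⟶ R.obj (Q.obj I) := adj.homEquiv _ _ c
  have hw : (resD φ).map w ≫ adj.counit.app (Q.obj I) = c := by
    exact (adj.homEquiv_counit _ _ w).symm.trans ((adj.homEquiv _ _).symm_apply_apply c)
  have hu' : (resD φ).map u ≫ c = adj.counit.app (Q.obj I) := hu
  refine ⟨⟨u, w, ?_, ?_⟩⟩
  · apply (adj.homEquiv _ _).symm.injective
    rw [adj.homEquiv_counit, adj.homEquiv_counit, Functor.map_comp, Category.assoc,
      hw, hu', CategoryTheory.Functor.map_id, Category.id_comp]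
  · have h1 : w ≫ u = u' := huu' _ (by
      show (resD φ).map (w ≫ u) ≫ c = c
      rw [Functor.map_comp, Category.assoc, hu', hw])
    have h2 : 𝟙 _ = u' := huu' _ (by
      show (resD φ).map (𝟙 _) ≫ c = c
      rw [CategoryTheory.Functor.map_id, Category.id_comp])
    rw [h1, ← h2]

/-- derived restriction of scalars has a right adjoint -/
theorem exists_rightAdj : ∃ (R : Dual.D A ⥤ Dual.D B), Nonempty (resD φ ⊣ R) := by
  haveI : ∀ Y, HasTerminal (CostructuredArrow (resD φ) Y) :=
    Groth.Agent.Helper29.DAdjA.hasTerminal_costructuredArrow (adjM φ)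
  haveI : (resD φ).IsLeftAdjoint := isLeftAdjoint_of_costructuredArrowTerminals _
  exact ⟨(resD φ).rightAdjoint, ⟨Adjunction.ofIsLeftAdjoint (resD φ)⟩⟩

/-- derived base change along a flat map is the induced functor -/
theorem nonempty_LBaseChange_iso [PreservesFiniteLimits (Es φ)] [DRing.HasLBaseChange φ] :
    Nonempty (DRing.LBaseChange φ ≅ Gd φ) :=
  Groth.Agent.Helper11.LDer.nonempty_totalLeftDerived_iso_of_exact (Es φ)

end KInj

end Groth.Agent.Helper11.Shr
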