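import Groth.Agent.Lib.Helper11.Shr9
import Mathlib.Algebra.MvPolynomial.Equiv
import Mathlib.RingTheory.Polynomial.Basic

/-!
# Composition of upper shrieks formed from presentations (helper11)
-/

set_option autoImplicit false
set_option linter.unusedSectionVars false
set_option linter.unusedVariables false
set_option linter.style.haveILetI false

open CategoryTheory CategoryTheory.Limits DerivedCategory Pretriangulated

attribute [local instance] HasDerivedCategory.standard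

universe u

namespace Groth.Agent.Helper11.Shr

open Groth.Agent.Helper11.TorsBC

section Split

variable (A : Type u) [CommRing A] (n m : ℕ)

/-- `A[x_1..x_{n+m}] ≃ (A[x_1..x_n])[y_1..y_m]` -/
noncomputable def splitEquiv :
    MvPolynomial (Fin (n + m)) A ≃ₐ[A] MvPolynomial (Fin m) (MvPolynomial (Fin n) A) :=
  (MvPolynomial.renameEquiv A
    ((finSumFinEquiv (m := n) (n := m)).symm.trans (Equiv.sumComm (Fin n) (Fin m)))).trans
    (MvPolynomial.sumAlgEquiv A (Fin m) (Fin n))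

/-- the inclusion `A[x] → A[x,y]` -/
noncomputable def betaHom : MvPolynomial (Fin n) A →+* MvPolynomial (Fin (n + m)) A :=
  (splitEquiv A n m).symm.toAlgHom.toRingHom.comp
    (algebraMap (MvPolynomial (Fin n) A) (MvPolynomial (Fin m) (MvPolynomial (Fin n) A)))

theorem betaHom_flat : (betaHom A n m).Flat :=
  RingHom.Flat.comp (flat_algebraMap_mvPolynomial _ m)
    (RingHom.Flat.of_bijective (splitEquiv A n m).symm.bijective)

theorem betaHom_comp_algebraMap :
    algebraMap A (MvPolynomial (Fin (n + m)) A) =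
      (betaHom A n m).comp (algebraMap A (MvPolynomial (Fin n) A)) := by
  apply RingHom.ext
  intro a
  show _ = (splitEquiv A n m).symm
    (algebraMap (MvPolynomial (Fin n) A) (MvPolynomial (Fin m) (MvPolynomial (Fin n) A))
      (algebraMap A (MvPolynomial (Fin n) A) a))
  rw [← IsScalarTower.algebraMap_apply, AlgEquiv.commutes]

variable {A n} {B : Type u} [CommRing B] [Algebra A B]

/-- the map `A[x,y] → B[y]` induced by `ψ : A[x] → B` -/
noncomputable def piHom (ψ : MvPolynomial (Fin n) A →ₐ[A] B) :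
    MvPolynomial (Fin (n + m)) A →ₐ[A] MvPolynomial (Fin m) B :=
  (MvPolynomial.mapAlgHom ψ).comp (splitEquiv A n m).toAlgHom

theorem piHom_comp_betaHom (ψ : MvPolynomial (Fin n) A →ₐ[A] B) :
    (piHom m ψ).toRingHom.comp (betaHom A n m) =
      (algebraMap B (MvPolynomial (Fin m) B)).comp ψ.toRingHom := by
  apply RingHom.ext
  intro x
  show MvPolynomial.mapAlgHom ψ ((splitEquiv A n m) ((splitEquiv A n m).symm
    (algebraMap (MvPolynomial (Fin n) A) (MvPolynomial (Fin m) (MvPolynomial (Fin n) A)) x))) =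
      algebraMap B (MvPolynomial (Fin m) B) (ψ x)
  rw [AlgEquiv.apply_symm_apply]
  exact MvPolynomial.map_C _ x

theorem ker_piHom (ψ : MvPolynomial (Fin n) A →ₐ[A] B) :
    RingHom.ker (piHom m ψ).toRingHom =
      Ideal.map (betaHom A n m) (RingHom.ker ψ.toRingHom) := by
  apply le_antisymm
  · intro x hx
    have hx' : (splitEquiv A n m) x ∈
        RingHom.ker (MvPolynomial.map (σ := Fin m) ψ.toRingHom) := by
      rw [RingHom.mem_ker]
      exact (RingHom.mem_ker).mp hx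
    rw [MvPolynomial.ker_map] at hx'
    have h3 := Ideal.mem_map_of_mem (splitEquiv A n m).symm.toAlgHom.toRingHom hx'
    rw [Ideal.map_map] at h3
    have h4 : (splitEquiv A n m).symm.toAlgHom.toRingHom ((splitEquiv A n m) x) = x :=
      (splitEquiv A n m).symm_apply_apply x
    rw [h4] at h3
    exact h3
  · rw [Ideal.map_le_iff_le_comap]
    intro x hx
    rw [Ideal.mem_comap, RingHom.mem_ker]
    have h := RingHom.congr_fun (piHom_comp_betaHom m ψ) x
    rw [RingHom.comp_apply, RingHom.comp_apply] at h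
    rw [h, (RingHom.mem_ker).mp hx, map_zero]

theorem piHom_surjective (ψ : MvPolynomial (Fin n) A →ₐ[A] B) (hψ : Function.Surjective ψ) :
    Function.Surjective (piHom m ψ) := by
  have h1 : Function.Surjective (MvPolynomial.map (σ := Fin m) ψ.toRingHom) :=
    MvPolynomial.map_surjective _ hψ
  exact h1.comp (splitEquiv A n m).surjective

variable {C : Type u} [CommRing C] [Algebra B C] [Algebra A C] [IsScalarTower A B C]

/-- the composite presentation `A[x,y] → B[y] → C` -/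
noncomputable def thetaHom (ψ : MvPolynomial (Fin n) A →ₐ[A] B)
    (χ : MvPolynomial (Fin m) B →ₐ[B] C) : MvPolynomial (Fin (n + m)) A →ₐ[A] C :=
  (χ.restrictScalars A).comp (piHom m ψ)

end Split

section Comp

variable (A B C : Type u) [CommRing A] [CommRing B] [CommRing C] [IsNoetherianRing A]
  [IsNoetherianRing B] [Algebra A B] [Algebra B C] [Algebra A C] [IsScalarTower A B C]

/-- **composition of upper shrieks**, for the termwise shriek objects -/
theorem sh_comp (n : ℕ) (ψ : MvPolynomial (Fin n) A →ₐ[A] B) (hψ : Function.Surjective ψ)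
    (Rψ : Dual.D (MvPolynomial (Fin n) A) ⥤ Dual.D B) (adj : resD ψ.toRingHom ⊣ Rψ)
    (m : ℕ) (χ : MvPolynomial (Fin m) B →ₐ[B] C) (hχ : Function.Surjective χ)
    (Rχ : Dual.D (MvPolynomial (Fin m) B) ⥤ Dual.D C) (adjχ : resD χ.toRingHom ⊣ Rχ)
    (k : ℕ) (θ : MvPolynomial (Fin k) A →ₐ[A] C) (hθ : Function.Surjective θ)
    (Rθ : Dual.D (MvPolynomial (Fin k) A) ⥤ Dual.D C) (adjθ : resD θ.toRingHom ⊣ Rθ)
    (K : Dual.D A) (c : ℤ)
    (hK : ∀ i : ℤ, i < c → IsZero ((homologyFunctor (ModuleCat.{u} A) i).obj K)) :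
    Nonempty (sh k Rθ K ≅ sh m Rχ (sh n Rψ K)) := by
  haveI iβ : PreservesFiniteLimits (Es (betaHom A n m)) :=
    ModuleCat.preservesFiniteLimits_extendScalars_of_flat (betaHom_flat A n m)
  obtain ⟨Rπ, ⟨adjπ⟩⟩ := exists_rightAdj (piHom m ψ).toRingHom
  obtain ⟨RΘ, ⟨adjΘ⟩⟩ := exists_rightAdj (thetaHom m ψ χ).toRingHom
  have hΘsurj : Function.Surjective (thetaHom m ψ χ) := hχ.comp (piHom_surjective m ψ hψ)
  obtain ⟨s0⟩ := sh_indep k θ hθ Rθ adjθ (n + m) (thetaHom m ψ χ) hΘsurj RΘ adjΘ K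
  have hN : ∀ j : ℤ, j < c → IsZero ((homologyFunctor (ModuleCat.{u} (MvPolynomial (Fin n) A)) j).obj
      ((Gd (algebraMap A (MvPolynomial (Fin n) A))).obj K)) :=
    fun j hj => isZero_homology_Gd _ K j (hK j hj)
  obtain ⟨ebc⟩ := nonempty_baseChange_rightAdj (betaHom A n m) ψ.toRingHom (piHom m ψ).toRingHom
    (algebraMap B (MvPolynomial (Fin m) B)) (betaHom_flat A n m)
    (flat_algebraMap_mvPolynomial B m) (piHom_comp_betaHom m ψ) (ker_piHom m ψ) hψ
    (piHom_surjective m ψ hψ) Rψ adj Rπ adjπ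
    ((Gd (algebraMap A (MvPolynomial (Fin n) A))).obj K) c hN
  let e1 : RΘ ≅ Rπ ⋙ Rχ :=
    rightAdjComp (piHom m ψ).toRingHom χ.toRingHom (thetaHom m ψ χ).toRingHom
      (RingHom.ext fun _ => rfl) Rπ adjπ Rχ adjχ RΘ adjΘ
  let e2 : Gd (algebraMap A (MvPolynomial (Fin (n + m)) A)) ≅
      Gd (algebraMap A (MvPolynomial (Fin n) A)) ⋙ Gd (betaHom A n m) :=
    gdComp (algebraMap A (MvPolynomial (Fin n) A)) (betaHom A n m)
      (algebraMap A (MvPolynomial (Fin (n + m)) A)) (betaHom_comp_algebraMap A n m)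
  let X : Dual.D B := Rψ.obj ((Gd (algebraMap A (MvPolynomial (Fin n) A))).obj K)
  let Y : Dual.D (MvPolynomial (Fin m) B) := (Gd (algebraMap B (MvPolynomial (Fin m) B))).obj X
  let Z : Dual.D C := Rχ.obj Y
  let l1 : RΘ.obj ((Gd (algebraMap A (MvPolynomial (Fin (n + m)) A))).obj K) ≅ Z :=
    e1.app _ ≪≫ Rχ.mapIso (Rπ.mapIso (e2.app K)) ≪≫ Rχ.mapIso ebc.symm
  let r1 : (Gd (algebraMap B (MvPolynomial (Fin m) B))).obj (X⟦(n : ℤ)⟧) ≅ Y⟦(n : ℤ)⟧ :=
    ((Gd (algebraMap B (MvPolynomial (Fin m) B))).commShiftIso (n : ℤ)).app X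
  let r2 : Rχ.obj (Y⟦(n : ℤ)⟧) ≅ Z⟦(n : ℤ)⟧ :=
    (Adjunction.RightAdjointCommShift.iso adjχ (n : ℤ)).app Y
  let r3 : (Rχ.obj ((Gd (algebraMap B (MvPolynomial (Fin m) B))).obj (X⟦(n : ℤ)⟧)))⟦(m : ℤ)⟧ ≅
      (Z⟦(n : ℤ)⟧)⟦(m : ℤ)⟧ :=
    (shiftFunctor (Dual.D C) (m : ℤ)).mapIso (Rχ.mapIso r1 ≪≫ r2)
  let r4 : Z⟦((n + m : ℕ) : ℤ)⟧ ≅ (Z⟦(n : ℤ)⟧)⟦(m : ℤ)⟧ :=
    (shiftFunctorAdd' (Dual.D C) (n : ℤ) (m : ℤ) ((n + m : ℕ) : ℤ)
      (by push_cast; ring)).app Z
  exact ⟨s0 ≪≫ (shiftFunctor (Dual.D C) ((n + m : ℕ) : ℤ)).mapIso l1 ≪≫ r4 ≪≫ r3.symm⟩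

end Comp

end Groth.Agent.Helper11.Shr
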