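import Groth.Agent.Lib.Helper11.Shr9
import Mathlib.RingTheory.TensorProduct.MvPolynomial
import Mathlib.LinearAlgebra.TensorProduct.RightExactness

/-!
# Flat base change for upper shrieks formed from presentations (helper11)
-/

set_option autoImplicit false
set_option linter.unusedSectionVars false
set_option linter.unusedVariables false
set_option linter.style.haveILetI false

open CategoryTheory CategoryTheory.Limits DerivedCategory Pretriangulated TensorProduct

attribute [local instance] HasDerivedCategory.standard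

universe u

namespace Groth.Agent.Helper11.Shr

open Groth.Agent.Helper11.TorsBC

theorem flat_includeRight (R R' T : Type u) [CommRing R] [CommRing R'] [CommRing T]
    [Algebra R R'] [Algebra R T] [Module.Flat R R'] :
    (Algebra.TensorProduct.includeRight : T →ₐ[R] R' ⊗[R] T).toRingHom.Flat := by
  have h1 : (algebraMap T (T ⊗[R] R')).Flat := RingHom.flat_algebraMap_iff.mpr inferInstance
  have h2 : (Algebra.TensorProduct.includeRight : T →ₐ[R] R' ⊗[R] T).toRingHom =
      (Algebra.TensorProduct.comm R T R').toAlgHom.toRingHom.comp (algebraMap T (T ⊗[R] R')) := by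
    apply RingHom.ext
    intro x
    rfl
  rw [h2]
  exact RingHom.Flat.comp h1
    (RingHom.Flat.of_bijective (Algebra.TensorProduct.comm R T R').bijective)

section BC

variable (R R' : Type u) [CommRing R] [CommRing R'] [Algebra R R'] (n : ℕ)

/-- `R' ⊗ R[x] ≃ R'[x]` -/
noncomputable abbrev epsEquiv :
    R' ⊗[R] MvPolynomial (Fin n) R ≃ₐ[R'] MvPolynomial (Fin n) R' :=
  MvPolynomial.algebraTensorAlgEquiv R R'

/-- `R[x] → R'[x]` -/
noncomputable def betaBC : MvPolynomial (Fin n) R →+* MvPolynomial (Fin n) R' :=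
  (epsEquiv R R' n).toAlgHom.toRingHom.comp
    (Algebra.TensorProduct.includeRight :
      MvPolynomial (Fin n) R →ₐ[R] R' ⊗[R] MvPolynomial (Fin n) R).toRingHom

theorem betaBC_apply (x : MvPolynomial (Fin n) R) :
    betaBC R R' n x = epsEquiv R R' n (1 ⊗ₜ[R] x) := rfl

theorem betaBC_flat [Module.Flat R R'] : (betaBC R R' n).Flat :=
  RingHom.Flat.comp (flat_includeRight R R' (MvPolynomial (Fin n) R))
    (RingHom.Flat.of_bijective (epsEquiv R R' n).bijective)

theorem betaBC_comp_algebraMap :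
    (algebraMap R' (MvPolynomial (Fin n) R')).comp (algebraMap R R') =
      (betaBC R R' n).comp (algebraMap R (MvPolynomial (Fin n) R)) := by
  apply RingHom.ext
  intro r
  show (MvPolynomial.C (algebraMap R R' r) : MvPolynomial (Fin n) R') =
    epsEquiv R R' n (1 ⊗ₜ[R] (MvPolynomial.C r))
  rw [MvPolynomial.algebraTensorAlgEquiv_tmul, one_smul, MvPolynomial.map_C]

variable {R R' n} {A : Type u} [CommRing A] [Algebra R A]

/-- the base change `R'[x] → R' ⊗ A` of a presentation `R[x] → A` -/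
noncomputable def psiBC (ψ : MvPolynomial (Fin n) R →ₐ[R] A) :
    MvPolynomial (Fin n) R' →ₐ[R'] R' ⊗[R] A :=
  (Algebra.TensorProduct.map (AlgHom.id R' R') ψ).comp (epsEquiv R R' n).symm.toAlgHom

theorem psiBC_betaBC (ψ : MvPolynomial (Fin n) R →ₐ[R] A) (x : MvPolynomial (Fin n) R) :
    psiBC (R' := R') ψ (betaBC R R' n x) = 1 ⊗ₜ[R] ψ x := by
  show Algebra.TensorProduct.map (AlgHom.id R' R') ψ
    ((epsEquiv R R' n).symm (epsEquiv R R' n (1 ⊗ₜ[R] x))) = _
  rw [AlgEquiv.symm_apply_apply]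
  rfl

theorem psiBC_comp_betaBC (ψ : MvPolynomial (Fin n) R →ₐ[R] A) :
    (psiBC (R' := R') ψ).toRingHom.comp (betaBC R R' n) =
      (Algebra.TensorProduct.includeRight : A →ₐ[R] R' ⊗[R] A).toRingHom.comp ψ.toRingHom :=
  RingHom.ext (fun x => psiBC_betaBC ψ x)

theorem map_id_eq (ψ : MvPolynomial (Fin n) R →ₐ[R] A) (y : R' ⊗[R] MvPolynomial (Fin n) R) :
    Algebra.TensorProduct.map (AlgHom.id R' R') ψ y =
      Algebra.TensorProduct.map (AlgHom.id R R') ψ y := by
  induction y using TensorProduct.induction_on with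
  | zero => rw [map_zero, map_zero]
  | tmul a b => rfl
  | add u v hu hv => rw [map_add, map_add, hu, hv]

theorem ker_psiBC (ψ : MvPolynomial (Fin n) R →ₐ[R] A) (hψ : Function.Surjective ψ) :
    RingHom.ker (psiBC (R' := R') ψ).toRingHom =
      Ideal.map (betaBC R R' n) (RingHom.ker ψ.toRingHom) := by
  apply le_antisymm
  · intro x hx
    have hx' : (epsEquiv R R' n).symm x ∈
        RingHom.ker (Algebra.TensorProduct.map (AlgHom.id R R') ψ) := by
      rw [RingHom.mem_ker, ← map_id_eq]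
      exact (RingHom.mem_ker).mp hx
    rw [Algebra.TensorProduct.lTensor_ker ψ hψ] at hx'
    have hx'' : (epsEquiv R R' n).symm x ∈ Ideal.map
        (Algebra.TensorProduct.includeRight :
          MvPolynomial (Fin n) R →ₐ[R] R' ⊗[R] MvPolynomial (Fin n) R).toRingHom
        (RingHom.ker ψ.toRingHom) := hx'
    have h3 := Ideal.mem_map_of_mem (epsEquiv R R' n).toAlgHom.toRingHom hx''
    rw [Ideal.map_map] at h3
    have h4 : (epsEquiv R R' n).toAlgHom.toRingHom ((epsEquiv R R' n).symm x) = x :=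
      (epsEquiv R R' n).apply_symm_apply x
    rw [h4] at h3
    exact h3
  · rw [Ideal.map_le_iff_le_comap]
    intro x hx
    rw [Ideal.mem_comap, RingHom.mem_ker]
    show psiBC (R' := R') ψ (betaBC R R' n x) = 0
    have hx0 : ψ x = 0 := (RingHom.mem_ker).mp hx
    rw [psiBC_betaBC, hx0, TensorProduct.tmul_zero]

theorem psiBC_surjective (ψ : MvPolynomial (Fin n) R →ₐ[R] A) (hψ : Function.Surjective ψ) :
    Function.Surjective (psiBC (R' := R') ψ) := by
  have h1 : Function.Surjective (Algebra.TensorProduct.map (AlgHom.id R' R') ψ) := by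
    intro w
    induction w using TensorProduct.induction_on with
    | zero => exact ⟨0, map_zero _⟩
    | tmul r a =>
      obtain ⟨p, rfl⟩ := hψ a
      exact ⟨r ⊗ₜ[R] p, rfl⟩
    | add u v hu hv =>
      obtain ⟨u', rfl⟩ := hu
      obtain ⟨v', rfl⟩ := hv
      exact ⟨u' + v', map_add _ _ _⟩
  exact h1.comp (epsEquiv R R' n).symm.surjective

end BC

section Main

variable (R R' A : Type u) [CommRing R] [CommRing R'] [CommRing A] [IsNoetherianRing R]
  [IsNoetherianRing A] [Algebra R R'] [Module.Flat R R'] [Algebra R A]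

/-- **flat base change of upper shrieks**, for the termwise shriek objects -/
theorem sh_flat_baseChange (n : ℕ) (ψ : MvPolynomial (Fin n) R →ₐ[R] A)
    (hψ : Function.Surjective ψ)
    (Rψ : Dual.D (MvPolynomial (Fin n) R) ⥤ Dual.D A) (adj : resD ψ.toRingHom ⊣ Rψ) (m : ℕ)
    (ψ' : MvPolynomial (Fin m) R' →ₐ[R'] (R' ⊗[R] A)) (hψ' : Function.Surjective ψ')
    (Rψ' : Dual.D (MvPolynomial (Fin m) R') ⥤ Dual.D (R' ⊗[R] A))
    (adj' : resD ψ'.toRingHom ⊣ Rψ')
    [PreservesFiniteLimits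
      (Es (Algebra.TensorProduct.includeRight : A →ₐ[R] R' ⊗[R] A).toRingHom)]
    [PreservesFiniteLimits (Es (algebraMap R R'))]
    (K : Dual.D R) (c : ℤ)
    (hK : ∀ i : ℤ, i < c → IsZero ((homologyFunctor (ModuleCat.{u} R) i).obj K)) :
    Nonempty ((Gd (Algebra.TensorProduct.includeRight : A →ₐ[R] R' ⊗[R] A).toRingHom).obj
        (sh n Rψ K) ≅ sh m Rψ' ((Gd (algebraMap R R')).obj K)) := by
  have hβ := betaBC_flat R R' n
  haveI iβ : PreservesFiniteLimits (Es (betaBC R R' n)) :=
    ModuleCat.preservesFiniteLimits_extendScalars_of_flat hβ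
  have hγ : (algebraMap R (MvPolynomial (Fin n) R')).Flat := by
    rw [IsScalarTower.algebraMap_eq R R' (MvPolynomial (Fin n) R')]
    exact RingHom.Flat.comp (RingHom.flat_algebraMap_iff.mpr inferInstance)
      (flat_algebraMap_mvPolynomial R' n)
  haveI iγ : PreservesFiniteLimits (Es (algebraMap R (MvPolynomial (Fin n) R'))) :=
    ModuleCat.preservesFiniteLimits_extendScalars_of_flat hγ
  obtain ⟨Rψ₁, ⟨adj₁⟩⟩ := exists_rightAdj (psiBC (R' := R') ψ).toRingHom
  obtain ⟨s0⟩ := sh_indep m ψ' hψ' Rψ' adj' n (psiBC (R' := R') ψ) (psiBC_surjective ψ hψ)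
    Rψ₁ adj₁ ((Gd (algebraMap R R')).obj K)
  have hN : ∀ j : ℤ, j < c →
      IsZero ((homologyFunctor (ModuleCat.{u} (MvPolynomial (Fin n) R)) j).obj
        ((Gd (algebraMap R (MvPolynomial (Fin n) R))).obj K)) :=
    fun j hj => isZero_homology_Gd _ K j (hK j hj)
  obtain ⟨ebc⟩ := nonempty_baseChange_rightAdj (betaBC R R' n) ψ.toRingHom
    (psiBC (R' := R') ψ).toRingHom
    (Algebra.TensorProduct.includeRight : A →ₐ[R] R' ⊗[R] A).toRingHom
    hβ (flat_includeRight R R' A) (psiBC_comp_betaBC ψ) (ker_psiBC ψ hψ) hψ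
    (psiBC_surjective ψ hψ) Rψ adj Rψ₁ adj₁
    ((Gd (algebraMap R (MvPolynomial (Fin n) R))).obj K) c hN
  let ea : Gd (algebraMap R (MvPolynomial (Fin n) R')) ≅
      Gd (algebraMap R (MvPolynomial (Fin n) R)) ⋙ Gd (betaBC R R' n) :=
    gdComp (algebraMap R (MvPolynomial (Fin n) R)) (betaBC R R' n)
      (algebraMap R (MvPolynomial (Fin n) R'))
      ((IsScalarTower.algebraMap_eq R R' (MvPolynomial (Fin n) R')).trans
        (betaBC_comp_algebraMap R R' n))
  let eb : Gd (algebraMap R (MvPolynomial (Fin n) R')) ≅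
      Gd (algebraMap R R') ⋙ Gd (algebraMap R' (MvPolynomial (Fin n) R')) :=
    gdComp (algebraMap R R') (algebraMap R' (MvPolynomial (Fin n) R'))
      (algebraMap R (MvPolynomial (Fin n) R'))
      (IsScalarTower.algebraMap_eq R R' (MvPolynomial (Fin n) R'))
  let X : Dual.D A := Rψ.obj ((Gd (algebraMap R (MvPolynomial (Fin n) R))).obj K)
  let l1 : (Gd (Algebra.TensorProduct.includeRight : A →ₐ[R] R' ⊗[R] A).toRingHom).obj
        (X⟦(n : ℤ)⟧) ≅
      ((Gd (Algebra.TensorProduct.includeRight : A →ₐ[R] R' ⊗[R] A).toRingHom).obj X)⟦(n : ℤ)⟧ :=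
    ((Gd (Algebra.TensorProduct.includeRight : A →ₐ[R] R' ⊗[R] A).toRingHom).commShiftIso
      (n : ℤ)).app X
  let r1 : (Gd (algebraMap R' (MvPolynomial (Fin n) R'))).obj ((Gd (algebraMap R R')).obj K) ≅
      (Gd (betaBC R R' n)).obj ((Gd (algebraMap R (MvPolynomial (Fin n) R))).obj K) :=
    (eb.app K).symm ≪≫ ea.app K
  let r2 : Rψ₁.obj ((Gd (algebraMap R' (MvPolynomial (Fin n) R'))).obj
        ((Gd (algebraMap R R')).obj K)) ≅
      (Gd (Algebra.TensorProduct.includeRight : A →ₐ[R] R' ⊗[R] A).toRingHom).obj X :=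
    Rψ₁.mapIso r1 ≪≫ ebc.symm
  exact ⟨l1 ≪≫ (shiftFunctor (Dual.D (R' ⊗[R] A)) (n : ℤ)).mapIso r2.symm ≪≫ s0.symm⟩

end Main

end Groth.Agent.Helper11.Shr
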