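import Groth.Agent.Lib.Helper11.Shr7
import Mathlib.RingTheory.IsTensorProduct

/-!
# Base change of restriction of scalars along a pushout square of rings (helper11)

For a pushout square of commutative rings `A' = P' ⊗_P A`, the natural map
`P' ⊗_P M → A' ⊗_A M` is bijective for every `A`-module `M`.
-/

set_option autoImplicit false
set_option linter.unusedSectionVars false
set_option linter.unusedVariables false
set_option linter.style.haveILetI false

open CategoryTheory CategoryTheory.Limits

universe u

namespace Groth.Agent.Helper11.Shr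

open Groth.Agent.Helper11.TorsBC

section Gen

variable {P P' A A' : Type u} [CommRing P] [CommRing P'] [CommRing A] [CommRing A']
  (β : P →+* P') (ψ : P →+* A) (ψ' : P' →+* A') (α : A →+* A')
  (hsq : ψ'.comp β = α.comp ψ)

theorem isIso_lam_app_of_bij (M : ModuleCat.{u} A)
    (hbij : Function.Bijective (lamFun β ψ ψ' α hsq M)) :
    IsIso ((lam β ψ ψ' α hsq).app M) := by
  rw [ConcreteCategory.isIso_iff_bijective]
  exact hbij

/-- the base change isomorphism, given bijectivity of the comparison maps -/
noncomputable def lamIsoOfBij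
    (hbij : ∀ M : ModuleCat.{u} A, Function.Bijective (lamFun β ψ ψ' α hsq M)) :
    Rs ψ ⋙ Es β ≅ Es α ⋙ Rs ψ' :=
  haveI : ∀ M, IsIso ((lam β ψ ψ' α hsq).app M) :=
    fun M => isIso_lam_app_of_bij β ψ ψ' α hsq M (hbij M)
  NatIso.ofComponents (fun M => asIso ((lam β ψ ψ' α hsq).app M))
    (fun f => (lam β ψ ψ' α hsq).naturality f)

section Der

open DerivedCategory

attribute [local instance] HasDerivedCategory.standard

variable [PreservesFiniteLimits (Es β)] [PreservesFiniteLimits (Es α)]

/-- derived base change commutes with restriction of scalars, given bijectivity of the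
module-level comparison maps -/
noncomputable def thetaIsoOfBij
    (hbij : ∀ M : ModuleCat.{u} A, Function.Bijective (lamFun β ψ ψ' α hsq M)) :
    Gd α ⋙ resD ψ' ≅ resD ψ ⋙ Gd β :=
  (mapDComp (Es α) (Rs ψ') (Es α ⋙ Rs ψ') (Iso.refl _)).symm ≪≫
    mapDComp (Rs ψ) (Es β) (Es α ⋙ Rs ψ') (lamIsoOfBij β ψ ψ' α hsq hbij)

end Der

end Gen

section Pushout

open TensorProduct

/-- `T` with the module structure restricted along `algebraMap S T` is `T` -/
noncomputable def bridgeT (S T : Type u) [CommRing S] [CommRing T] [Algebra S T] :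
    Tι (algebraMap S T) ≃ₗ[S] T where
  toFun x := ofTι _ x
  invFun x := toTι _ x
  map_add' _ _ := rfl
  map_smul' p x := by
    show algebraMap S T p * ofTι (algebraMap S T) x = p • ofTι (algebraMap S T) x
    rw [Algebra.smul_def]
  left_inv _ := rfl
  right_inv _ := rfl

theorem bridgeT_apply (S T : Type u) [CommRing S] [CommRing T] [Algebra S T]
    (x : Tι (algebraMap S T)) : bridgeT S T x = ofTι _ x := rfl

variable {P P' A A' : Type u} [CommRing P] [CommRing P'] [CommRing A] [CommRing A']
  [Algebra P P'] [Algebra P A] [Algebra P' A'] [Algebra A A'] [Algebra P A']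
  [IsScalarTower P A A'] [IsScalarTower P P' A']

theorem sq_of_towers :
    (algebraMap P' A').comp (algebraMap P P') = (algebraMap A A').comp (algebraMap P A) := by
  rw [← IsScalarTower.algebraMap_eq P P' A', ← IsScalarTower.algebraMap_eq P A A']

variable [Algebra.IsPushout P P' A A']

theorem lamFun_bijective_of_isPushout (M : ModuleCat.{u} A) :
    Function.Bijective (lamFun (algebraMap P P') (algebraMap P A) (algebraMap P' A')
      (algebraMap A A') sq_of_towers M) := by
  haveI : IsScalarTower P A ((Rs (algebraMap P A)).obj M) :=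
    ⟨fun p a m => by
      show (p • a) • ofR (algebraMap P A) M m = algebraMap P A p • (a • ofR (algebraMap P A) M m)
      rw [Algebra.smul_def, mul_smul]⟩
  let cbc := Algebra.IsPushout.cancelBaseChange P P' A A' ((Rs (algebraMap P A)).obj M)
  let b₁ : Tι (algebraMap P P') ⊗[P] ((Rs (algebraMap P A)).obj M) ≃ₗ[P]
      P' ⊗[P] ((Rs (algebraMap P A)).obj M) :=
    TensorProduct.congr (bridgeT P P') (LinearEquiv.refl P _)
  let idE : M ≃ₗ[A] ((Rs (algebraMap P A)).obj M) := LinearEquiv.refl A M
  let b₂ : Tι (algebraMap A A') ⊗[A] M ≃ₗ[A] A' ⊗[A] ((Rs (algebraMap P A)).obj M) :=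
    TensorProduct.congr (bridgeT A A') idE
  have claim : ∀ z : (Es (algebraMap P P')).obj ((Rs (algebraMap P A)).obj M),
      b₂ (lamFun (algebraMap P P') (algebraMap P A) (algebraMap P' A') (algebraMap A A')
        sq_of_towers M z) = cbc.symm (b₁ z) := by
    intro z
    refine es_induction (P := fun z => b₂ (lamFun (algebraMap P P') (algebraMap P A)
      (algebraMap P' A') (algebraMap A A') sq_of_towers M z) = cbc.symm (b₁ z)) z ?_ ?_ ?_
    · have e1 : b₂ (0 : (Es (algebraMap A A')).obj M) = 0 := map_zero b₂
      have e2 : b₁ (0 : (Es (algebraMap P P')).obj ((Rs (algebraMap P A)).obj M)) = 0 :=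
        map_zero b₁
      have e3 : cbc.symm (0 : P' ⊗[P] ((Rs (algebraMap P A)).obj M)) = 0 := map_zero cbc.symm
      rw [lamFun_zero, e1, e2, e3]
    · intro x m
      rw [lamFun_pt]
      have h1 : b₁ (pt (algebraMap P P') ((Rs (algebraMap P A)).obj M) x m) =
          ofTι (algebraMap P P') x ⊗ₜ[P] m := rfl
      have h2 : b₂ (pt (algebraMap A A') M
          (toTι (algebraMap A A') (algebraMap P' A' (ofTι (algebraMap P P') x)))
          (ofR (algebraMap P A) M m)) =
          algebraMap P' A' (ofTι (algebraMap P P') x) ⊗ₜ[A] m := rfl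
      rw [h1, h2, Algebra.IsPushout.cancelBaseChange_symm_tmul]
    · intro a b ha hb
      have e1 : ∀ u v : (Es (algebraMap A A')).obj M, b₂ (u + v) = b₂ u + b₂ v :=
        fun u v => map_add b₂ u v
      have e2 : ∀ u v : (Es (algebraMap P P')).obj ((Rs (algebraMap P A)).obj M),
          b₁ (u + v) = b₁ u + b₁ v := fun u v => map_add b₁ u v
      rw [lamFun_add, e1, e2, map_add, ha, hb]
  have h : lamFun (algebraMap P P') (algebraMap P A) (algebraMap P' A') (algebraMap A A')
      sq_of_towers M = fun z => b₂.symm (cbc.symm (b₁ z)) :=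
    funext (fun z => by
      have h1 := congrArg b₂.symm (claim z)
      exact (b₂.symm_apply_apply (lamFun (algebraMap P P') (algebraMap P A) (algebraMap P' A')
        (algebraMap A A') sq_of_towers M z)).symm.trans h1)
  rw [h]
  exact (b₂.symm.bijective.comp cbc.symm.bijective).comp b₁.bijective

end Pushout

end Groth.Agent.Helper11.Shr
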