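import Groth.Agent.Lib.Helper8.FBC4

/-!
# Flat base change of `Hom(K, Y)` for `K` finite free and `Y` arbitrary (helper11)

A variant of helper8's dévissage without any boundedness assumption on the target, for sources in
the thick closure of the ring.
-/

set_option autoImplicit false
set_option linter.unusedSectionVars false
set_option linter.unusedVariables false
set_option linter.style.haveILetI false

open CategoryTheory CategoryTheory.Limits Opposite Pretriangulated

universe u

namespace Groth.Agent.Helper11.Shr

open DerivedCategory TensorProduct Groth.Agent.Helper8.FBC Groth.Agent.Helper8.LOC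

attribute [local instance] HasDerivedCategory.standard

section Unb

variable {A : Type u} [CommRing A] {B : Type u} [CommRing B] [Algebra A B]
variable {Y Y' : Dual.D A}

/-- base change data inducing base change on all cohomology modules (no boundedness) -/
def GoodU (d : BCData B Y Y') : Prop := ∀ j : ℤ, Function.Bijective (LamH d j)

theorem GoodU.shift {d : BCData B Y Y'} (hd : GoodU d) (n : ℤ) : GoodU (d.shift n) := by
  intro j
  have h := LamH_shift d n j
  have hb1 : Function.Bijective (eH n j Y').hom.hom :=
    ((eH n j Y').toLinearEquiv).bijective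
  have hb2 : Function.Bijective (LinearMap.lTensor B (eH n j Y).hom.hom) :=
    lTensor_bijective _ ((eH n j Y).toLinearEquiv).bijective
  have h3 : Function.Bijective ((eH n j Y').hom.hom ∘ₗ LamH (d.shift n) j) := by
    rw [h, LinearMap.coe_comp]
    exact (hd (n + j)).comp hb2
  rw [LinearMap.coe_comp] at h3
  exact (Function.Bijective.of_comp_iff' hb1 _).mp h3

theorem lam_inD_self_bijective_U {d : BCData B Y Y'} (hd : GoodU d) :
    Function.Bijective (Lam d (Dual.inD A A)) := by
  have h : (Groth.Agent.Helper8.LD.evHom Y') ∘ₗ Lam d (Dual.inD A A) =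
      LamH d 0 ∘ₗ LinearMap.lTensor B (Groth.Agent.Helper8.LD.evHom Y) := by
    apply TensorProduct.ext'
    intro b f
    rw [LinearMap.comp_apply, LinearMap.comp_apply, LinearMap.lTensor_tmul, Lam_tmul, LamH_tmul,
      ← Category.assoc, Groth.Agent.Helper8.LD.evHom_comp, Groth.Agent.Helper8.LD.evHom_comp]
  have hb2 : Function.Bijective
      (LinearMap.lTensor B (Groth.Agent.Helper8.LD.evHom Y)) :=
    lTensor_bijective _ (Groth.Agent.Helper8.LD.evHom_bijective Y)
  have h3 : Function.Bijective ((Groth.Agent.Helper8.LD.evHom Y') ∘ₗ Lam d (Dual.inD A A)) := by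
    rw [h, LinearMap.coe_comp]
    exact (hd 0).comp hb2
  rw [LinearMap.coe_comp] at h3
  exact (Function.Bijective.of_comp_iff' (Groth.Agent.Helper8.LD.evHom_bijective Y') _).mp h3

variable (B)

/-- the property proved by dévissage, without boundedness -/
def PPU (K : Dual.D A) : Prop :=
  ∀ (Y Y' : Dual.D A) (d : BCData B Y Y'), GoodU d → LI d K ∧ LS d K

variable {B}

theorem PPU_shift {K : Dual.D A} (h : PPU B K) (n : ℤ) : PPU B (K⟦n⟧) := by
  intro Y Y' d hd
  obtain ⟨h1, h2⟩ := h _ _ _ (hd.shift (-n))
  exact ⟨LI_shift h1, LS_shift h2⟩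

variable [Module.Flat A B]

theorem PPU_thickLike : Groth.Agent.Helper11.DC.ThickLike (PPU B (A := A)) where
  iso e h := fun Y Y' d hd => ⟨LI_of_iso e (h Y Y' d hd).1, LS_of_iso e (h Y Y' d hd).2⟩
  shift K n h := PPU_shift h n
  ext T hT h1 h3 := by
    intro Y Y' d hd
    have hT' := inv_rot_of_distTriang T hT
    have h1s := PPU_shift h1 1
    have h3s := PPU_shift (PPU_shift h3 (-1)) 1
    exact ⟨LI_obj₃ T.invRotate hT' (h1 Y Y' d hd).1 (h1s Y Y' d hd).2 (h3s Y Y' d hd).1,
      LS_obj₃ T.invRotate hT' (h1 Y Y' d hd).2 (PPU_shift h3 (-1) Y Y' d hd).1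
        (h3s Y Y' d hd).2⟩
  zero K hK := fun _ _ d _ => ⟨LI_of_isZero hK, LS_of_isZero hK⟩

omit [Module.Flat A B] in
theorem PPU_inD_self : PPU B (Dual.inD A A) :=
  fun _ _ _ hd => ⟨(lam_inD_self_bijective_U hd).1, (lam_inD_self_bijective_U hd).2⟩

set_option maxHeartbeats 1600000 in
theorem PPU_fin (n : ℕ) : PPU B (Dual.inD A (Fin n → A)) := by
  induction n with
  | zero =>
    apply (PPU_thickLike (B := B)).zero
    exact Functor.map_isZero _ (ModuleCat.isZero_of_subsingleton _)
  | succ n ih =>
    have hT :=
      (Groth.Agent.Helper8.LOC.isSES_fin (A := A) n).shortExact.singleTriangle_distinguished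
    exact (PPU_thickLike (B := B)).ext _ hT (PPU_inD_self (B := B)) ih

theorem PPU_of_free (M : Type u) [AddCommGroup M] [Module A M] [Module.Free A M]
    [Module.Finite A M] : PPU B (Dual.inD A M) := by
  let ι := Module.Free.ChooseBasisIndex A M
  let n := Fintype.card ι
  let e : M ≃ₗ[A] (Fin n → A) :=
    (Module.Free.chooseBasis A M).equivFun.trans
      (LinearEquiv.funCongrLeft A A (Fintype.equivFin ι).symm)
  exact (PPU_thickLike (B := B)).iso
    ((DerivedCategory.singleFunctor (ModuleCat.{u} A) 0).mapIso e.toModuleIso).symm (PPU_fin n)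

variable (B)
variable [PreservesFiniteLimits (Efun (algebraMap A B))]

omit [Module.Flat A B] in
theorem goodU_dat (Y : Dual.D A) : GoodU (dat B Y) := fun j =>
  (isBCFam_dat B Y j).bijective_of_tmul _ (fun b m => by
    rw [LamH_tmul, Functor.map_comp]
    rfl)

omit [Module.Flat A B] in
/-- flat base change for `Hom(K, Y)` with `K` in the thick closure of the ring, `Y` arbitrary -/
theorem Psi_bijective_of_PPU (K : Dual.D A) (hK : PPU B K) (Y : Dual.D A) :
    Function.Bijective (Psi B K Y) := by
  have h := hK _ _ (dat B Y) (goodU_dat B Y)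
  exact ((adjD (algebraMap A B)).homEquiv K ((Ld (algebraMap A B)).obj Y)).symm.bijective.comp
    ⟨h.1, h.2⟩

end Unb

end Groth.Agent.Helper11.Shr
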