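import Groth.Agent.Lib.Helper11.Shr2
import Mathlib.Algebra.MvPolynomial.Equiv
import Mathlib.RingTheory.Flat.Basic

/-!
# Polynomial rings: removing one variable (helper11)

`incl p : R[x_1..x_k] → R[x_1..x_{k+1}]` inserts a new variable at position `p`, and
`retr p g` evaluates that variable at `g`.  These form a retraction pair whose kernel is generated
by the nonzerodivisor `X p - incl p g`, and `incl p` is flat.
-/

set_option autoImplicit false
set_option linter.unusedSectionVars false
set_option linter.unusedVariables false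
set_option linter.style.haveILetI false

open CategoryTheory CategoryTheory.Limits

universe u

namespace Groth.Agent.Helper11.Shr

open Groth.Agent.Helper11.TorsBC

variable {R : Type u} [CommRing R] (k : ℕ) (p : Fin (k + 1))

/-- insert a new variable at position `p` -/
noncomputable def inclA : MvPolynomial (Fin k) R →ₐ[R] MvPolynomial (Fin (k + 1)) R :=
  MvPolynomial.rename p.succAbove

/-- the values of the variables under `retrA` -/
noncomputable def retrVal (g : MvPolynomial (Fin k) R) : Fin (k + 1) → MvPolynomial (Fin k) R :=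
  Fin.insertNth (α := fun _ => MvPolynomial (Fin k) R) p g (fun i => MvPolynomial.X i)

theorem retrVal_same (g : MvPolynomial (Fin k) R) : retrVal k p g p = g := by
  unfold retrVal
  exact Fin.insertNth_apply_same (α := fun _ => MvPolynomial (Fin k) R) p g _

theorem retrVal_succAbove (g : MvPolynomial (Fin k) R) (j : Fin k) :
    retrVal k p g (p.succAbove j) = MvPolynomial.X j := by
  unfold retrVal
  exact Fin.insertNth_apply_succAbove (α := fun _ => MvPolynomial (Fin k) R) p g _ j

/-- evaluate the variable at position `p` at `g` -/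
noncomputable def retrA (g : MvPolynomial (Fin k) R) :
    MvPolynomial (Fin (k + 1)) R →ₐ[R] MvPolynomial (Fin k) R :=
  MvPolynomial.aeval (retrVal k p g)

theorem inclA_X (j : Fin k) : inclA (R := R) k p (MvPolynomial.X j) = MvPolynomial.X (p.succAbove j) :=
  MvPolynomial.rename_X _ _

theorem inclA_C (r : R) : inclA (R := R) k p (MvPolynomial.C r) = MvPolynomial.C r :=
  MvPolynomial.rename_C _ _

theorem retrA_X_same (g : MvPolynomial (Fin k) R) : retrA k p g (MvPolynomial.X p) = g := by
  unfold retrA
  rw [MvPolynomial.aeval_X, retrVal_same]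

theorem retrA_X_succAbove (g : MvPolynomial (Fin k) R) (j : Fin k) :
    retrA k p g (MvPolynomial.X (p.succAbove j)) = MvPolynomial.X j := by
  unfold retrA
  rw [MvPolynomial.aeval_X, retrVal_succAbove]

theorem retrA_inclA (g f : MvPolynomial (Fin k) R) : retrA k p g (inclA k p f) = f := by
  have h1 : (retrA k p g).comp (inclA k p) = AlgHom.id R _ := by
    apply MvPolynomial.algHom_ext
    intro j
    rw [AlgHom.comp_apply, inclA_X, retrA_X_succAbove, AlgHom.id_apply]
  exact DFunLike.congr_fun h1 f

/-- the generator of the kernel -/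
noncomputable def tgen (g : MvPolynomial (Fin k) R) : MvPolynomial (Fin (k + 1)) R :=
  MvPolynomial.X p - inclA k p g

theorem retrA_tgen (g : MvPolynomial (Fin k) R) : retrA k p g (tgen k p g) = 0 := by
  unfold tgen
  rw [map_sub, retrA_X_same, retrA_inclA, sub_self]

theorem sub_mem_span (g : MvPolynomial (Fin k) R) (F : MvPolynomial (Fin (k + 1)) R) :
    F - inclA k p (retrA k p g F) ∈ Ideal.span {tgen k p g} := by
  let J : Ideal (MvPolynomial (Fin (k + 1)) R) := Ideal.span {tgen k p g}
  let φ₁ : MvPolynomial (Fin (k + 1)) R →+* (MvPolynomial (Fin (k + 1)) R ⧸ J) :=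
    Ideal.Quotient.mk J
  let φ₂ : MvPolynomial (Fin (k + 1)) R →+* (MvPolynomial (Fin (k + 1)) R ⧸ J) :=
    (Ideal.Quotient.mk J).comp ((inclA k p).toRingHom.comp (retrA k p g).toRingHom)
  have h12 : φ₁ = φ₂ := by
    apply MvPolynomial.ringHom_ext
    · intro r
      show Ideal.Quotient.mk J (MvPolynomial.C r) =
        Ideal.Quotient.mk J (inclA k p (retrA k p g (MvPolynomial.C r)))
      have h1 : retrA k p g (MvPolynomial.C r) = MvPolynomial.C r := by
        unfold retrA
        rw [MvPolynomial.aeval_C]
        rfl
      rw [h1, inclA_C]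
    · intro i
      show Ideal.Quotient.mk J (MvPolynomial.X i) =
        Ideal.Quotient.mk J (inclA k p (retrA k p g (MvPolynomial.X i)))
      rcases Fin.eq_self_or_eq_succAbove p i with rfl | ⟨j, rfl⟩
      · rw [retrA_X_same, Ideal.Quotient.eq]
        exact Ideal.mem_span_singleton_self _
      · rw [retrA_X_succAbove, inclA_X]
  rw [← Ideal.Quotient.eq]
  exact DFunLike.congr_fun h12 F

theorem ker_retrA (g : MvPolynomial (Fin k) R) :
    RingHom.ker (retrA k p g).toRingHom = Ideal.span {tgen k p g} := by
  apply le_antisymm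
  · intro F hF
    have h1 : retrA k p g F = 0 := hF
    have h2 := sub_mem_span k p g F
    rw [h1, map_zero, sub_zero] at h2
    exact h2
  · rw [Ideal.span_le]
    intro F hF
    rw [Set.mem_singleton_iff] at hF
    subst hF
    exact retrA_tgen k p g

/-- the comparison with the polynomial ring in one variable -/
noncomputable def polyEquiv :
    MvPolynomial (Fin (k + 1)) R ≃ₐ[R] Polynomial (MvPolynomial (Fin k) R) :=
  (MvPolynomial.renameEquiv R (finSuccEquiv' p)).trans (MvPolynomial.optionEquivLeft R (Fin k))

theorem polyEquiv_X_same : polyEquiv (R := R) k p (MvPolynomial.X p) = Polynomial.X := by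
  unfold polyEquiv
  rw [AlgEquiv.trans_apply, MvPolynomial.renameEquiv_apply, MvPolynomial.rename_X,
    finSuccEquiv'_at, MvPolynomial.optionEquivLeft_X_none]

theorem polyEquiv_X_succAbove (j : Fin k) :
    polyEquiv (R := R) k p (MvPolynomial.X (p.succAbove j)) = Polynomial.C (MvPolynomial.X j) := by
  unfold polyEquiv
  rw [AlgEquiv.trans_apply, MvPolynomial.renameEquiv_apply, MvPolynomial.rename_X,
    finSuccEquiv'_succAbove, MvPolynomial.optionEquivLeft_X_some]

theorem polyEquiv_C (r : R) :
    polyEquiv (R := R) k p (MvPolynomial.C r) = Polynomial.C (MvPolynomial.C r) := by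
  unfold polyEquiv
  rw [AlgEquiv.trans_apply, MvPolynomial.renameEquiv_apply, MvPolynomial.rename_C,
    MvPolynomial.optionEquivLeft_C]

theorem polyEquiv_inclA (f : MvPolynomial (Fin k) R) :
    polyEquiv k p (inclA k p f) = Polynomial.C f := by
  let φ₁ : MvPolynomial (Fin k) R →+* Polynomial (MvPolynomial (Fin k) R) :=
    (polyEquiv (R := R) k p).toAlgHom.toRingHom.comp (inclA k p).toRingHom
  let φ₂ : MvPolynomial (Fin k) R →+* Polynomial (MvPolynomial (Fin k) R) := Polynomial.C
  have h12 : φ₁ = φ₂ := by
    apply MvPolynomial.ringHom_ext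
    · intro r
      show polyEquiv k p (inclA k p (MvPolynomial.C r)) = Polynomial.C (MvPolynomial.C r)
      rw [inclA_C, polyEquiv_C]
    · intro j
      show polyEquiv k p (inclA k p (MvPolynomial.X j)) = Polynomial.C (MvPolynomial.X j)
      rw [inclA_X, polyEquiv_X_succAbove]
  exact DFunLike.congr_fun h12 f

theorem polyEquiv_tgen (g : MvPolynomial (Fin k) R) :
    polyEquiv k p (tgen k p g) = Polynomial.X - Polynomial.C g := by
  unfold tgen
  rw [map_sub, polyEquiv_X_same, polyEquiv_inclA]

theorem tgen_regular (g : MvPolynomial (Fin k) R) (x : MvPolynomial (Fin (k + 1)) R)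
    (hx : tgen k p g * x = 0) : x = 0 := by
  have h1 : polyEquiv k p (tgen k p g) * polyEquiv k p x = 0 := by
    rw [← map_mul, hx, map_zero]
  rw [polyEquiv_tgen] at h1
  have h2 : polyEquiv k p x = 0 :=
    (Polynomial.monic_X_sub_C g).isRegular.left (by
      show (Polynomial.X - Polynomial.C g) * polyEquiv k p x = (Polynomial.X - Polynomial.C g) * 0
      rw [h1, mul_zero])
  exact (polyEquiv (R := R) k p).injective (by rw [h2, map_zero])

/-- the retraction data for removing the variable at position `p` -/
theorem retr_inclA (g : MvPolynomial (Fin k) R) :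
    Retr (inclA (R := R) k p).toRingHom (retrA k p g).toRingHom (tgen k p g) where
  sec f := retrA_inclA k p g f
  ker := ker_retrA k p g
  reg := tgen_regular k p g

theorem flat_inclA : (inclA (R := R) k p).toRingHom.Flat := by
  letI : Algebra (MvPolynomial (Fin k) R) (MvPolynomial (Fin (k + 1)) R) :=
    (inclA (R := R) k p).toRingHom.toAlgebra
  let l : MvPolynomial (Fin (k + 1)) R ≃ₗ[MvPolynomial (Fin k) R]
      Polynomial (MvPolynomial (Fin k) R) :=
    { (polyEquiv (R := R) k p).toAddEquiv with
      map_smul' := fun a x => by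
        show polyEquiv k p (inclA k p a * x) = a • polyEquiv k p x
        rw [map_mul, polyEquiv_inclA, Polynomial.C_mul'] }
  exact Module.Flat.of_linearEquiv l

instance pfl_inclA : PreservesFiniteLimits (Es (inclA (R := R) k p).toRingHom) :=
  ModuleCat.preservesFiniteLimits_extendScalars_of_flat (flat_inclA k p)

instance pfl_C (n : ℕ) : PreservesFiniteLimits (Es (algebraMap R (MvPolynomial (Fin n) R))) :=
  ModuleCat.preservesFiniteLimits_extendScalars_of_flat
    ((RingHom.flat_algebraMap_iff).mpr inferInstance)

/-- factoring a presentation through the removal of a variable -/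
theorem exists_factor {A : Type u} [CommRing A] [Algebra R A]
    (χ : MvPolynomial (Fin (k + 1)) R →ₐ[R] A)
    (hsurj : Function.Surjective (χ.comp (inclA k p))) :
    ∃ g : MvPolynomial (Fin k) R, χ = (χ.comp (inclA k p)).comp (retrA k p g) := by
  obtain ⟨g, hg⟩ := hsurj (χ (MvPolynomial.X p))
  refine ⟨g, ?_⟩
  apply MvPolynomial.algHom_ext
  intro i
  rcases Fin.eq_self_or_eq_succAbove p i with rfl | ⟨j, rfl⟩
  · rw [AlgHom.comp_apply, retrA_X_same, hg]
  · rw [AlgHom.comp_apply, retrA_X_succAbove, AlgHom.comp_apply, inclA_X]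

end Groth.Agent.Helper11.Shr
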