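import Groth.Agent.Lib.Helper11.Shr8
import Groth.Agent.Lib.Helper11.Shr12
import Groth.Agent.Lib.Helper11.Shr13
import Groth.Agent.Lib.Helper11.Shr4
import Groth.Agent.Lib.Helper11.Shr9
import Mathlib.RingTheory.TensorProduct.MvPolynomial

/-!
# Base change for the right adjoint of restriction along a finite free map (helper11)

For `R → B` finite free, the right adjoint `G` of restriction `D(B) → D(R)` commutes with the
polynomial base change `R → R[x_1..x_n]`, for arbitrary (unbounded) objects.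
-/

set_option autoImplicit false
set_option linter.unusedSectionVars false
set_option linter.unusedVariables false
set_option linter.style.haveILetI false

open CategoryTheory CategoryTheory.Limits DerivedCategory Pretriangulated TensorProduct

attribute [local instance] HasDerivedCategory.standard

universe u

namespace Groth.Agent.Helper11.Shr

open Groth.Agent.Helper8.LOC Groth.Agent.Helper8.FBC Groth.Agent.Helper8.DFin

section Gen

variable {P P' A A' : Type u} [CommRing P] [CommRing P'] [CommRing A] [CommRing A']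
  [Algebra P P'] [Algebra A A'] (ψ : P →+* A) (ψ' : P' →+* A')
  [PreservesFiniteLimits (Efun (algebraMap P P'))]
  [PreservesFiniteLimits (Efun (algebraMap A A'))]
  (θ : Ld (algebraMap A A') ⋙ Rd ψ' ≅ Rd ψ ⋙ Ld (algebraMap P P'))
  (G : Dual.D P ⥤ Dual.D A) (adj : Rd ψ ⊣ G) (G' : Dual.D P' ⥤ Dual.D A') (adj' : Rd ψ' ⊣ G')
  (hsq : ψ'.comp (algebraMap P P') = (algebraMap A A').comp ψ)

include hsq in
theorem bijective_comp_cmp_of (V : Dual.D A) (N : Dual.D P)
    (hτs : Function.Surjective (tau ψ ψ' G adj hsq V N))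
    (hα : Function.Bijective (Psi A' V (G.obj N)))
    (hβ : Function.Bijective (Psi P' ((Rd ψ).obj V) N)) :
    Function.Bijective
      (fun u : (Ld (algebraMap A A')).obj V ⟶ (Ld (algebraMap A A')).obj (G.obj N) =>
        u ≫ cmp ψ ψ' θ G adj G' adj' N) := by
  have key := xi_phi_psi_tau ψ ψ' θ G adj G' adj' hsq V N
  have hΞ : ∀ w w' : (Ld (algebraMap A A')).obj V ⟶ G'.obj ((Ld (algebraMap P P')).obj N),
      θ.inv.app V ≫ (adj'.homEquiv _ _).symm w = θ.inv.app V ≫ (adj'.homEquiv _ _).symm w' →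
        w = w' := by
    intro w w' h
    have h' := (cancel_epi (θ.inv.app V)).mp h
    exact (adj'.homEquiv _ _).symm.injective h'
  have hsurj : ∀ u : (Ld (algebraMap A A')).obj V ⟶ (Ld (algebraMap A A')).obj (G.obj N),
      ∃ t, Psi A' V (G.obj N) (tau ψ ψ' G adj hsq V N t) = u := by
    intro u
    obtain ⟨s, hs⟩ := hα.2 u
    obtain ⟨t, ht⟩ := hτs s
    exact ⟨t, by rw [ht, hs]⟩
  constructor
  · intro u u' huu'
    obtain ⟨t, rfl⟩ := hsurj u
    obtain ⟨t', rfl⟩ := hsurj u'
    have h1 : Psi P' ((Rd ψ).obj V) N t = Psi P' ((Rd ψ).obj V) N t' := by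
      rw [← key t, ← key t']
      exact congrArg (fun w => θ.inv.app V ≫ (adj'.homEquiv _ _).symm w) huu'
    rw [hβ.1 h1]
  · intro w
    obtain ⟨t, ht⟩ := hβ.2 (θ.inv.app V ≫ (adj'.homEquiv _ _).symm w)
    refine ⟨Psi A' V (G.obj N) (tau ψ ψ' G adj hsq V N t), ?_⟩
    apply hΞ
    exact (key t).trans ht

include hsq in
theorem isIso_cmp_of (N : Dual.D P)
    (hτs : ∀ j : ℤ, Function.Surjective (tau ψ ψ' G adj hsq ((Dual.inD A A)⟦j⟧) N))
    (hα : ∀ j : ℤ, Function.Bijective (Psi A' ((Dual.inD A A)⟦j⟧) (G.obj N)))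
    (hβ : ∀ j : ℤ, Function.Bijective (Psi P' ((Rd ψ).obj ((Dual.inD A A)⟦j⟧)) N)) :
    IsIso (cmp ψ ψ' θ G adj G' adj' N) := by
  apply isIso_of_bijective_inD
  intro j
  have hbij := bijective_comp_cmp_of ψ ψ' θ G adj G' adj' hsq ((Dual.inD A A)⟦j⟧) N
    (hτs j) (hα j) (hβ j)
  exact bijective_comp_of_iso (LdShiftInD (A := A) (A' := A') j).symm _ hbij

end Gen

section Pushout

variable {P P' A A' : Type u} [CommRing P] [CommRing P'] [CommRing A] [CommRing A']
  [Algebra P P'] [Algebra P A] [Algebra P' A'] [Algebra A A'] [Algebra P A']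
  [IsScalarTower P A A'] [IsScalarTower P P' A'] [Algebra.IsPushout P P' A A']
  [PreservesFiniteLimits (Efun (algebraMap P P'))]
  [PreservesFiniteLimits (Efun (algebraMap A A'))]
  (G : Dual.D P ⥤ Dual.D A) (adj : Rd (algebraMap P A) ⊣ G)

theorem tau_surjective_of_isPushout (V : Dual.D A) (N : Dual.D P) :
    Function.Surjective
      (tau (algebraMap P A) (algebraMap P' A') G adj sq_of_towers V N) := by
  intro w
  induction w using TensorProduct.induction_on with
  | zero => exact ⟨0, map_zero _⟩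
  | tmul a' h =>
    obtain ⟨t, rfl⟩ := (Algebra.IsPushout.equiv P P' A A').surjective a'
    induction t using TensorProduct.induction_on with
    | zero => exact ⟨0, by rw [map_zero, map_zero, TensorProduct.zero_tmul]⟩
    | tmul s a =>
      refine ⟨s ⊗ₜ[P] (adj.homEquiv V N).symm (a • h), ?_⟩
      rw [tau_tmul, Equiv.apply_symm_apply, Algebra.IsPushout.equiv_tmul,
        ← TensorProduct.smul_tmul, Algebra.smul_def, mul_comm]
    | add x y hx hy =>
      obtain ⟨x', hx'⟩ := hx
      obtain ⟨y', hy'⟩ := hy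
      exact ⟨x' + y', by rw [map_add, hx', hy', map_add, TensorProduct.add_tmul]⟩
  | add x y hx hy =>
    obtain ⟨x', rfl⟩ := hx
    obtain ⟨y', rfl⟩ := hy
    exact ⟨x' + y', map_add _ _ _⟩

end Pushout

section FFBC

attribute [local instance] MvPolynomial.algebraMvPolynomial

theorem pfl_Efun_mvPolynomial (R : Type u) [CommRing R] (n : ℕ) :
    PreservesFiniteLimits (Efun (algebraMap R (MvPolynomial (Fin n) R))) :=
  ModuleCat.preservesFiniteLimits_extendScalars_of_flat (flat_algebraMap_mvPolynomial R n)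

attribute [local instance] pfl_Efun_mvPolynomial

variable (R B : Type u) [CommRing R] [CommRing B] [Algebra R B] [Module.Free R B]
  [Module.Finite R B] (n : ℕ)

theorem PPU_resD_shift_self (j : ℤ) :
    PPU (MvPolynomial (Fin n) R) ((Rd (algebraMap R B)).obj ((Dual.inD B B)⟦j⟧)) := by
  have h0 : PPU (MvPolynomial (Fin n) R) (Dual.inD R B) := PPU_of_free B
  let e1 : (Rd (algebraMap R B)).obj ((Dual.inD B B)⟦j⟧) ≅
      ((Rd (algebraMap R B)).obj (Dual.inD B B))⟦j⟧ :=
    ((Rd (algebraMap R B)).commShiftIso j).app (Dual.inD B B)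
  let e2 : (Rd (algebraMap R B)).obj (Dual.inD B B) ≅ Dual.inD R B :=
    ((Rfun (algebraMap R B)).mapDerivedCategorySingleFunctor 0).app (ModuleCat.of B B) ≪≫
      (DerivedCategory.singleFunctor (ModuleCat.{u} R) 0).mapIso (bridgeT R B).toModuleIso
  exact (PPU_thickLike (B := MvPolynomial (Fin n) R)).iso
    (e1 ≪≫ (shiftFunctor (Dual.D R) j).mapIso e2).symm (PPU_shift h0 j)

/-- **finite free base change** for the right adjoint of restriction of scalars -/
theorem nonempty_ffbc (G : Dual.D R ⥤ Dual.D B)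
    (adj : Rd (algebraMap R B) ⊣ G)
    (G' : Dual.D (MvPolynomial (Fin n) R) ⥤ Dual.D (MvPolynomial (Fin n) B))
    (adj' : Rd (algebraMap (MvPolynomial (Fin n) R) (MvPolynomial (Fin n) B)) ⊣ G')
    (K : Dual.D R) :
    Nonempty ((Ld (algebraMap B (MvPolynomial (Fin n) B))).obj (G.obj K) ≅
      G'.obj ((Ld (algebraMap R (MvPolynomial (Fin n) R))).obj K)) := by
  let θ : Ld (algebraMap B (MvPolynomial (Fin n) B)) ⋙
        Rd (algebraMap (MvPolynomial (Fin n) R) (MvPolynomial (Fin n) B)) ≅
      Rd (algebraMap R B) ⋙ Ld (algebraMap R (MvPolynomial (Fin n) R)) :=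
    thetaIsoOfBij (algebraMap R (MvPolynomial (Fin n) R)) (algebraMap R B)
      (algebraMap (MvPolynomial (Fin n) R) (MvPolynomial (Fin n) B))
      (algebraMap B (MvPolynomial (Fin n) B)) sq_of_towers
      (fun M => lamFun_bijective_of_isPushout M)
  have h := isIso_cmp_of (algebraMap R B)
    (algebraMap (MvPolynomial (Fin n) R) (MvPolynomial (Fin n) B)) θ G adj G' adj'
    sq_of_towers K
    (fun j => tau_surjective_of_isPushout G adj _ K)
    (fun j => Psi_bijective_of_PPU (MvPolynomial (Fin n) B) _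
      (PPU_shift (PPU_inD_self (B := MvPolynomial (Fin n) B)) j) (G.obj K))
    (fun j => Psi_bijective_of_PPU (MvPolynomial (Fin n) R) _
      (PPU_resD_shift_self R B n j) K)
  exact ⟨@asIso _ _ _ _ (cmp (algebraMap R B)
    (algebraMap (MvPolynomial (Fin n) R) (MvPolynomial (Fin n) B)) θ G adj G' adj' K) h⟩

end FFBC

end Groth.Agent.Helper11.Shr
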