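import Groth.Agent.Lib.Helper11.Shr3
import Groth.Agent.Lib.Helper11.Shr4
import Groth.Prelude.Def_DualSh

/-!
# Independence of the algebraic upper shriek of the presentation (helper11)
-/

set_option autoImplicit false
set_option linter.unusedSectionVars false
set_option linter.unusedVariables false
set_option linter.style.haveILetI false

open CategoryTheory CategoryTheory.Limits DerivedCategory Pretriangulated

attribute [local instance] HasDerivedCategory.standard

universe u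

namespace Groth.Agent.Helper11.Shr

open Groth.Agent.Helper11.TorsBC

variable {R A : Type u} [CommRing R] [CommRing A] [Algebra R A]

/-- the shriek object attached to a presentation and a right adjoint of restriction, with the
base change formed termwise -/
noncomputable abbrev sh (k : ℕ) (Rχ : Dual.D (MvPolynomial (Fin k) R) ⥤ Dual.D A)
    (K : Dual.D R) : Dual.D A :=
  (Rχ.obj ((Gd (algebraMap R (MvPolynomial (Fin k) R))).obj K))⟦(k : ℤ)⟧

theorem sh_congr (k : ℕ) (χ ψ : MvPolynomial (Fin k) R →ₐ[R] A) (hχψ : χ = ψ)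
    (Rχ : Dual.D (MvPolynomial (Fin k) R) ⥤ Dual.D A) (adjχ : resD χ.toRingHom ⊣ Rχ)
    (Rψ : Dual.D (MvPolynomial (Fin k) R) ⥤ Dual.D A) (adjψ : resD ψ.toRingHom ⊣ Rψ)
    (K : Dual.D R) : Nonempty (sh k Rχ K ≅ sh k Rψ K) := by
  subst hχψ
  exact ⟨(shiftFunctor (Dual.D A) (k : ℤ)).mapIso
    ((Adjunction.rightAdjointUniq adjχ adjψ).app _)⟩

/-- removing one variable does not change the shriek object -/
theorem step (k : ℕ) (p : Fin (k + 1)) (χ : MvPolynomial (Fin (k + 1)) R →ₐ[R] A)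
    (hsurj : Function.Surjective (χ.comp (inclA k p)))
    (Rχ : Dual.D (MvPolynomial (Fin (k + 1)) R) ⥤ Dual.D A) (adjχ : resD χ.toRingHom ⊣ Rχ)
    (Rχ' : Dual.D (MvPolynomial (Fin k) R) ⥤ Dual.D A)
    (adjχ' : resD (χ.comp (inclA k p)).toRingHom ⊣ Rχ') (K : Dual.D R) :
    Nonempty (sh (k + 1) Rχ K ≅ sh k Rχ' K) := by
  obtain ⟨g, hg⟩ := exists_factor k p χ hsurj
  let ι : MvPolynomial (Fin k) R →+* MvPolynomial (Fin (k + 1)) R := (inclA k p).toRingHom
  let ρ : MvPolynomial (Fin (k + 1)) R →+* MvPolynomial (Fin k) R := (retrA k p g).toRingHom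
  have hχ : χ.toRingHom = (χ.comp (inclA k p)).toRingHom.comp ρ := by
    conv_lhs => rw [hg]
    rfl
  obtain ⟨Rρ, ⟨adjρ⟩⟩ := exists_rightAdj ρ
  let e1 : Rχ ≅ Rρ ⋙ Rχ' :=
    rightAdjComp ρ (χ.comp (inclA k p)).toRingHom χ.toRingHom hχ Rρ adjρ Rχ' adjχ' Rχ adjχ
  have hC : algebraMap R (MvPolynomial (Fin (k + 1)) R) =
      ι.comp (algebraMap R (MvPolynomial (Fin k) R)) := (inclA k p).comp_algebraMap.symm
  let e2 : Gd (algebraMap R (MvPolynomial (Fin (k + 1)) R)) ≅
      Gd (algebraMap R (MvPolynomial (Fin k) R)) ⋙ Gd ι :=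
    gdComp (algebraMap R (MvPolynomial (Fin k) R)) ι
      (algebraMap R (MvPolynomial (Fin (k + 1)) R)) hC
  let N : Dual.D (MvPolynomial (Fin k) R) := (Gd (algebraMap R (MvPolynomial (Fin k) R))).obj K
  obtain ⟨e3⟩ := nonempty_koszul_iso (retr_inclA k p g) Rρ adjρ N
  let Y : Dual.D (MvPolynomial (Fin k) R) := Rρ.obj ((Gd ι).obj N)
  let e4 : Rχ.obj ((Gd (algebraMap R (MvPolynomial (Fin (k + 1)) R))).obj K) ≅ Rχ'.obj Y :=
    Rχ.mapIso (e2.app K) ≪≫ e1.app _
  let e5 : Rχ'.obj N ≅ (Rχ'.obj Y)⟦(1 : ℤ)⟧ :=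
    Rχ'.mapIso e3.symm ≪≫ (Adjunction.RightAdjointCommShift.iso adjχ' 1).app Y
  exact ⟨(shiftFunctor (Dual.D A) ((k + 1 : ℕ) : ℤ)).mapIso e4 ≪≫
    (shiftFunctorAdd' (Dual.D A) (1 : ℤ) (k : ℤ) ((k + 1 : ℕ) : ℤ)
      (by push_cast; ring)).app (Rχ'.obj Y) ≪≫
    (shiftFunctor (Dual.D A) (k : ℤ)).mapIso e5.symm⟩

theorem strictMono_eq_id {n : ℕ} (e : Fin n → Fin n) (he : StrictMono e) (i : Fin n) : e i = i :=
  le_antisymm he.apply_le he.le_apply

/-- comparison of a presentation with a sub-presentation on an increasing family of variables -/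
theorem main_ind : ∀ (k n : ℕ) (e : Fin n → Fin k) (he : StrictMono e)
    (χ : MvPolynomial (Fin k) R →ₐ[R] A) (ψ : MvPolynomial (Fin n) R →ₐ[R] A)
    (hψ : Function.Surjective ψ)
    (hc : ∀ i, χ (MvPolynomial.X (e i)) = ψ (MvPolynomial.X i))
    (Rχ : Dual.D (MvPolynomial (Fin k) R) ⥤ Dual.D A) (adjχ : resD χ.toRingHom ⊣ Rχ)
    (Rψ : Dual.D (MvPolynomial (Fin n) R) ⥤ Dual.D A) (adjψ : resD ψ.toRingHom ⊣ Rψ)
    (K : Dual.D R), Nonempty (sh k Rχ K ≅ sh n Rψ K) := by
  intro k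
  induction k with
  | zero =>
    intro n e he χ ψ hψ hc Rχ adjχ Rψ adjψ K
    rcases n with _ | n'
    · refine sh_congr 0 χ ψ ?_ Rχ adjχ Rψ adjψ K
      apply MvPolynomial.algHom_ext
      intro i
      exact i.elim0
    · exact (e 0).elim0
  | succ k ih =>
    intro n e he χ ψ hψ hc Rχ adjχ Rψ adjψ K
    by_cases hn : n = k + 1
    · subst hn
      refine sh_congr (k + 1) χ ψ ?_ Rχ adjχ Rψ adjψ K
      apply MvPolynomial.algHom_ext
      intro i
      have h1 := hc i
      rw [strictMono_eq_id e he i] at h1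
      exact h1
    · have hex : ∃ p : Fin (k + 1), ∀ i, e i ≠ p := by
        by_contra hcon
        have hsurj : Function.Surjective e := fun p => by
          by_contra hp
          exact hcon ⟨p, fun i hi => hp ⟨i, hi⟩⟩
        have h1 := Fintype.card_le_of_surjective e hsurj
        have h2 := Fintype.card_le_of_injective e he.injective
        rw [Fintype.card_fin, Fintype.card_fin] at h1 h2
        exact hn (le_antisymm h2 h1)
      obtain ⟨p, hp⟩ := hex
      have hz : ∀ i, ∃ z, p.succAbove z = e i := fun i => Fin.exists_succAbove_eq (hp i)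
      let e' : Fin n → Fin k := fun i => (hz i).choose
      have he' : ∀ i, p.succAbove (e' i) = e i := fun i => (hz i).choose_spec
      have hmono : StrictMono e' := by
        intro i j hij
        have h1 : p.succAbove (e' i) < p.succAbove (e' j) := by
          rw [he', he']
          exact he hij
        exact (Fin.strictMono_succAbove p).lt_iff_lt.mp h1
      let χ' : MvPolynomial (Fin k) R →ₐ[R] A := χ.comp (inclA k p)
      have hc' : ∀ i, χ' (MvPolynomial.X (e' i)) = ψ (MvPolynomial.X i) := by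
        intro i
        show χ (inclA k p (MvPolynomial.X (e' i))) = _
        rw [inclA_X, he', hc]
      have hψeq : ψ = χ'.comp (MvPolynomial.rename e') := by
        apply MvPolynomial.algHom_ext
        intro i
        rw [AlgHom.comp_apply, MvPolynomial.rename_X, hc']
      have hsurj : Function.Surjective χ' := by
        have h1 : Function.Surjective (χ' ∘ (MvPolynomial.rename e')) := by
          have h2 : (χ' ∘ (MvPolynomial.rename e') : MvPolynomial (Fin n) R → A) = ψ := by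
            funext x
            rw [hψeq]
            rfl
          rw [h2]
          exact hψ
        exact Function.Surjective.of_comp h1
      obtain ⟨Rχ', ⟨adjχ'⟩⟩ := exists_rightAdj χ'.toRingHom
      obtain ⟨s1⟩ := step k p χ hsurj Rχ adjχ Rχ' adjχ' K
      obtain ⟨s2⟩ := ih n e' hmono χ' ψ hψ hc' Rχ' adjχ' Rψ adjψ K
      exact ⟨s1 ≪≫ s2⟩

/-- the prelude's shriek object agrees with `sh` -/
theorem nonempty_shriekVia_iso (n : ℕ)
    [DRing.HasLBaseChange (algebraMap R (MvPolynomial (Fin n) R))]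
    (Rψ : Dual.D (MvPolynomial (Fin n) R) ⥤ Dual.D A) (K : Dual.D R) :
    Nonempty (Dual2.shriekVia n Rψ K ≅ sh n Rψ K) := by
  obtain ⟨e⟩ := nonempty_LBaseChange_iso (algebraMap R (MvPolynomial (Fin n) R))
  exact ⟨(shiftFunctor (Dual.D A) (n : ℤ)).mapIso (Rψ.mapIso (e.app K))⟩

/-- independence of the presentation -/
theorem shriekVia_indep (n : ℕ) (ψ : MvPolynomial (Fin n) R →ₐ[R] A)
    (hψ : Function.Surjective ψ) [DRing.HasLBaseChange (algebraMap R (MvPolynomial (Fin n) R))]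
    (Rψ : Dual.D (MvPolynomial (Fin n) R) ⥤ Dual.D A)
    (adj : DRing.restrictD ψ.toRingHom ⊣ Rψ) (m : ℕ) (ψ' : MvPolynomial (Fin m) R →ₐ[R] A)
    (hψ' : Function.Surjective ψ')
    [DRing.HasLBaseChange (algebraMap R (MvPolynomial (Fin m) R))]
    (Rψ' : Dual.D (MvPolynomial (Fin m) R) ⥤ Dual.D A)
    (adj' : DRing.restrictD ψ'.toRingHom ⊣ Rψ') (K : Dual.D R) :
    Nonempty (Dual2.shriekVia n Rψ K ≅ Dual2.shriekVia m Rψ' K) := by
  let Ψ : MvPolynomial (Fin (n + m)) R →ₐ[R] A :=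
    MvPolynomial.aeval (Fin.append (fun i => ψ (MvPolynomial.X i)) (fun j => ψ' (MvPolynomial.X j)))
  have h1 : ∀ i, Ψ (MvPolynomial.X (Fin.castAdd m i)) = ψ (MvPolynomial.X i) := by
    intro i
    show MvPolynomial.aeval _ _ = _
    rw [MvPolynomial.aeval_X, Fin.append_left]
  have h2 : ∀ j, Ψ (MvPolynomial.X (Fin.natAdd n j)) = ψ' (MvPolynomial.X j) := by
    intro j
    show MvPolynomial.aeval _ _ = _
    rw [MvPolynomial.aeval_X, Fin.append_right]
  obtain ⟨RΨ, ⟨adjΨ⟩⟩ := exists_rightAdj Ψ.toRingHom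
  obtain ⟨a1⟩ := main_ind (n + m) n (Fin.castAdd m) (Fin.strictMono_castAdd m) Ψ ψ hψ h1
    RΨ adjΨ Rψ adj K
  obtain ⟨a2⟩ := main_ind (n + m) m (Fin.natAdd n) (Fin.strictMono_natAdd n) Ψ ψ' hψ' h2
    RΨ adjΨ Rψ' adj' K
  obtain ⟨b1⟩ := nonempty_shriekVia_iso n Rψ K
  obtain ⟨b2⟩ := nonempty_shriekVia_iso m Rψ' K
  exact ⟨b1 ≪≫ a1.symm ≪≫ a2 ≪≫ b2.symm⟩

end Groth.Agent.Helper11.Shr
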