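import Groth.Agent.Lib.Helper11.Shr14
import Groth.Agent.Lib.Helper11.Shr9
import Groth.Agent.Lib.Helper11.Shr5
import Mathlib.RingTheory.AdjoinRoot
import Mathlib.RingTheory.TensorProduct.Free
import Mathlib.RingTheory.TensorProduct.Finite

/-!
# The algebraic upper shriek of a finite morphism is `RHom(A, -)` (helper11)
-/

set_option autoImplicit false
set_option linter.unusedSectionVars false
set_option linter.unusedVariables false
set_option linter.style.haveILetI false

open CategoryTheory CategoryTheory.Limits DerivedCategory Pretriangulated TensorProduct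

attribute [local instance] HasDerivedCategory.standard

universe u

namespace Groth.Agent.Helper11.Shr

open Groth.Agent.Helper11.TorsBC

section GenId

variable {C₁ : Type (u + 1)} [Category.{u} C₁] [Abelian C₁] [HasDerivedCategory.{u + 1} C₁]
  (F : C₁ ⥤ C₁) [F.Additive] [PreservesFiniteLimits F] [PreservesFiniteColimits F]

/-- the identity functor lifts the functor induced by a functor isomorphic to the identity -/
noncomputable def liftingId (e : F ≅ 𝟭 C₁) :
    Q ⋙ 𝟭 (DerivedCategory C₁) ≅ F.mapHomologicalComplex (ComplexShape.up ℤ) ⋙ Q :=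
  Functor.rightUnitor _ ≪≫ (Functor.leftUnitor _).symm ≪≫
    Functor.isoWhiskerRight
      ((Functor.mapHomologicalComplexIdIso C₁ (ComplexShape.up ℤ)).symm ≪≫
        (NatIso.mapHomologicalComplex e (ComplexShape.up ℤ)).symm) Q

/-- an exact functor isomorphic to the identity induces the identity on derived categories -/
noncomputable def mapDId (e : F ≅ 𝟭 C₁) : F.mapDerivedCategory ≅ 𝟭 (DerivedCategory C₁) :=
  letI : Localization.Lifting Q (HomologicalComplex.quasiIso C₁ (ComplexShape.up ℤ))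
      (F.mapHomologicalComplex (ComplexShape.up ℤ) ⋙ Q) (𝟭 (DerivedCategory C₁)) :=
    ⟨liftingId F e⟩
  Localization.liftNatIso Q (HomologicalComplex.quasiIso C₁ (ComplexShape.up ℤ))
    (F.mapHomologicalComplex (ComplexShape.up ℤ) ⋙ Q)
    (F.mapHomologicalComplex (ComplexShape.up ℤ) ⋙ Q)
    F.mapDerivedCategory (𝟭 _) (Iso.refl _)

end GenId

section Inverse

variable {S T : Type u} [CommRing S] [CommRing T]

/-- derived restriction of scalars along the identity -/
noncomputable def resDId (χ : S →+* S) (h : χ = RingHom.id S) : resD χ ≅ 𝟭 (Dual.D S) :=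
  mapDId (Rs χ) (ModuleCat.restrictScalarsId'.{u} χ h)

/-- mutually inverse ring maps induce an equivalence of derived categories -/
noncomputable def resDEquiv (f : S →+* T) (g : T →+* S)
    (h1 : RingHom.id S = g.comp f) (h2 : RingHom.id T = f.comp g) : Dual.D S ≌ Dual.D T :=
  CategoryTheory.Equivalence.mk (resD g) (resD f)
    ((resDId (RingHom.id S) rfl).symm ≪≫ resDComp f g (RingHom.id S) h1)
    ((resDComp g f (RingHom.id T) h2).symm ≪≫ resDId (RingHom.id T) rfl)

theorem nonempty_rightAdj_Gd_of_inverse (f : S →+* T) (g : T →+* S)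
    (h1 : RingHom.id S = g.comp f) (h2 : RingHom.id T = f.comp g)
    [PreservesFiniteLimits (Es f)]
    (Rg : Dual.D T ⥤ Dual.D S) (adj : resD g ⊣ Rg) (L : Dual.D S) :
    Nonempty (Rg.obj ((Gd f).obj L) ≅ L) := by
  let E := resDEquiv f g h1 h2
  have adjE : resD g ⊣ resD f := E.toAdjunction
  let a1 : Rg ≅ resD f := Adjunction.rightAdjointUniq adj adjE
  let a2 : Gd f ≅ resD g := Adjunction.leftAdjointUniq (adjD f) adjE
  exact ⟨a1.app _ ≪≫ (resD f).mapIso (a2.app L) ≪≫ (E.unitIso.app L).symm⟩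

end Inverse

section Zero

variable (B : Type u) [CommRing B]

/-- the presentation of `B` over itself with no variables -/
noncomputable def rho0 : MvPolynomial (Fin 0) B →ₐ[B] B :=
  (MvPolynomial.isEmptyAlgEquiv B (Fin 0)).toAlgHom

theorem rho0_surjective : Function.Surjective (rho0 B) :=
  (MvPolynomial.isEmptyAlgEquiv B (Fin 0)).surjective

theorem rho0_comp_C :
    RingHom.id B = (rho0 B).toRingHom.comp (algebraMap B (MvPolynomial (Fin 0) B)) := by
  ext y
  exact ((rho0 B).commutes y).symm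

theorem C_comp_rho0 : RingHom.id (MvPolynomial (Fin 0) B) =
    (algebraMap B (MvPolynomial (Fin 0) B)).comp (rho0 B).toRingHom := by
  apply RingHom.ext
  intro p
  have h := (MvPolynomial.isEmptyAlgEquiv B (Fin 0)).symm.commutes
    ((MvPolynomial.isEmptyAlgEquiv B (Fin 0)) p)
  rw [Algebra.algebraMap_self_apply, AlgEquiv.symm_apply_apply] at h
  exact h

theorem nonempty_sh_zero (R0 : Dual.D (MvPolynomial (Fin 0) B) ⥤ Dual.D B)
    (adj0 : resD (rho0 B).toRingHom ⊣ R0) (L : Dual.D B) :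
    Nonempty (sh 0 R0 L ≅ L) := by
  obtain ⟨e⟩ := nonempty_rightAdj_Gd_of_inverse (algebraMap B (MvPolynomial (Fin 0) B))
    (rho0 B).toRingHom (rho0_comp_C B) (C_comp_rho0 B) R0 adj0 L
  exact ⟨(shiftFunctorZero' (Dual.D B) ((0 : ℕ) : ℤ) Nat.cast_zero).app _ ≪≫ e⟩

end Zero

section Cover

theorem exists_finite_free_cover (R A : Type u) [CommRing R] [CommRing A] [Algebra R A]
    [Algebra.IsIntegral R A] : ∀ (n : ℕ) (a : Fin n → A),
    ∃ (B : Type u) (_ : CommRing B) (_ : Algebra R B) (_ : Module.Free R B)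
      (_ : Module.Finite R B) (φ : B →ₐ[R] A) (b : Fin n → B), ∀ i, φ (b i) = a i := by
  intro n
  induction n with
  | zero =>
    intro a
    exact ⟨R, inferInstance, inferInstance, inferInstance, inferInstance, Algebra.ofId R A,
      fun i => Fin.elim0 i, fun i => Fin.elim0 i⟩
  | succ n ih =>
    intro a
    obtain ⟨B, _, _, _, _, φ, b, hb⟩ := ih (fun i => a (Fin.castSucc i))
    obtain ⟨f, hf, hfa⟩ := Algebra.IsIntegral.isIntegral (R := R) (a (Fin.last n))
    haveI : Module.Finite R (AdjoinRoot f) := hf.finite_adjoinRoot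
    haveI : Module.Free R (AdjoinRoot f) := hf.free_adjoinRoot
    let g : AdjoinRoot f →ₐ[R] A :=
      AdjoinRoot.liftAlgHom f (Algebra.ofId R A) (a (Fin.last n)) hfa
    let φ' : B ⊗[R] AdjoinRoot f →ₐ[R] A := Algebra.TensorProduct.productMap φ g
    let b' : Fin (n + 1) → B ⊗[R] AdjoinRoot f :=
      Fin.lastCases (motive := fun _ => B ⊗[R] AdjoinRoot f) ((1 : B) ⊗ₜ[R] AdjoinRoot.root f)
        (fun j => b j ⊗ₜ[R] (1 : AdjoinRoot f))
    refine ⟨B ⊗[R] AdjoinRoot f, inferInstance, inferInstance, inferInstance, inferInstance, φ',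
      b', ?_⟩
    intro i
    refine Fin.lastCases ?_ (fun j => ?_) i
    · have h1 : b' (Fin.last n) = (1 : B) ⊗ₜ[R] AdjoinRoot.root f := Fin.lastCases_last ..
      rw [h1]
      show φ 1 * g (AdjoinRoot.root f) = _
      rw [map_one, one_mul]
      exact AdjoinRoot.liftAlgHom_root f (Algebra.ofId R A) (a (Fin.last n)) hfa
    · have h1 : b' (Fin.castSucc j) = b j ⊗ₜ[R] (1 : AdjoinRoot f) := Fin.lastCases_castSucc ..
      rw [h1]
      show φ (b j) * g 1 = _
      rw [map_one, mul_one]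
      exact hb j

end Cover

section Main

attribute [local instance] MvPolynomial.algebraMvPolynomial

/-- for a finite ring map `R → A`, the shriek object of any presentation is `RHom_R(A, K)`,
for arbitrary `K` -/
theorem nonempty_sh_iso_rightAdj_of_finite (R A : Type u) [CommRing R] [CommRing A]
    [Algebra R A] [Module.Finite R A] (n : ℕ) (ψ : MvPolynomial (Fin n) R →ₐ[R] A)
    (Rψ : Dual.D (MvPolynomial (Fin n) R) ⥤ Dual.D A) (adj : resD ψ.toRingHom ⊣ Rψ)
    (R' : Dual.D R ⥤ Dual.D A) (adjR : resD (algebraMap R A) ⊣ R') (K : Dual.D R) :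
    Nonempty (sh n Rψ K ≅ R'.obj K) := by
  obtain ⟨B, _, _, _, _, φ, b, hb⟩ :=
    exists_finite_free_cover R A n (fun i => ψ (MvPolynomial.X i))
  let q : MvPolynomial (Fin n) R →ₐ[R] B := MvPolynomial.aeval b
  let ρ : MvPolynomial (Fin n) B →ₐ[B] B := MvPolynomial.aeval b
  let μ : MvPolynomial (Fin n) R →+* MvPolynomial (Fin n) B :=
    algebraMap (MvPolynomial (Fin n) R) (MvPolynomial (Fin n) B)
  have hψq : ψ.toRingHom = φ.toRingHom.comp q.toRingHom := by
    have h : ψ = φ.comp q := by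
      apply MvPolynomial.algHom_ext
      intro i
      show ψ (MvPolynomial.X i) = φ (MvPolynomial.aeval b (MvPolynomial.X i))
      rw [MvPolynomial.aeval_X]
      exact (hb i).symm
    rw [h]
    rfl
  have hq : q.toRingHom = ρ.toRingHom.comp μ := by
    apply MvPolynomial.ringHom_ext
    · intro r
      show MvPolynomial.aeval b (MvPolynomial.C r) =
        MvPolynomial.aeval b (MvPolynomial.map (algebraMap R B) (MvPolynomial.C r))
      rw [MvPolynomial.map_C, MvPolynomial.aeval_C, MvPolynomial.aeval_C]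
      rfl
    · intro i
      show MvPolynomial.aeval b (MvPolynomial.X i) =
        MvPolynomial.aeval b (MvPolynomial.map (algebraMap R B) (MvPolynomial.X i))
      rw [MvPolynomial.map_X, MvPolynomial.aeval_X, MvPolynomial.aeval_X]
  have hρ : Function.Surjective ρ := by
    intro y
    refine ⟨MvPolynomial.C y, ?_⟩
    show MvPolynomial.aeval b (MvPolynomial.C y) = y
    rw [MvPolynomial.aeval_C]
    rfl
  obtain ⟨Rφ, ⟨adjφ⟩⟩ := exists_rightAdj φ.toRingHom
  obtain ⟨Rj, ⟨adjj⟩⟩ := exists_rightAdj (algebraMap R B)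
  obtain ⟨Rμ, ⟨adjμ⟩⟩ := exists_rightAdj μ
  obtain ⟨Rρ, ⟨adjρ⟩⟩ := exists_rightAdj ρ.toRingHom
  obtain ⟨Rq, ⟨adjq⟩⟩ := exists_rightAdj q.toRingHom
  obtain ⟨R0, ⟨adj0⟩⟩ := exists_rightAdj (rho0 B).toRingHom
  let e1 : Rψ ≅ Rq ⋙ Rφ :=
    rightAdjComp q.toRingHom φ.toRingHom ψ.toRingHom hψq Rq adjq Rφ adjφ Rψ adj
  let e2 : R' ≅ Rj ⋙ Rφ :=
    rightAdjComp (algebraMap R B) φ.toRingHom (algebraMap R A) φ.comp_algebraMap.symm
      Rj adjj Rφ adjφ R' adjR
  let e3 : Rq ≅ Rμ ⋙ Rρ :=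
    rightAdjComp μ ρ.toRingHom q.toRingHom hq Rμ adjμ Rρ adjρ Rq adjq
  obtain ⟨ff⟩ := nonempty_ffbc R B n Rj adjj Rμ adjμ K
  obtain ⟨s1⟩ := sh_indep (R := B) (A := B) n ρ hρ Rρ adjρ 0 (rho0 B) (rho0_surjective B)
    R0 adj0 (Rj.obj K)
  obtain ⟨s2⟩ := nonempty_sh_zero B R0 adj0 (Rj.obj K)
  let KP : Dual.D (MvPolynomial (Fin n) R) :=
    (Gd (algebraMap R (MvPolynomial (Fin n) R))).obj K
  let L : Dual.D B := Rj.obj K
  let LP : Dual.D (MvPolynomial (Fin n) B) :=
    (Gd (algebraMap B (MvPolynomial (Fin n) B))).obj L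
  let t1 : Rψ.obj KP ≅ Rφ.obj (Rρ.obj LP) :=
    e1.app KP ≪≫ Rφ.mapIso (e3.app KP ≪≫ Rρ.mapIso ff.symm)
  let t2 : (Rφ.obj (Rρ.obj LP))⟦(n : ℤ)⟧ ≅ Rφ.obj ((Rρ.obj LP)⟦(n : ℤ)⟧) :=
    ((Adjunction.RightAdjointCommShift.iso adjφ (n : ℤ)).app (Rρ.obj LP)).symm
  exact ⟨(shiftFunctor (Dual.D A) (n : ℤ)).mapIso t1 ≪≫ t2 ≪≫ Rφ.mapIso (s1 ≪≫ s2) ≪≫
    (e2.app K).symm⟩

/-- the prelude's shriek object of a finite ring map is `RHom_R(A, K)` -/
theorem nonempty_shriekVia_iso_rightAdj_of_finite (R A : Type u) [CommRing R] [CommRing A]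
    [Algebra R A] [Module.Finite R A] (n : ℕ) (ψ : MvPolynomial (Fin n) R →ₐ[R] A)
    [DRing.HasLBaseChange (algebraMap R (MvPolynomial (Fin n) R))]
    (Rψ : Dual.D (MvPolynomial (Fin n) R) ⥤ Dual.D A)
    (adj : DRing.restrictD ψ.toRingHom ⊣ Rψ)
    (R' : Dual.D R ⥤ Dual.D A) (adjR : DRing.restrictD (algebraMap R A) ⊣ R') (K : Dual.D R) :
    Nonempty (Dual2.shriekVia n Rψ K ≅ R'.obj K) := by
  obtain ⟨b1⟩ := nonempty_shriekVia_iso n Rψ K
  obtain ⟨b2⟩ := nonempty_sh_iso_rightAdj_of_finite R A n ψ Rψ adj R' adjR K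
  exact ⟨b1 ≪≫ b2⟩

end Main

end Groth.Agent.Helper11.Shr
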