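import Groth.Agent.Lib.Helper11.Shr15
import Groth.Agent.Lib.Helper11.Shr11
import Mathlib.Algebra.Algebra.Epi

/-!
# The algebraic upper shriek of a flat epimorphism (e.g. an open immersion) (helper11)

For `R → A` a flat epimorphism of Noetherian rings and `K` bounded below, the shriek object of
any presentation is `K ⊗_R A`.
-/

set_option autoImplicit false
set_option linter.unusedSectionVars false
set_option linter.unusedVariables false
set_option linter.style.haveILetI false

open CategoryTheory CategoryTheory.Limits DerivedCategory Pretriangulated TensorProduct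

attribute [local instance] HasDerivedCategory.standard

universe u

namespace Groth.Agent.Helper11.Shr

open Groth.Agent.Helper11.TorsBC

section IsoAlg

variable {S T : Type u} [CommRing S] [CommRing T]

theorem nonempty_Gd_iso_resD_of_inverse (f : S →+* T) (g : T →+* S)
    (h1 : RingHom.id S = g.comp f) (h2 : RingHom.id T = f.comp g)
    [PreservesFiniteLimits (Es f)] : Nonempty (Gd f ≅ resD g) := by
  have adjE : resD g ⊣ resD f := (resDEquiv f g h1 h2).toAdjunction
  exact ⟨Adjunction.leftAdjointUniq (adjD f) adjE⟩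

theorem nonempty_rightAdj_iso_Gd_of_inverse (f : S →+* T) (g : T →+* S)
    (h1 : RingHom.id S = g.comp f) (h2 : RingHom.id T = f.comp g)
    [PreservesFiniteLimits (Es f)]
    (Rf : Dual.D S ⥤ Dual.D T) (adj : resD f ⊣ Rf) : Nonempty (Rf ≅ Gd f) := by
  have adjE : resD f ⊣ resD g := (resDEquiv g f h2 h1).toAdjunction
  have adjE' : resD g ⊣ resD f := (resDEquiv f g h1 h2).toAdjunction
  exact ⟨Adjunction.rightAdjointUniq adj adjE ≪≫
    (Adjunction.leftAdjointUniq (adjD f) adjE').symm⟩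

theorem nonempty_iso_of_Gd_iso (f : S →+* T) (g : T →+* S)
    (h1 : RingHom.id S = g.comp f) (h2 : RingHom.id T = f.comp g)
    [PreservesFiniteLimits (Es f)] (X Y : Dual.D S)
    (e : (Gd f).obj X ≅ (Gd f).obj Y) : Nonempty (X ≅ Y) := by
  obtain ⟨a⟩ := nonempty_Gd_iso_resD_of_inverse f g h1 h2
  let E := resDEquiv f g h1 h2
  let e' : E.functor.obj X ≅ E.functor.obj Y := (a.app X).symm ≪≫ e ≪≫ a.app Y
  exact ⟨E.functor.preimageIso e'⟩

theorem Gd_congr (f f' : S →+* T) (h : f = f') [PreservesFiniteLimits (Es f)]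
    [PreservesFiniteLimits (Es f')] : Nonempty (Gd f ≅ Gd f') := by
  subst h
  exact ⟨Iso.refl _⟩

end IsoAlg

section ZeroIso

variable (S T : Type u) [CommRing S] [CommRing T] [Algebra S T]

/-- the shriek object of an isomorphism, presented with no variables -/
theorem nonempty_sh_zero_of_inverse (g : T →+* S)
    (h1 : RingHom.id S = g.comp (algebraMap S T))
    (h2 : RingHom.id T = (algebraMap S T).comp g)
    [PreservesFiniteLimits (Es (algebraMap S T))]
    (χ : MvPolynomial (Fin 0) S →ₐ[S] T)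
    (R0 : Dual.D (MvPolynomial (Fin 0) S) ⥤ Dual.D T)
    (adj0 : resD χ.toRingHom ⊣ R0) (L : Dual.D S) :
    Nonempty (sh 0 R0 L ≅ (Gd (algebraMap S T)).obj L) := by
  have hχ : χ.toRingHom = (algebraMap S T).comp (rho0 S).toRingHom := by
    have h : χ = (Algebra.ofId S T).comp (rho0 S) := by
      apply MvPolynomial.algHom_ext
      intro i
      exact Fin.elim0 i
    rw [h]
    rfl
  obtain ⟨Rρ, ⟨adjρ⟩⟩ := exists_rightAdj (rho0 S).toRingHom
  obtain ⟨Ra, ⟨adja⟩⟩ := exists_rightAdj (algebraMap S T)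
  let e : R0 ≅ Rρ ⋙ Ra :=
    rightAdjComp (rho0 S).toRingHom (algebraMap S T) χ.toRingHom hχ Rρ adjρ Ra adja R0 adj0
  obtain ⟨a⟩ := nonempty_rightAdj_Gd_of_inverse (algebraMap S (MvPolynomial (Fin 0) S))
    (rho0 S).toRingHom (rho0_comp_C S) (C_comp_rho0 S) Rρ adjρ L
  obtain ⟨b⟩ := nonempty_rightAdj_iso_Gd_of_inverse (algebraMap S T) g h1 h2 Ra adja
  exact ⟨(shiftFunctorZero' (Dual.D T) ((0 : ℕ) : ℤ) Nat.cast_zero).app _ ≪≫ e.app _ ≪≫
    Ra.mapIso a ≪≫ b.app L⟩

end ZeroIso

section FlatEpi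

variable (R A : Type u) [CommRing R] [CommRing A] [Algebra R A]

/-- the multiplication map -/
noncomputable def muHom : A ⊗[R] A →+* A := (Algebra.TensorProduct.lmul' R (S := A)).toRingHom

theorem mu_comp_incL : RingHom.id A = (muHom R A).comp (algebraMap A (A ⊗[R] A)) := by
  apply RingHom.ext
  intro a
  show a = Algebra.TensorProduct.lmul' R (algebraMap A (A ⊗[R] A) a)
  rw [Algebra.TensorProduct.algebraMap_apply, Algebra.algebraMap_self_apply,
    Algebra.TensorProduct.lmul'_apply_tmul, mul_one]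

variable [Algebra.IsEpi R A]

theorem incL_eq_incR : algebraMap A (A ⊗[R] A) =
    (Algebra.TensorProduct.includeRight : A →ₐ[R] A ⊗[R] A).toRingHom := by
  apply RingHom.ext
  intro a
  have h1 : algebraMap A (A ⊗[R] A) a = a ⊗ₜ[R] (1 : A) := by
    rw [Algebra.TensorProduct.algebraMap_apply, Algebra.algebraMap_self_apply]
  rw [h1]
  exact ((Algebra.isEpi_iff_forall_one_tmul_eq R A).mp inferInstance a).symm

theorem incL_comp_mu :
    RingHom.id (A ⊗[R] A) = (algebraMap A (A ⊗[R] A)).comp (muHom R A) := by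
  apply RingHom.ext
  intro t
  show t = algebraMap A (A ⊗[R] A) (Algebra.TensorProduct.lmul' R t)
  induction t using TensorProduct.induction_on with
  | zero => rw [map_zero, map_zero]
  | tmul a b =>
    rw [Algebra.TensorProduct.lmul'_apply_tmul, Algebra.TensorProduct.algebraMap_apply,
      Algebra.algebraMap_self_apply]
    have hb : (1 : A) ⊗ₜ[R] b = b ⊗ₜ[R] (1 : A) :=
      (Algebra.isEpi_iff_forall_one_tmul_eq R A).mp inferInstance b
    calc a ⊗ₜ[R] b = (a ⊗ₜ[R] (1 : A)) * ((1 : A) ⊗ₜ[R] b) := by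
          rw [Algebra.TensorProduct.tmul_mul_tmul, mul_one, one_mul]
      _ = (a ⊗ₜ[R] (1 : A)) * (b ⊗ₜ[R] (1 : A)) := by rw [hb]
      _ = (a * b) ⊗ₜ[R] (1 : A) := by rw [Algebra.TensorProduct.tmul_mul_tmul, mul_one]
  | add x y hx hy =>
    rw [map_add, map_add]
    exact congrArg₂ (· + ·) hx hy

variable [IsNoetherianRing R] [IsNoetherianRing A] [Module.Flat R A]

/-- **upper shriek along a flat epimorphism**: `φ^!(K) ≅ K ⊗_R A` for `K` bounded below -/
theorem nonempty_sh_iso_Gd_of_flat_epi (n : ℕ) (ψ : MvPolynomial (Fin n) R →ₐ[R] A)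
    (hψ : Function.Surjective ψ)
    (Rψ : Dual.D (MvPolynomial (Fin n) R) ⥤ Dual.D A) (adj : resD ψ.toRingHom ⊣ Rψ)
    [PreservesFiniteLimits (Es (algebraMap R A))]
    (K : Dual.D R) (c : ℤ)
    (hK : ∀ i : ℤ, i < c → IsZero ((homologyFunctor (ModuleCat.{u} R) i).obj K)) :
    Nonempty (sh n Rψ K ≅ (Gd (algebraMap R A)).obj K) := by
  haveI iR : PreservesFiniteLimits
      (Es (Algebra.TensorProduct.includeRight : A →ₐ[R] A ⊗[R] A).toRingHom) :=
    ModuleCat.preservesFiniteLimits_extendScalars_of_flat (flat_includeRight R A A)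
  haveI iL : PreservesFiniteLimits (Es (algebraMap A (A ⊗[R] A))) := by
    rw [incL_eq_incR]
    exact iR
  let χ : MvPolynomial (Fin 0) A →ₐ[A] A ⊗[R] A := (Algebra.ofId A (A ⊗[R] A)).comp (rho0 A)
  have hχ : Function.Surjective χ := by
    intro t
    obtain ⟨p, hp⟩ := rho0_surjective A (muHom R A t)
    refine ⟨p, ?_⟩
    show algebraMap A (A ⊗[R] A) (rho0 A p) = t
    rw [hp]
    exact (RingHom.congr_fun (incL_comp_mu R A) t).symm
  obtain ⟨R0, ⟨adj0⟩⟩ := exists_rightAdj χ.toRingHom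
  obtain ⟨s1⟩ := sh_flat_baseChange R A A n ψ hψ Rψ adj 0 χ hχ R0 adj0 K c hK
  obtain ⟨s2⟩ := nonempty_sh_zero_of_inverse A (A ⊗[R] A) (muHom R A) (mu_comp_incL R A)
    (incL_comp_mu R A) χ R0 adj0 ((Gd (algebraMap R A)).obj K)
  obtain ⟨s3⟩ := Gd_congr (Algebra.TensorProduct.includeRight : A →ₐ[R] A ⊗[R] A).toRingHom
    (algebraMap A (A ⊗[R] A)) (incL_eq_incR R A).symm
  exact nonempty_iso_of_Gd_iso (algebraMap A (A ⊗[R] A)) (muHom R A) (mu_comp_incL R A)
    (incL_comp_mu R A) _ _ ((s3.app _).symm ≪≫ s1 ≪≫ s2)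

end FlatEpi

end Groth.Agent.Helper11.Shr
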