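import Groth.Agent.Lib.Helper11.Shr16
import Groth.Agent.Lib.Helper11.Shr10
import Mathlib.AlgebraicGeometry.Morphisms.Flat
import Mathlib.AlgebraicGeometry.Morphisms.OpenImmersion
import Mathlib.Algebra.Category.Ring.Epi
import Mathlib.RingTheory.MvPolynomial.Tower

/-!
# The algebraic upper shriek of a quasi-finite map `A → B' → B` (helper11)

`A → B'` finite, `B' → B` a flat epimorphism (e.g. an open immersion of spectra).
-/

set_option autoImplicit false
set_option linter.unusedSectionVars false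
set_option linter.unusedVariables false
set_option linter.style.haveILetI false

open CategoryTheory CategoryTheory.Limits DerivedCategory Pretriangulated TensorProduct

attribute [local instance] HasDerivedCategory.standard

universe u

namespace Groth.Agent.Helper11.Shr

open Groth.Agent.Helper11.TorsBC

section OI

open AlgebraicGeometry

theorem flat_of_isOpenImmersion_Spec {B' B : Type u} [CommRing B'] [CommRing B] [Algebra B' B]
    (hopen : IsOpenImmersion (Spec.map (CommRingCat.ofHom (algebraMap B' B)))) :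
    Module.Flat B' B := by
  haveI := hopen
  have h : AlgebraicGeometry.Flat (Spec.map (CommRingCat.ofHom (algebraMap B' B))) :=
    inferInstance
  have h2 := AlgebraicGeometry.Flat.SpecMap_iff.mp h
  exact RingHom.flat_algebraMap_iff.mp h2

theorem isEpi_of_isOpenImmersion_Spec {B' B : Type u} [CommRing B'] [CommRing B] [Algebra B' B]
    (hopen : IsOpenImmersion (Spec.map (CommRingCat.ofHom (algebraMap B' B)))) :
    Algebra.IsEpi B' B := by
  haveI := hopen
  haveI hm : Mono (Spec.map (CommRingCat.ofHom (algebraMap B' B))) := inferInstance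
  have h1 : Mono (CommRingCat.ofHom (algebraMap B' B)).op :=
    Functor.mono_of_mono_map Scheme.Spec hm
  haveI := h1
  have h2 : Epi (CommRingCat.ofHom (algebraMap B' B)) :=
    unop_epi_of_mono (CommRingCat.ofHom (algebraMap B' B)).op
  exact CommRingCat.epi_iff_epi.mp h2

end OI

section QF

variable (A B B' : Type u) [CommRing A] [CommRing B] [CommRing B'] [IsNoetherianRing A]
  [IsNoetherianRing B] [Algebra A B] [Algebra A B'] [Algebra B' B] [IsScalarTower A B' B]
  [Module.Finite A B'] [Module.Flat B' B] [Algebra.IsEpi B' B]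

/-- the shriek object of a quasi-finite map `A → B' → B` (finite followed by a flat epimorphism)
is `RHom_A(B', K) ⊗_{B'} B`, for `K` bounded below -/
theorem nonempty_sh_quasiFinite (n : ℕ) (ψ : MvPolynomial (Fin n) A →ₐ[A] B)
    (hψ : Function.Surjective ψ)
    (Rψ : Dual.D (MvPolynomial (Fin n) A) ⥤ Dual.D B) (adj : resD ψ.toRingHom ⊣ Rψ)
    (R' : Dual.D A ⥤ Dual.D B') (adjR : resD (algebraMap A B') ⊣ R')
    [PreservesFiniteLimits (Es (algebraMap B' B))]
    (K : Dual.D A) (c : ℤ)
    (hK : ∀ i : ℤ, i < c → IsZero ((homologyFunctor (ModuleCat.{u} A) i).obj K)) :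
    Nonempty (sh n Rψ K ≅ (Gd (algebraMap B' B)).obj (R'.obj K)) := by
  haveI : IsNoetherianRing B' := IsNoetherianRing.of_finite A B'
  obtain ⟨n₁, ψ₁, hψ₁⟩ := Algebra.FiniteType.iff_quotient_mvPolynomial''.mp
    (inferInstance : Algebra.FiniteType A B')
  let χ : MvPolynomial (Fin n) B' →ₐ[B'] B :=
    MvPolynomial.aeval (fun i => ψ (MvPolynomial.X i))
  have hχ : Function.Surjective χ := by
    intro b
    obtain ⟨p, rfl⟩ := hψ b
    refine ⟨MvPolynomial.map (algebraMap A B') p, ?_⟩
    show MvPolynomial.aeval (fun i => ψ (MvPolynomial.X i))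
      (MvPolynomial.map (algebraMap A B') p) = ψ p
    rw [MvPolynomial.aeval_map_algebraMap]
    exact (congrArg (fun f : MvPolynomial (Fin n) A →ₐ[A] B => f p)
      (MvPolynomial.aeval_unique ψ)).symm
  obtain ⟨Rψ₁, ⟨adj₁⟩⟩ := exists_rightAdj ψ₁.toRingHom
  obtain ⟨Rχ, ⟨adjχ⟩⟩ := exists_rightAdj χ.toRingHom
  obtain ⟨s1⟩ := sh_comp A B' B n₁ ψ₁ hψ₁ Rψ₁ adj₁ n χ hχ Rχ adjχ n ψ hψ Rψ adj K c hK
  obtain ⟨s2⟩ := nonempty_sh_iso_rightAdj_of_finite A B' n₁ ψ₁ Rψ₁ adj₁ R' adjR K
  have hW : ∀ i : ℤ, i < c →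
      IsZero ((homologyFunctor (ModuleCat.{u} B') i).obj (R'.obj K)) :=
    isZero_homology_rightAdj (algebraMap A B') R' adjR K c hK
  obtain ⟨s3⟩ := nonempty_sh_iso_Gd_of_flat_epi B' B n χ hχ Rχ adjχ (R'.obj K) c hW
  exact ⟨s1 ≪≫ (shiftFunctor (Dual.D B) (n : ℤ)).mapIso (Rχ.mapIso
    ((Gd (algebraMap B' (MvPolynomial (Fin n) B'))).mapIso s2)) ≪≫ s3⟩

end QF

end Groth.Agent.Helper11.Shr
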