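import Groth.Agent.Lib.Helper11.Shr17
import Groth.Agent.Lib.Helper8.LD12
import Groth.Agent.Lib.Helper8.LOC17
import Groth.Agent.Lib.Helper11.DCPc0
import Groth.Prelude.Def_Disc

/-!
# `H⁰` of the relative dualizing complex of a quasi-finite map (helper11)
-/

set_option autoImplicit false
set_option linter.unusedSectionVars false
set_option linter.unusedVariables false
set_option linter.style.haveILetI false

open CategoryTheory CategoryTheory.Limits DerivedCategory Pretriangulated TensorProduct

attribute [local instance] HasDerivedCategory.standard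

universe u

namespace Groth.Agent.Helper11.Shr

open Groth.Agent.Helper11.TorsBC

section EsTensor

variable {S : Type u} (T : Type u) [CommRing S] [CommRing T] [Algebra S T]
  (M : ModuleCat.{u} S) (M' : Type u) [AddCommGroup M'] [Module S M'] (e : M ≃ₗ[S] M')

/-- the underlying `S`-linear identification -/
noncomputable def etC : Tι (algebraMap S T) ⊗[S] M ≃ₗ[S] T ⊗[S] M' :=
  TensorProduct.congr (bridgeT S T) e

/-- the comparison `(T ⊗_S M as extension of scalars) → T ⊗_S M'` -/
noncomputable def etFun (z : (Es (algebraMap S T)).obj M) : T ⊗[S] M' := etC T M M' e z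

theorem etFun_pt (x : Tι (algebraMap S T)) (m : M) :
    etFun T M M' e (pt (algebraMap S T) M x m) = ofTι _ x ⊗ₜ[S] e m := rfl

theorem etFun_add (a b : (Es (algebraMap S T)).obj M) :
    etFun T M M' e (a + b) = etFun T M M' e a + etFun T M M' e b := map_add (etC T M M' e) _ _

theorem etFun_zero : etFun T M M' e 0 = 0 := map_zero (etC T M M' e)

theorem etFun_smul (τ : T) (z : (Es (algebraMap S T)).obj M) :
    etFun T M M' e (τ • z) = τ • etFun T M M' e z := by
  refine es_induction (ι := algebraMap S T)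
    (P := fun z => etFun T M M' e (τ • z) = τ • etFun T M M' e z) z ?_ ?_ ?_
  · rw [smul_zero, etFun_zero, smul_zero]
  · intro x m
    rw [smul_pt, etFun_pt, etFun_pt, ofTι_toTι, TensorProduct.smul_tmul', smul_eq_mul]
  · intro a b ha hb
    rw [smul_add, etFun_add, etFun_add, ha, hb, smul_add]

theorem etFun_bijective : Function.Bijective (etFun T M M' e) := (etC T M M' e).bijective

/-- extension of scalars along `algebraMap S T` is the tensor product `T ⊗[S] -` -/
noncomputable def esTensorEquiv : (Es (algebraMap S T)).obj M ≃ₗ[T] T ⊗[S] M' :=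
  LinearEquiv.ofBijective
    { toFun := etFun T M M' e
      map_add' := etFun_add T M M' e
      map_smul' := etFun_smul T M M' e } (etFun_bijective T M M' e)

end EsTensor

section H0

variable {A B' : Type u} [CommRing A] [CommRing B'] [Algebra A B']

/-- `B'[0]` restricted to `A` is `B'[0]` -/
noncomputable def resSelfIso :
    (resD (algebraMap A B')).obj (Dual.inD B' B') ≅ Dual.inD A B' :=
  ((Rs (algebraMap A B')).mapDerivedCategorySingleFunctor 0).app (ModuleCat.of B' B') ≪≫
    (DerivedCategory.singleFunctor (ModuleCat.{u} A) 0).mapIso (bridgeT A B').toModuleIso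

/-- multiplication by `b` on `B'[0]` in `D(A)` -/
noncomputable def mulD (b : B') : Dual.inD A B' ⟶ Dual.inD A B' :=
  (DerivedCategory.singleFunctor (ModuleCat.{u} A) 0).map
    (ModuleCat.ofHom (LinearMap.mulLeft A b))

theorem resSelfIso_smul (b : B') :
    (resD (algebraMap A B')).map (b • 𝟙 (Dual.inD B' B')) ≫
        (resSelfIso (A := A) (B' := B')).hom =
      (resSelfIso (A := A) (B' := B')).hom ≫ mulD b := by
  have h1 : b • 𝟙 (Dual.inD B' B') =
      (DerivedCategory.singleFunctor (ModuleCat.{u} B') 0).map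
        (b • 𝟙 (ModuleCat.of B' B')) := by
    rw [Functor.map_smul, CategoryTheory.Functor.map_id]
  have h2 := ((Rs (algebraMap A B')).mapDerivedCategorySingleFunctor 0).hom.naturality
    (b • 𝟙 (ModuleCat.of B' B'))
  have h3 : (Rs (algebraMap A B')).map (b • 𝟙 (ModuleCat.of B' B')) ≫
        (bridgeT A B').toModuleIso.hom =
      (bridgeT A B').toModuleIso.hom ≫ ModuleCat.ofHom (LinearMap.mulLeft A b) := by
    ext x
    rfl
  calc (resD (algebraMap A B')).map (b • 𝟙 (Dual.inD B' B')) ≫
        (resSelfIso (A := A) (B' := B')).hom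
      = ((DerivedCategory.singleFunctor (ModuleCat.{u} B') 0 ⋙
            resD (algebraMap A B')).map (b • 𝟙 (ModuleCat.of B' B')) ≫
          ((Rs (algebraMap A B')).mapDerivedCategorySingleFunctor 0).hom.app
            (ModuleCat.of B' B')) ≫
          (DerivedCategory.singleFunctor (ModuleCat.{u} A) 0).map
            (bridgeT A B').toModuleIso.hom := by
        rw [h1, Category.assoc]
        rfl
    _ = (((Rs (algebraMap A B')).mapDerivedCategorySingleFunctor 0).hom.app
            (ModuleCat.of B' B') ≫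
          (Rs (algebraMap A B') ⋙ DerivedCategory.singleFunctor (ModuleCat.{u} A) 0).map
            (b • 𝟙 (ModuleCat.of B' B'))) ≫
          (DerivedCategory.singleFunctor (ModuleCat.{u} A) 0).map
            (bridgeT A B').toModuleIso.hom := by rw [h2]
    _ = ((Rs (algebraMap A B')).mapDerivedCategorySingleFunctor 0).hom.app
            (ModuleCat.of B' B') ≫
          (DerivedCategory.singleFunctor (ModuleCat.{u} A) 0).map
            ((Rs (algebraMap A B')).map (b • 𝟙 (ModuleCat.of B' B')) ≫
              (bridgeT A B').toModuleIso.hom) := by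
        rw [Category.assoc, Functor.map_comp]
        rfl
    _ = ((Rs (algebraMap A B')).mapDerivedCategorySingleFunctor 0).hom.app
            (ModuleCat.of B' B') ≫
          (DerivedCategory.singleFunctor (ModuleCat.{u} A) 0).map
            ((bridgeT A B').toModuleIso.hom ≫ ModuleCat.ofHom (LinearMap.mulLeft A b)) := by
        rw [h3]
    _ = (resSelfIso (A := A) (B' := B')).hom ≫ mulD b := by
        rw [Functor.map_comp, ← Category.assoc]
        rfl

variable (R' : Dual.D A ⥤ Dual.D B') (adjR : resD (algebraMap A B') ⊣ R')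

/-- the map `B'[0] → RHom_A(B', A)` attached to an `A`-linear form on `B'` -/
noncomputable def omegaToHom (ω : Disc.Omega A B') :
    Dual.inD B' B' ⟶ R'.obj (Dual.inD A A) :=
  adjR.homEquiv _ _ ((resSelfIso (A := A) (B' := B')).hom ≫
    (DerivedCategory.singleFunctor (ModuleCat.{u} A) 0).map (ModuleCat.ofHom ω.toLinearMap))

theorem omegaToHom_add (ω ω' : Disc.Omega A B') :
    omegaToHom R' adjR (ω + ω') = omegaToHom R' adjR ω + omegaToHom R' adjR ω' := by
  have h1 : (ModuleCat.ofHom (ω + ω').toLinearMap : ModuleCat.of A B' ⟶ ModuleCat.of A A) =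
      ModuleCat.ofHom ω.toLinearMap + ModuleCat.ofHom ω'.toLinearMap := rfl
  unfold omegaToHom
  rw [h1, Functor.map_add, Preadditive.comp_add, adjR.homAddEquiv_add]

theorem omegaToHom_smul (b : B') (ω : Disc.Omega A B') :
    omegaToHom R' adjR (b • ω) = b • omegaToHom R' adjR ω := by
  have h1 : (ModuleCat.ofHom (b • ω).toLinearMap : ModuleCat.of A B' ⟶ ModuleCat.of A A) =
      ModuleCat.ofHom (LinearMap.mulLeft A b) ≫ ModuleCat.ofHom ω.toLinearMap := rfl
  unfold omegaToHom
  rw [h1, Functor.map_comp]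
  have h2 : (resSelfIso (A := A) (B' := B')).hom ≫
      (DerivedCategory.singleFunctor (ModuleCat.{u} A) 0).map
        (ModuleCat.ofHom (LinearMap.mulLeft A b)) ≫
      (DerivedCategory.singleFunctor (ModuleCat.{u} A) 0).map (ModuleCat.ofHom ω.toLinearMap) =
      (resD (algebraMap A B')).map (b • 𝟙 (Dual.inD B' B')) ≫
        ((resSelfIso (A := A) (B' := B')).hom ≫
          (DerivedCategory.singleFunctor (ModuleCat.{u} A) 0).map
            (ModuleCat.ofHom ω.toLinearMap)) := by
    rw [← Category.assoc, ← Category.assoc, resSelfIso_smul]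
    rfl
  rw [h2, adjR.homEquiv_naturality_left, Linear.smul_comp, Category.id_comp]

theorem omegaToHom_bijective : Function.Bijective (omegaToHom R' adjR) := by
  have h1 : Function.Bijective (fun ω : Disc.Omega A B' => ω.toLinearMap) :=
    ⟨Disc.Omega.toLinearMap_injective, fun f => ⟨⟨f⟩, rfl⟩⟩
  have h2 : Function.Bijective (fun f : B' →ₗ[A] A =>
      (ModuleCat.ofHom f : ModuleCat.of A B' ⟶ ModuleCat.of A A)) :=
    ⟨fun f g h => by simpa using congrArg ModuleCat.Hom.hom h, fun u => ⟨u.hom, rfl⟩⟩
  have h3 : Function.Bijective (fun u : ModuleCat.of A B' ⟶ ModuleCat.of A A =>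
      (DerivedCategory.singleFunctor (ModuleCat.{u} A) 0).map u) :=
    (Functor.FullyFaithful.ofFullyFaithful
      (DerivedCategory.singleFunctor (ModuleCat.{u} A) 0)).map_bijective _ _
  have h4 : Function.Bijective (fun v : Dual.inD A B' ⟶ Dual.inD A A =>
      (resSelfIso (A := A) (B' := B')).hom ≫ v) :=
    ⟨fun v v' h => (cancel_epi _).mp h,
      fun w => ⟨(resSelfIso (A := A) (B' := B')).inv ≫ w, by simp⟩⟩
  have h5 := (adjR.homEquiv (Dual.inD B' B') (Dual.inD A A)).bijective
  exact h5.comp (h4.comp (h3.comp (h2.comp h1)))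

/-- `Hom_A(B', A) → H⁰(RHom_A(B', A))` as a `B'`-linear map -/
noncomputable def omegaLin :
    Disc.Omega A B' →ₗ[B'] Dual.HD B' (R'.obj (Dual.inD A A)) 0 where
  toFun ω := Groth.Agent.Helper8.LD.evHom (R'.obj (Dual.inD A A)) (omegaToHom R' adjR ω)
  map_add' ω ω' := by rw [omegaToHom_add, map_add]
  map_smul' b ω := by rw [omegaToHom_smul, map_smul, RingHom.id_apply]

theorem omegaLin_bijective : Function.Bijective (omegaLin R' adjR) :=
  (Groth.Agent.Helper8.LD.evHom_bijective (R'.obj (Dual.inD A A))).comp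
    (omegaToHom_bijective R' adjR)

/-- `H⁰(RHom_A(B', A)) ≅ Hom_A(B', A)` -/
noncomputable def omegaEquiv :
    Disc.Omega A B' ≃ₗ[B'] Dual.HD B' (R'.obj (Dual.inD A A)) 0 :=
  LinearEquiv.ofBijective (omegaLin R' adjR) (omegaLin_bijective R' adjR)

end H0

section Final

open AlgebraicGeometry

/-- `H⁰(φ^!(A)) ≅ B ⊗_{B'} Hom_A(B', A)` for `A → B' → B` finite followed by an open immersion -/
theorem nonempty_HD_zero_shriekVia_linearEquiv_omega (A B B' : Type u) [CommRing A]
    [CommRing B] [CommRing B'] [IsNoetherianRing A] [IsNoetherianRing B] [Algebra A B]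
    [Algebra A B'] [Algebra B' B] [IsScalarTower A B' B] [Module.Finite A B']
    (hopen : IsOpenImmersion (Spec.map (CommRingCat.ofHom (algebraMap B' B)))) (n : ℕ)
    (ψ : MvPolynomial (Fin n) A →ₐ[A] B) (hψ : Function.Surjective ψ)
    [DRing.HasLBaseChange (algebraMap A (MvPolynomial (Fin n) A))]
    (Rψ : Dual.D (MvPolynomial (Fin n) A) ⥤ Dual.D B)
    (adj : DRing.restrictD ψ.toRingHom ⊣ Rψ) :
    Nonempty (Dual.HD B (Dual2.shriekVia n Rψ (Dual.inD A A)) 0 ≃ₗ[B]
      (B ⊗[B'] Disc.Omega A B')) := by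
  haveI : Module.Flat B' B := flat_of_isOpenImmersion_Spec hopen
  haveI : Algebra.IsEpi B' B := isEpi_of_isOpenImmersion_Spec hopen
  haveI : PreservesFiniteLimits (Es (algebraMap B' B)) :=
    ModuleCat.preservesFiniteLimits_extendScalars_of_flat
      (RingHom.flat_algebraMap_iff.mpr inferInstance)
  obtain ⟨R', ⟨adjR⟩⟩ := exists_rightAdj (algebraMap A B')
  obtain ⟨b1⟩ := nonempty_shriekVia_iso n Rψ (Dual.inD A A)
  have hK : ∀ i : ℤ, i < 0 →
      IsZero ((homologyFunctor (ModuleCat.{u} A) i).obj (Dual.inD A A)) :=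
    fun i hi => Groth.Agent.Helper11.DC.isZero_homology_single _ i (ne_of_lt hi)
  obtain ⟨s⟩ := nonempty_sh_quasiFinite A B B' n ψ hψ Rψ adj R' adjR (Dual.inD A A) 0 hK
  let W : Dual.D B' := R'.obj (Dual.inD A A)
  let i1 : (homologyFunctor (ModuleCat.{u} B) 0).obj (Dual2.shriekVia n Rψ (Dual.inD A A)) ≅
      (homologyFunctor (ModuleCat.{u} B) 0).obj ((Gd (algebraMap B' B)).obj W) :=
    (homologyFunctor (ModuleCat.{u} B) 0).mapIso (b1 ≪≫ s)
  let i2 : (homologyFunctor (ModuleCat.{u} B) 0).obj ((Gd (algebraMap B' B)).obj W) ≅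
      (Es (algebraMap B' B)).obj ((homologyFunctor (ModuleCat.{u} B') 0).obj W) :=
    Groth.Agent.Helper8.LOC.homologyLdIso (algebraMap B' B) W 0
  let e3 : (Es (algebraMap B' B)).obj ((homologyFunctor (ModuleCat.{u} B') 0).obj W) ≃ₗ[B]
      B ⊗[B'] Disc.Omega A B' :=
    esTensorEquiv B ((homologyFunctor (ModuleCat.{u} B') 0).obj W) (Disc.Omega A B')
      (omegaEquiv R' adjR).symm
  exact ⟨(i1 ≪≫ i2).toLinearEquiv ≪≫ₗ e3⟩

end Final

end Groth.Agent.Helper11.Shr
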