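import Groth.Agent.Lib.Helper11.Shr18
import Groth.Agent.Lib.Helper11.GM1

/-!
# Flat epimorphisms: restriction of scalars is fully faithful on derived categories, and the
base change `R[x] → R'[x]` of a flat epimorphism `R → R'` (helper11)
-/

set_option autoImplicit false
set_option linter.unusedSectionVars false
set_option linter.unusedVariables false
set_option linter.style.haveILetI false

open CategoryTheory CategoryTheory.Limits DerivedCategory Pretriangulated TensorProduct

attribute [local instance] HasDerivedCategory.standard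

universe u

namespace Groth.Agent.Helper11.Shr

open Groth.Agent.Helper11.TorsBC

section EpiAlg

/-- ring homomorphisms out of an epimorphic algebra are determined by their restriction -/
theorem ringHom_ext_of_isEpi {R R' T : Type u} [CommRing R] [CommRing R'] [CommRing T]
    [Algebra R R'] [Algebra.IsEpi R R'] (g h : R' →+* T)
    (hgh : g.comp (algebraMap R R') = h.comp (algebraMap R R')) : g = h := by
  haveI : Epi (CommRingCat.ofHom (algebraMap R R')) :=
    CommRingCat.epi_iff_epi.mpr inferInstance
  have h1 : CommRingCat.ofHom (algebraMap R R') ≫ CommRingCat.ofHom g =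
      CommRingCat.ofHom (algebraMap R R') ≫ CommRingCat.ofHom h := by
    rw [← CommRingCat.ofHom_comp, ← CommRingCat.ofHom_comp, hgh]
  have h2 := (cancel_epi (CommRingCat.ofHom (algebraMap R R'))).mp h1
  exact congrArg CommRingCat.Hom.hom h2

variable (R R' : Type u) [CommRing R] [CommRing R'] [Algebra R R'] (n : ℕ)

theorem betaBC_X (i : Fin n) :
    betaBC R R' n (MvPolynomial.X i) = MvPolynomial.X i := by
  rw [betaBC_apply, MvPolynomial.algebraTensorAlgEquiv_tmul, one_smul, MvPolynomial.map_X]

theorem betaBC_C (r : R) :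
    betaBC R R' n (MvPolynomial.C r) = MvPolynomial.C (algebraMap R R' r) := by
  rw [betaBC_apply, MvPolynomial.algebraTensorAlgEquiv_tmul, one_smul, MvPolynomial.map_C]

/-- `R[x] → R'[x]` is an epimorphism of rings when `R → R'` is -/
theorem betaBC_epi_ext [Algebra.IsEpi R R'] {T : Type u} [CommRing T]
    (g h : MvPolynomial (Fin n) R' →+* T)
    (hgh : g.comp (betaBC R R' n) = h.comp (betaBC R R' n)) : g = h := by
  have hC : g.comp (MvPolynomial.C) = h.comp MvPolynomial.C := by
    apply ringHom_ext_of_isEpi (R := R)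
    apply RingHom.ext
    intro r
    show g (MvPolynomial.C (algebraMap R R' r)) = h (MvPolynomial.C (algebraMap R R' r))
    rw [← betaBC_C]
    exact RingHom.congr_fun hgh (MvPolynomial.C r)
  apply MvPolynomial.ringHom_ext
  · intro a
    exact RingHom.congr_fun hC a
  · intro i
    have h1 : g (betaBC R R' n (MvPolynomial.X i)) = h (betaBC R R' n (MvPolynomial.X i)) :=
      RingHom.congr_fun hgh (MvPolynomial.X i)
    rw [betaBC_X] at h1
    exact h1

theorem isEpi_betaBC [Algebra.IsEpi R R'] :
    @Algebra.IsEpi (MvPolynomial (Fin n) R) (MvPolynomial (Fin n) R') _ _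
      (betaBC R R' n).toAlgebra := by
  letI : Algebra (MvPolynomial (Fin n) R) (MvPolynomial (Fin n) R') := (betaBC R R' n).toAlgebra
  apply CommRingCat.epi_iff_epi.mp
  constructor
  intro Z g h hgh
  apply CommRingCat.hom_ext
  apply betaBC_epi_ext R R' n
  exact congrArg CommRingCat.Hom.hom hgh

variable {R R' n}

/-- `R[x] → R'[x]/(ker ψ)R'[x]` is surjective for a presentation `ψ : R[x] → R'` of an
epimorphism -/
theorem hs_betaBC [Algebra.IsEpi R R'] (ψ : MvPolynomial (Fin n) R →ₐ[R] R')
    (hψ : Function.Surjective ψ) :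
    Function.Surjective ((Ideal.Quotient.mk
      ((RingHom.ker ψ.toRingHom).map (betaBC R R' n))).comp (betaBC R R' n)) := by
  intro y
  obtain ⟨p', rfl⟩ := Ideal.Quotient.mk_surjective y
  have ht : psiBC (R' := R') ψ p' =
      (1 : R') ⊗ₜ[R] (muHom R R' (psiBC (R' := R') ψ p')) := by
    have h1 : psiBC (R' := R') ψ p' =
        algebraMap R' (R' ⊗[R] R') (muHom R R' (psiBC (R' := R') ψ p')) :=
      RingHom.congr_fun (incL_comp_mu R R') (psiBC (R' := R') ψ p')
    have h2 : algebraMap R' (R' ⊗[R] R') (muHom R R' (psiBC (R' := R') ψ p')) =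
        (muHom R R' (psiBC (R' := R') ψ p')) ⊗ₜ[R] (1 : R') := by
      rw [Algebra.TensorProduct.algebraMap_apply, Algebra.algebraMap_self_apply]
    have h3 := (Algebra.isEpi_iff_forall_one_tmul_eq R R').mp inferInstance
      (muHom R R' (psiBC (R' := R') ψ p'))
    exact h1.trans (h2.trans h3.symm)
  obtain ⟨p, hp⟩ := hψ (muHom R R' (psiBC (R' := R') ψ p'))
  refine ⟨p, ?_⟩
  show Ideal.Quotient.mk _ (betaBC R R' n p) = Ideal.Quotient.mk _ p'
  rw [Ideal.Quotient.eq, ← ker_psiBC ψ hψ, RingHom.mem_ker]
  show psiBC (R' := R') ψ (betaBC R R' n p - p') = 0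
  rw [map_sub, psiBC_betaBC, hp, ← ht, sub_self]

theorem hk_betaBC (ψ : MvPolynomial (Fin n) R →ₐ[R] R') (hψ : Function.Surjective ψ) :
    RingHom.ker ((Ideal.Quotient.mk
      ((RingHom.ker ψ.toRingHom).map (betaBC R R' n))).comp (betaBC R R' n)) =
      RingHom.ker ψ.toRingHom := by
  ext p
  rw [RingHom.mem_ker, RingHom.mem_ker]
  show Ideal.Quotient.mk _ (betaBC R R' n p) = 0 ↔ ψ p = 0
  rw [Ideal.Quotient.eq_zero_iff_mem, ← ker_psiBC ψ hψ, RingHom.mem_ker]
  show psiBC (R' := R') ψ (betaBC R R' n p) = 0 ↔ ψ p = 0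
  rw [psiBC_betaBC]
  constructor
  · intro h
    have h1 := congrArg (Algebra.TensorProduct.lmul' R (S := R')) h
    rw [Algebra.TensorProduct.lmul'_apply_tmul, one_mul, map_zero] at h1
    exact h1
  · intro h
    rw [h, TensorProduct.tmul_zero]

end EpiAlg

section CounitEpi

variable {S T : Type u} [CommRing S] [CommRing T]

/-- the counit `T ⊗_S Y → Y` is bijective for an epimorphism `S → T` -/
theorem counit_bijective_of_isEpi [Algebra S T] [Algebra.IsEpi S T] (Y : ModuleCat.{u} T) :
    Function.Bijective
      ((ModuleCat.extendRestrictScalarsAdj.{u, u, u} (algebraMap S T)).counit.app Y).hom := by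
  letI mS : Module S Y := Module.compHom Y (algebraMap S T)
  haveI : IsScalarTower S T Y := ⟨fun s t y => by
    show (s • t) • y = algebraMap S T s • (t • y)
    rw [Algebra.smul_def, mul_smul]⟩
  let e : ((Rs (algebraMap S T)).obj Y) ≃ₗ[S] Y :=
    { toFun := ofR (algebraMap S T) Y
      invFun := toR (algebraMap S T) Y
      map_add' := fun _ _ => rfl
      map_smul' := fun _ _ => rfl
      left_inv := fun _ => rfl
      right_inv := fun _ => rfl }
  let E := esTensorEquiv T ((Rs (algebraMap S T)).obj Y) Y e
  have key : ∀ z : (Es (algebraMap S T)).obj ((Rs (algebraMap S T)).obj Y),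
      ((ModuleCat.extendRestrictScalarsAdj.{u, u, u} (algebraMap S T)).counit.app Y).hom z =
        TensorProduct.lid' S T Y (E z) := by
    intro z
    refine es_induction (ι := algebraMap S T)
      (P := fun z =>
        ((ModuleCat.extendRestrictScalarsAdj.{u, u, u} (algebraMap S T)).counit.app Y).hom z =
          TensorProduct.lid' S T Y (E z)) z ?_ ?_ ?_
    · rw [map_zero, map_zero, map_zero]
    · intro x m
      show _ = TensorProduct.lid' S T Y (ofTι _ x ⊗ₜ[S] e m)
      rw [TensorProduct.lid'_apply_tmul]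
      rfl
    · intro a b ha hb
      rw [map_add, map_add, map_add, ha, hb]
  have hfun : ⇑((ModuleCat.extendRestrictScalarsAdj.{u, u, u} (algebraMap S T)).counit.app Y).hom =
      fun z => TensorProduct.lid' S T Y (E z) := funext key
  rw [hfun]
  exact (TensorProduct.lid' S T Y).bijective.comp E.bijective

theorem counit_bijective_of_epi (β : S →+* T) (hβ : @Algebra.IsEpi S T _ _ β.toAlgebra)
    (Y : ModuleCat.{u} T) :
    Function.Bijective ((ModuleCat.extendRestrictScalarsAdj.{u, u, u} β).counit.app Y).hom := by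
  letI : Algebra S T := β.toAlgebra
  haveI : Algebra.IsEpi S T := hβ
  exact counit_bijective_of_isEpi (S := S) (T := T) Y

end CounitEpi

end Groth.Agent.Helper11.Shr
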