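import Groth.Agent.Lib.Helper11.Shr1

/-!
# Module-level input for the one-variable Koszul step (helper11)

`ι : S → T` a ring map with a retraction `ρ : T → S` whose kernel is generated by a nonzerodivisor
`t`.  We record the two short exact sequences
`0 → Hom_T(S, E) → E → E → 0` (`E` an injective `T`-module) and
`0 → T ⊗_S M → T ⊗_S M → M → 0` (`M` any `S`-module).
-/

set_option autoImplicit false
set_option linter.unusedSectionVars false
set_option linter.unusedVariables false
set_option linter.style.haveILetI false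

open CategoryTheory CategoryTheory.Limits

universe u

namespace Groth.Agent.Helper11.Shr

open Groth.Agent.Helper11.TorsBC Groth.Agent.Helper8.RMod

/-- a retraction `ρ` of `ι` with kernel generated by the nonzerodivisor `t` -/
structure Retr {S T : Type u} [CommRing S] [CommRing T] (ι : S →+* T) (ρ : T →+* S) (t : T) :
    Prop where
  sec : ∀ s, ρ (ι s) = s
  ker : RingHom.ker ρ = Ideal.span {t}
  reg : ∀ x : T, t * x = 0 → x = 0

variable {S T : Type u} [CommRing S] [CommRing T] {ι : S →+* T} {ρ : T →+* S} {t : T}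

namespace Retr

theorem map_t (h : Retr ι ρ t) : ρ t = 0 := by
  have : t ∈ RingHom.ker ρ := by
    rw [h.ker]
    exact Ideal.mem_span_singleton_self t
  exact this

theorem exists_q (h : Retr ι ρ t) (x : T) : ∃ y : T, t * y = x - ι (ρ x) := by
  have h1 : x - ι (ρ x) ∈ RingHom.ker ρ := by
    rw [RingHom.mem_ker, map_sub, h.sec, sub_self]
  rw [h.ker, Ideal.mem_span_singleton'] at h1
  obtain ⟨a, ha⟩ := h1
  exact ⟨a, by rw [mul_comm, ha]⟩

/-- the quotient by `t` of `x - ι (ρ x)` -/
noncomputable def q (h : Retr ι ρ t) (x : T) : T := (h.exists_q x).choose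

theorem q_spec (h : Retr ι ρ t) (x : T) : t * h.q x = x - ι (ρ x) := (h.exists_q x).choose_spec

theorem eq_of_mul_eq (h : Retr ι ρ t) {a b : T} (hab : t * a = t * b) : a = b := by
  have : t * (a - b) = 0 := by rw [mul_sub, hab, sub_self]
  exact sub_eq_zero.mp (h.reg _ this)

theorem q_add (h : Retr ι ρ t) (x y : T) : h.q (x + y) = h.q x + h.q y := by
  apply h.eq_of_mul_eq
  rw [mul_add, q_spec, q_spec, q_spec, map_add, map_add]
  ring

theorem q_smul (h : Retr ι ρ t) (s : S) (x : T) : h.q (ι s * x) = ι s * h.q x := by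
  apply h.eq_of_mul_eq
  rw [q_spec, mul_left_comm, q_spec, map_mul, h.sec, map_mul]
  ring

theorem q_t_mul (h : Retr ι ρ t) (x : T) : h.q (t * x) = x := by
  apply h.eq_of_mul_eq
  rw [q_spec, map_mul, h.map_t, zero_mul, map_zero, sub_zero]

theorem decomp (h : Retr ι ρ t) (x : T) : x = ι (ρ x) + t * h.q x := by
  rw [q_spec]
  ring

end Retr

section Nat

variable (ι) (t)

/-- multiplication by `t`, as an endomorphism of restriction of scalars -/
noncomputable def tmul : Rs ι ⟶ Rs ι where
  app E := (Rs ι).map (t • 𝟙 E)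
  naturality E E' f := by
    rw [← Functor.map_comp, ← Functor.map_comp]
    congr 1
    rw [Linear.comp_smul, Linear.smul_comp, Category.comp_id, Category.id_comp]

theorem tmul_app_apply (E : ModuleCat.{u} T) (x : E) :
    ((tmul ι t).app E).hom x = t • x := rfl

end Nat

section Ev

variable (h : Retr ι ρ t)

/-- `S` as a `T`-module through `ρ` -/
abbrev Sρ (ρ : T →+* S) : Type u := ((ModuleCat.restrictScalars ρ).obj (ModuleCat.of S S))

/-- the identity `S → Sρ` -/
def toSρ (ρ : T →+* S) (s : S) : Sρ ρ := s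

/-- the identity `Sρ → S` -/
def ofSρ (ρ : T →+* S) (s : Sρ ρ) : S := s

theorem smul_toSρ (τ : T) (s : S) : τ • toSρ ρ s = toSρ ρ (ρ τ * s) := rfl

theorem toSρ_ofSρ (s : Sρ ρ) : toSρ ρ (ofSρ ρ s) = s := rfl

theorem ofSρ_add (a b : Sρ ρ) : ofSρ ρ (a + b) = ofSρ ρ a + ofSρ ρ b := rfl

theorem ofSρ_smul (τ : T) (s : Sρ ρ) : ofSρ ρ (τ • s) = ρ τ * ofSρ ρ s := rfl

theorem toSρ_zero : toSρ ρ (0 : S) = 0 := rfl

/-- the coercion of an element of the coextension to a linear map -/
noncomputable abbrev toLin (E : ModuleCat.{u} T) (g : (coF ρ).obj E) : Sρ ρ →ₗ[T] E :=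
  ModuleCat.CoextendScalars.equiv ρ E g

theorem toLin_smul_one (E : ModuleCat.{u} T) (g : (coF ρ).obj E) (τ : T) :
    toLin E g (toSρ ρ (ρ τ)) = τ • toLin E g (toSρ ρ 1) := by
  have h1 := (toLin E g).map_smul τ (toSρ ρ 1)
  rw [smul_toSρ, mul_one] at h1
  exact h1

include h in
theorem toLin_apply (E : ModuleCat.{u} T) (g : (coF ρ).obj E) (s : S) :
    toLin E g (toSρ ρ s) = ι s • toLin E g (toSρ ρ 1) := by
  rw [← toLin_smul_one, h.sec]

/-- evaluation at `1`: `Hom_T(S, E) → E`, which is `S`-linear for the structure through `ι` -/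
noncomputable def ev : coF ρ ⟶ Rs ι where
  app E := ModuleCat.ofHom (X := (coF ρ).obj E) (Y := (Rs ι).obj E)
    { toFun := fun g => toLin E g (toSρ ρ 1)
      map_add' := fun _ _ => rfl
      map_smul' := fun s g => by
        show toLin E g (toSρ ρ ((1 : S) * s)) = ι s • toLin E g (toSρ ρ 1)
        rw [one_mul]
        exact toLin_apply h E g s }
  naturality E E' f := by
    ext g
    rfl

theorem ev_app_apply (E : ModuleCat.{u} T) (g : (coF ρ).obj E) :
    ((ev h).app E).hom g = toLin E g (toSρ ρ 1) := rfl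

theorem ev_injective (E : ModuleCat.{u} T) : Function.Injective ((ev h).app E).hom := by
  intro g g' hgg'
  apply ModuleCat.CoextendScalars.ext
  apply LinearMap.ext
  intro s
  have h1 : toLin E g (toSρ ρ 1) = toLin E g' (toSρ ρ 1) := hgg'
  show toLin E g s = toLin E g' s
  rw [← toSρ_ofSρ s, toLin_apply h E g, toLin_apply h E g', h1]

theorem ev_exact (E : ModuleCat.{u} T) :
    Function.Exact ((ev h).app E).hom ((tmul ι t).app E).hom := by
  intro x
  let x' : E := x
  constructor
  · intro hx
    have hx' : t • x' = 0 := hx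
    have key : ∀ τ : T, ρ τ = 0 → τ • x' = 0 := by
      intro τ hτ
      have h1 : τ ∈ RingHom.ker ρ := hτ
      rw [h.ker, Ideal.mem_span_singleton'] at h1
      obtain ⟨a, rfl⟩ := h1
      rw [mul_smul, hx', smul_zero]
    let g₀ : Sρ ρ →ₗ[T] E :=
      { toFun := fun s => ι (ofSρ ρ s) • x'
        map_add' := fun a b => by
          rw [ofSρ_add, map_add, add_smul]
        map_smul' := fun τ s => by
          rw [ofSρ_smul, RingHom.id_apply]
          have h2 : (τ - ι (ρ τ)) • (ι (ofSρ ρ s) • x') = 0 := by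
            rw [smul_comm]
            rw [key (τ - ι (ρ τ)) (by rw [map_sub, h.sec, sub_self]), smul_zero]
          rw [sub_smul, sub_eq_zero] at h2
          rw [h2, map_mul, mul_smul] }
    refine ⟨(ModuleCat.CoextendScalars.equiv ρ E).symm g₀, ?_⟩
    show ι (1 : S) • x' = x'
    rw [map_one, one_smul]
  · rintro ⟨g, rfl⟩
    show t • toLin E g (toSρ ρ 1) = 0
    rw [← toLin_smul_one, h.map_t, toSρ_zero, map_zero]

include h in
theorem tmul_surjective (E : ModuleCat.{u} T) [Injective E] :
    Function.Surjective ((tmul ι t).app E).hom := by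
  intro x
  let x' : E := x
  haveI : Injective (ModuleCat.of T E) := ‹Injective E›
  haveI : Module.Injective T E := Module.injective_module_of_injective_object T E
  have hinj : Function.Injective (LinearMap.toSpanSingleton T T t) := by
    intro a b hab
    have h1 : a * t = b * t := hab
    apply h.eq_of_mul_eq
    rw [mul_comm t a, mul_comm t b, h1]
  obtain ⟨k, hk⟩ := Module.Injective.extension_property T E T T
    (LinearMap.toSpanSingleton T T t) hinj (LinearMap.toSpanSingleton T E x')
  have h1 : k t = x' := by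
    have h2 := LinearMap.congr_fun hk (1 : T)
    rw [LinearMap.comp_apply, LinearMap.toSpanSingleton_apply, LinearMap.toSpanSingleton_apply,
      one_smul, one_smul] at h2
    exact h2
  refine ⟨k 1, ?_⟩
  show t • k 1 = x'
  rw [← h1, ← map_smul, smul_eq_mul, mul_one]

end Ev

section Evp

open TensorProduct

variable (h : Retr ι ρ t)

/-- `T` as an `S`-module through `ι` -/
abbrev Tι (ι : S →+* T) : Type u := ((ModuleCat.restrictScalars ι).obj (ModuleCat.of T T))

/-- the identity `T → Tι` -/
def toTι (ι : S →+* T) (x : T) : Tι ι := x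

/-- the identity `Tι → T` -/
def ofTι (ι : S →+* T) (x : Tι ι) : T := x

theorem smul_toTι (s : S) (x : T) : s • toTι ι x = toTι ι (ι s * x) := rfl

theorem toTι_ofTι (x : Tι ι) : toTι ι (ofTι ι x) = x := rfl

theorem ofTι_toTι (x : T) : ofTι ι (toTι ι x) = x := rfl

theorem ofTι_add (a b : Tι ι) : ofTι ι (a + b) = ofTι ι a + ofTι ι b := rfl

theorem toTι_add (a b : T) : toTι ι (a + b) = toTι ι a + toTι ι b := rfl

theorem ofTι_smul (s : S) (x : Tι ι) : ofTι ι (s • x) = ι s * ofTι ι x := rfl

/-- the quotient map `q` as an `S`-linear map -/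
noncomputable def qLin : Tι ι →ₗ[S] Tι ι where
  toFun x := toTι ι (h.q (ofTι ι x))
  map_add' a b := by rw [ofTι_add, h.q_add, toTι_add]
  map_smul' s x := by
    rw [ofTι_smul, h.q_smul, RingHom.id_apply, smul_toTι]

theorem qLin_apply (x : Tι ι) : qLin h x = toTι ι (h.q (ofTι ι x)) := rfl

/-- the bilinear map `(x, m) ↦ ρ x • m` -/
noncomputable def evB (M : ModuleCat.{u} S) : Tι ι →ₗ[S] M →ₗ[S] M :=
  LinearMap.mk₂ S (fun x m => ρ (ofTι ι x) • m)
    (fun x x' m => by rw [ofTι_add, map_add, add_smul])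
    (fun c x m => by rw [ofTι_smul, map_mul, h.sec, mul_smul])
    (fun x m m' => by rw [smul_add])
    (fun c x m => by rw [smul_comm])

theorem evB_apply (M : ModuleCat.{u} S) (x : Tι ι) (m : M) :
    evB h M x m = ρ (ofTι ι x) • m := rfl

/-- pure tensors in the extension of scalars -/
noncomputable def pt (ι : S →+* T) (M : ModuleCat.{u} S) (x : Tι ι) (m : M) : (Es ι).obj M := x ⊗ₜ[S] m

theorem es_induction {M : ModuleCat.{u} S} {P : (Es ι).obj M → Prop} (z : (Es ι).obj M)
    (zero : P 0) (tmul : ∀ x m, P (pt ι M x m)) (add : ∀ a b, P a → P b → P (a + b)) : P z :=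
  TensorProduct.induction_on z zero tmul add

theorem smul_pt (M : ModuleCat.{u} S) (τ : T) (x : Tι ι) (m : M) :
    τ • pt ι M x m = pt ι M (toTι ι (τ * ofTι ι x)) m := rfl

theorem pt_add_left (M : ModuleCat.{u} S) (a b : Tι ι) (m : M) :
    pt ι M (a + b) m = pt ι M a m + pt ι M b m := TensorProduct.add_tmul a b m

theorem pt_add_right (M : ModuleCat.{u} S) (x : Tι ι) (m m' : M) :
    pt ι M x (m + m') = pt ι M x m + pt ι M x m' := TensorProduct.tmul_add x m m'

theorem pt_smul (M : ModuleCat.{u} S) (s : S) (x : Tι ι) (m : M) :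
    pt ι M (s • x) m = pt ι M x (s • m) := TensorProduct.smul_tmul s x m

theorem pt_zero_right (M : ModuleCat.{u} S) (x : Tι ι) : pt ι M x (0 : M) = 0 :=
  TensorProduct.tmul_zero M x

/-- the underlying function of the evaluation `T ⊗_S M → M` -/
noncomputable def evpFun (M : ModuleCat.{u} S) (z : (Es ι).obj M) : M :=
  TensorProduct.lift (evB h M) z

theorem evpFun_pt (M : ModuleCat.{u} S) (x : Tι ι) (m : M) :
    evpFun h M (pt ι M x m) = ρ (ofTι ι x) • m :=
  TensorProduct.lift.tmul _ _

theorem evpFun_add (M : ModuleCat.{u} S) (a b : (Es ι).obj M) :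
    evpFun h M (a + b) = evpFun h M a + evpFun h M b :=
  map_add (TensorProduct.lift (evB h M)) _ _

theorem evpFun_zero (M : ModuleCat.{u} S) : evpFun h M 0 = 0 :=
  map_zero (TensorProduct.lift (evB h M))

theorem evpFun_smul (M : ModuleCat.{u} S) (τ : T) (z : (Es ι).obj M) :
    evpFun h M (τ • z) = ρ τ • evpFun h M z := by
  refine es_induction (P := fun z => evpFun h M (τ • z) = ρ τ • evpFun h M z) z ?_ ?_ ?_
  · rw [smul_zero, evpFun_zero, smul_zero]
  · intro x m
    rw [smul_pt, evpFun_pt, evpFun_pt, ofTι_toTι, map_mul, mul_smul]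
  · intro a b ha hb
    rw [smul_add, evpFun_add, evpFun_add, ha, hb, smul_add]

/-- the evaluation `T ⊗_S M → M`, `x ⊗ m ↦ ρ x • m` -/
noncomputable def evp : Es ι ⋙ Rs ι ⟶ 𝟭 (ModuleCat.{u} S) where
  app M := ModuleCat.ofHom (X := (Rs ι).obj ((Es ι).obj M)) (Y := M)
    { toFun := fun z => evpFun h M z
      map_add' := fun a b => evpFun_add h M a b
      map_smul' := fun s z => (evpFun_smul h M (ι s) z).trans (by rw [h.sec]; rfl) }
  naturality M M' f := by
    ext z
    show evpFun h M' (((Es ι).map f).hom z) = f.hom (evpFun h M z)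
    refine es_induction
      (P := fun z => evpFun h M' (((Es ι).map f).hom z) = f.hom (evpFun h M z)) z ?_ ?_ ?_
    · rw [map_zero, evpFun_zero, evpFun_zero, map_zero]
    · intro x m
      have h1 : ((Es ι).map f).hom (pt ι M x m) = pt ι M' x (f.hom m) := rfl
      rw [h1, evpFun_pt, evpFun_pt, map_smul]
    · intro a b ha hb
      rw [map_add, evpFun_add, evpFun_add, ha, hb, map_add]

theorem evp_app_apply (M : ModuleCat.{u} S) (z : (Es ι).obj M) :
    ((evp h).app M).hom z = evpFun h M z := rfl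

/-- `q ⊗ id` -/
noncomputable def Wfun (M : ModuleCat.{u} S) (z : (Es ι).obj M) : (Es ι).obj M :=
  LinearMap.rTensor M (qLin h) z

theorem Wfun_pt (M : ModuleCat.{u} S) (x : Tι ι) (m : M) :
    Wfun h M (pt ι M x m) = pt ι M (qLin h x) m :=
  LinearMap.rTensor_tmul _ _ _ _

theorem Wfun_add (M : ModuleCat.{u} S) (a b : (Es ι).obj M) :
    Wfun h M (a + b) = Wfun h M a + Wfun h M b :=
  map_add (LinearMap.rTensor M (qLin h)) _ _

theorem Wfun_zero (M : ModuleCat.{u} S) : Wfun h M 0 = 0 :=
  map_zero (LinearMap.rTensor M (qLin h))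

theorem Wfun_smul (M : ModuleCat.{u} S) (z : (Es ι).obj M) : Wfun h M (t • z) = z := by
  refine es_induction (P := fun z => Wfun h M (t • z) = z) z ?_ ?_ ?_
  · rw [smul_zero, Wfun_zero]
  · intro x m
    rw [smul_pt, Wfun_pt, qLin_apply, ofTι_toTι, h.q_t_mul, toTι_ofTι]
  · intro a b ha hb
    rw [smul_add, Wfun_add, ha, hb]

theorem decomp_tensor (M : ModuleCat.{u} S) (z : (Es ι).obj M) :
    z = pt ι M (toTι ι 1) (evpFun h M z) + t • Wfun h M z := by
  refine es_induction
    (P := fun z => z = pt ι M (toTι ι 1) (evpFun h M z) + t • Wfun h M z) z ?_ ?_ ?_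
  · rw [evpFun_zero, Wfun_zero, smul_zero, pt_zero_right, add_zero]
  · intro x m
    rw [evpFun_pt, Wfun_pt, smul_pt, qLin_apply, ofTι_toTι,
      ← pt_smul, smul_toTι, mul_one, ← pt_add_left, ← toTι_add,
      ← h.decomp, toTι_ofTι]
  · intro a b ha hb
    rw [evpFun_add, Wfun_add, smul_add, pt_add_right]
    nth_rewrite 1 [ha, hb]
    abel

include h in
theorem tmul_injective_es (M : ModuleCat.{u} S) :
    Function.Injective ((tmul ι t).app ((Es ι).obj M)).hom := by
  intro a b hab
  let a' : (Es ι).obj M := a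
  let b' : (Es ι).obj M := b
  have h1 : t • a' = t • b' := hab
  have h2 := congrArg (Wfun h M) h1
  rw [Wfun_smul, Wfun_smul] at h2
  exact h2

theorem evp_exact (M : ModuleCat.{u} S) :
    Function.Exact ((tmul ι t).app ((Es ι).obj M)).hom ((evp h).app M).hom := by
  intro z
  let z' : (Es ι).obj M := z
  constructor
  · intro hz
    have hz' : evpFun h M z' = 0 := hz
    refine ⟨Wfun h M z', ?_⟩
    show t • Wfun h M z' = z'
    have h1 := decomp_tensor h M z'
    rw [hz', pt_zero_right, zero_add] at h1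
    exact h1.symm
  · rintro ⟨w, rfl⟩
    let w' : (Es ι).obj M := w
    show evpFun h M (t • w') = 0
    rw [evpFun_smul, h.map_t, zero_smul]

theorem evp_surjective (M : ModuleCat.{u} S) : Function.Surjective ((evp h).app M).hom := by
  intro m
  refine ⟨pt ι M (toTι ι 1) m, ?_⟩
  show evpFun h M (pt ι M (toTι ι 1) m) = m
  rw [evpFun_pt, ofTι_toTι, map_one, one_smul]

end Evp

end Groth.Agent.Helper11.Shr
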