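import Groth.Agent.Lib.Helper11.Shr19

/-!
# Upper shriek along a flat epimorphism of finite type, for unbounded complexes (helper11)
-/

set_option autoImplicit false
set_option linter.unusedSectionVars false
set_option linter.unusedVariables false
set_option linter.style.haveILetI false

open CategoryTheory CategoryTheory.Limits DerivedCategory Pretriangulated TensorProduct

attribute [local instance] HasDerivedCategory.standard

universe u

namespace Groth.Agent.Helper11.Shr

open Groth.Agent.Helper11.TorsBC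

section DerivedEpi

variable {S T : Type u} [CommRing S] [CommRing T] (β : S →+* T)
  [PreservesFiniteLimits (Es β)]

theorem isIso_adjD_counit_app_Q (hβ : @Algebra.IsEpi S T _ _ β.toAlgebra)
    (X : CochainComplex (ModuleCat.{u} T) ℤ) : IsIso ((adjD β).counit.app (Q.obj X)) := by
  have h1 : IsIso ((Groth.Agent.Helper29.DAdjA.cxAdj
      (ModuleCat.extendRestrictScalarsAdj.{u, u, u} β) (ComplexShape.up ℤ)).counit.app X) := by
    haveI : ∀ i : ℤ, IsIso (((Groth.Agent.Helper29.DAdjA.cxAdj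
        (ModuleCat.extendRestrictScalarsAdj.{u, u, u} β) (ComplexShape.up ℤ)).counit.app X).f i) := by
      intro i
      show IsIso ((ModuleCat.extendRestrictScalarsAdj.{u, u, u} β).counit.app (X.X i))
      rw [ConcreteCategory.isIso_iff_bijective]
      exact counit_bijective_of_epi β hβ (X.X i)
    exact HomologicalComplex.Hom.isIso_of_components _
  haveI := h1
  unfold adjD
  rw [Adjunction.localization_counit_app]
  infer_instance

theorem isIso_adjD_counit_app (hβ : @Algebra.IsEpi S T _ _ β.toAlgebra) (Y : Dual.D T) :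
    IsIso ((adjD β).counit.app Y) := by
  let X := Q.objPreimage Y
  let e : Q.obj X ≅ Y := Q.objObjPreimageIso Y
  rw [← NatTrans.isIso_app_iff_of_iso (adjD β).counit e]
  exact isIso_adjD_counit_app_Q β hβ X

/-- restriction of scalars along a flat epimorphism is fully faithful on derived categories -/
theorem nonempty_fullyFaithful_resD (hβ : @Algebra.IsEpi S T _ _ β.toAlgebra) :
    Nonempty (resD β).FullyFaithful := by
  haveI : ∀ Y, IsIso ((adjD β).counit.app Y) := isIso_adjD_counit_app β hβ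
  haveI : IsIso (adjD β).counit := NatIso.isIso_of_isIso_app _
  exact ⟨(adjD β).fullyFaithfulROfIsIsoCounit⟩

theorem isIso_unit_app_of_epi (hβ : @Algebra.IsEpi S T _ _ β.toAlgebra)
    (Rβ : Dual.D S ⥤ Dual.D T) (adjβ : resD β ⊣ Rβ) (Y : Dual.D T) :
    IsIso (adjβ.unit.app Y) := by
  obtain ⟨ff⟩ := nonempty_fullyFaithful_resD β hβ
  haveI := ff.full
  haveI := ff.faithful
  infer_instance

end DerivedEpi

section Yoneda

universe v₁ v₂ u₁ u₂

theorem isIso_rightAdj_map_of_bijective {C : Type u₁} [Category.{v₁} C] {D : Type u₂}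
    [Category.{v₂} D] {L : D ⥤ C} {G : C ⥤ D} (adj : L ⊣ G) {M M' : C} (u : M ⟶ M')
    (h : ∀ X : D, Function.Bijective (fun g : L.obj X ⟶ M => g ≫ u)) : IsIso (G.map u) := by
  apply Groth.Agent.Helper11.GM.isIso_of_bijective_comp (fun _ => True) (G.map u) trivial trivial
  intro X _
  constructor
  · intro f₁ f₂ h12
    have h12' : f₁ ≫ G.map u = f₂ ≫ G.map u := h12
    have h3 : (adj.homEquiv X M).symm f₁ ≫ u = (adj.homEquiv X M).symm f₂ ≫ u := by
      rw [← Adjunction.homEquiv_naturality_right_symm,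
        ← Adjunction.homEquiv_naturality_right_symm, h12']
    exact (adj.homEquiv X M).symm.injective ((h X).1 h3)
  · intro k
    obtain ⟨g, hg⟩ := (h X).2 ((adj.homEquiv X M').symm k)
    have hg' : g ≫ u = (adj.homEquiv X M').symm k := hg
    refine ⟨adj.homEquiv X M g, ?_⟩
    show adj.homEquiv X M g ≫ G.map u = k
    rw [← Adjunction.homEquiv_naturality_right, hg', Equiv.apply_symm_apply]

end Yoneda

section Nilp

theorem nilp_resD_of_mem_ker {P A : Type u} [CommRing P] [CommRing A] (ψ : P →+* A)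
    (X : Dual.D A) (f : P) (hf : f ∈ RingHom.ker ψ) : Nilp f ((resD ψ).obj X) := by
  refine ⟨1, ?_⟩
  have h0 : ψ f = 0 := (RingHom.mem_ker).mp hf
  have h1 := Groth.Agent.Helper8.LOC.Rd_map_smul_id ψ X f
  rw [h0, zero_smul, Functor.map_zero] at h1
  rw [pow_one]
  exact h1.symm

end Nilp

section Main

variable (R R' : Type u) [CommRing R] [CommRing R'] [Algebra R R'] [IsNoetherianRing R]
  [Module.Flat R R'] [Algebra.IsEpi R R']

/-- **upper shriek along a flat epimorphism of finite type**: `φ^!(K) ≅ K ⊗_R R'` for every `K` -/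
theorem nonempty_sh_iso_Gd_of_flat_epi_unbounded (n : ℕ)
    (ψ : MvPolynomial (Fin n) R →ₐ[R] R') (hψ : Function.Surjective ψ)
    (Rψ : Dual.D (MvPolynomial (Fin n) R) ⥤ Dual.D R') (adj : resD ψ.toRingHom ⊣ Rψ)
    [PreservesFiniteLimits (Es (algebraMap R R'))] (K : Dual.D R) :
    Nonempty (sh n Rψ K ≅ (Gd (algebraMap R R')).obj K) := by
  have hβ := betaBC_flat R R' n
  haveI iβ : PreservesFiniteLimits (Es (betaBC R R' n)) :=
    ModuleCat.preservesFiniteLimits_extendScalars_of_flat hβ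
  have hγ : (algebraMap R (MvPolynomial (Fin n) R')).Flat := by
    rw [IsScalarTower.algebraMap_eq R R' (MvPolynomial (Fin n) R')]
    exact RingHom.Flat.comp (RingHom.flat_algebraMap_iff.mpr inferInstance)
      (flat_algebraMap_mvPolynomial R' n)
  haveI iγ : PreservesFiniteLimits (Es (algebraMap R (MvPolynomial (Fin n) R'))) :=
    ModuleCat.preservesFiniteLimits_extendScalars_of_flat hγ
  have hepi := isEpi_betaBC R R' n
  have hI : (RingHom.ker ψ.toRingHom).FG := IsNoetherian.noetherian _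
  obtain ⟨s, hs'⟩ := hI
  have hfs : RingHom.ker ψ.toRingHom ≤ Ideal.span {a | a ∈ s.toList} := by
    rw [← hs']
    apply Ideal.span_mono
    intro a ha
    exact Finset.mem_toList.mpr ha
  have hfs' : ∀ f ∈ s.toList, f ∈ RingHom.ker ψ.toRingHom := fun f hf => by
    rw [← hs']
    exact Ideal.subset_span (Finset.mem_toList.mp hf)
  let KP : Dual.D (MvPolynomial (Fin n) R) :=
    (Gd (algebraMap R (MvPolynomial (Fin n) R))).obj K
  have hu : IsIso (Rψ.map ((uD (betaBC R R' n)).app KP)) :=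
    isIso_rightAdj_map_of_bijective adj _ (fun X =>
      bijective_comp_uD (betaBC R R' n) hβ (RingHom.ker ψ.toRingHom) ⟨s, hs'⟩
        (hs_betaBC ψ hψ) (hk_betaBC ψ hψ) s.toList hfs KP ((resD ψ.toRingHom).obj X)
        (fun f hf => nilp_resD_of_mem_ker ψ.toRingHom X f (hfs' f hf)))
  let ρ : MvPolynomial (Fin n) R' →ₐ[R'] R' :=
    MvPolynomial.aeval (fun i => ψ (MvPolynomial.X i))
  have hq : ψ.toRingHom = ρ.toRingHom.comp (betaBC R R' n) := by
    apply MvPolynomial.ringHom_ext
    · intro r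
      show ψ (MvPolynomial.C r) =
        MvPolynomial.aeval (fun i => ψ (MvPolynomial.X i)) (betaBC R R' n (MvPolynomial.C r))
      rw [betaBC_C, MvPolynomial.aeval_C]
      exact ψ.commutes r
    · intro i
      show ψ (MvPolynomial.X i) =
        MvPolynomial.aeval (fun i => ψ (MvPolynomial.X i)) (betaBC R R' n (MvPolynomial.X i))
      rw [betaBC_X, MvPolynomial.aeval_X]
  have hρ : Function.Surjective ρ := by
    intro y
    refine ⟨MvPolynomial.C y, ?_⟩
    show MvPolynomial.aeval (fun i => ψ (MvPolynomial.X i)) (MvPolynomial.C y) = y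
    rw [MvPolynomial.aeval_C]
    rfl
  obtain ⟨Rβ, ⟨adjβ⟩⟩ := exists_rightAdj (betaBC R R' n)
  obtain ⟨Rρ, ⟨adjρ⟩⟩ := exists_rightAdj ρ.toRingHom
  obtain ⟨R0, ⟨adj0⟩⟩ := exists_rightAdj (rho0 R').toRingHom
  let e3 : Rψ ≅ Rβ ⋙ Rρ :=
    rightAdjComp (betaBC R R' n) ρ.toRingHom ψ.toRingHom hq Rβ adjβ Rρ adjρ Rψ adj
  let c1 : (RD (betaBC R R' n)).obj KP ≅
      (resD (betaBC R R' n)).obj ((Gd (betaBC R R' n)).obj KP) :=
    (mapDComp (Es (betaBC R R' n)) (Rs (betaBC R R' n)) (F₀ (betaBC R R' n)) (Iso.refl _)).app KP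
  haveI hunit : IsIso (adjβ.unit.app ((Gd (betaBC R R' n)).obj KP)) :=
    isIso_unit_app_of_epi (betaBC R R' n) hepi Rβ adjβ _
  let t1 : Rψ.obj KP ≅ Rρ.obj ((Gd (betaBC R R' n)).obj KP) :=
    @asIso _ _ _ _ (Rψ.map ((uD (betaBC R R' n)).app KP)) hu ≪≫ Rψ.mapIso c1 ≪≫
      e3.app _ ≪≫ Rρ.mapIso (asIso (adjβ.unit.app ((Gd (betaBC R R' n)).obj KP))).symm
  let ea : Gd (algebraMap R (MvPolynomial (Fin n) R')) ≅
      Gd (algebraMap R (MvPolynomial (Fin n) R)) ⋙ Gd (betaBC R R' n) :=
    gdComp (algebraMap R (MvPolynomial (Fin n) R)) (betaBC R R' n)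
      (algebraMap R (MvPolynomial (Fin n) R'))
      ((IsScalarTower.algebraMap_eq R R' (MvPolynomial (Fin n) R')).trans
        (betaBC_comp_algebraMap R R' n))
  let eb : Gd (algebraMap R (MvPolynomial (Fin n) R')) ≅
      Gd (algebraMap R R') ⋙ Gd (algebraMap R' (MvPolynomial (Fin n) R')) :=
    gdComp (algebraMap R R') (algebraMap R' (MvPolynomial (Fin n) R'))
      (algebraMap R (MvPolynomial (Fin n) R'))
      (IsScalarTower.algebraMap_eq R R' (MvPolynomial (Fin n) R'))
  let r1 : (Gd (algebraMap R' (MvPolynomial (Fin n) R'))).obj ((Gd (algebraMap R R')).obj K) ≅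
      (Gd (betaBC R R' n)).obj KP :=
    (eb.app K).symm ≪≫ ea.app K
  obtain ⟨s1⟩ := sh_indep (R := R') (A := R') n ρ hρ Rρ adjρ 0 (rho0 R') (rho0_surjective R')
    R0 adj0 ((Gd (algebraMap R R')).obj K)
  obtain ⟨s2⟩ := nonempty_sh_zero R' R0 adj0 ((Gd (algebraMap R R')).obj K)
  exact ⟨(shiftFunctor (Dual.D R') (n : ℤ)).mapIso (t1 ≪≫ Rρ.mapIso r1.symm) ≪≫ s1 ≪≫ s2⟩

end Main

end Groth.Agent.Helper11.Shr
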