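import Groth.Agent.Lib.Helper11.Shr2
import Mathlib.Algebra.Homology.DerivedCategory.ShortExact

/-!
# The one-variable Koszul step (helper11)

For a flat ring map `ι : S → T` with a retraction `ρ : T → S` whose kernel is generated by a
nonzerodivisor, and any right adjoint `R` of restriction of scalars along `ρ`:
`R (T ⊗_S M)[1] ≅ M` for all `M` in `D(S)`.
-/

set_option autoImplicit false
set_option linter.unusedSectionVars false
set_option linter.unusedVariables false
set_option linter.style.haveILetI false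

open CategoryTheory CategoryTheory.Limits DerivedCategory Pretriangulated

attribute [local instance] HasDerivedCategory.standard

universe u

namespace Groth.Agent.Helper11.Shr

open Groth.Agent.Helper11.TorsBC Groth.Agent.Helper8.RMod

variable {S T : Type u} [CommRing S] [CommRing T] {ι : S →+* T} {ρ : T →+* S} {t : T}
  (h : Retr ι ρ t)

/-- evaluation at `1` on complexes -/
noncomputable abbrev evC : coC ρ ⟶ (Rs ι).mapHomologicalComplex (ComplexShape.up ℤ) :=
  NatTrans.mapHomologicalComplex (ev h) (ComplexShape.up ℤ)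

variable (ι t) in
/-- multiplication by `t` on complexes -/
noncomputable abbrev tC : (Rs ι).mapHomologicalComplex (ComplexShape.up ℤ) ⟶
    (Rs ι).mapHomologicalComplex (ComplexShape.up ℤ) :=
  NatTrans.mapHomologicalComplex (tmul ι t) (ComplexShape.up ℤ)

theorem ev_comp_tmul (E : ModuleCat.{u} T) : (ev h).app E ≫ (tmul ι t).app E = 0 := by
  apply ModuleCat.hom_ext
  apply LinearMap.ext
  intro g
  exact ((ev_exact h E) (((ev h).app E).hom g)).mpr ⟨g, rfl⟩

/-- the sequence `0 → Hom_T(S, I) → I → I → 0` -/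
noncomputable def ses1 (I : CochainComplex (ModuleCat.{u} T) ℤ) :
    ShortComplex (CochainComplex (ModuleCat.{u} S) ℤ) :=
  ShortComplex.mk ((evC h).app I) ((tC ι t).app I) (by
    apply HomologicalComplex.hom_ext
    intro i
    exact ev_comp_tmul h (I.X i))

theorem ses1_shortExact (I : CochainComplex (ModuleCat.{u} T) ℤ) (hI : ∀ i, Injective (I.X i)) :
    (ses1 h I).ShortExact := by
  apply HomologicalComplex.shortExact_of_degreewise_shortExact
  intro i
  haveI := hI i
  exact ModuleCat.shortComplex_shortExact _ (ev_exact h (I.X i)) (ev_injective h (I.X i))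
    (tmul_surjective h (I.X i))

/-- the evaluation `T ⊗_S M → M` on complexes -/
noncomputable def evpC (M : CochainComplex (ModuleCat.{u} S) ℤ) :
    ((Rs ι).mapHomologicalComplex (ComplexShape.up ℤ)).obj
      (((Es ι).mapHomologicalComplex (ComplexShape.up ℤ)).obj M) ⟶ M where
  f i := (evp h).app (M.X i)
  comm' i j _ := ((evp h).naturality (M.d i j)).symm

theorem tmul_comp_evp (M : ModuleCat.{u} S) :
    (tmul ι t).app ((Es ι).obj M) ≫ (evp h).app M = 0 := by
  apply ModuleCat.hom_ext
  apply LinearMap.ext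
  intro z
  exact ((evp_exact h M) (((tmul ι t).app ((Es ι).obj M)).hom z)).mpr ⟨z, rfl⟩

/-- the sequence `0 → T ⊗ M → T ⊗ M → M → 0` -/
noncomputable def ses2 (M : CochainComplex (ModuleCat.{u} S) ℤ) :
    ShortComplex (CochainComplex (ModuleCat.{u} S) ℤ) :=
  ShortComplex.mk ((tC ι t).app (((Es ι).mapHomologicalComplex (ComplexShape.up ℤ)).obj M))
    (evpC h M) (by
    apply HomologicalComplex.hom_ext
    intro i
    exact tmul_comp_evp h (M.X i))

theorem ses2_shortExact (M : CochainComplex (ModuleCat.{u} S) ℤ) : (ses2 h M).ShortExact := by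
  apply HomologicalComplex.shortExact_of_degreewise_shortExact
  intro i
  exact ModuleCat.shortComplex_shortExact _ (evp_exact h (M.X i)) (tmul_injective_es h (M.X i))
    (evp_surjective h (M.X i))

include h in
/-- the one-variable Koszul step -/
theorem nonempty_koszul_iso [PreservesFiniteLimits (Es ι)] (R : Dual.D T ⥤ Dual.D S)
    (adj : resD ρ ⊣ R) (M : Dual.D S) :
    Nonempty ((R.obj ((Gd ι).obj M))⟦(1 : ℤ)⟧ ≅ M) := by
  let M₀ := Q.objPreimage M
  let e₀ : Q.obj M₀ ≅ M := Q.objObjPreimageIso M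
  let N₀ := ((Es ι).mapHomologicalComplex (ComplexShape.up ℤ)).obj M₀
  obtain ⟨I, r, hI, hr, -, hinj⟩ := Groth.Agent.Helper29.KInjE.exists_kInjective_resolution N₀
  haveI := hI
  haveI : QuasiIso r := hr
  haveI : IsIso (Q.map r) := by
    rw [isIso_Q_map_iff_quasiIso]
    exact hr
  let e₁ : (Gd ι).obj M ≅ Q.obj I :=
    (Gd ι).mapIso e₀.symm ≪≫ (Es ι).mapDerivedCategoryFactors.app M₀ ≪≫ asIso (Q.map r)
  obtain ⟨e₂⟩ := nonempty_rightAdj_obj_iso ρ R adj I
  have hS1 := ses1_shortExact h I hinj
  have hS2 := ses2_shortExact h M₀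
  have hT1 : (triangleOfSES hS1).rotate ∈ distTriang (Dual.D S) :=
    rot_of_distTriang _ (triangleOfSES_distinguished hS1)
  have hT2 : triangleOfSES hS2 ∈ distTriang (Dual.D S) := triangleOfSES_distinguished hS2
  let r' := ((Rs ι).mapHomologicalComplex (ComplexShape.up ℤ)).map r
  haveI : QuasiIso r' := inferInstance
  haveI : IsIso (Q.map r') := by
    rw [isIso_Q_map_iff_quasiIso]
    infer_instance
  let a : Q.obj (((Rs ι).mapHomologicalComplex (ComplexShape.up ℤ)).obj N₀) ≅
      Q.obj (((Rs ι).mapHomologicalComplex (ComplexShape.up ℤ)).obj I) := asIso (Q.map r')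
  have comm : (triangleOfSES hS2).mor₁ ≫ a.hom = a.hom ≫ (triangleOfSES hS1).rotate.mor₁ := by
    show Q.map ((tC ι t).app N₀) ≫ Q.map r' = Q.map r' ≫ Q.map ((tC ι t).app I)
    rw [← Q.map_comp, ← Q.map_comp]
    congr 1
    exact ((tC ι t).naturality r).symm
  let eT := isoTriangleOfIso₁₂ _ _ hT2 hT1 a a comm
  let e₃ : Q.obj M₀ ≅ (Q.obj ((coC ρ).obj I))⟦(1 : ℤ)⟧ := Triangle.π₃.mapIso eT
  exact ⟨(shiftFunctor (Dual.D S) (1 : ℤ)).mapIso (R.mapIso e₁ ≪≫ e₂) ≪≫ e₃.symm ≪≫ e₀⟩

end Groth.Agent.Helper11.Shr
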