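import Groth.Agent.Lib.Helper11.Shr1
import Groth.Agent.Lib.Helper11.DCCompl
import Groth.Agent.Lib.Helper11.DCP3
import Groth.Agent.Lib.Helper8.LD12

/-!
# A criterion for isomorphisms in `D(A)` (helper11)

A morphism `c : X ⟶ Y` of `D(A)` is an isomorphism as soon as composition with `c` is bijective on
morphisms out of all shifts of `A[0]`.
-/

set_option autoImplicit false
set_option linter.unusedSectionVars false
set_option linter.unusedVariables false
set_option linter.style.haveILetI false

open CategoryTheory CategoryTheory.Limits DerivedCategory Pretriangulated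

attribute [local instance] HasDerivedCategory.standard

universe u v w

namespace Groth.Agent.Helper11.Shr

theorem bijective_comp_of_iso {C : Type v} [Category.{w} C] {T T' X Y : C} (e : T ≅ T')
    (c : X ⟶ Y) (h : Function.Bijective (fun u : T' ⟶ X => u ≫ c)) :
    Function.Bijective (fun u : T ⟶ X => u ≫ c) := by
  have hc : (fun u : T ⟶ X => u ≫ c) =
      (fun v : T' ⟶ Y => e.hom ≫ v) ∘ (fun u : T' ⟶ X => u ≫ c) ∘
        (fun u : T ⟶ X => e.inv ≫ u) := by
    funext u
    simp
  rw [hc]
  refine Function.Bijective.comp ?_ (Function.Bijective.comp h ?_)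
  · exact (e.homFromEquiv (Z := Y)).symm.bijective
  · exact (e.homFromEquiv (Z := X)).bijective

variable {A : Type u} [CommRing A]

/-- detection of isomorphisms by the shifts of the ring -/
theorem isIso_of_bijective_inD {X Y : Dual.D A} (c : X ⟶ Y)
    (h : ∀ j : ℤ, Function.Bijective (fun u : (Dual.inD A A)⟦j⟧ ⟶ X => u ≫ c)) : IsIso c := by
  obtain ⟨W, g, hh, hΔ⟩ := distinguished_cocone_triangle c
  have hW : ∀ (j : ℤ) (φ : (Dual.inD A A)⟦j⟧ ⟶ W), φ = 0 := by
    intro j φ
    refine TorsBC.eq_zero_of_bijective c g hh hΔ (h j) ?_ φ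
    exact bijective_comp_of_iso
      ((shiftFunctorAdd' (Dual.D A) j (-1) (j - 1) (by ring)).app (Dual.inD A A)).symm c
      (h (j - 1))
  have hWz : IsZero W := by
    apply DC.isZero_of_homology_isZero
    intro n
    have hs : Subsingleton (Dual.inD A A ⟶ W⟦n⟧) := by
      apply DCP.subsingleton_shift_of_neg
      exact ⟨fun u v => by rw [hW (-n) u, hW (-n) v]⟩
    have hs' : Subsingleton (Dual.HD A W n) :=
      (Groth.Agent.Helper8.LD.homSelfEquiv W n).symm.toEquiv.subsingleton
    exact ModuleCat.isZero_of_subsingleton _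
  exact (Triangle.isZero₃_iff_isIso₁ _ hΔ).mp hWz

end Groth.Agent.Helper11.Shr
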