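import Groth.Prelude.Def_W4stktopologysheavesDim
import Mathlib.Topology.Sober
import Mathlib.Topology.Spectral.Basic
import Mathlib.Topology.NoetherianSpace
import Mathlib.Topology.QuasiSeparated

/-!
# The soberification of a topological space
-/

namespace Groth.Agent.Helper11.SobLib

open TopologicalSpace Topology Set PtTop

universe u

variable {X : Type u} [TopologicalSpace X]

/-- The underlying set of a point of the soberification. -/
def car (Z : Sob X) : Set X := ((show IrreducibleCloseds X from Z) : Set X)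

theorem car_irred (Z : Sob X) : IsIrreducible (car Z) :=
  (show IrreducibleCloseds X from Z).isIrreducible

theorem car_closed (Z : Sob X) : IsClosed (car Z) :=
  (show IrreducibleCloseds X from Z).isClosed

theorem car_injective : Function.Injective (car : Sob X → Set X) := by
  intro Z W h
  exact IrreducibleCloseds.ext (s := (show IrreducibleCloseds X from Z))
    (t := (show IrreducibleCloseds X from W)) h

/-- The set of irreducible closed subsets meeting `U`. -/
def D (U : Set X) : Set (Sob X) := {Z | (car Z ∩ U).Nonempty}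

theorem mem_D {U : Set X} {Z : Sob X} : Z ∈ D U ↔ (car Z ∩ U).Nonempty := Iff.rfl

theorem D_univ : D (univ : Set X) = univ := by
  ext Z
  simp only [mem_D, inter_univ, mem_univ, iff_true]
  exact (car_irred Z).nonempty

theorem D_inter {U V : Set X} (hU : IsOpen U) (hV : IsOpen V) : D U ∩ D V = D (U ∩ V) := by
  ext Z
  constructor
  · rintro ⟨h1, h2⟩
    exact (car_irred Z).isPreirreducible U V hU hV h1 h2
  · rintro ⟨z, hz, hzU, hzV⟩
    exact ⟨⟨z, hz, hzU⟩, ⟨z, hz, hzV⟩⟩

theorem D_iUnion {ι : Sort*} (U : ι → Set X) : D (⋃ i, U i) = ⋃ i, D (U i) := by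
  ext Z
  simp only [mem_D, mem_iUnion, inter_iUnion, nonempty_iUnion]

theorem D_mono {U V : Set X} (h : U ⊆ V) : D U ⊆ D V := by
  rintro Z ⟨z, hz, hzU⟩
  exact ⟨z, hz, h hzU⟩

theorem isOpen_D {U : Set X} (hU : IsOpen U) : IsOpen (D U) :=
  TopologicalSpace.isOpen_generateFrom_of_mem ⟨⟨U, hU⟩, rfl⟩

theorem isOpen_iff {S : Set (Sob X)} : IsOpen S ↔ ∃ U : Set X, IsOpen U ∧ S = D U := by
  constructor
  · intro h
    induction h with
    | basic s hs =>
      obtain ⟨U, rfl⟩ := hs
      exact ⟨U, U.2, rfl⟩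
    | univ => exact ⟨univ, isOpen_univ, D_univ.symm⟩
    | inter s t _ _ ihs iht =>
      obtain ⟨U, hU, rfl⟩ := ihs
      obtain ⟨V, hV, rfl⟩ := iht
      exact ⟨U ∩ V, hU.inter hV, D_inter hU hV⟩
    | sUnion S _ ih =>
      choose! U hU hUS using ih
      refine ⟨⋃ s ∈ S, U s, isOpen_biUnion hU, ?_⟩
      rw [D_iUnion]
      simp only [D_iUnion]
      rw [sUnion_eq_biUnion]
      refine iUnion_congr fun s => iUnion_congr fun hs => hUS s hs
  · rintro ⟨U, hU, rfl⟩
    exact isOpen_D hU

theorem car_toSob (x : X) : car (toSob X x) = closure {x} := rfl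

theorem toSob_mem_D {U : Set X} (hU : IsOpen U) {x : X} : toSob X x ∈ D U ↔ x ∈ U := by
  rw [mem_D, car_toSob]
  constructor
  · rintro ⟨y, hy, hyU⟩
    obtain ⟨z, hzU, hz⟩ := mem_closure_iff.1 hy U hU hyU
    rw [mem_singleton_iff] at hz
    exact hz ▸ hzU
  · intro hx
    exact ⟨x, subset_closure (mem_singleton x), hx⟩

theorem preimage_D {U : Set X} (hU : IsOpen U) : toSob X ⁻¹' D U = U := by
  ext x
  exact toSob_mem_D hU

theorem continuous_toSob : Continuous (toSob X) := by
  refine ⟨fun S hS => ?_⟩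
  obtain ⟨U, hU, rfl⟩ := isOpen_iff.1 hS
  rw [preimage_D hU]
  exact hU

theorem D_injective {U V : Set X} (hU : IsOpen U) (hV : IsOpen V) (h : D U = D V) : U = V := by
  rw [← preimage_D hU, ← preimage_D hV, h]

theorem D_subset_D {U V : Set X} (hU : IsOpen U) (hV : IsOpen V) (h : D U ⊆ D V) : U ⊆ V := by
  rw [← preimage_D hU, ← preimage_D hV]
  exact preimage_mono h

theorem bijOn_preimage :
    Set.BijOn (fun U' : Set (Sob X) => toSob X ⁻¹' U') {U' | IsOpen U'} {U : Set X | IsOpen U} := by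
  refine ⟨fun U' hU' => continuous_toSob.isOpen_preimage U' hU', ?_, ?_⟩
  · intro U' hU' V' hV' h
    obtain ⟨U, hU, rfl⟩ := isOpen_iff.1 hU'
    obtain ⟨V, hV, rfl⟩ := isOpen_iff.1 hV'
    simp only [preimage_D hU, preimage_D hV] at h
    rw [h]
  · intro U hU
    exact ⟨D U, isOpen_D hU, preimage_D hU⟩

instance t0Space : T0Space (Sob X) := by
  refine ⟨fun Z W h => ?_⟩
  rw [inseparable_iff_forall_isOpen] at h
  apply car_injective
  have key : ∀ Z W : Sob X, (∀ s, IsOpen s → (Z ∈ s ↔ W ∈ s)) → car Z ⊆ car W := by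
    intro Z W h x hx
    by_contra hxW
    have h1 : Z ∈ D (car W)ᶜ := ⟨x, hx, hxW⟩
    have h2 : W ∈ D (car W)ᶜ := (h _ (isOpen_D (car_closed W).isOpen_compl)).1 h1
    obtain ⟨y, hy, hyW⟩ := h2
    exact hyW hy
  exact Subset.antisymm (key Z W h) (key W Z fun s hs => (h s hs).symm)

/-- The set of irreducible closed subsets contained in `C`. -/
def V (C : Set X) : Set (Sob X) := {Z | car Z ⊆ C}

theorem V_eq_compl (C : Set X) : V C = (D Cᶜ)ᶜ := by
  ext Z
  simp only [V, D, mem_ofPred_eq, mem_compl_iff, not_nonempty_iff_eq_empty,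
    ← disjoint_iff_inter_eq_empty, disjoint_compl_right_iff_subset]

theorem isClosed_V {C : Set X} (hC : IsClosed C) : IsClosed (V C) := by
  rw [V_eq_compl]
  exact (isOpen_D hC.isOpen_compl).isClosed_compl

theorem isClosed_iff {S : Set (Sob X)} : IsClosed S ↔ ∃ C : Set X, IsClosed C ∧ S = V C := by
  constructor
  · intro h
    obtain ⟨U, hU, hSU⟩ := isOpen_iff.1 h.isOpen_compl
    refine ⟨Uᶜ, hU.isClosed_compl, ?_⟩
    rw [V_eq_compl, compl_compl, ← hSU, compl_compl]
  · rintro ⟨C, hC, rfl⟩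
    exact isClosed_V hC

theorem toSob_mem_V {C : Set X} (hC : IsClosed C) {x : X} : toSob X x ∈ V C ↔ x ∈ C := by
  constructor
  · intro h
    exact h (subset_closure (mem_singleton x))
  · intro h
    exact closure_minimal (singleton_subset_iff.2 h) hC

instance quasiSober : QuasiSober (Sob X) := by
  refine ⟨fun {S} hS hSc => ?_⟩
  obtain ⟨C, hC, rfl⟩ := isClosed_iff.1 hSc
  have hCirr : IsIrreducible C := by
    refine ⟨?_, ?_⟩
    · obtain ⟨Z, hZ⟩ := hS.nonempty
      exact (car_irred Z).nonempty.mono hZ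
    · rw [isPreirreducible_iff_isClosed_union_isClosed]
      intro C₁ C₂ h1 h2 hsub
      have hsub' : V C ⊆ V C₁ ∪ V C₂ := by
        intro Z hZ
        have := (isPreirreducible_iff_isClosed_union_isClosed.1 (car_irred Z).isPreirreducible)
          C₁ C₂ h1 h2 (hZ.trans hsub)
        exact this
      have := (isPreirreducible_iff_isClosed_union_isClosed.1 hS.isPreirreducible)
        (V C₁) (V C₂) (isClosed_V h1) (isClosed_V h2) hsub'
      rcases this with h | h
      · left
        intro x hx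
        exact (toSob_mem_V h1).1 (h ((toSob_mem_V hC).2 hx))
      · right
        intro x hx
        exact (toSob_mem_V h2).1 (h ((toSob_mem_V hC).2 hx))
  let P : Sob X := (⟨C, hCirr, hC⟩ : IrreducibleCloseds X)
  have hP : car P = C := rfl
  refine ⟨P, ?_⟩
  show closure {P} = V C
  apply Subset.antisymm
  · refine closure_minimal ?_ (isClosed_V hC)
    rw [singleton_subset_iff]
    show car P ⊆ C
    rw [hP]
  · intro Z hZ
    rw [mem_closure_iff]
    intro o ho hZo
    obtain ⟨U, hU, rfl⟩ := isOpen_iff.1 ho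
    obtain ⟨z, hz, hzU⟩ := hZo
    exact ⟨P, ⟨z, hP ▸ hZ hz, hzU⟩, mem_singleton P⟩

section Universal

variable {Y : Type*} [TopologicalSpace Y] [QuasiSober Y]

/-- The extension of a continuous map to the soberification. -/
noncomputable def ext (f : X → Y) (hf : Continuous f) (Z : Sob X) : Y :=
  ((car_irred Z).image f hf.continuousOn).genericPoint

theorem isGenericPoint_ext (f : X → Y) (hf : Continuous f) (Z : Sob X) :
    IsGenericPoint (ext f hf Z) (closure (f '' car Z)) :=
  ((car_irred Z).image f hf.continuousOn).isGenericPoint_genericPoint_closure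

theorem ext_preimage (f : X → Y) (hf : Continuous f) {W : Set Y} (hW : IsOpen W) :
    ext f hf ⁻¹' W = D (f ⁻¹' W) := by
  ext Z
  rw [mem_preimage, (isGenericPoint_ext f hf Z).mem_open_set_iff hW,
    closure_inter_open_nonempty_iff hW, mem_D]
  constructor
  · rintro ⟨y, ⟨z, hz, rfl⟩, hy⟩
    exact ⟨z, hz, hy⟩
  · rintro ⟨z, hz, hzW⟩
    exact ⟨f z, ⟨z, hz, rfl⟩, hzW⟩

theorem continuous_ext (f : X → Y) (hf : Continuous f) : Continuous (ext f hf) := by
  refine ⟨fun W hW => ?_⟩
  rw [ext_preimage f hf hW]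
  exact isOpen_D (hW.preimage hf)

theorem ext_comp_toSob [T0Space Y] (f : X → Y) (hf : Continuous f) :
    ext f hf ∘ toSob X = f := by
  funext x
  have h1 := isGenericPoint_ext f hf (toSob X x)
  rw [car_toSob, closure_image_closure hf, image_singleton] at h1
  exact h1.eq isGenericPoint_closure

end Universal

section Compact

theorem isCompact_D_iff {U : Set X} (hU : IsOpen U) : IsCompact (D U) ↔ IsCompact U := by
  constructor
  · intro h
    rw [isCompact_iff_finite_subcover]
    intro ι W hW hUW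
    have h1 : D U ⊆ ⋃ i, D (W i) := by
      rw [← D_iUnion]
      exact D_mono hUW
    obtain ⟨t, ht⟩ := h.elim_finite_subcover (fun i => D (W i)) (fun i => isOpen_D (hW i)) h1
    refine ⟨t, fun x hx => ?_⟩
    have hx' : toSob X x ∈ D U := (toSob_mem_D hU).2 hx
    have := ht hx'
    simp only [mem_iUnion] at this ⊢
    obtain ⟨i, hi, hxi⟩ := this
    exact ⟨i, hi, (toSob_mem_D (hW i)).1 hxi⟩
  · intro h
    rw [isCompact_iff_finite_subcover]
    intro ι W hW hUW
    have hW' : ∀ i, ∃ U' : Set X, IsOpen U' ∧ W i = D U' := fun i => isOpen_iff.1 (hW i)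
    choose U' hU' hWU' using hW'
    have h1 : U ⊆ ⋃ i, U' i := by
      intro x hx
      have hx' : toSob X x ∈ D U := (toSob_mem_D hU).2 hx
      have := hUW hx'
      simp only [mem_iUnion] at this ⊢
      obtain ⟨i, hi⟩ := this
      rw [hWU' i] at hi
      exact ⟨i, (toSob_mem_D (hU' i)).1 hi⟩
    obtain ⟨t, ht⟩ := h.elim_finite_subcover U' hU' h1
    refine ⟨t, ?_⟩
    rintro Z ⟨z, hz, hzU⟩
    have := ht hzU
    simp only [mem_iUnion] at this ⊢
    obtain ⟨i, hi, hzi⟩ := this
    refine ⟨i, hi, ?_⟩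
    rw [hWU' i]
    exact ⟨z, hz, hzi⟩

theorem compactSpace [CompactSpace X] : CompactSpace (Sob X) := by
  refine ⟨?_⟩
  rw [← D_univ]
  exact (isCompact_D_iff isOpen_univ).2 isCompact_univ

theorem quasiSeparatedSpace [QuasiSeparatedSpace X] : QuasiSeparatedSpace (Sob X) := by
  refine ⟨fun U' V' hU' hU'c hV' hV'c => ?_⟩
  obtain ⟨U, hU, rfl⟩ := isOpen_iff.1 hU'
  obtain ⟨V, hV, rfl⟩ := isOpen_iff.1 hV'
  rw [D_inter hU hV, isCompact_D_iff (hU.inter hV)]
  exact QuasiSeparatedSpace.inter_isCompact U V hU ((isCompact_D_iff hU).1 hU'c) hV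
    ((isCompact_D_iff hV).1 hV'c)

theorem prespectralSpace [PrespectralSpace X] : PrespectralSpace (Sob X) := by
  refine ⟨TopologicalSpace.isTopologicalBasis_of_isOpen_of_nhds (fun u hu => hu.1) ?_⟩
  intro Z U' hZ hU'
  obtain ⟨U, hU, rfl⟩ := isOpen_iff.1 hU'
  obtain ⟨z, hz, hzU⟩ := hZ
  obtain ⟨W, ⟨hWo, hWc⟩, hzW, hWU⟩ :=
    (PrespectralSpace.isTopologicalBasis (X := X)).exists_subset_of_mem_open hzU hU
  exact ⟨D W, ⟨isOpen_D hWo, (isCompact_D_iff hWo).2 hWc⟩, ⟨z, hz, hzW⟩, D_mono hWU⟩

theorem spectralSpace [CompactSpace X] [PrespectralSpace X] [QuasiSeparatedSpace X] :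
    SpectralSpace (Sob X) :=
  { toT0Space := t0Space
    toCompactSpace := compactSpace
    toQuasiSober := quasiSober
    toQuasiSeparatedSpace := quasiSeparatedSpace
    toPrespectralSpace := prespectralSpace }

theorem noetherianSpace [NoetherianSpace X] : NoetherianSpace (Sob X) := by
  rw [noetherianSpace_iff_opens]
  intro s
  obtain ⟨U, hU, hs⟩ := isOpen_iff.1 s.2
  change IsCompact s.carrier
  rw [hs, isCompact_D_iff hU]
  exact NoetherianSpace.isCompact U

end Compact

end Groth.Agent.Helper11.SobLib
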