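import Mathlib

/-!
Connected components in quasi-compact prespectral quasi-separated spaces (helper11).
-/

namespace Groth.Agent.Helper11

open Topology Set TopologicalSpace

variable {X : Type*} [TopologicalSpace X]

/-- A compact set disjoint from the intersection of all clopen neighbourhoods of `x` is disjoint
from one clopen neighbourhood of `x`. -/
theorem exists_isClopen_disjoint_of_isCompact (x : X) (K : Set X) (hK : IsCompact K)
    (hKS : K ∩ ⋂₀ {Z : Set X | IsClopen Z ∧ x ∈ Z} = ∅) :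
    ∃ Z, IsClopen Z ∧ x ∈ Z ∧ K ∩ Z = ∅ := by
  have := hK.elim_finite_subfamily_closed
    (fun s : {Z : Set X // IsClopen Z ∧ x ∈ Z} => (s : Set X)) (fun s => s.2.1.1)
    (by rw [← hKS, sInter_eq_iInter]; rfl)
  obtain ⟨u, hu⟩ := this
  exact ⟨⋂ i ∈ u, (i : Set X), isClopen_biInter_finset fun s _ => s.2.1,
    mem_iInter₂.2 fun s _ => s.2.2, hu⟩

theorem isPreconnected_sInter_isClopen [CompactSpace X] [PrespectralSpace X]
    [QuasiSeparatedSpace X] (x : X) :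
    IsPreconnected (⋂₀ {Z : Set X | IsClopen Z ∧ x ∈ Z}) := by
  set S := ⋂₀ {Z : Set X | IsClopen Z ∧ x ∈ Z} with hS
  have hSc : IsClosed S := isClosed_sInter fun Z hZ => hZ.1.1
  have hxS : x ∈ S := mem_sInter.2 fun Z hZ => hZ.2
  rw [isPreconnected_iff_subset_of_fully_disjoint_closed hSc]
  intro a b ha hb hab hdisj
  have hBc : IsCompact (a ∩ S) := (ha.inter hSc).isCompact
  have hCc : IsCompact (b ∩ S) := (hb.inter hSc).isCompact
  have hBC : a ∩ S ⊆ (b ∩ S)ᶜ := fun y hy hy' => Set.disjoint_left.mp hdisj hy.1 hy'.1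
  have hCB : b ∩ S ⊆ (a ∩ S)ᶜ := fun y hy hy' => Set.disjoint_left.mp hdisj hy'.1 hy.1
  obtain ⟨U, hUc, hUo, hBU, hUC⟩ := PrespectralSpace.exists_isCompact_and_isOpen_between hBc
    (hb.inter hSc).isOpen_compl hBC
  obtain ⟨V, hVc, hVo, hCV, hVB⟩ := PrespectralSpace.exists_isCompact_and_isOpen_between hCc
    (ha.inter hSc).isOpen_compl hCB
  have h1 : (U ∩ V) ∩ S = ∅ := by
    rw [Set.eq_empty_iff_forall_notMem]
    rintro y ⟨⟨hyU, hyV⟩, hyS⟩
    rcases hab hyS with hya | hyb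
    · exact hVB hyV ⟨hya, hyS⟩
    · exact hUC hyU ⟨hyb, hyS⟩
  have h2 : (U ∪ V)ᶜ ∩ S = ∅ := by
    rw [Set.eq_empty_iff_forall_notMem]
    rintro y ⟨hyUV, hyS⟩
    rcases hab hyS with hya | hyb
    · exact hyUV (Or.inl (hBU ⟨hya, hyS⟩))
    · exact hyUV (Or.inr (hCV ⟨hyb, hyS⟩))
  obtain ⟨Z1, hZ1, hxZ1, hZ1'⟩ := exists_isClopen_disjoint_of_isCompact x (U ∩ V)
    (QuasiSeparatedSpace.inter_isCompact U V hUo hUc hVo hVc) h1
  obtain ⟨Z2, hZ2, hxZ2, hZ2'⟩ := exists_isClopen_disjoint_of_isCompact x (U ∪ V)ᶜ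
    (hUo.union hVo).isClosed_compl.isCompact h2
  have hZsub : Z1 ∩ Z2 ⊆ U ∪ V := by
    intro y hy
    by_contra hcon
    have : y ∈ (U ∪ V)ᶜ ∩ Z2 := ⟨hcon, hy.2⟩
    rw [hZ2'] at this
    exact this
  have hZUV : ∀ y, y ∈ Z1 → y ∈ U → y ∈ V → False := by
    intro y hy1 hyU hyV
    have : y ∈ (U ∩ V) ∩ Z1 := ⟨⟨hyU, hyV⟩, hy1⟩
    rw [hZ1'] at this
    exact this
  have hZU : IsClopen (Z1 ∩ Z2 ∩ U) := by
    refine ⟨?_, (hZ1.inter hZ2).2.inter hUo⟩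
    have : Z1 ∩ Z2 ∩ U = Z1 ∩ Z2 ∩ Vᶜ := by
      ext y
      constructor
      · rintro ⟨hy, hyU⟩
        exact ⟨hy, fun hyV => hZUV y hy.1 hyU hyV⟩
      · rintro ⟨hy, hyV⟩
        exact ⟨hy, (hZsub hy).resolve_right hyV⟩
    rw [this]
    exact (hZ1.inter hZ2).1.inter hVo.isClosed_compl
  have hZV : IsClopen (Z1 ∩ Z2 ∩ V) := by
    refine ⟨?_, (hZ1.inter hZ2).2.inter hVo⟩
    have : Z1 ∩ Z2 ∩ V = Z1 ∩ Z2 ∩ Uᶜ := by
      ext y
      constructor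
      · rintro ⟨hy, hyV⟩
        exact ⟨hy, fun hyU => hZUV y hy.1 hyU hyV⟩
      · rintro ⟨hy, hyU⟩
        exact ⟨hy, (hZsub hy).resolve_left hyU⟩
    rw [this]
    exact (hZ1.inter hZ2).1.inter hUo.isClosed_compl
  rcases hab hxS with hxa | hxb
  · left
    have hxU : x ∈ U := hBU ⟨hxa, hxS⟩
    have hSU : S ⊆ Z1 ∩ Z2 ∩ U := sInter_subset_of_mem ⟨hZU, ⟨⟨hxZ1, hxZ2⟩, hxU⟩⟩
    intro y hyS
    rcases hab hyS with hya | hyb
    · exact hya
    · exact absurd ⟨hyb, hyS⟩ (hUC (hSU hyS).2)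
  · right
    have hxV : x ∈ V := hCV ⟨hxb, hxS⟩
    have hSV : S ⊆ Z1 ∩ Z2 ∩ V := sInter_subset_of_mem ⟨hZV, ⟨⟨hxZ1, hxZ2⟩, hxV⟩⟩
    intro y hyS
    rcases hab hyS with hya | hyb
    · exact absurd ⟨hya, hyS⟩ (hVB (hSV hyS).2)
    · exact hyb

theorem connectedComponent_eq_sInter_isClopen [CompactSpace X] [PrespectralSpace X]
    [QuasiSeparatedSpace X] (x : X) :
    connectedComponent x = ⋂₀ {Z : Set X | IsClopen Z ∧ x ∈ Z} := by
  apply Subset.antisymm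
  · exact subset_sInter fun Z hZ => hZ.1.connectedComponent_subset hZ.2
  · exact (isPreconnected_sInter_isClopen x).subset_connectedComponent
      (mem_sInter.2 fun Z hZ => hZ.2)

end Groth.Agent.Helper11
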