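/-
Spec(R') ⊔ Spec(R_f) → Spec(R) is surjective when R/f ≅ R'/f (helper11).
-/
import Mathlib.RingTheory.Spectrum.Prime.RingHom
import Mathlib.RingTheory.Spectrum.Prime.Topology
import Mathlib.RingTheory.Localization.Away.Basic
import Mathlib.RingTheory.Ideal.Quotient.Operations

set_option autoImplicit false

namespace Groth.Agent.Helper11

universe u

theorem primeSpectrum_comap_jointly_surjective {R R' : Type u} [CommRing R] [CommRing R']
    [Algebra R R'] (f : R)
    (hq : Function.Bijective
      (Ideal.quotientMap (Ideal.map (algebraMap R R') (Ideal.span {f})) (algebraMap R R')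
        Ideal.le_comap_map))
    (p : PrimeSpectrum R) :
    (∃ q : PrimeSpectrum R', PrimeSpectrum.comap (algebraMap R R') q = p) ∨
      ∃ q : PrimeSpectrum (Localization.Away f),
        PrimeSpectrum.comap (algebraMap R (Localization.Away f)) q = p := by
  by_cases hf : f ∈ p.asIdeal
  · left
    set J : Ideal R := Ideal.span {f} with hJ
    set J' : Ideal R' := Ideal.map (algebraMap R R') J with hJ'
    have hJp : J ≤ p.asIdeal := by
      rw [hJ, Ideal.span_le, Set.singleton_subset_iff]
      exact hf
    let φ : R ⧸ J →+* R' ⧸ J' := Ideal.quotientMap J' (algebraMap R R') Ideal.le_comap_map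
    let e : R ⧸ J ≃+* R' ⧸ J' := RingEquiv.ofBijective φ hq
    have hprime : (Ideal.map (Ideal.Quotient.mk J) p.asIdeal).IsPrime :=
      Ideal.map_isPrime_of_surjective Ideal.Quotient.mk_surjective (by
        rw [Ideal.mk_ker]
        exact hJp)
    let qb : Ideal (R' ⧸ J') := Ideal.comap (e.symm : R' ⧸ J' →+* R ⧸ J)
      (Ideal.map (Ideal.Quotient.mk J) p.asIdeal)
    have hqb : qb.IsPrime := Ideal.comap_isPrime _ _
    refine ⟨⟨Ideal.comap (Ideal.Quotient.mk J') qb, Ideal.comap_isPrime _ _⟩, ?_⟩
    ext x
    simp only [PrimeSpectrum.comap_asIdeal, Ideal.mem_comap, qb, RingEquiv.coe_toRingHom]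
    have h1 : Ideal.Quotient.mk J' (algebraMap R R' x) = e (Ideal.Quotient.mk J x) := by
      simp only [e, RingEquiv.ofBijective_apply, φ, Ideal.quotientMap_mk]
    rw [h1, RingEquiv.symm_apply_apply]
    constructor
    · intro hx
      have h2 : x ∈ Ideal.comap (Ideal.Quotient.mk J) (Ideal.map (Ideal.Quotient.mk J) p.asIdeal) :=
        hx
      rw [Ideal.comap_map_of_surjective _ Ideal.Quotient.mk_surjective, ← RingHom.ker_eq_comap_bot,
        Ideal.mk_ker, sup_eq_left.mpr hJp] at h2
      exact h2
    · intro hx
      exact Ideal.mem_map_of_mem _ hx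
  · right
    have h1 : p ∈ Set.range (PrimeSpectrum.comap (algebraMap R (Localization.Away f))) := by
      rw [PrimeSpectrum.localization_away_comap_range (Localization.Away f) f]
      exact hf
    exact h1

end Groth.Agent.Helper11
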