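import Mathlib

/-!
Spectral spaces: the constructible topology (helper11).
-/

namespace Groth.Agent.Helper11

open Topology Set TopologicalSpace

variable {X : Type*} [TopologicalSpace X]

/-- The constructible topology is finer than the original one in a prespectral space. -/
theorem constructibleTopology_le [PrespectralSpace X] :
    constructibleTopology X ≤ (inferInstance : TopologicalSpace X) := by
  intro U hU
  have hU' : IsOpen U := hU
  rw [PrespectralSpace.isTopologicalBasis.isOpen_iff] at hU'
  have : U = ⋃₀ {V : Set X | (IsOpen V ∧ IsCompact V) ∧ V ⊆ U} := by
    apply Subset.antisymm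
    · intro x hx
      obtain ⟨V, hV, hxV, hVU⟩ := hU' x hx
      exact ⟨V, ⟨hV, hVU⟩, hxV⟩
    · rintro x ⟨V, ⟨_, hVU⟩, hxV⟩
      exact hVU hxV
  rw [this]
  refine @isOpen_sUnion X (constructibleTopology X) _ (fun V hV => ?_)
  obtain ⟨⟨hV1, hV2⟩, _⟩ := hV
  exact hV2.isOpen_constructibleTopology_of_isOpen hV1

theorem isOpen_constructibleTopology_of_isOpen [PrespectralSpace X] {U : Set X} (hU : IsOpen U) :
    IsOpen[constructibleTopology X] U :=
  constructibleTopology_le U hU

theorem isClosed_constructibleTopology_of_isClosed [PrespectralSpace X] {E : Set X}
    (hE : IsClosed E) : IsClosed[constructibleTopology X] E := by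
  rw [← @isOpen_compl_iff X _ (constructibleTopology X)]
  exact isOpen_constructibleTopology_of_isOpen hE.isOpen_compl

theorem isClosed_constructibleTopology_of_isOpen_isCompact {U : Set X} (hU : IsOpen U)
    (hc : IsCompact U) : IsClosed[constructibleTopology X] U := by
  rw [← @isOpen_compl_iff X _ (constructibleTopology X)]
  exact IsCompact.isOpen_constructibleTopology_of_isClosed (by simpa using hc) hU.isClosed_compl

/-- The constructible topology on a spectral space is compact. -/
theorem compactSpace_constructibleTopology [CompactSpace X] [QuasiSober X]
    [PrespectralSpace X] [QuasiSeparatedSpace X] : @CompactSpace X (constructibleTopology X) := by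
  have h : CompactSpace (WithConstructibleTopology X) := inferInstance
  exact @Function.Surjective.compactSpace (WithConstructibleTopology X) X _
    (constructibleTopology X) WithTopology.ofTopology
    (WithTopology.continuous_ofTopology _) h (WithTopology.ofTopology_surjective _)

/-- A constructibly closed subset of a spectral space is compact for the constructible topology. -/
theorem isCompact_constructibleTopology_of_isClosed [CompactSpace X] [QuasiSober X]
    [PrespectralSpace X] [QuasiSeparatedSpace X] {E : Set X}
    (hE : IsClosed[constructibleTopology X] E) : @IsCompact X (constructibleTopology X) E := by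
  have := compactSpace_constructibleTopology (X := X)
  exact @IsClosed.isCompact X (constructibleTopology X) E this hE

/-- A set compact for the constructible topology is compact. -/
theorem isCompact_of_isCompact_constructibleTopology [PrespectralSpace X] {E : Set X}
    (hE : @IsCompact X (constructibleTopology X) E) : IsCompact E := by
  have hcont : @Continuous X X (constructibleTopology X) _ id :=
    continuous_id_of_le constructibleTopology_le
  simpa using @IsCompact.image X X (constructibleTopology X) _ E id hE hcont

/-- A constructibly closed subset of a spectral space is compact. -/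
theorem isCompact_of_isClosed_constructibleTopology [CompactSpace X] [QuasiSober X]
    [PrespectralSpace X] [QuasiSeparatedSpace X] {E : Set X}
    (hE : IsClosed[constructibleTopology X] E) : IsCompact E :=
  isCompact_of_isCompact_constructibleTopology (isCompact_constructibleTopology_of_isClosed hE)

/-- Finite intersection property for constructibly closed sets. -/
theorem nonempty_iInter_of_isClosed_constructibleTopology [CompactSpace X] [QuasiSober X]
    [PrespectralSpace X] [QuasiSeparatedSpace X] {ι : Type*} (t : ι → Set X)
    (htc : ∀ i, IsClosed[constructibleTopology X] (t i))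
    (hfin : ∀ u : Finset ι, (⋂ i ∈ u, t i).Nonempty) : (⋂ i, t i).Nonempty := by
  have := compactSpace_constructibleTopology (X := X)
  have := @IsCompact.inter_iInter_nonempty X (constructibleTopology X) univ ι
    (@isCompact_univ X (constructibleTopology X) this) t htc (by simpa using hfin)
  simpa using this

/-- Every point of the closure of a constructibly closed set is a specialization of a point of
the set. -/
theorem exists_specializes_of_mem_closure [CompactSpace X] [QuasiSober X]
    [PrespectralSpace X] [QuasiSeparatedSpace X] {E : Set X}
    (hE : IsClosed[constructibleTopology X] E) {x : X} (hx : x ∈ closure E) :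
    ∃ e ∈ E, e ⤳ x := by
  let ι := Option {U : Set X // IsOpen U ∧ IsCompact U ∧ x ∈ U}
  let t : ι → Set X := fun i => match i with
    | none => E
    | some U => U.1
  have htc : ∀ i, IsClosed[constructibleTopology X] (t i) := by
    intro i
    match i with
    | none => exact hE
    | some U => exact isClosed_constructibleTopology_of_isOpen_isCompact U.2.1 U.2.2.1
  have hfin : ∀ u : Finset ι, (⋂ i ∈ u, t i).Nonempty := by
    intro u
    have hopen : IsOpen (⋂ i ∈ u, ⋂ (U) (_ : i = some U), (U : Set X)) := by
      refine isOpen_biInter_finset fun i _ => ?_
      match i with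
      | none => simp
      | some V =>
        have : (⋂ (U : {U : Set X // IsOpen U ∧ IsCompact U ∧ x ∈ U}) (_ : some V = some U),
            (U : Set X)) = V := by
          ext y
          simp
        rw [this]
        exact V.2.1
    have hxmem : x ∈ ⋂ i ∈ u, ⋂ (U) (_ : i = some U), (U : Set X) := by
      simp only [mem_iInter]
      intro i _ U _
      exact U.2.2.2
    obtain ⟨y, hy1, hy2⟩ := mem_closure_iff.mp hx _ hopen hxmem
    refine ⟨y, ?_⟩
    simp only [mem_iInter]
    intro i hi
    match i with
    | none => exact hy2
    | some V =>
      simp only [mem_iInter] at hy1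
      exact hy1 (some V) hi V rfl
  obtain ⟨e, he⟩ := nonempty_iInter_of_isClosed_constructibleTopology t htc hfin
  simp only [mem_iInter] at he
  refine ⟨e, he none, ?_⟩
  rw [specializes_iff_forall_open]
  intro V hV hxV
  obtain ⟨U, hU, hxU, hUV⟩ := PrespectralSpace.isTopologicalBasis.exists_subset_of_mem_open hxV hV
  exact hUV (he (some ⟨U, hU.1, hU.2, hxU⟩))

theorem isClosed_of_isClosed_constructibleTopology_of_stableUnderSpecialization [CompactSpace X]
    [QuasiSober X] [PrespectralSpace X] [QuasiSeparatedSpace X] {E : Set X}
    (hE : IsClosed[constructibleTopology X] E) (hs : StableUnderSpecialization E) : IsClosed E := by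
  rw [← closure_subset_iff_isClosed]
  intro x hx
  obtain ⟨e, he, hex⟩ := exists_specializes_of_mem_closure hE hx
  exact hs hex he

theorem isOpen_of_isOpen_constructibleTopology_of_stableUnderGeneralization [CompactSpace X]
    [QuasiSober X] [PrespectralSpace X] [QuasiSeparatedSpace X] {E : Set X}
    (hE : IsOpen[constructibleTopology X] E) (hs : StableUnderGeneralization E) : IsOpen E := by
  rw [← isClosed_compl_iff]
  apply isClosed_of_isClosed_constructibleTopology_of_stableUnderSpecialization
  · rw [@isClosed_compl_iff X (constructibleTopology X)]
    exact hE
  · exact hs.compl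

/-- The constructible topology of a `T0` prespectral space is Hausdorff. -/
theorem t2Space_constructibleTopology [T0Space X] [PrespectralSpace X] :
    @T2Space X (constructibleTopology X) := by
  refine @T2Space.mk X (constructibleTopology X) ?_
  intro x y hxy
  obtain ⟨U, hU, hxyU⟩ := exists_isOpen_xor_mem hxy
  rcases hxyU with ⟨hxU, hyU⟩ | ⟨hyU, hxU⟩
  · obtain ⟨V, hV, hxV, hVU⟩ := PrespectralSpace.isTopologicalBasis.exists_subset_of_mem_open hxU hU
    refine ⟨V, Vᶜ, hV.2.isOpen_constructibleTopology_of_isOpen hV.1, ?_, hxV,
      fun h => hyU (hVU h), disjoint_compl_right⟩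
    rw [@isOpen_compl_iff X _ (constructibleTopology X)]
    exact isClosed_constructibleTopology_of_isOpen_isCompact hV.1 hV.2
  · obtain ⟨V, hV, hyV, hVU⟩ := PrespectralSpace.isTopologicalBasis.exists_subset_of_mem_open hyU hU
    refine ⟨Vᶜ, V, ?_, hV.2.isOpen_constructibleTopology_of_isOpen hV.1,
      fun h => hxU (hVU h), hyV, disjoint_compl_left⟩
    rw [@isOpen_compl_iff X _ (constructibleTopology X)]
    exact isClosed_constructibleTopology_of_isOpen_isCompact hV.1 hV.2

/-- A spectral map is continuous for the constructible topologies. -/
theorem continuous_constructibleTopology_of_isSpectralMap {Y : Type*} [TopologicalSpace Y]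
    {f : X → Y} (hf : IsSpectralMap f) :
    @Continuous X Y (constructibleTopology X) (constructibleTopology Y) f := by
  refine continuous_generateFrom_iff.mpr ?_
  rintro s (⟨hs1, hs2⟩ | ⟨hs1, hs2⟩)
  · exact (hs2.preimage_of_isOpen hf hs1).isOpen_constructibleTopology_of_isOpen
      (hs1.preimage hf.continuous)
  · refine IsCompact.isOpen_constructibleTopology_of_isClosed ?_ (hs1.preimage hf.continuous)
    rw [← preimage_compl]
    exact hs2.preimage_of_isOpen hf hs1.isOpen_compl

/-- A continuous map of spectral spaces which is continuous for the constructible topologies is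
spectral. -/
theorem isSpectralMap_of_continuous_constructibleTopology {Y : Type*} [TopologicalSpace Y]
    [CompactSpace X] [QuasiSober X] [PrespectralSpace X] [QuasiSeparatedSpace X]
    {f : X → Y} (hf : Continuous f)
    (hfc : @Continuous X Y (constructibleTopology X) (constructibleTopology Y) f) :
    IsSpectralMap f := by
  refine ⟨hf, fun s hs hsc => ?_⟩
  apply isCompact_of_isClosed_constructibleTopology
  exact @IsClosed.preimage X Y (constructibleTopology X) (constructibleTopology Y) f hfc s
    (isClosed_constructibleTopology_of_isOpen_isCompact hs hsc)

/-- The image of a constructibly closed set under a spectral map of spectral spaces is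
constructibly closed. -/
theorem isClosed_constructibleTopology_image {Y : Type*} [TopologicalSpace Y]
    [CompactSpace X] [QuasiSober X] [PrespectralSpace X] [QuasiSeparatedSpace X]
    [T0Space Y] [PrespectralSpace Y]
    {f : X → Y} (hf : IsSpectralMap f) {E : Set X} (hE : IsClosed[constructibleTopology X] E) :
    IsClosed[constructibleTopology Y] (f '' E) := by
  have h1 := isCompact_constructibleTopology_of_isClosed hE
  have h2 := @IsCompact.image X Y (constructibleTopology X) (constructibleTopology Y) E f h1
    (continuous_constructibleTopology_of_isSpectralMap hf)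
  have := t2Space_constructibleTopology (X := Y)
  exact @IsCompact.isClosed Y (constructibleTopology Y) this (f '' E) h2

/-- The inclusion of a constructibly closed subset of a spectral space is a spectral map. -/
theorem isSpectralMap_subtype_val_of_isClosed_constructibleTopology [CompactSpace X] [QuasiSober X]
    [PrespectralSpace X] [QuasiSeparatedSpace X] {E : Set X}
    (hE : IsClosed[constructibleTopology X] E) : IsSpectralMap (Subtype.val : E → X) := by
  refine ⟨continuous_subtype_val, fun U hU hUc => ?_⟩
  rw [← Set.preimage_inter_range]
  rw [IsInducing.subtypeVal.isCompact_preimage_iff Set.inter_subset_right]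
  apply isCompact_of_isClosed_constructibleTopology
  rw [Subtype.range_coe]
  exact @IsClosed.inter X U E (constructibleTopology X)
    (isClosed_constructibleTopology_of_isOpen_isCompact hU hUc) hE

/-- A constructibly closed subset of a spectral space is a spectral space. -/
theorem spectralSpace_of_isClosed_constructibleTopology [SpectralSpace X] {E : Set X}
    (hE : IsClosed[constructibleTopology X] E) : SpectralSpace E := by
  have hsp := isSpectralMap_subtype_val_of_isClosed_constructibleTopology hE
  have hind : IsInducing (Subtype.val : E → X) := IsInducing.subtypeVal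
  have h2 : CompactSpace E := isCompact_iff_compactSpace.mp (isCompact_of_isClosed_constructibleTopology hE)
  have h3 : PrespectralSpace E := PrespectralSpace.of_isInducing _ hind hsp
  have h4 : QuasiSeparatedSpace E := by
    let b : {U : Set X // IsOpen U ∧ IsCompact U} → Set E := fun U => Subtype.val ⁻¹' U.1
    have hb : IsTopologicalBasis (range b) := by
      have := PrespectralSpace.isTopologicalBasis.isInducing hind
      convert this using 1
      ext V
      simp [b]
    refine QuasiSeparatedSpace.of_isTopologicalBasis hb (fun U V => ?_)
    have : b U ∩ b V = Subtype.val ⁻¹' (U.1 ∩ V.1) := rfl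
    rw [this]
    exact hsp.isCompact_preimage_of_isOpen (U.2.1.inter V.2.1)
      (QuasiSeparatedSpace.inter_isCompact U.1 V.1 U.2.1 U.2.2 V.2.1 V.2.2)
  have h5 : QuasiSober E := by
    refine ⟨fun {S} hS hSc => ?_⟩
    obtain ⟨Z, hZ, rfl⟩ := isClosed_induced_iff.mp hSc
    have himg : Subtype.val '' (Subtype.val ⁻¹' Z : Set E) = Z ∩ E := by
      rw [Subtype.image_preimage_coe, inter_comm]
    have hirr : IsIrreducible (Z ∩ E) := by
      rw [← himg]
      exact hS.image _ continuous_subtype_val.continuousOn
    have hcl : IsClosed[constructibleTopology X] (Z ∩ E) :=
      @IsClosed.inter X Z E (constructibleTopology X)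
        (isClosed_constructibleTopology_of_isClosed hZ) hE
    obtain ⟨η, hη⟩ := QuasiSober.sober hirr.closure isClosed_closure
    obtain ⟨e, he, heη⟩ := exists_specializes_of_mem_closure hcl hη.mem
    have : e = η := (heη.antisymm (hη.specializes (subset_closure he))).eq
    subst this
    refine ⟨⟨e, he.2⟩, ?_⟩
    rw [isGenericPoint_def]
    apply Subset.antisymm
    · exact closure_minimal (by simpa using he.1) hSc
    · intro y hy
      rw [hind.closure_eq_preimage_closure_image, image_singleton, mem_preimage, hη.def]
      exact subset_closure ⟨hy, y.2⟩
  exact { toT0Space := inferInstance, toCompactSpace := h2, toQuasiSober := h5,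
          toQuasiSeparatedSpace := h4, toPrespectralSpace := h3 }

/-- A constructible subset of a compact space is clopen in the constructible topology. -/
theorem isClopen_constructibleTopology_of_isConstructible [CompactSpace X] {E : Set X}
    (hE : IsConstructible E) :
    IsClosed[constructibleTopology X] E ∧ IsOpen[constructibleTopology X] E := by
  induction hE using IsConstructible.empty_union_induction with
  | open_retrocompact U hUopen hUcomp =>
    exact ⟨isClosed_constructibleTopology_of_isOpen_isCompact hUopen hUcomp.isCompact,
      hUcomp.isCompact.isOpen_constructibleTopology_of_isOpen hUopen⟩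
  | union s hs t ht hs' ht' =>
    exact ⟨@IsClosed.union X s t (constructibleTopology X) hs'.1 ht'.1,
      @IsOpen.union X s t (constructibleTopology X) hs'.2 ht'.2⟩
  | compl s hs hs' =>
    exact ⟨(@isClosed_compl_iff X (constructibleTopology X) s).mpr hs'.2,
      (@isOpen_compl_iff X s (constructibleTopology X)).mpr hs'.1⟩

/-- The set of generalizations of points of a compact set is the intersection of the
compact opens containing it. -/
theorem setOf_specializes_eq_sInter [PrespectralSpace X] {E : Set X} (hE : IsCompact E) :
    {x | ∃ e ∈ E, x ⤳ e} = ⋂₀ {U : Set X | IsOpen U ∧ IsCompact U ∧ E ⊆ U} := by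
  apply Subset.antisymm
  · rintro x ⟨e, he, hxe⟩ U ⟨hU, -, hEU⟩
    exact hxe.mem_open hU (hEU he)
  · intro x hx
    by_contra hcon
    have hsub : E ⊆ (closure {x})ᶜ := by
      intro e he hmem
      exact hcon ⟨e, he, specializes_iff_mem_closure.mpr hmem⟩
    obtain ⟨W, hWc, hWo, hEW, hWU⟩ :=
      PrespectralSpace.exists_isCompact_and_isOpen_between hE isClosed_closure.isOpen_compl hsub
    exact hWU (hx W ⟨hWo, hWc, hEW⟩) (subset_closure rfl)

theorem isClosed_constructibleTopology_setOf_specializes [PrespectralSpace X] {E : Set X}
    (hE : IsCompact E) : IsClosed[constructibleTopology X] {x | ∃ e ∈ E, x ⤳ e} := by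
  rw [setOf_specializes_eq_sInter hE]
  refine @isClosed_sInter X (constructibleTopology X) _ ?_
  rintro U ⟨hU, hUc, -⟩
  exact isClosed_constructibleTopology_of_isOpen_isCompact hU hUc

end Groth.Agent.Helper11
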