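import Mathlib
import Groth.Agent.Lib.Helper11.Spectral

/-!
Spectral spaces: finite spaces, products, embeddings with constructibly closed range (helper11).
-/

namespace Groth.Agent.Helper11

open Topology Set TopologicalSpace

section general

variable {X Y : Type*} [TopologicalSpace X] [TopologicalSpace Y]

/-- A continuous map is spectral as soon as preimages of the members of a basis of compact opens
are compact. -/
theorem isSpectralMap_of_isTopologicalBasis {ι : Type*} {b : ι → Set Y}
    (hb : IsTopologicalBasis (range b)) (hbc : ∀ i, IsCompact (b i)) {f : X → Y}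
    (hf : Continuous f) (h : ∀ i, IsCompact (f ⁻¹' b i)) : IsSpectralMap f := by
  refine ⟨hf, fun U hU hUc => ?_⟩
  obtain ⟨s, hs, rfl⟩ :=
    (isCompact_open_iff_eq_finite_iUnion_of_isTopologicalBasis b hb hbc U).1 ⟨hUc, hU⟩
  rw [preimage_iUnion₂]
  exact hs.isCompact_biUnion fun i _ => h i

/-- A finite sober `T0` space is spectral. -/
theorem spectralSpace_of_finite [Finite X] [T0Space X] [QuasiSober X] : SpectralSpace X :=
  { toT0Space := inferInstance
    toCompactSpace := inferInstance
    toQuasiSober := inferInstance
    toQuasiSeparatedSpace := ⟨fun U V _ _ _ _ => (toFinite (U ∩ V)).isCompact⟩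
    toPrespectralSpace := PrespectralSpace.of_isTopologicalBasis isTopologicalBasis_opens
      fun U _ => (toFinite U).isCompact }

/-- Any continuous map from a finite space is spectral. -/
theorem isSpectralMap_of_finite [Finite X] {f : X → Y} (hf : Continuous f) : IsSpectralMap f :=
  ⟨hf, fun U _ _ => (toFinite (f ⁻¹' U)).isCompact⟩

/-- A space which embeds into a spectral space with constructibly closed range is spectral,
and the embedding is a spectral map. -/
theorem spectralSpace_of_isEmbedding [SpectralSpace Y] {f : X → Y} (hf : IsEmbedding f)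
    (hr : IsClosed[constructibleTopology Y] (range f)) : SpectralSpace X ∧ IsSpectralMap f := by
  have h1 : SpectralSpace (range f) := spectralSpace_of_isClosed_constructibleTopology hr
  let e : X ≃ₜ range f := hf.toHomeomorph
  have h2 : CompactSpace X := e.symm.compactSpace
  refine ⟨e.isOpenEmbedding.spectralSpace, ?_⟩
  have h3 : IsSpectralMap e := e.isHomeomorph.isProperMap.isSpectralMap
  have h4 := (isSpectralMap_subtype_val_of_isClosed_constructibleTopology hr).comp h3
  exact h4

/-- Transport of spectrality along a homeomorphism. -/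
theorem spectralSpace_of_homeomorph [SpectralSpace Y] (e : X ≃ₜ Y) : SpectralSpace X := by
  have h2 : CompactSpace X := e.symm.compactSpace
  exact e.isOpenEmbedding.spectralSpace

end general

section pi

variable {ι : Type*} {X : ι → Type*} [∀ i, TopologicalSpace (X i)]

theorem quasiSober_pi [∀ i, QuasiSober (X i)] : QuasiSober (∀ i, X i) := by
  refine ⟨fun {S} hS hSc => ?_⟩
  have hirr : ∀ i, IsIrreducible (closure (Function.eval i '' S)) := fun i =>
    (hS.image _ (continuous_apply i).continuousOn).closure
  choose ξ hξ using fun i => QuasiSober.sober (hirr i) isClosed_closure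
  refine ⟨ξ, ?_⟩
  rw [isGenericPoint_def]
  apply Subset.antisymm
  · apply closure_minimal _ hSc
    rw [singleton_subset_iff, ← hSc.closure_eq, mem_closure_iff]
    intro o ho hξo
    obtain ⟨I, u, hu, hsub⟩ := isOpen_pi_iff.mp ho ξ hξo
    classical
    have := isIrreducible_iff_sInter.mp hS (I.image fun i => Function.eval i ⁻¹' u i) ?_ ?_
    · obtain ⟨z, hzS, hz⟩ := this
      refine ⟨z, hsub ?_, hzS⟩
      intro i hi
      simp only [Finset.coe_image, sInter_image, mem_iInter] at hz
      exact hz i hi
    · intro v hv
      obtain ⟨i, hi, rfl⟩ := Finset.mem_image.mp hv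
      exact (hu i hi).1.preimage (continuous_apply i)
    · intro v hv
      obtain ⟨i, hi, rfl⟩ := Finset.mem_image.mp hv
      have h1 := ((hξ i).mem_open_set_iff (hu i hi).1).mp (hu i hi).2
      rw [closure_inter_open_nonempty_iff (hu i hi).1] at h1
      obtain ⟨_, ⟨z, hz, rfl⟩, hzu⟩ := h1
      exact ⟨z, hz, hzu⟩
  · intro z hz
    rw [← specializes_iff_mem_closure, specializes_pi]
    intro i
    exact (hξ i).specializes (subset_closure ⟨z, hz, rfl⟩)

open Classical in
theorem isCompact_finset_pi [∀ i, CompactSpace (X i)] (I : Finset ι) (u : ∀ i, Set (X i))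
    (hu : ∀ i ∈ I, IsCompact (u i)) : IsCompact ((I : Set ι).pi u) := by
  have : (I : Set ι).pi u = univ.pi (fun i => if i ∈ I then u i else univ) := by
    ext x
    simp only [mem_pi, Finset.mem_coe, mem_univ, forall_true_left]
    refine forall_congr' fun i => ?_
    split_ifs with h <;> simp [h]
  rw [this]
  refine isCompact_univ_pi fun i => ?_
  split_ifs with h
  · exact hu i h
  · exact isCompact_univ

theorem isSpectralMap_eval [∀ i, CompactSpace (X i)] (i : ι) :
    IsSpectralMap (Function.eval i : (∀ i, X i) → X i) := by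
  refine ⟨continuous_apply i, fun U _ hUc => ?_⟩
  classical
  have h2 := isCompact_finset_pi (X := X) {i} (Function.update (fun j => (univ : Set (X j))) i U)
    (by simp [hUc])
  convert h2 using 1
  ext x
  simp

theorem prespectralSpace_pi [∀ i, CompactSpace (X i)] [∀ i, PrespectralSpace (X i)] :
    PrespectralSpace (∀ i, X i) := by
  refine PrespectralSpace.of_isTopologicalBasis
    (isTopologicalBasis_pi fun i => PrespectralSpace.isTopologicalBasis (X := X i)) ?_
  rintro _ ⟨U, I, hU, rfl⟩
  exact isCompact_finset_pi I U fun i hi => (hU i hi).2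

theorem quasiSeparatedSpace_pi [∀ i, CompactSpace (X i)] [∀ i, PrespectralSpace (X i)]
    [∀ i, QuasiSeparatedSpace (X i)] : QuasiSeparatedSpace (∀ i, X i) := by
  classical
  let b : {p : (∀ i, Set (X i)) × Finset ι // ∀ i ∈ p.2, IsOpen (p.1 i) ∧ IsCompact (p.1 i)} →
      Set (∀ i, X i) := fun p => (p.1.2 : Set ι).pi p.1.1
  have hb : IsTopologicalBasis (range b) := by
    convert isTopologicalBasis_pi fun i => PrespectralSpace.isTopologicalBasis (X := X i) using 1
    ext S
    constructor
    · rintro ⟨⟨⟨U, I⟩, hp⟩, rfl⟩
      exact ⟨U, I, hp, rfl⟩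
    · rintro ⟨U, I, hU, rfl⟩
      exact ⟨⟨⟨U, I⟩, hU⟩, rfl⟩
  refine QuasiSeparatedSpace.of_isTopologicalBasis hb ?_
  rintro ⟨⟨U, I⟩, hp⟩ ⟨⟨U', I'⟩, hp'⟩
  have : b ⟨⟨U, I⟩, hp⟩ ∩ b ⟨⟨U', I'⟩, hp'⟩ =
      ((I ∪ I' : Finset ι) : Set ι).pi
        (fun i => (if i ∈ I then U i else univ) ∩ (if i ∈ I' then U' i else univ)) := by
    ext x
    simp only [b, mem_inter_iff, mem_pi, Finset.mem_coe, Finset.mem_union]
    constructor
    · rintro ⟨h1, h2⟩ i hi
      constructor
      · split_ifs with h
        · exact h1 i h
        · trivial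
      · split_ifs with h
        · exact h2 i h
        · trivial
    · intro h
      constructor
      · intro i hi
        have := (h i (Or.inl hi)).1
        rwa [if_pos hi] at this
      · intro i hi
        have := (h i (Or.inr hi)).2
        rwa [if_pos hi] at this
  rw [this]
  refine isCompact_finset_pi _ _ fun i _ => ?_
  split_ifs with h1 h2 h2
  · exact QuasiSeparatedSpace.inter_isCompact _ _ (hp i h1).1 (hp i h1).2 (hp' i h2).1 (hp' i h2).2
  · simpa using (hp i h1).2
  · simpa using (hp' i h2).2
  · simpa using isCompact_univ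

/-- An arbitrary product of spectral spaces is spectral. -/
theorem spectralSpace_pi [∀ i, SpectralSpace (X i)] : SpectralSpace (∀ i, X i) :=
  { toT0Space := inferInstance
    toCompactSpace := inferInstance
    toQuasiSober := quasiSober_pi
    toQuasiSeparatedSpace := quasiSeparatedSpace_pi
    toPrespectralSpace := prespectralSpace_pi }

end pi

section prod

variable {X Y : Type*} [TopologicalSpace X] [TopologicalSpace Y]

theorem quasiSober_prod [QuasiSober X] [QuasiSober Y] : QuasiSober (X × Y) := by
  refine ⟨fun {S} hS hSc => ?_⟩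
  have h1 : IsIrreducible (closure (Prod.fst '' S)) :=
    (hS.image _ continuous_fst.continuousOn).closure
  have h2 : IsIrreducible (closure (Prod.snd '' S)) :=
    (hS.image _ continuous_snd.continuousOn).closure
  obtain ⟨ξ, hξ⟩ := QuasiSober.sober h1 isClosed_closure
  obtain ⟨η, hη⟩ := QuasiSober.sober h2 isClosed_closure
  refine ⟨(ξ, η), ?_⟩
  rw [isGenericPoint_def]
  apply Subset.antisymm
  · apply closure_minimal _ hSc
    rw [singleton_subset_iff, ← hSc.closure_eq, mem_closure_iff]
    intro o ho hξo
    obtain ⟨u, v, hu, hv, hξu, hηv, hsub⟩ := isOpen_prod_iff.mp ho ξ η hξo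
    have hA : (S ∩ Prod.fst ⁻¹' u).Nonempty := by
      have h := (hξ.mem_open_set_iff hu).mp hξu
      rw [closure_inter_open_nonempty_iff hu] at h
      obtain ⟨_, ⟨z, hz, rfl⟩, hzu⟩ := h
      exact ⟨z, hz, hzu⟩
    have hB : (S ∩ Prod.snd ⁻¹' v).Nonempty := by
      have h := (hη.mem_open_set_iff hv).mp hηv
      rw [closure_inter_open_nonempty_iff hv] at h
      obtain ⟨_, ⟨z, hz, rfl⟩, hzu⟩ := h
      exact ⟨z, hz, hzu⟩
    obtain ⟨z, hzS, hzu, hzv⟩ :=
      hS.2 _ _ (hu.preimage continuous_fst) (hv.preimage continuous_snd) hA hB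
    exact ⟨z, hsub ⟨hzu, hzv⟩, hzS⟩
  · intro z hz
    rw [← specializes_iff_mem_closure]
    have : (ξ, η) ⤳ (z.1, z.2) := by
      rw [specializes_prod]
      exact ⟨hξ.specializes (subset_closure ⟨z, hz, rfl⟩),
        hη.specializes (subset_closure ⟨z, hz, rfl⟩)⟩
    exact this

theorem prespectralSpace_prod [PrespectralSpace X] [PrespectralSpace Y] :
    PrespectralSpace (X × Y) := by
  refine PrespectralSpace.of_isTopologicalBasis
    ((PrespectralSpace.isTopologicalBasis (X := X)).prod
      (PrespectralSpace.isTopologicalBasis (X := Y))) ?_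
  rintro _ ⟨U, hU, V, hV, rfl⟩
  exact hU.2.prod hV.2

theorem quasiSeparatedSpace_prod [PrespectralSpace X] [PrespectralSpace Y]
    [QuasiSeparatedSpace X] [QuasiSeparatedSpace Y] : QuasiSeparatedSpace (X × Y) := by
  let b : {U : Set X // IsOpen U ∧ IsCompact U} × {V : Set Y // IsOpen V ∧ IsCompact V} →
      Set (X × Y) := fun p => p.1.1 ×ˢ p.2.1
  have hb : IsTopologicalBasis (range b) := by
    convert (PrespectralSpace.isTopologicalBasis (X := X)).prod
      (PrespectralSpace.isTopologicalBasis (X := Y)) using 1
    ext S
    constructor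
    · rintro ⟨⟨U, V⟩, rfl⟩
      exact ⟨U.1, U.2, V.1, V.2, rfl⟩
    · rintro ⟨U, hU, V, hV, rfl⟩
      exact ⟨⟨⟨U, hU⟩, ⟨V, hV⟩⟩, rfl⟩
  refine QuasiSeparatedSpace.of_isTopologicalBasis hb ?_
  rintro ⟨U, V⟩ ⟨U', V'⟩
  simp only [b, prod_inter_prod]
  exact (QuasiSeparatedSpace.inter_isCompact _ _ U.2.1 U.2.2 U'.2.1 U'.2.2).prod
    (QuasiSeparatedSpace.inter_isCompact _ _ V.2.1 V.2.2 V'.2.1 V'.2.2)

/-- The product of two spectral spaces is spectral. -/
theorem spectralSpace_prod [SpectralSpace X] [SpectralSpace Y] : SpectralSpace (X × Y) :=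
  { toT0Space := inferInstance
    toCompactSpace := inferInstance
    toQuasiSober := quasiSober_prod
    toQuasiSeparatedSpace := quasiSeparatedSpace_prod
    toPrespectralSpace := prespectralSpace_prod }

end prod

section sierpinski

theorem t0Space_Prop : T0Space Prop := by
  refine ⟨fun x y h => ?_⟩
  have := (inseparable_iff_forall_isOpen.mp h) {True} isOpen_singleton_true
  simp only [mem_singleton_iff, eq_iff_iff, iff_true] at this
  exact propext this

theorem eq_univ_of_isOpen_of_false_mem {W : Set Prop} (hW : IsOpen W) (h : False ∈ W) :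
    W = univ := by
  have := hW.mem_nhds h
  rw [nhds_false] at this
  exact Filter.mem_top.mp this

theorem eq_univ_of_isClosed_of_true_mem {S : Set Prop} (hS : IsClosed S) (h : True ∈ S) :
    S = univ := by
  ext p
  simp only [mem_univ, iff_true]
  by_cases hp : p
  · rwa [eq_true hp]
  · rw [eq_false hp]
    by_contra hF
    have := eq_univ_of_isOpen_of_false_mem hS.isOpen_compl hF
    have h2 : True ∈ Sᶜ := by rw [this]; trivial
    exact h2 h

theorem quasiSober_Prop : QuasiSober Prop := by
  refine ⟨fun {S} hS hSc => ?_⟩
  by_cases hT : True ∈ S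
  · refine ⟨True, ?_⟩
    rw [isGenericPoint_def, eq_univ_of_isClosed_of_true_mem hSc hT]
    exact eq_univ_of_isClosed_of_true_mem isClosed_closure (subset_closure rfl)
  · refine ⟨False, ?_⟩
    have hS' : S = {False} := by
      ext p
      simp only [mem_singleton_iff]
      constructor
      · intro hp
        by_cases hp' : p
        · rw [eq_true hp'] at hp
          exact absurd hp hT
        · exact eq_false hp'
      · rintro rfl
        obtain ⟨q, hq⟩ := hS.nonempty
        by_cases hq' : q
        · rw [eq_true hq'] at hq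
          exact absurd hq hT
        · rwa [eq_false hq'] at hq
    rw [isGenericPoint_def, hS']
    rw [hS'] at hSc
    exact hSc.closure_eq

theorem spectralSpace_Prop : SpectralSpace Prop := by
  have := t0Space_Prop
  have := quasiSober_Prop
  exact spectralSpace_of_finite

theorem spectralSpace_pi_Prop (I : Type*) : SpectralSpace (I → Prop) := by
  have := spectralSpace_Prop
  exact spectralSpace_pi

end sierpinski

section embed

variable {X : Type*} [TopologicalSpace X]

theorem isOpen_isCompact_biInter_finset [CompactSpace X] [QuasiSeparatedSpace X] {ι : Type*}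
    (G : Finset ι) (u : ι → Set X) (h : ∀ i ∈ G, IsOpen (u i) ∧ IsCompact (u i)) :
    IsOpen (⋂ i ∈ G, u i) ∧ IsCompact (⋂ i ∈ G, u i) := by
  classical
  induction G using Finset.induction_on with
  | empty => simpa using isCompact_univ
  | insert a G ha ih =>
    rw [Finset.set_biInter_insert]
    have h1 := h a (Finset.mem_insert_self _ _)
    have h2 := ih fun i hi => h i (Finset.mem_insert_of_mem hi)
    exact ⟨h1.1.inter h2.1, QuasiSeparatedSpace.inter_isCompact _ _ h1.1 h1.2 h2.1 h2.2⟩

theorem isSpectralMap_of_isTopologicalBasis' {Y : Type*} [TopologicalSpace Y] {B : Set (Set Y)}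
    (hB : IsTopologicalBasis B) (hBc : ∀ U ∈ B, IsCompact U) {f : X → Y}
    (hf : Continuous f) (h : ∀ U ∈ B, IsCompact (f ⁻¹' U)) : IsSpectralMap f := by
  refine isSpectralMap_of_isTopologicalBasis (b := (Subtype.val : B → Set Y)) ?_
    (fun U => hBc U.1 U.2) hf (fun U => h U.1 U.2)
  rw [Subtype.range_coe]
  exact hB

/-- The canonical map from a space to the power of the Sierpiński space indexed by its
quasi-compact opens. -/
def memCompactOpens (X : Type*) [TopologicalSpace X] :
    X → ({U : Set X // IsOpen U ∧ IsCompact U} → Prop) := fun x U => x ∈ U.1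

theorem continuous_memCompactOpens : Continuous (memCompactOpens X) :=
  continuous_pi fun U => continuous_Prop.mpr U.2.1

theorem isEmbedding_memCompactOpens [T0Space X] [PrespectralSpace X] :
    IsEmbedding (memCompactOpens X) := by
  refine ⟨⟨le_antisymm continuous_memCompactOpens.le_induced ?_⟩, ?_⟩
  · intro U hU
    rw [PrespectralSpace.isTopologicalBasis.isOpen_iff] at hU
    have : U = ⋃₀ {V : Set X | (IsOpen V ∧ IsCompact V) ∧ V ⊆ U} := by
      apply Subset.antisymm
      · intro x hx
        obtain ⟨V, hV, hxV, hVU⟩ := hU x hx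
        exact ⟨V, ⟨hV, hVU⟩, hxV⟩
      · rintro x ⟨V, ⟨_, hVU⟩, hxV⟩
        exact hVU hxV
    rw [this]
    refine @isOpen_sUnion X (induced (memCompactOpens X) inferInstance) _ (fun V hV => ?_)
    rw [isOpen_induced_iff]
    refine ⟨Function.eval ⟨V, hV.1⟩ ⁻¹' {True},
      isOpen_singleton_true.preimage (continuous_apply _), ?_⟩
    ext x
    simp [memCompactOpens]
  · intro x y hxy
    by_contra hne
    obtain ⟨U, hU, hxyU⟩ := exists_isOpen_xor_mem hne
    rcases hxyU with ⟨hxU, hyU⟩ | ⟨hyU, hxU⟩
    · obtain ⟨V, hV, hxV, hVU⟩ :=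
        PrespectralSpace.isTopologicalBasis.exists_subset_of_mem_open hxU hU
      have := congrFun hxy ⟨V, hV⟩
      simp only [memCompactOpens, eq_iff_iff] at this
      exact hyU (hVU (this.mp hxV))
    · obtain ⟨V, hV, hyV, hVU⟩ :=
        PrespectralSpace.isTopologicalBasis.exists_subset_of_mem_open hyU hU
      have := congrFun hxy ⟨V, hV⟩
      simp only [memCompactOpens, eq_iff_iff] at this
      exact hxU (hVU (this.mpr hyV))

theorem isSpectralMap_memCompactOpens [CompactSpace X] [QuasiSeparatedSpace X] :
    IsSpectralMap (memCompactOpens X) := by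
  have hsp := spectralSpace_Prop
  refine isSpectralMap_of_isTopologicalBasis'
    (isTopologicalBasis_pi fun _ => PrespectralSpace.isTopologicalBasis (X := Prop))
    ?_ continuous_memCompactOpens ?_
  · rintro _ ⟨W, G, hW, rfl⟩
    exact isCompact_finset_pi G W fun i hi => (hW i hi).2
  · rintro _ ⟨W, G, hW, rfl⟩
    have : memCompactOpens X ⁻¹' (G : Set _).pi W =
        ⋂ V ∈ G, {x | memCompactOpens X x V ∈ W V} := by
      ext x
      simp [Set.mem_pi]
    rw [this]
    refine (isOpen_isCompact_biInter_finset G _ fun V hV => ?_).2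
    by_cases hF : False ∈ W V
    · rw [eq_univ_of_isOpen_of_false_mem (hW V hV).1 hF]
      simpa using isCompact_univ
    · by_cases hT : True ∈ W V
      · have : {x | memCompactOpens X x V ∈ W V} = V.1 := by
          ext x
          simp only [memCompactOpens, mem_ofPred_eq]
          constructor
          · intro h
            by_contra hx
            rw [eq_false hx] at h
            exact hF h
          · intro hx
            rwa [eq_true hx]
        rw [this]
        exact V.2
      · have : {x | memCompactOpens X x V ∈ W V} = ∅ := by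
          ext x
          simp only [memCompactOpens, mem_ofPred_eq, mem_empty_iff_false, iff_false]
          intro h
          by_cases hx : x ∈ V.1
          · rw [eq_true hx] at h
            exact hT h
          · rw [eq_false hx] at h
            exact hF h
        rw [this]
        exact ⟨isOpen_empty, isCompact_empty⟩

theorem isClosed_constructibleTopology_range_memCompactOpens [SpectralSpace X] :
    IsClosed[constructibleTopology _] (range (memCompactOpens X)) := by
  have hsp := spectralSpace_pi_Prop {U : Set X // IsOpen U ∧ IsCompact U}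
  rw [← image_univ]
  exact isClosed_constructibleTopology_image isSpectralMap_memCompactOpens
    (@isClosed_univ X (constructibleTopology X))

end embed

end Groth.Agent.Helper11
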