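import Mathlib
import Groth.Agent.Lib.Helper11.SpectralPi

/-!
Spectral spaces: limits of diagrams of spectral spaces with spectral transition maps (helper11).
-/

namespace Groth.Agent.Helper11

open Topology Set TopologicalSpace CategoryTheory CategoryTheory.Limits

universe u

section limit

variable {J : Type u} [SmallCategory J] (F : J ⥤ TopCat.{u}) (c : Cone F)

/-- The canonical map from the cone point to the product. -/
def limMap : c.pt → ∀ j, F.obj j := fun x j => c.π.app j x

@[simp] theorem limMap_apply (x : c.pt) (j : J) : limMap F c x j = c.π.app j x := rfl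

/-- The set of compatible families in the product. -/
def compatSet : Set (∀ j, F.obj j) := {x | ∀ (i j : J) (a : i ⟶ j), F.map a (x i) = x j}

variable {F c}

theorem isInducing_limMap (hc : IsLimit c) : IsInducing (limMap F c) := by
  have h := TopCat.induced_of_isLimit c hc
  constructor
  rw [h]
  exact (induced_to_pi (fun (x : c.pt) (j : J) => c.π.app j x)).symm

theorem range_limMap (hc : IsLimit c) : range (limMap F c) = compatSet F := by
  have hc' : IsLimit ((forget TopCat).mapCone c) := isLimitOfPreserves (forget TopCat) hc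
  let e := Types.isLimitEquivSections hc'
  apply Subset.antisymm
  · rintro _ ⟨x, rfl⟩ i j a
    simp only [limMap_apply]
    rw [← c.w a]
    rfl
  · intro x hx
    let s : (F ⋙ forget TopCat).sections := ⟨x, fun {i j} a => hx i j a⟩
    refine ⟨e.symm s, ?_⟩
    funext j
    exact Types.isLimitEquivSections_symm_apply hc' s j

theorem injective_limMap (hc : IsLimit c) : Function.Injective (limMap F c) := by
  have hc' : IsLimit ((forget TopCat).mapCone c) := isLimitOfPreserves (forget TopCat) hc
  let e := Types.isLimitEquivSections hc'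
  intro x y hxy
  apply e.injective
  apply Subtype.ext
  funext j
  exact congrFun hxy j

theorem isEmbedding_limMap (hc : IsLimit c) : IsEmbedding (limMap F c) :=
  ⟨isInducing_limMap hc, injective_limMap hc⟩

end limit

section spectral

variable {J : Type u} [SmallCategory J] {F : J ⥤ TopCat.{u}} {c : Cone F}

theorem isClosed_constructibleTopology_compatSet [∀ j, SpectralSpace (F.obj j)]
    (hFm : ∀ {i j : J} (a : i ⟶ j), IsSpectralMap (F.map a : F.obj i → F.obj j)) :
    IsClosed[constructibleTopology (∀ j, F.obj j)] (compatSet F) := by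
  have hsp : SpectralSpace (∀ j, F.obj j) := spectralSpace_pi
  have : compatSet F = ⋂ (i : J) (j : J) (a : i ⟶ j),
      {x : ∀ j, F.obj j | (F.map a : F.obj i → F.obj j) (x i) = x j} := by
    ext x
    simp [compatSet]
  rw [this]
  refine @isClosed_iInter _ _ (constructibleTopology _) _ fun i => ?_
  refine @isClosed_iInter _ _ (constructibleTopology _) _ fun j => ?_
  refine @isClosed_iInter _ _ (constructibleTopology _) _ fun a => ?_
  have h1 : IsSpectralMap (fun x : ∀ j, F.obj j => (F.map a : F.obj i → F.obj j) (x i)) :=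
    (hFm a).comp (isSpectralMap_eval i)
  have h2 : IsSpectralMap (fun x : ∀ j, F.obj j => x j) := isSpectralMap_eval j
  have := t2Space_constructibleTopology (X := F.obj j)
  exact @isClosed_eq (F.obj j) (∀ j, F.obj j) (constructibleTopology _) (constructibleTopology _)
    this _ _ (continuous_constructibleTopology_of_isSpectralMap h1)
    (continuous_constructibleTopology_of_isSpectralMap h2)

/-- The limit of a diagram of spectral spaces with spectral transition maps is spectral, and
the canonical map to the product is spectral. -/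
theorem spectralSpace_limit [∀ j, SpectralSpace (F.obj j)]
    (hFm : ∀ {i j : J} (a : i ⟶ j), IsSpectralMap (F.map a : F.obj i → F.obj j))
    (hc : IsLimit c) :
    SpectralSpace c.pt ∧ IsSpectralMap (limMap F c) := by
  have hsp : SpectralSpace (∀ j, F.obj j) := spectralSpace_pi
  apply spectralSpace_of_isEmbedding (isEmbedding_limMap hc)
  rw [range_limMap hc]
  exact isClosed_constructibleTopology_compatSet hFm

theorem isSpectralMap_proj [∀ j, SpectralSpace (F.obj j)]
    (hFm : ∀ {i j : J} (a : i ⟶ j), IsSpectralMap (F.map a : F.obj i → F.obj j))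
    (hc : IsLimit c) (j : J) : IsSpectralMap (c.π.app j : c.pt → F.obj j) :=
  (isSpectralMap_eval j).comp (spectralSpace_limit hFm hc).2

end spectral

section konig

/-- A subset of a space, as an object of `TopCat` with the subspace topology of the constructible
topology. -/
def consSub {X : Type u} [TopologicalSpace X] (Z : Set X) : TopCat.{u} :=
  @TopCat.of Z (@instTopologicalSpaceSubtype X (· ∈ Z) (constructibleTopology X))

theorem compactSpace_consSub {X : Type u} [TopologicalSpace X] [SpectralSpace X] {Z : Set X}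
    (hZ : IsClosed[constructibleTopology X] Z) : CompactSpace (consSub Z) := by
  have h1 := isCompact_constructibleTopology_of_isClosed hZ
  exact (@isCompact_iff_compactSpace X (constructibleTopology X) Z).mp h1

theorem t2Space_consSub {X : Type u} [TopologicalSpace X] [SpectralSpace X] (Z : Set X) :
    T2Space (consSub Z) := by
  have := t2Space_constructibleTopology (X := X)
  exact @T2Space.of_injective_continuous Z X
    (@instTopologicalSpaceSubtype X (· ∈ Z) (constructibleTopology X))
    (constructibleTopology X) this Subtype.val Subtype.val_injective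
    (@continuous_subtype_val X (constructibleTopology X) (· ∈ Z))

/-- The map induced on subsets with constructible topologies by a spectral map. -/
def consSubMap {X Y : Type u} [TopologicalSpace X] [TopologicalSpace Y] {f : X → Y}
    (hf : IsSpectralMap f) {Z : Set X} {Z' : Set Y} (h : MapsTo f Z Z') :
    consSub Z ⟶ consSub Z' :=
  @TopCat.ofHom Z Z' (@instTopologicalSpaceSubtype X (· ∈ Z) (constructibleTopology X))
    (@instTopologicalSpaceSubtype Y (· ∈ Z') (constructibleTopology Y))
    (@ContinuousMap.mk Z Z' (@instTopologicalSpaceSubtype X (· ∈ Z) (constructibleTopology X))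
      (@instTopologicalSpaceSubtype Y (· ∈ Z') (constructibleTopology Y)) (h.restrict f Z Z')
      (@Continuous.restrict X Y (constructibleTopology X) (constructibleTopology Y) f Z Z' h
        (continuous_constructibleTopology_of_isSpectralMap hf)))

theorem consSubMap_apply {X Y : Type u} [TopologicalSpace X] [TopologicalSpace Y] {f : X → Y}
    (hf : IsSpectralMap f) {Z : Set X} {Z' : Set Y} (h : MapsTo f Z Z') (x : Z) :
    Subtype.val (p := (· ∈ Z')) ((consSubMap hf h : consSub Z → consSub Z') x) = f x.1 := rfl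

variable {J : Type u} [SmallCategory J] {F : J ⥤ TopCat.{u}} {c : Cone F}

/-- The functor of constructibly closed subsets. -/
def consSubFunctor (hFm : ∀ {i j : J} (a : i ⟶ j), IsSpectralMap (F.map a : F.obj i → F.obj j))
    (Z : ∀ j, Set (F.obj j))
    (hZm : ∀ {i j : J} (a : i ⟶ j), MapsTo (F.map a) (Z i) (Z j)) : J ⥤ TopCat.{u} where
  obj j := consSub (Z j)
  map a := consSubMap (hFm a) (hZm a)
  map_id j := by
    ext x
    apply Subtype.ext
    change (F.map (𝟙 j) : F.obj j → F.obj j) x.1 = x.1
    rw [F.map_id]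
    rfl
  map_comp a b := by
    ext x
    apply Subtype.ext
    change (F.map (a ≫ b) : F.obj _ → F.obj _) x.1 = _
    rw [F.map_comp]
    rfl

/-- A cofiltered system of nonempty constructibly closed subsets has a compatible point. -/
theorem exists_forall_proj_mem [IsCofiltered J] [∀ j, SpectralSpace (F.obj j)]
    (hFm : ∀ {i j : J} (a : i ⟶ j), IsSpectralMap (F.map a : F.obj i → F.obj j))
    (hc : IsLimit c) (Z : ∀ j, Set (F.obj j)) (hZne : ∀ j, (Z j).Nonempty)
    (hZ : ∀ j, IsClosed[constructibleTopology (F.obj j)] (Z j))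
    (hZm : ∀ {i j : J} (a : i ⟶ j), MapsTo (F.map a) (Z i) (Z j)) :
    ∃ x : c.pt, ∀ j, c.π.app j x ∈ Z j := by
  let G := consSubFunctor hFm Z hZm
  have h1 : ∀ j, Nonempty (G.obj j) := fun j => (hZne j).to_subtype
  have h2 : ∀ j, CompactSpace (G.obj j) := fun j => compactSpace_consSub (hZ j)
  have h3 : ∀ j, T2Space (G.obj j) := fun j => t2Space_consSub (Z j)
  obtain ⟨⟨v, hv⟩⟩ := TopCat.nonempty_limitCone_of_compact_t2_cofiltered_system.{u, u} G
  have hmem : (fun j => Subtype.val (p := (· ∈ Z j)) (v j)) ∈ compatSet F := by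
    intro i j a
    have := congrArg Subtype.val (hv a)
    exact this
  rw [← range_limMap hc] at hmem
  obtain ⟨x, hx⟩ := hmem
  refine ⟨x, fun j => ?_⟩
  have := congrFun hx j
  simp only [limMap_apply] at this
  rw [this]
  exact Subtype.property (p := (· ∈ Z j)) (v j)

end konig

section cofiltered

variable {J : Type u} [SmallCategory J] {F : J ⥤ TopCat.{u}} {c : Cone F}

theorem exists_hom_comp_eq [IsCofiltered J] {j i : J} (u : Finset (j ⟶ i)) :
    ∃ (k : J) (b : k ⟶ j) (a' : k ⟶ i), ∀ a ∈ u, b ≫ a = a' := by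
  classical
  obtain ⟨k, T, hT⟩ := IsCofiltered.inf_exists ({j, i} : Finset J)
    (u.image fun a => ⟨j, i, by simp, by simp, a⟩)
  exact ⟨k, T (by simp), T (by simp), fun a ha => hT _ _ (Finset.mem_image_of_mem _ ha)⟩

theorem map_comp_apply {i j k : J} (b : k ⟶ j) (a : j ⟶ i) (y : F.obj k) :
    (F.map (b ≫ a) : F.obj k → F.obj i) y = (F.map a : F.obj j → F.obj i) ((F.map b : _ → _) y) := by
  rw [F.map_comp]
  rfl

theorem proj_map_apply {i j : J} (a : j ⟶ i) (x : c.pt) :
    (F.map a : F.obj j → F.obj i) ((c.π.app j : c.pt → F.obj j) x) = (c.π.app i : _ → _) x := by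
  rw [← c.w a]
  rfl

theorem proj_preimage_map_preimage {i j : J} (a : j ⟶ i) (E : Set (F.obj i)) :
    (c.π.app j : c.pt → F.obj j) ⁻¹' ((F.map a : F.obj j → F.obj i) ⁻¹' E) =
      (c.π.app i : c.pt → F.obj i) ⁻¹' E := by
  ext x
  simp only [mem_preimage, proj_map_apply]

/-- An inclusion between preimages of a constructibly closed and a constructibly open set in the
limit already holds at a finite stage. -/
theorem exists_hom_preimage_subset [IsCofiltered J] [∀ j, SpectralSpace (F.obj j)]
    (hFm : ∀ {i j : J} (a : i ⟶ j), IsSpectralMap (F.map a : F.obj i → F.obj j))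
    (hc : IsLimit c) (i : J) {E F' : Set (F.obj i)}
    (hE : IsClosed[constructibleTopology (F.obj i)] E)
    (hF' : IsOpen[constructibleTopology (F.obj i)] F')
    (h : (c.π.app i : c.pt → F.obj i) ⁻¹' E ⊆ (c.π.app i : c.pt → F.obj i) ⁻¹' F') :
    ∃ (j : J) (a : j ⟶ i), (F.map a : F.obj j → F.obj i) ⁻¹' E ⊆
      (F.map a : F.obj j → F.obj i) ⁻¹' F' := by
  by_contra hcon
  push Not at hcon
  have hD : IsClosed[constructibleTopology (F.obj i)] (E \ F') := by
    rw [sdiff_eq]
    exact @IsClosed.inter _ _ _ (constructibleTopology _) hE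
      ((@isClosed_compl_iff _ (constructibleTopology _) F').mpr hF')
  have hne : ∀ (j : J) (a : j ⟶ i), ∃ y : F.obj j, (F.map a : F.obj j → F.obj i) y ∈ E \ F' := by
    intro j a
    obtain ⟨y, hy1, hy2⟩ := not_subset.mp (hcon j a)
    exact ⟨y, hy1, hy2⟩
  let Z : ∀ j, Set (F.obj j) := fun j => ⋂ a : j ⟶ i, (F.map a : F.obj j → F.obj i) ⁻¹' (E \ F')
  have hZc : ∀ j (a : j ⟶ i), IsClosed[constructibleTopology (F.obj j)]
      ((F.map a : F.obj j → F.obj i) ⁻¹' (E \ F')) := fun j a =>
    @IsClosed.preimage _ _ (constructibleTopology _) (constructibleTopology _) _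
      (continuous_constructibleTopology_of_isSpectralMap (hFm a)) _ hD
  have hZ : ∀ j, IsClosed[constructibleTopology (F.obj j)] (Z j) := fun j =>
    @isClosed_iInter _ _ (constructibleTopology _) _ fun a => hZc j a
  have hZne : ∀ j, (Z j).Nonempty := by
    intro j
    apply nonempty_iInter_of_isClosed_constructibleTopology _ (hZc j)
    intro u
    obtain ⟨k, b, a', hk⟩ := exists_hom_comp_eq u
    obtain ⟨y, hy⟩ := hne k a'
    refine ⟨(F.map b : F.obj k → F.obj j) y, ?_⟩
    simp only [mem_iInter, mem_preimage]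
    intro a ha
    rw [← map_comp_apply, hk a ha]
    exact hy
  have hZm : ∀ {k j : J} (b : k ⟶ j), MapsTo (F.map b) (Z k) (Z j) := by
    intro k j b y hy
    simp only [Z, mem_iInter, mem_preimage] at hy ⊢
    intro a
    have := hy (b ≫ a)
    rw [map_comp_apply] at this
    exact this
  obtain ⟨x, hx⟩ := exists_forall_proj_mem hFm hc Z hZne hZ hZm
  have h1 := hx i
  simp only [Z, mem_iInter, mem_preimage] at h1
  have h2 := h1 (𝟙 i)
  rw [proj_map_apply] at h2
  exact h2.2 (h h2.1)

theorem preimage_subset_of_hom {i j : J} (a : j ⟶ i) {E F' : Set (F.obj i)}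
    (h : (F.map a : F.obj j → F.obj i) ⁻¹' E ⊆ (F.map a : F.obj j → F.obj i) ⁻¹' F') :
    (c.π.app i : c.pt → F.obj i) ⁻¹' E ⊆ (c.π.app i : c.pt → F.obj i) ⁻¹' F' := by
  rw [← proj_preimage_map_preimage a, ← proj_preimage_map_preimage a]
  exact preimage_mono h

end cofiltered

section descend

variable {J : Type u} [SmallCategory J] {F : J ⥤ TopCat.{u}} {c : Cone F}

theorem isConstructible_preimage_of_isSpectralMap {X Y : Type*} [TopologicalSpace X]
    [TopologicalSpace Y] [QuasiSeparatedSpace X] [CompactSpace Y] {f : X → Y}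
    (hf : IsSpectralMap f) {s : Set Y} (hs : IsConstructible s) : IsConstructible (f ⁻¹' s) :=
  hs.preimage hf.continuous fun _ ht htc =>
    (htc.isCompact.preimage_of_isOpen hf ht).isRetrocompact (ht.preimage hf.continuous)

/-- Two constructibly clopen sets with the same preimage in the limit have the same preimage at a
finite stage. -/
theorem exists_hom_preimage_eq [IsCofiltered J] [∀ j, SpectralSpace (F.obj j)]
    (hFm : ∀ {i j : J} (a : i ⟶ j), IsSpectralMap (F.map a : F.obj i → F.obj j))
    (hc : IsLimit c) (i : J) {E E' : Set (F.obj i)}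
    (hE : IsClosed[constructibleTopology (F.obj i)] E ∧ IsOpen[constructibleTopology (F.obj i)] E)
    (hE' : IsClosed[constructibleTopology (F.obj i)] E' ∧
      IsOpen[constructibleTopology (F.obj i)] E')
    (h : (c.π.app i : c.pt → F.obj i) ⁻¹' E = (c.π.app i : c.pt → F.obj i) ⁻¹' E') :
    ∃ (j : J) (a : j ⟶ i), (F.map a : F.obj j → F.obj i) ⁻¹' E =
      (F.map a : F.obj j → F.obj i) ⁻¹' E' := by
  obtain ⟨j₁, a₁, h₁⟩ := exists_hom_preimage_subset hFm hc i hE.1 hE'.2 h.le
  obtain ⟨j₂, a₂, h₂⟩ := exists_hom_preimage_subset hFm hc i hE'.1 hE.2 h.ge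
  obtain ⟨k, g₁, g₂, hg⟩ := IsCofiltered.cospan a₁ a₂
  refine ⟨k, g₁ ≫ a₁, Subset.antisymm ?_ ?_⟩
  · intro y hy
    simp only [mem_preimage, map_comp_apply] at hy ⊢
    exact h₁ hy
  · rw [hg]
    intro y hy
    simp only [mem_preimage, map_comp_apply] at hy ⊢
    exact h₂ hy

theorem isClopen_constructibleTopology_of_isOpen_isCompact {X : Type*} [TopologicalSpace X]
    {U : Set X} (hU : IsOpen U) (hUc : IsCompact U) :
    IsClosed[constructibleTopology X] U ∧ IsOpen[constructibleTopology X] U :=
  ⟨isClosed_constructibleTopology_of_isOpen_isCompact hU hUc,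
    hUc.isOpen_constructibleTopology_of_isOpen hU⟩

/-- Every quasi-compact open of the limit comes from a finite stage. -/
theorem exists_isCompact_isOpen_preimage_eq [IsCofiltered J] [∀ j, SpectralSpace (F.obj j)]
    (hFm : ∀ {i j : J} (a : i ⟶ j), IsSpectralMap (F.map a : F.obj i → F.obj j))
    (hc : IsLimit c) {U : Set c.pt} (hU : IsOpen U) (hUc : IsCompact U) :
    ∃ (i : J) (Ui : Set (F.obj i)), IsOpen Ui ∧ IsCompact Ui ∧
      (c.π.app i : c.pt → F.obj i) ⁻¹' Ui = U := by
  let b : (Σ j, {V : Set (F.obj j) // IsOpen V ∧ IsCompact V}) → Set c.pt :=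
    fun p => (c.π.app p.1 : c.pt → F.obj p.1) ⁻¹' p.2.1
  have hb : IsTopologicalBasis (range b) := by
    have := TopCat.isTopologicalBasis_cofiltered_limit.{u, u, u} F c hc
      (fun j => {V | IsOpen V ∧ IsCompact V})
      (fun j => PrespectralSpace.isTopologicalBasis) (fun j => ⟨isOpen_univ, isCompact_univ⟩)
      (fun j U1 U2 h1 h2 => ⟨h1.1.inter h2.1,
        QuasiSeparatedSpace.inter_isCompact _ _ h1.1 h1.2 h2.1 h2.2⟩)
      (fun i j a V hV => ⟨hV.1.preimage (hFm a).continuous, hV.2.preimage_of_isOpen (hFm a) hV.1⟩)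
    convert this using 1
    ext W
    constructor
    · rintro ⟨⟨j, V⟩, rfl⟩
      exact ⟨j, V.1, V.2, rfl⟩
    · rintro ⟨j, V, hV, rfl⟩
      exact ⟨⟨j, ⟨V, hV⟩⟩, rfl⟩
  have hbc : ∀ p, IsCompact (b p) := fun p =>
    p.2.2.2.preimage_of_isOpen (isSpectralMap_proj hFm hc p.1) p.2.2.1
  obtain ⟨s, hs, rfl⟩ :=
    (isCompact_open_iff_eq_finite_iUnion_of_isTopologicalBasis b hb hbc U).1 ⟨hUc, hU⟩
  clear hU hUc
  induction s, hs using Set.Finite.induction_on with
  | empty =>
    obtain ⟨i⟩ := IsCofiltered.nonempty (C := J)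
    exact ⟨i, ∅, isOpen_empty, isCompact_empty, by simp⟩
  | @insert p s hp hs ih =>
    obtain ⟨i, Ui, hUi, hUic, hUieq⟩ := ih
    obtain ⟨j, V⟩ := p
    let k := IsCofiltered.min j i
    let a : k ⟶ j := IsCofiltered.minToLeft j i
    let a' : k ⟶ i := IsCofiltered.minToRight j i
    refine ⟨k, (F.map a : F.obj k → F.obj j) ⁻¹' V.1 ∪ (F.map a' : F.obj k → F.obj i) ⁻¹' Ui,
      ?_, ?_, ?_⟩
    · exact (V.2.1.preimage (hFm a).continuous).union (hUi.preimage (hFm a').continuous)
    · exact (V.2.2.preimage_of_isOpen (hFm a) V.2.1).union (hUic.preimage_of_isOpen (hFm a') hUi)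
    · rw [preimage_union, proj_preimage_map_preimage, proj_preimage_map_preimage, hUieq,
        biUnion_insert]

/-- Every constructible subset of the limit comes from a finite stage. -/
theorem exists_isConstructible_preimage_eq [IsCofiltered J] [∀ j, SpectralSpace (F.obj j)]
    (hFm : ∀ {i j : J} (a : i ⟶ j), IsSpectralMap (F.map a : F.obj i → F.obj j))
    (hc : IsLimit c) {E : Set c.pt} (hE : IsConstructible E) :
    ∃ (i : J) (Ei : Set (F.obj i)), IsConstructible Ei ∧
      (c.π.app i : c.pt → F.obj i) ⁻¹' Ei = E := by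
  have hsp := (spectralSpace_limit hFm hc).1
  induction hE using IsConstructible.empty_union_induction with
  | open_retrocompact U hUopen hUcomp =>
    obtain ⟨i, Ui, h1, h2, h3⟩ := exists_isCompact_isOpen_preimage_eq hFm hc hUopen hUcomp.isCompact
    exact ⟨i, Ui, h2.isConstructible h1, h3⟩
  | union s hs t ht hs' ht' =>
    obtain ⟨i, Ei, h1, h2⟩ := hs'
    obtain ⟨j, Ej, h3, h4⟩ := ht'
    let k := IsCofiltered.min i j
    let a : k ⟶ i := IsCofiltered.minToLeft i j
    let a' : k ⟶ j := IsCofiltered.minToRight i j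
    refine ⟨k, (F.map a : F.obj k → F.obj i) ⁻¹' Ei ∪ (F.map a' : F.obj k → F.obj j) ⁻¹' Ej,
      ?_, ?_⟩
    · exact (isConstructible_preimage_of_isSpectralMap (hFm a) h1).union
        (isConstructible_preimage_of_isSpectralMap (hFm a') h3)
    · rw [preimage_union, proj_preimage_map_preimage, proj_preimage_map_preimage, h2, h4]
  | compl s hs hs' =>
    obtain ⟨i, Ei, h1, h2⟩ := hs'
    exact ⟨i, Eiᶜ, h1.compl, by rw [preimage_compl, h2]⟩

end descend

end Groth.Agent.Helper11
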