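import Mathlib.CategoryTheory.Triangulated.TStructure.TruncLTGE

/-!
Splitting an object along a distinguished triangle whose connecting morphism vanishes, in terms
of the truncation functors of a t-structure (helper11).
-/

set_option autoImplicit false

open CategoryTheory Category Limits Pretriangulated

namespace Groth.Agent.Helper11.SplitTr

variable {C : Type*} [Category C] [Preadditive C] [HasZeroObject C] [HasShift C ℤ]
  [∀ (n : ℤ), (shiftFunctor C n).Additive] [Pretriangulated C] (t : Triangulated.TStructure C)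

/-- the third vertex of a distinguished triangle `A → X → B` with `A ≤ i - 1` and `B ≥ i + 1`
is `τ_{≥ i+1} X`, compatibly with the maps from `X` -/
theorem exists_iso_truncGE (T : Triangle C) (hT : T ∈ distTriang C) (i : ℤ)
    (h₁ : t.IsLE T.obj₁ (i - 1)) (h₃ : t.IsGE T.obj₃ (i + 1)) :
    ∃ γ : T.obj₃ ≅ (t.truncGE (i + 1)).obj T.obj₂,
      T.mor₂ ≫ γ.hom = (t.truncGEπ (i + 1)).app T.obj₂ := by
  have h₁' : t.IsLE T.obj₁ i := t.isLE_of_le _ (i - 1) i (by omega)
  obtain ⟨e2, he2⟩ := t.triangle_iso_exists hT (t.triangleLTGE_distinguished (i + 1) T.obj₂)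
    (Iso.refl _) i (i + 1) h₁' h₃
    (show t.IsLE ((t.truncLT (i + 1)).obj T.obj₂) i from inferInstance)
    (show t.IsGE ((t.truncGE (i + 1)).obj T.obj₂) (i + 1) from inferInstance) (by omega)
  refine ⟨Triangle.π₃.mapIso e2, ?_⟩
  have h := e2.hom.comm₂
  rw [he2] at h
  exact h.trans (id_comp _)

/-- the first vertex of a distinguished triangle `A → X → B` with `A ≤ i - 1` and `B ≥ i + 1`
is `τ_{< i} X`, compatibly with the maps to `X` -/
theorem exists_iso_truncLT (T : Triangle C) (hT : T ∈ distTriang C) (i : ℤ)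
    (h₁ : t.IsLE T.obj₁ (i - 1)) (h₃ : t.IsGE T.obj₃ (i + 1)) :
    ∃ α : T.obj₁ ≅ (t.truncLT i).obj T.obj₂,
      α.hom ≫ (t.truncLTι i).app T.obj₂ = T.mor₁ := by
  have h₃' : t.IsGE T.obj₃ i := t.isGE_of_ge _ i (i + 1) (by omega)
  obtain ⟨e1, he1⟩ := t.triangle_iso_exists hT (t.triangleLTGE_distinguished i T.obj₂)
    (Iso.refl _) (i - 1) i h₁ h₃'
    (show t.IsLE ((t.truncLT i).obj T.obj₂) (i - 1) from inferInstance)
    (show t.IsGE ((t.truncGE i).obj T.obj₂) i from inferInstance) (by omega)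
  refine ⟨Triangle.π₁.mapIso e1, ?_⟩
  have h := e1.hom.comm₁
  rw [he1] at h
  exact h.symm.trans (comp_id _)

/-- splitting of the middle object of a distinguished triangle `A → X → B → A[1]` with
`A ≤ i - 1`, `B ≥ i + 1` and vanishing connecting morphism -/
theorem exists_split (T : Triangle C) (hT : T ∈ distTriang C) (i : ℤ)
    (h₁ : t.IsLE T.obj₁ (i - 1)) (h₃ : t.IsGE T.obj₃ (i + 1)) (hz : T.mor₃ = 0)
    [HasBinaryBiproduct ((t.truncGE (i + 1)).obj T.obj₂) ((t.truncLT i).obj T.obj₂)] :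
    ∃ e : T.obj₂ ≅ (t.truncGE (i + 1)).obj T.obj₂ ⊞ (t.truncLT i).obj T.obj₂,
      e.hom ≫ biprod.fst = (t.truncGEπ (i + 1)).app T.obj₂ ∧
      (t.truncLTι i).app T.obj₂ ≫ e.hom = biprod.inr := by
  obtain ⟨γ, hγ⟩ := exists_iso_truncGE t T hT i h₁ h₃
  obtain ⟨α, hα⟩ := exists_iso_truncLT t T hT i h₁ h₃
  let T' : Triangle C := Triangle.mk ((t.truncLTι i).app T.obj₂)
    ((t.truncGEπ (i + 1)).app T.obj₂) (0 : _ ⟶ ((t.truncLT i).obj T.obj₂)⟦(1 : ℤ)⟧)
  have iso : T ≅ T' := Triangle.isoMk T T' α (Iso.refl _) γ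
    ((comp_id _).trans hα.symm) (hγ.trans (id_comp _).symm)
    (by rw [hz, zero_comp]; exact comp_zero.symm)
  have hT' : T' ∈ distTriang C := isomorphic_distinguished _ hT _ iso.symm
  obtain ⟨e', he1, he2⟩ : ∃ e' : T.obj₂ ≅
      (t.truncLT i).obj T.obj₂ ⊞ (t.truncGE (i + 1)).obj T.obj₂,
      (t.truncLTι i).app T.obj₂ ≫ e'.hom = biprod.inl ∧
        (t.truncGEπ (i + 1)).app T.obj₂ = e'.hom ≫ biprod.snd :=
    exists_iso_binaryBiproduct_of_distTriang T' hT' rfl
  refine ⟨e' ≪≫ biprod.braiding _ _, ?_, ?_⟩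
  · rw [Iso.trans_hom, biprod.braiding_hom, assoc, biprod.lift_fst, ← he2]
  · rw [Iso.trans_hom, ← assoc, he1, biprod.braiding_hom]
    ext
    · rw [assoc, biprod.lift_fst, biprod.inl_snd, biprod.inr_fst]
    · rw [assoc, biprod.lift_snd, biprod.inl_fst, biprod.inr_snd]

end Groth.Agent.Helper11.SplitTr
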