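import Groth.Agent.Lib.Helper11.LocalPerf1
import Mathlib.Algebra.Module.FinitePresentation

/-!
Contracting homotopies in one degree: existence over a local ring from the fibre, spreading
out from a localization, and consequences (helper11).
-/

set_option autoImplicit false

universe u

namespace Groth.Agent.Helper11.SplitTr

open TensorProduct

section Local

variable {R : Type u} [CommRing R] [IsLocalRing R]
  {M₁ M₂ M₃ : Type u} [AddCommGroup M₁] [AddCommGroup M₂] [AddCommGroup M₃]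
  [Module R M₁] [Module R M₂] [Module R M₃]
  (f : M₁ →ₗ[R] M₂) (g : M₂ →ₗ[R] M₃) (hgf : g ∘ₗ f = 0)
  [Module.Finite R M₂] [Module.Projective R M₂] [Module.Finite R M₃] [Module.Free R M₃]

include hgf in
/-- over a local ring, exactness of the fibre of `M₁ → M₂ → M₃` at the middle gives a contracting
homotopy at `M₂` -/
theorem exists_homotopy_of_local
    (hex : LinearMap.ker (g.lTensor (IsLocalRing.ResidueField R)) ≤
      LinearMap.range (f.lTensor (IsLocalRing.ResidueField R))) :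
    ∃ (h : M₂ →ₗ[R] M₁) (h' : M₃ →ₗ[R] M₂), f ∘ₗ h + h' ∘ₗ g = LinearMap.id := by
  obtain ⟨l', hl'⟩ := LocalPerf.exists_retraction f g hgf hex
  obtain ⟨h', hh'⟩ := Module.projective_lifting_property (LinearMap.range f).mkQ l'
    (Submodule.mkQ_surjective _)
  have hk : ∀ y : M₂, ((LinearMap.id : M₂ →ₗ[R] M₂) - h' ∘ₗ g) y ∈ LinearMap.range f := by
    intro y
    rw [← Submodule.Quotient.mk_eq_zero, ← Submodule.mkQ_apply]
    show (LinearMap.range f).mkQ (y - h' (g y)) = 0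
    rw [map_sub, sub_eq_zero]
    have h1 : (LinearMap.range f).mkQ (h' (g y)) = l' (g y) := LinearMap.congr_fun hh' (g y)
    have h2 : l' (LocalPerf.lmap f g hgf ((LinearMap.range f).mkQ y)) =
        (LinearMap.range f).mkQ y := LinearMap.congr_fun hl' _
    rw [h1]
    exact h2.symm
  obtain ⟨h, hh⟩ := Module.projective_lifting_property f.rangeRestrict
    (((LinearMap.id : M₂ →ₗ[R] M₂) - h' ∘ₗ g).codRestrict (LinearMap.range f) hk) f.surjective_rangeRestrict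
  refine ⟨h, h', ?_⟩
  ext y
  have h3 : f (h y) = y - h' (g y) := congrArg Subtype.val (LinearMap.congr_fun hh y)
  show f (h y) + h' (g y) = y
  rw [h3, sub_add_cancel]

end Local

section Spread

variable {R : Type*} [CommRing R] (S : Submonoid R)
  {M₁ M₂ M₃ N₁ N₂ N₃ : Type*} [AddCommGroup M₁] [AddCommGroup M₂] [AddCommGroup M₃]
  [AddCommGroup N₁] [AddCommGroup N₂] [AddCommGroup N₃]
  [Module R M₁] [Module R M₂] [Module R M₃] [Module R N₁] [Module R N₂] [Module R N₃]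
  (ι₁ : M₁ →ₗ[R] N₁) (ι₂ : M₂ →ₗ[R] N₂) (ι₃ : M₃ →ₗ[R] N₃)
  [IsLocalizedModule S ι₁] [IsLocalizedModule S ι₂]
  (f : M₁ →ₗ[R] M₂) (g : M₂ →ₗ[R] M₃) (f' : N₁ →ₗ[R] N₂) (g' : N₂ →ₗ[R] N₃)
  (hf : ι₂ ∘ₗ f = f' ∘ₗ ι₁) (hg : ι₃ ∘ₗ g = g' ∘ₗ ι₂)
  [Module.FinitePresentation R M₂] [Module.FinitePresentation R M₃] [Module.Finite R M₂]

include hf hg in
/-- a contracting homotopy at the middle term after localization spreads out, up to multiplying
by an element of the submonoid -/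
theorem exists_homotopy_of_localized (H : N₂ →ₗ[R] N₁) (H' : N₃ →ₗ[R] N₂)
    (hH : f' ∘ₗ H + H' ∘ₗ g' = LinearMap.id) :
    ∃ (s : S) (h : M₂ →ₗ[R] M₁) (h' : M₃ →ₗ[R] M₂),
      f ∘ₗ h + h' ∘ₗ g = (s : R) • LinearMap.id := by
  obtain ⟨h₀, s₁, hh₀⟩ :=
    Module.FinitePresentation.exists_lift_of_isLocalizedModule S ι₁ (H ∘ₗ ι₂)
  obtain ⟨h₀', s₂, hh₀'⟩ :=
    Module.FinitePresentation.exists_lift_of_isLocalizedModule S ι₂ (H' ∘ₗ ι₃)
  have key : ι₂ ∘ₗ (f ∘ₗ ((s₂ : R) • h₀) + ((s₁ : R) • h₀') ∘ₗ g) =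
      ι₂ ∘ₗ (((s₁ : R) * (s₂ : R)) • LinearMap.id) := by
    ext x
    have e1 : ι₂ (f (h₀ x)) = f' (ι₁ (h₀ x)) := LinearMap.congr_fun hf (h₀ x)
    have e2 : ι₁ (h₀ x) = (s₁ : R) • H (ι₂ x) := LinearMap.congr_fun hh₀ x
    have e3 : ι₂ (h₀' (g x)) = (s₂ : R) • H' (ι₃ (g x)) := LinearMap.congr_fun hh₀' (g x)
    have e4 : ι₃ (g x) = g' (ι₂ x) := LinearMap.congr_fun hg x
    have e5 : f' (H (ι₂ x)) + H' (g' (ι₂ x)) = ι₂ x := LinearMap.congr_fun hH (ι₂ x)
    show ι₂ (f ((s₂ : R) • h₀ x) + (s₁ : R) • h₀' (g x)) = ι₂ (((s₁ : R) * (s₂ : R)) • x)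
    rw [map_add, map_smul, map_smul, map_smul, map_smul, e1, e2, e3, e4, map_smul, smul_smul,
      smul_smul, mul_comm (s₂ : R) (s₁ : R), ← smul_add, e5]
  obtain ⟨s₃, hs₃⟩ :=
    Module.Finite.exists_smul_of_comp_eq_of_isLocalizedModule S ι₂ _ _ key
  rw [Submonoid.smul_def, Submonoid.smul_def] at hs₃
  refine ⟨s₃ * (s₁ * s₂), (s₃ : R) • ((s₂ : R) • h₀), (s₃ : R) • ((s₁ : R) • h₀'), ?_⟩
  have h1 : f ∘ₗ ((s₃ : R) • ((s₂ : R) • h₀)) + ((s₃ : R) • ((s₁ : R) • h₀')) ∘ₗ g =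
      (s₃ : R) • (f ∘ₗ ((s₂ : R) • h₀) + ((s₁ : R) • h₀') ∘ₗ g) := by
    rw [LinearMap.comp_smul, LinearMap.smul_comp, smul_add]
  rw [h1, hs₃, Submonoid.coe_mul, Submonoid.coe_mul, smul_smul]

end Spread

section Conseq

variable {R : Type*} [CommRing R]
  {M₁ M₂ M₃ : Type*} [AddCommGroup M₁] [AddCommGroup M₂] [AddCommGroup M₃]
  [Module R M₁] [Module R M₂] [Module R M₃]
  (f : M₁ →ₗ[R] M₂) (g : M₂ →ₗ[R] M₃) (hgf : g ∘ₗ f = 0)
  (h : M₂ →ₗ[R] M₁) (h' : M₃ →ₗ[R] M₂) (u : R) (hu : IsUnit u)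
  (hh : f ∘ₗ h + h' ∘ₗ g = u • LinearMap.id)

include hu hh in
theorem ker_le_range_of_homotopy : LinearMap.ker g ≤ LinearMap.range f := by
  intro x hx
  obtain ⟨v, rfl⟩ := hu
  have h1 : f (h x) + h' (g x) = (v : R) • x := LinearMap.congr_fun hh x
  rw [LinearMap.mem_ker.mp hx, map_zero, add_zero] at h1
  refine ⟨(↑v⁻¹ : R) • h x, ?_⟩
  rw [map_smul, h1, smul_smul, Units.inv_mul, one_smul]

include hgf hu hh in
theorem projective_coker_of_homotopy [Module.Projective R M₃] :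
    Module.Projective R (M₃ ⧸ LinearMap.range g) := by
  obtain ⟨v, rfl⟩ := hu
  let π : M₃ →ₗ[R] M₃ := (↑v⁻¹ : R) • (g ∘ₗ h')
  have hπg : ∀ y, π (g y) = g y := by
    intro y
    have h1 : f (h y) + h' (g y) = (v : R) • y := LinearMap.congr_fun hh y
    have h2 : g (f (h y)) = 0 := LinearMap.congr_fun hgf (h y)
    have h3 : g (h' (g y)) = (v : R) • g y := by
      have h4 := congrArg g h1
      rw [map_add, h2, zero_add, map_smul] at h4
      exact h4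
    show (↑v⁻¹ : R) • g (h' (g y)) = g y
    rw [h3, smul_smul, Units.inv_mul, one_smul]
  have hπr : ∀ y, π y ∈ LinearMap.range g := fun y =>
    ⟨(↑v⁻¹ : R) • h' y, by rw [map_smul]; rfl⟩
  let i : (M₃ ⧸ LinearMap.range g) →ₗ[R] M₃ :=
    (LinearMap.range g).liftQ (LinearMap.id - π) (by
      rintro _ ⟨y, rfl⟩
      rw [LinearMap.mem_ker, LinearMap.sub_apply, LinearMap.id_apply, hπg, sub_self])
  refine Module.Projective.of_split i (LinearMap.range g).mkQ ?_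
  ext y
  show (LinearMap.range g).mkQ (y - π y) = (LinearMap.range g).mkQ y
  rw [map_sub, sub_eq_self, Submodule.mkQ_apply, Submodule.Quotient.mk_eq_zero]
  exact hπr y

end Conseq

end Groth.Agent.Helper11.SplitTr
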