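import Groth.Agent.Lib.Helper11.LocalPerf6
import Groth.Agent.Lib.Helper11.Dev2
import Groth.Agent.Lib.Helper11.SplitTr2
import Mathlib.RingTheory.Localization.BaseChange

/-!
A contracting homotopy in one degree near a prime from the vanishing of the fibre cohomology
(helper11).
-/

set_option autoImplicit false

open CategoryTheory Category Limits Pretriangulated DerivedCategory ZeroObject

attribute [local instance] HasDerivedCategory.standard

universe u

namespace Groth.Agent.Helper11.SplitTr

open Groth.Agent.Helper11.DC Groth.Agent.Helper11.MPC Groth.Agent.Helper11.TA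
  Groth.Agent.Helper11.LDer Groth.Agent.Helper11.LocalPerf

open TensorProduct

section Unit

variable {R A : Type u} [CommRing R] [CommRing A] [Algebra R A]

/-- `A` with its algebra module structure vs. restriction of scalars -/
noncomputable def e₁U :
    A ≃ₗ[R] ((ModuleCat.restrictScalars.{u} (algebraMap R A)).obj (ModuleCat.of A A)) :=
  { toFun := fun x => x
    invFun := fun x => x
    map_add' := fun _ _ => rfl
    map_smul' := fun r x => by
      show r • x = algebraMap R A r * x
      rw [Algebra.smul_def]
    left_inv := fun _ => rfl
    right_inv := fun _ => rfl }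

theorem smul_eq_U (M : ModuleCat.{u} R) (r : R)
    (x : TensorProduct R ((ModuleCat.restrictScalars.{u} (algebraMap R A)).obj (ModuleCat.of A A))
      M) :
    (show (ModuleCat.extendScalars.{u,u,u} (algebraMap R A)).obj M from r • x) =
      (algebraMap R A r) •
        (show (ModuleCat.extendScalars.{u,u,u} (algebraMap R A)).obj M from x) := by
  induction x using TensorProduct.induction_on with
  | zero =>
    have h1 : r • (0 : TensorProduct R
        ((ModuleCat.restrictScalars.{u} (algebraMap R A)).obj (ModuleCat.of A A)) M) = 0 :=
      smul_zero r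
    have h2 : (algebraMap R A r) •
        (0 : (ModuleCat.extendScalars.{u,u,u} (algebraMap R A)).obj M) = 0 := smul_zero _
    exact h1.trans h2.symm
  | tmul a m => rfl
  | add x y hx hy =>
    have h1 : r • (x + y) = r • x + r • y := smul_add r x y
    have h2 : (algebraMap R A r) •
        ((show (ModuleCat.extendScalars.{u,u,u} (algebraMap R A)).obj M from x) +
          (show (ModuleCat.extendScalars.{u,u,u} (algebraMap R A)).obj M from y)) =
        (algebraMap R A r) •
          (show (ModuleCat.extendScalars.{u,u,u} (algebraMap R A)).obj M from x) +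
        (algebraMap R A r) •
          (show (ModuleCat.extendScalars.{u,u,u} (algebraMap R A)).obj M from y) :=
      smul_add _ _ _
    have h3 : (show (ModuleCat.extendScalars.{u,u,u} (algebraMap R A)).obj M from r • x) +
        (show (ModuleCat.extendScalars.{u,u,u} (algebraMap R A)).obj M from r • y) =
        (algebraMap R A r) •
          (show (ModuleCat.extendScalars.{u,u,u} (algebraMap R A)).obj M from x) +
        (algebraMap R A r) •
          (show (ModuleCat.extendScalars.{u,u,u} (algebraMap R A)).obj M from y) := by
      rw [hx, hy]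
    exact h1.trans (h3.trans h2.symm)

/-- the tensor product `A ⊗[R] M` as the restriction of scalars of the extension of scalars -/
noncomputable def eU (M : ModuleCat.{u} R) :
    (A ⊗[R] M) ≃ₗ[R] ((ModuleCat.restrictScalars.{u} (algebraMap R A)).obj
      ((ModuleCat.extendScalars.{u,u,u} (algebraMap R A)).obj M)) :=
  (TensorProduct.congr e₁U (LinearEquiv.refl R M)).trans
    { toFun := fun x => x
      invFun := fun x => x
      map_add' := fun _ _ => rfl
      map_smul' := fun r x => smul_eq_U M r x
      left_inv := fun _ => rfl
      right_inv := fun _ => rfl }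

/-- the unit map `M → A ⊗ M` -/
noncomputable def ιU (M : ModuleCat.{u} R) :
    M →ₗ[R] ((ModuleCat.restrictScalars.{u} (algebraMap R A)).obj
      ((ModuleCat.extendScalars.{u,u,u} (algebraMap R A)).obj M)) :=
  ((ModuleCat.extendRestrictScalarsAdj.{u,u,u} (algebraMap R A)).unit.app M).hom

theorem ιU_eq (M : ModuleCat.{u} R) :
    (ιU M : M →ₗ[R] ((ModuleCat.restrictScalars.{u} (algebraMap R A)).obj
      ((ModuleCat.extendScalars.{u,u,u} (algebraMap R A)).obj M))) =
      (eU M).toLinearMap ∘ₗ TensorProduct.mk R A M 1 := by
  ext m
  rfl

/-- the unit of the extension/restriction adjunction is a localization map -/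
theorem isLocalizedModule_unit (S : Submonoid R) [IsLocalization S A] (M : ModuleCat.{u} R) :
    IsLocalizedModule S (ιU (A := A) M) := by
  rw [ιU_eq]
  exact IsLocalizedModule.of_linearEquiv S (TensorProduct.mk R A M 1) (eU M)

end Unit

section LocalStep

variable {R : Type u} [CommRing R] (p : Ideal R) [p.IsPrime]

/-- if `H^i(F ⊗ κ(p)) = 0` for a complex `F` of finite free modules, then `F` has a contracting
homotopy in degree `i` up to multiplication by some `s ∉ p` -/
theorem exists_homotopy_of_fibre (F : DRing.Cx R) (hFf : DRing.TermwiseFiniteFree F) (i : ℤ)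
    (hz : IsZero (((esC (algebraMap R p.ResidueField)).obj F).homology i)) :
    ∃ (s : R) (_ : s ∉ p) (h : F.X i →ₗ[R] F.X (i - 1)) (h' : F.X (i + 1) →ₗ[R] F.X i),
      (F.d (i - 1) i).hom ∘ₗ h + h' ∘ₗ (F.d i (i + 1)).hom = s • LinearMap.id := by
  have hzE : IsZero ((homologyFunctor
      (ModuleCat.{u} (IsLocalRing.ResidueField (Localization.AtPrime p))) i).obj
      (Q.obj ((esC (IsLocalRing.residue (Localization.AtPrime p))).obj
        ((esC (algebraMap R (Localization.AtPrime p))).obj F)))) := by
    rw [isZero_homology_Q_iff_exactAt, HomologicalComplex.exactAt_iff_isZero_homology]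
    exact hz.of_iso ((HomologicalComplex.homologyFunctor _ _ i).mapIso
      (esCCompIso (algebraMap R (Localization.AtPrime p))
        (IsLocalRing.residue (Localization.AtPrime p)) F).symm)
  have hex := hex_of_isZero ((esC (algebraMap R (Localization.AtPrime p))).obj F)
    (i - 1) i (i + 1) (by omega) rfl hzE
  haveI : ∀ j, Module.Finite (Localization.AtPrime p)
      (((esC (algebraMap R (Localization.AtPrime p))).obj F).X j) := fun j => by
    haveI := (hFf j).1
    exact es_finite (algebraMap R (Localization.AtPrime p)) (F.X j)
  haveI : ∀ j, Module.Free (Localization.AtPrime p)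
      (((esC (algebraMap R (Localization.AtPrime p))).obj F).X j) := fun j => by
    haveI := (hFf j).2
    exact es_free (algebraMap R (Localization.AtPrime p)) (F.X j)
  have hgf : (((esC (algebraMap R (Localization.AtPrime p))).obj F).d i (i + 1)).hom ∘ₗ
      (((esC (algebraMap R (Localization.AtPrime p))).obj F).d (i - 1) i).hom = 0 := by
    ext x
    exact congr($(((esC (algebraMap R (Localization.AtPrime p))).obj F).d_comp_d
      (i - 1) i (i + 1)) x)
  obtain ⟨Hp, Hp', hH⟩ := exists_homotopy_of_local _ _ hgf hex
  haveI := fun j => isLocalizedModule_unit (A := Localization.AtPrime p) p.primeCompl (F.X j)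
  haveI : ∀ j, Module.Finite R (F.X j) := fun j => (hFf j).1
  haveI : ∀ j, Module.Free R (F.X j) := fun j => (hFf j).2
  haveI : ∀ j, Module.FinitePresentation R (F.X j) := fun j =>
    Module.finitePresentation_of_projective R _
  obtain ⟨s, h, h', hh⟩ := exists_homotopy_of_localized p.primeCompl
    (ιU (A := Localization.AtPrime p) (F.X (i - 1))) (ιU (A := Localization.AtPrime p) (F.X i))
    (ιU (A := Localization.AtPrime p) (F.X (i + 1)))
    (F.d (i - 1) i).hom (F.d i (i + 1)).hom
    ((ModuleCat.restrictScalars.{u} (algebraMap R (Localization.AtPrime p))).map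
      (((esC (algebraMap R (Localization.AtPrime p))).obj F).d (i - 1) i)).hom
    ((ModuleCat.restrictScalars.{u} (algebraMap R (Localization.AtPrime p))).map
      (((esC (algebraMap R (Localization.AtPrime p))).obj F).d i (i + 1))).hom
    (LinearMap.ext fun x => rfl) (LinearMap.ext fun x => rfl)
    ((ModuleCat.restrictScalars.{u} (algebraMap R (Localization.AtPrime p))).map
      (ModuleCat.ofHom Hp)).hom
    ((ModuleCat.restrictScalars.{u} (algebraMap R (Localization.AtPrime p))).map
      (ModuleCat.ofHom Hp')).hom
    (LinearMap.ext fun x => LinearMap.congr_fun hH x)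
  exact ⟨s, s.2, h, h', hh⟩

end LocalStep

end Groth.Agent.Helper11.SplitTr
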