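import Groth.Agent.Lib.Helper11.SplitTr1
import Groth.Agent.Lib.Helper11.SplitTr3

/-!
Splitting off the truncation `τ_{≥ i+1}` of a pseudo-coherent complex near a prime where the
`i`-th cohomology of the derived fibre vanishes (helper11).
-/

set_option autoImplicit false

open CategoryTheory Category Limits Pretriangulated DerivedCategory ZeroObject

attribute [local instance] HasDerivedCategory.standard

universe u

namespace Groth.Agent.Helper11.SplitTr

open Groth.Agent.Helper11.DC Groth.Agent.Helper11.MPC Groth.Agent.Helper11.TA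
  Groth.Agent.Helper11.LDer Groth.Agent.Helper11.LocalPerf Groth.Agent.Helper11.SubCx

open TensorProduct

section Away

variable {R A : Type u} [CommRing R] [CommRing A] (φ : R →+* A)

open ChangeOfRings in
set_option backward.isDefEq.respectTransparency false in
/-- a contracting homotopy up to `s` base changes to a contracting homotopy up to `φ s` -/
theorem es_homotopy (F : DRing.Cx R) (i : ℤ) (s : R)
    (h : F.X i ⟶ F.X (i - 1)) (h' : F.X (i + 1) ⟶ F.X i)
    (hh : (F.d (i - 1) i).hom ∘ₗ h.hom + h'.hom ∘ₗ (F.d i (i + 1)).hom = s • LinearMap.id) :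
    ((es φ).map (F.d (i - 1) i)).hom ∘ₗ ((es φ).map h).hom +
      ((es φ).map h').hom ∘ₗ ((es φ).map (F.d i (i + 1))).hom =
      φ s • LinearMap.id := by
  have key : (es φ).map h ≫ (es φ).map (F.d (i - 1) i) +
      (es φ).map (F.d i (i + 1)) ≫ (es φ).map h' =
      φ s • 𝟙 ((es φ).obj (F.X i)) := by
    apply ModuleCat.ExtendScalars.hom_ext
    intro m
    have e1 : (F.d (i - 1) i).hom (h.hom m) + h'.hom ((F.d i (i + 1)).hom m) = s • m :=
      LinearMap.congr_fun hh m
    show (1 : A) ⊗ₜ[R,φ] ((F.d (i - 1) i).hom (h.hom m)) +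
      (1 : A) ⊗ₜ[R,φ] (h'.hom ((F.d i (i + 1)).hom m)) = (φ s * 1) ⊗ₜ[R,φ] m
    letI : Module R A := Module.compHom A φ
    rw [← TensorProduct.tmul_add, e1]
    exact (TensorProduct.smul_tmul s (1 : A) m).symm
  exact LinearMap.ext fun x => congr($(key).hom x)

theorem away_ker_le_range (F : DRing.Cx R) (i : ℤ) (s : R)
    (h : F.X i ⟶ F.X (i - 1)) (h' : F.X (i + 1) ⟶ F.X i)
    (hh : (F.d (i - 1) i).hom ∘ₗ h.hom + h'.hom ∘ₗ (F.d i (i + 1)).hom = s • LinearMap.id)
    (hs : IsUnit (φ s)) :
    LinearMap.ker (((esC φ).obj F).d i (i + 1)).hom ≤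
      LinearMap.range (((esC φ).obj F).d (i - 1) i).hom :=
  ker_le_range_of_homotopy ((es φ).map (F.d (i - 1) i)).hom ((es φ).map (F.d i (i + 1))).hom
    _ _ (φ s) hs (es_homotopy φ F i s h h' hh)

theorem away_projective_coker (F : DRing.Cx R) (i : ℤ) (s : R)
    (h : F.X i ⟶ F.X (i - 1)) (h' : F.X (i + 1) ⟶ F.X i)
    (hh : (F.d (i - 1) i).hom ∘ₗ h.hom + h'.hom ∘ₗ (F.d i (i + 1)).hom = s • LinearMap.id)
    (hs : IsUnit (φ s)) [Module.Projective A ((es φ).obj (F.X (i + 1)))] :
    Module.Projective A (((esC φ).obj F).X (i + 1) ⧸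
      LinearMap.range (((esC φ).obj F).d i (i + 1)).hom) := by
  have hgf : (((esC φ).obj F).d i (i + 1)).hom ∘ₗ (((esC φ).obj F).d (i - 1) i).hom = 0 := by
    ext x
    exact congr($(((esC φ).obj F).d_comp_d (i - 1) i (i + 1)) x)
  exact projective_coker_of_homotopy ((es φ).map (F.d (i - 1) i)).hom
    ((es φ).map (F.d i (i + 1))).hom hgf _ _ (φ s) hs (es_homotopy φ F i s h h' hh)

end Away

section Derived

variable {A : Type u} [CommRing A]

/-- a morphism `P → Y[1]` in the derived category from a K-projective complex vanishes if in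
each degree one of the two complexes is zero -/
theorem eq_zero_of_lift {P Y : DRing.Cx A} [P.IsKProjective]
    (δ : Q.obj P ⟶ (Q.obj Y)⟦(1 : ℤ)⟧)
    (h : ∀ k : ℤ, IsZero (P.X k) ∨ IsZero (Y.X (k + 1))) : δ = 0 := by
  let c : Q.obj (Y⟦(1 : ℤ)⟧) ≅ (Q.obj Y)⟦(1 : ℤ)⟧ := (Q.commShiftIso (1 : ℤ)).app Y
  obtain ⟨f, hf⟩ := exists_lift_of_isKProjective P (Y⟦(1 : ℤ)⟧) (δ ≫ c.inv)
  have hf0 : f = 0 := by
    ext k : 1
    rcases h k with hk | hk
    · exact hk.eq_of_src _ _
    · exact IsZero.eq_of_tgt hk _ _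
  calc δ = (δ ≫ c.inv) ≫ c.hom := by rw [assoc, Iso.inv_hom_id, comp_id]
    _ = Q.map f ≫ c.hom := by rw [hf]
    _ = 0 := by rw [hf0, CategoryTheory.Functor.map_zero, zero_comp]

theorem S_exactAt' (E : DRing.Cx A) (a k : ℤ)
    (hE : k < a →
      LinearMap.ker (E.d k (k + 1)).hom ≤ LinearMap.range (E.d (k - 1) k).hom) :
    (S E a).ExactAt k := by
  refine exactAt_of_ker_le_range (S E a) (k - 1) k (k + 1) (by omega) rfl ?_
  intro x hx
  have hx' : (E.d k (k + 1)).hom x.1 = 0 := congrArg Subtype.val hx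
  rcases lt_trichotomy k a with h | h | h
  · obtain ⟨z, hz⟩ := hE h (LinearMap.mem_ker.mpr hx')
    have hzG : z ∈ G E a (k - 1) := by
      rw [G_of_lt E a (by omega)]
      trivial
    exact ⟨⟨z, hzG⟩, Subtype.ext hz⟩
  · have h1 : x.1 ∈ B E k := G_le_B E a (by omega) x.2
    obtain ⟨z, hz⟩ := B_le_range E (k - 1) k (by omega) h1
    have hzG : z ∈ G E a (k - 1) := by
      rw [G_of_lt E a (by omega)]
      trivial
    exact ⟨⟨z, hzG⟩, Subtype.ext hz⟩
  · have h1 : x.1 = 0 := (Submodule.mem_bot A).mp (le_of_eq (G_of_gt E a h) x.2)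
    refine ⟨0, ?_⟩
    rw [map_zero]
    exact (Subtype.ext h1).symm

theorem X₃_isZero_of_lt (E : DRing.Cx A) (a k : ℤ) (hk : k < a) :
    IsZero ((sc E a).X₃.X k) := by
  obtain ⟨e⟩ := nonempty_quot_equiv E a k
  haveI : Subsingleton (E.X k ⧸ G E a k) := by
    rw [G_of_lt E a hk]
    infer_instance
  haveI : Subsingleton ((sc E a).X₃.X k) := e.toEquiv.subsingleton
  exact ModuleCat.isZero_of_subsingleton _

theorem X₃_isZero_of_isZero (E : DRing.Cx A) (a k : ℤ) (h : IsZero (E.X k)) :
    IsZero ((sc E a).X₃.X k) := by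
  obtain ⟨e⟩ := nonempty_quot_equiv E a k
  haveI : Subsingleton (E.X k) := ModuleCat.subsingleton_of_isZero h
  haveI : Subsingleton ((sc E a).X₃.X k) := e.toEquiv.subsingleton
  exact ModuleCat.isZero_of_subsingleton _

theorem X₃_finite_projective (E : DRing.Cx A) (a' a : ℤ) (ha : a' + 1 = a)
    (hfp : ∀ j, Module.Finite A (E.X j) ∧ Module.Projective A (E.X j))
    (hC : Module.Projective A (E.X a ⧸ LinearMap.range (E.d a' a).hom)) (k : ℤ) :
    Module.Finite A ((sc E a).X₃.X k) ∧ Module.Projective A ((sc E a).X₃.X k) := by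
  obtain ⟨e⟩ := nonempty_quot_equiv E a k
  haveI := (hfp k).1
  haveI := (hfp k).2
  suffices h : Module.Projective A (E.X k ⧸ G E a k) from
    ⟨Module.Finite.equiv e.symm, Module.Projective.of_equiv e.symm⟩
  rcases lt_trichotomy k a with h | h | h
  · haveI : Subsingleton (E.X k ⧸ G E a k) := by
      rw [G_of_lt E a h]
      infer_instance
    infer_instance
  · subst h
    have h1 : G E k k = LinearMap.range (E.d a' k).hom := by
      rw [G_self, B_eq_range E a' k ha]
    exact Module.Projective.of_equiv (Submodule.quotEquivOfEq _ _ h1).symm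
  · exact Module.Projective.of_equiv (Submodule.quotEquivOfEqBot _ (G_of_gt E a h)).symm

/-- a bounded above complex of finite projective modules which is exact in degree `i` and whose
`i`-th differential has projective cokernel splits in the derived category as
`τ_{≥ i+1} ⊕ τ_{< i}`, the first summand being perfect -/
theorem split_of_exact_projective (E : DRing.Cx A) (b : ℤ) (hEb : DRing.VanishesAbove E b)
    (hfp : ∀ j, Module.Finite A (E.X j) ∧ Module.Projective A (E.X j)) (i : ℤ)
    (hker : LinearMap.ker (E.d i (i + 1)).hom ≤ LinearMap.range (E.d (i - 1) i).hom)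
    (hC : Module.Projective A (E.X (i + 1) ⧸ LinearMap.range (E.d i (i + 1)).hom))
    (X : Dual.D A) (ε : Q.obj E ≅ X) :
    DRing.IsPerfect A
        (((DerivedCategory.TStructure.t : Triangulated.TStructure (Dual.D A)).truncGE
          (i + 1)).obj X) ∧
      DRing.HasTorAmplitudeIn A (i + 1) b
        (((DerivedCategory.TStructure.t : Triangulated.TStructure (Dual.D A)).truncGE
          (i + 1)).obj X) ∧
      ∀ [HasBinaryBiproduct
          (((DerivedCategory.TStructure.t : Triangulated.TStructure (Dual.D A)).truncGE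
            (i + 1)).obj X)
          (((DerivedCategory.TStructure.t : Triangulated.TStructure (Dual.D A)).truncLT
            i).obj X)],
        ∃ e : X ≅
            ((DerivedCategory.TStructure.t : Triangulated.TStructure (Dual.D A)).truncGE
              (i + 1)).obj X ⊞
            ((DerivedCategory.TStructure.t : Triangulated.TStructure (Dual.D A)).truncLT
              i).obj X,
          e.hom ≫ biprod.fst =
            ((DerivedCategory.TStructure.t : Triangulated.TStructure (Dual.D A)).truncGEπ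
              (i + 1)).app X ∧
          ((DerivedCategory.TStructure.t : Triangulated.TStructure (Dual.D A)).truncLTι
            i).app X ≫ e.hom = biprod.inr := by
  have hSES := sc_shortExact E (i + 1)
  have hT₀ := triangleOfSES_distinguished hSES
  have hPb : DRing.VanishesAbove (sc E (i + 1)).X₃ b := fun k hk =>
    X₃_isZero_of_isZero E (i + 1) k (hEb k hk)
  have hPfp := X₃_finite_projective E i (i + 1) rfl hfp hC
  haveI : (sc E (i + 1)).X₃.IsKProjective :=
    isKProjective_of_vanishesAbove _ b hPb (fun k => (hPfp k).2)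
  let T : Triangle (Dual.D A) := Triangle.mk (Q.map (sc E (i + 1)).f ≫ ε.hom)
    (ε.inv ≫ Q.map (sc E (i + 1)).g) (triangleOfSESδ hSES)
  have iso : triangleOfSES hSES ≅ T := Triangle.isoMk _ _ (Iso.refl _) ε (Iso.refl _)
    (id_comp _).symm
    ((comp_id _).trans (ε.hom_inv_id_assoc _).symm)
    (by
      show triangleOfSESδ hSES ≫
        (shiftFunctor (Dual.D A) (1 : ℤ)).map (𝟙 (Q.obj (sc E (i + 1)).X₁)) =
        𝟙 (Q.obj (sc E (i + 1)).X₃) ≫ triangleOfSESδ hSES
      rw [CategoryTheory.Functor.map_id, comp_id, id_comp])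
  have hT : T ∈ distTriang (Dual.D A) := isomorphic_distinguished _ hT₀ _ iso.symm
  have h₁ : (DerivedCategory.TStructure.t : Triangulated.TStructure (Dual.D A)).IsLE
      T.obj₁ (i - 1) := by
    show (Q.obj (S E (i + 1))).IsLE (i - 1)
    rw [isLE_iff]
    intro k hk
    rw [isZero_homology_Q_iff_exactAt]
    refine S_exactAt' E (i + 1) k (fun hk' => ?_)
    obtain rfl : k = i := by omega
    exact hker
  have h₃ : (DerivedCategory.TStructure.t : Triangulated.TStructure (Dual.D A)).IsGE
      T.obj₃ (i + 1) := by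
    show (Q.obj (sc E (i + 1)).X₃).IsGE (i + 1)
    rw [isGE_iff]
    intro k hk
    exact DC.isZero_homology_of_isZero_X _ k (X₃_isZero_of_lt E (i + 1) k hk)
  have hz : T.mor₃ = 0 := by
    show triangleOfSESδ hSES = 0
    refine eq_zero_of_lift (triangleOfSESδ hSES) (fun k => ?_)
    by_cases hk : k < i + 1
    · exact Or.inl (X₃_isZero_of_lt E (i + 1) k hk)
    · right
      show IsZero ((S E (i + 1)).X (k + 1))
      haveI : Subsingleton ((S E (i + 1)).X (k + 1)) := by
        show Subsingleton (G E (i + 1) (k + 1))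
        rw [G_of_gt E (i + 1) (by omega)]
        infer_instance
      exact ModuleCat.isZero_of_subsingleton _
  obtain ⟨γ, -⟩ := exists_iso_truncGE DerivedCategory.TStructure.t T hT i h₁ h₃
  refine ⟨⟨(sc E (i + 1)).X₃, i + 1, b, ?_, hPfp, ⟨γ⟩⟩,
    ⟨(sc E (i + 1)).X₃, ?_, fun k => ?_, ⟨γ⟩⟩, ?_⟩
  · intro k hk
    rcases hk with hk | hk
    · exact X₃_isZero_of_lt E (i + 1) k hk
    · exact hPb k hk
  · intro k hk
    rcases hk with hk | hk
    · exact X₃_isZero_of_lt E (i + 1) k hk
    · exact hPb k hk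
  · haveI := (hPfp k).2
    infer_instance
  · intro inst
    exact exists_split DerivedCategory.TStructure.t T hT i h₁ h₃ hz

end Derived

end Groth.Agent.Helper11.SplitTr
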