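import Groth.Agent.Lib.Helper11.SplitTr4
import Groth.Agent.Lib.Helper11.DCFlatBC

/-!
Splitting off `τ_{≥ i+1}` of a pseudo-coherent complex on a principal open neighbourhood of a
prime where the `i`-th cohomology of the derived fibre vanishes (helper11).
-/

set_option autoImplicit false

open CategoryTheory Category Limits Pretriangulated DerivedCategory ZeroObject

attribute [local instance] HasDerivedCategory.standard

universe u

namespace Groth.Agent.Helper11.SplitTr

open Groth.Agent.Helper11.DC Groth.Agent.Helper11.MPC Groth.Agent.Helper11.TA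
  Groth.Agent.Helper11.LDer Groth.Agent.Helper11.LocalPerf

theorem exists_away_split_truncations (R : Type u) [CommRing R]
    (p : Ideal R) [p.IsPrime] [DRing.HasLBaseChange (algebraMap R p.ResidueField)] (i : ℤ)
    (K : DRing.Cx R) (hK : DRing.IsPseudoCoherent' R (DRing.toD K))
    (hi : Subsingleton (Dual.HD p.ResidueField
      ((DRing.LBaseChange (algebraMap R p.ResidueField)).obj (DRing.toD K)) i)) :
    ∃ f : R, f ∉ p ∧
      let Kf := DRing.toD (((ModuleCat.extendScalars
        (algebraMap R (Localization.Away f))).mapHomologicalComplex (ComplexShape.up ℤ)).obj K)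
      let t := (DerivedCategory.TStructure.t :
        Triangulated.TStructure (Dual.D (Localization.Away f)))
      let Kge := (t.truncGE (i + 1)).obj Kf
      let Klt := (t.truncLT i).obj Kf
      DRing.IsPerfect (Localization.Away f) Kge ∧
        (∃ b : ℤ, DRing.HasTorAmplitudeIn (Localization.Away f) (i + 1) b Kge) ∧
        ∀ [HasBinaryBiproduct Kge Klt], ∃ e : Kf ≅ Kge ⊞ Klt,
          e.hom ≫ biprod.fst = (t.truncGEπ (i + 1)).app Kf ∧
            (t.truncLTι i).app Kf ≫ e.hom = biprod.inr := by
  obtain ⟨F, b, hFb, hFf, ⟨e⟩⟩ := hK
  have hFproj : ∀ j, Module.Projective R (F.X j) := fun j => by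
    haveI := (hFf j).2
    infer_instance
  haveI : F.IsKProjective := isKProjective_of_vanishesAbove F b hFb hFproj
  have hz : IsZero (((esC (algebraMap R p.ResidueField)).obj F).homology i) :=
    (Dev.subsingleton_HD_LBaseChange_iff (algebraMap R p.ResidueField) F (DRing.toD K) e i).mp hi
  obtain ⟨s, hs, h, h', hh⟩ := exists_homotopy_of_fibre p F hFf i hz
  refine ⟨s, hs, ?_⟩
  have hu : IsUnit (algebraMap R (Localization.Away s) s) :=
    IsLocalization.Away.algebraMap_isUnit s
  have hflat : (algebraMap R (Localization.Away s)).Flat :=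
    RingHom.flat_algebraMap_iff.mpr
      (IsLocalization.flat (Localization.Away s) (Submonoid.powers s))
  have hEb : DRing.VanishesAbove ((esC (algebraMap R (Localization.Away s))).obj F) b :=
    fun k hk => (es (algebraMap R (Localization.Away s))).map_isZero (hFb k hk)
  have hEfp : ∀ j, Module.Finite (Localization.Away s)
        (((esC (algebraMap R (Localization.Away s))).obj F).X j) ∧
      Module.Projective (Localization.Away s)
        (((esC (algebraMap R (Localization.Away s))).obj F).X j) := fun j => by
    haveI := (hFf j).1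
    haveI := hFproj j
    exact ⟨es_finite (algebraMap R (Localization.Away s)) (F.X j),
      es_projective (algebraMap R (Localization.Away s)) (F.X j)⟩
  have hh' : (F.d (i - 1) i).hom ∘ₗ (ModuleCat.ofHom h : F.X i ⟶ F.X (i - 1)).hom +
      (ModuleCat.ofHom h' : F.X (i + 1) ⟶ F.X i).hom ∘ₗ (F.d i (i + 1)).hom =
      s • LinearMap.id := hh
  have hker := away_ker_le_range (algebraMap R (Localization.Away s)) F i s
    (ModuleCat.ofHom h) (ModuleCat.ofHom h') hh' hu
  haveI : Module.Projective (Localization.Away s)
      ((es (algebraMap R (Localization.Away s))).obj (F.X (i + 1))) := (hEfp (i + 1)).2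
  have hC := away_projective_coker (algebraMap R (Localization.Away s)) F i s
    (ModuleCat.ofHom h) (ModuleCat.ofHom h') hh' hu
  haveI := ModuleCat.preservesFiniteLimits_extendScalars_of_flat hflat
  have ε : Q.obj ((esC (algebraMap R (Localization.Away s))).obj F) ≅
      Q.obj ((esC (algebraMap R (Localization.Away s))).obj K) :=
    ((ModuleCat.extendScalars.{u,u,u}
        (algebraMap R (Localization.Away s))).mapDerivedCategoryFactors.app F).symm ≪≫
      (ModuleCat.extendScalars.{u,u,u}
        (algebraMap R (Localization.Away s))).mapDerivedCategory.mapIso e ≪≫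
      (ModuleCat.extendScalars.{u,u,u}
        (algebraMap R (Localization.Away s))).mapDerivedCategoryFactors.app K
  obtain ⟨h1, h2, h3⟩ := split_of_exact_projective
    ((esC (algebraMap R (Localization.Away s))).obj F) b hEb hEfp i hker hC _ ε
  intro Kf t Kge Klt
  exact ⟨h1, ⟨b, h2⟩, h3⟩

end Groth.Agent.Helper11.SplitTr
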