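/-
Finite stratifications by atoms of the Boolean algebra generated by finitely many closed sets
(helper11).
-/
import Mathlib.Topology.LocallyClosed
import Mathlib.Order.Interval.Set.Basic
import Mathlib.Data.Fintype.Powerset

set_option autoImplicit false

namespace Groth.Agent.Helper11

open Set

universe u

/-- The atom of type `σ` for a family of sets `Z`. -/
def atomSet {X : Type u} {m : ℕ} (Z : Fin m → Set X) (σ : (Finset (Fin m))ᵒᵈ) : Set X :=
  {x | ∀ k, x ∈ Z k ↔ k ∈ OrderDual.ofDual σ}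

theorem atomSet_eq {X : Type u} {m : ℕ} (Z : Fin m → Set X) (σ : (Finset (Fin m))ᵒᵈ) :
    atomSet Z σ = (⋃ k ∈ (OrderDual.ofDual σ)ᶜ, Z k)ᶜ ∩ (⋂ k ∈ OrderDual.ofDual σ, Z k) := by
  ext x
  simp only [atomSet, mem_ofPred_eq, mem_inter_iff, mem_compl_iff, mem_iUnion, mem_iInter,
    Finset.mem_compl, exists_prop, not_exists, not_and]
  constructor
  · intro h
    exact ⟨fun k hk hx => hk ((h k).mp hx), fun k hk => (h k).mpr hk⟩
  · rintro ⟨h1, h2⟩ k
    exact ⟨fun hx => by_contra fun hk => h1 k hk hx, h2 k⟩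

theorem exists_stratification_of_closed {X : Type u} [TopologicalSpace X] {m : ℕ}
    (Z : Fin m → Set X) (hZ : ∀ k, IsClosed (Z k)) :
    ∃ (I : Type) (_ : Fintype I) (_ : PartialOrder I) (S : I → Set X),
      (∀ i, ∃ σ : Finset (Fin m), S i = (⋃ k ∈ σᶜ, Z k)ᶜ ∩ (⋂ k ∈ σ, Z k)) ∧
      (⋃ i, S i = Set.univ) ∧ (∀ i j, i ≠ j → Disjoint (S i) (S j)) ∧
      (∀ j, closure (S j) ⊆ ⋃ i ∈ Set.Iic j, S i) ∧
      (∀ i k, (S i ∩ Z k).Nonempty → S i ⊆ Z k) ∧
      (∀ i k, (S i ∩ (Z k)ᶜ).Nonempty → S i ⊆ (Z k)ᶜ) := by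
  classical
  refine ⟨(Finset (Fin m))ᵒᵈ, inferInstance, inferInstance, atomSet Z, ?_, ?_, ?_, ?_, ?_, ?_⟩
  · intro σ
    exact ⟨OrderDual.ofDual σ, atomSet_eq Z σ⟩
  · rw [eq_univ_iff_forall]
    intro x
    refine mem_iUnion.mpr ⟨OrderDual.toDual (Finset.univ.filter fun k => x ∈ Z k), ?_⟩
    intro k
    simp
  · intro σ τ hne
    rw [Set.disjoint_left]
    intro x hx hx'
    apply hne
    apply OrderDual.ofDual.injective
    ext k
    rw [← hx k, ← hx' k]
  · intro σ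
    have h1 : closure (atomSet Z σ) ⊆ ⋂ k ∈ OrderDual.ofDual σ, Z k := by
      refine closure_minimal ?_ (isClosed_biInter fun k _ => hZ k)
      rw [atomSet_eq]
      exact inter_subset_right
    refine h1.trans ?_
    intro x hx
    simp only [mem_iInter] at hx
    simp only [mem_iUnion, exists_prop]
    refine ⟨OrderDual.toDual (Finset.univ.filter fun k => x ∈ Z k), ?_, ?_⟩
    · rw [mem_Iic, OrderDual.toDual_le]
      intro k hk
      simp only [Finset.mem_filter, Finset.mem_univ, true_and]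
      exact hx k hk
    · intro k
      simp
  · rintro σ k ⟨x, hx, hxk⟩ y hy
    exact (hy k).mpr ((hx k).mp hxk)
  · rintro σ k ⟨x, hx, hxk⟩ y hy hyk
    exact hxk ((hx k).mpr ((hy k).mp hyk))

end Groth.Agent.Helper11
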