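import Groth.Agent.Lib.Helper11.MinCx1
import Groth.Agent.Lib.Helper11.ProjResTower
import Mathlib.Algebra.DirectSum.Module

/-!
K-projective resolutions of unbounded complexes: the termwise direct sum of a sequence of
complexes (helper11).
-/

set_option autoImplicit false

open CategoryTheory CategoryTheory.Limits DirectSum CochainComplex HomComplex

universe u

namespace Groth.Agent.Helper11.Tel

variable {A : Type u} [CommRing A] (P : ℕ → DRing.Cx A)

/-- the termwise direct sum complex -/
noncomputable abbrev Scx : DRing.Cx A where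
  X j := ModuleCat.of A (⨁ n, (P n).X j)
  d i j := ModuleCat.ofHom (DirectSum.lmap (fun n => ((P n).d i j).hom))
  shape i j h := by
    refine ModuleCat.hom_ext (DirectSum.linearMap_ext A (fun n => LinearMap.ext fun x => ?_))
    show DirectSum.lmap (fun n => ((P n).d i j).hom) (DirectSum.lof A ℕ _ n x) = 0
    rw [DirectSum.lmap_lof, (P n).shape i j h]
    exact map_zero _
  d_comp_d' i j k _ _ := by
    refine ModuleCat.hom_ext (DirectSum.linearMap_ext A (fun n => LinearMap.ext fun x => ?_))
    show DirectSum.lmap (fun n => ((P n).d j k).hom)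
      (DirectSum.lmap (fun n => ((P n).d i j).hom) (DirectSum.lof A ℕ _ n x)) = 0
    rw [DirectSum.lmap_lof, DirectSum.lmap_lof]
    have h : ((P n).d j k).hom (((P n).d i j).hom x) = 0 := congr($((P n).d_comp_d i j k).hom x)
    rw [h]
    exact map_zero _

theorem Scx_d_apply (i j : ℤ) (s : ⨁ n, (P n).X i) :
    ((Scx P).d i j).hom s = DirectSum.lmap (fun n => ((P n).d i j).hom) s := rfl

theorem Scx_d_lof (i j : ℤ) (n : ℕ) (x : (P n).X i) :
    ((Scx P).d i j).hom (DirectSum.lof A ℕ (fun n => (P n).X i) n x) =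
      DirectSum.lof A ℕ (fun n => (P n).X j) n (((P n).d i j).hom x) :=
  DirectSum.lmap_lof (fun n => ((P n).d i j).hom) n x

/-- the inclusions -/
noncomputable def ι (n : ℕ) : P n ⟶ Scx P where
  f j := ModuleCat.ofHom (DirectSum.lof A ℕ (fun n => (P n).X j) n)
  comm' i j _ := by
    refine ModuleCat.hom_ext (LinearMap.ext fun x => ?_)
    exact (Scx_d_lof P i j n x)

theorem ι_apply (n : ℕ) (j : ℤ) (x : (P n).X j) :
    ((ι P n).f j).hom x = DirectSum.lof A ℕ (fun n => (P n).X j) n x := rfl

variable {P}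

/-- the induced map out of the direct sum -/
noncomputable def desc {L : DRing.Cx A} (φ : ∀ n, P n ⟶ L) : Scx P ⟶ L where
  f j := ModuleCat.ofHom (DirectSum.toModule A ℕ (L.X j) (fun n => ((φ n).f j).hom))
  comm' i j _ := by
    refine ModuleCat.hom_ext (DirectSum.linearMap_ext A (fun n => LinearMap.ext fun x => ?_))
    show (L.d i j).hom (DirectSum.toModule A ℕ (L.X i) (fun n => ((φ n).f i).hom)
        (DirectSum.lof A ℕ _ n x)) =
      DirectSum.toModule A ℕ (L.X j) (fun n => ((φ n).f j).hom)
        (((Scx P).d i j).hom (DirectSum.lof A ℕ _ n x))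
    rw [Scx_d_lof, DirectSum.toModule_lof, DirectSum.toModule_lof]
    exact congr($((φ n).comm i j).hom x)

theorem desc_lof {L : DRing.Cx A} (φ : ∀ n, P n ⟶ L) (j : ℤ) (n : ℕ) (x : (P n).X j) :
    ((desc φ).f j).hom (DirectSum.lof A ℕ (fun n => (P n).X j) n x) = ((φ n).f j).hom x :=
  DirectSum.toModule_lof _ _ _

theorem ι_desc {L : DRing.Cx A} (φ : ∀ n, P n ⟶ L) (n : ℕ) : ι P n ≫ desc φ = φ n := by
  ext j : 1
  refine ModuleCat.hom_ext (LinearMap.ext fun x => ?_)
  exact desc_lof φ j n x

theorem hom_ext {L : DRing.Cx A} {f g : Scx P ⟶ L} (h : ∀ n, ι P n ≫ f = ι P n ≫ g) : f = g := by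
  ext j : 1
  refine ModuleCat.hom_ext (DirectSum.linearMap_ext A (fun n => LinearMap.ext fun x => ?_))
  exact congr($(h n).f j |>.hom x)

/-- the cochain out of the direct sum induced by a family of cochains -/
noncomputable def descCochain {L : DRing.Cx A} {m : ℤ} (z : ∀ n, Cochain (P n) L m) :
    Cochain (Scx P) L m :=
  Cochain.mk (fun p q hpq =>
    ModuleCat.ofHom (DirectSum.toModule A ℕ (L.X q) (fun n => ((z n).v p q hpq).hom)))

theorem descCochain_v_lof {L : DRing.Cx A} {m : ℤ} (z : ∀ n, Cochain (P n) L m) (p q : ℤ)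
    (hpq : p + m = q) (n : ℕ) (x : (P n).X p) :
    ((descCochain z).v p q hpq).hom (DirectSum.lof A ℕ (fun n => (P n).X p) n x) =
      ((z n).v p q hpq).hom x :=
  DirectSum.toModule_lof _ _ _

end Groth.Agent.Helper11.Tel
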