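import Groth.Agent.Lib.Helper11.Tel1
import Mathlib.Algebra.Homology.HomotopyCategory.KProjective

/-!
K-projective resolutions of unbounded complexes: K-projectivity of direct sums and telescopes
(helper11).
-/

set_option autoImplicit false

open CategoryTheory CategoryTheory.Limits DirectSum CochainComplex HomComplex

universe u

namespace Groth.Agent.Helper11.Tel

variable {A : Type u} [CommRing A] {P : ℕ → DRing.Cx A}

theorem descCochain_ofHom {L : DRing.Cx A} (φ : ∀ n, P n ⟶ L) :
    descCochain (fun n => Cochain.ofHom (φ n)) = Cochain.ofHom (desc φ) := by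
  refine Cochain.ext _ _ (fun p q hpq => ?_)
  obtain rfl : p = q := by omega
  refine ModuleCat.hom_ext (DirectSum.linearMap_ext A (fun n => LinearMap.ext fun x => ?_))
  show ((descCochain (fun n => Cochain.ofHom (φ n))).v p p hpq).hom
    (DirectSum.lof A ℕ (fun n => (P n).X p) n x) =
    ((Cochain.ofHom (desc φ)).v p p hpq).hom (DirectSum.lof A ℕ (fun n => (P n).X p) n x)
  rw [descCochain_v_lof, Cochain.ofHom_v, Cochain.ofHom_v, desc_lof]

theorem desc_ι_comp {L : DRing.Cx A} (f : Scx P ⟶ L) : desc (fun n => ι P n ≫ f) = f :=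
  hom_ext (fun n => ι_desc _ n)

theorem δ_descCochain {L : DRing.Cx A} (m m' : ℤ) (z : ∀ n, Cochain (P n) L m) :
    δ m m' (descCochain z) = descCochain (fun n => δ m m' (z n)) := by
  by_cases hmm : m + 1 = m'
  · refine Cochain.ext _ _ (fun p q hpq => ?_)
    refine ModuleCat.hom_ext (DirectSum.linearMap_ext A (fun n => LinearMap.ext fun x => ?_))
    show ((δ m m' (descCochain z)).v p q hpq).hom (DirectSum.lof A ℕ (fun n => (P n).X p) n x) =
      ((descCochain (fun n => δ m m' (z n))).v p q hpq).hom
        (DirectSum.lof A ℕ (fun n => (P n).X p) n x)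
    rw [descCochain_v_lof, δ_v m m' hmm (descCochain z) p q hpq (q - 1) (p + 1) rfl rfl,
      δ_v m m' hmm (z n) p q hpq (q - 1) (p + 1) rfl rfl]
    simp only [ModuleCat.hom_add, ModuleCat.hom_comp, LinearMap.add_apply, LinearMap.comp_apply,
      ModuleCat.hom_smul, LinearMap.smul_apply]
    rw [descCochain_v_lof, Scx_d_lof, descCochain_v_lof]
  · rw [δ_shape m m' hmm]
    refine Cochain.ext _ _ (fun p q hpq => ?_)
    refine ModuleCat.hom_ext (DirectSum.linearMap_ext A (fun n => LinearMap.ext fun x => ?_))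
    show ((0 : Cochain (Scx P) L m').v p q hpq).hom (DirectSum.lof A ℕ (fun n => (P n).X p) n x) =
      ((descCochain (fun n => δ m m' (z n))).v p q hpq).hom
        (DirectSum.lof A ℕ (fun n => (P n).X p) n x)
    rw [descCochain_v_lof, δ_shape m m' hmm]
    rfl

/-- a direct sum of K-projective complexes is K-projective -/
theorem isKProjective_Scx (hP : ∀ n, (P n).IsKProjective) : (Scx P).IsKProjective := by
  refine ⟨fun {L} f hL => ?_⟩
  have hz : ∀ n, ∃ z : Cochain (P n) L (-1), δ (-1) 0 z = Cochain.ofHom (ι P n ≫ f) := fun n => by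
    haveI := hP n
    have h := IsKProjective.homotopyZero (ι P n ≫ f) hL
    obtain ⟨z, hz⟩ := Cochain.equivHomotopy _ _ h
    refine ⟨z, ?_⟩
    rw [hz, Cochain.ofHom_zero, add_zero]
  choose z hz using hz
  refine ⟨(Cochain.equivHomotopy f 0).symm ⟨descCochain z, ?_⟩⟩
  rw [Cochain.ofHom_zero, add_zero, δ_descCochain]
  have h1 : (fun n => δ (-1) 0 (z n)) = fun n => Cochain.ofHom (ι P n ≫ f) := funext hz
  rw [h1, descCochain_ofHom, desc_ι_comp]

end Groth.Agent.Helper11.Tel
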