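import Groth.Agent.Lib.Helper11.Tel2
import Groth.Agent.Lib.Helper11.DCCone
import Mathlib.Algebra.Homology.HomotopyCategory.Pretriangulated
import Mathlib.CategoryTheory.Triangulated.Orthogonal

/-!
K-projective resolutions of unbounded complexes: the telescope and its map to the target
(helper11).
-/

set_option autoImplicit false

open CategoryTheory CategoryTheory.Limits DirectSum CochainComplex HomComplex

universe u

namespace Groth.Agent.Helper11.Tel

variable {A : Type u} [CommRing A]

/-- the mapping cone of a morphism between K-projective complexes is K-projective -/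
theorem isKProjective_mappingCone {K L : DRing.Cx A} (φ : K ⟶ L) [K.IsKProjective]
    [L.IsKProjective] : (mappingCone φ).IsKProjective := by
  rw [isKProjective_iff_leftOrthogonal]
  exact (HomotopyCategory.subcategoryAcyclic (ModuleCat.{u} A)).leftOrthogonal.ext_of_isTriangulatedClosed₃
    _ (HomotopyCategory.mappingCone_triangleh_distinguished φ)
    (IsKProjective.leftOrthogonal K) (IsKProjective.leftOrthogonal L)

theorem projective_mappingCone {K L : DRing.Cx A} (φ : K ⟶ L)
    (hK : ∀ i, Module.Projective A (K.X i)) (hL : ∀ i, Module.Projective A (L.X i)) (i : ℤ) :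
    Module.Projective A ((mappingCone φ).X i) := by
  haveI := hK (i + 1)
  haveI := hL i
  exact Module.Projective.of_equiv (Groth.Agent.Helper11.DC.mappingConeXEquiv φ i).symm

variable {P : ℕ → DRing.Cx A} (g : ∀ n, P n ⟶ P (n + 1))

/-- the shift map of the telescope -/
noncomputable def σ : Scx P ⟶ Scx P := desc (fun n => g n ≫ ι P (n + 1))

theorem ι_σ (n : ℕ) : ι P n ≫ σ g = g n ≫ ι P (n + 1) := ι_desc _ n

theorem σ_lof (j : ℤ) (n : ℕ) (x : (P n).X j) :
    ((σ g).f j).hom (DirectSum.lof A ℕ (fun n => (P n).X j) n x) =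
      DirectSum.lof A ℕ (fun n => (P n).X j) (n + 1) (((g n).f j).hom x) :=
  desc_lof _ j n x

/-- the telescope -/
noncomputable abbrev Tcx : DRing.Cx A := mappingCone (𝟙 (Scx P) - σ g)

theorem isKProjective_Tcx (hP : ∀ n, (P n).IsKProjective) : (Tcx g).IsKProjective := by
  haveI := isKProjective_Scx hP
  exact isKProjective_mappingCone _

theorem projective_Scx (hP : ∀ n i, Module.Projective A ((P n).X i)) (i : ℤ) :
    Module.Projective A ((Scx P).X i) := by
  haveI : ∀ n, Module.Projective A ((P n).X i) := fun n => hP n i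
  exact inferInstanceAs (Module.Projective A (⨁ n, (P n).X i))

theorem projective_Tcx (hP : ∀ n i, Module.Projective A ((P n).X i)) (i : ℤ) :
    Module.Projective A ((Tcx g).X i) :=
  projective_mappingCone _ (projective_Scx hP) (projective_Scx hP) i

variable {C : DRing.Cx A} (f : ∀ n, P n ⟶ C) (h : ∀ n, Homotopy (f n) (g n ≫ f (n + 1)))

/-- the homotopies assembled -/
noncomputable def αc : Cochain (Scx P) C (-1) :=
  descCochain (fun n => (Cochain.equivHomotopy _ _ (h n)).1)

theorem δ_αc : δ (-1) 0 (αc g f h) = Cochain.ofHom ((𝟙 (Scx P) - σ g) ≫ desc f) := by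
  unfold αc
  rw [δ_descCochain]
  have h1 : ∀ n, δ (-1) 0 (Cochain.equivHomotopy _ _ (h n)).1 =
      Cochain.ofHom (f n - g n ≫ f (n + 1)) := fun n => by
    have h2 := (Cochain.equivHomotopy _ _ (h n)).2
    rw [Cochain.ofHom_sub]
    exact eq_sub_of_add_eq h2.symm
  rw [funext h1, descCochain_ofHom]
  congr 1
  apply hom_ext
  intro n
  rw [ι_desc, Preadditive.sub_comp, Preadditive.comp_sub, Category.id_comp, ι_desc,
    ← Category.assoc, ι_σ, Category.assoc, ι_desc]

/-- the map from the telescope -/
noncomputable def Fmap : Tcx g ⟶ C :=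
  mappingCone.desc (𝟙 (Scx P) - σ g) (αc g f h) (desc f) (δ_αc g f h)

end Groth.Agent.Helper11.Tel
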