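import Groth.Agent.Lib.Helper11.Tel5

/-!
K-projective resolutions of unbounded complexes: the telescope map is a quasi-isomorphism
(helper11).
-/

set_option autoImplicit false

open CategoryTheory CategoryTheory.Limits DirectSum CochainComplex HomComplex

universe u

namespace Groth.Agent.Helper11.Tel

open Groth.Agent.Helper12.ModHomology Groth.Agent.Helper11.MinCx

variable {A : Type u} [CommRing A] {P : ℕ → DRing.Cx A} (g : ∀ n, P n ⟶ P (n + 1))
  {C : DRing.Cx A} (f : ∀ n, P n ⟶ C) (h : ∀ n, Homotopy (f n) (g n ≫ f (n + 1)))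

theorem Fmap_inl (p q : ℤ) (hpq : p + (-1) = q) (a : ⨁ n, (P n).X p) :
    ((Fmap g f h).f q).hom (((mappingCone.inl (𝟙 (Scx P) - σ g)).v p q hpq).hom a) =
      ((αc g f h).v p q hpq).hom a := by
  unfold Fmap
  exact desc_inl (𝟙 (Scx P) - σ g) (αc g f h) (desc f) (δ_αc g f h) p q hpq a

theorem Fmap_inr (p : ℤ) (b : ⨁ n, (P n).X p) :
    ((Fmap g f h).f p).hom (((mappingCone.inr (𝟙 (Scx P) - σ g)).f p).hom b) =
      ((desc f).f p).hom b := by
  unfold Fmap
  exact desc_inr (𝟙 (Scx P) - σ g) (αc g f h) (desc f) (δ_αc g f h) p b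

theorem quasiIsoAt_Fmap (hq : ∀ (n : ℕ) (j : ℤ), j ≤ n → QuasiIsoAt (f n) j) (j : ℤ) :
    QuasiIsoAt (Fmap g f h) j := by
  apply quasiIsoAt_of_elementwise
  · -- injectivity
    intro m hm ⟨y₀, hy₀⟩
    -- decompose `m`
    set u : ⨁ n, (P n).X (j + 1) :=
      ((mappingCone.fst (𝟙 (Scx P) - σ g)).1.v j (j + 1) rfl).hom m with hu
    set v : ⨁ n, (P n).X j :=
      ((mappingCone.snd (𝟙 (Scx P) - σ g)).v j j (add_zero _)).hom m with hv
    have hdec : ((mappingCone.inl (𝟙 (Scx P) - σ g)).v (j + 1) j (by omega)).hom u +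
        ((mappingCone.inr (𝟙 (Scx P) - σ g)).f j).hom v = m :=
      cone_decomp _ (j + 1) j rfl m
    -- the differential of `m`
    have hdm : ((Tcx g).d j (j + 1)).hom m =
        ((mappingCone.inl (𝟙 (Scx P) - σ g)).v (j + 1 + 1) (j + 1) (by omega)).hom
          (-((Scx P).d (j + 1) (j + 1 + 1)).hom u) +
        ((mappingCone.inr (𝟙 (Scx P) - σ g)).f (j + 1)).hom
          ((u - sig (gam g (j + 1)) u) + ((Scx P).d j (j + 1)).hom v) := by
      rw [← hdec, map_add, cone_d_inl _ (j + 1) j (j + 1 + 1) (by omega) (by omega),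
        cone_d_inr, one_sub_σ_apply, map_neg, map_add]
      abel
    rw [hm] at hdm
    have h1 : -((Scx P).d (j + 1) (j + 1 + 1)).hom u = 0 := by
      have := cone_fst (𝟙 (Scx P) - σ g) (j + 1 + 1) (j + 1) rfl
        (-((Scx P).d (j + 1) (j + 1 + 1)).hom u)
        ((u - sig (gam g (j + 1)) u) + ((Scx P).d j (j + 1)).hom v)
      rw [← hdm, map_zero] at this
      exact this.symm
    have h2 : (u - sig (gam g (j + 1)) u) + ((Scx P).d j (j + 1)).hom v = 0 := by
      have := cone_snd (𝟙 (Scx P) - σ g) (j + 1 + 1) (j + 1) (by omega)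
        (-((Scx P).d (j + 1) (j + 1 + 1)).hom u)
        ((u - sig (gam g (j + 1)) u) + ((Scx P).d j (j + 1)).hom v)
      rw [← hdm, map_zero] at this
      exact this.symm
    -- Step 1: `u` is a boundary
    obtain ⟨u₁, hu₁⟩ := exists_of_one_sub_sig g j (j + 1) u (-v) (by
      rw [map_neg]
      exact eq_neg_of_add_eq_zero_left h2)
    -- Step 2: the modified cycle
    set v₁ : ⨁ n, (P n).X j := v + (u₁ - sig (gam g j) u₁) with hv₁
    have hdil : ∀ t : ⨁ n, (P n).X j, ((Tcx g).d (j - 1) j).hom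
        (((mappingCone.inl (𝟙 (Scx P) - σ g)).v j (j - 1) rfl).hom t) =
        ((mappingCone.inr (𝟙 (Scx P) - σ g)).f j).hom (t - sig (gam g j) t) -
          ((mappingCone.inl (𝟙 (Scx P) - σ g)).v (j + 1) j (by omega)).hom
            (((Scx P).d j (j + 1)).hom t) := fun t => by
      rw [cone_d_inl _ j (j - 1) (j + 1) rfl (by omega), one_sub_σ_apply]
    have hm₁ : m + ((Tcx g).d (j - 1) j).hom
        (((mappingCone.inl (𝟙 (Scx P) - σ g)).v j (j - 1) rfl).hom u₁) =
        ((mappingCone.inr (𝟙 (Scx P) - σ g)).f j).hom v₁ := by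
      rw [hdil, hu₁, ← hdec, hv₁, map_add]
      abel
    have hdv₁ : ((Scx P).d j (j + 1)).hom v₁ = 0 := by
      have e1 : ((Scx P).d j (j + 1)).hom (u₁ - sig (gam g j) u₁) =
          u - sig (gam g (j + 1)) u := by
        have := hom_comm_apply (𝟙 (Scx P) - σ g) j (j + 1) u₁
        rw [one_sub_σ_apply, hu₁] at this
        exact this.symm.trans (one_sub_σ_apply g (j + 1) u)
      rw [hv₁, map_add, e1]
      exact (add_comm _ _).trans h2
    -- Step 3: push to a high level
    obtain ⟨N₀, hN₀⟩ := exists_bound (A := A) v₁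
    set N : ℕ := max N₀ j.toNat with hN
    have hjN : j ≤ (N : ℤ) := by
      have : j.toNat ≤ N := le_max_right _ _
      omega
    have hVt : Vt (A := A) N v₁ = v₁ := hN₀ N (le_max_left _ _)
    set U : ⨁ n, (P n).X j := Ut (gam g j) N v₁ with hU
    set y : (P N).X j := tau (gam g j) N v₁ with hy
    have hv₁U : v₁ = (U - sig (gam g j) U) + DirectSum.lof A ℕ (fun n => (P n).X j) N y := by
      rw [hU, Ut_sub_sig, hVt]
      abel
    have hdU : ((Scx P).d j (j + 1)).hom U = 0 := by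
      rw [hU, Scx_d_apply, ← Ut_lmap (gam g j) (gam g (j + 1)) (fun n => ((P n).d j (j + 1)).hom)
        (fun n x => gam_comm g j (j + 1) n x)]
      have : DirectSum.lmap (fun n => ((P n).d j (j + 1)).hom) v₁ = 0 := hdv₁
      rw [this]
      unfold Ut
      apply Finset.sum_eq_zero
      intro k _
      rw [map_zero, map_zero]
    have hdy : ((P N).d j (j + 1)).hom y = 0 := by
      rw [hy, ← tau_lmap (gam g j) (gam g (j + 1)) (fun n => ((P n).d j (j + 1)).hom)
        (fun n x => gam_comm g j (j + 1) n x)]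
      have : DirectSum.lmap (fun n => ((P n).d j (j + 1)).hom) v₁ = 0 := hdv₁
      rw [this, map_zero]
    have hirv₁ : ((mappingCone.inr (𝟙 (Scx P) - σ g)).f j).hom v₁ =
        ((Tcx g).d (j - 1) j).hom
          (((mappingCone.inl (𝟙 (Scx P) - σ g)).v j (j - 1) rfl).hom U) +
        ((mappingCone.inr (𝟙 (Scx P) - σ g)).f j).hom
          (DirectSum.lof A ℕ (fun n => (P n).X j) N y) := by
      rw [hdil, hdU, map_zero, sub_zero, ← map_add, ← hv₁U]
    -- Step 4: `f N y` is a boundary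
    have hFd : ∀ t : (Tcx g).X (j - 1), ((Fmap g f h).f j).hom (((Tcx g).d (j - 1) j).hom t) =
        (C.d (j - 1) j).hom (((Fmap g f h).f (j - 1)).hom t) := fun t =>
      hom_comm_apply (Fmap g f h) (j - 1) j t
    have hfy : ∃ y₁ : C.X (j - 1), (C.d (j - 1) j).hom y₁ = ((f N).f j).hom y := by
      refine ⟨y₀ + ((Fmap g f h).f (j - 1)).hom
          (((mappingCone.inl (𝟙 (Scx P) - σ g)).v j (j - 1) rfl).hom u₁) -
        ((Fmap g f h).f (j - 1)).hom
          (((mappingCone.inl (𝟙 (Scx P) - σ g)).v j (j - 1) rfl).hom U), ?_⟩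
      have e1 : ((Fmap g f h).f j).hom (((mappingCone.inr (𝟙 (Scx P) - σ g)).f j).hom
          (DirectSum.lof A ℕ (fun n => (P n).X j) N y)) = ((f N).f j).hom y := by
        rw [Fmap_inr, desc_lof]
      rw [← e1]
      have e2 : ((mappingCone.inr (𝟙 (Scx P) - σ g)).f j).hom
          (DirectSum.lof A ℕ (fun n => (P n).X j) N y) =
          m + ((Tcx g).d (j - 1) j).hom
            (((mappingCone.inl (𝟙 (Scx P) - σ g)).v j (j - 1) rfl).hom u₁) -
          ((Tcx g).d (j - 1) j).hom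
            (((mappingCone.inl (𝟙 (Scx P) - σ g)).v j (j - 1) rfl).hom U) := by
        rw [hm₁, hirv₁]
        abel
      have e3 : ((Fmap g f h).f j).hom (m + ((Tcx g).d (j - 1) j).hom
            (((mappingCone.inl (𝟙 (Scx P) - σ g)).v j (j - 1) rfl).hom u₁) -
          ((Tcx g).d (j - 1) j).hom
            (((mappingCone.inl (𝟙 (Scx P) - σ g)).v j (j - 1) rfl).hom U)) =
          ((Fmap g f h).f j).hom m + (C.d (j - 1) j).hom (((Fmap g f h).f (j - 1)).hom
            (((mappingCone.inl (𝟙 (Scx P) - σ g)).v j (j - 1) rfl).hom u₁)) -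
          (C.d (j - 1) j).hom (((Fmap g f h).f (j - 1)).hom
            (((mappingCone.inl (𝟙 (Scx P) - σ g)).v j (j - 1) rfl).hom U)) := by
        rw [map_sub, map_add, hFd, hFd]
      rw [e2, e3, map_sub, map_add, hy₀]
    haveI := hq N j hjN
    obtain ⟨y', hy'⟩ := inj_of_quasiIsoAt (f N) (j - 1) j (j + 1) (by simp) (by simp) y hdy
      (by
        obtain ⟨y₁, hy₁⟩ := hfy
        exact ⟨y₁, hy₁⟩)
    have hy'' : ((P N).d (j - 1) j).hom y' = y := hy'
    -- Step 5: conclusion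
    refine ⟨((mappingCone.inl (𝟙 (Scx P) - σ g)).v j (j - 1) rfl).hom U +
      ((mappingCone.inr (𝟙 (Scx P) - σ g)).f (j - 1)).hom
        (DirectSum.lof A ℕ (fun n => (P n).X (j - 1)) N y') -
      ((mappingCone.inl (𝟙 (Scx P) - σ g)).v j (j - 1) rfl).hom u₁, ?_⟩
    rw [map_sub, map_add, cone_d_inr, Scx_d_lof, hy'', ← hirv₁, ← hm₁]
    abel
  · -- surjectivity
    intro y hy
    set N : ℕ := j.toNat with hN
    have hjN : j ≤ (N : ℤ) := by omega
    haveI := hq N j hjN
    obtain ⟨x, hx, w, hw⟩ := surj_of_quasiIsoAt (f N) (j - 1) j (j + 1) (by simp) (by simp) y hy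
    have hx' : ((P N).d j (j + 1)).hom x = 0 := hx
    have hw' : (C.d (j - 1) j).hom w = y - ((f N).f j).hom x := hw
    refine ⟨((mappingCone.inr (𝟙 (Scx P) - σ g)).f j).hom
      (DirectSum.lof A ℕ (fun n => (P n).X j) N x), ?_, w, ?_⟩
    · rw [cone_d_inr, Scx_d_lof, hx', map_zero, map_zero]
    · rw [Fmap_inr, desc_lof]
      exact hw'

theorem quasiIso_Fmap (hq : ∀ (n : ℕ) (j : ℤ), j ≤ n → QuasiIsoAt (f n) j) :
    QuasiIso (Fmap g f h) :=
  ⟨fun j => quasiIsoAt_Fmap g f h hq j⟩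

end Groth.Agent.Helper11.Tel
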