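import Mathlib
import Groth.Prelude.Def_StabCat

set_option autoImplicit false
open Polynomial

namespace Groth.Agent.Helper11.TopPartSelf

theorem topPart_self (d : Nat) (P : Polynomial Rat) (h : P.natDegree <= d) :
    StabCat.topPart d d P = P := by
  unfold StabCat.topPart
  rw [Nat.sub_self]
  have hI : Finset.Icc 0 d = Finset.range (d + 1) := by
    ext i
    simp
  rw [hI]
  exact (Polynomial.as_sum_range' P (d + 1) (Nat.lt_succ_of_le h)).symm

end Groth.Agent.Helper11.TopPartSelf
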