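import Mathlib.Topology.Category.TopCommRingCat
import Mathlib.CategoryTheory.Limits.Preserves.Basic
import Mathlib.Topology.Algebra.Ring.Basic
import Mathlib.Algebra.Category.Ring.Colimits

/-!
# Colimits of topological commutative rings
-/

namespace Groth.Agent.Helper11.TCR

open CategoryTheory CategoryTheory.Limits

universe u

section General

variable {R S : Type*} [CommRing R] [CommRing S]

/-- The topology induced by a ring homomorphism to a topological ring is a ring topology. -/
theorem isTopologicalRing_induced [tS : TopologicalSpace S] [IsTopologicalRing S] (g : R →+* S) :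
    @IsTopologicalRing R (tS.induced g) _ := by
  letI : TopologicalSpace R := tS.induced g
  have hg : Topology.IsInducing g := ⟨rfl⟩
  exact
    { toContinuousAdd := hg.continuousAdd g
      toContinuousMul := hg.continuousMul g
      toContinuousNeg := hg.continuousNeg (map_neg g) }

/-- The infimum of a set of ring topologies is a ring topology. -/
theorem isTopologicalRing_sInf {ts : Set (TopologicalSpace R)}
    (h : ∀ t ∈ ts, @IsTopologicalRing R t _) : @IsTopologicalRing R (sInf ts) _ := by
  letI : TopologicalSpace R := sInf ts
  exact
    { toContinuousAdd := continuousAdd_sInf fun t ht =>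
        letI := t; (h t ht).toIsTopologicalSemiring.toContinuousAdd
      toContinuousMul := continuousMul_sInf fun t ht =>
        letI := t; (h t ht).toIsTopologicalSemiring.toContinuousMul
      toContinuousNeg := continuousNeg_sInf fun t ht =>
        letI := t; (h t ht).toContinuousNeg }

end General

variable {J : Type u} [Category.{u} J] (F : J ⥤ TopCommRingCat.{u})

/-- The underlying diagram of rings. -/
abbrev G : J ⥤ CommRingCat.{u} := F ⋙ forget₂ TopCommRingCat.{u} CommRingCat.{u}

/-- The coprojections as ring homomorphisms. -/
noncomputable def inc (j : J) : F.obj j →+* (colimit (G F) : CommRingCat.{u}) :=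
  (colimit.ι (G F) j).hom

/-- Ring topologies on the colimit ring making all coprojections continuous. -/
def topSet : Set (TopologicalSpace (colimit (G F) : CommRingCat.{u})) :=
  {t | @IsTopologicalRing _ t _ ∧
    ∀ j, @Continuous _ _ (F.obj j).isTopologicalSpace t (inc F j)}

/-- The colimit topology. -/
noncomputable def colimTop : TopologicalSpace (colimit (G F) : CommRingCat.{u}) := sInf (topSet F)

theorem isTopologicalRing_colimTop : @IsTopologicalRing _ (colimTop F) _ :=
  isTopologicalRing_sInf fun _ ht => ht.1

theorem continuous_inc (j : J) :
    @Continuous _ _ (F.obj j).isTopologicalSpace (colimTop F) (inc F j) :=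
  continuous_sInf_rng.2 fun _ ht => ht.2 j

/-- The colimit topological ring. -/
noncomputable def colimPt : TopCommRingCat.{u} :=
  @TopCommRingCat.of (colimit (G F) : CommRingCat.{u}) _ (colimTop F) (isTopologicalRing_colimTop F)

theorem inc_naturality {j j' : J} (f : j ⟶ j') (x : F.obj j) :
    inc F j' ((F.map f).1 x) = inc F j x := by
  have h := colimit.w (G F) f
  have h2 := congrArg (fun g => g.hom x) h
  exact h2

/-- The colimit cocone. -/
noncomputable def colimitCocone : Cocone F where
  pt := colimPt F
  ι :=
    { app := fun j => ⟨inc F j, continuous_inc F j⟩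
      naturality := by
        intro j j' f
        refine Subtype.ext (RingHom.ext fun x => ?_)
        exact inc_naturality F f x }

/-- The ring homomorphism out of the colimit induced by a cocone. -/
noncomputable def descHom (s : Cocone F) : (colimit (G F) : CommRingCat.{u}) →+* s.pt :=
  (colimit.desc (G F) ((forget₂ TopCommRingCat.{u} CommRingCat.{u}).mapCocone s)).hom

theorem descHom_inc (s : Cocone F) (j : J) (x : F.obj j) :
    descHom F s (inc F j x) = (s.ι.app j).1 x := by
  have h := colimit.ι_desc ((forget₂ TopCommRingCat.{u} CommRingCat.{u}).mapCocone s) j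
  have h2 := congrArg (fun g => g.hom x) h
  exact h2

theorem continuous_descHom (s : Cocone F) :
    @Continuous _ _ (colimTop F) s.pt.isTopologicalSpace (descHom F s) := by
  rw [continuous_iff_le_induced]
  refine sInf_le ⟨isTopologicalRing_induced (descHom F s), fun j => ?_⟩
  rw [continuous_induced_rng]
  have : (descHom F s) ∘ (inc F j) = (s.ι.app j).1 := funext fun x => descHom_inc F s j x
  rw [this]
  exact (s.ι.app j).2

/-- The colimit cocone is a colimit. -/
noncomputable def colimitCoconeIsColimit : IsColimit (colimitCocone F) where
  desc s := ⟨descHom F s, continuous_descHom F s⟩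
  fac s j := by
    refine Subtype.ext (RingHom.ext fun x => ?_)
    exact descHom_inc F s j x
  uniq s m hm := by
    refine Subtype.ext ?_
    let m' : (colimit (G F) : CommRingCat.{u}) ⟶ CommRingCat.of s.pt :=
      CommRingCat.ofHom (R := (colimit (G F) : CommRingCat.{u})) (S := s.pt) m.1
    have h : m' =
        colimit.desc (G F) ((forget₂ TopCommRingCat.{u} CommRingCat.{u}).mapCocone s) := by
      refine colimit.hom_ext fun j => ?_
      refine Eq.trans ?_
        (colimit.ι_desc ((forget₂ TopCommRingCat.{u} CommRingCat.{u}).mapCocone s) j).symm
      ext x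
      exact congrArg (fun g => g.1 x) (hm j)
    exact congrArg (fun g => g.hom) h

/-- The image of the colimit cocone in `CommRingCat` is a colimit. -/
noncomputable def colimitCoconeRingIsColimit :
    IsColimit ((forget₂ TopCommRingCat.{u} CommRingCat.{u}).mapCocone (colimitCocone F)) :=
  IsColimit.ofIsoColimit (colimit.isColimit (G F)) (Cocone.ext (Iso.refl _) (fun j => by
    ext x
    rfl))

theorem hasColimits : HasColimitsOfSize.{u, u} TopCommRingCat.{u} :=
  ⟨fun _ _ => ⟨fun F => ⟨⟨⟨colimitCocone F, colimitCoconeIsColimit F⟩⟩⟩⟩⟩

theorem preservesColimits_ring :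
    PreservesColimitsOfSize.{u, u} (forget₂ TopCommRingCat.{u} CommRingCat.{u}) :=
  ⟨fun {_} _ => ⟨fun {F} =>
    preservesColimit_of_preserves_colimit_cocone (colimitCoconeIsColimit F)
      (colimitCoconeRingIsColimit F)⟩⟩

end Groth.Agent.Helper11.TCR
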