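import Mathlib.Topology.Category.TopCommRingCat
import Mathlib.CategoryTheory.Limits.Preserves.Basic
import Mathlib.Topology.Algebra.Ring.Basic
import Mathlib.Topology.Algebra.Constructions
import Mathlib.Algebra.Category.Ring.Basic

/-!
# Limits of topological commutative rings
-/

namespace Groth.Agent.Helper11.TCR

open CategoryTheory CategoryTheory.Limits

universe u v

variable {J : Type v} [Category.{v} J] (F : J ⥤ TopCommRingCat.{max u v})

/-- The subring of compatible families. -/
def sectionsSubring : Subring (∀ j, F.obj j) where
  carrier := {x | ∀ ⦃j j' : J⦄ (f : j ⟶ j'), (F.map f).1 (x j) = x j'}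
  mul_mem' := by
    intro a b ha hb j j' f
    simp only [Pi.mul_apply, map_mul, ha f, hb f]
  one_mem' := by
    intro j j' f
    simp only [Pi.one_apply, map_one]
  add_mem' := by
    intro a b ha hb j j' f
    simp only [Pi.add_apply, map_add, ha f, hb f]
  zero_mem' := by
    intro j j' f
    simp only [Pi.zero_apply, map_zero]
  neg_mem' := by
    intro a ha j j' f
    simp only [Pi.neg_apply, map_neg, ha f]

/-- The projection from the ring of compatible families. -/
def proj (j : J) : sectionsSubring F →+* F.obj j :=
  (Pi.evalRingHom (fun j => F.obj j) j).comp (sectionsSubring F).subtype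

theorem proj_apply (j : J) (x : sectionsSubring F) : proj F j x = x.1 j := rfl

theorem continuous_proj (j : J) : Continuous (proj F j) :=
  (continuous_apply j).comp continuous_subtype_val

/-- The limit cone. -/
def limitCone : Cone F where
  pt := TopCommRingCat.of (sectionsSubring F)
  π :=
    { app := fun j => ⟨proj F j, continuous_proj F j⟩
      naturality := by
        intro j j' f
        refine Subtype.ext (RingHom.ext fun x => ?_)
        exact (x.2 f).symm }

/-- The ring homomorphism into the compatible families induced by a cone. -/
def liftHom (s : Cone F) : s.pt →+* sectionsSubring F where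
  toFun := fun x => ⟨fun j => (s.π.app j).1 x, by
    intro j j' f
    have h := s.π.naturality f
    have h2 := congrArg (fun g => g.1 x) h
    exact h2.symm⟩
  map_one' := by
    apply Subtype.ext
    funext j
    exact map_one (s.π.app j).1
  map_mul' := by
    intro a b
    apply Subtype.ext
    funext j
    exact map_mul (s.π.app j).1 a b
  map_zero' := by
    apply Subtype.ext
    funext j
    exact map_zero (s.π.app j).1
  map_add' := by
    intro a b
    apply Subtype.ext
    funext j
    exact map_add (s.π.app j).1 a b

theorem continuous_liftHom (s : Cone F) : Continuous (liftHom F s) :=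
  Continuous.subtype_mk (continuous_pi fun j => (s.π.app j).2) _

/-- The limit cone is a limit. -/
def limitConeIsLimit : IsLimit (limitCone F) where
  lift s := ⟨liftHom F s, continuous_liftHom F s⟩
  fac s j := by
    refine Subtype.ext (RingHom.ext fun x => ?_)
    rfl
  uniq s m hm := by
    refine Subtype.ext (RingHom.ext fun x => ?_)
    apply Subtype.ext
    funext j
    have h2 := congrArg (fun g => g.1 x) (hm j)
    exact h2

/-- The map into compatible families induced by a cone in `TopCat`. -/
def liftTop (s : Cone (F ⋙ forget₂ TopCommRingCat.{max u v} TopCat.{max u v})) :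
    s.pt → sectionsSubring F :=
  fun x => ⟨fun j => (s.π.app j) x, by
    intro j j' f
    have h := s.π.naturality f
    have h2 := congrArg (fun g => g x) h
    exact h2.symm⟩

theorem continuous_liftTop (s : Cone (F ⋙ forget₂ TopCommRingCat.{max u v} TopCat.{max u v})) :
    Continuous (liftTop F s) :=
  Continuous.subtype_mk (continuous_pi fun j => (s.π.app j).hom.2) _

/-- The image of the limit cone in `TopCat` is a limit. -/
def limitConeTopIsLimit :
    IsLimit ((forget₂ TopCommRingCat.{max u v} TopCat.{max u v}).mapCone (limitCone F)) where
  lift s := TopCat.ofHom ⟨liftTop F s, continuous_liftTop F s⟩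
  fac s j := by
    ext x
    rfl
  uniq s m hm := by
    ext x
    apply Subtype.ext
    funext j
    have h2 := congrArg (fun g => g x) (hm j)
    exact h2

/-- The image of the limit cone in `CommRingCat` is a limit. -/
def limitConeRingIsLimit :
    IsLimit ((forget₂ TopCommRingCat.{max u v} CommRingCat.{max u v}).mapCone (limitCone F)) where
  lift s := CommRingCat.ofHom
    { toFun := fun x => ⟨fun j => (s.π.app j) x, by
        intro j j' f
        have h := s.π.naturality f
        have h2 := congrArg (fun g => g x) h
        exact h2.symm⟩
      map_one' := by
        apply Subtype.ext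
        funext j
        exact map_one (s.π.app j).hom
      map_mul' := by
        intro a b
        apply Subtype.ext
        funext j
        exact map_mul (s.π.app j).hom a b
      map_zero' := by
        apply Subtype.ext
        funext j
        exact map_zero (s.π.app j).hom
      map_add' := by
        intro a b
        apply Subtype.ext
        funext j
        exact map_add (s.π.app j).hom a b }
  fac s j := by
    ext x
    rfl
  uniq s m hm := by
    ext x
    apply Subtype.ext
    funext j
    have h2 := congrArg (fun g => g x) (hm j)
    exact h2

theorem hasLimits : HasLimitsOfSize.{v, v} TopCommRingCat.{max u v} :=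
  ⟨fun _ _ => ⟨fun F => ⟨⟨⟨limitCone F, limitConeIsLimit F⟩⟩⟩⟩⟩

theorem preservesLimits_top :
    PreservesLimitsOfSize.{v, v} (forget₂ TopCommRingCat.{max u v} TopCat.{max u v}) :=
  ⟨fun {_} _ => ⟨fun {F} =>
    preservesLimit_of_preserves_limit_cone (limitConeIsLimit F) (limitConeTopIsLimit F)⟩⟩

theorem preservesLimits_ring :
    PreservesLimitsOfSize.{v, v} (forget₂ TopCommRingCat.{max u v} CommRingCat.{max u v}) :=
  ⟨fun {_} _ => ⟨fun {F} =>
    preservesLimit_of_preserves_limit_cone (limitConeIsLimit F) (limitConeRingIsLimit F)⟩⟩

end Groth.Agent.Helper11.TCR
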