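import Mathlib.RingTheory.Flat.Equalizer
import Mathlib.RingTheory.Flat.Basic
import Mathlib.LinearAlgebra.TensorProduct.RightExactness
import Mathlib.Algebra.Homology.ShortComplex.ModuleCat
import Mathlib.Algebra.Homology.HomologicalComplex
import Mathlib.Algebra.Homology.ShortComplex.HomologicalComplex

/-!
Linear algebra for tor amplitude: purity, two-out-of-three for flatness, tensoring acyclic
bounded above complexes of flat modules, flatness of cokernels.
-/

open TensorProduct Function CategoryTheory Limits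

universe u

namespace Groth.Agent.Helper11.TA

variable {R : Type u} [CommRing R]

section Modules

variable {M N P : Type u} [AddCommGroup M] [AddCommGroup N] [AddCommGroup P]
  [Module R M] [Module R N] [Module R P]

theorem rTensor_injective_of_exact_of_flat [Module.Flat R P] (g : M →ₗ[R] N) (f : N →ₗ[R] P)
    (hg : Injective g) (hf : Surjective f) (H : Exact g f) (A : Type u) [AddCommGroup A]
    [Module R A] : Injective (g.rTensor A) :=
  (g.lTensor_inj_iff_rTensor_inj A).1
    (LinearMap.lTensor_injective_of_exact_of_flat f hf g hg H A)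

theorem flat_of_exact [Module.Flat R N] [Module.Flat R P] (g : M →ₗ[R] N) (f : N →ₗ[R] P)
    (hg : Injective g) (hf : Surjective f) (H : Exact g f) : Module.Flat R M := by
  rw [Module.Flat.iff_rTensor_preserves_injective_linearMap]
  intro A' A _ _ _ _ i hi
  have h1 : Injective ((i.rTensor N).comp (g.lTensor A')) :=
    (Module.Flat.rTensor_preserves_injective_linearMap i hi).comp
      (LinearMap.lTensor_injective_of_exact_of_flat f hf g hg H A')
  have h2 : (i.rTensor N).comp (g.lTensor A') = (g.lTensor A).comp (i.rTensor M) := by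
    rw [LinearMap.rTensor_comp_lTensor, LinearMap.lTensor_comp_rTensor]
  rw [h2] at h1
  exact Function.Injective.of_comp h1

theorem flat_coker_of_exact {X₀ X₁ X₂ : Type u} [AddCommGroup X₀] [AddCommGroup X₁]
    [AddCommGroup X₂] [Module R X₀] [Module R X₁] [Module R X₂] [Module.Flat R X₂]
    (d₀ : X₀ →ₗ[R] X₁) (d₁ : X₁ →ₗ[R] X₂) (hdd : d₁ ∘ₗ d₀ = 0)
    (h : ∀ (A : Type u) [AddCommGroup A] [Module R A],
      LinearMap.ker (d₁.rTensor A) ≤ LinearMap.range (d₀.rTensor A)) :
    Module.Flat R (X₂ ⧸ LinearMap.range d₁) := by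
  rw [Module.Flat.iff_lTensor_preserves_injective_linearMap]
  intro N' N _ _ _ _ j hj
  let q : X₂ →ₗ[R] (X₂ ⧸ LinearMap.range d₁) := (LinearMap.range d₁).mkQ
  have hq : Surjective q := Submodule.mkQ_surjective _
  have hdq : Exact d₁ q := LinearMap.exact_map_mkQ_range d₁
  let r : N →ₗ[R] (N ⧸ LinearMap.range j) := (LinearMap.range j).mkQ
  have hr : Surjective r := Submodule.mkQ_surjective _
  have hjr : Exact j r := LinearMap.exact_map_mkQ_range j
  rw [injective_iff_map_eq_zero]
  intro x hx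
  obtain ⟨y, rfl⟩ := LinearMap.rTensor_surjective N' hq x
  have hcomm1 : (j.lTensor (X₂ ⧸ LinearMap.range d₁)) ((q.rTensor N') y) =
      (q.rTensor N) ((j.lTensor X₂) y) := by
    rw [← LinearMap.comp_apply, ← LinearMap.comp_apply, LinearMap.lTensor_comp_rTensor,
      LinearMap.rTensor_comp_lTensor]
  rw [hcomm1] at hx
  obtain ⟨z, hz⟩ := ((rTensor_exact N hdq hq) _).mp hx
  have hz' : (d₁.rTensor (N ⧸ LinearMap.range j)) ((r.lTensor X₁) z) = 0 := by
    have h1 : (d₁.rTensor (N ⧸ LinearMap.range j)) ((r.lTensor X₁) z) =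
        (r.lTensor X₂) ((d₁.rTensor N) z) := by
      rw [← LinearMap.comp_apply, ← LinearMap.comp_apply, LinearMap.rTensor_comp_lTensor,
        LinearMap.lTensor_comp_rTensor]
    rw [h1, hz, ← LinearMap.comp_apply, ← LinearMap.lTensor_comp,
      hjr.linearMap_comp_eq_zero, LinearMap.lTensor_zero, LinearMap.zero_apply]
  obtain ⟨wbar, hwbar⟩ := h _ (LinearMap.mem_ker.mpr hz')
  obtain ⟨w, rfl⟩ := LinearMap.lTensor_surjective X₀ hr wbar
  have hz2 : (r.lTensor X₁) (z - (d₀.rTensor N) w) = 0 := by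
    have h1 : (r.lTensor X₁) ((d₀.rTensor N) w) =
        (d₀.rTensor (N ⧸ LinearMap.range j)) ((r.lTensor X₀) w) := by
      rw [← LinearMap.comp_apply, ← LinearMap.comp_apply, LinearMap.lTensor_comp_rTensor,
        LinearMap.rTensor_comp_lTensor]
    rw [map_sub, ← hwbar, h1, sub_self]
  obtain ⟨z', hz'eq⟩ := ((lTensor_exact X₁ hjr hr) _).mp hz2
  have hy : y = (d₁.rTensor N') z' := by
    apply Module.Flat.lTensor_preserves_injective_linearMap (M := X₂) j hj
    have h1 : (j.lTensor X₂) ((d₁.rTensor N') z') = (d₁.rTensor N) ((j.lTensor X₁) z') := by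
      rw [← LinearMap.comp_apply, ← LinearMap.comp_apply, LinearMap.lTensor_comp_rTensor,
        LinearMap.rTensor_comp_lTensor]
    rw [h1, hz'eq, map_sub, hz, ← LinearMap.comp_apply, ← LinearMap.rTensor_comp, hdd,
      LinearMap.rTensor_zero, LinearMap.zero_apply, sub_zero]
  rw [hy, ← LinearMap.comp_apply, ← LinearMap.rTensor_comp, hdq.linearMap_comp_eq_zero,
    LinearMap.rTensor_zero, LinearMap.zero_apply]

end Modules

section Complex

variable (C : CochainComplex (ModuleCat.{u} R) ℤ)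

theorem range_eq_ker_of_exactAt (j k l : ℤ) (hjk : j + 1 = k) (hkl : k + 1 = l)
    (h : C.ExactAt k) :
    LinearMap.range (C.d j k).hom = LinearMap.ker (C.d k l).hom := by
  rw [HomologicalComplex.exactAt_iff' C j k l (by rw [CochainComplex.prev]; omega)
    (by rw [CochainComplex.next]; omega)] at h
  exact (ShortComplex.moduleCat_exact_iff_range_eq_ker _).mp h

theorem exactAt_of_ker_le_range (j k l : ℤ) (hjk : j + 1 = k) (hkl : k + 1 = l)
    (h : LinearMap.ker (C.d k l).hom ≤ LinearMap.range (C.d j k).hom) : C.ExactAt k := by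
  rw [HomologicalComplex.exactAt_iff' C j k l (by rw [CochainComplex.prev]; omega)
    (by rw [CochainComplex.next]; omega)]
  rw [ShortComplex.moduleCat_exact_iff_range_eq_ker]
  refine le_antisymm ?_ h
  rintro _ ⟨x, rfl⟩
  rw [LinearMap.mem_ker]
  exact congr($(C.d_comp_d j k l) x)

theorem exists_ses (j k l : ℤ) (hjk : j + 1 = k) (hkl : k + 1 = l) (h : C.ExactAt k) :
    ∃ p : C.X j →ₗ[R] LinearMap.ker (C.d k l).hom, Surjective p ∧
      Exact (LinearMap.ker (C.d j k).hom).subtype p ∧
      (LinearMap.ker (C.d k l).hom).subtype ∘ₗ p = (C.d j k).hom := by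
  have hdd : ∀ x, (C.d k l).hom ((C.d j k).hom x) = 0 := fun x =>
    congr($(C.d_comp_d j k l) x)
  refine ⟨LinearMap.codRestrict _ (C.d j k).hom (fun x => LinearMap.mem_ker.mpr (hdd x)),
    ?_, ?_, ?_⟩
  · rintro ⟨y, hy⟩
    have : y ∈ LinearMap.range (C.d j k).hom := by
      rw [range_eq_ker_of_exactAt C j k l hjk hkl h]
      exact hy
    obtain ⟨x, rfl⟩ := this
    exact ⟨x, Subtype.ext rfl⟩
  · intro x
    constructor
    · intro hx
      have : (C.d j k).hom x = 0 := congrArg Subtype.val hx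
      exact ⟨⟨x, LinearMap.mem_ker.mpr this⟩, rfl⟩
    · rintro ⟨⟨y, hy⟩, rfl⟩
      exact Subtype.ext (LinearMap.mem_ker.mp hy)
  · ext x
    rfl

variable (c : ℤ) (hc : ∀ i : ℤ, c < i → IsZero (C.X i))
  (hflat : ∀ i : ℤ, Module.Flat R (C.X i)) (hex : ∀ i : ℤ, C.ExactAt i)

include hc hflat hex in
theorem flat_ker_of_acyclic_aux (n : ℕ) : ∀ (j k : ℤ), j + 1 = k → c + 1 - n ≤ j →
    Module.Flat R (LinearMap.ker (C.d j k).hom) := by
  induction n with
  | zero =>
    intro j k hjk hj
    haveI : Subsingleton (C.X j) := ModuleCat.subsingleton_of_isZero (hc j (by omega))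
    haveI : Subsingleton (LinearMap.ker (C.d j k).hom) :=
      ⟨fun x y => Subtype.ext (Subsingleton.elim _ _)⟩
    infer_instance
  | succ n ih =>
    intro j k hjk hj
    obtain ⟨p, hp, hex', -⟩ := exists_ses C j k (k + 1) hjk rfl (hex k)
    haveI := hflat j
    haveI := ih k (k + 1) rfl (by omega)
    exact flat_of_exact (LinearMap.ker (C.d j k).hom).subtype p
      (Submodule.injective_subtype _) hp hex'

include hc hflat hex in
theorem flat_ker_of_acyclic (j k : ℤ) (hjk : j + 1 = k) :
    Module.Flat R (LinearMap.ker (C.d j k).hom) :=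
  flat_ker_of_acyclic_aux C c hc hflat hex (c + 1 - j).toNat j k hjk (by omega)

include hc hflat hex in
theorem ker_rTensor_le_range_of_acyclic (A : Type u) [AddCommGroup A] [Module R A]
    (j k l : ℤ) (hjk : j + 1 = k) (hkl : k + 1 = l) :
    LinearMap.ker ((C.d k l).hom.rTensor A) ≤ LinearMap.range ((C.d j k).hom.rTensor A) := by
  intro x hx
  obtain ⟨p₀, hp₀s, -, hp₀c⟩ := exists_ses C j k l hjk hkl (hex k)
  obtain ⟨p₁, hp₁s, hp₁e, hp₁c⟩ := exists_ses C k l (l + 1) hkl rfl (hex l)
  obtain ⟨p₂, hp₂s, hp₂e, -⟩ := exists_ses C l (l + 1) (l + 1 + 1) rfl rfl (hex (l + 1))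
  haveI : Module.Flat R (LinearMap.ker (C.d (l + 1) (l + 1 + 1)).hom) :=
    flat_ker_of_acyclic C c hc hflat hex (l + 1) (l + 1 + 1) rfl
  have hinj : Injective ((LinearMap.ker (C.d l (l + 1)).hom).subtype.rTensor A) :=
    rTensor_injective_of_exact_of_flat _ p₂ (Submodule.injective_subtype _) hp₂s hp₂e A
  have h1 : (C.d k l).hom.rTensor A =
      ((LinearMap.ker (C.d l (l + 1)).hom).subtype.rTensor A).comp (p₁.rTensor A) := by
    rw [← LinearMap.rTensor_comp, hp₁c]
  have h2 : (p₁.rTensor A) x = 0 := by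
    apply hinj
    rw [map_zero, ← LinearMap.comp_apply, ← h1]
    exact LinearMap.mem_ker.mp hx
  obtain ⟨y, rfl⟩ := ((rTensor_exact A hp₁e hp₁s) x).mp h2
  obtain ⟨z, rfl⟩ := LinearMap.rTensor_surjective A hp₀s y
  refine ⟨z, ?_⟩
  rw [← hp₀c, LinearMap.rTensor_comp]
  rfl

end Complex

end Groth.Agent.Helper11.TA
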