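import Groth.Agent.Lib.Helper11.TorAmp3
import Groth.Agent.Lib.Helper11.DCProjTFAE
import Groth.Agent.Lib.Helper11.DCTrim
import Groth.Agent.Lib.Helper11.DCTopHom

/-!
# Tor-vanishing characterisation of tor amplitude
-/

set_option autoImplicit false
universe u

open CategoryTheory Limits DerivedCategory Pretriangulated MonoidalCategory

attribute [local instance] HasDerivedCategory.standard

namespace Groth.Agent.Helper11.TA

variable {R : Type u} [CommRing R]

open Groth.Agent.Helper11.DC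

/-- `H^i(F ⊗ M) = 0` for all `M` and `i ∉ [a,b]`. -/
def TorVanCx (a b : ℤ) (F : DRing.Cx R) : Prop :=
  ∀ (M : ModuleCat.{u} R) (i : ℤ), (i < a ∨ b < i) →
    IsZero ((homologyFunctor (ModuleCat.{u} R) i).obj (Q.obj ((tens M).obj F)))

theorem nonempty_iso_tens (P F : DRing.Cx R) (cP cF : ℤ) (hP : DRing.VanishesAbove P cP)
    (hF : DRing.VanishesAbove F cF) (hPp : ∀ i, Module.Projective R (P.X i))
    (hFf : ∀ i, Module.Flat R (F.X i)) (e : Q.obj P ≅ Q.obj F) (M : ModuleCat.{u} R) :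
    Nonempty (Q.obj ((tens M).obj P) ≅ Q.obj ((tens M).obj F)) := by
  have : P.IsKProjective := isKProjective_of_vanishesAbove P cP hP hPp
  obtain ⟨φ, hφ⟩ := exists_lift_of_isKProjective P F e.hom
  have hiso : IsIso (Q.map φ) := by rw [hφ]; infer_instance
  have := isIso_Q_map_tens P F cP cF hP hF (fun i => by haveI := hPp i; infer_instance) hFf φ
    hiso M
  exact ⟨asIso (Q.map ((tens M).map φ))⟩

theorem torVanCx_iff (a b : ℤ) (P F : DRing.Cx R) (cP cF : ℤ) (hP : DRing.VanishesAbove P cP)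
    (hF : DRing.VanishesAbove F cF) (hPp : ∀ i, Module.Projective R (P.X i))
    (hFf : ∀ i, Module.Flat R (F.X i)) (e : Q.obj P ≅ Q.obj F) :
    TorVanCx a b P ↔ TorVanCx a b F := by
  constructor
  · intro h M i hi
    obtain ⟨e'⟩ := nonempty_iso_tens P F cP cF hP hF hPp hFf e M
    exact IsZero.of_iso (h M i hi) ((homologyFunctor (ModuleCat.{u} R) i).mapIso e'.symm)
  · intro h M i hi
    obtain ⟨e'⟩ := nonempty_iso_tens P F cP cF hP hF hPp hFf e M
    exact IsZero.of_iso (h M i hi) ((homologyFunctor (ModuleCat.{u} R) i).mapIso e')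

/-- Tor-vanishing outside `[a,b]`, computed on a bounded above projective representative. -/
def TorVan (a b : ℤ) (K : Dual.D R) : Prop :=
  ∃ (P : DRing.Cx R) (c : ℤ), DRing.VanishesAbove P c ∧ (∀ i, Module.Projective R (P.X i)) ∧
    Nonempty (Q.obj P ≅ K) ∧ TorVanCx a b P

theorem TorVan.hasProjRes {a b : ℤ} {K : Dual.D R} (h : TorVan a b K) : HasProjRes K := by
  obtain ⟨P, c, hc, hp, e, -⟩ := h
  exact ⟨P, c, hc, hp, e⟩

theorem TorVan.of_iso {a b : ℤ} {K L : Dual.D R} (e : K ≅ L) (h : TorVan a b K) :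
    TorVan a b L := by
  obtain ⟨P, c, hc, hp, ⟨e'⟩, hv⟩ := h
  exact ⟨P, c, hc, hp, ⟨e' ≪≫ e⟩, hv⟩

theorem TorVan.mono {a b a' b' : ℤ} {K : Dual.D R} (ha : a' ≤ a) (hb : b ≤ b')
    (h : TorVan a b K) : TorVan a' b' K := by
  obtain ⟨P, c, hc, hp, e, hv⟩ := h
  refine ⟨P, c, hc, hp, e, fun M i hi => hv M i ?_⟩
  omega

theorem torVanCx_of_torVan {a b : ℤ} {K : Dual.D R} (h : TorVan a b K) (F : DRing.Cx R) (cF : ℤ)
    (hF : DRing.VanishesAbove F cF) (hFf : ∀ i, Module.Flat R (F.X i)) (e : Q.obj F ≅ K) :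
    TorVanCx a b F := by
  obtain ⟨P, c, hc, hp, ⟨e'⟩, hv⟩ := h
  exact (torVanCx_iff a b P F c cF hc hF hp hFf (e' ≪≫ e.symm)).mp hv

theorem torVan_of_torVanCx {a b : ℤ} (F : DRing.Cx R) (cF : ℤ)
    (hF : DRing.VanishesAbove F cF) (hFf : ∀ i, Module.Flat R (F.X i))
    (hres : HasProjRes (Q.obj F)) (h : TorVanCx a b F) : TorVan a b (Q.obj F) := by
  obtain ⟨P, c, hc, hp, ⟨e⟩⟩ := hres
  exact ⟨P, c, hc, hp, ⟨e⟩, (torVanCx_iff a b P F c cF hc hF hp hFf e).mpr h⟩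

theorem torVanCx_shift {a b : ℤ} (P : DRing.Cx R) (n : ℤ) (h : TorVanCx a b P) :
    TorVanCx (a - n) (b - n) (P⟦n⟧) := by
  intro M i hi
  have e1 : (tens M).obj (P⟦n⟧) ≅ ((tens M).obj P)⟦n⟧ :=
    ((MonoidalCategory.tensorRight M).mapCochainComplexShiftIso n).app P
  have e2 : Q.obj ((tens M).obj (P⟦n⟧)) ≅ (Q.obj ((tens M).obj P))⟦n⟧ :=
    Q.mapIso e1 ≪≫ (Q.commShiftIso n).app _
  refine IsZero.of_iso ?_ ((homologyFunctor (ModuleCat.{u} R) i).mapIso e2)
  rw [isZero_homology_shift_iff _ n i (n + i) rfl]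
  exact h M (n + i) (by omega)

theorem TorVan.shift {a b : ℤ} {K : Dual.D R} (n : ℤ) (h : TorVan a b K) :
    TorVan (a - n) (b - n) (K⟦n⟧) := by
  obtain ⟨P, c, hc, hp, ⟨e⟩, hv⟩ := h
  refine ⟨P⟦n⟧, c - n, ?_, ?_, ⟨shiftRepIso P K e n⟩, torVanCx_shift P n hv⟩
  · intro i hi
    exact hc (i + n) (by omega)
  · intro i
    exact hp (i + n)

theorem TorVan.third {a b : ℤ} (T : Triangle (Dual.D R)) (hT : T ∈ distTriang (Dual.D R))
    (h₁ : TorVan (a + 1) (b + 1) T.obj₁) (h₂ : TorVan a b T.obj₂) : TorVan a b T.obj₃ := by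
  obtain ⟨E₁, b₁, hb₁, hf₁, ⟨e₁⟩, hv₁⟩ := h₁
  obtain ⟨E₂, b₂, hb₂, hf₂, ⟨e₂⟩, hv₂⟩ := h₂
  have : E₁.IsKProjective := isKProjective_of_vanishesAbove E₁ b₁ hb₁ hf₁
  obtain ⟨φ, ⟨e₃⟩⟩ := third_vertex T hT E₁ E₂ e₁.symm e₂.symm
  refine ⟨CochainComplex.mappingCone φ, max b₁ b₂, ?_, ?_, ⟨e₃.symm⟩, ?_⟩
  · intro i hi
    exact mappingCone_isZero φ i (hb₁ _ (by omega)) (hb₂ _ (by omega))
  · intro i
    have := hf₁ (i + 1)
    have := hf₂ i
    exact Module.Projective.of_equiv (mappingConeXEquiv φ i).symm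
  · intro M i hi
    have e := CochainComplex.mappingCone.mapHomologicalComplexIso φ
      (MonoidalCategory.tensorRight M)
    refine IsZero.of_iso ?_ ((homologyFunctor (ModuleCat.{u} R) i).mapIso (Q.mapIso e))
    have hT' := DerivedCategory.mappingCone_triangle_distinguished ((tens M).map φ)
    have hex := HomologySequence.exact₃ _ hT' i (i + 1) rfl
    refine hex.isZero_X₂ ?_ ?_
    · exact (hv₂ M i hi).eq_of_src _ _
    · exact (hv₁ M (i + 1) (by omega)).eq_of_tgt _ _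

theorem TorVan.two_of_three {a b : ℤ} (T : Triangle (Dual.D R))
    (hT : T ∈ distTriang (Dual.D R)) :
    (TorVan (a + 1) (b + 1) T.obj₁ → TorVan a b T.obj₂ → TorVan a b T.obj₃) ∧
    (TorVan a b T.obj₁ → TorVan a b T.obj₃ → TorVan a b T.obj₂) ∧
    (TorVan (a + 1) (b + 1) T.obj₂ → TorVan a b T.obj₃ → TorVan (a + 1) (b + 1) T.obj₁) := by
  refine ⟨TorVan.third T hT, ?_, ?_⟩
  · intro h₁ h₃
    have h₃' := h₃.shift (-1)
    have e1 : a - -1 = a + 1 := by ring
    have e2 : b - -1 = b + 1 := by ring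
    rw [e1, e2] at h₃'
    exact TorVan.third T.invRotate (inv_rot_of_distTriang _ hT) h₃' h₁
  · intro h₂ h₃
    have h₃' := h₃.shift (-1)
    have h₂' := h₂.shift (-1)
    have e1 : a - -1 = a + 1 := by ring
    have e2 : b - -1 = b + 1 := by ring
    have e3 : a + 1 - -1 = a + 1 + 1 := by ring
    have e4 : b + 1 - -1 = b + 1 + 1 := by ring
    rw [e1, e2] at h₃'
    rw [e3, e4] at h₂'
    exact TorVan.third T.invRotate.invRotate
      (inv_rot_of_distTriang _ (inv_rot_of_distTriang _ hT)) h₂' h₃'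

theorem torVanCx_of_vanishesOutside {a b : ℤ} (E : DRing.Cx R)
    (hE : DRing.VanishesOutside E a b) : TorVanCx a b E := by
  intro M i hi
  exact isZero_homology_of_isZero_X _ i (tens_isZero M E i (hE i hi))

/-- (L3) flat-representative tor amplitude implies Tor-vanishing. -/
theorem torVan_of_hasTorAmplitudeIn {a b : ℤ} {K : Dual.D R}
    (h : DRing.HasTorAmplitudeIn R a b K) : TorVan a b K := by
  obtain ⟨E, hE, hflat, ⟨e⟩⟩ := h
  refine TorVan.of_iso e (torVan_of_torVanCx E b (fun i hi => hE i (Or.inr hi)) hflat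
    (hasProjRes_of_bounded E a b hE) (torVanCx_of_vanishesOutside E hE))

end Groth.Agent.Helper11.TA
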