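import Groth.Agent.Lib.Helper11.TorLoc1
import Groth.Agent.Lib.Helper11.LDer3

/-!
# Tor amplitude after restriction and faithfully flat base change (helper11)
-/

set_option autoImplicit false
set_option linter.unusedSectionVars false
set_option linter.unusedVariables false
set_option linter.style.haveILetI false

universe u

open CategoryTheory CategoryTheory.Limits MonoidalCategory HomologicalComplex
open scoped TensorProduct

attribute [local instance] HasDerivedCategory.standard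

namespace Groth.Agent.Helper11.TorGE

open Groth.Agent.Helper5.KF Groth.Agent.Helper11.DC Groth.Agent.Helper11.Tel

/-- extension of scalars along a faithfully flat map preserves and reflects exactness -/
theorem exactAt_extC_iff_of_faithfullyFlat {R R' : Type u} [CommRing R] [CommRing R']
    (φ : R →+* R') (hφ : φ.FaithfullyFlat) (Y : DRing.Cx R) (j : ℤ) :
    ((extC φ).obj Y).ExactAt j ↔ Y.ExactAt j := by
  rw [HomologicalComplex.exactAt_iff_isZero_homology,
    HomologicalComplex.exactAt_iff_isZero_homology]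
  constructor
  · intro h
    exact TA.isZero_of_es_isZero φ hφ _ (h.of_iso (TA.esHomologyIso φ hφ.flat Y j).symm)
  · intro h
    exact ((TA.es φ).map_isZero h).of_iso (TA.esHomologyIso φ hφ.flat Y j)

theorem exactAt_ff_iff {R A B : Type u} [CommRing R] [CommRing A] [CommRing B]
    (ρ : R →+* A) (φ : A →+* B) (σ : R →+* B) (hσ : σ = φ.comp ρ) (hφ : φ.FaithfullyFlat)
    (P : DRing.Cx A) (F : DRing.Cx R) (j : ℤ) :
    (((rsC σ).obj ((extC φ).obj P)) ⊗ F).ExactAt j ↔ (((rsC ρ).obj P) ⊗ F).ExactAt j := by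
  subst hσ
  have h1 := exactAt_rsC_tensor_iff (φ.comp ρ) ((extC φ).obj P) F j
  have h2 := _root_.exactAt_iff_of_quasiIsoAt
    ((extC φ).obj P ◁ (LocalPerf.esCCompIso ρ φ F).hom) j
  have h3 := exactAt_extC_tensor_iff φ P ((extC ρ).obj F) j
  have h4 := exactAt_extC_iff_of_faithfullyFlat φ hφ (P ⊗ (extC ρ).obj F) j
  have h5 := exactAt_rsC_tensor_iff ρ P F j
  exact h1.trans (h2.trans (h3.symm.trans (h4.trans h5.symm)))

/-- transfer of tor vanishing between two complexes with the same exactness behaviour -/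
theorem torVan_of_exactAt_iff {R : Type u} [CommRing R] (X₁ X₂ : DRing.Cx R) (a b : ℤ)
    (hH : ∀ j : ℤ, X₁.ExactAt j ↔ X₂.ExactAt j)
    (hT : ∀ (F : DRing.Cx R) (j : ℤ), (X₁ ⊗ F).ExactAt j ↔ (X₂ ⊗ F).ExactAt j)
    (h : TA.TorVan a b (DerivedCategory.Q.obj X₁)) : TA.TorVan a b (DerivedCategory.Q.obj X₂) := by
  obtain ⟨P₁, c₁, hc₁, hp₁, ⟨e₁⟩, hv₁⟩ := h
  haveI : P₁.IsKProjective := isKProjective_of_vanishesAbove P₁ c₁ hc₁ hp₁
  obtain ⟨ψ₁, hψ₁⟩ := exists_lift_of_isKProjective P₁ X₁ e₁.hom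
  have hψ₁q : QuasiIso ψ₁ := by
    rw [← DerivedCategory.isIso_Q_map_iff_quasiIso, hψ₁]
    infer_instance
  have hX₂ : ∀ j : ℤ, (j < a ∨ b < j) →
      IsZero ((DerivedCategory.homologyFunctor (ModuleCat.{u} R) j).obj
        (DerivedCategory.Q.obj X₂)) := by
    intro j hj
    rw [TA.isZero_homology_Q_iff_exactAt, ← hH j, ← TA.isZero_homology_Q_iff_exactAt]
    exact IsZero.of_iso (TA.isZero_homology_of_torVanCx P₁ hv₁ j hj)
      ((DerivedCategory.homologyFunctor (ModuleCat.{u} R) j).mapIso e₁.symm)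
  obtain ⟨P₂, c₂, hc₂, hp₂, ⟨e₂⟩⟩ := TA.hasProjRes_of_homology (DerivedCategory.Q.obj X₂) a b hX₂
  haveI : P₂.IsKProjective := isKProjective_of_vanishesAbove P₂ c₂ hc₂ hp₂
  obtain ⟨ψ₂, hψ₂⟩ := exists_lift_of_isKProjective P₂ X₂ e₂.hom
  have hψ₂q : QuasiIso ψ₂ := by
    rw [← DerivedCategory.isIso_Q_map_iff_quasiIso, hψ₂]
    infer_instance
  refine ⟨P₂, c₂, hc₂, hp₂, ⟨e₂⟩, ?_⟩
  intro M j hj
  rw [TA.isZero_homology_Q_iff_exactAt]
  obtain ⟨hFb, hFp, -⟩ := TA.projRes_spec M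
  let F : DRing.Cx R := (projectiveResolution M).cochainComplex
  let π : F ⟶ (CochainComplex.singleFunctor (ModuleCat.{u} R) 0).obj M :=
    (projectiveResolution M).π'
  have hπ : QuasiIso π := inferInstance
  have hFf : ∀ i, Module.Flat R (F.X i) := fun i => by
    haveI := hFp i
    infer_instance
  refine (exactAt_tens_iff_tensor X₂ P₂ c₂ hc₂ hp₂ ψ₂ hψ₂q M F 0 hFb hFf π hπ j).mpr ?_
  refine (hT F j).mp ?_
  refine (exactAt_tens_iff_tensor X₁ P₁ c₁ hc₁ hp₁ ψ₁ hψ₁q M F 0 hFb hFf π hπ j).mp ?_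
  rw [← TA.isZero_homology_Q_iff_exactAt]
  exact hv₁ M j hj

theorem torAmplitude_restrict_iff_of_faithfullyFlat {R A B : Type u}
    [CommRing R] [CommRing A] [CommRing B] [Algebra R A] [Algebra A B] [Algebra R B]
    [IsScalarTower R A B] [Module.FaithfullyFlat A B] [DRing.HasLBaseChange (algebraMap A B)]
    (K : Dual.D A) (a b : ℤ) :
    DRing.HasTorAmplitudeIn R a b ((DRing.restrictD (algebraMap R A)).obj K) ↔
      DRing.HasTorAmplitudeIn R a b ((DRing.restrictD (algebraMap R B)).obj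
        ((DRing.LBaseChange (algebraMap A B)).obj K)) := by
  obtain ⟨P, hPk, hPp, ⟨eP⟩⟩ := exists_kprojective_rep K
  haveI := hPk
  have hφ : (algebraMap A B).FaithfullyFlat :=
    RingHom.faithfullyFlat_algebraMap_iff.mpr inferInstance
  have hcomp : algebraMap R B = (algebraMap A B).comp (algebraMap R A) :=
    IsScalarTower.algebraMap_eq R A B
  let X₁ : DRing.Cx R := (rsC (algebraMap R A)).obj P
  let X₂ : DRing.Cx R := (rsC (algebraMap R B)).obj ((extC (algebraMap A B)).obj P)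
  have iso₁ : DRing.toD X₁ ≅ (DRing.restrictD (algebraMap R A)).obj K :=
    ((ModuleCat.restrictScalars (algebraMap R A)).mapDerivedCategoryFactors.app P).symm ≪≫
      (DRing.restrictD (algebraMap R A)).mapIso eP
  have iso₂ : DRing.toD X₂ ≅ (DRing.restrictD (algebraMap R B)).obj
      ((DRing.LBaseChange (algebraMap A B)).obj K) :=
    ((ModuleCat.restrictScalars (algebraMap R B)).mapDerivedCategoryFactors.app
      ((extC (algebraMap A B)).obj P)).symm ≪≫
      (DRing.restrictD (algebraMap R B)).mapIso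
        ((LDer.LBaseChangeIso (algebraMap A B) P).symm ≪≫
          (DRing.LBaseChange (algebraMap A B)).mapIso eP)
  have hH : ∀ j : ℤ, X₁.ExactAt j ↔ X₂.ExactAt j := by
    intro j
    have h1 : X₁.ExactAt j ↔ P.ExactAt j :=
      ⟨exactAt_of_rsC (algebraMap R A) P j, exactAt_rsC (algebraMap R A) P j⟩
    have h2 := exactAt_extC_iff_of_faithfullyFlat (algebraMap A B) hφ P j
    have h3 : X₂.ExactAt j ↔ ((extC (algebraMap A B)).obj P).ExactAt j :=
      ⟨exactAt_of_rsC (algebraMap R B) _ j, exactAt_rsC (algebraMap R B) _ j⟩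
    exact h1.trans (h2.symm.trans h3.symm)
  have hT : ∀ (F : DRing.Cx R) (j : ℤ), (X₁ ⊗ F).ExactAt j ↔ (X₂ ⊗ F).ExactAt j := fun F j =>
    (exactAt_ff_iff (algebraMap R A) (algebraMap A B) (algebraMap R B) hcomp hφ P F j).symm
  constructor
  · intro h
    obtain ⟨E, hE, hEf, ⟨e'⟩⟩ := h
    have h1 : TA.TorVan a b (DRing.toD X₁) :=
      TA.torVan_of_hasTorAmplitudeIn ⟨E, hE, hEf, ⟨e' ≪≫ iso₁.symm⟩⟩
    obtain ⟨E₂, hE₂, hE₂f, ⟨e₂⟩⟩ :=
      TA.hasTorAmplitudeIn_of_torVan (torVan_of_exactAt_iff X₁ X₂ a b hH hT h1)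
    exact ⟨E₂, hE₂, hE₂f, ⟨e₂ ≪≫ iso₂⟩⟩
  · intro h
    obtain ⟨E, hE, hEf, ⟨e'⟩⟩ := h
    have h1 : TA.TorVan a b (DRing.toD X₂) :=
      TA.torVan_of_hasTorAmplitudeIn ⟨E, hE, hEf, ⟨e' ≪≫ iso₂.symm⟩⟩
    obtain ⟨E₁, hE₁, hE₁f, ⟨e₁⟩⟩ :=
      TA.hasTorAmplitudeIn_of_torVan (torVan_of_exactAt_iff X₂ X₁ a b
        (fun j => (hH j).symm) (fun F j => (hT F j).symm) h1)
    exact ⟨E₁, hE₁, hE₁f, ⟨e₁ ≪≫ iso₁⟩⟩

end Groth.Agent.Helper11.TorGE
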