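import Groth.Agent.Lib.Helper5.KFlat11
import Groth.Agent.Lib.Helper5.LTen2
import Groth.Agent.Lib.Helper11.LTen3
import Groth.Agent.Lib.Helper11.TorAmp8
import Groth.Agent.Lib.Helper11.Tel7
import Groth.Agent.Lib.Helper3.KF1

/-!
# Tor amplitude in `[a, ∞)`: computing `M ⊗^L K` with K-flat representatives (helper11)
-/

set_option autoImplicit false
set_option linter.unusedSectionVars false
set_option linter.unusedVariables false
set_option linter.style.haveILetI false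

universe u

open CategoryTheory CategoryTheory.Limits MonoidalCategory HomologicalComplex
open scoped TensorProduct

attribute [local instance] HasDerivedCategory.standard

namespace Groth.Agent.Helper11.TorGE

open Groth.Agent.Helper5.KF Groth.Agent.Helper11.DC Groth.Agent.Helper11.Tel

variable {A : Type u} [CommRing A]

section Modules

variable {X₀ X₁ X₂ B : Type u} [AddCommGroup X₀] [AddCommGroup X₁] [AddCommGroup X₂]
  [AddCommGroup B] [Module A X₀] [Module A X₁] [Module A X₂] [Module A B]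

theorem rT_of_lT (d₀ : X₀ →ₗ[A] X₁) (d₁ : X₁ →ₗ[A] X₂)
    (h : ∀ t : B ⊗[A] X₁, d₁.lTensor B t = 0 → ∃ s : B ⊗[A] X₀, d₀.lTensor B s = t) :
    LinearMap.ker (d₁.rTensor B) ≤ LinearMap.range (d₀.rTensor B) := by
  intro x hx
  rw [LinearMap.mem_ker] at hx
  have h1 : d₁.lTensor B (TensorProduct.comm A X₁ B x) = 0 := by
    rw [LinearMap.lTensor_comm, hx, map_zero]
  obtain ⟨s, hs⟩ := h _ h1
  refine ⟨TensorProduct.comm A B X₀ s, ?_⟩
  rw [LinearMap.rTensor_comm, hs]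
  exact TensorProduct.comm_comm A B X₁ x

theorem lT_of_rT (d₀ : X₀ →ₗ[A] X₁) (d₁ : X₁ →ₗ[A] X₂)
    (h : LinearMap.ker (d₁.rTensor B) ≤ LinearMap.range (d₀.rTensor B))
    (t : B ⊗[A] X₁) (ht : d₁.lTensor B t = 0) : ∃ s : B ⊗[A] X₀, d₀.lTensor B s = t := by
  have h1 : d₁.rTensor B (TensorProduct.comm A B X₁ t) = 0 := by
    rw [LinearMap.rTensor_comm, ht, map_zero]
  obtain ⟨s, hs⟩ := h (LinearMap.mem_ker.mpr h1)
  refine ⟨TensorProduct.comm A X₀ B s, ?_⟩
  rw [LinearMap.lTensor_comm, hs]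
  exact TensorProduct.comm_comm A X₁ B t

end Modules

/-- exactness of `S₀ ⊗ C` in one degree, for a complex `S₀` with zero differentials, gives
exactness of `S₀.X 0 ⊗ C.X •` in that degree -/
lemma exists_of_exactAt_single' (S₀ C : DRing.Cx A) (hd : ∀ i j, S₀.d i j = 0)
    (q q' q'' : ℤ) (hq : q + 1 = q') (hq' : q' + 1 = q'') (hex : (S₀ ⊗ C).ExactAt q')
    (t : (S₀.X 0 ⊗ C.X q' : ModuleCat.{u} A)) (ht : (S₀.X 0 ◁ C.d q' q'') t = 0) :
    ∃ s : (S₀.X 0 ⊗ C.X q : ModuleCat.{u} A), (S₀.X 0 ◁ C.d q q') s = t := by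
  set z := ι S₀ C 0 q' q' (by omega) t with hz
  have hdz : (S₀ ⊗ C).d q' (q' + 1) z = 0 := by
    rw [hz, d_ι_apply S₀ C 0 q' q' (by omega) (q' + 1) rfl 1 q'' rfl hq' t, hd,
      zero_whiskerRight_apply, map_zero, zero_add, ht, map_zero, smul_zero]
  obtain ⟨w, hw⟩ := elements_of_exactAt _ _ hex z hdz
  have h1 := pr_d_apply S₀ C (q' - 1) q' (by omega) (-1) q 0 q' (by omega) hq w
  rw [hw, hz, pr_ι_apply, hd, zero_whiskerRight_apply, zero_add] at h1
  refine ⟨pr S₀ C 0 q (q' - 1) w, ?_⟩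
  rw [h1]
  simp

/-- the same for the complex `M[0]` -/
lemma exists_of_exactAt_singleM (M : ModuleCat.{u} A) (C : DRing.Cx A)
    (q q' q'' : ℤ) (hq : q + 1 = q') (hq' : q' + 1 = q'')
    (hex : (((CochainComplex.singleFunctor (ModuleCat.{u} A) 0).obj M : DRing.Cx A) ⊗ C).ExactAt q')
    (t : (M ⊗ C.X q' : ModuleCat.{u} A)) (ht : (M ◁ C.d q' q'') t = 0) :
    ∃ s : (M ⊗ C.X q : ModuleCat.{u} A), (M ◁ C.d q q') s = t := by
  let S₀ : DRing.Cx A := (CochainComplex.singleFunctor (ModuleCat.{u} A) 0).obj M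
  let e : S₀.X 0 ≅ M := HomologicalComplex.singleObjXSelf (ComplexShape.up ℤ) 0 M
  have hd : ∀ i j, S₀.d i j = 0 := fun i j =>
    HomologicalComplex.single_obj_d (ComplexShape.up ℤ) 0 M i j
  have ht' : (S₀.X 0 ◁ C.d q' q'') ((e.inv ▷ C.X q') t) = 0 := by
    rw [← whisker_exchange_apply, ht, map_zero]
  obtain ⟨s, hs⟩ := exists_of_exactAt_single' S₀ C hd q q' q'' hq hq' hex _ ht'
  refine ⟨(e.hom ▷ C.X q) s, ?_⟩
  rw [← whisker_exchange_apply, hs, whiskerRight_comp_apply, e.inv_hom_id]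
  simp

/-- K-projective complexes are K-flat (in the sense of `KFl`) -/
theorem kfl_of_isKProjective (F : DRing.Cx A) [F.IsKProjective] : KFl F := by
  intro L hL i
  have hL' : L.Acyclic := fun j => (HomologicalComplex.exactAt_iff_isZero_homology _ _).mpr (hL j)
  exact (HomologicalComplex.exactAt_iff_isZero_homology _ _).mp
    (Groth.Agent.Helper3.KF.acyclic_tensor_of_isKProjective L F hL' i)

/-- `H^i(M ⊗^L K)` is computed by `M[0] ⊗ E` for any K-flat complex `E` quasi-isomorphic to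
`K`. -/
theorem subsingleton_iff_exactAt (K : DRing.Cx A) [DRing.HasLTensorCx A K] (E : DRing.Cx A)
    (hE : KFl E) (e : DRing.toD E ≅ DRing.toD K) (M : ModuleCat.{u} A) (i : ℤ) :
    Subsingleton (Dual.HD A ((DRing.LTensorCx A K).obj
        (DRing.toD ((CochainComplex.singleFunctor (ModuleCat.{u} A) 0).obj M))) i) ↔
      (((CochainComplex.singleFunctor (ModuleCat.{u} A) 0).obj M : DRing.Cx A) ⊗ E).ExactAt i := by
  let R := projectiveResolution M
  let P : DRing.Cx A := R.cochainComplex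
  let S₀ : DRing.Cx A := (CochainComplex.singleFunctor (ModuleCat.{u} A) 0).obj M
  let π : P ⟶ S₀ := R.π'
  have hπ : QuasiIso π := inferInstance
  obtain ⟨hPb, hPp, -⟩ := TA.projRes_spec M
  have hPf : ∀ j, Module.Flat A (P.X j) := fun j => by
    haveI := hPp j
    infer_instance
  haveI : P.IsKProjective := isKProjective_of_vanishesAbove P 0 hPb hPp
  obtain ⟨F, ρ, hFk, hFp, hρ⟩ := exists_kprojective_resolution K
  haveI := hFk
  haveI : IsIso (DerivedCategory.Q.map ρ) :=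
    (DerivedCategory.isIso_Q_map_iff_quasiIso (φ := ρ)).mpr hρ
  obtain ⟨ρ', hρ'⟩ := exists_lift_of_isKProjective F E (DerivedCategory.Q.map ρ ≫ e.inv)
  have hρ'q : QuasiIso ρ' := by
    rw [← DerivedCategory.isIso_Q_map_iff_quasiIso, hρ']
    infer_instance
  have h1 : QuasiIso (P ◁ ρ) := LTen.quasiIso_whiskerLeft_of_flat_bddAbove P 0 hPb hPf ρ hρ
  have h2 : QuasiIso (P ◁ ρ') := LTen.quasiIso_whiskerLeft_of_flat_bddAbove P 0 hPb hPf ρ' hρ'q
  have h3 : QuasiIso (π ▷ E) := hE.quasiIso_whiskerRight π hπ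
  haveI : IsIso (DerivedCategory.Q.map π) :=
    (DerivedCategory.isIso_Q_map_iff_quasiIso (φ := π)).mpr hπ
  haveI : IsIso (DerivedCategory.Q.map (P ◁ ρ)) :=
    (DerivedCategory.isIso_Q_map_iff_quasiIso (φ := P ◁ ρ)).mpr h1
  haveI : IsIso (DerivedCategory.Q.map (P ◁ ρ')) :=
    (DerivedCategory.isIso_Q_map_iff_quasiIso (φ := P ◁ ρ')).mpr h2
  haveI : IsIso (DerivedCategory.Q.map (π ▷ E)) :=
    (DerivedCategory.isIso_Q_map_iff_quasiIso (φ := π ▷ E)).mpr h3
  let iso : (DRing.LTensorCx A K).obj (DRing.toD S₀) ≅ DRing.toD (S₀ ⊗ E) :=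
    ((DRing.LTensorCx A K).mapIso (asIso (DerivedCategory.Q.map π))).symm ≪≫
      LTen.LTensorCxIso K P ≪≫ (asIso (DerivedCategory.Q.map (P ◁ ρ))).symm ≪≫
      asIso (DerivedCategory.Q.map (P ◁ ρ')) ≪≫ asIso (DerivedCategory.Q.map (π ▷ E))
  refine Iff.trans ?_ (TA.isZero_homology_Q_iff_exactAt (S₀ ⊗ E) i)
  refine Iff.trans ModuleCat.isZero_iff_subsingleton.symm ?_
  exact ((DerivedCategory.homologyFunctor (ModuleCat.{u} A) i).mapIso iso).isZero_iff

end Groth.Agent.Helper11.TorGE
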