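import Groth.Agent.Lib.Helper11.TorGE1
import Groth.Agent.Lib.Helper11.TorAmp5

/-!
# Tor amplitude in `[a, ∞)` via K-flat representatives with flat terms (helper11)
-/

set_option autoImplicit false
set_option linter.unusedSectionVars false
set_option linter.unusedVariables false
set_option linter.style.haveILetI false

universe u

open CategoryTheory CategoryTheory.Limits MonoidalCategory HomologicalComplex
open scoped TensorProduct

attribute [local instance] HasDerivedCategory.standard

namespace Groth.Agent.Helper11.TorGE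

open Groth.Agent.Helper5.KF Groth.Agent.Helper11.DC Groth.Agent.Helper11.Tel

variable {A : Type u} [CommRing A]

/-- the projection to the canonical truncation is an isomorphism in degrees `> n` -/
lemma isIso_πTruncGE_f (K : DRing.Cx A) (n i : ℤ) (hi : n < i) :
    IsIso ((CochainComplex.πTruncGE K n).f i) := by
  have h1 : (ComplexShape.embeddingUpIntGE n).f (i - n).natAbs = i := by
    change n + ((i - n).natAbs : ℤ) = i
    omega
  have h2 : ¬ (ComplexShape.embeddingUpIntGE n).BoundaryGE (i - n).natAbs := fun h => by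
    rw [ComplexShape.boundaryGE_embeddingUpIntGE_iff, Int.natAbs_eq_zero] at h
    omega
  have h3 := K.isIso_restrictionToTruncGE' (ComplexShape.embeddingUpIntGE n) _ h2
  exact ((ComplexShape.embeddingUpIntGE n).isIso_liftExtend_f_iff
    (K.restrictionToTruncGE' (ComplexShape.embeddingUpIntGE n))
    (K.restrictionToTruncGE'_hasLift (ComplexShape.embeddingUpIntGE n)) h1).mpr h3

/-- the canonical truncation `τ_{≥ a} F` of a K-flat complex with flat terms is K-flat as soon as
its terms are flat and `F ⟶ τ_{≥ a} F` is a quasi-isomorphism -/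
theorem kfl_truncGE (F : DRing.Cx A) (hFfl : KFl F) (hFf : ∀ i, Module.Flat A (F.X i)) (a : ℤ)
    (hEf : ∀ i, Module.Flat A ((CochainComplex.truncGE F a).X i))
    (hπq : QuasiIso (CochainComplex.πTruncGE F a)) : KFl (CochainComplex.truncGE F a) := by
  let E : DRing.Cx A := CochainComplex.truncGE F a
  let π : F ⟶ E := CochainComplex.πTruncGE F a
  haveI : Epi π := by
    dsimp [π, CochainComplex.πTruncGE]
    infer_instance
  let S : ShortComplex (DRing.Cx A) := ShortComplex.mk (kernel.ι π) π (kernel.condition π)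
  have hS : S.ShortExact :=
    { exact := ShortComplex.exact_of_f_is_kernel _ (kernelIsKernel π)
      mono_f := inferInstanceAs (Mono (kernel.ι π))
      epi_g := inferInstanceAs (Epi π) }
  have hSq : ∀ q : ℤ, (S.map (HomologicalComplex.eval _ _ q)).ShortExact :=
    (HomologicalComplex.shortExact_iff_degreewise_shortExact S).mp hS
  let T : DRing.Cx A := kernel π
  have hinj : ∀ q, Function.Injective ((kernel.ι π).f q).hom :=
    fun q => (hSq q).moduleCat_injective_f
  have hsurj : ∀ q, Function.Surjective (π.f q).hom :=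
    fun q => (hSq q).moduleCat_surjective_g
  have hex : ∀ q, Function.Exact ((kernel.ι π).f q).hom (π.f q).hom := fun q =>
    (ShortComplex.ShortExact.moduleCat_exact_iff_function_exact _).mp (hSq q).exact
  have hTf : ∀ q, Module.Flat A (T.X q) := fun q => by
    haveI := hFf q
    haveI := hEf q
    exact TA.flat_of_exact ((kernel.ι π).f q).hom (π.f q).hom (hinj q) (hsurj q) (hex q)
  have hTz : ∀ q : ℤ, a < q → IsZero (T.X q) := by
    intro q hq
    haveI : IsIso (π.f q) := isIso_πTruncGE_f F a q hq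
    have h2 : Function.Injective (π.f q).hom :=
      (ModuleCat.mono_iff_injective (π.f q)).mp inferInstance
    have hx : ∀ z : T.X q, ((kernel.ι π).f q).hom z = 0 := by
      intro z
      have h1 : (π.f q).hom (((kernel.ι π).f q).hom z) = 0 := ((hex q) _).mpr ⟨z, rfl⟩
      exact h2 (h1.trans (map_zero _).symm)
    haveI : Subsingleton (T.X q) := ⟨fun x y => hinj q ((hx x).trans (hx y).symm)⟩
    exact ModuleCat.isZero_of_subsingleton _
  have hTac : ∀ q, T.ExactAt q := hS.acyclic_X₁ hπq
  have hTm : ModAcyclic T := by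
    intro M q q' q'' hq hq' t ht
    exact lT_of_rT (T.d q q').hom (T.d q' q'').hom
      (TA.ker_rTensor_le_range_of_acyclic T a hTz hTf hTac M q q' q'' hq hq') t ht
  intro L hL i
  have hLT : ∀ j, IsZero ((L ⊗ T).homology j) := fun j =>
    (HomologicalComplex.exactAt_iff_isZero_homology _ _).mp (exactAt_tensor_of_modAcyclic hTm L j)
  have hLF : ∀ j, IsZero ((L ⊗ F).homology j) := hFfl L hL
  have hS' : (tensorSC L S).ShortExact := by
    refine shortExact_tensorSC L S ?_ ?_ ?_
    · intro p q
      haveI := hEf q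
      exact LinearMap.lTensor_injective_of_exact_of_flat (π.f q).hom (hsurj q)
        ((kernel.ι π).f q).hom (hinj q) (hex q) (L.X p)
    · intro p q
      exact LinearMap.lTensor_surjective (L.X p) (hsurj q)
    · intro p q
      exact lTensor_exact (L.X p) (hex q) (hsurj q)
  exact (acyclic_of_shortExact _ hS').1 hLT hLF i

/-- the canonical truncation of a K-flat complex with flat terms satisfying the tor-vanishing below
`a` is a K-flat complex with flat terms, zero below `a`, quasi-isomorphic to the given complex -/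
theorem truncGE_spec (F : DRing.Cx A) (hFfl : KFl F) (hFf : ∀ i, Module.Flat A (F.X i)) (a : ℤ)
    (h3 : ∀ (M : ModuleCat.{u} A) (q q' q'' : ℤ), q + 1 = q' → q' + 1 = q'' → q' < a →
      ∀ t : (M ⊗ F.X q' : ModuleCat.{u} A), (M ◁ F.d q' q'') t = 0 →
        ∃ s : (M ⊗ F.X q : ModuleCat.{u} A), (M ◁ F.d q q') s = t) :
    KFl (CochainComplex.truncGE F a) ∧ (∀ i, Module.Flat A ((CochainComplex.truncGE F a).X i)) ∧
      (∀ i : ℤ, i < a → IsZero ((CochainComplex.truncGE F a).X i)) ∧
      QuasiIso (CochainComplex.πTruncGE F a) := by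
  have h2 : ∀ i : ℤ, i < a → F.ExactAt i := by
    intro i hi
    refine TA.exactAt_of_ker_le_range F (i - 1) i (i + 1) (by omega) rfl ?_
    intro x hx
    rw [LinearMap.mem_ker] at hx
    have hx' : (F.d i (i + 1)) x = 0 := hx
    have ht : (𝟙_ (ModuleCat.{u} A) ◁ F.d i (i + 1)) ((λ_ (F.X i)).inv x) = 0 := by
      have h1 : (𝟙_ (ModuleCat.{u} A) ◁ F.d i (i + 1)) ((λ_ (F.X i)).inv x) =
          (λ_ (F.X (i + 1))).inv ((F.d i (i + 1)) x) :=
        (app (leftUnitor_inv_naturality (F.d i (i + 1))) x).symm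
      rw [h1, hx', map_zero]
    obtain ⟨s, hs⟩ := h3 (𝟙_ _) (i - 1) i (i + 1) (by omega) rfl hi _ ht
    refine ⟨(λ_ (F.X (i - 1))).hom s, ?_⟩
    have h4 : (F.d (i - 1) i) ((λ_ (F.X (i - 1))).hom s) =
        (λ_ (F.X i)).hom ((𝟙_ (ModuleCat.{u} A) ◁ F.d (i - 1) i) s) :=
      (app (leftUnitor_naturality (F.d (i - 1) i)) s).symm
    change (F.d (i - 1) i) ((λ_ (F.X (i - 1))).hom s) = x
    rw [h4, hs]
    have h5 := app (λ_ (F.X i)).inv_hom_id x
    exact h5
  have hGE : F.IsGE a := by
    rw [CochainComplex.isGE_iff]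
    intro i hi
    exact h2 i hi
  haveI := hGE
  have hπq : QuasiIso (CochainComplex.πTruncGE F a) := inferInstance
  have hquot : Module.Flat A (F.X a ⧸ LinearMap.range (F.d (a - 1) a).hom) := by
    haveI := hFf a
    refine TA.flat_coker_of_exact (F.d (a - 2) (a - 1)).hom (F.d (a - 1) a).hom ?_ ?_
    · ext x
      exact congr($(F.d_comp_d (a - 2) (a - 1) a) x)
    · intro B _ _
      refine rT_of_lT (F.d (a - 2) (a - 1)).hom (F.d (a - 1) a).hom ?_
      intro t ht
      exact h3 (ModuleCat.of A B) (a - 2) (a - 1) a (by omega) (by omega) (by omega) t ht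
  have hEf : ∀ i, Module.Flat A ((CochainComplex.truncGE F a).X i) := by
    intro i
    by_cases hia : i < a
    · have hz : IsZero ((CochainComplex.truncGE F a).X i) :=
        CochainComplex.isZero_of_isStrictlyGE _ a i hia
      haveI : Subsingleton ((CochainComplex.truncGE F a).X i) :=
        ModuleCat.subsingleton_of_isZero hz
      infer_instance
    · by_cases hia' : a < i
      · haveI := hFf i
        exact Module.Flat.of_linearEquiv (CochainComplex.truncGEXIso F a i hia').toLinearEquiv
      · obtain rfl : i = a := by omega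
        haveI := hquot
        exact Module.Flat.of_linearEquiv (TA.truncGEXIsoQuot F i).toLinearEquiv
  exact ⟨kfl_truncGE F hFfl hFf a hEf hπq, hEf,
    fun i hi => CochainComplex.isZero_of_isStrictlyGE _ a i hi, hπq⟩

theorem exists_rep_of_vanishing (K : DRing.Cx A) [DRing.HasLTensorCx A K] (a : ℤ)
    (h : ∀ (M : ModuleCat.{u} A) (i : ℤ), i < a →
      Subsingleton (Dual.HD A ((DRing.LTensorCx A K).obj
        (DRing.toD ((CochainComplex.singleFunctor (ModuleCat.{u} A) 0).obj M))) i)) :
    ∃ E : DRing.Cx A, KFl E ∧ DRing.TermwiseFlat E ∧ (∀ i : ℤ, i < a → IsZero (E.X i)) ∧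
      Nonempty (DRing.toD E ≅ DRing.toD K) := by
  obtain ⟨F, ρ, hFk, hFp, hρ⟩ := exists_kprojective_resolution K
  haveI := hFk
  haveI : IsIso (DerivedCategory.Q.map ρ) :=
    (DerivedCategory.isIso_Q_map_iff_quasiIso (φ := ρ)).mpr hρ
  have hFfl : KFl F := kfl_of_isKProjective F
  have hFf : ∀ i, Module.Flat A (F.X i) := fun i => by
    haveI := hFp i
    infer_instance
  have h3 : ∀ (M : ModuleCat.{u} A) (q q' q'' : ℤ), q + 1 = q' → q' + 1 = q'' → q' < a →
      ∀ t : (M ⊗ F.X q' : ModuleCat.{u} A), (M ◁ F.d q' q'') t = 0 →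
        ∃ s : (M ⊗ F.X q : ModuleCat.{u} A), (M ◁ F.d q q') s = t := by
    intro M q q' q'' hq hq' hlt t ht
    exact exists_of_exactAt_singleM M F q q' q'' hq hq'
      ((subsingleton_iff_exactAt K F hFfl (asIso (DerivedCategory.Q.map ρ)) M q').mp
        (h M q' hlt)) t ht
  obtain ⟨hEk, hEf, hEz, hπq⟩ := truncGE_spec F hFfl hFf a h3
  haveI : IsIso (DerivedCategory.Q.map (CochainComplex.πTruncGE F a)) :=
    (DerivedCategory.isIso_Q_map_iff_quasiIso (φ := CochainComplex.πTruncGE F a)).mpr hπq
  exact ⟨CochainComplex.truncGE F a, hEk, hEf, hEz,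
    ⟨(asIso (DerivedCategory.Q.map (CochainComplex.πTruncGE F a))).symm ≪≫
      asIso (DerivedCategory.Q.map ρ)⟩⟩

theorem main (R : Type u) [CommRing R] (a : ℤ) (K : DRing.Cx R) [DRing.HasLTensorCx R K] :
    (∀ (M : ModuleCat.{u} R) (i : ℤ), i < a →
        Subsingleton (Dual.HD R ((DRing.LTensorCx R K).obj
          (DRing.toD ((CochainComplex.singleFunctor (ModuleCat.{u} R) 0).obj M))) i)) ↔
      ∃ E : DRing.Cx R, (∀ L : DRing.Cx R, (∀ i : ℤ, IsZero (L.homology i)) →
          ∀ i : ℤ, IsZero ((L ⊗ E).homology i)) ∧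
        DRing.TermwiseFlat E ∧ (∀ i : ℤ, i < a → IsZero (E.X i)) ∧
        Nonempty (DRing.toD E ≅ DRing.toD K) := by
  constructor
  · intro h
    exact exists_rep_of_vanishing K a h
  · rintro ⟨E, hEk, hEf, hEz, ⟨e⟩⟩ M i hi
    rw [subsingleton_iff_exactAt K E hEk e M i]
    refine ShortComplex.exact_of_isZero_X₂ _ ?_
    exact LTen.isZero_tensor_X_of_bddBelow
      ((CochainComplex.singleFunctor (ModuleCat.{u} R) 0).obj M) E 0 a
      (fun j hj => HomologicalComplex.isZero_single_obj_X (ComplexShape.up ℤ) 0 M j (by omega))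
      hEz i (by omega)

end Groth.Agent.Helper11.TorGE
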