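import Groth.Agent.Lib.Helper11.TorAmp9
import Groth.Agent.Lib.Helper18.Tor.Low

/-!
Tor-acyclic modules with respect to a fixed module `M`, and tensoring acyclic bounded above
complexes of `M`-Tor-acyclic modules with `M` (helper11).
-/

set_option autoImplicit false
universe u

open CategoryTheory Limits MonoidalCategory TensorProduct Function

namespace Groth.Agent.Helper11.TorInd

open Groth.Agent.Helper11.TA Groth.Agent.Helper18.TorLib

variable {R : Type u} [CommRing R]

/-- all higher `Tor_n(X, M)` vanish -/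
def TorAcyc (M X : ModuleCat.{u} R) : Prop :=
  ∀ n : ℕ, IsZero (((Tor (ModuleCat.{u} R) (n + 1)).obj X).obj M)

theorem TorAcyc.of_iso {M X Y : ModuleCat.{u} R} (e : X ≅ Y) (h : TorAcyc M X) : TorAcyc M Y :=
  fun n => (h n).of_iso (((Tor (ModuleCat.{u} R) (n + 1)).mapIso e.symm).app M)

theorem TorAcyc.of_iso_right {M M' X : ModuleCat.{u} R} (e : M ≅ M') (h : TorAcyc M X) :
    TorAcyc M' X :=
  fun n => (h n).of_iso ((((Tor (ModuleCat.{u} R) (n + 1)).obj X).mapIso e.symm))

theorem torAcyc_of_flat (M X : ModuleCat.{u} R) [Module.Flat R X] : TorAcyc M X :=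
  fun n => isZero_tor_succ_of_flat_left X M n

section SES

variable {S : ShortComplex (ModuleCat.{u} R)} (hS : S.ShortExact) (M : ModuleCat.{u} R)

include hS in
theorem TorAcyc.X₁ (h₂ : TorAcyc M S.X₂) (h₃ : TorAcyc M S.X₃) : TorAcyc M S.X₁ := fun n =>
  (tor_exact₁ hS M (n + 1)).isZero_of_both_isZero (h₃ (n + 1)) (h₂ n)

include hS in
theorem TorAcyc.X₂ (h₁ : TorAcyc M S.X₁) (h₃ : TorAcyc M S.X₃) : TorAcyc M S.X₂ := fun n =>
  (tor_exact₂ hS M (n + 1)).isZero_of_both_isZero (h₁ n) (h₃ n)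

include hS in
theorem mono_whiskerRight_of_torAcyc (h₃ : TorAcyc M S.X₃) : Mono (S.f ▷ M) := by
  rw [← mono_tor0_map_iff]
  exact (tor_exact₁ hS M 0).mono_g ((h₃ 0).eq_of_src _ _)

end SES

section Linear

variable {K X Z : Type u} [AddCommGroup K] [AddCommGroup X] [AddCommGroup Z]
  [Module R K] [Module R X] [Module R Z]

/-- the short complex of a short exact sequence of linear maps -/
noncomputable abbrev scOf (g : K →ₗ[R] X) (f : X →ₗ[R] Z) (H : Exact g f) :
    ShortComplex (ModuleCat.{u} R) :=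
  ShortComplex.mk (ModuleCat.ofHom g) (ModuleCat.ofHom f) (by
    ext x
    exact H.apply_apply_eq_zero x)

theorem scOf_shortExact (g : K →ₗ[R] X) (f : X →ₗ[R] Z) (hg : Injective g) (hf : Surjective f)
    (H : Exact g f) : (scOf g f H).ShortExact := by
  refine ShortComplex.ShortExact.mk' ?_ ?_ ?_
  · rw [ShortComplex.ShortExact.moduleCat_exact_iff_function_exact]
    exact H
  · exact (ModuleCat.mono_iff_injective _).2 hg
  · exact (ModuleCat.epi_iff_surjective _).2 hf

theorem torAcyc_ker_of_exact (M : ModuleCat.{u} R) (g : K →ₗ[R] X) (f : X →ₗ[R] Z)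
    (hg : Injective g) (hf : Surjective f) (H : Exact g f)
    (hX : TorAcyc M (ModuleCat.of R X)) (hZ : TorAcyc M (ModuleCat.of R Z)) :
    TorAcyc M (ModuleCat.of R K) :=
  TorAcyc.X₁ (scOf_shortExact g f hg hf H) M hX hZ

theorem torAcyc_mid_of_exact (M : ModuleCat.{u} R) (g : K →ₗ[R] X) (f : X →ₗ[R] Z)
    (hg : Injective g) (hf : Surjective f) (H : Exact g f)
    (hK : TorAcyc M (ModuleCat.of R K)) (hZ : TorAcyc M (ModuleCat.of R Z)) :
    TorAcyc M (ModuleCat.of R X) :=
  TorAcyc.X₂ (scOf_shortExact g f hg hf H) M hK hZ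

theorem rTensor_injective_of_torAcyc (M : ModuleCat.{u} R) (g : K →ₗ[R] X) (f : X →ₗ[R] Z)
    (hg : Injective g) (hf : Surjective f) (H : Exact g f)
    (hZ : TorAcyc M (ModuleCat.of R Z)) : Injective (g.rTensor M) := by
  have h := mono_whiskerRight_of_torAcyc (scOf_shortExact g f hg hf H) M hZ
  rw [mono_whiskerRight_iff] at h
  exact h

theorem torAcyc_prod (M : ModuleCat.{u} R) (hK : TorAcyc M (ModuleCat.of R K))
    (hZ : TorAcyc M (ModuleCat.of R Z)) : TorAcyc M (ModuleCat.of R (K × Z)) := by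
  refine torAcyc_mid_of_exact M (LinearMap.inl R K Z) (LinearMap.snd R K Z)
    LinearMap.inl_injective LinearMap.snd_surjective ?_ hK hZ
  intro y
  constructor
  · intro h
    exact ⟨y.1, Prod.ext rfl h.symm⟩
  · rintro ⟨x, rfl⟩
    rfl

end Linear

section Complex

variable (C : CochainComplex (ModuleCat.{u} R) ℤ) (M : ModuleCat.{u} R)
  (c : ℤ) (hc : ∀ i : ℤ, c < i → IsZero (C.X i))
  (hta : ∀ i : ℤ, TorAcyc M (C.X i)) (hex : ∀ i : ℤ, C.ExactAt i)

include hc hta hex in
theorem torAcyc_ker_of_acyclic_aux (n : ℕ) : ∀ (j k : ℤ), j + 1 = k → c + 1 - n ≤ j →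
    TorAcyc M (ModuleCat.of R (LinearMap.ker (C.d j k).hom)) := by
  induction n with
  | zero =>
    intro j k hjk hj
    haveI : Subsingleton (C.X j) := ModuleCat.subsingleton_of_isZero (hc j (by omega))
    haveI : Subsingleton (LinearMap.ker (C.d j k).hom) :=
      ⟨fun x y => Subtype.ext (Subsingleton.elim _ _)⟩
    haveI : Module.Flat R (ModuleCat.of R (LinearMap.ker (C.d j k).hom)) :=
      inferInstanceAs (Module.Flat R (LinearMap.ker (C.d j k).hom))
    exact torAcyc_of_flat M _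
  | succ n ih =>
    intro j k hjk hj
    obtain ⟨p, hp, hex', -⟩ := exists_ses C j k (k + 1) hjk rfl (hex k)
    exact torAcyc_ker_of_exact M (LinearMap.ker (C.d j k).hom).subtype p
      (Submodule.injective_subtype _) hp hex' (hta j) (ih k (k + 1) rfl (by omega))

include hc hta hex in
theorem torAcyc_ker_of_acyclic (j k : ℤ) (hjk : j + 1 = k) :
    TorAcyc M (ModuleCat.of R (LinearMap.ker (C.d j k).hom)) :=
  torAcyc_ker_of_acyclic_aux C M c hc hta hex (c + 1 - j).toNat j k hjk (by omega)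

include hc hta hex in
theorem ker_rTensor_le_range_of_acyclic' (j k l : ℤ) (hjk : j + 1 = k) (hkl : k + 1 = l) :
    LinearMap.ker ((C.d k l).hom.rTensor M) ≤ LinearMap.range ((C.d j k).hom.rTensor M) := by
  intro x hx
  obtain ⟨p₀, hp₀s, -, hp₀c⟩ := exists_ses C j k l hjk hkl (hex k)
  obtain ⟨p₁, hp₁s, hp₁e, hp₁c⟩ := exists_ses C k l (l + 1) hkl rfl (hex l)
  obtain ⟨p₂, hp₂s, hp₂e, -⟩ := exists_ses C l (l + 1) (l + 1 + 1) rfl rfl (hex (l + 1))
  have hinj : Injective ((LinearMap.ker (C.d l (l + 1)).hom).subtype.rTensor M) :=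
    rTensor_injective_of_torAcyc M _ p₂ (Submodule.injective_subtype _) hp₂s hp₂e
      (torAcyc_ker_of_acyclic C M c hc hta hex (l + 1) (l + 1 + 1) rfl)
  have h1 : (C.d k l).hom.rTensor M =
      ((LinearMap.ker (C.d l (l + 1)).hom).subtype.rTensor M).comp (p₁.rTensor M) := by
    rw [← LinearMap.rTensor_comp, hp₁c]
  have h2 : (p₁.rTensor M) x = 0 := by
    apply hinj
    rw [map_zero, ← LinearMap.comp_apply, ← h1]
    exact LinearMap.mem_ker.mp hx
  obtain ⟨y, rfl⟩ := ((rTensor_exact M hp₁e hp₁s) x).mp h2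
  obtain ⟨z, rfl⟩ := LinearMap.rTensor_surjective M hp₀s y
  refine ⟨z, ?_⟩
  rw [← hp₀c, LinearMap.rTensor_comp]
  rfl

include hc hta hex in
/-- an acyclic bounded above complex of `M`-Tor-acyclic modules stays acyclic after `- ⊗ M`. -/
theorem exactAt_tens_of_acyclic' (k : ℤ) : ((tens M).obj C).ExactAt k := by
  refine exactAt_of_ker_le_range ((tens M).obj C) (k - 1) k (k + 1) (by omega) rfl ?_
  rw [tens_d_hom, tens_d_hom]
  exact ker_rTensor_le_range_of_acyclic' C M c hc hta hex (k - 1) k (k + 1) (by omega) rfl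

end Complex

section Restrict

variable {A : Type u} [CommRing A] [Algebra R A]

/-- if `A` is `N`-Tor-acyclic over `R`, so is every flat `A`-module -/
theorem torAcyc_restrict_of_flat (N : ModuleCat.{u} R) (hA : TorAcyc N (ModuleCat.of R A))
    (F : ModuleCat.{u} A) [Module.Flat A F] :
    TorAcyc N ((ModuleCat.restrictScalars.{u} (algebraMap R A)).obj F) := by
  intro n
  have h := (isZero_tor_succ_iff_exact (ModuleCat.of R A) N n).mp (hA n)
  rw [isZero_tor_succ_iff_exact]
  letI : Module R F := Module.compHom F (algebraMap R A)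
  haveI : IsScalarTower R A F := ⟨fun r a m => by
    rw [Algebra.smul_def, mul_smul]; rfl⟩
  exact exact_lTensor_of_exact_baseChange (k := R) (S := A) F _ _ h

end Restrict

end Groth.Agent.Helper11.TorInd
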