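import Groth.Agent.Lib.Helper11.TorInd1
import Groth.Agent.Lib.Helper11.RelBC3
import Groth.Agent.Lib.Helper3.KP1

/-!
Tor-independent base change and `m`-pseudo-coherence (helper11).
-/

set_option autoImplicit false

open CategoryTheory Category Limits Pretriangulated DerivedCategory ZeroObject MonoidalCategory

attribute [local instance] HasDerivedCategory.standard

universe u

namespace Groth.Agent.Helper11.TorInd

open Groth.Agent.Helper11.DC Groth.Agent.Helper11.MPC Groth.Agent.Helper11.TA
  Groth.Agent.Helper11.LDer Groth.Agent.Helper11.Dev Groth.Agent.Helper11.PcBC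

section Key

variable (R R' P P' : Type u) [CommRing R] [CommRing R'] [CommRing P] [CommRing P']
  [Algebra R R'] [Algebra R P] [Algebra R P'] [Algebra P P'] [Algebra R' P']
  [IsScalarTower R P P'] [IsScalarTower R R' P'] [Algebra.IsPushout R R' P P']

/-- an acyclic bounded above complex of `P`-modules which are `R'`-Tor-acyclic over `R` stays
acyclic after the base change `P → P' = R' ⊗_R P`. -/
theorem exactAt_esC_of_acyclic (C : DRing.Cx P) (c : ℤ) (hc : DRing.VanishesAbove C c)
    (hta : ∀ i, TorAcyc (ModuleCat.of R R')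
      ((ModuleCat.restrictScalars.{u} (algebraMap R P)).obj (C.X i)))
    (hex : ∀ i, C.ExactAt i) (k : ℤ) : ((esC (algebraMap P P')).obj C).ExactAt k := by
  have hDc : ∀ i : ℤ, c < i → IsZero (((rsC (algebraMap R P)).obj C).X i) := fun i hi =>
    (ModuleCat.restrictScalars.{u} (algebraMap R P)).map_isZero (hc i hi)
  have hDex : ∀ i, ((rsC (algebraMap R P)).obj C).ExactAt i := fun i => by
    rw [HomologicalComplex.exactAt_iff_isZero_homology, isZero_homology_rsC_iff,
      ← HomologicalComplex.exactAt_iff_isZero_homology]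
    exact hex i
  have h1 := exactAt_tens_of_acyclic' ((rsC (algebraMap R P)).obj C) (ModuleCat.of R R') c hDc
    hta hDex k
  have eM : ModuleCat.of R R' ≅ Bm (algebraMap R R') :=
    (FlatPc.e₁ (R := R) (S := R')).symm.toModuleIso
  rw [HomologicalComplex.exactAt_iff_isZero_homology] at h1 ⊢
  have h2 : IsZero (((tens (Bm (algebraMap R R'))).obj ((rsC (algebraMap R P)).obj C)).homology k) :=
    h1.of_iso ((HomologicalComplex.homologyFunctor _ _ k).mapIso
      ((tensIso eM).app ((rsC (algebraMap R P)).obj C)).symm)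
  have h3 : IsZero (((esC (algebraMap R R')).obj ((rsC (algebraMap R P)).obj C)).homology k) :=
    (isZero_homology_tens_Bm_iff _ _ k).mp h2
  have h4 : IsZero (((rsC (algebraMap R' P')).obj ((esC (algebraMap P P')).obj C)).homology k) :=
    h3.of_iso ((HomologicalComplex.homologyFunctor _ _ k).mapIso
      (FlatPc.bcCxIso_po R R' P P' C).symm)
  exact (isZero_homology_rsC_iff _ _ k).mp h4

/-- a quasi-isomorphism between bounded above complexes of `P`-modules which are
`R'`-Tor-acyclic over `R` stays a quasi-isomorphism after the base change `P → P'`. -/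
theorem isIso_Q_map_esC_of_torAcyc (F E : DRing.Cx P) (cF cE : ℤ)
    (hF : DRing.VanishesAbove F cF) (hE : DRing.VanishesAbove E cE)
    (hFt : ∀ i, TorAcyc (ModuleCat.of R R')
      ((ModuleCat.restrictScalars.{u} (algebraMap R P)).obj (F.X i)))
    (hEt : ∀ i, TorAcyc (ModuleCat.of R R')
      ((ModuleCat.restrictScalars.{u} (algebraMap R P)).obj (E.X i)))
    (ψ : F ⟶ E) (hψ : IsIso (Q.map ψ)) : IsIso (Q.map ((esC (algebraMap P P')).map ψ)) := by
  have hex := cone_exactAt ψ hψ
  have hz : ∀ i : ℤ, max cF cE < i → IsZero ((CochainComplex.mappingCone ψ).X i) := by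
    intro i hi
    exact mappingCone_isZero ψ i (hF _ (by omega)) (hE _ (by omega))
  have hta : ∀ i, TorAcyc (ModuleCat.of R R')
      ((ModuleCat.restrictScalars.{u} (algebraMap R P)).obj
        ((CochainComplex.mappingCone ψ).X i)) := by
    intro i
    let e : (CochainComplex.mappingCone ψ).X i ≃ₗ[P] (F.X (i + 1) × E.X i) :=
      mappingConeXEquiv ψ i
    let eR : ((ModuleCat.restrictScalars.{u} (algebraMap R P)).obj
        ((CochainComplex.mappingCone ψ).X i)) ≃ₗ[R]
        (((ModuleCat.restrictScalars.{u} (algebraMap R P)).obj (F.X (i + 1))) ×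
          ((ModuleCat.restrictScalars.{u} (algebraMap R P)).obj (E.X i))) :=
      { toFun := fun x => e x
        invFun := fun y => e.symm y
        map_add' := fun x y => e.map_add x y
        map_smul' := fun r x => e.map_smul (algebraMap R P r) x
        left_inv := e.left_inv
        right_inv := e.right_inv }
    have t3 := torAcyc_prod
      (K := ((ModuleCat.restrictScalars.{u} (algebraMap R P)).obj (F.X (i + 1))))
      (Z := ((ModuleCat.restrictScalars.{u} (algebraMap R P)).obj (E.X i)))
      (ModuleCat.of R R') (hFt (i + 1)) (hEt i)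
    have t4 := t3.of_iso eR.symm.toModuleIso
    exact t4
  have h1 := exactAt_esC_of_acyclic R R' P P' _ (max cF cE) hz hta hex
  have e := CochainComplex.mappingCone.mapHomologicalComplexIso ψ (es (algebraMap P P'))
  have hz2 : IsZero (Q.obj (CochainComplex.mappingCone ((esC (algebraMap P P')).map ψ))) :=
    IsZero.of_iso (isZero_Q_of_exactAt _ h1) (Q.mapIso e.symm)
  have hT := DerivedCategory.mappingCone_triangle_distinguished ((esC (algebraMap P P')).map ψ)
  exact (Triangle.isZero₃_iff_isIso₁ _ hT).mp hz2

end Key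

section Core

variable (R R' P P' A A' : Type u) [CommRing R] [CommRing R'] [CommRing P] [CommRing P']
  [CommRing A] [CommRing A']
  [Algebra R R'] [Algebra R P] [Algebra R P'] [Algebra P P'] [Algebra R' P']
  [IsScalarTower R P P'] [IsScalarTower R R' P'] [Algebra.IsPushout R R' P P'] [Module.Flat R P]
  [Algebra R A] [Algebra P A] [IsScalarTower R P A]
  [Algebra P A'] [Algebra A A'] [Algebra P' A'] [IsScalarTower P A A'] [IsScalarTower P P' A']
  [Algebra.IsPushout P P' A A']

/-- **Tor-independent base change** of `m`-pseudo-coherence: `P → A`, `P' = R' ⊗_R P`,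
`A' = P' ⊗_P A`, with `Tor^R_{>0}(A, R') = 0` and `P` flat over `R`. -/
theorem core_ti (htor : TorAcyc (ModuleCat.of R R') (ModuleCat.of R A))
    (T : DRing.Cx A) (c : ℤ) (hc : DRing.VanishesAbove T c) (hT : ∀ i, Module.Flat A (T.X i))
    (m : ℤ)
    (h : DRing.IsPseudoCoherent P m ((DRing.restrictD (algebraMap P A)).obj (Q.obj T))) :
    DRing.IsPseudoCoherent P' m ((DRing.restrictD (algebraMap P' A')).obj
      (Q.obj ((esC (algebraMap A A')).obj T))) := by
  haveI : DRing.HasLBaseChange (algebraMap P P') :=
    Groth.Agent.Helper3.KP.hasLeftDerivedFunctor _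
  have h1 : DRing.IsPseudoCoherent P m (Q.obj ((rsC (algebraMap P A)).obj T)) :=
    mpc_of_iso
      ((ModuleCat.restrictScalars.{u} (algebraMap P A)).mapDerivedCategoryFactors.app T) h
  obtain ⟨b, hb⟩ := exists_isLE_of_mpc h1
  obtain ⟨F, cF, hcF, hFp, ⟨e⟩⟩ := PRT.hasProjRes_of_isLE _ b hb
  haveI : F.IsKProjective := isKProjective_of_vanishesAbove F cF hcF hFp
  obtain ⟨ψ, hψ⟩ := exists_lift_of_isKProjective F ((rsC (algebraMap P A)).obj T) e.hom
  have hiso : IsIso (Q.map ψ) := by
    rw [hψ]
    infer_instance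
  obtain ⟨eL⟩ := nonempty_LBaseChange_iso_of_projRes (algebraMap P P') _ F cF hcF hFp e
  have h2 : DRing.IsPseudoCoherent P' m (Q.obj ((esC (algebraMap P P')).obj F)) :=
    mpc_of_iso eL (mpc_LBaseChange (algebraMap P P') _ m h1)
  have hFt : ∀ i, TorAcyc (ModuleCat.of R R')
      ((ModuleCat.restrictScalars.{u} (algebraMap R P)).obj (F.X i)) := fun i => by
    haveI : Module.Flat P (F.X i) := by
      haveI := hFp i
      infer_instance
    haveI := Groth.Agent.Helper11.RPBC.flat_restrictScalars R P (F.X i)
    exact torAcyc_of_flat _ _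
  have hEt : ∀ i, TorAcyc (ModuleCat.of R R')
      ((ModuleCat.restrictScalars.{u} (algebraMap R P)).obj
        (((rsC (algebraMap P A)).obj T).X i)) := fun i => by
    haveI := hT i
    have h0 := torAcyc_restrict_of_flat (ModuleCat.of R R') htor (T.X i)
    exact h0.of_iso (ModuleCat.restrictScalarsComp'App (algebraMap R P) (algebraMap P A)
      (algebraMap R A) (IsScalarTower.algebraMap_eq R P A) (T.X i))
  have hEc : DRing.VanishesAbove ((rsC (algebraMap P A)).obj T) c := fun i hi =>
    (ModuleCat.restrictScalars.{u} (algebraMap P A)).map_isZero (hc i hi)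
  haveI := isIso_Q_map_esC_of_torAcyc R R' P P' F _ cF c hcF hEc hFt hEt ψ hiso
  have h3 := mpc_of_iso (asIso (Q.map ((esC (algebraMap P P')).map ψ))) h2
  have h4 := mpc_of_iso (Q.mapIso (FlatPc.bcCxIso_po P P' A A' T)) h3
  exact mpc_of_iso
    ((ModuleCat.restrictScalars.{u} (algebraMap P' A')).mapDerivedCategoryFactors.app _).symm h4

end Core

end Groth.Agent.Helper11.TorInd
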