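import Groth.Agent.Lib.Helper11.TorInd2
import Groth.Agent.Lib.Helper11.RelPerfBC
import Mathlib.RingTheory.TensorProduct.MvPolynomial

/-!
Relative pseudo-coherence and Tor-independent base change `R → R'` (helper11).
-/

set_option autoImplicit false

open CategoryTheory Category Limits Pretriangulated DerivedCategory ZeroObject MonoidalCategory

attribute [local instance] HasDerivedCategory.standard

universe u

namespace Groth.Agent.Helper11.TorInd

open Groth.Agent.Helper11.DC Groth.Agent.Helper11.MPC Groth.Agent.Helper11.TA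
  Groth.Agent.Helper11.LDer Groth.Agent.Helper11.Dev Groth.Agent.Helper11.PcBC
  Groth.Agent.Helper11.RelBC

open TensorProduct

attribute [local instance] MvPolynomial.algebraMvPolynomial Algebra.TensorProduct.rightAlgebra

variable {R A R' : Type u} [CommRing R] [CommRing A] [CommRing R'] [Algebra R A] [Algebra R R']

/-- the base change of a presentation -/
noncomputable def alpha' {n : ℕ} (α : MvPolynomial (Fin n) R →ₐ[R] A) :
    MvPolynomial (Fin n) R' →ₐ[R'] R' ⊗[R] A :=
  MvPolynomial.aeval (fun i => (1 : R') ⊗ₜ[R] α (MvPolynomial.X i))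

theorem alpha'_comm {n : ℕ} (α : MvPolynomial (Fin n) R →ₐ[R] A) :
    ((alpha' (R' := R') α : MvPolynomial (Fin n) R' →+* R' ⊗[R] A)).comp
        (MvPolynomial.map (algebraMap R R')) =
      (Algebra.TensorProduct.includeRight : A →ₐ[R] R' ⊗[R] A).toRingHom.comp
        (α : MvPolynomial (Fin n) R →+* A) := by
  apply MvPolynomial.ringHom_ext
  · intro r
    have h1 : (alpha' (R' := R') α) (MvPolynomial.C (algebraMap R R' r)) =
        algebraMap R' (R' ⊗[R] A) (algebraMap R R' r) :=
      (alpha' (R' := R') α).commutes (algebraMap R R' r)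
    have h2 : α (MvPolynomial.C r) = algebraMap R A r := α.commutes r
    show (alpha' (R' := R') α) (MvPolynomial.map (algebraMap R R') (MvPolynomial.C r)) =
      (1 : R') ⊗ₜ[R] α (MvPolynomial.C r)
    rw [MvPolynomial.map_C, h1, h2]
    show (algebraMap R R' r) ⊗ₜ[R] (1 : A) = (1 : R') ⊗ₜ[R] (algebraMap R A r)
    rw [Algebra.algebraMap_eq_smul_one, Algebra.algebraMap_eq_smul_one, TensorProduct.smul_tmul]
  · intro i
    show (alpha' (R' := R') α) (MvPolynomial.map (algebraMap R R') (MvPolynomial.X i)) =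
      (1 : R') ⊗ₜ[R] α (MvPolynomial.X i)
    rw [MvPolynomial.map_X]
    exact MvPolynomial.aeval_X _ i

theorem alpha'_map {n : ℕ} (α : MvPolynomial (Fin n) R →ₐ[R] A) (p : MvPolynomial (Fin n) R) :
    (alpha' (R' := R') α) (MvPolynomial.map (algebraMap R R') p) = (1 : R') ⊗ₜ[R] α p :=
  congr($(alpha'_comm (R' := R') α) p)

theorem alpha'_surjective {n : ℕ} (α : MvPolynomial (Fin n) R →ₐ[R] A)
    (hα : Function.Surjective α) : Function.Surjective (alpha' (R' := R') α) := by
  intro x
  induction x using TensorProduct.induction_on with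
  | zero => exact ⟨0, map_zero _⟩
  | tmul r a =>
    obtain ⟨p, rfl⟩ := hα a
    refine ⟨r • MvPolynomial.map (algebraMap R R') p, ?_⟩
    rw [map_smul, alpha'_map, TensorProduct.smul_tmul', smul_eq_mul, mul_one]
  | add x y hx hy =>
    obtain ⟨p, rfl⟩ := hx
    obtain ⟨q, rfl⟩ := hy
    exact ⟨p + q, map_add _ p q⟩

/-- the key instantiation of `core_ti` -/
theorem via_alpha' (htor : TorAcyc (ModuleCat.of R R') (ModuleCat.of R A)) {n : ℕ}
    (α : MvPolynomial (Fin n) R →ₐ[R] A)
    (T : DRing.Cx A) (c : ℤ) (hc : DRing.VanishesAbove T c) (hT : ∀ i, Module.Flat A (T.X i))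
    (m : ℤ) (h : DerCA.IsRelPseudoCoherentVia α m (Q.obj T)) :
    DerCA.IsRelPseudoCoherentVia (alpha' (R' := R') α) m
      (Q.obj ((esC (Algebra.TensorProduct.includeRight : A →ₐ[R] R' ⊗[R] A).toRingHom).obj T)) := by
  letI : Algebra (MvPolynomial (Fin n) R) A := (α : MvPolynomial (Fin n) R →+* A).toAlgebra
  haveI : IsScalarTower R (MvPolynomial (Fin n) R) A :=
    IsScalarTower.of_algebraMap_eq (fun r => (α.commutes r).symm)
  letI : Algebra (MvPolynomial (Fin n) R') (R' ⊗[R] A) :=
    (alpha' (R' := R') α : MvPolynomial (Fin n) R' →+* R' ⊗[R] A).toAlgebra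
  letI : Algebra (MvPolynomial (Fin n) R) (R' ⊗[R] A) :=
    ((algebraMap A (R' ⊗[R] A)).comp (algebraMap (MvPolynomial (Fin n) R) A)).toAlgebra
  haveI : IsScalarTower (MvPolynomial (Fin n) R) A (R' ⊗[R] A) :=
    IsScalarTower.of_algebraMap_eq (fun x => rfl)
  haveI : IsScalarTower (MvPolynomial (Fin n) R) (MvPolynomial (Fin n) R') (R' ⊗[R] A) :=
    IsScalarTower.of_algebraMap_eq (fun x => (alpha'_map (R' := R') α x).symm)
  haveI : IsScalarTower R' (MvPolynomial (Fin n) R') (R' ⊗[R] A) :=
    IsScalarTower.of_algebraMap_eq (fun r => ((alpha' (R' := R') α).commutes r).symm)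
  haveI : IsScalarTower R (MvPolynomial (Fin n) R') (R' ⊗[R] A) :=
    IsScalarTower.of_algebraMap_eq (fun r => by
      rw [IsScalarTower.algebraMap_apply R R' (R' ⊗[R] A),
        IsScalarTower.algebraMap_apply R R' (MvPolynomial (Fin n) R'),
        ← IsScalarTower.algebraMap_apply R' (MvPolynomial (Fin n) R') (R' ⊗[R] A)])
  have hpo1 : Algebra.IsPushout R A R' (R' ⊗[R] A) := inferInstance
  have hpo2 : Algebra.IsPushout (MvPolynomial (Fin n) R) A (MvPolynomial (Fin n) R')
      (R' ⊗[R] A) :=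
    (Algebra.IsPushout.comp_iff R (MvPolynomial (Fin n) R) R'
      (S' := MvPolynomial (Fin n) R') (T := A) (T' := R' ⊗[R] A)).mp hpo1
  haveI : Algebra.IsPushout (MvPolynomial (Fin n) R) (MvPolynomial (Fin n) R') A (R' ⊗[R] A) :=
    hpo2.symm
  exact core_ti R R' (MvPolynomial (Fin n) R) (MvPolynomial (Fin n) R') A (R' ⊗[R] A) htor T c hc
    hT m h

/-- the `m`-pseudo-coherent part of S6998 -/
theorem rel_LBaseChange_ti [Algebra.FiniteType R A]
    (htor : ∀ p : ℕ, 0 < p → Subsingleton (DRing.Tor R p A R'))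
    [DRing.HasLBaseChange (Algebra.TensorProduct.includeRight : A →ₐ[R] TensorProduct R R' A).toRingHom]
    (K : Dual.D A) (m : ℤ) (h : DerCA.IsRelPseudoCoherent R A m K) :
    DerCA.IsRelPseudoCoherent R' (TensorProduct R R' A) m
      ((DRing.LBaseChange
        (Algebra.TensorProduct.includeRight : A →ₐ[R] TensorProduct R R' A).toRingHom).obj K) := by
  have htor' : TorAcyc (ModuleCat.of R R') (ModuleCat.of R A) := fun k => by
    haveI := htor (k + 1) (by omega)
    exact ModuleCat.isZero_of_subsingleton _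
  obtain ⟨n, α, hα, hα_pc⟩ := h
  obtain ⟨b, hb⟩ := exists_isLE_of_mpc hα_pc
  have hK : K.IsLE b := isLE_of_restrict (α : MvPolynomial (Fin n) R →+* A) K b hb
  obtain ⟨T, c, hc, hp, ⟨e⟩⟩ := PRT.hasProjRes_of_isLE K b hK
  obtain ⟨eL⟩ := nonempty_LBaseChange_iso_of_projRes
    (Algebra.TensorProduct.includeRight : A →ₐ[R] TensorProduct R R' A).toRingHom K T c hc hp e
  have h1 : DerCA.IsRelPseudoCoherentVia α m (Q.obj T) :=
    mpc_of_iso ((DRing.restrictD _).mapIso e.symm) hα_pc
  have h2 := via_alpha' (R' := R') htor' α T c hc (fun i => by haveI := hp i; infer_instance) m h1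
  exact ⟨n, alpha' (R' := R') α, alpha'_surjective α hα,
    mpc_of_iso ((DRing.restrictD _).mapIso eL.symm) h2⟩

/-- the statement of S6998 -/
theorem S6998_statement [Algebra.FiniteType R A]
    (htor : ∀ p : ℕ, 0 < p → Subsingleton (DRing.Tor R p A R'))
    [DRing.HasLBaseChange (Algebra.TensorProduct.includeRight : A →ₐ[R] TensorProduct R R' A).toRingHom]
    (K : Dual.D A) (m : ℤ) :
    (DerCA.IsRelPseudoCoherent R A m K → DerCA.IsRelPseudoCoherent R' (TensorProduct R R' A) m
      ((DRing.LBaseChange (Algebra.TensorProduct.includeRight : A →ₐ[R] TensorProduct R R' A).toRingHom).obj K)) ∧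
      (DerCA.IsRelPseudoCoherentAll R A K → DerCA.IsRelPseudoCoherentAll R' (TensorProduct R R' A)
        ((DRing.LBaseChange (Algebra.TensorProduct.includeRight : A →ₐ[R] TensorProduct R R' A).toRingHom).obj K)) :=
  ⟨rel_LBaseChange_ti htor K m, fun h k => rel_LBaseChange_ti htor K k (h k)⟩

end Groth.Agent.Helper11.TorInd
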