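import Groth.Agent.Lib.Helper11.TorTen2
import Groth.Agent.Lib.Helper11.LocalPerf6

/-!
# Tor amplitude over `A` of a complex of `B`-modules is local on `B` (helper11)
-/

set_option autoImplicit false
set_option linter.unusedSectionVars false
set_option linter.unusedVariables false
set_option linter.style.haveILetI false

universe u

open CategoryTheory CategoryTheory.Limits MonoidalCategory HomologicalComplex
open scoped TensorProduct

attribute [local instance] HasDerivedCategory.standard

namespace Groth.Agent.Helper11.TorGE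

open Groth.Agent.Helper5.KF Groth.Agent.Helper11.DC Groth.Agent.Helper11.Tel

section ChangeOfRings

variable {R R' : Type u} [CommRing R] [CommRing R'] (φ : R →+* R')

/-- the projection formula `res L ⊗_R K ≅ res (L ⊗_{R'} ext K)` as an isomorphism of complexes -/
noncomputable def thetaIso (L : DRing.Cx R') (K : DRing.Cx R) :
    ((rsC φ).obj L) ⊗ K ≅ (rsC φ).obj (L ⊗ (extC φ).obj K) :=
  HomologicalComplex.Hom.isoOfComponents
    (fun n => @asIso _ _ _ _ (Theta φ L K n)
      ((ConcreteCategory.isIso_iff_bijective (Theta φ L K n)).mpr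
        ⟨Th_injective φ L K n, fun z' => Th_surjective φ L K n z'⟩))
    (fun n n' h => Theta_d φ L K n n' h)

/-- `res (ext Z) ≅ res (𝟙) ⊗ Z` -/
noncomputable def unitTensorIso (Z : DRing.Cx R) :
    ((rsC φ).obj (𝟙_ (DRing.Cx R'))) ⊗ Z ≅ (rsC φ).obj ((extC φ).obj Z) :=
  thetaIso φ (𝟙_ (DRing.Cx R')) Z ≪≫ (rsC φ).mapIso (λ_ ((extC φ).obj Z))

/-- extension of scalars is monoidal on complexes, on the level of exactness -/
theorem exactAt_extC_tensor_iff (K G : DRing.Cx R) (j : ℤ) :
    ((extC φ).obj (K ⊗ G)).ExactAt j ↔ ((extC φ).obj K ⊗ (extC φ).obj G).ExactAt j := by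
  have h1 : ((extC φ).obj (K ⊗ G)).ExactAt j ↔ ((rsC φ).obj ((extC φ).obj (K ⊗ G))).ExactAt j :=
    ⟨exactAt_rsC φ _ j, exactAt_of_rsC φ _ j⟩
  have h2 := _root_.exactAt_iff_of_quasiIsoAt (unitTensorIso φ (K ⊗ G)).hom j
  have h3 := _root_.exactAt_iff_of_quasiIsoAt
    (α_ ((rsC φ).obj (𝟙_ (DRing.Cx R'))) K G).hom j
  have h4 := _root_.exactAt_iff_of_quasiIsoAt ((unitTensorIso φ K).hom ▷ G) j
  have h5 := exactAt_rsC_tensor_iff φ ((extC φ).obj K) G j
  exact h1.trans (h2.symm.trans (h3.symm.trans (h4.trans h5)))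

/-- a flat resolution of `M` extends to a flat resolution of the extension of scalars of `M` along
a flat ring map -/
theorem exists_resolution_es (hφ : φ.Flat) (M : ModuleCat.{u} R) (F : DRing.Cx R)
    (π : F ⟶ (CochainComplex.singleFunctor (ModuleCat.{u} R) 0).obj M) (hπ : QuasiIso π) :
    ∃ π' : (extC φ).obj F ⟶ (CochainComplex.singleFunctor (ModuleCat.{u} R') 0).obj
      ((ModuleCat.extendScalars φ).obj M), QuasiIso π' := by
  haveI := ModuleCat.preservesFiniteLimits_extendScalars_of_flat.{u} hφ
  have h1 : QuasiIso ((extC φ).map π) := inferInstance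
  have h2 : QuasiIso ((HomologicalComplex.singleMapHomologicalComplex
    (ModuleCat.extendScalars φ) (ComplexShape.up ℤ) 0).app M).hom := inferInstance
  exact ⟨(extC φ).map π ≫ ((HomologicalComplex.singleMapHomologicalComplex
    (ModuleCat.extendScalars φ) (ComplexShape.up ℤ) 0).app M).hom,
    quasiIso_comp (hφ := h1) (hφ' := h2) _ _⟩

end ChangeOfRings

/-- the local step: tor amplitude of `res_λ (ext_β K)` gives exactness of `ext_β (K ⊗ ext_φ F)` -/
theorem exactAt_local_step {A B A' B' : Type u} [CommRing A] [CommRing B] [CommRing A']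
    [CommRing B'] (φ : A →+* B) (β : B →+* B') (α : A →+* A') (lam : A' →+* B')
    (hcomm : β.comp φ = lam.comp α) (hα : α.Flat) (K : DRing.Cx B) (a b : ℤ)
    (hK : DRing.HasTorAmplitudeIn A' a b (DRing.toD ((rsC lam).obj ((extC β).obj K))))
    (M : ModuleCat.{u} A) (F : DRing.Cx A) (cF : ℤ) (hFb : DRing.VanishesAbove F cF)
    (hFf : ∀ i, Module.Flat A (F.X i))
    (π : F ⟶ (CochainComplex.singleFunctor (ModuleCat.{u} A) 0).obj M) (hπ : QuasiIso π)
    (j : ℤ) (hj : j < a ∨ b < j) :
    ((extC β).obj (K ⊗ (extC φ).obj F)).ExactAt j := by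
  refine (exactAt_extC_tensor_iff β K ((extC φ).obj F) j).mpr ?_
  let eF : (extC β).obj ((extC φ).obj F) ≅ (extC lam).obj ((extC α).obj F) :=
    (LocalPerf.esCCompIso φ β F).symm ≪≫ eqToIso (by rw [hcomm]) ≪≫ LocalPerf.esCCompIso α lam F
  refine (_root_.exactAt_iff_of_quasiIsoAt ((extC β).obj K ◁ eF.hom) j).mpr ?_
  refine (exactAt_rsC_tensor_iff lam ((extC β).obj K) ((extC α).obj F) j).mp ?_
  obtain ⟨P', c', hc', hp', ⟨e'⟩, hv'⟩ := TA.torVan_of_hasTorAmplitudeIn hK
  haveI : P'.IsKProjective := isKProjective_of_vanishesAbove P' c' hc' hp'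
  obtain ⟨ψ', hψ'⟩ := exists_lift_of_isKProjective P' ((rsC lam).obj ((extC β).obj K)) e'.hom
  have hψ'q : QuasiIso ψ' := by
    rw [← DerivedCategory.isIso_Q_map_iff_quasiIso, hψ']
    infer_instance
  obtain ⟨π', hπ'⟩ := exists_resolution_es α hα M F π hπ
  refine (exactAt_tens_iff_tensor _ P' c' hc' hp' ψ' hψ'q ((ModuleCat.extendScalars α).obj M)
    ((extC α).obj F) cF (fun i hi => (ModuleCat.extendScalars α).map_isZero (hFb i hi))
    (fun i => by
      haveI := hFf i
      exact es_flat α (F.X i)) π' hπ' j).mp ?_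
  rw [← TA.isZero_homology_Q_iff_exactAt]
  exact hv' _ j hj

/-- tor amplitude over `A` of a complex of `B`-modules can be checked after localizing at the
maximal ideals of `B` -/
theorem torAmplitude_of_maximal_localizations (A B : Type u) [CommRing A] [CommRing B]
    [Algebra A B] (K : DRing.Cx B) (a b : ℤ)
    (h3 : ∀ (m : Ideal B) [m.IsMaximal],
      DRing.HasTorAmplitudeIn (Localization.AtPrime (m.comap (algebraMap A B))) a b
        (DRing.toD ((DRing.restrictCx (Localization.localRingHom (m.comap (algebraMap A B)) m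
          (algebraMap A B) rfl)).obj
          (((ModuleCat.extendScalars (algebraMap B (Localization.AtPrime m))).mapHomologicalComplex
            (ComplexShape.up ℤ)).obj K)))) :
    DRing.HasTorAmplitudeIn A a b (DRing.toD ((DRing.restrictCx (algebraMap A B)).obj K)) := by
  -- the local-global principle for exactness
  have hLG : ∀ (Y : DRing.Cx B) (j : ℤ), (∀ (m : Ideal B) [m.IsMaximal],
      ((extC (algebraMap B (Localization.AtPrime m))).obj Y).ExactAt j) → Y.ExactAt j := by
    intro Y j h
    rw [HomologicalComplex.exactAt_iff_isZero_homology]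
    apply LocalPerf.isZero_of_es_maximal
    intro m
    haveI := m.isMaximal
    exact IsZero.of_iso ((HomologicalComplex.exactAt_iff_isZero_homology _ _).mp (h m.asIdeal))
      (TA.esHomologyIso _ ((RingHom.flat_algebraMap_iff).mpr inferInstance) Y j).symm
  have hKex : ∀ j : ℤ, (j < a ∨ b < j) → K.ExactAt j := by
    intro j hj
    apply hLG
    intro m _
    obtain ⟨E, hE, -, ⟨e⟩⟩ := h3 m
    have h1 : IsZero ((DerivedCategory.homologyFunctor
        (ModuleCat.{u} (Localization.AtPrime (m.comap (algebraMap A B)))) j).obj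
        (DRing.toD ((rsC (Localization.localRingHom (m.comap (algebraMap A B)) m
          (algebraMap A B) rfl)).obj
          ((extC (algebraMap B (Localization.AtPrime m))).obj K)))) := by
      refine IsZero.of_iso ?_ ((DerivedCategory.homologyFunctor _ j).mapIso e.symm)
      refine IsZero.of_iso ?_ ((DerivedCategory.homologyFunctorFactors _ j).app E)
      exact (HomologicalComplex.ExactAt.of_isZero (hE j hj)).isZero_homology
    rw [TA.isZero_homology_Q_iff_exactAt] at h1
    exact exactAt_of_rsC _ _ j h1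
  let X : DRing.Cx A := (rsC (algebraMap A B)).obj K
  have hX : ∀ j : ℤ, (j < a ∨ b < j) → X.ExactAt j := fun j hj =>
    exactAt_rsC (algebraMap A B) K j (hKex j hj)
  obtain ⟨P, c, hc, hp, ⟨e⟩⟩ := TA.hasProjRes_of_homology (DerivedCategory.Q.obj X) a b
    (fun j hj => (TA.isZero_homology_Q_iff_exactAt X j).mpr (hX j hj))
  haveI : P.IsKProjective := isKProjective_of_vanishesAbove P c hc hp
  obtain ⟨ψ, hψ⟩ := exists_lift_of_isKProjective P X e.hom
  have hψq : QuasiIso ψ := by
    rw [← DerivedCategory.isIso_Q_map_iff_quasiIso, hψ]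
    infer_instance
  have hXtor : TA.TorVan a b (DRing.toD X) := by
    refine ⟨P, c, hc, hp, ⟨e⟩, ?_⟩
    intro M j hj
    rw [TA.isZero_homology_Q_iff_exactAt]
    obtain ⟨hFb, hFp, -⟩ := TA.projRes_spec M
    let F : DRing.Cx A := (projectiveResolution M).cochainComplex
    let π : F ⟶ (CochainComplex.singleFunctor (ModuleCat.{u} A) 0).obj M :=
      (projectiveResolution M).π'
    have hπ : QuasiIso π := inferInstance
    have hFf : ∀ i, Module.Flat A (F.X i) := fun i => by
      haveI := hFp i
      infer_instance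
    refine (exactAt_tens_iff_tensor X P c hc hp ψ hψq M F 0 hFb hFf π hπ j).mpr ?_
    refine (exactAt_rsC_tensor_iff (algebraMap A B) K F j).mpr ?_
    apply hLG
    intro m _
    have hcomm : (algebraMap B (Localization.AtPrime m)).comp (algebraMap A B) =
        (Localization.localRingHom (m.comap (algebraMap A B)) m (algebraMap A B) rfl).comp
          (algebraMap A (Localization.AtPrime (m.comap (algebraMap A B)))) := by
      ext x
      exact (Localization.localRingHom_to_map _ _ _ rfl x).symm
    exact exactAt_local_step (algebraMap A B) (algebraMap B (Localization.AtPrime m))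
      (algebraMap A (Localization.AtPrime (m.comap (algebraMap A B))))
      (Localization.localRingHom (m.comap (algebraMap A B)) m (algebraMap A B) rfl) hcomm
      ((RingHom.flat_algebraMap_iff).mpr inferInstance) K a b (h3 m) M F 0 hFb hFf π hπ j hj
  exact TA.hasTorAmplitudeIn_of_torVan hXtor

end Groth.Agent.Helper11.TorGE
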