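import Groth.Agent.Lib.Helper11.TorGE1
import Groth.Agent.Lib.Helper11.TorAmp5
import Groth.Agent.Lib.Helper5.KFlat6

/-!
# Tor amplitude computed with resolutions of the test module (helper11)
-/

set_option autoImplicit false
set_option linter.unusedSectionVars false
set_option linter.unusedVariables false
set_option linter.style.haveILetI false

universe u

open CategoryTheory CategoryTheory.Limits MonoidalCategory HomologicalComplex
open scoped TensorProduct

attribute [local instance] HasDerivedCategory.standard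

namespace Groth.Agent.Helper11.TorGE

open Groth.Agent.Helper5.KF Groth.Agent.Helper11.DC Groth.Agent.Helper11.Tel

variable {A : Type u} [CommRing A]

/-- conversely to `exists_of_exactAt_single'`: termwise exactness of `S₀.X 0 ⊗ C.X •` gives
exactness of `S₀ ⊗ C`, for `S₀` concentrated in degree `0` -/
lemma exactAt_of_exists_single (S₀ C : DRing.Cx A) (hd : ∀ i j, S₀.d i j = 0)
    (hz : ∀ p : ℤ, p ≠ 0 → IsZero (S₀.X p)) (q q' q'' : ℤ) (hq : q + 1 = q') (hq' : q' + 1 = q'')
    (h : ∀ t : (S₀.X 0 ⊗ C.X q' : ModuleCat.{u} A), (S₀.X 0 ◁ C.d q' q'') t = 0 →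
      ∃ s : (S₀.X 0 ⊗ C.X q : ModuleCat.{u} A), (S₀.X 0 ◁ C.d q q') s = t) :
    (S₀ ⊗ C).ExactAt q' := by
  obtain rfl : q = q' - 1 := by omega
  subst hq'
  apply exactAt_of_elements
  intro z hz'
  obtain ⟨t, ht⟩ : ∃ t, t = pr S₀ C 0 q' q' z := ⟨_, rfl⟩
  have hzι : z = ι S₀ C 0 q' q' (by omega) t := by
    rw [← sub_eq_zero]
    apply eq_zero_of_components
    intro a b hab
    by_cases ha : a = 0
    · subst ha
      obtain rfl : b = q' := by omega
      rw [map_sub, pr_ι_apply, ht, sub_self]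
    · have h0 : IsZero (S₀.X a ⊗ C.X b) := (tensorRight (C.X b)).map_isZero (hz a ha)
      haveI := ModuleCat.subsingleton_of_isZero h0
      exact Subsingleton.elim _ _
  have h1 := pr_d_apply S₀ C q' (q' + 1) rfl (-1) q' 0 (q' + 1) (by omega) rfl z
  rw [hz', map_zero, hd, zero_whiskerRight_apply, zero_add, Int.negOnePow_zero, one_smul,
    ← ht] at h1
  obtain ⟨s, hs⟩ := h t h1.symm
  refine ⟨ι S₀ C 0 (q' - 1) (q' - 1) (by omega) s, ?_⟩
  rw [d_ι_apply S₀ C 0 (q' - 1) (q' - 1) (by omega) q' (by omega) 1 q' rfl (by omega) s, hd,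
    zero_whiskerRight_apply, map_zero, zero_add, hs, Int.negOnePow_zero, one_smul]
  exact hzι.symm

/-- the same for the complex `M[0]` -/
lemma exactAt_singleM_of_exists (M : ModuleCat.{u} A) (C : DRing.Cx A)
    (q q' q'' : ℤ) (hq : q + 1 = q') (hq' : q' + 1 = q'')
    (h : ∀ t : (M ⊗ C.X q' : ModuleCat.{u} A), (M ◁ C.d q' q'') t = 0 →
      ∃ s : (M ⊗ C.X q : ModuleCat.{u} A), (M ◁ C.d q q') s = t) :
    (((CochainComplex.singleFunctor (ModuleCat.{u} A) 0).obj M : DRing.Cx A) ⊗ C).ExactAt q' := by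
  let S₀ : DRing.Cx A := (CochainComplex.singleFunctor (ModuleCat.{u} A) 0).obj M
  let e : S₀.X 0 ≅ M := HomologicalComplex.singleObjXSelf (ComplexShape.up ℤ) 0 M
  have hd : ∀ i j, S₀.d i j = 0 := fun i j =>
    HomologicalComplex.single_obj_d (ComplexShape.up ℤ) 0 M i j
  have hz : ∀ p : ℤ, p ≠ 0 → IsZero (S₀.X p) := fun p hp =>
    HomologicalComplex.isZero_single_obj_X (ComplexShape.up ℤ) 0 M p hp
  refine exactAt_of_exists_single S₀ C hd hz q q' q'' hq hq' ?_
  intro t ht
  have ht' : (M ◁ C.d q' q'') ((e.hom ▷ C.X q') t) = 0 := by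
    rw [← whisker_exchange_apply, ht, map_zero]
  obtain ⟨s, hs⟩ := h _ ht'
  refine ⟨(e.inv ▷ C.X q) s, ?_⟩
  rw [← whisker_exchange_apply, hs, whiskerRight_comp_apply, e.hom_inv_id]
  simp

/-- exactness of the termwise tensor product `P ⊗ M` versus exactness of `M[0] ⊗ P` -/
theorem exactAt_tens_iff (M : ModuleCat.{u} A) (P : DRing.Cx A) (j : ℤ) :
    ((TA.tens M).obj P).ExactAt j ↔
      (((CochainComplex.singleFunctor (ModuleCat.{u} A) 0).obj M : DRing.Cx A) ⊗ P).ExactAt j := by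
  constructor
  · intro h
    have h1 := TA.range_eq_ker_of_exactAt ((TA.tens M).obj P) (j - 1) j (j + 1) (by omega) rfl h
    rw [TA.tens_d_hom, TA.tens_d_hom] at h1
    refine exactAt_singleM_of_exists M P (j - 1) j (j + 1) (by omega) rfl ?_
    intro t ht
    exact lT_of_rT (P.d (j - 1) j).hom (P.d j (j + 1)).hom h1.ge t ht
  · intro h
    refine TA.exactAt_of_ker_le_range ((TA.tens M).obj P) (j - 1) j (j + 1) (by omega) rfl ?_
    rw [TA.tens_d_hom, TA.tens_d_hom]
    refine rT_of_lT (P.d (j - 1) j).hom (P.d j (j + 1)).hom ?_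
    intro t ht
    exact exists_of_exactAt_singleM M P (j - 1) j (j + 1) (by omega) rfl h t ht

/-- `H^j(P ⊗ M)`, for a bounded above projective resolution `P → X`, vanishes iff
`H^j(X ⊗ F)` does, for a bounded above flat resolution `F → M[0]`. -/
theorem exactAt_tens_iff_tensor (X P : DRing.Cx A) (cP : ℤ) (hPb : DRing.VanishesAbove P cP)
    (hPp : ∀ i, Module.Projective A (P.X i)) (ψ : P ⟶ X) (hψ : QuasiIso ψ)
    (M : ModuleCat.{u} A) (F : DRing.Cx A) (cF : ℤ) (hFb : DRing.VanishesAbove F cF)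
    (hFf : ∀ i, Module.Flat A (F.X i))
    (π : F ⟶ (CochainComplex.singleFunctor (ModuleCat.{u} A) 0).obj M) (hπ : QuasiIso π) (j : ℤ) :
    ((TA.tens M).obj P).ExactAt j ↔ (X ⊗ F).ExactAt j := by
  have hPf : ∀ i, Module.Flat A (P.X i) := fun i => by
    haveI := hPp i
    infer_instance
  have hPk : KFl P := KFl.of_flat_bddAbove P cP hPb hPf
  have h1 : QuasiIso (π ▷ P) := hPk.quasiIso_whiskerRight π hπ
  have h2 : QuasiIso (F ◁ ψ) := LTen.quasiIso_whiskerLeft_of_flat_bddAbove F cF hFb hFf ψ hψ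
  haveI := h1
  haveI := h2
  refine (exactAt_tens_iff M P j).trans ?_
  refine (_root_.exactAt_iff_of_quasiIsoAt (π ▷ P) j).symm.trans ?_
  refine (_root_.exactAt_iff_of_quasiIsoAt (F ◁ ψ) j).trans ?_
  exact _root_.exactAt_iff_of_quasiIsoAt (DTen.braidCx F X).hom j

section ChangeOfRings

variable {R R' : Type u} [CommRing R] [CommRing R'] (φ : R →+* R')

/-- restriction of scalars reflects exactness -/
lemma exactAt_of_rsC (L : DRing.Cx R') (i : ℤ) (h : ((rsC φ).obj L).ExactAt i) :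
    L.ExactAt i := by
  apply exactAt_of_elements
  intro z hz
  exact elements_of_exactAt ((rsC φ).obj L) i h z hz

/-- the projection formula on the level of exactness -/
theorem exactAt_rsC_tensor_iff (L : DRing.Cx R') (K : DRing.Cx R) (n : ℤ) :
    (((rsC φ).obj L) ⊗ K).ExactAt n ↔ (L ⊗ (extC φ).obj K).ExactAt n := by
  constructor
  · intro hex
    apply exactAt_of_elements
    intro z' hz'
    obtain ⟨z, rfl⟩ := Th_surjective φ L K n z'
    have hz : (((rsC φ).obj L) ⊗ K).d n (n + 1) z = 0 := by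
      apply Th_injective φ L K (n + 1)
      rw [← d_Th φ L K n (n + 1) rfl, hz', Th_zero]
    obtain ⟨w, hw⟩ := elements_of_exactAt _ n hex z hz
    refine ⟨Th φ L K (n - 1) w, ?_⟩
    rw [d_Th φ L K (n - 1) n (by omega), hw]
  · intro hex
    apply exactAt_of_elements
    intro z hz
    have hz' : (L ⊗ (extC φ).obj K).d n (n + 1) (Th φ L K n z) = 0 := by
      rw [d_Th φ L K n (n + 1) rfl, hz, Th_zero]
    obtain ⟨w', hw'⟩ := elements_of_exactAt _ n hex _ hz'
    obtain ⟨w, rfl⟩ := Th_surjective φ L K (n - 1) w'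
    refine ⟨w, ?_⟩
    apply Th_injective φ L K n
    rw [← d_Th φ L K (n - 1) n (by omega), hw']

end ChangeOfRings

/-- the Künneth bound: a bounded complex of flat modules in `[a, b]` tensored with a complex with
cohomology in `[c, d]` has cohomology in `[a + c, b + d]` -/
theorem exactAt_tensor_of_bounds (E C : DRing.Cx A) (a b c d : ℤ)
    (hE : DRing.VanishesOutside E a b) (hEf : ∀ i, Module.Flat A (E.X i))
    (hC : ∀ j : ℤ, (j < c ∨ d < j) → C.ExactAt j) (n : ℤ) (hn : n < a + c ∨ b + d < n) :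
    (E ⊗ C).ExactAt n := by
  haveI : C.IsLE d := by
    rw [CochainComplex.isLE_iff]
    intro i hi
    exact hC i (Or.inr hi)
  have hι : QuasiIso (C.ιTruncLE d) := inferInstance
  haveI : (C.truncLE d).IsGE c := by
    rw [CochainComplex.isGE_iff]
    intro i hi
    exact (_root_.exactAt_iff_of_quasiIsoAt (C.ιTruncLE d) i).mpr (hC i (Or.inl hi))
  have hπ : QuasiIso ((C.truncLE d).πTruncGE c) := inferInstance
  have hEb : ∀ i : ℤ, b < i → IsZero (E.X i) := fun i hi => hE i (Or.inr hi)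
  have h1 : QuasiIso (E ◁ C.ιTruncLE d) :=
    LTen.quasiIso_whiskerLeft_of_flat_bddAbove E b hEb hEf _ hι
  have h2 : QuasiIso (E ◁ (C.truncLE d).πTruncGE c) :=
    LTen.quasiIso_whiskerLeft_of_flat_bddAbove E b hEb hEf _ hπ
  haveI := h1
  haveI := h2
  refine (_root_.exactAt_iff_of_quasiIsoAt (E ◁ C.ιTruncLE d) n).mp ?_
  refine (_root_.exactAt_iff_of_quasiIsoAt (E ◁ (C.truncLE d).πTruncGE c) n).mpr ?_
  refine ShortComplex.exact_of_isZero_X₂ _ ?_
  rcases hn with hn | hn
  · exact LTen.isZero_tensor_X_of_bddBelow E ((C.truncLE d).truncGE c) a c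
      (fun i hi => hE i (Or.inl hi))
      (fun i hi => CochainComplex.isZero_of_isStrictlyGE ((C.truncLE d).truncGE c) c i hi) n hn
  · exact LTen.isZero_tensor_X_of_bddAbove E ((C.truncLE d).truncGE c) b d hEb
      (fun i hi => CochainComplex.isZero_of_isStrictlyLE ((C.truncLE d).truncGE c) d i hi) n hn

end Groth.Agent.Helper11.TorGE
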