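import Groth.Agent.Lib.Helper11.TorTen1
import Groth.Agent.Lib.Helper11.ProjResTower

/-!
# Tor amplitude of a derived tensor product, after restriction of scalars (helper11)
-/

set_option autoImplicit false
set_option linter.unusedSectionVars false
set_option linter.unusedVariables false
set_option linter.style.haveILetI false

universe u

open CategoryTheory CategoryTheory.Limits MonoidalCategory HomologicalComplex
open scoped TensorProduct

attribute [local instance] HasDerivedCategory.standard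

namespace Groth.Agent.Helper11.TorGE

open Groth.Agent.Helper5.KF Groth.Agent.Helper11.DC Groth.Agent.Helper11.Tel

theorem torAmplitude_restrict_LTensorCx {A B : Type u} [CommRing A] [CommRing B] [Algebra A B]
    (K : Dual.D B) (a b c d : ℤ) (hK : DRing.HasTorAmplitudeIn B a b K) (L : DRing.Cx B)
    (hL : DRing.HasTorAmplitudeIn A c d (DRing.toD ((DRing.restrictCx (algebraMap A B)).obj L)))
    [DRing.HasLTensorCx B L] :
    DRing.HasTorAmplitudeIn A (a + c) (b + d)
      ((DRing.restrictD (algebraMap A B)).obj ((DRing.LTensorCx B L).obj K)) := by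
  obtain ⟨E, hE, hEf, ⟨eE⟩⟩ := hK
  have hEb : ∀ i : ℤ, b < i → IsZero (E.X i) := fun i hi => hE i (Or.inr hi)
  -- `L` is cohomologically bounded above
  have hLd : (DRing.toD L).IsLE d := by
    rw [DerivedCategory.isLE_iff]
    intro i hi
    obtain ⟨EL, hEL, -, ⟨eL⟩⟩ := hL
    have h1 : IsZero ((DerivedCategory.homologyFunctor (ModuleCat.{u} A) i).obj
        (DRing.toD ((rsC (algebraMap A B)).obj L))) := by
      refine IsZero.of_iso ?_ ((DerivedCategory.homologyFunctor (ModuleCat.{u} A) i).mapIso eL.symm)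
      refine IsZero.of_iso ?_ ((DerivedCategory.homologyFunctorFactors (ModuleCat.{u} A) i).app EL)
      exact (HomologicalComplex.ExactAt.of_isZero (hEL i (Or.inr hi))).isZero_homology
    rw [TA.isZero_homology_Q_iff_exactAt] at h1 ⊢
    exact exactAt_of_rsC (algebraMap A B) L i h1
  -- resolutions over `B`
  obtain ⟨L', dL, hL'b, hL'p, ⟨eL'⟩⟩ := PRT.hasProjRes_of_isLE (DRing.toD L) d hLd
  obtain ⟨PK, cK, hPKb, hPKp, ⟨ePK⟩⟩ :=
    (TA.torVan_of_hasTorAmplitudeIn (⟨E, hE, hEf, ⟨eE⟩⟩ : DRing.HasTorAmplitudeIn B a b K)).hasProjRes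
  haveI : PK.IsKProjective := isKProjective_of_vanishesAbove PK cK hPKb hPKp
  haveI : L'.IsKProjective := isKProjective_of_vanishesAbove L' dL hL'b hL'p
  obtain ⟨f, hf⟩ := exists_lift_of_isKProjective PK E (ePK.hom ≫ eE.inv)
  have hfq : QuasiIso f := by
    rw [← DerivedCategory.isIso_Q_map_iff_quasiIso, hf]
    infer_instance
  have hL'f : ∀ i, Module.Flat B (L'.X i) := fun i => by
    haveI := hL'p i
    infer_instance
  have hL'k : KFl L' := KFl.of_flat_bddAbove L' dL hL'b hL'f
  have hfL : QuasiIso (f ▷ L') := hL'k.quasiIso_whiskerRight f hfq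
  haveI : IsIso (DerivedCategory.Q.map (f ▷ L')) :=
    (DerivedCategory.isIso_Q_map_iff_quasiIso (φ := f ▷ L')).mpr hfL
  obtain ⟨e1⟩ := LTen.nonempty_LTensorCx_iso K L PK L' cK dL hPKb hL'b hPKp hL'p ePK eL'
  let iso₁ : DRing.toD (E ⊗ L') ≅ (DRing.LTensorCx B L).obj K :=
    (asIso (DerivedCategory.Q.map (f ▷ L'))).symm ≪≫ e1
  let X : DRing.Cx A := (rsC (algebraMap A B)).obj (E ⊗ L')
  let iso₂ : DRing.toD X ≅
      (DRing.restrictD (algebraMap A B)).obj ((DRing.LTensorCx B L).obj K) :=
    ((ModuleCat.restrictScalars (algebraMap A B)).mapDerivedCategoryFactors.app (E ⊗ L')).symm ≪≫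
      (DRing.restrictD (algebraMap A B)).mapIso iso₁
  -- tor vanishing for `L'` over `A`
  have hL'tor : TA.TorVan c d (DRing.toD ((rsC (algebraMap A B)).obj L')) := by
    refine TA.TorVan.of_iso ?_ (TA.torVan_of_hasTorAmplitudeIn hL)
    exact ((ModuleCat.restrictScalars (algebraMap A B)).mapDerivedCategoryFactors.app L).symm ≪≫
      (DRing.restrictD (algebraMap A B)).mapIso eL'.symm ≪≫
      (ModuleCat.restrictScalars (algebraMap A B)).mapDerivedCategoryFactors.app L'
  obtain ⟨PL, cL, hPLb, hPLp, ⟨ePL⟩, hPLv⟩ := hL'tor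
  haveI : PL.IsKProjective := isKProjective_of_vanishesAbove PL cL hPLb hPLp
  obtain ⟨ψL, hψL⟩ := exists_lift_of_isKProjective PL ((rsC (algebraMap A B)).obj L') ePL.hom
  have hψLq : QuasiIso ψL := by
    rw [← DerivedCategory.isIso_Q_map_iff_quasiIso, hψL]
    infer_instance
  -- a projective resolution of `X` over `A`
  have hXle : (DRing.toD X).IsLE (b + dL) := by
    haveI : X.IsStrictlyLE (b + dL) := by
      rw [CochainComplex.isStrictlyLE_iff]
      intro i hi
      exact (ModuleCat.restrictScalars (algebraMap A B)).map_isZero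
        (LTen.isZero_tensor_X_of_bddAbove E L' b dL hEb hL'b i hi)
    infer_instance
  obtain ⟨PX, cX, hPXb, hPXp, ⟨ePX⟩⟩ := PRT.hasProjRes_of_isLE (DRing.toD X) (b + dL) hXle
  haveI : PX.IsKProjective := isKProjective_of_vanishesAbove PX cX hPXb hPXp
  obtain ⟨ψX, hψX⟩ := exists_lift_of_isKProjective PX X ePX.hom
  have hψXq : QuasiIso ψX := by
    rw [← DerivedCategory.isIso_Q_map_iff_quasiIso, hψX]
    infer_instance
  have hXtor : TA.TorVan (a + c) (b + d) (DRing.toD X) := by
    refine ⟨PX, cX, hPXb, hPXp, ⟨ePX⟩, ?_⟩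
    intro M i hi
    rw [TA.isZero_homology_Q_iff_exactAt]
    obtain ⟨hFb, hFp, -⟩ := TA.projRes_spec M
    let F : DRing.Cx A := (projectiveResolution M).cochainComplex
    let π : F ⟶ (CochainComplex.singleFunctor (ModuleCat.{u} A) 0).obj M :=
      (projectiveResolution M).π'
    have hπ : QuasiIso π := inferInstance
    have hFf : ∀ j, Module.Flat A (F.X j) := fun j => by
      haveI := hFp j
      infer_instance
    refine (exactAt_tens_iff_tensor X PX cX hPXb hPXp ψX hψXq M F 0 hFb hFf π hπ i).mpr ?_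
    refine (exactAt_rsC_tensor_iff (algebraMap A B) (E ⊗ L') F i).mpr ?_
    refine (_root_.exactAt_iff_of_quasiIsoAt
      (α_ E L' ((extC (algebraMap A B)).obj F)).hom i).mpr ?_
    refine exactAt_tensor_of_bounds E (L' ⊗ (extC (algebraMap A B)).obj F) a b c d hE hEf ?_ i hi
    intro j hj
    refine (exactAt_rsC_tensor_iff (algebraMap A B) L' F j).mp ?_
    refine (exactAt_tens_iff_tensor _ PL cL hPLb hPLp ψL hψLq M F 0 hFb hFf π hπ j).mp ?_
    rw [← TA.isZero_homology_Q_iff_exactAt]
    exact hPLv M j hj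
  obtain ⟨E', hE', hE'f, ⟨eE'⟩⟩ := TA.hasTorAmplitudeIn_of_torVan hXtor
  exact ⟨E', hE', hE'f, ⟨eE' ≪≫ iso₂⟩⟩

end Groth.Agent.Helper11.TorGE
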