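import Groth.Agent.Lib.Helper11.DCP3

/-!
# Comparison of maps into `X` and `R X` from objects on which an ideal acts nilpotently (helper11)

Let `C` be an `A`-linear triangulated category, `R : C ⥤ C` a linear triangulated functor and
`u : 𝟭 C ⟶ R` a natural transformation which is an isomorphism on every object on which all members
of a finite list `fs` of elements of `A` act nilpotently.  Then for every object `T` on which the
members of `fs` act nilpotently and every `X`, composition with `u.app X` is a bijection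
`Hom(T, X) ≃ Hom(T, R X)`.
-/

set_option autoImplicit false

open CategoryTheory CategoryTheory.Limits Pretriangulated

universe u v w

namespace Groth.Agent.Helper11.TorsBC

section AL

variable {A : Type u} [CommRing A] {C : Type v} [Category.{w} C] [Preadditive C] [Linear A C]
  [HasShift C ℤ] [HasZeroObject C] [∀ n : ℤ, (shiftFunctor C n).Additive]
  [∀ n : ℤ, (shiftFunctor C n).Linear A] [Pretriangulated C]

/-- `f` acts nilpotently on `X` -/
def Nilp (f : A) (X : C) : Prop := ∃ n : ℕ, f ^ n • 𝟙 X = 0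

omit [HasZeroObject C] [Pretriangulated C] in
theorem Nilp.shift {f : A} {X : C} (h : Nilp f X) (k : ℤ) : Nilp f (X⟦k⟧) := by
  obtain ⟨n, hn⟩ := h
  refine ⟨n, ?_⟩
  have h1 := congrArg (fun φ => φ⟦k⟧') hn
  simp only [Functor.map_smul, CategoryTheory.Functor.map_id, Functor.map_zero] at h1
  exact h1

omit [HasShift C ℤ] [HasZeroObject C] [∀ n : ℤ, (shiftFunctor C n).Additive]
  [∀ n : ℤ, (shiftFunctor C n).Linear A] [Pretriangulated C] in
theorem smul_id_of_iso {c : A} {X Y : C} (e : X ≅ Y) (h : c • 𝟙 X = 0) : c • 𝟙 Y = 0 := by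
  have h1 : c • 𝟙 Y = e.inv ≫ (c • 𝟙 X) ≫ e.hom := by
    rw [Linear.smul_comp, Linear.comp_smul, Category.id_comp, e.inv_hom_id]
  rw [h1, h, zero_comp, comp_zero]

omit [HasShift C ℤ] [HasZeroObject C] [∀ n : ℤ, (shiftFunctor C n).Additive]
  [∀ n : ℤ, (shiftFunctor C n).Linear A] [Pretriangulated C] in
theorem Nilp.of_iso {f : A} {X Y : C} (h : Nilp f X) (e : X ≅ Y) : Nilp f Y := by
  obtain ⟨n, hn⟩ := h
  refine ⟨n, ?_⟩
  have h1 : f ^ n • 𝟙 Y = e.inv ≫ (f ^ n • 𝟙 X) ≫ e.hom := by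
    rw [Linear.smul_comp, Linear.comp_smul, Category.id_comp, e.inv_hom_id]
  rw [h1, hn, zero_comp, comp_zero]

omit [HasShift C ℤ] [HasZeroObject C] [∀ n : ℤ, (shiftFunctor C n).Additive]
  [∀ n : ℤ, (shiftFunctor C n).Linear A] [Pretriangulated C] in
theorem smul_eq_zero_of_src {c : A} {T Z : C} (h : c • 𝟙 T = 0) (χ : T ⟶ Z) : c • χ = 0 := by
  have h1 : c • χ = (c • 𝟙 T) ≫ χ := by rw [Linear.smul_comp, Category.id_comp]
  rw [h1, h, zero_comp]

/-- the square of `c` kills the third vertex of a triangle when `c` is compatible with zero on the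
other two -/
theorem sq_smul_id_obj₃ (T : Triangle C) (hT : T ∈ distTriang C) (c : A)
    (h1 : T.mor₃ ≫ (c • 𝟙 T.obj₁)⟦(1 : ℤ)⟧' = 0) (h2 : (c • 𝟙 T.obj₂) ≫ T.mor₂ = 0) :
    (c * c) • 𝟙 T.obj₃ = 0 := by
  have e1 : (c • 𝟙 T.obj₃) ≫ T.mor₃ = 0 := by
    rw [← h1, Functor.map_smul, CategoryTheory.Functor.map_id, Linear.comp_smul, Category.comp_id,
      Linear.smul_comp, Category.id_comp]
  obtain ⟨t, ht⟩ := Triangle.coyoneda_exact₃ T hT (c • 𝟙 T.obj₃) e1
  have e2 : c • T.mor₂ = 0 := by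
    rw [← h2, Linear.smul_comp, Category.id_comp]
  rw [mul_smul, ht, ← Linear.comp_smul, e2, comp_zero]

theorem nilp_cone_self {f : A} (n : ℕ) {X Y : C} (g : X ⟶ Y) (h : Y ⟶ X⟦(1 : ℤ)⟧)
    (hΔ : Triangle.mk (f ^ n • 𝟙 X) g h ∈ distTriang C) : Nilp f Y := by
  refine ⟨n + n, ?_⟩
  rw [pow_add]
  exact sq_smul_id_obj₃ _ hΔ (f ^ n) (comp_distTriang_mor_zero₃₁ _ hΔ)
    (comp_distTriang_mor_zero₁₂ _ hΔ)

theorem nilp_cone_of_nilp {c g' : A} {X Y : C} (g : X ⟶ Y) (h : Y ⟶ X⟦(1 : ℤ)⟧)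
    (hΔ : Triangle.mk (c • 𝟙 X) g h ∈ distTriang C) (hX : Nilp g' X) : Nilp g' Y := by
  obtain ⟨m, hm⟩ := hX
  refine ⟨m + m, ?_⟩
  rw [pow_add]
  refine sq_smul_id_obj₃ _ hΔ (g' ^ m) ?_ ?_
  · show h ≫ (g' ^ m • 𝟙 X)⟦(1 : ℤ)⟧' = 0
    rw [hm, Functor.map_zero, comp_zero]
  · show (g' ^ m • 𝟙 X) ≫ g = 0
    rw [hm, zero_comp]

variable (R : C ⥤ C) [R.CommShift ℤ] [R.IsTriangulated] [R.Linear A]
  (u : 𝟭 C ⟶ R) (fs : List A)

/-- the data for the induction step -/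
theorem exists_step (f : A) (l : List A) (X : C) (hX : ∀ g ∈ fs, g ∈ f :: l ∨ Nilp g X)
    (n : ℕ) :
    ∃ (Y : C) (g : X ⟶ Y) (h : Y ⟶ X⟦(1 : ℤ)⟧),
      Triangle.mk (f ^ n • 𝟙 X) g h ∈ distTriang C ∧ ∀ g' ∈ fs, g' ∈ l ∨ Nilp g' Y := by
  obtain ⟨Y, g, h, hΔ⟩ := distinguished_cocone_triangle (f ^ n • 𝟙 X)
  refine ⟨Y, g, h, hΔ, fun g' hg' => ?_⟩
  rcases hX g' hg' with h1 | h1
  · rcases List.mem_cons.mp h1 with h2 | h2
    · subst h2
      exact Or.inr (nilp_cone_self n g h hΔ)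
    · exact Or.inl h2
  · exact Or.inr (nilp_cone_of_nilp g h hΔ h1)

include R in
theorem bijective_comp_unit
    (hbase : ∀ W : C, (∀ f ∈ fs, Nilp f W) → IsIso (u.app W)) :
    ∀ (l : List A) (X : C), (∀ g ∈ fs, g ∈ l ∨ Nilp g X) → ∀ T : C, (∀ g ∈ l, Nilp g T) →
      Function.Bijective (fun ψ : T ⟶ X => ψ ≫ u.app X) := by
  intro l
  induction l with
  | nil =>
    intro X hX T _
    haveI : IsIso (u.app X) := hbase X (fun f hf => by
      rcases hX f hf with h | h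
      · exact absurd h List.not_mem_nil
      · exact h)
    constructor
    · intro a b hab
      exact (cancel_mono (u.app X)).mp hab
    · intro φ
      exact ⟨φ ≫ inv (u.app X), by simp⟩
  | cons f l ih =>
    have inj : ∀ (X : C), (∀ g ∈ fs, g ∈ f :: l ∨ Nilp g X) → ∀ T : C,
        (∀ g ∈ f :: l, Nilp g T) → ∀ ψ : T ⟶ X, ψ ≫ u.app X = 0 → ψ = 0 := by
      intro X hX T hT ψ hψ
      obtain ⟨n, hn⟩ := hT f List.mem_cons_self
      obtain ⟨Y, g, h, hΔ, hY⟩ := exists_step fs f l X hX n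
      have bY := ih Y hY T (fun g' hg' => hT g' (List.mem_cons_of_mem _ hg'))
      have e1 : (ψ ≫ g) ≫ u.app Y = 0 := by
        have nat := u.naturality g
        simp only [Functor.id_map] at nat
        rw [Category.assoc, nat, ← Category.assoc, hψ, zero_comp]
      have e2 : ψ ≫ g = 0 := bY.1 (by
        show (ψ ≫ g) ≫ u.app Y = 0 ≫ u.app Y
        rw [e1, zero_comp])
      obtain ⟨χ, hχ⟩ : ∃ χ : T ⟶ X, ψ = χ ≫ (f ^ n • 𝟙 X) :=
        Triangle.coyoneda_exact₂ _ hΔ ψ e2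
      have e3 : ψ = f ^ n • χ := by
        rw [hχ, Linear.comp_smul, Category.comp_id]
      rw [e3, smul_eq_zero_of_src hn]
    intro X hX T hT
    constructor
    · intro a b hab
      have h0 : (a - b) ≫ u.app X = 0 := by
        rw [Preadditive.sub_comp]
        exact sub_eq_zero.mpr hab
      exact sub_eq_zero.mp (inj X hX T hT _ h0)
    · intro φ
      obtain ⟨n, hn⟩ := hT f List.mem_cons_self
      obtain ⟨Y, g, h, hΔ, hY⟩ := exists_step fs f l X hX n
      have bY := ih Y hY T (fun g' hg' => hT g' (List.mem_cons_of_mem _ hg'))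
      obtain ⟨ψ', hψ'⟩ := bY.2 (φ ≫ R.map g)
      have hψ'' : ψ' ≫ u.app Y = φ ≫ R.map g := hψ'
      have e1 : (ψ' ≫ h) ≫ u.app (X⟦(1 : ℤ)⟧) = 0 := by
        have nat := u.naturality h
        simp only [Functor.id_map] at nat
        have gh : g ≫ h = 0 := comp_distTriang_mor_zero₂₃ _ hΔ
        rw [Category.assoc, nat, ← Category.assoc, hψ'', Category.assoc, ← R.map_comp, gh,
          Functor.map_zero, comp_zero]
      have hX1 : ∀ g' ∈ fs, g' ∈ f :: l ∨ Nilp g' (X⟦(1 : ℤ)⟧) := fun g' hg' => by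
        rcases hX g' hg' with h1 | h1
        · exact Or.inl h1
        · exact Or.inr (h1.shift 1)
      have e2 : ψ' ≫ h = 0 := inj _ hX1 T hT _ e1
      obtain ⟨ψ, hψg⟩ : ∃ ψ : T ⟶ X, ψ' = ψ ≫ g := Triangle.coyoneda_exact₃ _ hΔ ψ' e2
      have e3 : (ψ ≫ u.app X - φ) ≫ R.map g = 0 := by
        have nat := u.naturality g
        simp only [Functor.id_map] at nat
        rw [Preadditive.sub_comp, Category.assoc, ← nat, ← Category.assoc, ← hψg, hψ'', sub_self]
      obtain ⟨χ, hχ⟩ : ∃ χ : T ⟶ R.obj X, ψ ≫ u.app X - φ = χ ≫ R.map (f ^ n • 𝟙 X) :=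
        Triangle.coyoneda_exact₂ _ (R.map_distinguished _ hΔ) (ψ ≫ u.app X - φ) e3
      have e4 : ψ ≫ u.app X - φ = f ^ n • χ := by
        rw [hχ, Functor.map_smul, CategoryTheory.Functor.map_id, Linear.comp_smul,
          Category.comp_id]
      refine ⟨ψ, ?_⟩
      show ψ ≫ u.app X = φ
      rw [← sub_eq_zero, e4, smul_eq_zero_of_src hn]

end AL

end Groth.Agent.Helper11.TorsBC
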