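import Mathlib.RingTheory.Flat.Basic
import Mathlib.LinearAlgebra.TensorProduct.Quotient
import Mathlib.RingTheory.Ideal.Maps
import Mathlib.RingTheory.Ideal.Quotient.Operations

/-!
# Flat base change is the identity on modules killed by a power of `I` when `A/I = B/IB` (helper11)
-/

set_option autoImplicit false

open TensorProduct

universe u v

namespace Groth.Agent.Helper11.TorsBC

section ML

variable {A B : Type u} [CommRing A] [CommRing B] [Algebra A B] (I : Ideal A)
  (hs : Function.Surjective ((Ideal.Quotient.mk (I.map (algebraMap A B))).comp (algebraMap A B)))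
  (hk : RingHom.ker ((Ideal.Quotient.mk (I.map (algebraMap A B))).comp (algebraMap A B)) = I)
  {H : Type v} [AddCommGroup H] [Module A H]

include hs in
theorem exists_sub_mem (b : B) : ∃ a : A, b - algebraMap A B a ∈ I • (⊤ : Submodule A B) := by
  obtain ⟨a, ha⟩ := hs (Ideal.Quotient.mk _ b)
  refine ⟨a, ?_⟩
  rw [Ideal.smul_top_eq_map, Submodule.restrictScalars_mem]
  exact Ideal.Quotient.eq.mp ha.symm

include hk in
theorem mem_of_algebraMap_mem (a : A) (h : algebraMap A B a ∈ I • (⊤ : Submodule A B)) :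
    a ∈ I := by
  rw [Ideal.smul_top_eq_map, Submodule.restrictScalars_mem] at h
  rw [← hk, RingHom.mem_ker]
  exact Ideal.Quotient.eq_zero_iff_mem.mpr h

include hs in
theorem tmul_mem_range (N : ℕ) : ∀ x : H, (∀ a ∈ I ^ N, a • x = 0) → ∀ b : B,
    b ⊗ₜ[A] x ∈ LinearMap.range (TensorProduct.mk A B H 1) := by
  induction N with
  | zero =>
    intro x hx b
    have h0 : x = 0 := by
      have := hx 1 (by rw [pow_zero, Ideal.one_eq_top]; exact Submodule.mem_top)
      rwa [one_smul] at this
    rw [h0, TensorProduct.tmul_zero]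
    exact Submodule.zero_mem _
  | succ N ih =>
    intro x hx b
    obtain ⟨a, ha⟩ := exists_sub_mem I hs b
    have key : ∀ y ∈ I • (⊤ : Submodule A B),
        y ⊗ₜ[A] x ∈ LinearMap.range (TensorProduct.mk A B H 1) := by
      intro y hy
      refine Submodule.smul_induction_on hy ?_ ?_
      · intro r hr b' _
        rw [TensorProduct.smul_tmul]
        refine ih (r • x) (fun a' ha' => ?_) b'
        rw [smul_smul]
        exact hx _ (by rw [pow_succ]; exact Ideal.mul_mem_mul ha' hr)
      · intro y₁ y₂ h₁ h₂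
        rw [TensorProduct.add_tmul]
        exact Submodule.add_mem _ h₁ h₂
    have e : b ⊗ₜ[A] x = (b - algebraMap A B a) ⊗ₜ[A] x + (1 : B) ⊗ₜ[A] (a • x) := by
      rw [← TensorProduct.smul_tmul, Algebra.smul_def, mul_one, ← TensorProduct.add_tmul,
        sub_add_cancel]
    rw [e]
    exact Submodule.add_mem _ (key _ ha) ⟨a • x, rfl⟩

include hs in
theorem mk_one_surjective (N : ℕ) (hH : ∀ a ∈ I ^ N, ∀ x : H, a • x = 0) :
    Function.Surjective (TensorProduct.mk A B H 1) := by
  intro z
  have hz : z ∈ LinearMap.range (TensorProduct.mk A B H 1) := by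
    induction z using TensorProduct.induction_on with
    | zero => exact Submodule.zero_mem _
    | tmul b x => exact tmul_mem_range I hs N x (fun a ha => hH a ha x) b
    | add z₁ z₂ h₁ h₂ => exact Submodule.add_mem _ h₁ h₂
  exact hz

include hs in
theorem exists_mem_of_mem_smul_top (J : Ideal A) (y : B) (hy : y ∈ J • (⊤ : Submodule A B)) :
    ∃ j ∈ J, y - algebraMap A B j ∈ I • (⊤ : Submodule A B) := by
  refine Submodule.smul_induction_on hy ?_ ?_
  · intro r hr b' _
    obtain ⟨a, ha⟩ := exists_sub_mem I hs b'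
    refine ⟨r * a, J.mul_mem_right a hr, ?_⟩
    have h1 : r • b' - algebraMap A B (r * a) = r • (b' - algebraMap A B a) := by
      rw [smul_sub, map_mul, Algebra.smul_def, Algebra.smul_def]
    rw [h1]
    exact Submodule.smul_mem _ r ha
  · rintro y₁ y₂ ⟨j₁, hj₁, h₁⟩ ⟨j₂, hj₂, h₂⟩
    refine ⟨j₁ + j₂, J.add_mem hj₁ hj₂, ?_⟩
    have h1 : y₁ + y₂ - algebraMap A B (j₁ + j₂) =
        (y₁ - algebraMap A B j₁) + (y₂ - algebraMap A B j₂) := by
      rw [map_add]
      abel
    rw [h1]
    exact Submodule.add_mem _ h₁ h₂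

include hs hk in
theorem mk_one_injective [Module.Flat A B] (N : ℕ) (hH : ∀ a ∈ I ^ N, ∀ x : H, a • x = 0) :
    Function.Injective (TensorProduct.mk A B H 1) := by
  rw [injective_iff_map_eq_zero]
  intro x hx
  let t : A →ₗ[A] H := LinearMap.toSpanSingleton A H x
  let J : Ideal A := LinearMap.ker t
  let ι : (A ⧸ J) →ₗ[A] H := Submodule.liftQ J t le_rfl
  have hι : Function.Injective ι := by
    rw [← LinearMap.ker_eq_bot]
    exact Submodule.ker_liftQ_eq_bot _ _ _ le_rfl
  have hinj := Module.Flat.lTensor_preserves_injective_linearMap (M := B) ι hι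
  have e1 : (1 : B) ⊗ₜ[A] (Submodule.Quotient.mk (1 : A) : A ⧸ J) = 0 := by
    apply hinj
    rw [LinearMap.lTensor_tmul, map_zero]
    have h1 : ι (Submodule.Quotient.mk 1) = x := by
      show t 1 = x
      exact one_smul A x
    rw [h1]
    exact hx
  have e2 : (1 : B) ∈ J • (⊤ : Submodule A B) := by
    have h1 := congrArg (TensorProduct.tensorQuotEquivQuotSMul B J) e1
    rw [map_zero] at h1
    have h2 := TensorProduct.tensorQuotEquivQuotSMul_tmul_mk (M := B) J (1 : B) (1 : A)
    rw [one_smul] at h2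
    have h3 : (Submodule.Quotient.mk (1 : B) : B ⧸ (J • (⊤ : Submodule A B))) = 0 :=
      h2.symm.trans h1
    exact (Submodule.Quotient.mk_eq_zero _).mp h3
  obtain ⟨j, hj, hj'⟩ := exists_mem_of_mem_smul_top I hs J 1 e2
  have hI1 : (1 - j) ∈ I := by
    apply mem_of_algebraMap_mem I hk
    rw [map_sub, map_one]
    exact hj'
  have hIN : I ^ N ≤ J := fun a ha => by
    show t a = 0
    exact hH a ha x
  have h1J : (1 : A) ∈ J := by
    have hq : Ideal.Quotient.mk J (1 - j) = 1 := by
      rw [map_sub, map_one, Ideal.Quotient.eq_zero_iff_mem.mpr hj, sub_zero]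
    have hq2 : Ideal.Quotient.mk J ((1 - j) ^ N) = 0 :=
      Ideal.Quotient.eq_zero_iff_mem.mpr (hIN (Ideal.pow_mem_pow hI1 N))
    rw [map_pow, hq, one_pow, ← map_one (Ideal.Quotient.mk J)] at hq2
    exact Ideal.Quotient.eq_zero_iff_mem.mp hq2
  have h2 : t 1 = 0 := h1J
  rw [LinearMap.toSpanSingleton_apply, one_smul] at h2
  exact h2

include hs hk in
theorem mk_one_bijective [Module.Flat A B] (N : ℕ) (hH : ∀ a ∈ I ^ N, ∀ x : H, a • x = 0) :
    Function.Bijective (TensorProduct.mk A B H 1) :=
  ⟨mk_one_injective I hs hk N hH, mk_one_surjective I hs N hH⟩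

end ML

end Groth.Agent.Helper11.TorsBC
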