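import Groth.Agent.Lib.Helper11.TorsBC1
import Groth.Agent.Lib.Helper11.TorsBC2
import Groth.Agent.Lib.Helper11.DCCompl
import Groth.Prelude.Def_Wider
import Mathlib.Algebra.Homology.DerivedCategory.ExactFunctor
import Mathlib.Algebra.Category.ModuleCat.Descent

/-!
# The comparison `K ⟶ B ⊗_A K` in `D(A)` for a flat ring map `A → B` with `A/I = B/IB` (helper11)
-/

set_option autoImplicit false
set_option linter.unusedSectionVars false
set_option linter.unusedVariables false

open CategoryTheory CategoryTheory.Limits DerivedCategory Pretriangulated ChangeOfRings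

attribute [local instance] HasDerivedCategory.standard

universe u

namespace Groth.Agent.Helper11.TorsBC

variable {A B : Type u} [CommRing A] [CommRing B] (φ : A →+* B)

/-- extension of scalars -/
noncomputable abbrev Es : ModuleCat.{u} A ⥤ ModuleCat.{u} B := ModuleCat.extendScalars.{u, u, u} φ

/-- restriction of scalars -/
noncomputable abbrev Rs : ModuleCat.{u} B ⥤ ModuleCat.{u} A := ModuleCat.restrictScalars.{u} φ

/-- `M ↦ B ⊗_A M` as an `A`-module -/
noncomputable abbrev F₀ : ModuleCat.{u} A ⥤ ModuleCat.{u} A := Es φ ⋙ Rs φ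

theorem Es_map_smul {M M' : ModuleCat.{u} A} (a : A) (f : M ⟶ M') :
    (Es φ).map (a • f) = φ a • (Es φ).map f := by
  apply ModuleCat.ExtendScalars.hom_ext
  intro m
  letI : Module A B := Module.compHom B φ
  have h1 : ((Es φ).map (a • f)).hom ((1 : B) ⊗ₜ[A,φ] m) = (1 : B) ⊗ₜ[A,φ] (a • f.hom m) := rfl
  have h2 : (φ a • (Es φ).map f).hom ((1 : B) ⊗ₜ[A,φ] m) = (φ a * 1) ⊗ₜ[A,φ] (f.hom m) := rfl
  have h3 : (1 : B) ⊗ₜ[A,φ] (a • f.hom m) = (φ a * 1) ⊗ₜ[A,φ] (f.hom m) :=
    (TensorProduct.smul_tmul (R := A) (R' := A) a (1 : B) (f.hom m)).symm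
  exact h1.trans (h3.trans h2.symm)

theorem Rs_map_smul {N N' : ModuleCat.{u} B} (a : A) (g : N ⟶ N') :
    (Rs φ).map (φ a • g) = a • (Rs φ).map g := by
  apply ModuleCat.hom_ext
  apply LinearMap.ext
  intro x
  rfl

instance F₀_linear : (F₀ φ).Linear A where
  map_smul f a := by
    show (Rs φ).map ((Es φ).map (a • f)) = a • (Rs φ).map ((Es φ).map f)
    rw [Es_map_smul, Rs_map_smul]

/-- the unit `M ⟶ B ⊗_A M` -/
noncomputable abbrev η : 𝟭 (ModuleCat.{u} A) ⟶ F₀ φ :=
  (ModuleCat.extendRestrictScalarsAdj.{u, u, u} φ).unit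

/-- the unit on complexes -/
noncomputable def unitC : 𝟭 (CochainComplex (ModuleCat.{u} A) ℤ) ⟶
    (F₀ φ).mapHomologicalComplex (ComplexShape.up ℤ) where
  app K :=
    { f := fun i => (η φ).app (K.X i)
      comm' := fun i j _ => ((η φ).naturality (K.d i j)).symm }
  naturality K L f := by
    apply HomologicalComplex.hom_ext
    intro i
    exact (η φ).naturality (f.f i)

theorem isIso_η_app (hflat : φ.Flat) (I : Ideal A)
    (hs : Function.Surjective ((Ideal.Quotient.mk (I.map φ)).comp φ))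
    (hk : RingHom.ker ((Ideal.Quotient.mk (I.map φ)).comp φ) = I)
    (H : ModuleCat.{u} A) (N : ℕ) (hH : ∀ a ∈ I ^ N, ∀ x : H, a • x = 0) :
    IsIso ((η φ).app H) := by
  rw [ConcreteCategory.isIso_iff_bijective]
  letI := φ.toAlgebra
  haveI : Module.Flat A B := hflat
  exact mk_one_bijective I hs hk N hH

section Derived

variable [PreservesFiniteLimits (Es φ)]

/-- `K ↦ B ⊗_A K` on `D(A)` -/
noncomputable abbrev RD : Dual.D A ⥤ Dual.D A := (F₀ φ).mapDerivedCategory

/-- the comparison `K ⟶ B ⊗_A K` in the derived category -/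
noncomputable def uD : 𝟭 (Dual.D A) ⟶ RD φ :=
  Localization.liftNatTrans Q (HomologicalComplex.quasiIso (ModuleCat.{u} A) (ComplexShape.up ℤ))
    Q ((F₀ φ).mapHomologicalComplex (ComplexShape.up ℤ) ⋙ Q) (𝟭 _) (RD φ)
    (Functor.whiskerRight (unitC φ) Q)

theorem isIso_uD_app_Q (K : CochainComplex (ModuleCat.{u} A) ℤ)
    (h : IsIso (Q.map ((unitC φ).app K))) : IsIso ((uD φ).app (Q.obj K)) := by
  unfold uD
  rw [Localization.liftNatTrans_app]
  have : IsIso ((Functor.whiskerRight (unitC φ) Q).app K) := h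
  infer_instance

theorem quasiIso_unitC_app (K : CochainComplex (ModuleCat.{u} A) ℤ)
    (h : ∀ i : ℤ, IsIso ((η φ).app (K.homology i))) : QuasiIso ((unitC φ).app K) := by
  rw [quasiIso_iff]
  intro i
  rw [quasiIsoAt_iff_isIso_homologyMap]
  have h1 := ShortComplex.homologyMap_mapNatTrans (K.sc i) (η φ)
  have h2 : IsIso (ShortComplex.homologyMap ((K.sc i).mapNatTrans (η φ))) := by
    rw [h1]
    have : IsIso ((η φ).app (HomologicalComplex.sc K i).homology) := h i
    infer_instance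
  exact h2

theorem isIso_uD_app (hflat : φ.Flat) (I : Ideal A) (hI : I.FG)
    (hs : Function.Surjective ((Ideal.Quotient.mk (I.map φ)).comp φ))
    (hk : RingHom.ker ((Ideal.Quotient.mk (I.map φ)).comp φ) = I)
    (fs : List A) (hfs : I ≤ Ideal.span {a | a ∈ fs})
    (W : Dual.D A) (hW : ∀ f ∈ fs, Nilp f W) : IsIso ((uD φ).app W) := by
  let K := Q.objPreimage W
  let e : Q.obj K ≅ W := Q.objObjPreimageIso W
  rw [← NatTrans.isIso_app_iff_of_iso (uD φ) e]
  have hK : ∀ f ∈ fs, Nilp f (Q.obj K) := fun f hf => (hW f hf).of_iso e.symm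
  let 𝔞 : Ideal A := LinearMap.ker (LinearMap.toSpanSingleton A (Q.obj K ⟶ Q.obj K) (𝟙 _))
  have h𝔞 : ∀ a : A, a ∈ 𝔞 ↔ a • 𝟙 (Q.obj K) = 0 := fun a => by
    show LinearMap.toSpanSingleton A (Q.obj K ⟶ Q.obj K) (𝟙 _) a = 0 ↔ _
    rw [LinearMap.toSpanSingleton_apply]
  have hle : I ≤ 𝔞.radical := by
    refine hfs.trans (Ideal.span_le.mpr (fun a ha => ?_))
    obtain ⟨n, hn⟩ := hK a ha
    exact ⟨n, (h𝔞 _).mpr hn⟩
  obtain ⟨N, hN⟩ := Ideal.exists_pow_le_of_le_radical_of_fg hle hI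
  apply isIso_uD_app_Q
  rw [isIso_Q_map_iff_quasiIso]
  apply quasiIso_unitC_app
  intro i
  refine isIso_η_app φ hflat I hs hk (K.homology i) N (fun a ha x => ?_)
  have h1 : a • 𝟙 (Q.obj K) = 0 := (h𝔞 a).mp (hN ha)
  have h2 : a • 𝟙 ((homologyFunctor (ModuleCat.{u} A) i).obj (Q.obj K)) = 0 := by
    rw [← DC.homologyFunctor_map_smul_id, h1, Functor.map_zero]
  have h3 : a • 𝟙 (K.homology i) = 0 :=
    smul_id_of_iso (A := A) (c := a) ((homologyFunctorFactors (ModuleCat.{u} A) i).app K) h2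
  have h4 : (a • 𝟙 (K.homology i)).hom x = (0 : K.homology i ⟶ K.homology i).hom x :=
    congrArg (fun g => g.hom x) h3
  exact h4

/-- the main comparison: composition with `K ⟶ B ⊗_A K` is bijective on maps out of objects on
which the generators of `I` act nilpotently -/
theorem bijective_comp_uD (hflat : φ.Flat) (I : Ideal A) (hI : I.FG)
    (hs : Function.Surjective ((Ideal.Quotient.mk (I.map φ)).comp φ))
    (hk : RingHom.ker ((Ideal.Quotient.mk (I.map φ)).comp φ) = I)
    (fs : List A) (hfs : I ≤ Ideal.span {a | a ∈ fs})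
    (X T : Dual.D A) (hT : ∀ f ∈ fs, Nilp f T) :
    Function.Bijective (fun ψ : T ⟶ X => ψ ≫ (uD φ).app X) :=
  bijective_comp_unit (RD φ) (uD φ) fs
    (fun W hW => isIso_uD_app φ hflat I hI hs hk fs hfs W hW) fs X (fun g hg => Or.inl hg) T hT

end Derived

end Groth.Agent.Helper11.TorsBC
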