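import Groth.Agent.Lib.Helper11.TorsBC3
import Groth.Agent.Lib.Helper11.HDIeq1

/-!
# Power torsion modules are left orthogonal to the cone of `N ⟶ B ⊗_A N` (helper11)
-/

set_option autoImplicit false
set_option linter.unusedSectionVars false
set_option linter.unusedVariables false
set_option linter.style.haveILetI false

open CategoryTheory CategoryTheory.Limits DerivedCategory Pretriangulated
open DirectSum

attribute [local instance] HasDerivedCategory.standard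

universe u v w

namespace Groth.Agent.Helper11.TorsBC

section Gen

variable {C : Type v} [Category.{w} C] [Preadditive C] [HasShift C ℤ] [HasZeroObject C]
  [∀ n : ℤ, (shiftFunctor C n).Additive] [Pretriangulated C]

omit [HasZeroObject C] [Pretriangulated C] in
theorem subsingleton_shift_succ (T W : C) (j j' : ℤ) (hj : j + 1 = j')
    (h : Subsingleton (T ⟶ W⟦j⟧)) : Subsingleton (T⟦(1 : ℤ)⟧ ⟶ W⟦j'⟧) := by
  have key : ∀ ψ : T⟦(1 : ℤ)⟧ ⟶ W⟦j'⟧, ψ = 0 := fun ψ => by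
    let e := (shiftFunctorAdd' C j 1 j' hj).app W
    obtain ⟨ψ'', hψ''⟩ := (shiftFunctor C (1 : ℤ)).map_surjective (ψ ≫ e.hom)
    have h0 : ψ'' = 0 := Subsingleton.elim _ _
    rw [h0, Functor.map_zero] at hψ''
    have h1 : ψ ≫ e.hom = 0 ≫ e.hom := by rw [← hψ'', zero_comp]
    exact (cancel_mono e.hom).mp h1
  exact ⟨fun a b => by rw [key a, key b]⟩

theorem subsingleton_obj₃' (Δ : Triangle C) (hΔ : Δ ∈ distTriang C) (Y : C)
    (h2 : Subsingleton (Δ.obj₂ ⟶ Y)) (h1 : Subsingleton (Δ.obj₁⟦(1 : ℤ)⟧ ⟶ Y)) :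
    Subsingleton (Δ.obj₃ ⟶ Y) := by
  have key : ∀ f : Δ.obj₃ ⟶ Y, f = 0 := fun f => by
    obtain ⟨g, hg⟩ := Triangle.yoneda_exact₃ Δ hΔ f (Subsingleton.elim _ _)
    rw [hg, Subsingleton.elim g 0, comp_zero]
  exact ⟨fun a b => by rw [key a, key b]⟩

theorem eq_zero_of_bijective {X RX W T : C} (u : X ⟶ RX) (g : RX ⟶ W) (h : W ⟶ X⟦(1 : ℤ)⟧)
    (hΔ : Triangle.mk u g h ∈ distTriang C)
    (hb0 : Function.Bijective (fun ψ : T ⟶ X => ψ ≫ u))
    (hb1 : Function.Bijective (fun ψ : T⟦-(1 : ℤ)⟧ ⟶ X => ψ ≫ u))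
    (ψ : T ⟶ W) : ψ = 0 := by
  have hb1' := DCP.bijective_comp_shift u T 1 hb1
  have e0 : h ≫ u⟦(1 : ℤ)⟧' = 0 := comp_distTriang_mor_zero₃₁ _ hΔ
  have e1 : (ψ ≫ h) ≫ u⟦(1 : ℤ)⟧' = 0 := by
    rw [Category.assoc, e0, comp_zero]
  have e2 : ψ ≫ h = 0 := hb1'.1 (by
    show (ψ ≫ h) ≫ u⟦(1 : ℤ)⟧' = 0 ≫ u⟦(1 : ℤ)⟧'
    rw [e1, zero_comp])
  obtain ⟨χ, hχ⟩ : ∃ χ : T ⟶ RX, ψ = χ ≫ g := Triangle.coyoneda_exact₃ _ hΔ ψ e2
  obtain ⟨χ', hχ'⟩ := hb0.2 χ
  have hχ'' : χ' ≫ u = χ := hχ'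
  have e3 : u ≫ g = 0 := comp_distTriang_mor_zero₁₂ _ hΔ
  rw [hχ, ← hχ'', Category.assoc, e3, comp_zero]

theorem bijective_of_orth {X RX W T : C} (u : X ⟶ RX) (g : RX ⟶ W) (h : W ⟶ X⟦(1 : ℤ)⟧)
    (hΔ : Triangle.mk u g h ∈ distTriang C) (hW : ∀ j : ℤ, Subsingleton (T ⟶ W⟦j⟧)) (i : ℤ) :
    Function.Bijective (fun ψ : T ⟶ X⟦i⟧ => ψ ≫ u⟦i⟧') := by
  apply DCP.bijective_comp_shift
  have h0 : Subsingleton (T⟦-i⟧ ⟶ W) := DCP.subsingleton_neg_of_shift T W i (hW i)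
  have h1 : Subsingleton (T⟦-i⟧ ⟶ W⟦(-1 : ℤ)⟧) :=
    DCP.subsingleton_neg_of_shift T (W⟦(-1 : ℤ)⟧) i
      (DCP.subsingleton_shift_add T W (-1) i (-1 + i) rfl (hW _))
  constructor
  · intro a b hab
    have h0' : (a - b) ≫ u = 0 := by
      rw [Preadditive.sub_comp]
      exact sub_eq_zero.mpr hab
    obtain ⟨χ, hχ⟩ := Triangle.coyoneda_exact₂ _ (inv_rot_of_distTriang _ hΔ) (a - b) h0'
    have hχ0 : χ = 0 := h1.elim χ 0
    rw [hχ0, zero_comp] at hχ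
    exact sub_eq_zero.mp hχ
  · intro χ
    have hχ0 : χ ≫ g = 0 := h0.elim _ _
    obtain ⟨ψ, hψ⟩ : ∃ ψ : T⟦-i⟧ ⟶ X, χ = ψ ≫ u := Triangle.coyoneda_exact₂ _ hΔ χ hχ0
    exact ⟨ψ, hψ.symm⟩

end Gen

section DS

open CochainComplex HomComplex

variable {A : Type u} [CommRing A]

theorem exists_factor_of_homotopy (J : DRing.Cx A) (M : ModuleCat.{u} A) (q p : ℤ) (hp : p + 1 = q)
    (g : HDIeq.sq q M ⟶ J) (h : Homotopy g 0) :
    ∃ s : M ⟶ J.X p,
      (HomologicalComplex.singleObjXSelf (ComplexShape.up ℤ) q M).inv ≫ g.f q = s ≫ J.d p q := by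
  have hc := h.comm q
  rw [dNext_eq h.hom (show (ComplexShape.up ℤ).Rel q (q + 1) from rfl),
    prevD_eq h.hom (show (ComplexShape.up ℤ).Rel p q from hp), HomologicalComplex.single_obj_d,
    zero_comp, zero_add, HomologicalComplex.zero_f, add_zero] at hc
  exact ⟨(HomologicalComplex.singleObjXSelf (ComplexShape.up ℤ) q M).inv ≫ h.hom q p, by
    rw [hc, Category.assoc]⟩

theorem Q_map_eq_zero_of_factor (J : DRing.Cx A) (M : ModuleCat.{u} A) (q p : ℤ) (hp : p + 1 = q)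
    (g : HDIeq.sq q M ⟶ J) (s : M ⟶ J.X p)
    (hs : (HomologicalComplex.singleObjXSelf (ComplexShape.up ℤ) q M).inv ≫ g.f q = s ≫ J.d p q) :
    Q.map g = 0 := by
  let fy : (HDIeq.sq q M).X q ⟶ J.X p :=
    (HomologicalComplex.singleObjXSelf (ComplexShape.up ℤ) q M).hom ≫ s
  let z : Cochain (HDIeq.sq q M) J (-1) := Cochain.single fy (-1)
  have hz : Cochain.ofHom g = δ (-1) 0 z + Cochain.ofHom (0 : HDIeq.sq q M ⟶ J) := by
    rw [Cochain.ofHom_zero, add_zero, Cochain.δ_single fy (-1) 0 (by norm_num) (q - 1) q (by omega) hp,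
      HomologicalComplex.single_obj_d, zero_comp, Cochain.single_zero, smul_zero, add_zero]
    refine Cochain.ext₀ _ _ (fun i => ?_)
    by_cases hi : i = q
    · subst hi
      rw [Cochain.ofHom_v, Cochain.single_v, Category.assoc, ← hs, Iso.hom_inv_id_assoc]
    · exact (HomologicalComplex.isZero_single_obj_X (ComplexShape.up ℤ) q M i hi).eq_of_src _ _
  exact (DerivedCategory.Q_map_eq_of_homotopy _
    ((Cochain.equivHomotopy _ _).symm ⟨z, hz⟩)).trans (Functor.map_zero Q _ _)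

theorem Q_map_eq_zero_directSum (J : DRing.Cx A) [J.IsKInjective] {ι : Type} [DecidableEq ι]
    (Mf : ι → Type u) [∀ i, AddCommGroup (Mf i)] [∀ i, Module A (Mf i)] (q p : ℤ)
    (hp : p + 1 = q)
    (h : ∀ (i : ι) (g : HDIeq.sq q (ModuleCat.of A (Mf i)) ⟶ J), Q.map g = 0)
    (g : HDIeq.sq q (ModuleCat.of A (⨁ i, Mf i)) ⟶ J) : Q.map g = 0 := by
  let inc : ∀ i, ModuleCat.of A (Mf i) ⟶ ModuleCat.of A (⨁ i, Mf i) :=
    fun i => ModuleCat.ofHom (DirectSum.lof A ι Mf i)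
  have h1 : ∀ i, ∃ s : ModuleCat.of A (Mf i) ⟶ J.X p,
      inc i ≫ (HomologicalComplex.singleObjXSelf (ComplexShape.up ℤ) q
        (ModuleCat.of A (⨁ i, Mf i))).inv ≫ g.f q = s ≫ J.d p q := by
    intro i
    let gi : HDIeq.sq q (ModuleCat.of A (Mf i)) ⟶ J :=
      (HomologicalComplex.single (ModuleCat.{u} A) (ComplexShape.up ℤ) q).map (inc i) ≫ g
    obtain ⟨hh⟩ := Groth.Agent.Helper3.KF.homotopy_of_Q_map_eq_of_isKInjective _ J gi 0
      ((h i gi).trans (Functor.map_zero Q _ _).symm)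
    obtain ⟨s, hs⟩ := exists_factor_of_homotopy J _ q p hp gi hh
    refine ⟨s, ?_⟩
    rw [← hs]
    show _ = _ ≫ ((HomologicalComplex.single (ModuleCat.{u} A) (ComplexShape.up ℤ) q).map
      (inc i)).f q ≫ g.f q
    rw [HomologicalComplex.single_map_f_self, Category.assoc, Category.assoc,
      Iso.inv_hom_id_assoc]
  choose s hs using h1
  let S : ModuleCat.of A (⨁ i, Mf i) ⟶ J.X p :=
    ModuleCat.ofHom (DirectSum.toModule A ι (J.X p) (fun i => (s i).hom))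
  have hS : ∀ i, inc i ≫ S = s i := fun i => by
    apply ModuleCat.hom_ext
    apply LinearMap.ext
    intro x
    show DirectSum.toModule A ι (J.X p) (fun i => (s i).hom) (DirectSum.lof A ι Mf i x) =
      (s i).hom x
    exact DirectSum.toModule_lof A i x
  refine Q_map_eq_zero_of_factor J _ q p hp g S ?_
  apply ModuleCat.hom_ext
  refine DirectSum.linearMap_ext A (fun i => ?_)
  have h2 : inc i ≫ (HomologicalComplex.singleObjXSelf (ComplexShape.up ℤ) q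
      (ModuleCat.of A (⨁ i, Mf i))).inv ≫ g.f q = inc i ≫ S ≫ J.d p q := by
    rw [hs i, ← hS i, Category.assoc]
  exact congrArg ModuleCat.Hom.hom h2

theorem subsingleton_inD_directSum (Y : Dual.D A) {ι : Type} [DecidableEq ι]
    (Mf : ι → Type u) [∀ i, AddCommGroup (Mf i)] [∀ i, Module A (Mf i)]
    (h : ∀ i, Subsingleton (Dual.inD A (Mf i) ⟶ Y)) :
    Subsingleton (Dual.inD A (⨁ i, Mf i) ⟶ Y) := by
  obtain ⟨J, e, hJ, _⟩ := RGam.exists_kInj_iso Y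
  haveI := hJ
  have key : ∀ ψ : Dual.inD A (⨁ i, Mf i) ⟶ Y, ψ = 0 := fun ψ => by
    obtain ⟨g, hg⟩ := Groth.Agent.Helper3.KF.exists_lift_of_isKInjective
      (HDIeq.sq 0 (ModuleCat.of A (⨁ i, Mf i))) J (ψ ≫ e.hom)
    have h0 : Q.map g = 0 := Q_map_eq_zero_directSum J Mf 0 (-1) (by norm_num) (fun i gi => by
      have h3 : Q.map gi ≫ e.inv = 0 := (h i).elim _ _
      rw [← cancel_mono e.inv, h3, zero_comp]) g
    rw [h0] at hg
    exact (cancel_mono e.hom).mp (hg.symm.trans zero_comp.symm)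
  exact ⟨fun a b => by rw [key a, key b]⟩

end DS

end Groth.Agent.Helper11.TorsBC
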