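import Groth.Agent.Lib.Helper11.TorsBC4

/-!
# Maps out of a power torsion module into `N` and into `B ⊗_A N` agree (helper11)
-/

set_option autoImplicit false
set_option linter.unusedSectionVars false
set_option linter.unusedVariables false
set_option linter.style.haveILetI false

open CategoryTheory CategoryTheory.Limits DerivedCategory Pretriangulated
open DirectSum

attribute [local instance] HasDerivedCategory.standard

universe u

namespace Groth.Agent.Helper11.TorsBC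

section Up

variable {A : Type u} [CommRing A] (I : Ideal A)

/-- the elements killed by `I^n` -/
def killed (M : Type u) [AddCommGroup M] [Module A M] (n : ℕ) : Submodule A M where
  carrier := {x | ∀ a ∈ I ^ n, a • x = 0}
  add_mem' := fun {x y} hx hy a ha => by
    rw [smul_add, hx a ha, hy a ha, add_zero]
  zero_mem' := fun a _ => smul_zero a
  smul_mem' := fun c x hx a ha => by
    rw [smul_comm, hx a ha, smul_zero]

theorem killed_spec (M : Type u) [AddCommGroup M] [Module A M] (n : ℕ) (x : killed I M n) (a : A)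
    (ha : a ∈ I ^ n) : a • x = 0 :=
  Subtype.ext (x.2 a ha)

/-- the canonical map from the sum of the killed parts -/
noncomputable def sumMap (M : Type u) [AddCommGroup M] [Module A M] :
    (⨁ n, killed I M n) →ₗ[A] M :=
  DirectSum.toModule A ℕ M (fun n => (killed I M n).subtype)

theorem sumMap_surjective (M : Type u) [AddCommGroup M] [Module A M]
    (hM : LocCoh.IsPowerTorsion I M) : Function.Surjective (sumMap I M) := by
  intro m
  obtain ⟨n, hn⟩ := hM m
  exact ⟨DirectSum.lof A ℕ (fun n => killed I M n) n ⟨m, hn⟩, DirectSum.toModule_lof A n _⟩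

theorem isPowerTorsion_sum (M : Type u) [AddCommGroup M] [Module A M] :
    LocCoh.IsPowerTorsion I (⨁ n, killed I M n) := by
  intro s
  induction s using DirectSum.induction_on with
  | zero => exact ⟨0, fun a _ => smul_zero a⟩
  | of n x =>
    refine ⟨n, fun a ha => ?_⟩
    rw [← DirectSum.lof_eq_of A, ← map_smul, killed_spec I M n x a ha, map_zero]
  | add x y hx hy =>
    obtain ⟨n₁, h₁⟩ := hx
    obtain ⟨n₂, h₂⟩ := hy
    refine ⟨max n₁ n₂, fun a ha => ?_⟩
    rw [smul_add, h₁ a (Ideal.pow_le_pow_right (le_max_left _ _) ha),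
      h₂ a (Ideal.pow_le_pow_right (le_max_right _ _) ha), add_zero]

theorem isPowerTorsion_submodule {P : Type u} [AddCommGroup P] [Module A P]
    (hP : LocCoh.IsPowerTorsion I P) (K : Submodule A P) : LocCoh.IsPowerTorsion I K := fun x => by
  obtain ⟨n, hn⟩ := hP x.1
  exact ⟨n, fun a ha => Subtype.ext (hn a ha)⟩

theorem subsingleton_of_powerTorsion_aux (W : Dual.D A)
    (hbdd : ∀ (K : Type u) [AddCommGroup K] [Module A K] (j : ℤ), j < -1 →
      Subsingleton (Dual.inD A K ⟶ W⟦j⟧))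
    (hkill : ∀ (K : Type u) [AddCommGroup K] [Module A K] (n : ℕ),
      (∀ a ∈ I ^ n, ∀ x : K, a • x = 0) → ∀ j : ℤ, Subsingleton (Dual.inD A K ⟶ W⟦j⟧)) :
    ∀ (n : ℕ) (j : ℤ), j < -1 + n → ∀ (M : Type u) [AddCommGroup M] [Module A M],
      LocCoh.IsPowerTorsion I M → Subsingleton (Dual.inD A M ⟶ W⟦j⟧) := by
  intro n
  induction n with
  | zero =>
    intro j hj M _ _ _
    exact hbdd M j (by simpa using hj)
  | succ n ih =>
    intro j hj M _ _ hM
    have hS := Groth.Agent.Helper8.LC.isSES_of_surjective (sumMap_surjective I M hM)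
    have hΔ := hS.shortExact.singleTriangle_distinguished
    have hK : LocCoh.IsPowerTorsion I (LinearMap.ker (sumMap I M)) :=
      isPowerTorsion_submodule I (isPowerTorsion_sum I M) _
    have h1 : Subsingleton (Dual.inD A (LinearMap.ker (sumMap I M)) ⟶ W⟦j - 1⟧) :=
      ih (j - 1) (by push_cast at hj ⊢; omega) _ hK
    have h1' := subsingleton_shift_succ _ W (j - 1) j (by omega) h1
    have h2 : Subsingleton (Dual.inD A (⨁ n, killed I M n) ⟶ W⟦j⟧) :=
      subsingleton_inD_directSum (W⟦j⟧) (fun n => killed I M n)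
        (fun n => hkill _ n (fun a ha x => killed_spec I M n x a ha) j)
    exact subsingleton_obj₃' _ hΔ (W⟦j⟧) h2 h1'

theorem subsingleton_of_powerTorsion (W : Dual.D A)
    (hbdd : ∀ (K : Type u) [AddCommGroup K] [Module A K] (j : ℤ), j < -1 →
      Subsingleton (Dual.inD A K ⟶ W⟦j⟧))
    (hkill : ∀ (K : Type u) [AddCommGroup K] [Module A K] (n : ℕ),
      (∀ a ∈ I ^ n, ∀ x : K, a • x = 0) → ∀ j : ℤ, Subsingleton (Dual.inD A K ⟶ W⟦j⟧))
    (j : ℤ) (M : Type u) [AddCommGroup M] [Module A M] (hM : LocCoh.IsPowerTorsion I M) :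
    Subsingleton (Dual.inD A M ⟶ W⟦j⟧) :=
  subsingleton_of_powerTorsion_aux I W hbdd hkill (j + 2).toNat j (by omega) M hM

end Up

section Bdd

variable {A : Type u} [CommRing A]

theorem subsingleton_of_lt {X RX W T : Dual.D A} (u : X ⟶ RX) (g : RX ⟶ W)
    (h : W ⟶ X⟦(1 : ℤ)⟧) (hΔ : Triangle.mk u g h ∈ distTriang (Dual.D A)) (hX : X.IsGE 0)
    (hRX : RX.IsGE 0) (hT : T.IsLE 0) (j : ℤ) (hj : j < -1) : Subsingleton (T ⟶ W⟦j⟧) := by
  apply DCP.subsingleton_shift_of_neg
  haveI : (T⟦-j⟧).IsLE j := TStructure.t.isLE_shift T 0 (-j) j (by omega)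
  haveI : (X⟦(1 : ℤ)⟧).IsGE (-1) := TStructure.t.isGE_shift X 0 1 (-1) (by norm_num)
  haveI := hRX
  have key : ∀ ψ : T⟦-j⟧ ⟶ W, ψ = 0 := fun ψ => by
    have e1 : ψ ≫ h = 0 := TStructure.t.zero _ j (-1) hj
    obtain ⟨χ, hχ⟩ : ∃ χ : T⟦-j⟧ ⟶ RX, ψ = χ ≫ g := Triangle.coyoneda_exact₃ _ hΔ ψ e1
    have e2 : χ = 0 := TStructure.t.zero _ j 0 (by omega)
    rw [hχ, e2, zero_comp]
  exact ⟨fun a b => by rw [key a, key b]⟩

end Bdd

section Main

variable {A B : Type u} [CommRing A] [CommRing B] (φ : A →+* B) [PreservesFiniteLimits (Es φ)]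
  (I : Ideal A)

theorem nilp_inD_of_killed (fs : List A) (hfs' : ∀ f ∈ fs, f ∈ I) (K : Type u) [AddCommGroup K]
    [Module A K] (n : ℕ) (hK : ∀ a ∈ I ^ n, ∀ x : K, a • x = 0) :
    ∀ f ∈ fs, Nilp f (Dual.inD A K) := by
  intro f hf
  refine ⟨n, ?_⟩
  have h1 : f ^ n • 𝟙 (ModuleCat.of A K) = 0 := by
    apply ModuleCat.hom_ext
    apply LinearMap.ext
    intro x
    exact hK (f ^ n) (Ideal.pow_mem_pow (hfs' f hf) n) x
  have h2 := congrArg (fun g => (DerivedCategory.singleFunctor (ModuleCat.{u} A) 0).map g) h1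
  simp only [Functor.map_smul, CategoryTheory.Functor.map_id, Functor.map_zero] at h2
  exact h2

theorem orth_of_nilp (hflat : φ.Flat) (hI : I.FG)
    (hs : Function.Surjective ((Ideal.Quotient.mk (I.map φ)).comp φ))
    (hk : RingHom.ker ((Ideal.Quotient.mk (I.map φ)).comp φ) = I)
    (fs : List A) (hfs : I ≤ Ideal.span {a | a ∈ fs})
    (X W : Dual.D A) (g : (RD φ).obj X ⟶ W) (h : W ⟶ X⟦(1 : ℤ)⟧)
    (hΔ : Triangle.mk ((uD φ).app X) g h ∈ distTriang (Dual.D A)) (T : Dual.D A)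
    (hT : ∀ f ∈ fs, Nilp f T) (j : ℤ) : Subsingleton (T ⟶ W⟦j⟧) := by
  apply DCP.subsingleton_shift_of_neg
  have hT' : ∀ f ∈ fs, Nilp f (T⟦-j⟧) := fun f hf => (hT f hf).shift _
  have hT'' : ∀ f ∈ fs, Nilp f ((T⟦-j⟧)⟦-(1 : ℤ)⟧) := fun f hf => (hT' f hf).shift _
  have key : ∀ ψ : T⟦-j⟧ ⟶ W, ψ = 0 := fun ψ =>
    eq_zero_of_bijective _ g h hΔ (bijective_comp_uD φ hflat I hI hs hk fs hfs X _ hT')
      (bijective_comp_uD φ hflat I hI hs hk fs hfs X _ hT'') ψ
  exact ⟨fun a b => by rw [key a, key b]⟩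

theorem orth_inD_of_powerTorsion (hflat : φ.Flat) (hI : I.FG)
    (hs : Function.Surjective ((Ideal.Quotient.mk (I.map φ)).comp φ))
    (hk : RingHom.ker ((Ideal.Quotient.mk (I.map φ)).comp φ) = I)
    (fs : List A) (hfs : I ≤ Ideal.span {a | a ∈ fs}) (hfs' : ∀ f ∈ fs, f ∈ I)
    (N : Type u) [AddCommGroup N] [Module A N] (W : Dual.D A)
    (g : (RD φ).obj (Dual.inD A N) ⟶ W) (h : W ⟶ (Dual.inD A N)⟦(1 : ℤ)⟧)
    (hΔ : Triangle.mk ((uD φ).app (Dual.inD A N)) g h ∈ distTriang (Dual.D A))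
    (j : ℤ) (M : Type u) [AddCommGroup M] [Module A M] (hM : LocCoh.IsPowerTorsion I M) :
    Subsingleton (Dual.inD A M ⟶ W⟦j⟧) := by
  have hRX : ((RD φ).obj (Dual.inD A N)).IsGE 0 := by
    have h0 : ((DerivedCategory.singleFunctor (ModuleCat.{u} A) 0).obj
        ((F₀ φ).obj (ModuleCat.of A N))).IsGE 0 := inferInstance
    haveI := h0
    let e : (DerivedCategory.singleFunctor (ModuleCat.{u} A) 0).obj
        ((F₀ φ).obj (ModuleCat.of A N)) ≅ (RD φ).obj (Dual.inD A N) :=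
      (((F₀ φ).mapDerivedCategorySingleFunctor 0).app (ModuleCat.of A N)).symm
    exact (TStructure.t (C := ModuleCat.{u} A)).isGE_of_iso e 0
  have hbdd : ∀ (K : Type u) [AddCommGroup K] [Module A K] (j : ℤ), j < -1 →
      Subsingleton (Dual.inD A K ⟶ W⟦j⟧) :=
    fun K _ _ j hj => subsingleton_of_lt _ g h hΔ inferInstance hRX inferInstance j hj
  have hkill : ∀ (K : Type u) [AddCommGroup K] [Module A K] (n : ℕ),
      (∀ a ∈ I ^ n, ∀ x : K, a • x = 0) → ∀ j : ℤ, Subsingleton (Dual.inD A K ⟶ W⟦j⟧) :=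
    fun K _ _ n hK j => orth_of_nilp φ I hflat hI hs hk fs hfs _ W g h hΔ _
      (nilp_inD_of_killed I fs hfs' K n hK) j
  exact subsingleton_of_powerTorsion I W hbdd hkill j M hM

/-- composition with `N ⟶ B ⊗_A N` is bijective on `Hom(M, -[i])` for power torsion `M` -/
theorem bijective_comp_uD_shift (hflat : φ.Flat) (hI : I.FG)
    (hs : Function.Surjective ((Ideal.Quotient.mk (I.map φ)).comp φ))
    (hk : RingHom.ker ((Ideal.Quotient.mk (I.map φ)).comp φ) = I)
    (M N : Type u) [AddCommGroup M] [Module A M] [AddCommGroup N] [Module A N]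
    (hM : LocCoh.IsPowerTorsion I M) (i : ℤ) :
    Function.Bijective (fun ψ : Dual.inD A M ⟶ (Dual.inD A N)⟦i⟧ =>
      ψ ≫ ((uD φ).app (Dual.inD A N))⟦i⟧') := by
  obtain ⟨s, hs'⟩ := hI
  have hfs : I ≤ Ideal.span {a | a ∈ s.toList} := by
    rw [← hs']
    apply Ideal.span_mono
    intro a ha
    exact Finset.mem_toList.mpr ha
  have hfs' : ∀ f ∈ s.toList, f ∈ I := fun f hf => by
    rw [← hs']
    exact Ideal.subset_span (Finset.mem_toList.mp hf)
  obtain ⟨W, g, h, hΔ⟩ := distinguished_cocone_triangle ((uD φ).app (Dual.inD A N))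
  exact bijective_of_orth _ g h hΔ
    (fun j => orth_inD_of_powerTorsion φ I hflat ⟨s, hs'⟩ hs hk s.toList hfs hfs' N W g h hΔ j M hM) i

end Main

end Groth.Agent.Helper11.TorsBC
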