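import Groth.Agent.Lib.Helper11.TorsBC5
import Groth.Agent.Lib.Helper29.DAdjA

/-!
# `Ext_A(M, N) ≃ Ext_B(B ⊗ M, B ⊗ N)` for power torsion `M` and flat `A → B` with `A/I = B/IB`
(helper11)
-/

set_option autoImplicit false
set_option linter.unusedSectionVars false
set_option linter.unusedVariables false
set_option linter.style.haveILetI false

open CategoryTheory CategoryTheory.Limits DerivedCategory Pretriangulated

attribute [local instance] HasDerivedCategory.standard

universe u v w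

namespace Groth.Agent.Helper11.TorsBC

/-- hom-congruence as an additive equivalence -/
def homAddCongr {C : Type v} [Category.{w} C] [Preadditive C] {X X' Y Y' : C} (e₁ : X ≅ X')
    (e₂ : Y ≅ Y') : (X ⟶ Y) ≃+ (X' ⟶ Y') where
  toFun f := e₁.inv ≫ f ≫ e₂.hom
  invFun g := e₁.hom ≫ g ≫ e₂.inv
  left_inv f := by simp
  right_inv g := by simp
  map_add' f g := by simp

variable {A B : Type u} [CommRing A] [CommRing B] (φ : A →+* B) [PreservesFiniteLimits (Es φ)]

/-- derived extension of scalars along a flat map -/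
noncomputable abbrev Gd : Dual.D A ⥤ Dual.D B := (Es φ).mapDerivedCategory

/-- derived restriction of scalars -/
noncomputable abbrev resD : Dual.D B ⥤ Dual.D A := (Rs φ).mapDerivedCategory

/-- the derived adjunction between extension and restriction of scalars along a flat map -/
noncomputable def adjD : Gd φ ⊣ resD φ := by
  letI : CatCommSq ((Es φ).mapHomologicalComplex (ComplexShape.up ℤ)) Q Q (Gd φ) :=
    ⟨(Es φ).mapDerivedCategoryFactors.symm⟩
  letI : CatCommSq ((Rs φ).mapHomologicalComplex (ComplexShape.up ℤ)) Q Q (resD φ) :=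
    ⟨(Rs φ).mapDerivedCategoryFactors.symm⟩
  exact (Groth.Agent.Helper29.DAdjA.cxAdj (ModuleCat.extendRestrictScalarsAdj.{u, u, u} φ)
    (ComplexShape.up ℤ)).localization Q
      (HomologicalComplex.quasiIso (ModuleCat.{u} A) (ComplexShape.up ℤ)) Q
      (HomologicalComplex.quasiIso (ModuleCat.{u} B) (ComplexShape.up ℤ)) (Gd φ) (resD φ)

/-- `B ⊗_A N` computed in two ways in `D(A)` -/
noncomputable def rdIso (N : ModuleCat.{u} A) :
    (RD φ).obj ((DerivedCategory.singleFunctor (ModuleCat.{u} A) 0).obj N) ≅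
      (resD φ).obj ((DerivedCategory.singleFunctor (ModuleCat.{u} B) 0).obj ((Es φ).obj N)) :=
  ((F₀ φ).mapDerivedCategorySingleFunctor 0).app N ≪≫
    (((Rs φ).mapDerivedCategorySingleFunctor 0).app ((Es φ).obj N)).symm

theorem main (hflat : φ.Flat) (I : Ideal A) (hI : I.FG)
    (hs : Function.Surjective ((Ideal.Quotient.mk (I.map φ)).comp φ))
    (hk : RingHom.ker ((Ideal.Quotient.mk (I.map φ)).comp φ) = I)
    (M N : Type u) [AddCommGroup M] [Module A M] [AddCommGroup N] [Module A N]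
    (hM : LocCoh.IsPowerTorsion I M) (i : ℤ) :
    Nonempty ((Dual.inD A M ⟶ (Dual.inD A N)⟦i⟧) ≃+
      ((DerivedCategory.singleFunctor (ModuleCat.{u} B) 0).obj ((Es φ).obj (ModuleCat.of A M)) ⟶
        ((DerivedCategory.singleFunctor (ModuleCat.{u} B) 0).obj
          ((Es φ).obj (ModuleCat.of A N)))⟦i⟧)) := by
  let T : Dual.D A := Dual.inD A M
  let X : Dual.D A := Dual.inD A N
  let SM : Dual.D B :=
    (DerivedCategory.singleFunctor (ModuleCat.{u} B) 0).obj ((Es φ).obj (ModuleCat.of A M))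
  let SN : Dual.D B :=
    (DerivedCategory.singleFunctor (ModuleCat.{u} B) 0).obj ((Es φ).obj (ModuleCat.of A N))
  -- step 1
  let E1 : (T ⟶ X⟦i⟧) ≃+ (T ⟶ ((RD φ).obj X)⟦i⟧) :=
    AddEquiv.ofBijective (Preadditive.rightComp T (((uD φ).app X)⟦i⟧'))
      (bijective_comp_uD_shift φ I hflat hI hs hk M N hM i)
  -- step 2
  let E2 : (T ⟶ ((RD φ).obj X)⟦i⟧) ≃+ (T ⟶ ((resD φ).obj SN)⟦i⟧) :=
    homAddCongr (Iso.refl T) ((shiftFunctor (Dual.D A) i).mapIso (rdIso φ (ModuleCat.of A N)))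
  -- step 3
  let E3 : (T ⟶ ((resD φ).obj SN)⟦i⟧) ≃+ (T ⟶ (resD φ).obj (SN⟦i⟧)) :=
    homAddCongr (Iso.refl T) (((resD φ).commShiftIso i).app SN).symm
  -- step 4
  let E4 : (T ⟶ (resD φ).obj (SN⟦i⟧)) ≃+ ((Gd φ).obj T ⟶ SN⟦i⟧) :=
    ((adjD φ).homAddEquiv T (SN⟦i⟧)).symm
  -- step 5
  let E5 : ((Gd φ).obj T ⟶ SN⟦i⟧) ≃+ (SM ⟶ SN⟦i⟧) :=
    homAddCongr (((Es φ).mapDerivedCategorySingleFunctor 0).app (ModuleCat.of A M)) (Iso.refl _)
  exact ⟨E1.trans (E2.trans (E3.trans (E4.trans E5)))⟩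

end Groth.Agent.Helper11.TorsBC
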