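import Groth.Agent.Lib.Helper11.Towers

/-!
Universal homeomorphisms of ring extensions via towers of elementary extensions.
-/

open CategoryTheory AlgebraicGeometry

universe u

namespace Groth.Agent.Helper11.UH

variable {A B : Type u} [CommRing A] [CommRing B] [Algebra A B]

/-- Square-cube step. -/
def St400 (T : Subalgebra A B) (b : B) : Prop := b ^ 2 ∈ T ∧ b ^ 3 ∈ T

/-- Square-cube or prime step. -/
def St401 (T : Subalgebra A B) (b : B) : Prop :=
  (b ^ 2 ∈ T ∧ b ^ 3 ∈ T) ∨ ∃ p : ℕ, p.Prime ∧ (p : B) * b ∈ T ∧ b ^ p ∈ T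

theorem st400_mono (T T' : Subalgebra A B) (h : T ≤ T') (b : B) (hb : St400 T b) : St400 T' b :=
  ⟨h hb.1, h hb.2⟩

theorem st401_mono (T T' : Subalgebra A B) (h : T ≤ T') (b : B) (hb : St401 T b) :
    St401 T' b := by
  rcases hb with ⟨h2, h3⟩ | ⟨p, hp, h1, h2⟩
  · exact Or.inl ⟨h h2, h h3⟩
  · exact Or.inr ⟨p, hp, h h1, h h2⟩

theorem st400_fin (T : Subalgebra A B) (b : B) (hb : St400 T b) :
    ∃ F : Finset B, (F : Set B) ⊆ T ∧ ∀ T' : Subalgebra A B, (F : Set B) ⊆ T' → St400 T' b := by
  classical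
  refine ⟨{b ^ 2, b ^ 3}, ?_, fun T' hT' => ⟨hT' (by simp), hT' (by simp)⟩⟩
  intro x hx
  simp only [Finset.coe_insert, Finset.coe_singleton, Set.mem_insert_iff,
    Set.mem_singleton_iff] at hx
  rcases hx with rfl | rfl
  · exact hb.1
  · exact hb.2

theorem st401_fin (T : Subalgebra A B) (b : B) (hb : St401 T b) :
    ∃ F : Finset B, (F : Set B) ⊆ T ∧ ∀ T' : Subalgebra A B, (F : Set B) ⊆ T' → St401 T' b := by
  classical
  rcases hb with ⟨h2, h3⟩ | ⟨p, hp, h1, h2⟩
  · refine ⟨{b ^ 2, b ^ 3}, ?_, fun T' hT' => Or.inl ⟨hT' (by simp), hT' (by simp)⟩⟩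
    intro x hx
    simp only [Finset.coe_insert, Finset.coe_singleton, Set.mem_insert_iff,
      Set.mem_singleton_iff] at hx
    rcases hx with rfl | rfl
    · exact h2
    · exact h3
  · refine ⟨{(p : B) * b, b ^ p}, ?_,
      fun T' hT' => Or.inr ⟨p, hp, hT' (by simp), hT' (by simp)⟩⟩
    intro x hx
    simp only [Finset.coe_insert, Finset.coe_singleton, Set.mem_insert_iff,
      Set.mem_singleton_iff] at hx
    rcases hx with rfl | rfl
    · exact h1
    · exact h2

/-- Cancellation: if `A → B` is a universal homeomorphism, so is `T → B` for a subalgebra `T`. -/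
theorem uhom_val (h : UHom (algebraMap A B)) (T : Subalgebra A B) : UHom T.val.toRingHom := by
  have hcomp : T.val.toRingHom.comp (algebraMap A T) = algebraMap A B := by
    ext a
    rfl
  have hint : T.val.toRingHom.IsIntegral := by
    intro b
    obtain ⟨P, hP, hPb⟩ := h.1 b
    refine ⟨P.map (algebraMap A T), hP.map _, ?_⟩
    rw [Polynomial.eval₂_map, hcomp]
    exact hPb
  refine ⟨hint, ?_, ?_⟩
  · intro q1
    obtain ⟨Q, hQ⟩ := exists_over T.val.toRingHom Subtype.val_injective hint q1
    refine ⟨Q, ?_⟩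
    ext x
    exact (hQ x).symm
  · intro K _ g₁ g₂ hg
    apply h.2.2 K
    rw [← hcomp, ← RingHom.comp_assoc, ← RingHom.comp_assoc, hg]

theorem rftriv_val (h : RFTriv (algebraMap A B)) (T : Subalgebra A B) :
    RFTriv T.val.toRingHom := by
  intro q c
  obtain ⟨a, s, hs, hsa⟩ := h q c
  exact ⟨algebraMap A T a, algebraMap A T s, hs, hsa⟩

theorem mem_range_val (T : Subalgebra A B) (x : B) : x ∈ T.val.toRingHom.range ↔ x ∈ T := by
  constructor
  · rintro ⟨y, rfl⟩
    exact y.2
  · intro hx
    exact ⟨⟨x, hx⟩, rfl⟩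

theorem hKL401 (h : UHom (algebraMap A B)) (T : Subalgebra A B) (hT : T ≠ ⊤) :
    ∃ b, b ∉ T ∧ St401 T b := by
  have hne : ∃ b, b ∉ T.val.toRingHom.range := by
    by_contra hcon
    push Not at hcon
    apply hT
    rw [eq_top_iff]
    intro x _
    exact (mem_range_val T x).mp (hcon x)
  obtain ⟨b, hb, hcases⟩ := KL_uh T.val.toRingHom (uhom_val h T) hne
  refine ⟨b, fun hmem => hb ((mem_range_val T b).mpr hmem), ?_⟩
  rcases hcases with ⟨h2, h3⟩ | ⟨ℓ, hℓ, h1, h2⟩
  · exact Or.inl ⟨(mem_range_val T _).mp h2, (mem_range_val T _).mp h3⟩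
  · exact Or.inr ⟨ℓ, hℓ, (mem_range_val T _).mp h1, (mem_range_val T _).mp h2⟩

theorem hKL400 (h : UHom (algebraMap A B)) (hr : RFTriv (algebraMap A B))
    (T : Subalgebra A B) (hT : T ≠ ⊤) :
    ∃ b, b ∉ T ∧ St400 T b := by
  have hne : ∃ b, b ∉ T.val.toRingHom.range := by
    by_contra hcon
    push Not at hcon
    apply hT
    rw [eq_top_iff]
    intro x _
    exact (mem_range_val T x).mp (hcon x)
  obtain ⟨b, hb, h2, h3⟩ := KL_sn T.val.toRingHom (uhom_val h T) (rftriv_val hr T) hne
  exact ⟨b, fun hmem => hb ((mem_range_val T b).mpr hmem),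
    (mem_range_val T _).mp h2, (mem_range_val T _).mp h3⟩

/-! ### The converse direction -/

theorem eq_of_sq_cube {K : Type*} [CommRing K] [IsReduced K] (u v : K) (h2 : u ^ 2 = v ^ 2)
    (h3 : u ^ 3 = v ^ 3) : u = v := by
  have : (u - v) ^ 3 = 0 := by
    linear_combination (4 : K) * h3 + (-3 * v - 3 * u) * h2
  exact sub_eq_zero.mp (pow_eq_zero_iff (n := 3) (by norm_num) |>.mp this)

theorem eq_of_prime_pow {K : Type*} [CommRing K] [IsReduced K] (p : ℕ) (hp : p.Prime) (u v : K)
    (h1 : (p : K) * u = (p : K) * v) (h2 : u ^ p = v ^ p) : u = v := by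
  obtain ⟨r, hr⟩ := exists_add_pow_prime_eq hp v (u - v)
  have hpd : (p : K) * (u - v) = 0 := by rw [mul_sub, h1, sub_self]
  have e : v + (u - v) = u := by ring
  rw [e, h2] at hr
  have : (u - v) ^ p = 0 := by
    have h3 : (p : K) * v * (u - v) * r = v * ((p : K) * (u - v)) * r := by ring
    rw [h3, hpd, mul_zero, zero_mul, add_zero] at hr
    have h4 : v ^ p + (u - v) ^ p = v ^ p + 0 := by rw [add_zero]; exact hr.symm
    exact add_left_cancel h4
  exact sub_eq_zero.mp (pow_eq_zero_iff (n := p) hp.ne_zero |>.mp this)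

theorem uhom_of_towers (hinj : Function.Injective (algebraMap A B))
    (h : ∀ E : Finset B, ∃ l : List B, (E : Set B) ⊆ Algebra.adjoin A {b : B | b ∈ l} ∧
      STower (A := A) St401 l) : UHom (algebraMap A B) := by
  have hint : (algebraMap A B).IsIntegral := by
    intro b
    obtain ⟨l, hE, hl⟩ := h {b}
    rw [stower_iff] at hl
    have := tower_induction (St := St401) (fun x => IsIntegral A x)
      (fun a => isIntegral_algebraMap) (fun x y hx hy => hx.add hy)
      (fun x y hx hy => hx.mul hy) ?_ l hl b (hE (by simp))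
    · exact this
    · intro T hT b hb
      rcases hb with ⟨h2, -⟩ | ⟨p, hp, -, h2⟩
      · exact IsIntegral.of_pow (by norm_num : 0 < 2) (hT _ h2)
      · exact IsIntegral.of_pow hp.pos (hT _ h2)
  refine ⟨hint, ?_, ?_⟩
  · intro p
    obtain ⟨Q, hQ⟩ := exists_over (algebraMap A B) hinj hint p
    refine ⟨Q, ?_⟩
    ext x
    exact (hQ x).symm
  · intro K _ g₁ g₂ hg
    ext b
    obtain ⟨l, hE, hl⟩ := h {b}
    rw [stower_iff] at hl
    refine tower_induction (St := St401) (fun x => g₁ x = g₂ x)
      (fun a => congrFun (congrArg DFunLike.coe hg) a) (fun x y hx hy => ?_)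
      (fun x y hx hy => ?_) ?_ l hl b (hE (by simp))
    · change g₁ (x + y) = g₂ (x + y)
      rw [map_add, map_add, hx, hy]
    · change g₁ (x * y) = g₂ (x * y)
      rw [map_mul, map_mul, hx, hy]
    · intro T hT b hb
      change g₁ b = g₂ b
      rcases hb with ⟨h2, h3⟩ | ⟨p, hp, h1, h2⟩
      · apply eq_of_sq_cube
        · rw [← map_pow, ← map_pow]
          exact hT _ h2
        · rw [← map_pow, ← map_pow]
          exact hT _ h3
      · apply eq_of_prime_pow p hp
        · have := hT _ h1
          simp only [map_mul, map_natCast] at this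
          exact this
        · rw [← map_pow, ← map_pow]
          exact hT _ h2

theorem st400_le_st401 (l : List B) (h : STower (A := A) St400 l) : STower (A := A) St401 l :=
  fun i => Or.inl (h i)

theorem rftriv_of_towers
    (h : ∀ E : Finset B, ∃ l : List B, (E : Set B) ⊆ Algebra.adjoin A {b : B | b ∈ l} ∧
      STower (A := A) St400 l) : RFTriv (algebraMap A B) := by
  intro q b
  obtain ⟨l, hE, hl⟩ := h {b}
  rw [stower_iff] at hl
  have hqprime := q.isPrime
  refine tower_induction (St := St400) (fun x => InK (algebraMap A B) q x)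
    ?_ ?_ ?_ ?_ l hl b (hE (by simp))
  · intro a
    refine ⟨a, 1, ?_, ?_⟩
    · rw [map_one]
      exact fun h1 => hqprime.ne_top ((Ideal.eq_top_iff_one _).mpr h1)
    · rw [map_one, one_mul, sub_self]
      exact Ideal.zero_mem _
  · rintro x y ⟨a, s, hs, hsa⟩ ⟨a', s', hs', hsa'⟩
    refine ⟨s' * a + s * a', s * s', ?_, ?_⟩
    · rw [map_mul]
      exact fun hmem => (hqprime.mem_or_mem hmem).elim hs hs'
    · have : algebraMap A B (s * s') * (x + y) - algebraMap A B (s' * a + s * a') =
          algebraMap A B s' * (algebraMap A B s * x - algebraMap A B a) +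
          algebraMap A B s * (algebraMap A B s' * y - algebraMap A B a') := by
        simp only [map_mul, map_add]
        ring
      rw [this]
      exact Ideal.add_mem _ (Ideal.mul_mem_left _ _ hsa) (Ideal.mul_mem_left _ _ hsa')
  · rintro x y ⟨a, s, hs, hsa⟩ ⟨a', s', hs', hsa'⟩
    refine ⟨a * a', s * s', ?_, ?_⟩
    · rw [map_mul]
      exact fun hmem => (hqprime.mem_or_mem hmem).elim hs hs'
    · have : algebraMap A B (s * s') * (x * y) - algebraMap A B (a * a') =
          (algebraMap A B s' * y) * (algebraMap A B s * x - algebraMap A B a) +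
          algebraMap A B a * (algebraMap A B s' * y - algebraMap A B a') := by
        simp only [map_mul]
        ring
      rw [this]
      exact Ideal.add_mem _ (Ideal.mul_mem_left _ _ hsa) (Ideal.mul_mem_left _ _ hsa')
  · intro T hT b hb
    by_cases hbq : b ∈ q.asIdeal
    · refine ⟨0, 1, ?_, ?_⟩
      · rw [map_one]
        exact fun h1 => hqprime.ne_top ((Ideal.eq_top_iff_one _).mpr h1)
      · rw [map_one, one_mul, map_zero, sub_zero]
        exact hbq
    · obtain ⟨a2, s2, hs2, hsa2⟩ := hT _ hb.1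
      obtain ⟨a3, s3, hs3, hsa3⟩ := hT _ hb.2
      have ha2 : algebraMap A B a2 ∉ q.asIdeal := by
        intro hmem
        have h1 : algebraMap A B s2 * b ^ 2 ∈ q.asIdeal := by
          have := Ideal.add_mem _ hsa2 hmem
          rwa [sub_add_cancel] at this
        rcases hqprime.mem_or_mem h1 with h2 | h2
        · exact hs2 h2
        · exact hbq (hqprime.mem_of_pow_mem _ h2)
      refine ⟨a3 * s2, s3 * a2, ?_, ?_⟩
      · rw [map_mul]
        exact fun hmem => (hqprime.mem_or_mem hmem).elim hs3 ha2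
      · have : algebraMap A B (s3 * a2) * b - algebraMap A B (a3 * s2) =
            algebraMap A B s2 * (algebraMap A B s3 * b ^ 3 - algebraMap A B a3) -
            algebraMap A B s3 * b * (algebraMap A B s2 * b ^ 2 - algebraMap A B a2) := by
          simp only [map_mul]
          ring
        rw [this]
        exact Ideal.sub_mem _ (Ideal.mul_mem_left _ _ hsa3) (Ideal.mul_mem_left _ _ hsa2)

end Groth.Agent.Helper11.UH
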