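import Groth.Agent.Lib.Helper11.KeyLemma

/-!
Towers of elementary extensions inside a ring extension `A ⊆ B`.
-/

open CategoryTheory AlgebraicGeometry

universe u

namespace Groth.Agent.Helper11.UH

variable {A B : Type u} [CommRing A] [CommRing B] [Algebra A B]

section Tower

variable (St : Subalgebra A B → B → Prop)

/-- Tower condition, phrased with `List.take`. -/
def PTower (l : List B) : Prop :=
  ∀ (i : ℕ) (hi : i < l.length), St (Algebra.adjoin A {b | b ∈ l.take i}) l[i]

/-- Tower condition, in the form used in the statements. -/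
def STower (l : List B) : Prop :=
  ∀ i : Fin l.length,
    St (Algebra.adjoin A {b : B | ∃ j : Fin l.length, j < i ∧ b = l.get j}) (l.get i)

theorem set_eq_take (l : List B) (i : Fin l.length) :
    {b : B | ∃ j : Fin l.length, j < i ∧ b = l.get j} = {b | b ∈ l.take i} := by
  ext b
  simp only [Set.mem_ofPred_eq, List.mem_take_iff_getElem]
  constructor
  · rintro ⟨j, hj, rfl⟩
    exact ⟨j, by simp only [lt_min_iff]; exact ⟨hj, j.2⟩, rfl⟩
  · rintro ⟨j, hj, rfl⟩
    rw [lt_min_iff] at hj
    exact ⟨⟨j, hj.2⟩, hj.1, rfl⟩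

theorem stower_iff (l : List B) : STower St l ↔ PTower St l := by
  constructor
  · intro h i hi
    have := h ⟨i, hi⟩
    rw [set_eq_take] at this
    exact this
  · intro h i
    rw [set_eq_take]
    exact h i i.2

variable {St}

theorem ptower_nil : PTower St ([] : List B) := by
  intro i hi
  simp at hi

theorem ptower_append (_hmono : ∀ T T' : Subalgebra A B, T ≤ T' → ∀ b, St T b → St T' b)
    (l₁ l₂ : List B) (h₁ : PTower St l₁)
    (h₂ : ∀ (j : ℕ) (hj : j < l₂.length),
      St (Algebra.adjoin A {b | b ∈ l₁ ++ l₂.take j}) l₂[j]) :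
    PTower St (l₁ ++ l₂) := by
  intro i hi
  by_cases hlt : i < l₁.length
  · have e1 : (l₁ ++ l₂).take i = l₁.take i := List.take_append_of_le_length (le_of_lt hlt)
    have e2 : (l₁ ++ l₂)[i] = l₁[i] := List.getElem_append_left hlt
    rw [e1, e2]
    exact h₁ i hlt
  · have hge : l₁.length ≤ i := not_lt.mp hlt
    obtain ⟨j, rfl⟩ : ∃ j, i = l₁.length + j := ⟨i - l₁.length, by omega⟩
    have hj : j < l₂.length := by
      rw [List.length_append] at hi
      omega
    have e1 : (l₁ ++ l₂).take (l₁.length + j) = l₁ ++ l₂.take j := List.take_length_add_append j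
    have e2 : (l₁ ++ l₂)[l₁.length + j] = l₂[j] := by
      rw [List.getElem_append_right (by omega)]
      simp
    rw [e1, e2]
    exact h₂ j hj

theorem ptower_append' (hmono : ∀ T T' : Subalgebra A B, T ≤ T' → ∀ b, St T b → St T' b)
    (l₁ l₂ : List B) (h₁ : PTower St l₁) (h₂ : PTower St l₂) : PTower St (l₁ ++ l₂) := by
  apply ptower_append hmono l₁ l₂ h₁
  intro j hj
  refine hmono _ _ ?_ _ (h₂ j hj)
  apply Algebra.adjoin_mono
  intro b hb
  exact List.mem_append_right _ hb

theorem ptower_snoc (hmono : ∀ T T' : Subalgebra A B, T ≤ T' → ∀ b, St T b → St T' b)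
    (l : List B) (b : B) (h₁ : PTower St l) (h₂ : St (Algebra.adjoin A {x | x ∈ l}) b) :
    PTower St (l ++ [b]) := by
  apply ptower_append hmono l [b] h₁
  intro j hj
  have : j = 0 := by simpa using hj
  subst this
  simpa using h₂

/-- Induction principle along towers. -/
theorem tower_induction (P : B → Prop) (hP_alg : ∀ a, P (algebraMap A B a))
    (hP_add : ∀ x y, P x → P y → P (x + y)) (hP_mul : ∀ x y, P x → P y → P (x * y))
    (hstep : ∀ T : Subalgebra A B, (∀ x ∈ T, P x) → ∀ b, St T b → P b)
    (l : List B) (hl : PTower St l) : ∀ x ∈ Algebra.adjoin A {b | b ∈ l}, P x := by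
  have hadj : ∀ s : Set B, (∀ b ∈ s, P b) → ∀ x ∈ Algebra.adjoin A s, P x := by
    intro s hs x hx
    induction hx using Algebra.adjoin_induction with
    | mem x hx => exact hs x hx
    | algebraMap a => exact hP_alg a
    | add x y _ _ hx hy => exact hP_add x y hx hy
    | mul x y _ _ hx hy => exact hP_mul x y hx hy
  have hgen : ∀ (i : ℕ) (hi : i < l.length), P l[i] := by
    intro i
    induction i using Nat.strong_induction_on with
    | _ i ih =>
      intro hi
      apply hstep _ _ _ (hl i hi)
      apply hadj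
      intro b hb
      rw [Set.mem_ofPred_eq, List.mem_take_iff_getElem] at hb
      obtain ⟨j, hj, rfl⟩ := hb
      rw [lt_min_iff] at hj
      exact ih j hj.1 hj.2
  apply hadj
  intro b hb
  obtain ⟨i, hi, rfl⟩ := List.mem_iff_getElem.mp hb
  exact hgen i hi

variable (St)

/-- The union of all tower algebras. -/
def towerSet : Set B := {x | ∃ l, PTower St l ∧ x ∈ Algebra.adjoin A {b | b ∈ l}}

variable {St}

theorem exists_tower_of_finset
    (hmono : ∀ T T' : Subalgebra A B, T ≤ T' → ∀ b, St T b → St T' b)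
    (F : Finset B) (hF : (F : Set B) ⊆ towerSet St) :
    ∃ l, PTower St l ∧ (F : Set B) ⊆ Algebra.adjoin A {b | b ∈ l} := by
  classical
  induction F using Finset.induction_on with
  | empty => exact ⟨[], ptower_nil, by simp⟩
  | insert x F hx ih =>
    obtain ⟨l₁, h₁, hF₁⟩ := ih (fun y hy => hF (by simp [Finset.mem_coe.mp hy]))
    obtain ⟨l₂, h₂, hx₂⟩ := hF (show x ∈ ((insert x F : Finset B) : Set B) by simp)
    refine ⟨l₁ ++ l₂, ptower_append' hmono l₁ l₂ h₁ h₂, ?_⟩
    intro y hy
    rw [Finset.coe_insert, Set.mem_insert_iff] at hy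
    rcases hy with rfl | hy
    · refine Algebra.adjoin_mono ?_ hx₂
      intro b hb
      exact List.mem_append_right _ hb
    · refine Algebra.adjoin_mono ?_ (hF₁ hy)
      intro b hb
      exact List.mem_append_left _ hb

/-- The union of all tower algebras, as a subalgebra. -/
def towerAlg (hmono : ∀ T T' : Subalgebra A B, T ≤ T' → ∀ b, St T b → St T' b) :
    Subalgebra A B where
  carrier := towerSet St
  add_mem' := by
    classical
    intro x y hx hy
    obtain ⟨l, hl, hxy⟩ := exists_tower_of_finset hmono {x, y} (by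
      intro z hz
      simp only [Finset.coe_insert, Finset.coe_singleton, Set.mem_insert_iff,
        Set.mem_singleton_iff] at hz
      rcases hz with rfl | rfl
      · exact hx
      · exact hy)
    exact ⟨l, hl, Subalgebra.add_mem _ (hxy (by simp)) (hxy (by simp))⟩
  mul_mem' := by
    classical
    intro x y hx hy
    obtain ⟨l, hl, hxy⟩ := exists_tower_of_finset hmono {x, y} (by
      intro z hz
      simp only [Finset.coe_insert, Finset.coe_singleton, Set.mem_insert_iff,
        Set.mem_singleton_iff] at hz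
      rcases hz with rfl | rfl
      · exact hx
      · exact hy)
    exact ⟨l, hl, Subalgebra.mul_mem _ (hxy (by simp)) (hxy (by simp))⟩
  algebraMap_mem' := by
    intro a
    exact ⟨[], ptower_nil, Subalgebra.algebraMap_mem _ a⟩

/-- If every proper subalgebra admits a step, then all of `B` is reached by towers. -/
theorem towerSet_eq_univ
    (hmono : ∀ T T' : Subalgebra A B, T ≤ T' → ∀ b, St T b → St T' b)
    (hfin : ∀ (T : Subalgebra A B) (b : B), St T b →
      ∃ F : Finset B, (F : Set B) ⊆ T ∧ ∀ T' : Subalgebra A B, (F : Set B) ⊆ T' → St T' b)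
    (hKL : ∀ T : Subalgebra A B, T ≠ ⊤ → ∃ b, b ∉ T ∧ St T b) :
    towerSet St = Set.univ := by
  by_contra hne
  have hne' : towerAlg hmono ≠ ⊤ := by
    intro htop
    apply hne
    ext x
    simp only [Set.mem_univ, iff_true]
    have : x ∈ towerAlg hmono := htop ▸ Algebra.mem_top
    exact this
  obtain ⟨b, hb, hSt⟩ := hKL _ hne'
  obtain ⟨F, hF, hF'⟩ := hfin _ b hSt
  obtain ⟨l, hl, hFl⟩ := exists_tower_of_finset hmono F hF
  apply hb
  refine ⟨l ++ [b], ptower_snoc hmono l b hl (hF' _ hFl), ?_⟩
  apply Algebra.subset_adjoin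
  simp

theorem forall_finset_exists_tower
    (hmono : ∀ T T' : Subalgebra A B, T ≤ T' → ∀ b, St T b → St T' b)
    (hfin : ∀ (T : Subalgebra A B) (b : B), St T b →
      ∃ F : Finset B, (F : Set B) ⊆ T ∧ ∀ T' : Subalgebra A B, (F : Set B) ⊆ T' → St T' b)
    (hKL : ∀ T : Subalgebra A B, T ≠ ⊤ → ∃ b, b ∉ T ∧ St T b) (E : Finset B) :
    ∃ l : List B, (E : Set B) ⊆ Algebra.adjoin A {b : B | b ∈ l} ∧ STower St l := by
  obtain ⟨l, hl, hE⟩ := exists_tower_of_finset hmono E (by
    rw [towerSet_eq_univ hmono hfin hKL]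
    exact Set.subset_univ _)
  exact ⟨l, hE, (stower_iff St l).mpr hl⟩

end Tower

end Groth.Agent.Helper11.UH
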