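import Groth.Agent.S7082
import Groth.Agent.Lib.Helper11.DCHeart
import Groth.Agent.Lib.Helper11.DCCompl
import Groth.Agent.Lib.Helper11.DCHomK3

/-!
Two-term complexes: powers of an ideal killing `Ext¹` (helper11).
-/

set_option autoImplicit false

open CategoryTheory Category Limits Pretriangulated DerivedCategory

attribute [local instance] HasDerivedCategory.standard

universe u

namespace Groth.Agent.Helper11.TTP

open Groth.Agent.Helper11.DC

variable {R : Type u} [CommRing R]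

/-- if `a` on `E⁻¹` factors through the differential then `a` kills `H⁻¹` -/
theorem homology_map_smul_eq_zero_of_factor (E : DRing.Cx R) (a : R) (h : E.X 0 ⟶ E.X (-1))
    (hh : E.d (-1) 0 ≫ h = a • 𝟙 (E.X (-1))) :
    (homologyFunctor (ModuleCat.{u} R) (-1)).map (a • 𝟙 (Q.obj E)) = 0 := by
  have h1 : a • 𝟙 (Q.obj E) = Q.map (a • 𝟙 E) := by
    rw [Functor.map_smul, CategoryTheory.Functor.map_id]
  rw [h1]
  have hc : HomologicalComplex.cyclesMap (a • 𝟙 E) (-1) = 0 := by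
    rw [← cancel_mono (E.iCycles (-1)), HomologicalComplex.cyclesMap_i, zero_comp]
    have h2 : (a • 𝟙 E).f (-1) = E.d (-1) 0 ≫ h := by
      rw [hh, HomologicalComplex.smul_f_apply, HomologicalComplex.id_f]
    rw [h2, ← assoc, HomologicalComplex.iCycles_d, zero_comp]
  have hm : HomologicalComplex.homologyMap (a • 𝟙 E) (-1) = 0 := by
    rw [← cancel_epi (E.homologyπ (-1)), HomologicalComplex.homologyπ_naturality, hc, zero_comp,
      comp_zero]
  have hnat := (homologyFunctorFactors (ModuleCat.{u} R) (-1)).hom.naturality (a • 𝟙 E)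
  simp only [Functor.comp_map] at hnat
  have hm' : (HomologicalComplex.homologyFunctor (ModuleCat.{u} R) (ComplexShape.up ℤ) (-1)).map
      (a • 𝟙 E) = 0 := hm
  rw [hm', comp_zero] at hnat
  rw [← cancel_mono ((homologyFunctorFactors (ModuleCat.{u} R) (-1)).hom.app E), hnat, zero_comp]

/-- the truncation triangle of an object with cohomology in degrees `-1, 0` -/
theorem exists_trunc_triangle (K : Dual.D R) [K.IsLE 0] [K.IsGE (-1)] :
    ∃ (X' : Dual.D R) (α : X' ⟶ K) (β : K ⟶ Dual.inD R (Dual.HD R K 0))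
      (γ : Dual.inD R (Dual.HD R K 0) ⟶ X'⟦(1 : ℤ)⟧),
      Triangle.mk α β γ ∈ distTriang (Dual.D R) ∧ X'.IsLE (-1) ∧ X'.IsGE (-1) ∧
        IsIso ((homologyFunctor (ModuleCat.{u} R) (-1)).map α) := by
  obtain ⟨X', X'', hX', hX'', a, b, c, hT⟩ := TStructure.t.exists_triangle K (-1) 0 (by omega)
  haveI : X'.IsLE (-1) := ⟨hX'⟩
  haveI : X''.IsGE 0 := ⟨hX''⟩
  have hX''le : X''.IsLE 0 := by
    rw [isLE_iff]
    intro i hi
    have hXi : IsZero ((homologyFunctor (ModuleCat.{u} R) i).obj K) := K.isZero_of_isLE 0 i hi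
    have hX'i : IsZero ((homologyFunctor (ModuleCat.{u} R) (i + 1)).obj X') :=
      X'.isZero_of_isLE (-1) (i + 1) (by omega)
    have ex := HomologySequence.exact₃ (Triangle.mk a b c) hT i (i + 1) rfl
    exact ex.isZero_of_both_zeros (hXi.eq_of_src _ _) (hX'i.eq_of_tgt _ _)
  have hX'ge : X'.IsGE (-1) := by
    rw [isGE_iff]
    intro i hi
    have hKi : IsZero ((homologyFunctor (ModuleCat.{u} R) i).obj K) := K.isZero_of_isGE (-1) i hi
    have hX''i : IsZero ((homologyFunctor (ModuleCat.{u} R) (i - 1)).obj X'') :=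
      X''.isZero_of_isGE 0 (i - 1) (by omega)
    have ex := HomologySequence.exact₁ (Triangle.mk a b c) hT (i - 1) i (by omega)
    exact ex.isZero_of_both_zeros (hX''i.eq_of_src _ _) (hKi.eq_of_tgt _ _)
  have hb : IsIso ((homologyFunctor (ModuleCat.{u} R) 0).map b) := by
    have hX'n : IsZero ((homologyFunctor (ModuleCat.{u} R) 0).obj X') :=
      X'.isZero_of_isLE (-1) 0 (by omega)
    have hX'n1 : IsZero ((homologyFunctor (ModuleCat.{u} R) (0 + 1)).obj X') :=
      X'.isZero_of_isLE (-1) (0 + 1) (by omega)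
    have : Mono ((homologyFunctor (ModuleCat.{u} R) 0).map b) :=
      (HomologySequence.mono_homologyMap_mor₂_iff (Triangle.mk a b c) hT 0).mpr
        (hX'n.eq_of_src _ _)
    have : Epi ((homologyFunctor (ModuleCat.{u} R) 0).map b) :=
      (HomologySequence.epi_homologyMap_mor₂_iff (Triangle.mk a b c) hT 0 (0 + 1) rfl).mpr
        (hX'n1.eq_of_tgt _ _)
    exact isIso_of_mono_of_epi _
  have ha : IsIso ((homologyFunctor (ModuleCat.{u} R) (-1)).map a) := by
    have h1 : IsZero ((homologyFunctor (ModuleCat.{u} R) (-1 - 1)).obj X'') :=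
      X''.isZero_of_isGE 0 (-1 - 1) (by omega)
    have h2 : IsZero ((homologyFunctor (ModuleCat.{u} R) (-1)).obj X'') :=
      X''.isZero_of_isGE 0 (-1) (by omega)
    have : Mono ((homologyFunctor (ModuleCat.{u} R) (-1)).map a) :=
      (HomologySequence.mono_homologyMap_mor₁_iff (Triangle.mk a b c) hT (-1 - 1) (-1)
        (by omega)).mpr (h1.eq_of_src _ _)
    have : Epi ((homologyFunctor (ModuleCat.{u} R) (-1)).map a) :=
      (HomologySequence.epi_homologyMap_mor₁_iff (Triangle.mk a b c) hT (-1)).mpr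
        (h2.eq_of_tgt _ _)
    exact isIso_of_mono_of_epi _
  obtain ⟨N, ⟨e0⟩⟩ := exists_iso_singleFunctor_obj_of_isGE_of_isLE X'' 0
  let isoN : N ≅ (homologyFunctor (ModuleCat.{u} R) 0).obj K :=
    ((singleFunctorCompHomologyFunctorIso (ModuleCat.{u} R) 0).app N).symm ≪≫
      (homologyFunctor (ModuleCat.{u} R) 0).mapIso e0.symm ≪≫
      (asIso ((homologyFunctor (ModuleCat.{u} R) 0).map b)).symm
  let e : X'' ≅ Dual.inD R (Dual.HD R K 0) :=
    e0 ≪≫ (singleFunctor (ModuleCat.{u} R) 0).mapIso isoN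
  refine ⟨X', a, b ≫ e.hom, e.inv ≫ c, ?_, inferInstance, hX'ge, ha⟩
  refine isomorphic_distinguished _ hT _ ?_
  refine Triangle.isoMk _ _ (Iso.refl _) (Iso.refl _) e.symm ?_ ?_ ?_
  · exact (comp_id a).trans (id_comp a).symm
  · show (b ≫ e.hom) ≫ e.inv = 𝟙 K ≫ b
    rw [assoc, e.hom_inv_id, comp_id, id_comp]
  · show (e.inv ≫ c) ≫ (shiftFunctor (Dual.D R) (1 : ℤ)).map (𝟙 X') = e.inv ≫ c
    rw [CategoryTheory.Functor.map_id, comp_id]

/-- Stacks-style criterion: some power of `I` kills `Ext¹(K, -)` iff some power kills `H⁻¹(K)` and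
`Ext¹(H⁰(K), -)`. -/
theorem main (I : Ideal R) (K : Dual.D R)
    (hK : ∀ i : ℤ, i ≠ -1 → i ≠ 0 → Subsingleton (Dual.HD R K i)) :
    (∃ c : ℕ, ∀ (N : Type u) [AddCommGroup N] [Module R N] (a : R), a ∈ I ^ c →
        ∀ ξ : K ⟶ (Dual.inD R N)⟦(1 : ℤ)⟧, a • ξ = 0) ↔
      ∃ c : ℕ, (∀ a : R, a ∈ I ^ c → ∀ x : Dual.HD R K (-1), a • x = 0) ∧
        ∀ (N : Type u) [AddCommGroup N] [Module R N] (a : R), a ∈ I ^ c →
          ∀ ξ : Dual.inD R (Dual.HD R K 0) ⟶ (Dual.inD R N)⟦(1 : ℤ)⟧, a • ξ = 0 := by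
  have hK' : ∀ i : ℤ, i ≠ -1 → i ≠ 0 →
      IsZero ((homologyFunctor (ModuleCat.{u} R) i).obj K) := by
    intro i h1 h2
    have := hK i h1 h2
    exact ModuleCat.isZero_of_subsingleton _
  haveI : K.IsLE 0 := by
    rw [isLE_iff]
    intro i hi
    exact hK' i (by omega) (by omega)
  haveI : K.IsGE (-1) := by
    rw [isGE_iff]
    intro i hi
    exact hK' i (by omega) (by omega)
  obtain ⟨X', α, β, γ, hT, hX'le, hX'ge, hα⟩ := exists_trunc_triangle K
  have hNge : ∀ (N : Type u) [AddCommGroup N] [Module R N],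
      ((Dual.inD R N)⟦(1 : ℤ)⟧).IsGE (-1) :=
    fun N _ _ => TStructure.t.isGE_shift _ 0 1 (-1) (by norm_num)
  haveI hX'1 : (X'⟦(1 : ℤ)⟧).IsLE (-2) := TStructure.t.isLE_shift _ (-1) 1 (-2) (by norm_num)
  constructor
  · rintro ⟨c, hc⟩
    refine ⟨c, ?_, ?_⟩
    · intro a ha x
      obtain ⟨E, hE, hfree, ⟨e⟩⟩ := exists_twoTerm_free K hK'
      have hE0 : Module.Projective R (E.X 0) := Module.Projective.of_free
      obtain ⟨h, hh⟩ := (Groth.Agent.S7082.result (I ^ c) K hK).mp hc E hE hE0 ⟨e⟩ a ha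
      have h1 := homology_map_smul_eq_zero_of_factor E a h hh
      have h2 : (homologyFunctor (ModuleCat.{u} R) (-1)).map (a • 𝟙 K) = 0 := by
        have : a • 𝟙 K = e.inv ≫ (a • 𝟙 (Q.obj E)) ≫ e.hom := by
          rw [Linear.smul_comp, Linear.comp_smul, id_comp, e.inv_hom_id]
        rw [this, Functor.map_comp, Functor.map_comp, h1, zero_comp, comp_zero]
      rw [homologyFunctor_map_smul_id] at h2
      have h3 := congrArg (fun t => t.hom x) h2
      exact h3
    · intro N _ _ a ha ξ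
      haveI := hNge N
      have h1 : β ≫ (a • ξ) = 0 := by
        rw [Linear.comp_smul]
        exact hc N a ha (β ≫ ξ)
      obtain ⟨g, hg⟩ : ∃ g : X'⟦(1 : ℤ)⟧ ⟶ (Dual.inD R N)⟦(1 : ℤ)⟧, a • ξ = γ ≫ g :=
        Triangle.yoneda_exact₃ (Triangle.mk α β γ) hT (a • ξ) h1
      have hg0 : g = 0 := TStructure.t.zero g (-2) (-1) (by norm_num)
      rw [hg, hg0, comp_zero]
  · rintro ⟨c, hc1, hc2⟩
    refine ⟨c + c, ?_⟩
    intro N _ _ t ht ξ
    haveI := hNge N
    rw [pow_add] at ht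
    refine Submodule.mul_induction_on ht ?_ ?_
    · intro a₂ ha₂ a₁ ha₁
      have hz : a₁ • 𝟙 X' = 0 := by
        refine eq_zero_of_homology_map_eq_zero X' X' (-1) _ ?_
        rw [homologyFunctor_map_smul_id]
        have hzK : a₁ • 𝟙 ((homologyFunctor (ModuleCat.{u} R) (-1)).obj K) = 0 := by
          ext x
          exact hc1 a₁ ha₁ x
        rw [← cancel_mono ((homologyFunctor (ModuleCat.{u} R) (-1)).map α), zero_comp,
          Linear.smul_comp, id_comp,
          ← comp_id ((homologyFunctor (ModuleCat.{u} R) (-1)).map α),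
          ← Linear.comp_smul, hzK, comp_zero]
      have h1 : α ≫ (a₁ • ξ) = 0 := by
        have : α ≫ (a₁ • ξ) = (a₁ • 𝟙 X') ≫ α ≫ ξ := by
          rw [Linear.comp_smul, Linear.smul_comp, id_comp]
        rw [this, hz, zero_comp]
      obtain ⟨η, hη⟩ : ∃ η : Dual.inD R (Dual.HD R K 0) ⟶ (Dual.inD R N)⟦(1 : ℤ)⟧,
          a₁ • ξ = β ≫ η := Triangle.yoneda_exact₂ (Triangle.mk α β γ) hT (a₁ • ξ) h1
      rw [mul_smul, hη, ← Linear.comp_smul, hc2 N a₂ ha₂ η, comp_zero]
    · intro x y hx hy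
      rw [add_smul, hx, hy, add_zero]

end Groth.Agent.Helper11.TTP
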