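import Groth.Agent.Lib.Helper11.UHRing

/-!
Elementary extensions `A[t]/(t^2 - x, t^3 - y)` and `A[t]/(t^p - x, p t - y)` are universal
homeomorphisms.
-/

open CategoryTheory AlgebraicGeometry Polynomial

universe u

namespace Groth.Agent.Helper11.UH

section Towers

variable {A B : Type u} [CommRing A] [CommRing B] [Algebra A B]

theorem uhom_of_towers_surj
    (hsurj : Function.Surjective (PrimeSpectrum.comap (algebraMap A B)))
    (h : ∀ E : Finset B, ∃ l : List B, (E : Set B) ⊆ Algebra.adjoin A {b : B | b ∈ l} ∧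
      STower (A := A) St401 l) : UHom (algebraMap A B) := by
  have hint : (algebraMap A B).IsIntegral := by
    intro b
    obtain ⟨l, hE, hl⟩ := h {b}
    rw [stower_iff] at hl
    have := tower_induction (St := St401) (fun x => IsIntegral A x)
      (fun a => isIntegral_algebraMap) (fun x y hx hy => hx.add hy)
      (fun x y hx hy => hx.mul hy) ?_ l hl b (hE (by simp))
    · exact this
    · intro T hT b hb
      rcases hb with ⟨h2, -⟩ | ⟨p, hp, -, h2⟩
      · exact IsIntegral.of_pow (by norm_num : 0 < 2) (hT _ h2)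
      · exact IsIntegral.of_pow hp.pos (hT _ h2)
  refine ⟨hint, hsurj, ?_⟩
  intro K _ g₁ g₂ hg
  ext b
  obtain ⟨l, hE, hl⟩ := h {b}
  rw [stower_iff] at hl
  refine tower_induction (St := St401) (fun x => g₁ x = g₂ x)
    (fun a => congrFun (congrArg DFunLike.coe hg) a) (fun x y hx hy => ?_)
    (fun x y hx hy => ?_) ?_ l hl b (hE (by simp))
  · rw [map_add, map_add, hx, hy]
  · rw [map_mul, map_mul, hx, hy]
  · intro T hT b hb
    rcases hb with ⟨h2, h3⟩ | ⟨p, hp, h1, h2⟩
    · apply eq_of_sq_cube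
      · rw [← map_pow, ← map_pow]
        exact hT _ h2
      · rw [← map_pow, ← map_pow]
        exact hT _ h3
    · apply eq_of_prime_pow p hp
      · have := hT _ h1
        simp only [map_mul, map_natCast] at this
        exact this
      · rw [← map_pow, ← map_pow]
        exact hT _ h2

theorem stower_singleton (St : Subalgebra A B → B → Prop)
    (hmono : ∀ T T' : Subalgebra A B, T ≤ T' → ∀ b, St T b → St T' b) (t : B)
    (hst : St ⊥ t) : STower (A := A) St [t] := by
  rintro ⟨i, hi⟩
  have : i = 0 := by simpa using hi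
  subst this
  exact hmono _ _ bot_le _ hst

theorem uhom_of_generator (t : B) (hgen : Algebra.adjoin A {t} = ⊤)
    (hst : St401 (⊥ : Subalgebra A B) t)
    (hsurj : Function.Surjective (PrimeSpectrum.comap (algebraMap A B))) :
    UHom (algebraMap A B) := by
  apply uhom_of_towers_surj hsurj
  intro E
  refine ⟨[t], ?_, stower_singleton St401 st401_mono t hst⟩
  have : {b : B | b ∈ [t]} = {t} := by
    ext b
    simp
  rw [this, hgen]
  exact fun _ _ => trivial

theorem rftriv_of_generator (t : B) (hgen : Algebra.adjoin A {t} = ⊤)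
    (hst : St400 (⊥ : Subalgebra A B) t) : RFTriv (algebraMap A B) := by
  apply rftriv_of_towers
  intro E
  refine ⟨[t], ?_, stower_singleton St400 st400_mono t hst⟩
  have : {b : B | b ∈ [t]} = {t} := by
    ext b
    simp
  rw [this, hgen]
  exact fun _ _ => trivial

end Towers

section Lifts

variable {A C : Type u} [CommRing A] [CommRing C]

theorem comap_surjective_of_lifts (ψ : A →+* C)
    (h : ∀ p : PrimeSpectrum A, ∃ γ : C →+* Om A p, γ.comp ψ = algebraMap A (Om A p)) :
    Function.Surjective (PrimeSpectrum.comap ψ) := by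
  intro p
  obtain ⟨γ, hγ⟩ := h p
  refine ⟨⟨RingHom.ker γ, RingHom.ker_isPrime γ⟩, ?_⟩
  ext a
  change γ (ψ a) = 0 ↔ a ∈ p.asIdeal
  rw [← ker_algebraMap_Om p a, ← hγ]
  rfl

end Lifts

section Quot

variable (A : Type u) [CommRing A]

theorem adjoin_mk_X (I : Ideal A[X]) :
    Algebra.adjoin A {(Ideal.Quotient.mk I X : A[X] ⧸ I)} = ⊤ := by
  rw [eq_top_iff]
  intro b _
  obtain ⟨f, rfl⟩ := Ideal.Quotient.mk_surjective b
  rw [Algebra.adjoin_singleton_eq_range_aeval]
  refine ⟨f, ?_⟩
  have := Polynomial.aeval_algHom_apply (Ideal.Quotient.mkₐ A I) (X : A[X]) f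
  rw [Polynomial.aeval_X_left_apply] at this
  exact this

theorem exists_lift_quot (S : Set A[X]) (p : PrimeSpectrum A) (s : Om A p)
    (hs : ∀ f ∈ S, Polynomial.eval₂ (algebraMap A (Om A p)) s f = 0) :
    ∃ γ : (A[X] ⧸ Ideal.span S) →+* Om A p,
      γ.comp (algebraMap A (A[X] ⧸ Ideal.span S)) = algebraMap A (Om A p) := by
  have hle : Ideal.span S ≤ RingHom.ker (Polynomial.eval₂RingHom (algebraMap A (Om A p)) s) := by
    rw [Ideal.span_le]
    intro f hf
    exact hs f hf
  refine ⟨Ideal.Quotient.lift (Ideal.span S)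
    (Polynomial.eval₂RingHom (algebraMap A (Om A p)) s) (fun f hf => hle hf), ?_⟩
  ext a
  have e : algebraMap A (A[X] ⧸ Ideal.span S) a = Ideal.Quotient.mk (Ideal.span S) (C a) := rfl
  rw [RingHom.comp_apply, e, Ideal.Quotient.lift_mk]
  simp

theorem uhom_sq_cube (x y : A) (h : x ^ 3 = y ^ 2) :
    UHom (algebraMap A (A[X] ⧸ Ideal.span ({X ^ 2 - C x, X ^ 3 - C y} : Set A[X]))) ∧
    RFTriv (algebraMap A (A[X] ⧸ Ideal.span ({X ^ 2 - C x, X ^ 3 - C y} : Set A[X]))) := by
  set I := Ideal.span ({X ^ 2 - C x, X ^ 3 - C y} : Set A[X]) with hI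
  have hst : St400 (⊥ : Subalgebra A (A[X] ⧸ I)) (Ideal.Quotient.mk I X) := by
    constructor
    · have : (Ideal.Quotient.mk I X) ^ 2 = algebraMap A (A[X] ⧸ I) x := by
        rw [← map_pow]
        exact Ideal.Quotient.eq.mpr (Ideal.subset_span (by simp))
      rw [this]
      exact Subalgebra.algebraMap_mem _ _
    · have : (Ideal.Quotient.mk I X) ^ 3 = algebraMap A (A[X] ⧸ I) y := by
        rw [← map_pow]
        exact Ideal.Quotient.eq.mpr (Ideal.subset_span (by simp))
      rw [this]
      exact Subalgebra.algebraMap_mem _ _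
  refine ⟨uhom_of_generator _ (adjoin_mk_X A I) (Or.inl hst) ?_,
    rftriv_of_generator _ (adjoin_mk_X A I) hst⟩
  apply comap_surjective_of_lifts
  intro p
  have hxy : (algebraMap A (Om A p) x) ^ 3 = (algebraMap A (Om A p) y) ^ 2 := by
    rw [← map_pow, ← map_pow, h]
  set x' := algebraMap A (Om A p) x
  set y' := algebraMap A (Om A p) y
  by_cases hx : x' = 0
  · have hy : y' = 0 := by
      rw [hx] at hxy
      exact pow_eq_zero_iff (two_ne_zero) |>.mp (by rw [← hxy]; simp)
    apply exists_lift_quot A _ p 0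
    intro f hf
    rcases hf with rfl | rfl
    · simp only [eval₂_sub, eval₂_pow, eval₂_X, eval₂_C]
      change (0 : Om A p) ^ 2 - x' = 0
      rw [hx]
      simp
    · simp only [eval₂_sub, eval₂_pow, eval₂_X, eval₂_C]
      change (0 : Om A p) ^ 3 - y' = 0
      rw [hy]
      simp
  · apply exists_lift_quot A _ p (y' / x')
    intro f hf
    rcases hf with rfl | rfl
    · simp only [eval₂_sub, eval₂_pow, eval₂_X, eval₂_C]
      change (y' / x') ^ 2 - x' = 0
      rw [div_pow, ← hxy, sub_eq_zero, div_eq_iff (pow_ne_zero _ hx)]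
      ring
    · simp only [eval₂_sub, eval₂_pow, eval₂_X, eval₂_C]
      change (y' / x') ^ 3 - y' = 0
      rw [div_pow, sub_eq_zero, div_eq_iff (pow_ne_zero _ hx), hxy]
      ring

theorem uhom_prime (p : ℕ) (hp : p.Prime) (x y : A) (h : (p : A) ^ p * x = y ^ p) :
    UHom (algebraMap A (A[X] ⧸ Ideal.span ({X ^ p - C x, C (p : A) * X - C y} : Set A[X]))) := by
  set I := Ideal.span ({X ^ p - C x, C (p : A) * X - C y} : Set A[X]) with hI
  have hst : St401 (⊥ : Subalgebra A (A[X] ⧸ I)) (Ideal.Quotient.mk I X) := by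
    refine Or.inr ⟨p, hp, ?_, ?_⟩
    · have : (p : A[X] ⧸ I) * (Ideal.Quotient.mk I X) = algebraMap A (A[X] ⧸ I) y := by
        have e : (p : A[X] ⧸ I) = Ideal.Quotient.mk I (C (p : A)) := by
          rw [Polynomial.C_eq_natCast, map_natCast]
        rw [e, ← map_mul]
        exact Ideal.Quotient.eq.mpr (Ideal.subset_span (by simp))
      rw [this]
      exact Subalgebra.algebraMap_mem _ _
    · have : (Ideal.Quotient.mk I X) ^ p = algebraMap A (A[X] ⧸ I) x := by
        rw [← map_pow]
        exact Ideal.Quotient.eq.mpr (Ideal.subset_span (by simp))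
      rw [this]
      exact Subalgebra.algebraMap_mem _ _
  refine uhom_of_generator _ (adjoin_mk_X A I) hst ?_
  apply comap_surjective_of_lifts
  intro q
  have hxy : ((p : Om A q)) ^ p * (algebraMap A (Om A q) x) = (algebraMap A (Om A q) y) ^ p := by
    rw [← map_natCast (algebraMap A (Om A q)), ← map_pow, ← map_mul, ← map_pow, h]
  set x' := algebraMap A (Om A q) x
  set y' := algebraMap A (Om A q) y
  by_cases hpz : (p : Om A q) = 0
  · have hy : y' = 0 := by
      rw [hpz, zero_pow hp.ne_zero, zero_mul] at hxy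
      exact pow_eq_zero_iff hp.ne_zero |>.mp hxy.symm
    obtain ⟨s, hs⟩ := IsAlgClosed.exists_pow_nat_eq x' hp.pos
    apply exists_lift_quot A _ q s
    intro f hf
    rcases hf with rfl | rfl
    · simp only [eval₂_sub, eval₂_pow, eval₂_X, eval₂_C]
      change s ^ p - x' = 0
      rw [hs, sub_self]
    · simp only [eval₂_sub, eval₂_mul, eval₂_X, eval₂_C, map_natCast, eval₂_natCast]
      change (p : Om A q) * s - y' = 0
      rw [hpz, hy]
      simp
  · apply exists_lift_quot A _ q (y' / (p : Om A q))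
    intro f hf
    rcases hf with rfl | rfl
    · simp only [eval₂_sub, eval₂_pow, eval₂_X, eval₂_C]
      change (y' / (p : Om A q)) ^ p - x' = 0
      rw [div_pow, ← hxy, sub_eq_zero, div_eq_iff (pow_ne_zero _ hpz)]
      ring
    · simp only [eval₂_sub, eval₂_mul, eval₂_X, eval₂_C, map_natCast, eval₂_natCast]
      change (p : Om A q) * (y' / (p : Om A q)) - y' = 0
      rw [mul_div_cancel₀ _ hpz, sub_self]

end Quot

end Groth.Agent.Helper11.UH
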