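import Groth.Agent.Lib.Helper11.TowerUH
import Groth.Agent.Lib.Helper11.RelSN

/-!
Ring-theoretic forms of universally closed / universally injective / surjective for `Spec` of a
ring map, and descent of these properties along an injective integral ring map.
-/

open CategoryTheory AlgebraicGeometry

universe u

namespace Groth.Agent.Helper11.UH

section SpecForms

variable {A C : Type u} [CommRing A] [CommRing C] (ψ : A →+* C)

theorem universallyClosed_spec_iff :
    UniversallyClosed (Spec.map (CommRingCat.ofHom ψ)) ↔ ψ.IsIntegral := by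
  have := IsIntegralHom.SpecMap_iff (φ := CommRingCat.ofHom ψ)
  rw [IsIntegralHom.iff_universallyClosed_and_isAffineHom] at this
  exact ⟨fun h => this.mp ⟨h, inferInstance⟩, fun h => (this.mpr h).1⟩

theorem surjective_spec_iff :
    Surjective (Spec.map (CommRingCat.ofHom ψ)) ↔ Function.Surjective (PrimeSpectrum.comap ψ) :=
  ⟨fun h => h.surj, fun h => ⟨h⟩⟩

theorem universallyInjective_spec_iff :
    UniversallyInjective (Spec.map (CommRingCat.ofHom ψ)) ↔ Radicial ψ := by
  have htfae := (tfae_universallyInjective (Spec.map (CommRingCat.ofHom ψ))).out 0 1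
  rw [htfae]
  constructor
  · intro h K _ g₁ g₂ hg
    have h1 := @h K _ (Spec.map (CommRingCat.ofHom g₁)) (Spec.map (CommRingCat.ofHom g₂)) (by
      simp only [← Spec.map_comp, ← CommRingCat.ofHom_comp, hg])
    have h2 := Spec.map_injective h1
    exact congrArg CommRingCat.Hom.hom h2
  · intro h K _ g₁ g₂ hg
    rw [← Spec.map_preimage g₁, ← Spec.map_preimage g₂] at hg ⊢
    simp only [← Spec.map_comp] at hg
    have h2 := Spec.map_injective hg
    have h3 := h K (Spec.preimage g₁).hom (Spec.preimage g₂).hom (by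
      have := congrArg CommRingCat.Hom.hom h2
      simpa using this)
    congr 1
    exact CommRingCat.hom_ext h3

end SpecForms

section Descent

variable {A B' B : Type u} [CommRing A] [CommRing B'] [CommRing B]

/-- Extending a point with values in an algebraically closed field along an injective integral
ring map. -/
theorem exists_extension (ι : B' →+* B) (hι : Function.Injective ι) (hint : ι.IsIntegral)
    (Ω : Type u) [Field Ω] [IsAlgClosed Ω] (g : B' →+* Ω) :
    ∃ g' : B →+* Ω, g'.comp ι = g := by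
  obtain ⟨q, hq⟩ : ∃ q : PrimeSpectrum B', q.asIdeal = RingHom.ker g :=
    ⟨⟨_, RingHom.ker_isPrime g⟩, rfl⟩
  obtain ⟨Q, hQ⟩ := exists_over ι hι hint q
  let _ : Algebra B' B := ι.toAlgebra
  have : Algebra.IsIntegral B' B := ⟨hint⟩
  have : Q.asIdeal.LiesOver q.asIdeal := ⟨by ext x; exact hQ x⟩
  have hker : ∀ a ∈ q.asIdeal, g a = 0 := fun a ha => by rwa [hq] at ha
  let _ : Algebra (B' ⧸ q.asIdeal) Ω := (Ideal.Quotient.lift q.asIdeal g hker).toAlgebra
  have : FaithfulSMul (B' ⧸ q.asIdeal) (B ⧸ Q.asIdeal) := inferInstance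
  have : Module.IsTorsionFree (B' ⧸ q.asIdeal) (B ⧸ Q.asIdeal) :=
    FaithfulSMul.to_isTorsionFree _ _
  have : FaithfulSMul (B' ⧸ q.asIdeal) Ω := by
    rw [faithfulSMul_iff_algebraMap_injective]
    exact RingHom.lift_injective_of_ker_le_ideal q.asIdeal hker hq.ge
  have : Module.IsTorsionFree (B' ⧸ q.asIdeal) Ω := FaithfulSMul.to_isTorsionFree _ _
  let l : (B ⧸ Q.asIdeal) →ₐ[B' ⧸ q.asIdeal] Ω := IsAlgClosed.lift
  refine ⟨l.toRingHom.comp (Ideal.Quotient.mk Q.asIdeal), ?_⟩
  ext b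
  have e : Ideal.Quotient.mk Q.asIdeal (ι b) =
      algebraMap (B' ⧸ q.asIdeal) (B ⧸ Q.asIdeal) (Ideal.Quotient.mk q.asIdeal b) := rfl
  simp only [RingHom.comp_apply]
  rw [e]
  change l (algebraMap (B' ⧸ q.asIdeal) (B ⧸ Q.asIdeal) (Ideal.Quotient.mk q.asIdeal b)) = _
  rw [AlgHom.commutes]
  rfl

theorem radicial_of_comp (ψ1 : A →+* B') (ι : B' →+* B) (hι : Function.Injective ι)
    (hint : ι.IsIntegral) (h : Radicial (ι.comp ψ1)) : Radicial ψ1 := by
  intro K _ g₁ g₂ hg
  let j : K →+* AlgebraicClosure K := algebraMap K (AlgebraicClosure K)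
  obtain ⟨g₁', h₁⟩ := exists_extension ι hι hint (AlgebraicClosure K) (j.comp g₁)
  obtain ⟨g₂', h₂⟩ := exists_extension ι hι hint (AlgebraicClosure K) (j.comp g₂)
  have h12 : g₁' = g₂' := h _ g₁' g₂' (by
    rw [← RingHom.comp_assoc, ← RingHom.comp_assoc, h₁, h₂, RingHom.comp_assoc,
      RingHom.comp_assoc, hg])
  have h3 : j.comp g₁ = j.comp g₂ := by rw [← h₁, ← h₂, h12]
  ext b
  exact j.injective (RingHom.congr_fun h3 b)

theorem isIntegral_of_comp (ψ1 : A →+* B') (ι : B' →+* B) (hι : Function.Injective ι)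
    (h : (ι.comp ψ1).IsIntegral) : ψ1.IsIntegral := by
  intro b
  obtain ⟨P, hP, hPb⟩ := h (ι b)
  refine ⟨P, hP, hι ?_⟩
  rw [map_zero, ← hPb, Polynomial.hom_eval₂]

theorem rftriv_of_comp (ψ1 : A →+* B') (ι : B' →+* B) (hι : Function.Injective ι)
    (hint : ι.IsIntegral) (h : RFTriv (ι.comp ψ1)) : RFTriv ψ1 := by
  intro q c
  obtain ⟨Q, hQ⟩ := exists_over ι hι hint q
  obtain ⟨a, s, hs, hsa⟩ := h Q (ι c)
  refine ⟨a, s, fun hmem => hs ((hQ _).mp hmem), (hQ _).mpr ?_⟩
  rw [map_sub, map_mul]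
  exact hsa

theorem uhom_of_comp (ψ1 : A →+* B') (ι : B' →+* B) (hι : Function.Injective ι)
    (h : UHom (ι.comp ψ1)) : UHom ψ1 := by
  have hint : ι.IsIntegral := RingHom.IsIntegral.tower_top ψ1 ι h.1
  refine ⟨isIntegral_of_comp ψ1 ι hι h.1, ?_, radicial_of_comp ψ1 ι hι hint h.2.2⟩
  intro p
  obtain ⟨Q, hQ⟩ := h.2.1 p
  exact ⟨PrimeSpectrum.comap ι Q, by rw [← hQ]; rfl⟩

end Descent

end Groth.Agent.Helper11.UH
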