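import Mathlib

set_option autoImplicit false

universe u

open CategoryTheory CategoryTheory.Limits MonoidalCategory CartesianMonoidalCategory MonObj GrpObj
  AlgebraicGeometry

namespace Groth.Agent.Helper11.UnitFibre

/-- Base change (via `Over.pullback φ`) of a morphism of `S`-schemes whose underlying morphism is
an open immersion is again an open immersion. -/
theorem isOpenImmersion_pullback_map_left {S T : Scheme.{u}} (φ : T ⟶ S) {A B : Over S}
    (k : A ⟶ B) (hk : IsOpenImmersion k.left) :
    IsOpenImmersion ((Over.pullback φ).map k).left := by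
  have e : ((Over.pullback φ).map k).left =
      pullback.map A.hom φ B.hom φ k.left (𝟙 T) (𝟙 S) (by simp) (by simp) := by
    apply pullback.hom_ext
    · exact (pullback.lift_fst _ _ _).trans (pullback.lift_fst _ _ _).symm
    · exact (pullback.lift_snd _ _ _).trans
        ((Category.comp_id _).symm.trans (pullback.lift_snd _ _ _).symm)
  rw [e]
  infer_instance

theorem unit_fibre {S : Scheme.{u}} (G : Over S) [GrpObj G] (h : IsOpenImmersion η[G].left)
    {T : Scheme.{u}} (φ : T ⟶ S) :
    letI : GrpObj ((Over.pullback φ).obj G) := Functor.grpObjObj (F := Over.pullback φ) (G := G)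
    IsOpenImmersion η[(Over.pullback φ).obj G].left := by
  let _ : GrpObj ((Over.pullback φ).obj G) := Functor.grpObjObj (F := Over.pullback φ) (G := G)
  show IsOpenImmersion (Functor.LaxMonoidal.ε (Over.pullback φ) ≫ (Over.pullback φ).map η[G]).left
  rw [Over.comp_left]
  have h1 : IsIso (Functor.LaxMonoidal.ε (Over.pullback φ)).left :=
    (Over.forget T).map_isIso (Functor.LaxMonoidal.ε (Over.pullback φ))
  have h2 : IsOpenImmersion ((Over.pullback φ).map η[G]).left :=
    isOpenImmersion_pullback_map_left φ η[G] h
  infer_instance

end Groth.Agent.Helper11.UnitFibre
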