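/-
Universally injective maps and character modules (helper11).
-/
import Mathlib.Algebra.Module.CharacterModule
import Mathlib.LinearAlgebra.TensorProduct.Basic

set_option autoImplicit false

namespace Groth.Agent.Helper11

open TensorProduct

universe u

variable {R : Type*} [CommRing R]

/-- Swap the two arguments of a map into a character module. -/
def swapChar {A B : Type*} [AddCommGroup A] [Module R A] [AddCommGroup B] [Module R B]
    (φ : A →ₗ[R] CharacterModule B) : B →ₗ[R] CharacterModule A where
  toFun b :=
    { toFun := fun a => φ a b
      map_zero' := by rw [map_zero]; rfl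
      map_add' := fun a a' => by
        rw [map_add]
        rfl }
  map_add' b b' := by
    ext a
    exact (φ a).map_add b b'
  map_smul' r b := by
    ext a
    show φ a (r • b) = φ (r • a) b
    rw [LinearMap.map_smul φ r a]
    rfl

@[simp] theorem swapChar_apply {A B : Type*} [AddCommGroup A] [Module R A] [AddCommGroup B]
    [Module R B] (φ : A →ₗ[R] CharacterModule B) (b : B) (a : A) : swapChar φ b a = φ a b := rfl

theorem univInj_iff_dual_split {R : Type u} [CommRing R] {M N : Type u}
    [AddCommGroup M] [Module R M] [AddCommGroup N] [Module R N] (f : M →ₗ[R] N) :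
    (∀ (P : Type u) [AddCommGroup P] [Module R P], Function.Injective (f.lTensor P)) ↔
      ∃ g : CharacterModule M →ₗ[R] CharacterModule N,
        (CharacterModule.dual f).comp g = LinearMap.id := by
  constructor
  · intro h
    have h1 := h (CharacterModule M)
    rw [LinearMap.lTensor_inj_iff_rTensor_inj, rTensor_injective_iff_lcomp_surjective] at h1
    obtain ⟨k, hk⟩ := h1 (swapChar (LinearMap.id : CharacterModule M →ₗ[R] CharacterModule M))
    refine ⟨swapChar k, ?_⟩
    ext c m
    have := congrArg (fun φ : M →ₗ[R] CharacterModule (CharacterModule M) => φ m c) hk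
    change k (f m) c = c m
    exact this
  · rintro ⟨g, hg⟩ P _ _
    rw [LinearMap.lTensor_inj_iff_rTensor_inj, rTensor_injective_iff_lcomp_surjective]
    intro φ
    refine ⟨swapChar (g ∘ₗ swapChar φ), ?_⟩
    ext m p
    have := congrArg (fun ψ : CharacterModule M →ₗ[R] CharacterModule M => ψ (swapChar φ p) m) hg
    change g (swapChar φ p) (f m) = φ m p
    exact this

end Groth.Agent.Helper11
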