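import Groth.Agent.Lib.Helper11.TorAmp9
import Groth.Agent.Lib.Helper3.DiagFlat

/-!
# Weak dimension ascends along weakly étale maps (helper11)
-/

set_option autoImplicit false
universe u

open CategoryTheory Limits DerivedCategory Pretriangulated MonoidalCategory

attribute [local instance] HasDerivedCategory.standard

namespace Groth.Agent.Helper11.TA

open Groth.Agent.Helper11.DC

variable {A B : Type u} [CommRing A] [CommRing B] [Algebra A B]

/-- flatness over `B` of a cokernel, from flatness over `A` of the restricted cokernel, when the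
diagonal of `A → B` is flat. -/
theorem flat_quot_of_restrict {X Y : ModuleCat.{u} B} (f : X ⟶ Y)
    (h : Module.Flat A (↑((ModuleCat.restrictScalars (algebraMap A B)).obj Y) ⧸
      LinearMap.range ((ModuleCat.restrictScalars (algebraMap A B)).map f).hom))
    (hd : (Algebra.TensorProduct.lmul' A (S := B)).Flat) :
    Module.Flat B (Y ⧸ LinearMap.range f.hom) := by
  letI : Module A Y := Module.compHom Y (algebraMap A B)
  haveI : IsScalarTower A B Y := ⟨fun r a m => by
    rw [Algebra.smul_def, mul_smul]; rfl⟩
  have heq : (LinearMap.range ((ModuleCat.restrictScalars (algebraMap A B)).map f).hom :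
      Submodule A Y) = (LinearMap.range f.hom).restrictScalars A := by
    ext y
    rfl
  have e1 := Submodule.quotEquivOfEq _ _ heq
  have e2 := Submodule.Quotient.restrictScalarsEquiv A (LinearMap.range f.hom)
  haveI h' : Module.Flat A (Y ⧸ (LinearMap.range
      ((ModuleCat.restrictScalars (algebraMap A B)).map f).hom : Submodule A Y)) := h
  haveI : Module.Flat A (Y ⧸ LinearMap.range f.hom) :=
    Module.Flat.of_linearEquiv (e1.trans e2).symm
  exact Groth.Agent.Helper3.DiagFlat.flat_of_flat_lmul' A B _ hd

theorem hasTorAmplitudeIn_single_of_weaklyEtale [Algebra.WeaklyEtale A B] (d : ℕ)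
    (hA : ∀ (M : ModuleCat.{u} A),
      TorVan (-(d : ℤ)) 0 ((singleFunctor (ModuleCat.{u} A) 0).obj M))
    (N : ModuleCat.{u} B) :
    DRing.HasTorAmplitudeIn B (-(d : ℤ)) 0 ((singleFunctor (ModuleCat.{u} B) 0).obj N) := by
  obtain ⟨h1, h2, ⟨e⟩⟩ := projRes_spec N
  generalize (projectiveResolution N).cochainComplex = P at h1 h2 e
  obtain ⟨a, ha⟩ : ∃ a : ℤ, a = -(d : ℤ) := ⟨_, rfl⟩
  rw [← ha]
  have ha0 : a ≤ 0 := by omega
  let E' : DRing.Cx A :=
    ((ModuleCat.restrictScalars (algebraMap A B)).mapHomologicalComplex (ComplexShape.up ℤ)).obj P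
  have hE'1 : DRing.VanishesAbove E' 0 := fun i hi =>
    (ModuleCat.restrictScalars (algebraMap A B)).map_isZero (h1 i hi)
  have hPf : ∀ i, Module.Flat B (P.X i) := fun i => by
    haveI := h2 i
    infer_instance
  have hE'f : ∀ i, Module.Flat A (E'.X i) := by
    intro i
    haveI := hPf i
    letI : Module A (P.X i) := Module.compHom (P.X i) (algebraMap A B)
    haveI : IsScalarTower A B (P.X i) := ⟨fun r a m => by
      rw [Algebra.smul_def, mul_smul]; rfl⟩
    have : Module.Flat A (P.X i) := Module.Flat.trans A B (P.X i)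
    exact this
  have iso : Q.obj E' ≅ (singleFunctor (ModuleCat.{u} A) 0).obj
      ((ModuleCat.restrictScalars (algebraMap A B)).obj N) :=
    ((ModuleCat.restrictScalars (algebraMap A B)).mapDerivedCategoryFactors.app P).symm ≪≫
      (DRing.restrictD (algebraMap A B)).mapIso e ≪≫
      ((ModuleCat.restrictScalars.{u} (algebraMap A B)).mapDerivedCategorySingleFunctor 0).app N
  have hv : TorVanCx a 0 E' := by
    rw [ha]
    exact torVanCx_of_torVan (hA _) E' 0 hE'1 hE'f iso
  have hq := flat_coker_of_torVanCx E' hE'f hv
  have hqB : Module.Flat B (P.X a ⧸ LinearMap.range (P.d (a - 1) a).hom) :=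
    flat_quot_of_restrict (P.d (a - 1) a) hq (Algebra.WeaklyEtale.flat_lmul' A B)
  have hGE : P.IsGE a := by
    rw [CochainComplex.isGE_iff]
    intro i hi
    apply exactAt_of_homology_isZero P i
    refine IsZero.of_iso ?_ ((homologyFunctor (ModuleCat.{u} B) i).mapIso e)
    exact DerivedCategory.isZero_of_isGE _ 0 i (by omega)
  haveI : QuasiIso (CochainComplex.πTruncGE P a) :=
    (CochainComplex.quasiIso_πTruncGE_iff P a).mpr hGE
  haveI : IsIso (Q.map (CochainComplex.πTruncGE P a)) := by
    rw [isIso_Q_map_iff_quasiIso]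
    infer_instance
  refine ⟨CochainComplex.truncGE P a, ?_, ?_,
    ⟨(asIso (Q.map (CochainComplex.πTruncGE P a))).symm ≪≫ e⟩⟩
  · intro i hi
    by_cases hia : i < a
    · exact CochainComplex.isZero_of_isStrictlyGE _ a i hia
    · have hbi : 0 < i := by omega
      have hia' : a < i := by omega
      exact IsZero.of_iso (h1 i hbi) (CochainComplex.truncGEXIso P a i hia')
  · intro i
    by_cases hia : i < a
    · have hz : IsZero ((CochainComplex.truncGE P a).X i) :=
        CochainComplex.isZero_of_isStrictlyGE _ a i hia
      haveI : Subsingleton ((CochainComplex.truncGE P a).X i) :=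
        ModuleCat.subsingleton_of_isZero hz
      infer_instance
    · by_cases hia' : a < i
      · haveI := hPf i
        exact Module.Flat.of_linearEquiv (CochainComplex.truncGEXIso P a i hia').toLinearEquiv
      · obtain rfl : i = a := by omega
        haveI := hqB
        exact Module.Flat.of_linearEquiv (truncGEXIsoQuot P i).toLinearEquiv

end Groth.Agent.Helper11.TA
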